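import Mathlib
import Cfsg.Agent.Lib.Blocks.Covering
import Cfsg.Agent.Lib.Char.Values

/-!
# Kernels of blocks and inflation
-/

set_option autoImplicit false

namespace Cfsg.Agent.Lib.Blocks.Kernel

open Cfsg Cfsg.Agent.Lib.Blocks.Local Cfsg.Agent.Lib.Blocks.Central Cfsg.Agent.Lib.Blocks.Osima
  Cfsg.Agent.Lib.Blocks.Covering
open scoped ComplexConjugate

universe u

section Ker

variable {G : Type u} [Group G] [Finite G]

/-- The kernel of a representation character is a normal subgroup. -/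
lemma exists_ker_of_irr {χ : G → ℂ} (hχ : IsIrrCharacter G χ) :
    ∃ K : Subgroup G, K.Normal ∧ ∀ g, g ∈ K ↔ χ g = χ 1 := by
  obtain ⟨n, ρ, hρ, rfl⟩ := hχ
  refine ⟨ρ.ker, inferInstance, fun g => ?_⟩
  rw [MonoidHom.mem_ker, Representation.char_one,
    Cfsg.Agent.Lib.Char.Values.character_eq_finrank_iff]
  rfl

/-- The kernel of a set of irreducible characters, as a subgroup. -/
def blockKerSubgroup (B : Set (IrrCharacter G)) : Subgroup G where
  carrier := blockKer B
  one_mem' := fun _ _ => rfl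
  mul_mem' := by
    intro a b ha hb χ hχ
    obtain ⟨K, -, hK⟩ := exists_ker_of_irr χ.2
    exact (hK _).1 (K.mul_mem ((hK a).2 (ha χ hχ)) ((hK b).2 (hb χ hχ)))
  inv_mem' := by
    intro a ha χ hχ
    obtain ⟨K, -, hK⟩ := exists_ker_of_irr χ.2
    exact (hK _).1 (K.inv_mem ((hK a).2 (ha χ hχ)))

lemma mem_blockKerSubgroup {B : Set (IrrCharacter G)} {g : G} :
    g ∈ blockKerSubgroup B ↔ ∀ χ ∈ B, (χ : G → ℂ) g = (χ : G → ℂ) 1 := Iff.rfl

instance normal_blockKerSubgroup (B : Set (IrrCharacter G)) : (blockKerSubgroup B).Normal where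
  conj_mem := by
    intro a ha g χ hχ
    haveI := Fintype.ofFinite G
    rw [isClassFunction_of_irr χ.2]
    exact ha χ hχ

/-- The sum of the squares of the degrees is nonzero. -/
lemma blockCoeff_ne_zero_of_mem_blockKer [Fintype G] {B : Set (IrrCharacter G)} {χ : IrrCharacter G}
    (hχ : χ ∈ B) {x : G} (hx : x ∈ blockKerSubgroup B) : blockCoeff B x ≠ 0 := by
  classical
  rw [blockCoeff_eq_sum]
  refine mul_ne_zero (inv_ne_zero (Nat.cast_ne_zero.2 Nat.card_pos.ne')) ?_
  have key : ∀ S : Finset (IrrCharacter G), (∀ ψ ∈ S, ψ ∈ B) → χ ∈ S →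
      ∑ ψ ∈ S, (ψ : G → ℂ) 1 * conj ((ψ : G → ℂ) x) ≠ 0 := by
    intro S hS hχS
    have h1 : ∀ ψ ∈ S, (ψ : G → ℂ) 1 * conj ((ψ : G → ℂ) x) =
        ((Complex.normSq ((ψ : G → ℂ) 1) : ℝ) : ℂ) := by
      intro ψ hψ
      rw [hx ψ (hS ψ hψ), Complex.mul_conj]
    rw [Finset.sum_congr rfl h1, ← Complex.ofReal_sum]
    rw [Complex.ofReal_ne_zero]
    apply ne_of_gt
    refine Finset.sum_pos' (fun ψ _ => Complex.normSq_nonneg _) ⟨χ, hχS, ?_⟩
    exact Complex.normSq_pos.2 (Cfsg.Agent.Lib.Char.Ortho.irr_apply_one_ne_zero χ.2)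
  exact key _ (fun ψ h => (Finset.mem_filter.1 h).2) (Finset.mem_filter.2 ⟨Finset.mem_univ _, hχ⟩)

/-- The kernel of a block has order prime to `p`. -/
theorem not_dvd_card_blockKerSubgroup [Fintype G] {p : ℕ} [Fact p.Prime] {M : Ideal AlgInt}
    [M.IsPrime] (hM : IsPModular p M) {B : Set (IrrCharacter G)} (hB : IsPBlock M B)
    {χ : IrrCharacter G} (hχ : χ ∈ B) : ¬ p ∣ Nat.card (blockKerSubgroup B) := by
  intro hd
  obtain ⟨x, hx⟩ := exists_prime_orderOf_dvd_card' p hd
  have h1 : p ∣ orderOf ((x : blockKerSubgroup B) : G) := by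
    rw [Subgroup.orderOf_coe, hx]
  exact blockCoeff_ne_zero_of_mem_blockKer hχ x.2 (blockCoeff_eq_zero_of_dvd hM hB h1)

end Ker

section Inflation

variable {G : Type u} [Group G] (N : Subgroup G) [hN : N.Normal]

/-- An irreducible character which is trivial on `N` is inflated from `G/N`. -/
theorem exists_irr_of_kernel [Finite G] {ψ : G → ℂ} (hψ : IsIrrCharacter G ψ)
    (h : ∀ n ∈ N, ψ n = ψ 1) :
    ∃ ψ' : IrrCharacter (G ⧸ N), ψ = (ψ' : G ⧸ N → ℂ) ∘ QuotientGroup.mk := by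
  obtain ⟨d, ρ, hρ, rfl⟩ := hψ
  have hker : ∀ x ∈ N, ρ x = 1 := by
    intro x hx
    have := h x hx
    rw [Representation.char_one, Cfsg.Agent.Lib.Char.Values.character_eq_finrank_iff] at this
    exact this
  let ρ' : Representation ℂ (G ⧸ N) (Fin d → ℂ) := QuotientGroup.lift N ρ hker
  have hcomp : ∀ g : G, ρ' (g : G ⧸ N) = ρ g := fun g => rfl
  have hirr : ρ'.IsIrreducible := by
    let Φ : Subrepresentation ρ ≃o Subrepresentation ρ' :=
      { toFun := fun S => ⟨S.toSubmodule, fun c v hv => by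
          obtain ⟨g, rfl⟩ := QuotientGroup.mk_surjective c
          rw [hcomp]
          exact S.apply_mem_toSubmodule g hv⟩
        invFun := fun S => ⟨S.toSubmodule, fun g v hv => by
          rw [← hcomp]
          exact S.apply_mem_toSubmodule (g : G ⧸ N) hv⟩
        left_inv := fun S => rfl
        right_inv := fun S => rfl
        map_rel_iff' := Iff.rfl }
    exact (OrderIso.isSimpleOrder_iff Φ).1 hρ
  refine ⟨⟨ρ'.character, d, ρ', hirr, rfl⟩, ?_⟩
  funext g
  rfl

variable [Fintype G] [Fintype (G ⧸ N)]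

/-- Sum over `G` of a function pulled back from `G/N`. -/
lemma sum_comp_mk (F : G ⧸ N → ℂ) :
    ∑ g : G, F (g : G ⧸ N) = (Nat.card N : ℂ) * ∑ c : G ⧸ N, F c := by
  classical
  have h1 := Finset.sum_fiberwise (Finset.univ : Finset G) (fun g : G => (g : G ⧸ N))
    (fun g => F (g : G ⧸ N))
  rw [← h1, Finset.mul_sum]
  refine Finset.sum_congr rfl fun c _ => ?_
  have h2 : ∀ g ∈ Finset.univ.filter (fun g : G => (g : G ⧸ N) = c), F (g : G ⧸ N) = F c := by
    intro g hg
    rw [(Finset.mem_filter.1 hg).2]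
  rw [Finset.sum_congr rfl h2, Finset.sum_const, nsmul_eq_mul]
  congr 2
  obtain ⟨g₀, rfl⟩ := QuotientGroup.mk_surjective c
  rw [← Nat.card_eq_finsetCard]
  refine Nat.card_congr ?_
  refine
    { toFun := fun x => ⟨g₀⁻¹ * x.1, ?_⟩
      invFun := fun n => ⟨g₀ * n.1, ?_⟩
      left_inv := fun x => by simp
      right_inv := fun n => by simp }
  · have := (Finset.mem_filter.1 x.2).2
    exact QuotientGroup.eq.1 this.symm
  · refine Finset.mem_filter.2 ⟨Finset.mem_univ _, ?_⟩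
    exact (QuotientGroup.eq.2 (by simp)).symm

/-- The inflation of an element of `ℂ[G/N]` to `ℂ[G]`. -/
noncomputable def inflate (a : MonoidAlgebra ℂ (G ⧸ N)) : MonoidAlgebra ℂ G :=
  ofFun (fun g => (Nat.card N : ℂ)⁻¹ * a.coeff (g : G ⧸ N))

lemma omega_inflate (η : G ⧸ N → ℂ) (a : MonoidAlgebra ℂ (G ⧸ N)) :
    omega (η ∘ QuotientGroup.mk) (inflate N a) = omega η a := by
  rw [inflate, omega_ofFun, omega]
  simp only [Function.comp_apply, QuotientGroup.mk_one]
  congr 1
  have h1 := sum_comp_mk N (fun c => a.coeff c * η c)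
  have h2 : ∑ g : G, (Nat.card N : ℂ)⁻¹ * a.coeff (g : G ⧸ N) * η (g : G ⧸ N) =
      (Nat.card N : ℂ)⁻¹ * ∑ g : G, a.coeff (g : G ⧸ N) * η (g : G ⧸ N) := by
    rw [Finset.mul_sum]
    refine Finset.sum_congr rfl fun g _ => ?_
    ring
  rw [h2, h1, ← mul_assoc, inv_mul_cancel₀ (Nat.cast_ne_zero.2 Nat.card_pos.ne'), one_mul]

lemma inflate_mem_localCenter {p : ℕ} {M : Ideal AlgInt} [M.IsPrime] (hMp : IsPModular p M)
    (hp : ¬ p ∣ Nat.card N) {a : MonoidAlgebra ℂ (G ⧸ N)} (ha : a ∈ localCenter (G ⧸ N) M) :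
    inflate N a ∈ localCenter G M := by
  refine ⟨fun x g => ?_, fun g => ?_⟩
  · simp only [inflate, coeff_ofFun]
    congr 1
    have := ha.1 (x : G ⧸ N) (g : G ⧸ N)
    exact this
  · simp only [inflate, coeff_ofFun]
    exact memLocalRing_mul (memLocalRing_inv_natCast hMp hp) (ha.2 _)

/-- If the inflations of two irreducible characters of `G/N` are in the same block, then so are the
characters themselves. -/
theorem sameBlock_of_inflation {p : ℕ} {M : Ideal AlgInt} [M.IsPrime] (hMp : IsPModular p M)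
    (hp : ¬ p ∣ Nat.card N) {χ ψ : G ⧸ N → ℂ} (hχ : IsIrrCharacter (G ⧸ N) χ)
    (hψ : IsIrrCharacter (G ⧸ N) ψ)
    (h : SameBlock M (χ ∘ QuotientGroup.mk) (ψ ∘ QuotientGroup.mk)) : SameBlock M χ ψ := by
  intro c
  have h1 := memLocalIdeal_omega_sub
    (Cfsg.Agent.Lib.Char.Basic.isIrrCharacter_comp_surjective hχ (QuotientGroup.mk' N)
      (QuotientGroup.mk'_surjective N))
    (Cfsg.Agent.Lib.Char.Basic.isIrrCharacter_comp_surjective hψ (QuotientGroup.mk' N)
      (QuotientGroup.mk'_surjective N)) h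
    (inflate_mem_localCenter N hMp hp (classSum_mem_localCenter (M := M) c))
  have e1 := omega_inflate N χ (classSum c)
  have e2 := omega_inflate N ψ (classSum c)
  rw [omega_classSum (isClassFunction_of_irr hχ)] at e1
  rw [omega_classSum (isClassFunction_of_irr hψ)] at e2
  rw [← e1, ← e2]
  exact h1

end Inflation

end Cfsg.Agent.Lib.Blocks.Kernel
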