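import Mathlib
import Cfsg.Prelude.Def_Blocks
import Cfsg.Agent.Lib.Blocks.Sections
import Cfsg.Agent.Lib.Blocks.HeightZero
import Cfsg.Agent.Lib.Blocks.Defect
import Cfsg.Agent.S0912

/-!
# Laradji's theorem on central defect groups

`D` a central `p`-subgroup, `χ` irreducible with `ν(χ 1) ≥ ν|G : D|`.
`laradji_vanish`: `χ g = 0` if the `p`-part of `g` is not in `D`.
-/

set_option autoImplicit false

namespace Cfsg.Agent.Lib.Blocks.Laradji

open Cfsg Cfsg.Agent.Lib.Blocks.Local Cfsg.Agent.Lib.Blocks.Central Cfsg.Agent.Lib.Blocks.Osima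
  Cfsg.Agent.Lib.Blocks.Twisted Cfsg.Agent.Lib.Blocks.Necklace
open scoped ComplexConjugate

universe u

variable {G : Type u} [Group G] [Fintype G] {M : Ideal AlgInt} [hMp : M.IsPrime] {p : ℕ} [hp : Fact p.Prime]

section Lam

lemma omega_single (χ : G → ℂ) (x : G) (c : ℂ) :
    omega χ (MonoidAlgebra.single x c) = c * χ x / χ 1 := by
  classical
  unfold omega
  congr 1
  rw [Finset.sum_eq_single x]
  · simp
  · intro y _ hy
    simp [MonoidAlgebra.coeff_single, Ne.symm hy]
  · simp

lemma isClassFunction_single_of_central {d : G} (hd : d ∈ Subgroup.center G) (c : ℂ) :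
    IsClassFunction G (MonoidAlgebra.single d c : MonoidAlgebra ℂ G).coeff := by
  classical
  intro g x
  have hc : ∀ y : G, y * d = d * y := fun y => (Subgroup.mem_center_iff.mp hd y)
  by_cases hg : g = d
  · subst hg
    have : x * g * x⁻¹ = g := by rw [hc x]; group
    rw [this]
  · have hne : x * g * x⁻¹ ≠ d := by
      intro h
      apply hg
      have h1 : g = x⁻¹ * (x * g * x⁻¹) * x := by group
      rw [h1, h, hc x⁻¹]
      group
    simp [MonoidAlgebra.coeff_single, Ne.symm hg, Ne.symm hne]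

/-- The central character at a central element. -/
noncomputable def lam (χ : G → ℂ) (d : G) : ℂ := χ d / χ 1

/-- Central elements act through `lam`. -/
theorem irr_mul_central {χ : G → ℂ} (hχ : IsIrrCharacter G χ) {d : G} (hd : d ∈ Subgroup.center G) (g : G) :
    χ (d * g) = lam χ d * χ g := by
  have h0 := Cfsg.Agent.Lib.Char.Ortho.irr_apply_one_ne_zero hχ
  have h1 := omega_mul hχ (isClassFunction_single_of_central hd 1) (MonoidAlgebra.single g 1)
  rw [MonoidAlgebra.single_mul_single, omega_single, omega_single, omega_single, mul_one] at h1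
  simp only [one_mul] at h1
  rw [lam]
  field_simp at h1 ⊢
  linear_combination h1

lemma lam_one {χ : G → ℂ} (hχ : IsIrrCharacter G χ) : lam χ 1 = 1 :=
  div_self (Cfsg.Agent.Lib.Char.Ortho.irr_apply_one_ne_zero hχ)

lemma lam_mul {χ : G → ℂ} (hχ : IsIrrCharacter G χ) {d : G} (hd : d ∈ Subgroup.center G) (e : G) :
    lam χ (d * e) = lam χ d * lam χ e := by
  unfold lam
  rw [irr_mul_central hχ hd, lam, mul_div_assoc]

lemma lam_inv_mul {χ : G → ℂ} (hχ : IsIrrCharacter G χ) {d : G} (hd : d ∈ Subgroup.center G) :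
    lam χ d⁻¹ * lam χ d = 1 := by
  rw [← lam_mul hχ (Subgroup.inv_mem _ hd), inv_mul_cancel, lam_one hχ]

lemma lam_pow {χ : G → ℂ} (hχ : IsIrrCharacter G χ) {d : G} (hd : d ∈ Subgroup.center G) (n : ℕ) :
    lam χ (d ^ n) = lam χ d ^ n := by
  induction n with
  | zero => simp [lam_one hχ]
  | succ n ih => rw [pow_succ, lam_mul hχ (Subgroup.pow_mem _ hd n), ih, pow_succ]

lemma memLocalRing_lam {χ : G → ℂ} (hχ : IsIrrCharacter G χ) {d : G} (hd : d ∈ Subgroup.center G) :
    MemLocalRing M (lam χ d) := by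
  have h1 : lam χ d ^ orderOf d = 1 := by
    rw [← lam_pow hχ hd, pow_orderOf_eq_one, lam_one hχ]
  exact Cfsg.Agent.Lib.Blocks.HeightZero.memLocalRing_of_pow_eq_one (orderOf_pos d) h1

end Lam

section Setup

variable (D : Subgroup G) [Fintype D] (χ : G → ℂ)

open Classical in
/-- The central idempotent of `ℂ[D]` attached to `lam`. -/
noncomputable def fLam : MonoidAlgebra ℂ G :=
  ofFun fun g => if g ∈ D then lam χ g⁻¹ / (Nat.card D : ℂ) else 0

open Classical in
lemma coeff_fLam (g : G) :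
    (fLam D χ).coeff g = if g ∈ D then lam χ g⁻¹ / (Nat.card D : ℂ) else 0 := by
  simp [fLam]

/-- The twisted trace (at `1`) is unchanged by multiplication with `fLam` on semi-invariant functions. -/
theorem trace_mul_fLam {χ : G → ℂ} (hχ : IsIrrCharacter G χ) {D : Subgroup G} [Fintype D]
    (hDZ : D ≤ Subgroup.center G) {ϑ : G → ℂ} (hϑ : ∀ d ∈ D, ∀ g, ϑ (g * d) = lam χ d * ϑ g)
    (a : MonoidAlgebra ℂ G) :
    ∑ g, (a * fLam D χ).coeff g * ϑ g = ∑ g, a.coeff g * ϑ g := by
  classical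
  have hD0 : (Nat.card D : ℂ) ≠ 0 := Nat.cast_ne_zero.mpr Nat.card_pos.ne'
  simp only [coeff_mul_eq_sum, Finset.sum_mul]
  rw [Finset.sum_comm]
  refine Finset.sum_congr rfl fun x _ => ?_
  -- sum over `g = x d`
  rw [← Equiv.sum_comp (Equiv.mulLeft x)]
  simp only [Equiv.coe_mulLeft, inv_mul_cancel_left, coeff_fLam]
  have h1 : ∀ d : G, a.coeff x * (if d ∈ D then lam χ d⁻¹ / (Nat.card D : ℂ) else 0) * ϑ (x * d) =
      if d ∈ D then a.coeff x * ϑ x / (Nat.card D : ℂ) else 0 := by
    intro d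
    by_cases hd : d ∈ D
    · rw [if_pos hd, if_pos hd, hϑ d hd]
      have := lam_inv_mul hχ (hDZ hd)
      field_simp
      linear_combination (a.coeff x * ϑ x) * this
    · rw [if_neg hd, if_neg hd]
      simp
  simp only [h1]
  rw [← Finset.sum_filter, Finset.sum_const, nsmul_eq_mul]
  have hcard : (Finset.univ.filter (· ∈ D)).card = Nat.card D := by
    rw [Nat.card_eq_fintype_card, Fintype.card_subtype]
  rw [hcard]
  field_simp

lemma fLam_mul_self {χ : G → ℂ} (hχ : IsIrrCharacter G χ) {D : Subgroup G} [Fintype D]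
    (hDZ : D ≤ Subgroup.center G) : fLam D χ * fLam D χ = fLam D χ := by
  classical
  have hD0 : (Nat.card D : ℂ) ≠ 0 := Nat.cast_ne_zero.mpr Nat.card_pos.ne'
  apply ext_coeff
  intro g
  rw [coeff_mul_eq_sum]
  simp only [coeff_fLam]
  by_cases hg : g ∈ D
  · rw [if_pos hg]
    have h1 : ∀ x : G, (if x ∈ D then lam χ x⁻¹ / (Nat.card D : ℂ) else 0) *
        (if x⁻¹ * g ∈ D then lam χ (x⁻¹ * g)⁻¹ / (Nat.card D : ℂ) else 0) =
        if x ∈ D then lam χ g⁻¹ / (Nat.card D : ℂ) ^ 2 else 0 := by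
      intro x
      by_cases hx : x ∈ D
      · have hxg : x⁻¹ * g ∈ D := D.mul_mem (D.inv_mem hx) hg
        rw [if_pos hx, if_pos hxg, if_pos hx]
        have h2 : lam χ x⁻¹ * lam χ (x⁻¹ * g)⁻¹ = lam χ g⁻¹ := by
          rw [← lam_mul hχ (Subgroup.inv_mem _ (hDZ hx))]
          congr 1
          have h3 := Subgroup.mem_center_iff.mp (hDZ hx) g⁻¹
          calc x⁻¹ * (x⁻¹ * g)⁻¹ = x⁻¹ * (g⁻¹ * x) := by group
            _ = g⁻¹ := by rw [h3]; group
        rw [← h2]
        field_simp
      · rw [if_neg hx, if_neg hx, zero_mul]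
    simp only [h1]
    rw [← Finset.sum_filter, Finset.sum_const, nsmul_eq_mul]
    have hcard : (Finset.univ.filter (· ∈ D)).card = Nat.card D := by
      rw [Nat.card_eq_fintype_card, Fintype.card_subtype]
    rw [hcard]
    field_simp
  · rw [if_neg hg]
    refine Finset.sum_eq_zero fun x _ => ?_
    by_cases hx : x ∈ D
    · have hxg : x⁻¹ * g ∉ D := fun h => hg (by
        have := D.mul_mem hx h
        simpa using this)
      rw [if_neg hxg, mul_zero]
    · rw [if_neg hx, zero_mul]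

lemma isClassFunction_fLam {χ : G → ℂ} {D : Subgroup G} [Fintype D] (hDZ : D ≤ Subgroup.center G) :
    IsClassFunction G (fLam D χ).coeff := by
  classical
  intro g x
  rw [coeff_fLam, coeff_fLam]
  by_cases hg : g ∈ D
  · have h1 : x * g * x⁻¹ = g := by
      rw [(Subgroup.mem_center_iff.mp (hDZ hg) x)]
      group
    rw [h1]
  · have h1 : x * g * x⁻¹ ∉ D := by
      intro h
      apply hg
      have h3 := Subgroup.mem_center_iff.mp (hDZ h) x⁻¹
      have h2 : g = x * g * x⁻¹ := by
        calc g = x⁻¹ * (x * g * x⁻¹) * x := by group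
          _ = (x * g * x⁻¹) * x⁻¹ * x := by rw [h3]
          _ = x * g * x⁻¹ := by group
      rw [h2]
      exact h
    rw [if_neg hg, if_neg h1]


variable {D : Subgroup G} [Fintype D] {χ : G → ℂ}

/-- The coefficient function `g ↦ u * χ g⁻¹`. -/
noncomputable def cee (D : Subgroup G) (χ : G → ℂ) (g : G) : ℂ :=
  χ 1 / (D.index : ℂ) * χ g⁻¹

open Classical in
/-- The element of the group algebra supported on a transversal. -/
noncomputable def wee (D : Subgroup G) (χ : G → ℂ) : MonoidAlgebra ℂ G := by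
  haveI : Fintype (G ⧸ D) := Fintype.ofFinite _
  exact ∑ q : G ⧸ D, MonoidAlgebra.single (Quotient.out q) (cee D χ (Quotient.out q))

lemma coeffIn_wee (hχ : IsIrrCharacter G χ) (hu : MemLocalRing M (χ 1 / (D.index : ℂ))) :
    CoeffIn (⊤ : Ideal (localRing M)) (wee D χ) := by
  classical
  rw [coeffIn_top_iff]
  intro g
  unfold wee
  rw [MonoidAlgebra.coeff_sum, Finsupp.finsetSum_apply]
  refine memLocalRing_sum _ _ fun q _ => ?_
  rw [MonoidAlgebra.coeff_single_apply]
  split_ifs
  · exact memLocalRing_mul hu (memLocalRing_of_isIntegral (isIntegral_irr hχ _))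
  · exact memLocalRing_zero

/-- `e_χ = w f`. -/
theorem wee_mul_fLam {χ : IrrCharacter G} (hDZ : D ≤ Subgroup.center G) :
    wee D (χ : G → ℂ) * fLam D (χ : G → ℂ) = blockElt {χ} := by
  classical
  haveI : Fintype (G ⧸ D) := Fintype.ofFinite _
  apply ext_coeff
  intro g
  rw [coeff_blockElt, blockCoeff, finsum_mem_singleton]
  have hD0 : (Nat.card D : ℂ) ≠ 0 := Nat.cast_ne_zero.mpr Nat.card_pos.ne'
  have hG0 : (Nat.card G : ℂ) ≠ 0 := Nat.cast_ne_zero.mpr Nat.card_pos.ne'
  have hi0 : (D.index : ℂ) ≠ 0 := Nat.cast_ne_zero.mpr Subgroup.index_ne_zero_of_finite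
  have hcard : (Nat.card G : ℂ) = (D.index : ℂ) * (Nat.card D : ℂ) := by
    rw [← Nat.cast_mul, Subgroup.index_mul_card]
  -- expand `w`
  unfold wee
  rw [Finset.sum_mul, MonoidAlgebra.coeff_sum, Finsupp.finsetSum_apply]
  have hterm : ∀ q : G ⧸ D, (MonoidAlgebra.single (Quotient.out q) (cee D (χ : G → ℂ) (Quotient.out q)) *
      fLam D (χ : G → ℂ)).coeff g =
      cee D (χ : G → ℂ) (Quotient.out q) * (fLam D (χ : G → ℂ)).coeff ((Quotient.out q)⁻¹ * g) := by
    intro q
    rw [coeff_mul_eq_sum, Finset.sum_eq_single (Quotient.out q)]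
    · simp
    · intro b _ hb
      simp [MonoidAlgebra.coeff_single, Ne.symm hb]
    · simp
  simp only [hterm, coeff_fLam]
  rw [Finset.sum_eq_single ((g : G) : G ⧸ D)]
  · have hmem : (Quotient.out ((g : G) : G ⧸ D))⁻¹ * g ∈ D := by
      have h1 : ((Quotient.out ((g : G) : G ⧸ D) : G) : G ⧸ D) = (g : G ⧸ D) := Quotient.out_eq' _
      exact QuotientGroup.eq.mp h1
    rw [if_pos hmem, cee]
    set t := Quotient.out ((g : G) : G ⧸ D) with ht
    have h2 : ((χ : G → ℂ)) g⁻¹ = lam (χ : G → ℂ) (t⁻¹ * g)⁻¹ * (χ : G → ℂ) t⁻¹ := by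
      have h3 := irr_mul_central χ.2 (Subgroup.inv_mem _ (hDZ hmem)) t⁻¹
      rw [← h3]
      congr 1
      group
    rw [← Cfsg.Agent.Lib.Char.Complete.isIrr_inv χ.2, h2, hcard]
    field_simp
  · intro q _ hq
    have hnot : (Quotient.out q)⁻¹ * g ∉ D := by
      intro hmem
      apply hq
      have h1 : ((Quotient.out q : G) : G ⧸ D) = (g : G ⧸ D) := QuotientGroup.eq.mpr hmem
      rw [← h1]
      exact (Quotient.out_eq' q).symm
    rw [if_neg hnot, mul_zero]
  · simp

/-- The semi-invariant class function attached to a class. -/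
noncomputable def thetaY (D : Subgroup G) [Fintype D] (χ : G → ℂ) (y : G) (g : G) : ℂ := by
  classical
  exact ∑ d : D, lam χ (d : G)⁻¹ * (if IsConj y (g * d) then 1 else 0)

lemma isClassFunction_thetaY (hDZ : D ≤ Subgroup.center G) (y : G) :
    IsClassFunction G (thetaY D χ y) := by
  classical
  intro g x
  unfold thetaY
  refine Finset.sum_congr rfl fun d _ => ?_
  congr 2
  have h1 : x * g * x⁻¹ * (d : G) = x * (g * d) * x⁻¹ := by
    have := Subgroup.mem_center_iff.mp (hDZ d.2) x⁻¹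
    calc x * g * x⁻¹ * (d : G) = x * g * (x⁻¹ * d) := by group
      _ = x * g * (d * x⁻¹) := by rw [this]
      _ = x * (g * d) * x⁻¹ := by group
  rw [h1]
  simp only [eq_iff_iff]
  constructor
  · intro h
    exact h.trans (isConj_iff.mpr ⟨x⁻¹, by group⟩)
  · intro h
    exact h.trans (isConj_iff.mpr ⟨x, rfl⟩)

lemma thetaY_mul (hχ : IsIrrCharacter G χ) (hDZ : D ≤ Subgroup.center G) (y : G) {d : G} (hd : d ∈ D) (g : G) :
    thetaY D χ y (g * d) = lam χ d * thetaY D χ y g := by
  classical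
  unfold thetaY
  rw [Finset.mul_sum]
  rw [← Equiv.sum_comp (Equiv.mulLeft (⟨d, hd⟩ : D)⁻¹)]
  refine Finset.sum_congr rfl fun e _ => ?_
  have h1 : g * d * (((Equiv.mulLeft (⟨d, hd⟩ : D)⁻¹) e : D) : G) = g * e := by
    simp
  rw [h1]
  have h2 : ((((Equiv.mulLeft (⟨d, hd⟩ : D)⁻¹) e : D) : G))⁻¹ = (d : G) * (e : G)⁻¹ := by
    have h3 := Subgroup.mem_center_iff.mp (hDZ hd) (e : G)⁻¹
    simpa using h3
  rw [h2, lam_mul hχ (hDZ hd), mul_assoc]

lemma memLocalRing_thetaY (hχ : IsIrrCharacter G χ) (hDZ : D ≤ Subgroup.center G) (y g : G) :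
    MemLocalRing M (thetaY D χ y g) := by
  classical
  unfold thetaY
  refine memLocalRing_sum _ _ fun d _ => memLocalRing_mul
    (memLocalRing_lam hχ (Subgroup.inv_mem _ (hDZ d.2))) ?_
  split_ifs
  · exact memLocalRing_one
  · exact memLocalRing_zero

open Classical in
/-- The value of the functional on `e_χ`. -/
theorem sum_blockElt_mul_thetaY {χ : IrrCharacter G} (hDZ : D ≤ Subgroup.center G) (y : G) :
    ∑ g, (blockElt {χ}).coeff g * thetaY D (χ : G → ℂ) y g =
      (Nat.card G : ℂ)⁻¹ * (χ : G → ℂ) 1 * (Nat.card D : ℂ) *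
        ((Finset.univ.filter fun k => IsConj y k).card : ℂ) * (χ : G → ℂ) y⁻¹ := by
  classical
  have hcoef : ∀ g, (blockElt {χ}).coeff g = (Nat.card G : ℂ)⁻¹ * (χ : G → ℂ) 1 * (χ : G → ℂ) g⁻¹ := by
    intro g
    rw [coeff_blockElt, blockCoeff, finsum_mem_singleton,
      ← Cfsg.Agent.Lib.Char.Complete.isIrr_inv χ.2, mul_assoc]
  have hval : ∀ k, IsConj y k → (χ : G → ℂ) k⁻¹ = (χ : G → ℂ) y⁻¹ := by
    intro k hk
    obtain ⟨c, rfl⟩ := isConj_iff.mp hk
    have : (c * y * c⁻¹)⁻¹ = c * y⁻¹ * c⁻¹ := by group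
    rw [this, isClassFunction_of_irr χ.2]
  unfold thetaY
  simp only [hcoef, Finset.mul_sum]
  rw [Finset.sum_comm]
  -- for each `d` substitute `g = k d⁻¹`
  have hd : ∀ d : D, ∑ g, (Nat.card G : ℂ)⁻¹ * (χ : G → ℂ) 1 * (χ : G → ℂ) g⁻¹ *
      (lam (χ : G → ℂ) (d : G)⁻¹ * if IsConj y (g * d) then 1 else 0) =
      (Nat.card G : ℂ)⁻¹ * (χ : G → ℂ) 1 * ((Finset.univ.filter fun k => IsConj y k).card : ℂ) * (χ : G → ℂ) y⁻¹ := by
    intro d
    rw [← Equiv.sum_comp (Equiv.mulRight (d : G)⁻¹)]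
    have h1 : ∀ k : G, (Nat.card G : ℂ)⁻¹ * (χ : G → ℂ) 1 * (χ : G → ℂ) ((Equiv.mulRight (d : G)⁻¹) k)⁻¹ *
        (lam (χ : G → ℂ) (d : G)⁻¹ * if IsConj y ((Equiv.mulRight (d : G)⁻¹) k * d) then 1 else 0) =
        if IsConj y k then (Nat.card G : ℂ)⁻¹ * (χ : G → ℂ) 1 * (χ : G → ℂ) y⁻¹ else 0 := by
      intro k
      have h2 : (Equiv.mulRight (d : G)⁻¹) k * (d : G) = k := by simp
      rw [h2]
      by_cases hk : IsConj y k
      · rw [if_pos hk, if_pos hk, mul_one, ← hval k hk]
        have h3 : ((Equiv.mulRight (d : G)⁻¹) k)⁻¹ = (d : G) * k⁻¹ := by simp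
        rw [h3, irr_mul_central χ.2 (hDZ d.2)]
        have h4 := lam_inv_mul χ.2 (hDZ d.2)
        linear_combination ((Nat.card G : ℂ)⁻¹ * (χ : G → ℂ) 1 * (χ : G → ℂ) k⁻¹) * h4
      · rw [if_neg hk, if_neg hk, mul_zero, mul_zero]
    simp only [h1]
    rw [← Finset.sum_filter, Finset.sum_const, nsmul_eq_mul]
    ring
  simp only [hd]
  rw [Finset.sum_const, nsmul_eq_mul, Finset.card_univ, ← Nat.card_eq_fintype_card]
  ring

/-- The power of the `p`-part: elements whose power lies in `D` have `p`-part in `D`. -/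
lemma pPart_mem_of_pow_mem {y z : G} (hz : IsPPart p y z) {m : ℕ} (hm : ¬ p ∣ m) (hym : y ^ m ∈ D) : z ∈ D := by
  obtain ⟨y', hzy, hcomm, ⟨k, hk⟩, hy'⟩ := hz
  have hzk : z ^ (p ^ k) = 1 := by
    rw [← hk]
    exact pow_orderOf_eq_one z
  set r := orderOf y' with hr
  have hyr : y' ^ r = 1 := pow_orderOf_eq_one y'
  have h1 : z ^ (m * r) ∈ D := by
    have h2 : y ^ (m * r) = z ^ (m * r) := by
      rw [← hzy, hcomm.mul_pow, mul_comm m r, pow_mul y' r m, hyr, one_pow, mul_one]
    rw [← h2, pow_mul]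
    exact D.pow_mem hym r
  have hcop : Nat.Coprime (m * r) (p ^ k) := by
    apply Nat.Coprime.pow_right
    rw [Nat.coprime_comm, Nat.Prime.coprime_iff_not_dvd hp.out, hp.out.dvd_mul]
    tauto
  obtain ⟨a, ha⟩ := exists_zpow_eq_of_coprime hzk hcop
  rw [← ha]
  exact D.zpow_mem h1 a

/-- **Laradji's vanishing theorem**, the functional form. -/
theorem thetaY_sum_eq_zero (hM : IsPModular p M) (hDZ : D ≤ Subgroup.center G) {χ : IrrCharacter G}
    (hu : MemLocalRing M ((χ : G → ℂ) 1 / (D.index : ℂ))) {y z : G} (hz : IsPPart p y z) (hzD : z ∉ D) :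
    ∑ g, (blockElt {χ}).coeff g * thetaY D (χ : G → ℂ) y g = 0 := by
  classical
  haveI hDnorm : D.Normal := by
    refine ⟨fun n hn g => ?_⟩
    have := Subgroup.mem_center_iff.mp (hDZ hn) g
    rw [this]
    simpa using hn
  set e := (D.index).factorization p with he
  set m := ordCompl[p] D.index with hm
  have hidx0 : D.index ≠ 0 := Subgroup.index_ne_zero_of_finite
  have hpm : ¬ p ∣ m := Nat.not_dvd_ordCompl hp.out hidx0
  have hemul : p ^ e * m = D.index := Nat.ordProj_mul_ordCompl_eq_self _ _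
  have hϑ : ∀ d ∈ D, ∀ g, thetaY D (χ : G → ℂ) y (g * d) = lam (χ : G → ℂ) d * thetaY D (χ : G → ℂ) y g :=
    fun d hd g => thetaY_mul χ.2 hDZ y hd g
  have hclass := isClassFunction_thetaY (χ := (χ : G → ℂ)) hDZ y
  have hloc := memLocalRing_thetaY (M := M) χ.2 hDZ y
  set L := ∑ g, (blockElt {χ}).coeff g * thetaY D (χ : G → ℂ) y g with hL
  -- the key congruence
  have key : ∀ l : ℕ, ∃ r ∈ localRing M, L = (p : ℂ) ^ (l + 1) * r := by
    intro l
    set n := e + l with hn
    set N := p ^ n with hN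
    haveI : NeZero N := ⟨pow_ne_zero _ hp.out.ne_zero⟩
    set w := wee D (χ : G → ℂ) with hw
    set f := fLam D (χ : G → ℂ) with hf
    have hff : f * f = f := fLam_mul_self χ.2 hDZ
    have hcomm : w * f = f * w := (mul_comm_of_isClassFunction (isClassFunction_fLam hDZ) w).symm
    have h1 : L = ∑ g, (w ^ N).coeff g * thetaY D (χ : G → ℂ) y g := by
      rw [← trace_mul_fLam χ.2 hDZ hϑ (w ^ N)]
      have h2 : w ^ N * f = (w * f) ^ N := by
        rw [(show Commute w f from hcomm).mul_pow, IsIdempotentElem.pow_eq hff (NeZero.ne N)]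
      rw [h2, wee_mul_fLam hDZ, IsIdempotentElem.pow_eq (show IsIdempotentElem (blockElt {χ}) from blockElt_mul_self _) (NeZero.ne N)]
    have hwΛ : ∀ g, w.coeff g ∈ localRing M := fun g => coeffIn_top_iff.mp (coeffIn_wee χ.2 hu) g
    have h3 : ∑ g, (w ^ N).coeff g * thetaY D (χ : G → ℂ) y g =
        ∑ x : Fin N → G, (∏ i, w.coeff (x i)) * thetaY D (χ : G → ℂ) y (tupleProd x) := by
      have := twTrace_pow (thetaY D (χ : G → ℂ) y) 1 w N
      simpa [twTrace] using this
    rw [h1, h3]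
    apply exists_eq_pow_mul_of_periodic (rot N) n rot_pow_self (localRing M)
    · intro x
      rw [prod_rot_coeff, tupleProd_rot]
      congr 1
      have := hclass (tupleProd x) (x 0)⁻¹
      simpa using this
    · intro x
      exact (localRing M).mul_mem ((localRing M).prod_mem fun i _ => hwΛ _) (hloc _)
    · intro x j hW hper
      by_contra hlt
      rw [not_le] at hlt
      have hjl : j ≤ l := by omega
      have hjn : j ≤ n := by omega
      obtain ⟨s, hs⟩ := tupleProd_eq_pow_of_periodic x (p ^ j) (p ^ (n - j))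
        (by rw [hN, ← pow_add, Nat.add_sub_cancel' hjn]) hper
      -- the product is an almost-`D`-power
      have hnje : e ≤ n - j := by omega
      have hgm : (tupleProd x) ^ m ∈ D := by
        have h4 : p ^ (n - j) * m = D.index * p ^ (n - j - e) := by
          have h5 : p ^ (n - j) = p ^ e * p ^ (n - j - e) := by
            rw [← pow_add, Nat.add_sub_cancel' hnje]
          rw [h5, ← hemul]
          ring
        rw [hs, ← pow_mul, h4, pow_mul]
        exact D.pow_mem (Subgroup.pow_index_mem D s) _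
      -- hence the weight vanishes
      apply hW
      have hϑ0 : thetaY D (χ : G → ℂ) y (tupleProd x) = 0 := by
        unfold thetaY
        refine Finset.sum_eq_zero fun d _ => ?_
        rw [if_neg, mul_zero]
        intro hc
        apply hzD
        refine pPart_mem_of_pow_mem hz hpm ?_
        obtain ⟨c, hc⟩ := isConj_iff.mp hc
        have h6 : (tupleProd x * d) ^ m ∈ D := by
          have hdc : Commute (tupleProd x) (d : G) :=
            (Subgroup.mem_center_iff.mp (hDZ d.2) (tupleProd x))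
          rw [hdc.mul_pow]
          exact D.mul_mem hgm (D.pow_mem d.2 m)
        rw [← hc] at h6
        have h7 : (c * y * c⁻¹) ^ m = c * y ^ m * c⁻¹ := by
          simp [conj_pow]
        rw [h7] at h6
        have h8 := hDnorm.conj_mem _ h6 c⁻¹
        simpa [mul_assoc] using h8
      rw [hϑ0, mul_zero]
  obtain ⟨r0, hr0, hE0⟩ := key 0
  have hLloc : MemLocalRing M L := by
    rw [hE0]
    exact memLocalRing_mul (memLocalRing_pow (memLocalRing_natCast p) _) hr0
  apply eq_zero_of_forall_dvd_pow hM hLloc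
  intro n
  obtain ⟨r, hr, hE⟩ := key n
  have hp0 : ((p : ℂ) ^ n) ≠ 0 := pow_ne_zero _ (by exact_mod_cast hM.1.ne_zero)
  have h9 : L / (p : ℂ) ^ n = (p : ℂ) * r := by
    rw [hE, pow_succ]
    field_simp
  rw [h9]
  exact memLocalRing_mul (memLocalRing_natCast p) hr

/-- **Laradji's vanishing theorem**. -/
theorem laradji_vanish (hM : IsPModular p M) (hDZ : D ≤ Subgroup.center G) {χ : IrrCharacter G}
    (hu : MemLocalRing M ((χ : G → ℂ) 1 / (D.index : ℂ))) {g x : G} (hgx : IsPPart p g x) (hxD : x ∉ D) :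
    (χ : G → ℂ) g = 0 := by
  classical
  have hy : IsPPart p g⁻¹ x⁻¹ := by
    obtain ⟨y, hzy, hcomm, ⟨k, hk⟩, hy⟩ := hgx
    refine ⟨y⁻¹, ?_, hcomm.inv_inv, ⟨k, by rw [orderOf_inv]; exact hk⟩, by rw [orderOf_inv]; exact hy⟩
    rw [← hzy, hcomm.eq]
    group
  have hzD : x⁻¹ ∉ D := fun h => hxD (by simpa using D.inv_mem h)
  have h1 := thetaY_sum_eq_zero hM hDZ hu hy hzD
  rw [sum_blockElt_mul_thetaY hDZ, inv_inv] at h1
  have h10 := Cfsg.Agent.Lib.Char.Ortho.irr_apply_one_ne_zero χ.2
  have hG0 : (Nat.card G : ℂ)⁻¹ ≠ 0 := inv_ne_zero (Nat.cast_ne_zero.mpr Nat.card_pos.ne')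
  have hD0 : (Nat.card D : ℂ) ≠ 0 := Nat.cast_ne_zero.mpr Nat.card_pos.ne'
  have hK0 : ((Finset.univ.filter fun k => IsConj g⁻¹ k).card : ℂ) ≠ 0 := by
    apply Nat.cast_ne_zero.mpr
    exact Finset.card_ne_zero.mpr ⟨g⁻¹, Finset.mem_filter.mpr ⟨Finset.mem_univ _, IsConj.refl _⟩⟩
  exact (mul_eq_zero.mp h1).resolve_left (mul_ne_zero (mul_ne_zero (mul_ne_zero hG0 h10) hD0) hK0)


end Setup

section Arith

/-- A ratio of natural numbers with nonnegative valuation is local. -/
lemma memLocalRing_natCast_div (hM : IsPModular p M) {A B : ℕ} (hA : A ≠ 0) (hB : B ≠ 0)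
    (h : A.factorization p ≤ B.factorization p) : MemLocalRing M ((B : ℂ) / (A : ℂ)) := by
  obtain ⟨a, a', ha', rfl⟩ := Nat.exists_eq_pow_mul_and_not_dvd hA p hp.out.ne_one
  obtain ⟨b, b', hb', rfl⟩ := Nat.exists_eq_pow_mul_and_not_dvd hB p hp.out.ne_one
  have ha0 : a' ≠ 0 := fun h0 => ha' (by rw [h0]; exact dvd_zero p)
  have hb0 : b' ≠ 0 := fun h0 => hb' (by rw [h0]; exact dvd_zero p)
  have h1 : (p ^ a * a').factorization p = a := by
    rw [Nat.factorization_mul (pow_ne_zero _ hp.out.ne_zero) ha0]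
    simp [Nat.Prime.factorization_pow hp.out, Nat.factorization_eq_zero_of_not_dvd ha']
  have h2 : (p ^ b * b').factorization p = b := by
    rw [Nat.factorization_mul (pow_ne_zero _ hp.out.ne_zero) hb0]
    simp [Nat.Prime.factorization_pow hp.out, Nat.factorization_eq_zero_of_not_dvd hb']
  rw [h1, h2] at h
  have hp0 : (p : ℂ) ≠ 0 := by exact_mod_cast hp.out.ne_zero
  have ha0' : (a' : ℂ) ≠ 0 := by exact_mod_cast ha0
  have h3 : (((p ^ b * b' : ℕ)) : ℂ) / ((p ^ a * a' : ℕ) : ℂ) = (p : ℂ) ^ (b - a) * (b' : ℂ) * (a' : ℂ)⁻¹ := by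
    obtain ⟨c, rfl⟩ := Nat.exists_eq_add_of_le h
    push_cast
    rw [Nat.add_sub_cancel_left, pow_add]
    field_simp
  rw [h3]
  exact memLocalRing_mul (memLocalRing_mul (memLocalRing_pow (memLocalRing_natCast p) _)
    (memLocalRing_natCast _)) (memLocalRing_inv_natCast hM ha')

/-- A ratio of natural numbers with positive valuation is in the local ideal. -/
lemma memLocalIdeal_natCast_div (hM : IsPModular p M) {A B : ℕ} (hA : A ≠ 0) (hB : B ≠ 0)
    (h : A.factorization p < B.factorization p) : MemLocalIdeal M ((B : ℂ) / (A : ℂ)) := by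
  have hA' : A * p ≠ 0 := mul_ne_zero hA hp.out.ne_zero
  have h1 : (A * p).factorization p ≤ B.factorization p := by
    rw [Nat.factorization_mul hA hp.out.ne_zero]
    simp only [Finsupp.add_apply, Nat.Prime.factorization_self hp.out]
    omega
  have h2 := memLocalRing_natCast_div (M := M) hM hA' hB h1
  have hp0 : (p : ℂ) ≠ 0 := by exact_mod_cast hp.out.ne_zero
  have hA0 : (A : ℂ) ≠ 0 := by exact_mod_cast hA
  have h3 : (B : ℂ) / (A : ℂ) = (p : ℂ) * ((B : ℂ) / ((A * p : ℕ) : ℂ)) := by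
    push_cast
    field_simp
  rw [h3]
  exact memLocalIdeal_mul_right (memLocalIdeal_natCast_self hM) h2

/-- If the class size has smaller `p`-part than the degree, the character value is zero modulo `M`. -/
theorem memLocalIdeal_of_factorization_lt (hM : IsPModular p M) {χ : G → ℂ} (hχ : IsIrrCharacter G χ) (w : G)
    (hν : ((Subgroup.centralizer ({w} : Set G)).index).factorization p < (charDegree χ).factorization p) :
    MemLocalIdeal M (χ w) := by
  have hidx0 : (Subgroup.centralizer ({w} : Set G)).index ≠ 0 := Subgroup.index_ne_zero_of_finite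
  have hdeg : ((charDegree χ : ℕ) : ℂ) = χ 1 :=
    Cfsg.Agent.Lib.Char.Values.IsCharacter.charDegree_cast
      (Cfsg.Agent.Lib.Char.Values.IsIrrCharacter.isCharacter hχ)
  have h10 : χ 1 ≠ 0 := Cfsg.Agent.Lib.Char.Ortho.irr_apply_one_ne_zero hχ
  have hdeg0 : charDegree χ ≠ 0 := by
    intro h
    apply h10
    rw [← hdeg, h]
    simp
  have h1 := memLocalIdeal_natCast_div (M := M) hM hidx0 hdeg0 hν
  have h2 : χ w = ((charDegree χ : ℂ) / ((Subgroup.centralizer ({w} : Set G)).index : ℂ)) * centralChar χ w := by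
    have hi0 : ((Subgroup.centralizer ({w} : Set G)).index : ℂ) ≠ 0 := by exact_mod_cast hidx0
    rw [centralChar, hdeg]
    field_simp
  rw [h2]
  exact memLocalIdeal_mul_right h1 (memLocalRing_centralChar hχ w)

end Arith

section Defect

variable {D : Subgroup G} [Fintype D]

/-- The sum of `|χ|²` over the `p`-regular elements. -/
theorem sum_regular_eq_index (hM : IsPModular p M) (hD : IsPGroup p D) (hDZ : D ≤ Subgroup.center G)
    {χ : IrrCharacter G} (hu : MemLocalRing M ((χ : G → ℂ) 1 / (D.index : ℂ))) :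
    ∑ g ∈ Finset.univ.filter (fun g : G => ¬ p ∣ orderOf g), (χ : G → ℂ) g * (χ : G → ℂ) g⁻¹ = (D.index : ℂ) := by
  classical
  set F : G → ℂ := fun g => (χ : G → ℂ) g * (χ : G → ℂ) g⁻¹ with hF
  set S := Finset.univ.filter (fun g : G => ¬ p ∣ orderOf g) with hS
  -- the total sum
  have htotal : ∑ g, F g = (Nat.card G : ℂ) := by
    have h1 := Cfsg.Agent.Lib.Char.Ortho.classInner_irr χ.2 χ.2
    rw [if_pos rfl, classInner] at h1
    have hG0 : (Nat.card G : ℂ) ≠ 0 := Nat.cast_ne_zero.mpr Nat.card_pos.ne'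
    have h2 : ∑ g, (χ : G → ℂ) g * (starRingEnd ℂ) ((χ : G → ℂ) g) = (Nat.card G : ℂ) := by
      field_simp at h1
      exact h1
    rw [← h2]
    refine Finset.sum_congr rfl fun g _ => ?_
    rw [hF]
    simp only
    rw [Cfsg.Agent.Lib.Char.Complete.isIrr_inv χ.2]
  have hcomm : ∀ (d : D) (g : G), Commute (d : G) g := fun d g =>
    (Subgroup.mem_center_iff.mp (hDZ d.2) g).symm
  have hFd : ∀ (d : D) (g : G), F ((d : G) * g) = F g := by
    intro d g
    rw [hF]
    simp only
    have h1 : ((d : G) * g)⁻¹ = (d : G)⁻¹ * g⁻¹ := by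
      rw [mul_inv_rev]
      exact Subgroup.mem_center_iff.mp (Subgroup.inv_mem _ (hDZ d.2)) g⁻¹
    rw [h1, irr_mul_central χ.2 (hDZ d.2), irr_mul_central χ.2 (Subgroup.inv_mem _ (hDZ d.2))]
    have h2 := lam_inv_mul χ.2 (hDZ d.2)
    linear_combination ((χ : G → ℂ) g * (χ : G → ℂ) g⁻¹) * h2
  have hdp : ∀ d : D, ∃ k : ℕ, orderOf (d : G) = p ^ k := by
    intro d
    obtain ⟨k, hk⟩ := hD d
    have h1 : (d : G) ^ (p ^ k) = 1 := by
      have := congrArg Subtype.val hk
      simpa using this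
    obtain ⟨j, -, hj⟩ := (Nat.dvd_prime_pow hp.out).mp (orderOf_dvd_of_pow_eq_one h1)
    exact ⟨j, hj⟩
  have hpart : ∀ (d : D) {g : G}, g ∈ S → IsPPart p ((d : G) * g) (d : G) := by
    intro d g hg
    exact ⟨g, rfl, hcomm d g, hdp d, (Finset.mem_filter.mp hg).2⟩
  -- decomposition
  have hdecomp : ∑ p' ∈ (Finset.univ : Finset D) ×ˢ S, F ((p'.1 : G) * p'.2) = ∑ g, F g := by
    refine Finset.sum_bij_ne_zero (fun p' _ _ => (p'.1 : G) * p'.2) ?_ ?_ ?_ ?_
    · intro _ _ _
      exact Finset.mem_univ _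
    · rintro ⟨d, g⟩ h1 _ ⟨d', g'⟩ h2 _ heq
      simp only [Finset.mem_product, Finset.mem_univ, true_and] at h1 h2
      simp only at heq
      have h3 := Cfsg.Agent.Lib.Blocks.Sections.isPPart_unique (hpart d h1) (by rw [heq]; exact hpart d' h2)
      have h4 : d = d' := Subtype.ext h3
      subst h4
      have h5 := mul_left_cancel heq
      rw [h5]
    · intro g _ hg
      obtain ⟨x, hx⟩ := Cfsg.Agent.Lib.Blocks.SecondMain.exists_isPPart p g
      have hxD : x ∈ D := by
        by_contra hxD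
        apply hg
        rw [hF]
        simp only
        rw [laradji_vanish hM hDZ hu hx hxD, zero_mul]
      obtain ⟨y, hxy, _, _, hy⟩ := hx
      refine ⟨(⟨x, hxD⟩, y), ?_, ?_, ?_⟩
      · simp [hS, hy]
      · simp only
        rw [hxy]
        exact hg
      · simp only
        exact hxy
    · intro _ _ _
      rfl
  rw [Finset.sum_product] at hdecomp
  simp only [hFd, Finset.sum_const, Finset.card_univ, nsmul_eq_mul] at hdecomp
  rw [htotal, ← Nat.card_eq_fintype_card] at hdecomp
  have hcard : (Nat.card G : ℂ) = (D.index : ℂ) * (Nat.card D : ℂ) := by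
    rw [← Nat.cast_mul, Subgroup.index_mul_card]
  have hD0 : (Nat.card D : ℂ) ≠ 0 := Nat.cast_ne_zero.mpr Nat.card_pos.ne'
  rw [hcard, mul_comm] at hdecomp
  exact mul_right_cancel₀ hD0 hdecomp

/-- There is a `p`-regular class on which both the central character and the value at the inverse are
nonzero modulo `M`. -/
theorem exists_regular_class (hM : IsPModular p M) (hD : IsPGroup p D) (hDZ : D ≤ Subgroup.center G)
    {χ : IrrCharacter G} (hu : MemLocalRing M ((χ : G → ℂ) 1 / (D.index : ℂ))) :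
    ∃ g : G, ¬ MemLocalIdeal M (centralChar (χ : G → ℂ) g) ∧ ¬ MemLocalIdeal M ((χ : G → ℂ) g⁻¹) := by
  classical
  set u := (χ : G → ℂ) 1 / (D.index : ℂ) with hudef
  let v : MonoidAlgebra ℂ G := ofFun fun g => if ¬ p ∣ orderOf g then u * (χ : G → ℂ) g⁻¹ else 0
  have hcv : ∀ g, v.coeff g = if ¬ p ∣ orderOf g then u * (χ : G → ℂ) g⁻¹ else 0 := fun g => by
    simp [v]
  have hvcl : IsClassFunction G v.coeff := by
    intro g x
    rw [hcv, hcv, Cfsg.Agent.Lib.Blocks.Sections.orderOf_conj_eq]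
    have : (x * g * x⁻¹)⁻¹ = x * g⁻¹ * x⁻¹ := by group
    rw [this, isClassFunction_of_irr χ.2]
  have h10 := Cfsg.Agent.Lib.Char.Ortho.irr_apply_one_ne_zero χ.2
  have hi0 : (D.index : ℂ) ≠ 0 := Nat.cast_ne_zero.mpr Subgroup.index_ne_zero_of_finite
  have hone : omega (χ : G → ℂ) v = 1 := by
    have h1 := sum_regular_eq_index hM hD hDZ hu
    rw [omega]
    have h2 : ∑ g, v.coeff g * (χ : G → ℂ) g =
        u * ∑ g ∈ Finset.univ.filter (fun g : G => ¬ p ∣ orderOf g), (χ : G → ℂ) g * (χ : G → ℂ) g⁻¹ := by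
      rw [Finset.mul_sum, Finset.sum_filter]
      refine Finset.sum_congr rfl fun g _ => ?_
      rw [hcv]
      split_ifs
      all_goals ring
    rw [h2, h1, hudef]
    field_simp
  rw [omega_eq_sum_centralChar (isClassFunction_of_irr χ.2) hvcl] at hone
  -- some term is nonzero modulo `M`
  have hex : ∃ K : ConjClasses G, ¬ MemLocalIdeal M (v.coeff K.out * centralChar (χ : G → ℂ) K.out) := by
    by_contra hcon
    push Not at hcon
    have := memLocalIdeal_sum (M := M) Finset.univ _ fun K _ => hcon K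
    rw [hone] at this
    exact not_memLocalIdeal_one this
  obtain ⟨K, hK⟩ := hex
  have hcc : MemLocalRing M (centralChar (χ : G → ℂ) K.out) := memLocalRing_centralChar χ.2 _
  refine ⟨K.out, fun h => hK ?_, fun h => hK ?_⟩
  · rw [hcv]
    split_ifs
    · rw [zero_mul]
      exact memLocalIdeal_zero
    · exact memLocalIdeal_mul_left (memLocalRing_mul hu (memLocalRing_of_isIntegral (isIntegral_irr χ.2 _))) h
  · rw [hcv]
    split_ifs
    · rw [zero_mul]
      exact memLocalIdeal_zero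
    · exact memLocalIdeal_mul_right (memLocalIdeal_mul_left hu h) hcc

lemma centralizer_inv_eq (g : G) :
    Subgroup.centralizer ({g⁻¹} : Set G) = Subgroup.centralizer ({g} : Set G) := by
  ext c
  simp only [Subgroup.mem_centralizer_singleton_iff]
  constructor
  · intro h
    have h2 : Commute c g := by simpa using (show Commute c g⁻¹ from h).inv_right
    exact h2
  · intro h
    exact (show Commute c g from h).inv_right

/-- **Laradji's theorem, the defect group.** -/
theorem laradji_defect (hM : IsPModular p M) (hD : IsPGroup p D) (hDZ : D ≤ Subgroup.center G)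
    {χ : IrrCharacter G}
    (hdeg : (charDegree (χ : G → ℂ)).factorization p = D.index.factorization p) :
    IsDefectGroup p M (blockOf M (χ : G → ℂ)) D := by
  classical
  have hidx0 : D.index ≠ 0 := Subgroup.index_ne_zero_of_finite
  have hdegc : ((charDegree (χ : G → ℂ) : ℕ) : ℂ) = (χ : G → ℂ) 1 :=
    Cfsg.Agent.Lib.Char.Values.IsCharacter.charDegree_cast
      (Cfsg.Agent.Lib.Char.Values.IsIrrCharacter.isCharacter χ.2)
  have h10 := Cfsg.Agent.Lib.Char.Ortho.irr_apply_one_ne_zero χ.2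
  have hdeg0 : charDegree (χ : G → ℂ) ≠ 0 := by
    intro h
    apply h10
    rw [← hdegc, h]
    simp
  have hu : MemLocalRing M ((χ : G → ℂ) 1 / (D.index : ℂ)) := by
    rw [← hdegc]
    exact memLocalRing_natCast_div hM hidx0 hdeg0 hdeg.symm.le
  obtain ⟨g, hg1, hg2⟩ := exists_regular_class hM hD hDZ hu
  -- the centralizer of `g` is small
  have hle : (charDegree (χ : G → ℂ)).factorization p ≤
      ((Subgroup.centralizer ({g⁻¹} : Set G)).index).factorization p := by
    by_contra hcon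
    rw [not_le] at hcon
    exact hg2 (memLocalIdeal_of_factorization_lt hM χ.2 g⁻¹ hcon)
  rw [centralizer_inv_eq] at hle
  have hG0 : Nat.card G ≠ 0 := Nat.card_pos.ne'
  have h1 : D.index.factorization p + (Nat.card D).factorization p = (Nat.card G).factorization p := by
    have := Nat.factorization_mul hidx0 (Nat.card_pos (α := D)).ne'
    rw [Subgroup.index_mul_card] at this
    rw [this]
    rfl
  have h2 : ((Subgroup.centralizer ({g} : Set G)).index).factorization p +
      (Nat.card (Subgroup.centralizer ({g} : Set G))).factorization p = (Nat.card G).factorization p := by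
    have := Nat.factorization_mul (Subgroup.index_ne_zero_of_finite (H := Subgroup.centralizer ({g} : Set G)))
      (Nat.card_pos (α := Subgroup.centralizer ({g} : Set G))).ne'
    rw [Subgroup.index_mul_card] at this
    rw [this]
    rfl
  have hνC : (Nat.card (Subgroup.centralizer ({g} : Set G))).factorization p ≤ (Nat.card D).factorization p := by
    omega
  -- take a defect group
  have hB : IsPBlock M (blockOf M (χ : G → ℂ)) := ⟨χ, rfl⟩
  obtain ⟨y₀, hy₀⟩ := exists_isDefectClass hB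
  obtain ⟨S⟩ : Nonempty (Sylow p (Subgroup.centralizer ({y₀} : Set G))) := inferInstance
  have hdefect : IsDefectGroup p M (blockOf M (χ : G → ℂ)) ((S : Subgroup _).map (Subgroup.centralizer ({y₀} : Set G)).subtype) :=
    ⟨y₀, hy₀, S, rfl⟩
  have hcore := Cfsg.Agent.S0912.result p M hM _ hB _ hdefect
  have hDcore : D ≤ pCore p G := by
    have hnorm : D.Normal := by
      refine ⟨fun n hn c => ?_⟩
      have := Subgroup.mem_center_iff.mp (hDZ hn) c
      rw [this]
      simpa using hn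
    exact Cfsg.Agent.Lib.Basic.PCore.le_pCore hnorm hD
  obtain ⟨c, Q, hcQ⟩ := (Cfsg.Agent.Lib.Blocks.Defect.min_max hM _ hB y₀ hy₀ S g).2
    ⟨χ, mem_blockOf_self χ, hg1⟩
  have hcardD₀ : Nat.card ((S : Subgroup _).map (Subgroup.centralizer ({y₀} : Set G)).subtype) ≤ Nat.card D := by
    have h3 : Nat.card (((S : Subgroup _).map (Subgroup.centralizer ({y₀} : Set G)).subtype).map (MulAut.conj c).toMonoidHom) =
        Nat.card ((S : Subgroup _).map (Subgroup.centralizer ({y₀} : Set G)).subtype) :=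
      Nat.card_congr (Subgroup.equivMapOfInjective _ _ (MulAut.conj c).injective).toEquiv.symm
    have h4 : Nat.card ((Q : Subgroup _).map (Subgroup.centralizer ({g} : Set G)).subtype) = Nat.card Q :=
      Nat.card_congr (Subgroup.equivMapOfInjective _ _ Subtype.val_injective).toEquiv.symm
    have h5 := Subgroup.card_le_of_le hcQ
    rw [h3, h4, Sylow.card_eq_multiplicity] at h5
    refine h5.trans ?_
    obtain ⟨k, hk⟩ := IsPGroup.iff_card.mp hD
    rw [hk]
    rw [hk] at hνC
    rw [Nat.Prime.factorization_pow hp.out] at hνC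
    simp only [Finsupp.single_eq_same] at hνC
    exact Nat.pow_le_pow_right hp.out.pos hνC
  have heq : D = (S : Subgroup _).map (Subgroup.centralizer ({y₀} : Set G)).subtype :=
    Subgroup.eq_of_le_of_card_ge (hDcore.trans hcore) hcardD₀
  rw [heq]
  exact hdefect

end Defect

end Cfsg.Agent.Lib.Blocks.Laradji
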