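/-
Inflation of blocks along the quotient by a normal `p`-subgroup: `deflate`, the regular lift, domination,
and the degree identity of a block relative to a normal `p`-subgroup.
-/
import Mathlib
import Cfsg.Prelude.Def_Blocks
import Cfsg.Agent.Lib.Blocks.Kernel
import Cfsg.Agent.Lib.Blocks.Laradji
import Cfsg.Agent.Lib.Blocks.SecondMain

set_option autoImplicit false

namespace Cfsg.Agent.Lib.Blocks.Dominate

open Cfsg Cfsg.Agent.Lib.Blocks.Local Cfsg.Agent.Lib.Blocks.Central Cfsg.Agent.Lib.Blocks.Osima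
  Cfsg.Agent.Lib.Blocks.Covering Cfsg.Agent.Lib.Blocks.Kernel
open scoped ComplexConjugate

universe u

section Deflate

variable {G : Type u} [Group G] [Fintype G] (N : Subgroup G) [hN : N.Normal] [Fintype (G ⧸ N)]

open Classical in
/-- The image in `ℂ[G/N]` of an element of `ℂ[G]`. -/
noncomputable def deflate (a : MonoidAlgebra ℂ G) : MonoidAlgebra ℂ (G ⧸ N) :=
  ofFun (fun c => ∑ x ∈ Finset.univ.filter (fun x : G => (x : G ⧸ N) = c), a.coeff x)

lemma omega_deflate (η : G ⧸ N → ℂ) (a : MonoidAlgebra ℂ G) :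
    omega η (deflate N a) = omega (η ∘ QuotientGroup.mk) a := by
  classical
  rw [deflate, omega_ofFun, omega]
  simp only [Function.comp_apply, QuotientGroup.mk_one]
  congr 1
  simp only [Finset.sum_mul]
  have h1 := Finset.sum_fiberwise (Finset.univ : Finset G) (fun g : G => (g : G ⧸ N))
    (fun g => a.coeff g * η (g : G ⧸ N))
  rw [← h1]
  refine Finset.sum_congr rfl fun c _ => Finset.sum_congr rfl fun x hx => ?_
  rw [(Finset.mem_filter.1 hx).2]

lemma deflate_mem_localCenter {M : Ideal AlgInt} [M.IsPrime] {a : MonoidAlgebra ℂ G}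
    (ha : a ∈ localCenter G M) : deflate N a ∈ localCenter (G ⧸ N) M := by
  classical
  refine ⟨fun c y => ?_, fun c => ?_⟩
  · obtain ⟨g, rfl⟩ := QuotientGroup.mk_surjective y
    simp only [deflate, coeff_ofFun]
    refine Finset.sum_bij' (fun x _ => g⁻¹ * x * g) (fun x _ => g * x * g⁻¹) ?_ ?_ ?_ ?_ ?_
    · intro x hx
      simp only [Finset.mem_filter, Finset.mem_univ, true_and] at hx ⊢
      rw [QuotientGroup.mk_mul, QuotientGroup.mk_mul, hx, QuotientGroup.mk_inv]
      group
    · intro x hx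
      simp only [Finset.mem_filter, Finset.mem_univ, true_and] at hx ⊢
      rw [QuotientGroup.mk_mul, QuotientGroup.mk_mul, hx, QuotientGroup.mk_inv]
    · intro x _
      group
    · intro x _
      group
    · intro x _
      have := ha.1 (g⁻¹ * x * g) g
      rw [← this]
      congr 2
      group
  · simp only [deflate, coeff_ofFun]
    exact memLocalRing_sum _ _ fun x _ => ha.2 x

/-- Inflation preserves being in the same block (for every normal subgroup). -/
theorem sameBlock_comp_mk {M : Ideal AlgInt} [M.IsPrime] {χ ψ : G ⧸ N → ℂ} (hχ : IsIrrCharacter (G ⧸ N) χ)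
    (hψ : IsIrrCharacter (G ⧸ N) ψ) (h : SameBlock M χ ψ) :
    SameBlock M (χ ∘ QuotientGroup.mk) (ψ ∘ QuotientGroup.mk) := by
  intro g
  have hχ' := Cfsg.Agent.Lib.Char.Basic.isIrrCharacter_comp_surjective hχ (QuotientGroup.mk' N)
      (QuotientGroup.mk'_surjective N)
  have hψ' := Cfsg.Agent.Lib.Char.Basic.isIrrCharacter_comp_surjective hψ (QuotientGroup.mk' N)
      (QuotientGroup.mk'_surjective N)
  have h1 := memLocalIdeal_omega_sub hχ hψ h (deflate_mem_localCenter N (classSum_mem_localCenter (M := M) g))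
  rw [omega_deflate, omega_deflate] at h1
  have e1 := omega_classSum (isClassFunction_of_irr hχ') g
  have e2 := omega_classSum (isClassFunction_of_irr hψ') g
  have e3 : (fun g : G => χ (QuotientGroup.mk' N g)) = χ ∘ QuotientGroup.mk := rfl
  have e4 : (fun g : G => ψ (QuotientGroup.mk' N g)) = ψ ∘ QuotientGroup.mk := rfl
  rw [e3] at e1
  rw [e4] at e2
  rw [← e1, ← e2]
  exact h1

end Deflate

section RegLift

variable {G : Type u} [Group G] [Fintype G] (P : Subgroup G) [hP : P.Normal] [Fintype (G ⧸ P)]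
  {p : ℕ} [hp : Fact p.Prime]

open Classical in
/-- The lift of an element of `ℂ[G/P]` to the `p`-regular elements of `G`. -/
noncomputable def regLift (p : ℕ) (f : MonoidAlgebra ℂ (G ⧸ P)) : MonoidAlgebra ℂ G :=
  ofFun (fun g => if p ∣ orderOf g then 0 else f.coeff (g : G ⧸ P))

lemma coeff_regLift_of_not_dvd (f : MonoidAlgebra ℂ (G ⧸ P)) {g : G} (hg : ¬ p ∣ orderOf g) :
    (regLift P p f).coeff g = f.coeff (g : G ⧸ P) := by
  classical
  simp [regLift, hg]

lemma coeff_regLift_of_dvd (f : MonoidAlgebra ℂ (G ⧸ P)) {g : G} (hg : p ∣ orderOf g) :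
    (regLift P p f).coeff g = 0 := by
  classical
  simp [regLift, hg]

lemma regLift_mem_localCenter {M : Ideal AlgInt} [M.IsPrime] {f : MonoidAlgebra ℂ (G ⧸ P)}
    (hf : f ∈ localCenter (G ⧸ P) M) : regLift P p f ∈ localCenter G M := by
  classical
  refine ⟨fun g y => ?_, fun g => ?_⟩
  · have h1 : orderOf (y * g * y⁻¹) = orderOf g := by
      have := orderOf_injective (MulAut.conj y).toMonoidHom (MulAut.conj y).injective g
      simpa using this
    by_cases hg : p ∣ orderOf g
    · rw [coeff_regLift_of_dvd P f hg, coeff_regLift_of_dvd P f (h1 ▸ hg)]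
    · rw [coeff_regLift_of_not_dvd P f hg, coeff_regLift_of_not_dvd P f (fun h => hg (h1 ▸ h))]
      have := hf.1 (g : G ⧸ P) (y : G ⧸ P)
      rw [← this]
      rfl
  · by_cases hg : p ∣ orderOf g
    · rw [coeff_regLift_of_dvd P f hg]
      exact memLocalRing_zero
    · rw [coeff_regLift_of_not_dvd P f hg]
      exact hf.2 _

/-- The bijection between the `p`-regular elements of `G` and those of `G/P`, when `G/C_G(P)` is
a `p`-group. -/
lemma sum_regular_eq (hPp : IsPGroup p P) (hC : ∃ k : ℕ, (Subgroup.centralizer (P : Set G)).index = p ^ k)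
    (F : G ⧸ P → ℂ) (hF : ∀ c : G ⧸ P, p ∣ orderOf c → F c = 0) :
    ∑ g : G, (if p ∣ orderOf g then 0 else F (g : G ⧸ P)) = ∑ c : G ⧸ P, F c := by
  classical
  have h1 : ∑ c : G ⧸ P, F c = ∑ c ∈ Finset.univ.filter (fun c : G ⧸ P => ¬ p ∣ orderOf c), F c := by
    rw [Finset.sum_filter]
    refine Finset.sum_congr rfl fun c _ => ?_
    by_cases hc : p ∣ orderOf c
    · rw [if_neg (not_not.2 hc), hF c hc]
    · rw [if_pos hc]
  have h2 : ∑ g : G, (if p ∣ orderOf g then 0 else F (g : G ⧸ P)) =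
      ∑ g ∈ Finset.univ.filter (fun g : G => ¬ p ∣ orderOf g), F (g : G ⧸ P) := by
    rw [Finset.sum_filter]
    refine Finset.sum_congr rfl fun g _ => ?_
    by_cases hc : p ∣ orderOf g
    · rw [if_pos hc, if_neg (not_not.2 hc)]
    · rw [if_neg hc, if_pos hc]
  rw [h1, h2]
  refine Finset.sum_bij (fun g _ => (g : G ⧸ P)) ?_ ?_ ?_ ?_
  · intro g hg
    simp only [Finset.mem_filter, Finset.mem_univ, true_and] at hg ⊢
    intro h
    apply hg
    have h3 : orderOf (g : G ⧸ P) ∣ orderOf g := orderOf_map_dvd (QuotientGroup.mk' P) g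
    exact h.trans h3
  · intro g hg g' hg' heq
    simp only [Finset.mem_coe, Finset.mem_filter, Finset.mem_univ, true_and] at hg hg'
    have hu : g⁻¹ * g' ∈ P := QuotientGroup.eq.1 heq
    set u := g⁻¹ * g' with hu'
    have hgC : g ∈ Subgroup.centralizer (P : Set G) := by
      by_contra h
      exact hg (dvd_orderOf_of_notMem hC h)
    have hcomm : Commute g u := ((Subgroup.mem_centralizer_iff.1 hgC) u hu).symm
    have hg'eq : g' = g * u := by rw [hu']; group
    by_contra hne
    have hu1 : u ≠ 1 := by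
      intro h
      apply hne
      rw [hg'eq, h, mul_one]
    obtain ⟨k, hk⟩ : ∃ k, orderOf u = p ^ k := by
      obtain ⟨k, hk⟩ := (IsPGroup.iff_orderOf.1 hPp) ⟨u, hu⟩
      exact ⟨k, by rw [← hk]; exact (Subgroup.orderOf_mk u hu).symm⟩
    have hk0 : k ≠ 0 := by
      rintro rfl
      apply hu1
      rw [pow_zero] at hk
      exact orderOf_eq_one_iff.1 hk
    have hcop : Nat.Coprime (orderOf g) (orderOf u) := by
      rw [hk]
      exact Nat.Coprime.pow_right k (((Nat.Prime.coprime_iff_not_dvd hp.out).2 hg).symm)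
    have h3 := hcomm.orderOf_mul_eq_mul_orderOf_of_coprime hcop
    apply hg'
    rw [hg'eq, h3, hk]
    exact Dvd.dvd.mul_left (dvd_pow_self p hk0) _
  · intro c hc
    simp only [Finset.mem_filter, Finset.mem_univ, true_and] at hc
    obtain ⟨x, rfl⟩ := QuotientGroup.mk_surjective c
    obtain ⟨z, hz⟩ := Cfsg.Agent.Lib.Blocks.SecondMain.exists_isPPart p x
    have hzP : z ∈ P := by
      refine Cfsg.Agent.Lib.Blocks.Laradji.pPart_mem_of_pow_mem (D := P) hz hc ?_
      have h3 := pow_orderOf_eq_one (x : G ⧸ P)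
      rw [← QuotientGroup.mk_pow] at h3
      exact (QuotientGroup.eq_one_iff _).1 h3
    obtain ⟨y, hzy, hcomm, -, hy⟩ := hz
    refine ⟨y, by simpa using hy, ?_⟩
    rw [← hzy, QuotientGroup.mk_mul, (QuotientGroup.eq_one_iff z).2 hzP, one_mul]
  · intro g _
    rfl

lemma omega_regLift (hPp : IsPGroup p P) (hC : ∃ k : ℕ, (Subgroup.centralizer (P : Set G)).index = p ^ k)
    (η : G ⧸ P → ℂ) {f : MonoidAlgebra ℂ (G ⧸ P)} (hf : ∀ c : G ⧸ P, p ∣ orderOf c → f.coeff c = 0) :
    omega (η ∘ QuotientGroup.mk) (regLift P p f) = omega η f := by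
  classical
  rw [regLift, omega_ofFun, omega]
  simp only [Function.comp_apply, QuotientGroup.mk_one]
  congr 1
  rw [← sum_regular_eq P hPp hC (fun c => f.coeff c * η c)
    (fun c hc => by rw [hf c hc, zero_mul])]
  refine Finset.sum_congr rfl fun g _ => ?_
  by_cases hg : p ∣ orderOf g
  · rw [if_pos hg, if_pos hg, zero_mul]
  · rw [if_neg hg, if_neg hg]

/-- The converse of `sameBlock_comp_mk` when `G/C_G(P)` is a `p`-group. -/
theorem sameBlock_of_comp_mk {M : Ideal AlgInt} [M.IsPrime] (hM : IsPModular p M) (hPp : IsPGroup p P)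
    (hC : ∃ k : ℕ, (Subgroup.centralizer (P : Set G)).index = p ^ k) {χ ψ : IrrCharacter (G ⧸ P)}
    (h : SameBlock M ((χ : G ⧸ P → ℂ) ∘ QuotientGroup.mk) ((ψ : G ⧸ P → ℂ) ∘ QuotientGroup.mk)) :
    SameBlock M (χ : G ⧸ P → ℂ) (ψ : G ⧸ P → ℂ) := by
  classical
  set b := blockOf M (χ : G ⧸ P → ℂ) with hb
  have hbb : IsPBlock M b := ⟨χ, rfl⟩
  have hχb : χ ∈ b := mem_blockOf_self χ
  have hf : blockElt b ∈ localCenter (G ⧸ P) M := blockElt_mem_localCenter hbb
  have hv : ∀ c : G ⧸ P, p ∣ orderOf c → (blockElt b).coeff c = 0 := by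
    intro c hc
    rw [coeff_blockElt]
    exact blockCoeff_eq_zero_of_dvd hM hbb hc
  have hχ' := Cfsg.Agent.Lib.Char.Basic.isIrrCharacter_comp_surjective χ.2 (QuotientGroup.mk' P)
      (QuotientGroup.mk'_surjective P)
  have hψ' := Cfsg.Agent.Lib.Char.Basic.isIrrCharacter_comp_surjective ψ.2 (QuotientGroup.mk' P)
      (QuotientGroup.mk'_surjective P)
  have h1 := memLocalIdeal_omega_sub hχ' hψ' h (regLift_mem_localCenter (p := p) P hf)
  have e1 := omega_regLift P hPp hC (χ : G ⧸ P → ℂ) hv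
  have e2 := omega_regLift P hPp hC (ψ : G ⧸ P → ℂ) hv
  have e3 : (fun g : G => (χ : G ⧸ P → ℂ) (QuotientGroup.mk' P g)) = (χ : G ⧸ P → ℂ) ∘ QuotientGroup.mk := rfl
  have e4 : (fun g : G => (ψ : G ⧸ P → ℂ) (QuotientGroup.mk' P g)) = (ψ : G ⧸ P → ℂ) ∘ QuotientGroup.mk := rfl
  rw [e3, e4] at h1
  rw [e1, e2, omega_blockElt_of_mem hχb] at h1
  by_contra hcon
  have hψb : ψ ∉ b := hcon
  rw [omega_blockElt_of_notMem hψb, sub_zero] at h1
  exact not_memLocalIdeal_one h1

end RegLift

section Degrees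

variable {G : Type u} [Group G] [Fintype G] (P : Subgroup G) [hP : P.Normal] [Fintype P]
  {p : ℕ} [hp : Fact p.Prime]

open Classical in
/-- The sum of the values of an irreducible character on a normal subgroup. -/
lemma sum_irr_normal {χ : G → ℂ} (hχ : IsIrrCharacter G χ) :
    ∑ n : P, χ n = if ∀ n ∈ P, χ n = χ 1 then (Nat.card P : ℂ) * χ 1 else 0 := by
  have h0 := Cfsg.Agent.Lib.Char.Ortho.irr_apply_one_ne_zero hχ
  have hcard := natCard_subgroup_ne_zero P
  have hom := omega_avg_eq P χ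
  rw [← Finset.sum_div] at hom
  by_cases hk : ∀ n ∈ P, χ n = χ 1
  · rw [if_pos hk, omega_avg_of_kernel P hχ hk] at *
    field_simp at hom
    rw [hom]
  · rw [if_neg hk]
    have h1 : omega χ (avg P) ≠ 1 := fun h => hk (kernel_of_omega_avg P hχ h)
    have h2 := (omega_avg_eq_zero_or_one P hχ).resolve_right h1
    rw [h2] at hom
    have h3 := hom.symm
    rw [mul_eq_zero, div_eq_zero_iff] at h3
    rcases h3 with h3 | h3
    · exact absurd h3 (inv_ne_zero hcard)
    · exact h3.resolve_right h0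

open Classical in
/-- **The degree identity**: for a normal `p`-subgroup `P` and a block `B`, the sum of the squares of the
degrees of `B` is `|P|` times the same sum over the characters of `B` with `P` in the kernel. -/
theorem sum_deg_sq {M : Ideal AlgInt} [M.IsPrime] (hM : IsPModular p M) (hPp : IsPGroup p P)
    {B : Set (IrrCharacter G)} (hB : IsPBlock M B) :
    ∑ χ ∈ Finset.univ.filter (· ∈ B), (χ : G → ℂ) 1 * conj ((χ : G → ℂ) 1) =
      (Nat.card P : ℂ) * ∑ χ ∈ Finset.univ.filter (fun χ : IrrCharacter G => χ ∈ B ∧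
        ∀ n ∈ P, (χ : G → ℂ) n = (χ : G → ℂ) 1), (χ : G → ℂ) 1 * conj ((χ : G → ℂ) 1) := by
  have hG : (Nat.card G : ℂ) ≠ 0 := Nat.cast_ne_zero.2 Nat.card_pos.ne'
  have h1 : ∑ u : P, blockCoeff B (u : G) = blockCoeff B 1 := by
    rw [Finset.sum_eq_single (1 : P)]
    · rfl
    · intro u _ hu
      obtain ⟨k, hk⟩ := (IsPGroup.iff_orderOf.1 hPp) u
      have hk0 : k ≠ 0 := by
        rintro rfl
        rw [pow_zero] at hk
        exact hu (orderOf_eq_one_iff.1 hk)
      apply blockCoeff_eq_zero_of_dvd hM hB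
      rw [Subgroup.orderOf_coe, hk]
      exact dvd_pow_self p hk0
    · intro h
      exact absurd (Finset.mem_univ _) h
  have h2 : ∑ u : P, blockCoeff B (u : G) = (Nat.card G : ℂ)⁻¹ * ∑ χ ∈ Finset.univ.filter (· ∈ B),
      (χ : G → ℂ) 1 * conj (∑ u : P, (χ : G → ℂ) u) := by
    simp only [blockCoeff_eq_sum]
    rw [← Finset.mul_sum, Finset.sum_comm]
    congr 1
    refine Finset.sum_congr rfl fun χ _ => ?_
    rw [map_sum, Finset.mul_sum]
  rw [h1, blockCoeff_eq_sum] at h2
  have h3 := mul_left_cancel₀ (inv_ne_zero hG) h2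
  have hone : (1 : G) = ((1 : P) : G) := rfl
  rw [h3, Finset.sum_filter, Finset.sum_filter, Finset.mul_sum]
  refine Finset.sum_congr rfl fun χ _ => ?_
  rw [sum_irr_normal P χ.2]
  by_cases hχ : χ ∈ B
  · by_cases hk : ∀ n ∈ P, (χ : G → ℂ) n = (χ : G → ℂ) 1
    · rw [if_pos hχ, if_pos hk, if_pos ⟨hχ, hk⟩, map_mul, map_natCast]
      ring
    · rw [if_pos hχ, if_neg hk, if_neg (fun h => hk h.2), map_zero]
      ring
  · rw [if_neg hχ, if_neg (fun h => hχ h.1), mul_zero]

/-- Every block contains a character with the normal `p`-subgroup in its kernel. -/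
theorem exists_mem_kernel {M : Ideal AlgInt} [M.IsPrime] (hM : IsPModular p M) (hPp : IsPGroup p P)
    {B : Set (IrrCharacter G)} (hB : IsPBlock M B) :
    ∃ χ ∈ B, ∀ n ∈ P, (χ : G → ℂ) n = (χ : G → ℂ) 1 := by
  classical
  by_contra hcon
  push Not at hcon
  have h1 := sum_deg_sq P hM hPp hB
  have h2 : Finset.univ.filter (fun χ : IrrCharacter G => χ ∈ B ∧
        ∀ n ∈ P, (χ : G → ℂ) n = (χ : G → ℂ) 1) = ∅ := by
    ext χ
    simp only [Finset.mem_filter, Finset.mem_univ, true_and, Finset.notMem_empty, iff_false, not_and]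
    intro hχ h
    obtain ⟨n, hn, hne⟩ := hcon χ hχ
    exact hne (h n hn)
  rw [h2, Finset.sum_empty, mul_zero] at h1
  obtain ⟨χ, rfl⟩ := id hB
  have h3 := blockCoeff_ne_zero_of_mem_blockKer (mem_blockOf_self (M := M) χ)
    (Subgroup.one_mem (blockKerSubgroup (blockOf M (χ : G → ℂ))))
  rw [blockCoeff_eq_sum] at h3
  exact h3 (by rw [h1, mul_zero])

end Degrees

end Cfsg.Agent.Lib.Blocks.Dominate
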