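import Mathlib
import Cfsg.Prelude.Def_Blocks
import Cfsg.Agent.Lib.Blocks.Regular
import Cfsg.Agent.Lib.Blocks.DefectAvg
import Cfsg.Agent.Lib.Blocks.HeightZero
import Cfsg.Agent.Lib.Blocks.Laradji
import Cfsg.Agent.Lib.Blocks.SecondMain
import Cfsg.Agent.Lib.Char.CompleteCor
import Cfsg.Agent.Lib.Char.Basic

/-!
# The regular norm of a character of height zero

* `zElt p χ`: the central element `∑_{y p-regular} conj (χ y) • y`.
* `regSum p χ ψ`: the sum `∑_{y p-regular} conj (χ y) * ψ y`; symmetric in `χ, ψ`, and zero if `χ, ψ` are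
  in different blocks.
* `classSum_eq_sum_zElt`: the class sum of a `p`-regular element is a local combination of the `zElt p χ`.
* `not_memLocalIdeal_omega_zElt_self`: if `χ` has height zero in its block then `omega χ (zElt p χ)` is a unit.
* `memLocalIdeal_omega_zElt_of_lt`: if `ν(ξ(1)) < ν(ξ'(1))` then `omega ξ (zElt p ξ')` lies in the local ideal.
-/

set_option autoImplicit false

namespace Cfsg.Agent.Lib.Blocks.RegNorm

open Cfsg Cfsg.Agent.Lib.Blocks.Local Cfsg.Agent.Lib.Blocks.Central Cfsg.Agent.Lib.Blocks.Osima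
  Cfsg.Agent.Lib.Blocks.Regular Cfsg.Agent.Lib.Blocks.HeightZero Cfsg.Agent.Lib.Blocks.Laradji
open scoped ComplexConjugate

universe u

variable {G : Type u} [Group G] [Fintype G] {M : Ideal AlgInt} [hMp : M.IsPrime] {p : ℕ} [hp : Fact p.Prime]

/-- The central element attached to the `p`-regular part of `conj χ`. -/
noncomputable def zElt (p : ℕ) (χ : G → ℂ) : MonoidAlgebra ℂ G := regElt p (fun y => conj (χ y))

lemma isClassFunction_conj {χ : G → ℂ} (hχ : IsIrrCharacter G χ) :
    IsClassFunction G (fun y => conj (χ y)) := by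
  intro g h
  simp only [isClassFunction_of_irr hχ g h]

lemma zElt_mem_localCenter {χ : G → ℂ} (hχ : IsIrrCharacter G χ) : zElt p χ ∈ localCenter G M := by
  refine ⟨isClassFunction_regElt (isClassFunction_conj hχ), fun g => ?_⟩
  rw [zElt, coeff_regElt]
  by_cases hg : p ∣ orderOf g
  · rw [reg_of_dvd _ hg]
    exact memLocalRing_zero
  · rw [reg_of_not_dvd _ hg, ← Cfsg.Agent.Lib.Char.Complete.isIrr_inv hχ]
    exact memLocalRing_of_isIntegral (isIntegral_irr hχ _)

/-- The regular sum. -/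
noncomputable def regSum (p : ℕ) (χ ψ : G → ℂ) : ℂ := ∑ y, reg p (fun y => conj (χ y)) y * ψ y

lemma omega_zElt (χ ψ : G → ℂ) : omega ψ (zElt p χ) = regSum p χ ψ / ψ 1 := by
  rw [zElt, omega_regElt, regSum]

lemma orderOf_inv_dvd {y : G} : p ∣ orderOf y⁻¹ ↔ p ∣ orderOf y := by
  rw [orderOf_inv]

lemma regSum_comm {χ ψ : G → ℂ} (hχ : IsIrrCharacter G χ) (hψ : IsIrrCharacter G ψ) :
    regSum p χ ψ = regSum p ψ χ := by
  rw [regSum, regSum]
  refine Fintype.sum_equiv (Equiv.inv G) _ _ fun y => ?_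
  simp only [Equiv.inv_apply, reg]
  by_cases hy : p ∣ orderOf y
  · rw [if_pos hy, if_pos (orderOf_inv_dvd.mpr hy), zero_mul, zero_mul]
  · rw [if_neg hy, if_neg (fun h => hy (orderOf_inv_dvd.mp h)), Cfsg.Agent.Lib.Char.Complete.isIrr_inv hψ,
      Cfsg.Agent.Lib.Char.Complete.isIrr_inv hχ, Complex.conj_conj, mul_comm]

lemma omega_zElt_eq_zero (hM : IsPModular p M) {χ ψ : IrrCharacter G}
    (h : ¬ SameBlock M (χ : G → ℂ) (ψ : G → ℂ)) : omega (χ : G → ℂ) (zElt p (ψ : G → ℂ)) = 0 :=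
  omega_regElt_conj_eq_zero hM h

/-- The class sum of a `p`-regular element is a combination of the elements `zElt p χ`. -/
theorem classSum_eq_sum_zElt {y : G} (hy : ¬ p ∣ orderOf y) (Q : Subgroup G) [Fintype Q]
    (hQp : IsPGroup p Q) (hQ : ∀ q ∈ Q, y * q = q * y) :
    classSum y = ∑ χ : IrrCharacter G,
      ((Nat.card (Subgroup.centralizer ({y} : Set G)) : ℂ)⁻¹ * ∑ q : Q, (χ : G → ℂ) (y * q)) •
        zElt p (χ : G → ℂ) := by
  classical
  have hC0 : (Nat.card (Subgroup.centralizer ({y} : Set G)) : ℂ) ≠ 0 :=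
    Nat.cast_ne_zero.mpr Nat.card_pos.ne'
  apply ext_coeff
  intro g
  have hcoef : (∑ χ : IrrCharacter G,
      ((Nat.card (Subgroup.centralizer ({y} : Set G)) : ℂ)⁻¹ * ∑ q : Q, (χ : G → ℂ) (y * q)) •
        zElt p (χ : G → ℂ)).coeff g = ∑ χ : IrrCharacter G,
      ((Nat.card (Subgroup.centralizer ({y} : Set G)) : ℂ)⁻¹ * ∑ q : Q, (χ : G → ℂ) (y * q)) *
        reg p (fun u => conj ((χ : G → ℂ) u)) g := by
    have h1 : ∀ (s : Finset (IrrCharacter G)) (f : IrrCharacter G → MonoidAlgebra ℂ G),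
        (∑ χ ∈ s, f χ).coeff g = ∑ χ ∈ s, (f χ).coeff g := by
      intro s f
      induction s using Finset.induction_on with
      | empty => simp
      | insert a s ha ih =>
        rw [Finset.sum_insert ha, Finset.sum_insert ha, MonoidAlgebra.coeff_add, Finsupp.add_apply, ih]
    rw [h1]
    refine Finset.sum_congr rfl fun χ _ => ?_
    rw [MonoidAlgebra.coeff_smul, Finsupp.smul_apply, zElt, coeff_regElt, smul_eq_mul]
  rw [hcoef]
  by_cases hg : p ∣ orderOf g
  · have hnc : ¬ IsConj y g := by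
      intro hc
      obtain ⟨c, rfl⟩ := isConj_iff.mp hc
      rw [orderOf_conj'] at hg
      exact hy hg
    rw [coeff_classSum_of_not_isConj hnc]
    symm
    apply Finset.sum_eq_zero
    intro χ _
    rw [reg_of_dvd _ hg, mul_zero]
  · have h1 : ∀ χ : IrrCharacter G,
        ((Nat.card (Subgroup.centralizer ({y} : Set G)) : ℂ)⁻¹ * ∑ q : Q, (χ : G → ℂ) (y * q)) *
          reg p (fun u => conj ((χ : G → ℂ) u)) g =
        (Nat.card (Subgroup.centralizer ({y} : Set G)) : ℂ)⁻¹ *
          ∑ q : Q, (χ : G → ℂ) (y * q) * conj ((χ : G → ℂ) g) := by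
      intro χ
      rw [reg_of_not_dvd _ hg, mul_assoc, Finset.sum_mul]
    rw [Finset.sum_congr rfl fun χ _ => h1 χ, ← Finset.mul_sum, Finset.sum_comm]
    -- the inner sums
    have h2 : ∀ q : Q, ∑ χ : IrrCharacter G, (χ : G → ℂ) (y * q) * conj ((χ : G → ℂ) g) =
        if (q : G) = 1 ∧ IsConj y g then (Nat.card (Subgroup.centralizer ({y} : Set G)) : ℂ) else 0 := by
      intro q
      by_cases hq : (q : G) = 1
      · by_cases hc : IsConj y g
        · rw [hq, mul_one, if_pos ⟨rfl, hc⟩]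
          exact Cfsg.Agent.Lib.Char.CompleteCor.column_orth_conj hc
        · rw [hq, mul_one, if_neg (fun h => hc h.2)]
          exact Cfsg.Agent.Lib.Char.CompleteCor.column_orth_not_conj hc
      · rw [if_neg (fun h => hq h.1)]
        apply Cfsg.Agent.Lib.Char.CompleteCor.column_orth_not_conj
        intro hc
        apply hg
        obtain ⟨c, hc⟩ := isConj_iff.mp hc
        rw [← hc, orderOf_conj']
        obtain ⟨k, hk⟩ := hQp q
        have h3 : orderOf (q : G) ∣ p ^ k := by
          apply orderOf_dvd_of_pow_eq_one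
          have := congrArg Subtype.val hk
          simpa using this
        obtain ⟨j, -, hqo⟩ := (Nat.dvd_prime_pow hp.out).mp h3
        have hcop : Nat.Coprime (orderOf y) (orderOf (q : G)) := by
          rw [hqo]
          exact Nat.Coprime.pow_right _ ((Nat.Prime.coprime_iff_not_dvd hp.out).mpr hy).symm
        have hcomm : Commute y (q : G) := hQ q q.2
        rw [hcomm.orderOf_mul_eq_mul_orderOf_of_coprime hcop]
        apply Dvd.dvd.mul_left
        have hne : orderOf (q : G) ≠ 1 := by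
          intro h1
          exact hq (orderOf_eq_one_iff.mp h1)
        rw [hqo] at hne ⊢
        apply dvd_pow_self
        intro h0
        rw [h0, pow_zero] at hne
        exact hne rfl
    rw [Finset.sum_congr rfl fun q _ => h2 q]
    by_cases hc : IsConj y g
    · rw [coeff_classSum_of_isConj hc]
      have h3 : ∑ q : Q, (if (q : G) = 1 ∧ IsConj y g then
          (Nat.card (Subgroup.centralizer ({y} : Set G)) : ℂ) else 0) =
          (Nat.card (Subgroup.centralizer ({y} : Set G)) : ℂ) := by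
        rw [Finset.sum_eq_single (1 : Q)]
        · rw [if_pos ⟨rfl, hc⟩]
        · intro q _ hq1
          rw [if_neg (fun h => hq1 (Subtype.ext h.1))]
        · intro h
          exact absurd (Finset.mem_univ _) h
      rw [h3, inv_mul_cancel₀ hC0]
    · rw [coeff_classSum_of_not_isConj hc]
      have h3 : ∑ q : Q, (if (q : G) = 1 ∧ IsConj y g then
          (Nat.card (Subgroup.centralizer ({y} : Set G)) : ℂ) else 0) = 0 := by
        apply Finset.sum_eq_zero
        intro q _
        rw [if_neg (fun h => hc h.2)]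
      rw [h3, mul_zero]

/-- Positive relative height forces `omega` into the local ideal. -/
theorem memLocalIdeal_omega_zElt_of_lt (hM : IsPModular p M) {ξ ξ' : IrrCharacter G}
    (h : (charDegree (ξ : G → ℂ)).factorization p < (charDegree (ξ' : G → ℂ)).factorization p) :
    MemLocalIdeal M (omega (ξ : G → ℂ) (zElt p (ξ' : G → ℂ))) := by
  have hc : ∀ τ : IrrCharacter G, ((charDegree (τ : G → ℂ) : ℕ) : ℂ) = (τ : G → ℂ) 1 := fun τ =>
    Cfsg.Agent.Lib.Char.Values.IsCharacter.charDegree_cast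
      (Cfsg.Agent.Lib.Char.Values.IsIrrCharacter.isCharacter τ.2)
  have h0 : ∀ τ : IrrCharacter G, charDegree (τ : G → ℂ) ≠ 0 := by
    intro τ h1
    apply Cfsg.Agent.Lib.Char.Ortho.irr_apply_one_ne_zero τ.2
    rw [← hc, h1]
    simp
  have h1 := memLocalIdeal_natCast_div (M := M) hM (h0 ξ) (h0 ξ') h
  have h2 : MemLocalRing M (omega (ξ' : G → ℂ) (zElt p (ξ : G → ℂ))) :=
    memLocalRing_omega ξ'.2 (zElt_mem_localCenter ξ.2)
  have h3 : omega (ξ : G → ℂ) (zElt p (ξ' : G → ℂ)) =
      ((charDegree (ξ' : G → ℂ) : ℕ) : ℂ) / ((charDegree (ξ : G → ℂ) : ℕ) : ℂ) *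
        omega (ξ' : G → ℂ) (zElt p (ξ : G → ℂ)) := by
    rw [omega_zElt, omega_zElt, hc, hc, regSum_comm ξ.2 ξ'.2]
    have h4 := Cfsg.Agent.Lib.Char.Ortho.irr_apply_one_ne_zero ξ.2
    have h5 := Cfsg.Agent.Lib.Char.Ortho.irr_apply_one_ne_zero ξ'.2
    field_simp
  rw [h3]
  exact memLocalIdeal_mul_right h1 h2

/-- **The regular norm of a character of height zero is a unit.** -/
theorem not_memLocalIdeal_omega_zElt_self (hM : IsPModular p M) {B : Set (IrrCharacter G)}
    (hB : IsPBlock M B) {χ₀ : IrrCharacter G} (hχ₀ : χ₀ ∈ B)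
    (h0 : blockHeight p B (χ₀ : G → ℂ) = 0) :
    ¬ MemLocalIdeal M (omega (χ₀ : G → ℂ) (zElt p (χ₀ : G → ℂ))) := by
  classical
  have hBχ : B = blockOf M (χ₀ : G → ℂ) := by
    obtain ⟨χ₂, rfl⟩ := hB
    exact (blockOf_eq_of_mem hχ₀).symm
  have hc : ∀ τ : IrrCharacter G, ((charDegree (τ : G → ℂ) : ℕ) : ℂ) = (τ : G → ℂ) 1 := fun τ =>
    Cfsg.Agent.Lib.Char.Values.IsCharacter.charDegree_cast
      (Cfsg.Agent.Lib.Char.Values.IsIrrCharacter.isCharacter τ.2)
  have hd0 : ∀ τ : IrrCharacter G, charDegree (τ : G → ℂ) ≠ 0 := by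
    intro τ h1
    apply Cfsg.Agent.Lib.Char.Ortho.irr_apply_one_ne_zero τ.2
    rw [← hc, h1]
    simp
  have hmin : ∀ χ ∈ B, (charDegree (χ₀ : G → ℂ)).factorization p ≤
      (charDegree (χ : G → ℂ)).factorization p := by
    intro χ hχ
    have h1 : sInf ((fun χ : IrrCharacter G => (charDegree (χ : G → ℂ)).factorization p) '' B) ≤
        (charDegree (χ : G → ℂ)).factorization p := Nat.sInf_le ⟨χ, hχ, rfl⟩
    rw [blockHeight] at h0
    omega
  -- the defect class and a Sylow subgroup of its centralizer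
  obtain ⟨y, hy⟩ := exists_isDefectClass (M := M) hB
  have hyreg : ¬ p ∣ orderOf y := isPRegular_of_isDefectClass hM hB hy
  obtain ⟨S⟩ : Nonempty (Sylow p (Subgroup.centralizer ({y} : Set G))) := inferInstance
  set Q : Subgroup G := (S : Subgroup (Subgroup.centralizer ({y} : Set G))).map
    (Subgroup.centralizer ({y} : Set G)).subtype with hQdef
  letI : Fintype Q := Fintype.ofFinite Q
  have hQp : IsPGroup p Q := S.isPGroup'.map _
  have hQ : ∀ q ∈ Q, y * q = q * y := by
    rintro _ ⟨s, -, rfl⟩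
    exact Subgroup.mem_centralizer_iff.mp s.2 y rfl
  have hQcard : Nat.card Q = Nat.card S :=
    Nat.card_congr (Subgroup.equivMapOfInjective _ _ Subtype.val_injective).toEquiv.symm
  have hidx : ¬ p ∣ (S : Subgroup (Subgroup.centralizer ({y} : Set G))).index := S.not_dvd_index
  -- the coefficients are local
  have hcoef : ∀ χ : IrrCharacter G, MemLocalRing M
      ((Nat.card (Subgroup.centralizer ({y} : Set G)) : ℂ)⁻¹ * ∑ q : Q, (χ : G → ℂ) (y * q)) := by
    intro χ
    obtain ⟨n, ρ, -, hρ⟩ := χ.2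
    have h1 := Cfsg.Agent.Lib.Blocks.DefectAvg.isIntegral_avg_character ρ Q y hQ
    rw [hρ] at h1
    have h2 : (Nat.card (Subgroup.centralizer ({y} : Set G)) : ℂ) =
        ((S : Subgroup (Subgroup.centralizer ({y} : Set G))).index : ℂ) * (Nat.card Q : ℂ) := by
      rw [hQcard, ← Nat.cast_mul]
      congr 1
      exact (Subgroup.index_mul_card _).symm
    rw [h2, mul_inv, mul_assoc]
    exact memLocalRing_mul (memLocalRing_inv_natCast hM hidx) (memLocalRing_of_isIntegral h1)
  have h1 : ¬ MemLocalIdeal M (omega (χ₀ : G → ℂ) (classSum y)) := by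
    rw [omega_classSum (isClassFunction_of_irr χ₀.2)]
    exact hy.2.2 χ₀ hχ₀
  rw [classSum_eq_sum_zElt hyreg Q hQp hQ, omega_sum] at h1
  obtain ⟨χ, hχ⟩ : ∃ χ : IrrCharacter G, ¬ MemLocalIdeal M (omega (χ₀ : G → ℂ)
      (zElt p (χ : G → ℂ))) := by
    by_contra hcon
    push Not at hcon
    apply h1
    apply memLocalIdeal_sum
    intro χ _
    rw [omega_smul]
    exact memLocalIdeal_mul_left (hcoef χ) (hcon χ)
  -- `χ` lies in the block
  have hsame : SameBlock M (χ₀ : G → ℂ) (χ : G → ℂ) := by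
    by_contra hne
    apply hχ
    rw [omega_zElt_eq_zero hM hne]
    exact memLocalIdeal_zero
  have hχB : χ ∈ B := by
    rw [hBχ]
    exact hsame
  have h3 : ¬ MemLocalIdeal M (omega (χ : G → ℂ) (zElt p (χ₀ : G → ℂ))) := by
    intro h4
    apply hχ
    have h5 : omega (χ₀ : G → ℂ) (zElt p (χ : G → ℂ)) =
        ((charDegree (χ : G → ℂ) : ℕ) : ℂ) / ((charDegree (χ₀ : G → ℂ) : ℕ) : ℂ) *
          omega (χ : G → ℂ) (zElt p (χ₀ : G → ℂ)) := by
      rw [omega_zElt, omega_zElt, hc, hc, regSum_comm χ₀.2 χ.2]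
      have h6 := Cfsg.Agent.Lib.Char.Ortho.irr_apply_one_ne_zero χ.2
      have h7 := Cfsg.Agent.Lib.Char.Ortho.irr_apply_one_ne_zero χ₀.2
      field_simp
    rw [h5]
    exact memLocalIdeal_mul_left (memLocalRing_natCast_div hM (hd0 χ₀) (hd0 χ) (hmin χ hχB)) h4
  intro h4
  apply h3
  have h5 := memLocalIdeal_omega_sub χ₀.2 χ.2 hsame (zElt_mem_localCenter (M := M) (p := p) χ₀.2)
  have h6 := memLocalIdeal_sub h4 h5
  convert h6 using 1
  ring

end Cfsg.Agent.Lib.Blocks.RegNorm
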