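import Mathlib
import Cfsg.Prelude.Def_Blocks
import Cfsg.Agent.Lib.Blocks.BrauerMap
import Cfsg.Agent.Lib.Blocks.SecondMain
import Cfsg.Agent.Lib.Blocks.HeightZero
import Cfsg.Agent.Lib.Blocks.Laradji

/-!
# The Brauer map and block induction

* `exists_brauer_of_coeff`: if the block idempotent of `B` has a unit coefficient on `C_G(P)`,
  there is an irreducible character `ξ` of `H` (`C_G(P) ≤ H ≤ N_G(P)`) with `ω_ξ ∘ Br ≡ ω_χ`, `χ ∈ B`.
* `isInducedBlock_of_brauer`, `brauer_of_isInducedBlock`.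
* `exists_induced_iff_exists_conj_le` (S0958).
-/

set_option autoImplicit false

namespace Cfsg.Agent.Lib.Blocks.BrauerCoeff

open Cfsg Cfsg.Agent.Lib.Blocks.Local Cfsg.Agent.Lib.Blocks.Central Cfsg.Agent.Lib.Blocks.Osima
  Cfsg.Agent.Lib.Blocks.Twisted Cfsg.Agent.Lib.Blocks.BrauerMap Cfsg.Agent.Lib.Blocks.BlockHom
  Cfsg.Agent.Lib.Blocks.SecondMain
open scoped Cfsg.Agent.Lib.Blocks.Central

universe u

variable {G : Type u} [Group G] [Fintype G] {M : Ideal AlgInt} [hMp : M.IsPrime] {p : ℕ} [hp : Fact p.Prime]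
variable {P H : Subgroup G} [Fintype H]

/-- Powers of an element congruent to its square modulo an ideal. -/
lemma coeffIn_pow_sub_of {I : Ideal (localRing M)} {y : MonoidAlgebra ℂ H}
    (hy : CoeffIn (⊤ : Ideal (localRing M)) y)
    (h2 : CoeffIn I (y - y * y)) (s : ℕ) : CoeffIn I (y ^ (s + 1) - y) := by
  induction s with
  | zero => simpa using coeffIn_zero
  | succ s ih =>
    have : y ^ (s + 1 + 1) - y = (y ^ (s + 1) - y) * y - (y - y * y) := by
      rw [pow_succ y (s + 1)]
      noncomm_ring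
    rw [this]
    exact (ih.mul_right hy).sub h2

/-- The Brauer image of a block idempotent: if it does not vanish modulo `M`, some irreducible
character of `H` has `ω_ξ ∘ Br ≡ ω_χ`. -/
theorem exists_brauer_of_coeff (hM : IsPModular p M) (hP : IsPGroup p P)
    (hCH : Subgroup.centralizer (P : Set G) ≤ H) (hHN : H ≤ Subgroup.normalizer (P : Set G))
    {B : Set (IrrCharacter G)} (hB : IsPBlock M B) {g : G} (hgC : g ∈ Subgroup.centralizer (P : Set G))
    (hg : ¬ MemLocalIdeal M (blockCoeff B g)) {χ : IrrCharacter G} (hχ : χ ∈ B) :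
    ∃ ξ : IrrCharacter H, ∀ z : localCenter G M,
      MemLocalIdeal M (omega (ξ : H → ℂ) (brauer P H z.1) - omega (χ : G → ℂ) z.1) := by
  classical
  have hBχ : B = blockOf M (χ : G → ℂ) := by
    obtain ⟨χ₂, rfl⟩ := hB
    exact (blockOf_eq_of_mem hχ).symm
  by_contra hcon
  push Not at hcon
  set a := blockElt B with ha_def
  have ha : a ∈ localCenter G M := blockElt_mem_localCenter hB
  set x := brauer P H a with hx_def
  have hx : x ∈ localCenter H M := brauer_mem_localCenter hHN ha
  have hωx : ∀ ξ : IrrCharacter H, MemLocalIdeal M (omega (ξ : H → ℂ) x) := by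
    intro ξ
    obtain ⟨χ₁, hχ₁⟩ := exists_irr_of_brauer hM hP hCH hHN ξ.2
    have hχ₁B : χ₁ ∉ B := by
      intro hmem
      obtain ⟨z, hz⟩ := hcon ξ
      apply hz
      have h1 := hχ₁ z
      have h2 : MemLocalIdeal M (omega (χ₁ : G → ℂ) z.1 - omega (χ : G → ℂ) z.1) := by
        rw [hBχ] at hmem
        exact memLocalIdeal_omega_sub χ₁.2 χ.2 (sameBlock_symm hmem) z.2
      have h3 := memLocalIdeal_add h1 h2
      convert h3 using 1
      ring
    have h1 := hχ₁ ⟨a, ha⟩
    simp only at h1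
    rw [ha_def, omega_blockElt_of_notMem hχ₁B, sub_zero] at h1
    exact h1
  obtain ⟨t, ht0, hxt⟩ := exists_pow_coeffIn_of_omega hx hωx
  have hxΛ := coeffIn_top_iff.mpr hx.2
  have h2 : CoeffIn (localIdeal M) (x - x * x) := by
    rw [coeffIn_localIdeal_iff]
    intro h
    have h3 := brauer_mul_sub_coeff hM hP hCH ha ha h
    rw [ha_def, blockElt_mul_self] at h3
    exact h3
  obtain ⟨s, rfl⟩ := Nat.exists_eq_succ_of_ne_zero ht0.ne'
  have h3 := coeffIn_pow_sub_of hxΛ h2 s
  have h4 : CoeffIn (localIdeal M) x := by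
    have := hxt.sub h3
    simpa using this
  rw [coeffIn_localIdeal_iff] at h4
  have h5 := h4 ⟨g, hCH hgC⟩
  rw [hx_def, coeff_brauer, if_pos hgC] at h5
  apply hg
  rw [ha_def, coeff_blockElt] at h5
  exact h5

/-- From the Brauer form to an induced block. -/
theorem isInducedBlock_of_brauer (hM : IsPModular p M) (hP : IsPGroup p P) (hPH : P ≤ H)
    (hHN : H ≤ Subgroup.normalizer (P : Set G)) {ξ : IrrCharacter H} {χ : IrrCharacter G}
    (h : ∀ z : localCenter G M, MemLocalIdeal M (omega (ξ : H → ℂ) (brauer P H z.1) - omega (χ : G → ℂ) z.1)) :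
    IsInducedBlock M H (blockOf M (ξ : H → ℂ)) (blockOf M (χ : G → ℂ)) := by
  refine ⟨⟨ξ, rfl⟩, ⟨χ, rfl⟩, fun ξ' hξ' χ' hχ' g => ?_⟩
  have h1 := memLocalIdeal_induced_sub_brauer hM hP hPH hHN ξ'.2 g
  rw [brauerCentralChar_eq_omega] at h1
  have ha : brauer P H (classSum g) ∈ localCenter H M :=
    brauer_mem_localCenter hHN (classSum_mem_localCenter g)
  have h2 := memLocalIdeal_omega_sub ξ'.2 ξ.2 (sameBlock_symm hξ') ha
  have h3 := h ⟨_, classSum_mem_localCenter g⟩
  simp only at h3
  rw [omega_classSum (isClassFunction_of_irr χ.2)] at h3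
  have h4 : MemLocalIdeal M (centralChar (χ : G → ℂ) g - centralChar (χ' : G → ℂ) g) := hχ' g
  have h5 := memLocalIdeal_add h1 (memLocalIdeal_add h2 (memLocalIdeal_add h3 h4))
  convert h5 using 1
  ring

omit [Fintype H] in
lemma brauer_sum [Fintype H] {ι : Type*} (s : Finset ι) (f : ι → MonoidAlgebra ℂ G) :
    brauer P H (∑ i ∈ s, f i) = ∑ i ∈ s, brauer P H (f i) := by
  classical
  induction s using Finset.induction_on with
  | empty => simp [brauer_zero]
  | insert a s ha ih => rw [Finset.sum_insert ha, Finset.sum_insert ha, brauer_add, ih]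

/-- The central character of a Brauer image in terms of Brauer central characters. -/
theorem omega_brauer (ξ : H → ℂ) {a : MonoidAlgebra ℂ G} (ha : IsClassFunction G a.coeff) :
    omega ξ (brauer P H a) = ∑ K : ConjClasses G, a.coeff K.out * brauerCentralChar P H ξ K.out := by
  conv_lhs => rw [eq_sum_classSum ha]
  rw [brauer_sum, omega_sum]
  refine Finset.sum_congr rfl fun K _ => ?_
  rw [brauer_smul, omega_smul, brauerCentralChar_eq_omega]

/-- From an induced block to the Brauer form. -/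
theorem brauer_of_isInducedBlock (hM : IsPModular p M) (hP : IsPGroup p P) (hPH : P ≤ H)
    (hHN : H ≤ Subgroup.normalizer (P : Set G)) {ξ : IrrCharacter H} {χ : IrrCharacter G}
    (h : ∀ g : G, MemLocalIdeal M (inducedCentralChar H (ξ : H → ℂ) g - centralChar (χ : G → ℂ) g))
    (z : localCenter G M) :
    MemLocalIdeal M (omega (ξ : H → ℂ) (brauer P H z.1) - omega (χ : G → ℂ) z.1) := by
  rw [omega_brauer _ z.2.1, omega_eq_sum_centralChar (isClassFunction_of_irr χ.2) z.2.1,
    ← Finset.sum_sub_distrib]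
  refine memLocalIdeal_sum _ _ fun K _ => ?_
  rw [← mul_sub]
  refine memLocalIdeal_mul_left (z.2.2 _) ?_
  have h1 := memLocalIdeal_induced_sub_brauer hM hP hPH hHN ξ.2 K.out
  have h2 := memLocalIdeal_sub (h K.out) h1
  convert h2 using 1
  ring

/-- If `b` induces `B`, the block idempotent of `B` has a unit coefficient on `C_G(P)`. -/
theorem exists_coeff_of_isInducedBlock (hM : IsPModular p M) (hP : IsPGroup p P) (hPH : P ≤ H)
    (hHN : H ≤ Subgroup.normalizer (P : Set G)) {ξ : IrrCharacter H} {χ : IrrCharacter G}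
    (h : ∀ g : G, MemLocalIdeal M (inducedCentralChar H (ξ : H → ℂ) g - centralChar (χ : G → ℂ) g)) :
    ∃ g ∈ Subgroup.centralizer (P : Set G), ¬ MemLocalIdeal M (blockCoeff (blockOf M (χ : G → ℂ)) g) := by
  classical
  by_contra hcon
  push Not at hcon
  have hBl : IsPBlock M (blockOf M (χ : G → ℂ)) := ⟨χ, rfl⟩
  have ha := blockElt_mem_localCenter hBl
  have h1 := brauer_of_isInducedBlock hM hP hPH hHN h ⟨_, ha⟩
  simp only at h1
  rw [omega_blockElt_of_mem (mem_blockOf_self χ)] at h1
  have h2 : MemLocalIdeal M (omega (ξ : H → ℂ) (brauer P H (blockElt (blockOf M (χ : G → ℂ))))) := by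
    apply memLocalIdeal_omega_of_coeff ξ.2 (brauer_mem_localCenter hHN ha).1
    intro k
    rw [coeff_brauer]
    split_ifs with hk
    · rw [coeff_blockElt]
      exact hcon _ hk
    · exact memLocalIdeal_zero
  have h3 := memLocalIdeal_sub h2 h1
  apply not_memLocalIdeal_one (M := M)
  convert h3 using 1
  ring

end Cfsg.Agent.Lib.Blocks.BrauerCoeff
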