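import Mathlib
import Cfsg.Prelude.Def_BlockRank
import Cfsg.Agent.Lib.Blocks.RegNorm
import Cfsg.Agent.Lib.Blocks.Sections
import Cfsg.Agent.Lib.Char.PRegular
import Cfsg.Agent.Lib.Char.Virtual
import Cfsg.Agent.S4499

/-!
# The regular part of a character in a block

* `exists_int_pow_defect_mul`: for `ψ` in the block `B` of defect `d`, `p^d * [χ⁰, ψ]` is an integer.
* `reg_eq_sum_block`: `χ⁰ = ∑_{τ ∈ B} [χ⁰, τ] τ` for `χ ∈ B`.
-/

set_option autoImplicit false

namespace Cfsg.Agent.Lib.Blocks.Cartan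

open Cfsg Cfsg.Agent.Lib.Blocks.Local Cfsg.Agent.Lib.Blocks.Central Cfsg.Agent.Lib.Blocks.Osima
  Cfsg.Agent.Lib.Blocks.Regular Cfsg.Agent.Lib.Blocks.RegNorm
  Cfsg.Agent.Lib.Blocks.HeightZero Cfsg.Agent.Lib.Blocks.Laradji
open scoped ComplexConjugate

universe u

variable {G : Type u} [Group G] [Fintype G] {M : Ideal AlgInt} [hMp : M.IsPrime] {p : ℕ} [hp : Fact p.Prime]

lemma pRegularPart_eq_reg (p : ℕ) (f : G → ℂ) : pRegularPart p f = reg p f := by
  classical
  funext g
  by_cases hg : p ∣ orderOf g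
  · rw [reg_of_dvd _ hg]
    simp [pRegularPart, IsPRegular, hg]
  · rw [reg_of_not_dvd _ hg]
    simp [pRegularPart, IsPRegular, hg]

/-- An element of the local ring with `p^k w` an integer is an integer. -/
lemma exists_int_of_memLocalRing (hM : IsPModular p M) {w : ℂ} (hw : MemLocalRing M w) (k : ℕ) :
    ∀ n : ℤ, (p : ℂ) ^ k * w = (n : ℂ) → ∃ n' : ℤ, w = (n' : ℂ) := by
  induction k with
  | zero =>
    intro n h
    exact ⟨n, by simpa using h⟩
  | succ k ih =>
    intro n h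
    have h1 : MemLocalIdeal M (n : ℂ) := by
      rw [← h, pow_succ', mul_assoc]
      exact memLocalIdeal_mul_right (memLocalIdeal_natCast_self hM)
        (memLocalRing_mul (memLocalRing_pow (memLocalRing_natCast p) k) hw)
    obtain ⟨m, rfl⟩ := (memLocalIdeal_intCast_iff hM).mp h1
    have hp0 : (p : ℂ) ≠ 0 := by exact_mod_cast hp.out.ne_zero
    apply ih m
    apply mul_left_cancel₀ hp0
    rw [← mul_assoc, ← pow_succ', h]
    push_cast
    ring

/-- The regular inner product in terms of the central character. -/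
lemma classInner_reg_eq_omega (χ ψ : IrrCharacter G) :
    classInner (reg p (χ : G → ℂ)) (ψ : G → ℂ) =
      (Nat.card G : ℂ)⁻¹ * ((ψ : G → ℂ) 1 * omega (ψ : G → ℂ) (zElt p (χ : G → ℂ))) := by
  have h1 := Cfsg.Agent.Lib.Char.Ortho.irr_apply_one_ne_zero ψ.2
  rw [omega_zElt, mul_div_cancel₀ _ h1, regSum_comm χ.2 ψ.2, regSum, classInner]
  congr 1
  refine Finset.sum_congr rfl fun y _ => ?_
  by_cases hy : p ∣ orderOf y
  · rw [reg_of_dvd _ hy, reg_of_dvd _ hy]
    simp
  · rw [reg_of_not_dvd _ hy, reg_of_not_dvd _ hy, mul_comm]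

/-- The integer `p^a [χ⁰, ψ]`. -/
lemma exists_int_pow_mul (χ ψ : IrrCharacter G) :
    ∃ n : ℤ, (p : ℂ) ^ (Nat.card G).factorization p * classInner (reg p (χ : G → ℂ)) (ψ : G → ℂ) = n := by
  classical
  have hgen := Cfsg.Agent.Lib.Char.PRegular.isGeneralized_pRegular p
    (Cfsg.Agent.Lib.Char.Basic.isCharacter_of_isIrrCharacter χ.2)
  obtain ⟨n, hn⟩ := Cfsg.Agent.S4499.exists_int_classInner hgen ψ
  refine ⟨n, ?_⟩
  rw [← hn, classInner, classInner, mul_left_comm, Finset.mul_sum]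
  congr 1
  refine Finset.sum_congr rfl fun y _ => ?_
  by_cases hy : p ∣ orderOf y
  · rw [reg_of_dvd _ hy, if_pos hy]
    simp
  · rw [reg_of_not_dvd _ hy, if_neg hy]
    push_cast
    ring

/-- **Brauer**: for `ψ` in a block of defect `d`, the number `p^d [χ⁰, ψ]` is an integer. -/
theorem exists_int_pow_defect_mul (hM : IsPModular p M) {B : Set (IrrCharacter G)} (χ : IrrCharacter G)
    {ψ : IrrCharacter G} (hψ : ψ ∈ B) :
    ∃ n : ℤ, (p : ℂ) ^ blockDefect p B * classInner (reg p (χ : G → ℂ)) (ψ : G → ℂ) = n := by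
  classical
  set r := classInner (reg p (χ : G → ℂ)) (ψ : G → ℂ) with hr
  set a := (Nat.card G).factorization p with ha
  set d := blockDefect p B with hd
  have hdeg : ((charDegree (ψ : G → ℂ) : ℕ) : ℂ) = (ψ : G → ℂ) 1 :=
    Cfsg.Agent.Lib.Char.Values.IsCharacter.charDegree_cast
      (Cfsg.Agent.Lib.Char.Values.IsIrrCharacter.isCharacter ψ.2)
  have hdeg0 : charDegree (ψ : G → ℂ) ≠ 0 := by
    intro h1
    apply Cfsg.Agent.Lib.Char.Ortho.irr_apply_one_ne_zero ψ.2
    rw [← hdeg, h1]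
    simp
  have hinf : sInf ((fun τ : IrrCharacter G => (charDegree (τ : G → ℂ)).factorization p) '' B) ≤
      (charDegree (ψ : G → ℂ)).factorization p := Nat.sInf_le ⟨ψ, hψ, rfl⟩
  have hda : d ≤ a := by rw [hd, blockDefect]; omega
  have hle : a ≤ d + (charDegree (ψ : G → ℂ)).factorization p := by
    rw [hd, blockDefect]; omega
  have hG0 : Nat.card G ≠ 0 := Nat.card_pos.ne'
  have hloc : MemLocalRing M ((((p ^ d * charDegree (ψ : G → ℂ) : ℕ)) : ℂ) / (Nat.card G : ℂ)) := by
    apply memLocalRing_natCast_div hM hG0 (mul_ne_zero (pow_ne_zero _ hp.out.ne_zero) hdeg0)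
    rw [Nat.factorization_mul (pow_ne_zero _ hp.out.ne_zero) hdeg0, Nat.factorization_pow]
    simp only [Finsupp.add_apply, Finsupp.smul_apply, Nat.Prime.factorization_self hp.out, smul_eq_mul,
      mul_one]
    omega
  have hw : MemLocalRing M ((p : ℂ) ^ d * r) := by
    have h1 : (p : ℂ) ^ d * r = (((p ^ d * charDegree (ψ : G → ℂ) : ℕ)) : ℂ) / (Nat.card G : ℂ) *
        omega (ψ : G → ℂ) (zElt p (χ : G → ℂ)) := by
      rw [hr, classInner_reg_eq_omega]
      push_cast
      rw [hdeg]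
      field_simp
    rw [h1]
    exact memLocalRing_mul hloc (memLocalRing_omega ψ.2 (zElt_mem_localCenter χ.2))
  obtain ⟨n, hn⟩ := exists_int_pow_mul (p := p) χ ψ
  obtain ⟨n', hn'⟩ := exists_int_of_memLocalRing hM hw (a - d) n (by
    rw [← mul_assoc, ← pow_add, Nat.sub_add_cancel hda]
    exact hn)
  exact ⟨n', hn'⟩

/-- The regular part of a member of a block expands along the block. -/
theorem reg_eq_sum_block (hM : IsPModular p M) {B : Set (IrrCharacter G)} (hB : IsPBlock M B)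
    {χ : IrrCharacter G} (hχ : χ ∈ B) [DecidablePred (· ∈ B)] (g : G) :
    reg p (χ : G → ℂ) g = ∑ τ ∈ Finset.univ.filter (· ∈ B),
      classInner (reg p (χ : G → ℂ)) (τ : G → ℂ) * (τ : G → ℂ) g := by
  classical
  have h1 := Cfsg.Agent.Lib.Char.Complete.eq_sum_classInner (reg p (χ : G → ℂ))
    (isClassFunction_reg (isClassFunction_of_irr χ.2))
  have h2 := congrFun h1 g
  rw [Finset.sum_apply] at h2
  rw [h2, Finset.sum_filter]
  refine Finset.sum_congr rfl fun τ _ => ?_
  by_cases hτ : τ ∈ B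
  · rw [if_pos hτ]
    rfl
  · rw [if_neg hτ]
    have hns : ¬ SameBlock M (χ : G → ℂ) (τ : G → ℂ) := by
      intro hs
      apply hτ
      obtain ⟨χ₀, rfl⟩ := hB
      exact sameBlock_trans hχ hs
    show classInner _ _ • (τ : G → ℂ) g = 0
    rw [classInner_reg_eq_zero hM hns, zero_smul]

end Cfsg.Agent.Lib.Blocks.Cartan
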