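import Mathlib
import Cfsg.Agent.Lib.Char.GaloisC

/-!
# Galois averaging

If `x i` are nonzero integer combinations of `n`-th roots of unity with `∑ i, x i * conj (x i) = R`, a natural
number, then the number of indices is at most `R`: apply all the Galois automorphisms and the inequality between
arithmetic and geometric means.
-/

set_option autoImplicit false

namespace Cfsg.Agent.Lib.Blocks.GaloisAvg

open Cfsg.Agent.Lib.Char.Galois
open scoped ComplexConjugate

/-- The integer combinations of `n`-th roots of unity. -/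
def rootSums (n : ℕ) : AddSubgroup ℂ := AddSubgroup.closure {z : ℂ | z ^ n = 1}

lemma root_mem_rootSums {n : ℕ} {z : ℂ} (hz : z ^ n = 1) : z ∈ rootSums n :=
  AddSubgroup.subset_closure hz

/-- Every element of `rootSums n` is a finite sum of `2 n`-th roots of unity. -/
theorem exists_sum_of_mem {n : ℕ} {x : ℂ} (hx : x ∈ rootSums n) :
    ∃ (ι : Type) (_ : Fintype ι) (z : ι → ℂ), (∀ i, z i ^ (2 * n) = 1) ∧ x = ∑ i, z i := by
  induction hx using AddSubgroup.closure_induction with
  | mem z hz =>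
    refine ⟨Unit, inferInstance, fun _ => z, fun _ => ?_, by simp⟩
    have hz' : z ^ n = 1 := hz
    rw [mul_comm, pow_mul, hz', one_pow]
  | zero => exact ⟨Empty, inferInstance, fun e => e.elim, fun e => e.elim, by simp⟩
  | add a b _ _ ha hb =>
    obtain ⟨ι, hι, z, hz, rfl⟩ := ha
    obtain ⟨κ, hκ, w, hw, rfl⟩ := hb
    refine ⟨ι ⊕ κ, inferInstance, Sum.elim z w, ?_, by simp⟩
    rintro (i | j)
    · exact hz i
    · exact hw j
  | neg a _ ha =>
    obtain ⟨ι, hι, z, hz, rfl⟩ := ha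
    refine ⟨ι, hι, fun i => - z i, fun i => ?_, by simp⟩
    rw [neg_pow, hz i, mul_one, pow_mul]
    simp

lemma conj_root {n : ℕ} {z : ℂ} (hz : z ^ n = 1) : (conj z) ^ n = 1 := by
  rw [← map_pow, hz, map_one]

/-- **Galois averaging.** -/
theorem card_le_of_sum_mul_conj {n : ℕ} (hn : 0 < n) {S : Type*} [Fintype S] (x : S → ℂ)
    (hx : ∀ i, x i ∈ rootSums n) (h0 : ∀ i, x i ≠ 0) (R : ℕ)
    (hR : ∑ i, x i * conj (x i) = R) : Fintype.card S ≤ R := by
  classical
  set N := 2 * n with hN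
  have hNpos : 0 < N := by omega
  haveI : NeZero N := ⟨hNpos.ne'⟩
  set U := (ZMod N)ˣ with hU
  have hτ : ∀ u : U, ∃ τ : ℂ →+* ℂ, ∀ ε : ℂ, ε ^ N = 1 → τ ε = ε ^ (u : ZMod N).val := fun u =>
    exists_ringHom_pow N hNpos _ (ZMod.val_coe_unit_coprime u)
  choose τ hτ using hτ
  -- the action on a sum of roots of unity
  have hconj : ∀ (u : U) {y : ℂ}, y ∈ rootSums n → τ u (conj y) = conj (τ u y) := by
    intro u y hy
    obtain ⟨ι, hι, z, hz, rfl⟩ := exists_sum_of_mem hy
    rw [map_sum, map_sum, map_sum, map_sum]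
    refine Finset.sum_congr rfl fun i _ => ?_
    rw [hτ u _ (conj_root (hz i)), hτ u _ (hz i), map_pow]
  -- the lower bound
  have hlow : ∀ {y : ℂ}, y ∈ rootSums n → y ≠ 0 → (Fintype.card U : ℝ) ≤ ∑ u : U, ‖τ u y‖ ^ 2 := by
    intro y hy hy0
    obtain ⟨ι, hι, z, hz, rfl⟩ := exists_sum_of_mem hy
    obtain ⟨m, hm⟩ := prod_int N z hz
    have h1 : ∀ u : U, τ u (∑ i, z i) = ∑ i, z i ^ (u : ZMod N).val := by
      intro u
      rw [map_sum]
      exact Finset.sum_congr rfl fun i _ => hτ u _ (hz i)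
    have h2 : ∏ u : U, τ u (∑ i, z i) = m := by
      rw [← hm]
      exact Finset.prod_congr rfl fun u _ => h1 u
    have h3 : (m : ℂ) ≠ 0 := by
      rw [← h2]
      exact Finset.prod_ne_zero_iff.mpr fun u _ => (map_ne_zero (τ u)).mpr hy0
    have h4 : m ≠ 0 := by exact_mod_cast h3
    have h5 : (1 : ℝ) ≤ ∏ u : U, ‖τ u (∑ i, z i)‖ := by
      rw [← norm_prod, h2, Complex.norm_intCast]
      exact_mod_cast Int.one_le_abs h4
    apply Cfsg.Agent.Lib.Char.GaloisC.card_le_sum_of_one_le_prod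
    · intro u
      positivity
    · rw [Finset.prod_pow]
      exact one_le_pow₀ h5
  -- summing
  have hsum : ∀ u : U, ∑ i, ‖τ u (x i)‖ ^ 2 = (R : ℝ) := by
    intro u
    have h1 := congrArg (τ u) hR
    rw [map_sum, map_natCast] at h1
    have h2 : ∀ i, τ u (x i * conj (x i)) = ((‖τ u (x i)‖ ^ 2 : ℝ) : ℂ) := by
      intro i
      rw [map_mul, hconj u (hx i), Complex.mul_conj, Complex.normSq_eq_norm_sq]
    simp only [h2] at h1
    exact_mod_cast h1
  have hUpos : (0 : ℝ) < Fintype.card U := by exact_mod_cast Fintype.card_pos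
  have htot : (Fintype.card S : ℝ) * Fintype.card U ≤ R * Fintype.card U := by
    calc (Fintype.card S : ℝ) * Fintype.card U = ∑ _i : S, (Fintype.card U : ℝ) := by
          rw [Finset.sum_const, Finset.card_univ, nsmul_eq_mul]
      _ ≤ ∑ i : S, ∑ u : U, ‖τ u (x i)‖ ^ 2 :=
          Finset.sum_le_sum fun i _ => hlow (hx i) (h0 i)
      _ = ∑ u : U, ∑ i : S, ‖τ u (x i)‖ ^ 2 := Finset.sum_comm
      _ = R * Fintype.card U := by
          simp only [hsum, Finset.sum_const, Finset.card_univ, nsmul_eq_mul]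
          ring
  have h6 := le_of_mul_le_mul_right htot hUpos
  exact_mod_cast h6

end Cfsg.Agent.Lib.Blocks.GaloisAvg
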