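import Mathlib
import Cfsg.Prelude.Def_Characters
import Cfsg.Agent.Lib.Char.Complete

/-!
# Parseval for class functions
-/

set_option autoImplicit false

namespace Cfsg.Agent.Lib.Blocks.Parseval

open Cfsg

universe u

variable {G : Type u} [Group G] [Fintype G] [Fintype (IrrCharacter G)]

/-- **Parseval.** For class functions, the inner product is computed on the irreducible components. -/
theorem classInner_eq_sum_irr {φ : G → ℂ} (hφ : IsClassFunction G φ) (ψ : G → ℂ) :
    classInner φ ψ = ∑ χ : IrrCharacter G, classInner φ (χ : G → ℂ) * classInner (χ : G → ℂ) ψ := by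
  conv_lhs => rw [Cfsg.Agent.Lib.Char.Complete.eq_sum_classInner φ hφ]
  rw [Cfsg.Agent.Lib.Char.Complete.classInner_sum_left]
  refine Finset.sum_congr rfl fun χ _ => ?_
  rw [Cfsg.Agent.Lib.Char.Complete.classInner_smul_left]

end Cfsg.Agent.Lib.Blocks.Parseval
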