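import Mathlib
import Cfsg.Prelude.Def_Blocks
import Cfsg.Agent.Lib.Blocks.Regular
import Cfsg.Agent.Lib.Blocks.Parseval
import Cfsg.Agent.Lib.Char.BrauerInd
import Cfsg.Agent.Lib.Char.IndRep
import Cfsg.Agent.Lib.Char.Induced
import Cfsg.Agent.Lib.Char.Ortho

/-!
# `|P| • reg p χ` is a generalized character

By Brauer's characterization of generalized characters:
* `isGeneralized_pow_reg_one`: `p^ν • (indicator of the p-regular elements)` is a generalized character.
* `isGeneralized_pow_reg`: the same for `p^ν • reg p χ`, `χ` a character.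
* `exists_int_pow_mul_classInner_reg`: `p^ν * ⟨reg p χ, ψ⟩` is an integer.
-/

set_option autoImplicit false

namespace Cfsg.Agent.Lib.Blocks.RegLift

open Cfsg Cfsg.Agent.Lib.Blocks.Regular Cfsg.Agent.Lib.Char.BrauerInd

universe u

section Complement

variable {E : Type u} [Group E] [Finite E] {p q : ℕ}

/-- An elementary group has a normal `p`-complement. -/
theorem exists_normal_pComplement [hp : Fact p.Prime] (hq : q.Prime) (h : IsElementary q E) :
    ∃ H : Subgroup E, H.Normal ∧ ¬ p ∣ Nat.card H ∧ ∃ k, H.index = p ^ k := by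
  obtain ⟨x, hx, hcop, k, hk⟩ := h
  have hxn : ∀ n : ℤ, ∀ g : E, g * x ^ n * g⁻¹ = x ^ n := by
    intro n g
    rw [Subgroup.mem_center_iff] at hx
    have h1 : Commute g (x ^ n) := (Commute.zpow_right (hx g) n)
    rw [h1.eq, mul_inv_cancel_right]
  by_cases hpq : p = q
  · subst hpq
    refine ⟨Subgroup.zpowers x, ?_, ?_, k, hk⟩
    · refine ⟨fun y hy g => ?_⟩
      obtain ⟨i, rfl⟩ := Subgroup.mem_zpowers_iff.mp hy
      rw [hxn]
      exact Subgroup.zpow_mem_zpowers x i
    · rw [Nat.card_zpowers]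
      exact (Nat.Prime.coprime_iff_not_dvd hp.out).1 hcop.symm
  · -- the `p`-part of `x`
    have ho : orderOf x ≠ 0 := (orderOf_pos x).ne'
    obtain ⟨a, c, hc, hac⟩ := Nat.exists_eq_pow_mul_and_not_dvd ho p hp.out.ne_one
    have hcdvd : c ∣ orderOf x := ⟨p ^ a, by rw [hac]; ring⟩
    have hc0 : c ≠ 0 := fun h0 => hc (h0 ▸ dvd_zero p)
    have hord : orderOf (x ^ c) = p ^ a := by
      rw [orderOf_pow_of_dvd hc0 hcdvd, hac]
      rw [Nat.mul_div_cancel _ (Nat.pos_of_ne_zero hc0)]
    set C : Subgroup E := Subgroup.zpowers (x ^ c) with hC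
    have hCcard : Nat.card C = p ^ a := by rw [hC, Nat.card_zpowers, hord]
    have hCcentral : ∀ y ∈ C, ∀ g : E, g * y * g⁻¹ = y := by
      intro y hy g
      obtain ⟨i, rfl⟩ := Subgroup.mem_zpowers_iff.mp hy
      have : (x ^ c) ^ i = x ^ ((c : ℤ) * i) := by rw [zpow_mul, zpow_natCast]
      rw [this, hxn]
    haveI hCnorm : C.Normal := ⟨fun y hy g => by rw [hCcentral y hy g]; exact hy⟩
    have hindex : C.index = q ^ k * c := by
      have h1 := Subgroup.card_mul_index C
      have h2 := Subgroup.card_mul_index (Subgroup.zpowers x)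
      rw [Nat.card_zpowers, hk] at h2
      rw [hCcard] at h1
      have hpos : 0 < p ^ a := pow_pos hp.out.pos a
      apply Nat.eq_of_mul_eq_mul_left hpos
      rw [h1, ← h2, hac]
      ring
    have hcoprime : Nat.Coprime (Nat.card C) C.index := by
      rw [hCcard, hindex]
      apply Nat.Coprime.pow_left
      apply Nat.Coprime.mul_right
      · exact Nat.Coprime.pow_right _ ((Nat.coprime_primes hp.out hq).2 hpq)
      · exact (Nat.Prime.coprime_iff_not_dvd hp.out).2 hc
    obtain ⟨H, hH⟩ := Subgroup.exists_right_complement'_of_coprime hcoprime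
    have hcardH : Nat.card H = q ^ k * c := by
      have h1 := hH.card_mul_card
      have h2 := Subgroup.card_mul_index C
      rw [← hindex]
      apply Nat.eq_of_mul_eq_mul_left (Nat.card_pos (α := C))
      rw [h1, h2]
    refine ⟨H, ⟨fun y hy g => ?_⟩, ?_, a, ?_⟩
    · obtain ⟨⟨c₀, h₀⟩, hg, -⟩ := hH.existsUnique g
      simp only at hg
      have hc₀ := hCcentral c₀ c₀.2
      have : g * y * g⁻¹ = (h₀ : E) * y * (h₀ : E)⁻¹ := by
        rw [← hg]
        set w : E := (h₀ : E) * y * (h₀ : E)⁻¹ with hw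
        have h1 := hc₀ w
        have h2 : (c₀ : E) * w * (c₀ : E)⁻¹ = w := by
          calc (c₀ : E) * w * (c₀ : E)⁻¹ = (w * (c₀ : E) * w⁻¹) * w * (c₀ : E)⁻¹ := by rw [h1]
            _ = w := by group
        rw [← h2, hw]
        group
      rw [this]
      exact H.mul_mem (H.mul_mem h₀.2 hy) (H.inv_mem h₀.2)
    · rw [hcardH]
      intro hd
      rcases (Nat.Prime.dvd_mul hp.out).1 hd with h1 | h1
      · exact hpq ((Nat.prime_dvd_prime_iff_eq hp.out hq).1 (hp.out.dvd_of_dvd_pow h1))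
      · exact hc h1
    · rw [hH.index_eq_card, hCcard]

/-- In a group with normal `p`-complement `H`, the `p`-regular elements are the elements of `H`. -/
theorem mem_iff_not_dvd_of_complement [hp : Fact p.Prime] {H : Subgroup E} [hn : H.Normal] (hH : ¬ p ∣ Nat.card H)
    {k : ℕ} (hk : H.index = p ^ k) (y : E) : y ∈ H ↔ ¬ p ∣ orderOf y := by
  constructor
  · intro hy hd
    exact hH (hd.trans (Subgroup.orderOf_dvd_natCard H hy))
  · intro hd
    have h1 : y ^ (p ^ k) ∈ H := by
      rw [← hk]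
      exact Subgroup.pow_index_mem H y
    have hcop : Nat.Coprime (p ^ k) (orderOf y) :=
      Nat.Coprime.pow_left _ ((Nat.Prime.coprime_iff_not_dvd hp.out).2 hd)
    obtain ⟨m, hm⟩ := exists_pow_eq_self_of_coprime hcop
    rw [← hm]
    exact H.pow_mem h1 m

end Complement

section Induced

variable {E : Type u} [Group E] [Fintype E]

open Classical in
/-- The permutation character on the cosets of a normal subgroup. -/
theorem indFun_one_of_normal (H : Subgroup E) [hn : H.Normal] (y : E) :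
    indFun H (fun _ => (1 : ℂ)) y = if y ∈ H then (H.index : ℂ) else 0 := by
  classical
  rw [Cfsg.Agent.Lib.Char.Induced.indFun_apply]
  have hconj : ∀ x : E, x⁻¹ * y * x ∈ H ↔ y ∈ H := by
    intro x
    have := hn.mem_comm_iff (a := x⁻¹ * y) (b := x)
    rw [this]
    simp
  split_ifs with hy
  · have h1 : ∀ x : E, extendByZero H (fun _ => (1 : ℂ)) (x⁻¹ * y * x) = 1 := by
      intro x
      rw [Cfsg.Agent.Lib.Char.Induced.extendByZero_of_mem _ _ ((hconj x).2 hy)]
    simp only [h1, Finset.sum_const, Finset.card_univ, nsmul_eq_mul, mul_one]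
    have h2 := Subgroup.card_mul_index H
    rw [← Nat.card_eq_fintype_card, ← h2]
    push_cast
    have h3 : (Nat.card H : ℂ) ≠ 0 := by exact_mod_cast Nat.card_pos.ne'
    field_simp
  · have h1 : ∀ x : E, extendByZero H (fun _ => (1 : ℂ)) (x⁻¹ * y * x) = 0 := by
      intro x
      rw [Cfsg.Agent.Lib.Char.Induced.extendByZero_of_notMem _ _ (fun hc => hy ((hconj x).1 hc))]
    simp [h1]

/-- On an elementary group, `p^n • (indicator of the p-regular elements)` is a character. -/
theorem isCharacter_pow_reg_one {p q : ℕ} [hp : Fact p.Prime] (hq : q.Prime) (h : IsElementary q E) {n : ℕ}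
    (hn : (Nat.card E).factorization p ≤ n) :
    IsCharacter E (fun y => (p ^ n : ℂ) * reg p (fun _ : E => (1 : ℂ)) y) := by
  classical
  obtain ⟨H, hH, hd, k, hk⟩ := exists_normal_pComplement (p := p) hq h
  have hkn : k ≤ n := by
    refine le_trans ?_ hn
    refine (Nat.Prime.pow_dvd_iff_le_factorization hp.out Nat.card_pos.ne').1 ?_
    rw [← hk]
    exact Subgroup.index_dvd_card H
  have hind := Cfsg.Agent.Lib.Char.IndRep.isCharacter_indFun (H := H)
    (Cfsg.Agent.Lib.Char.Basic.isCharacter_one (G := H))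
  have h2 := Cfsg.Agent.Lib.Char.Basic.isCharacter_nsmul hind (p ^ (n - k))
  convert h2 using 1
  funext y
  simp only [Pi.smul_apply, nsmul_eq_mul]
  have h3 := indFun_one_of_normal H y
  have h4 : indFun H (1 : H → ℂ) y = indFun H (fun _ => (1 : ℂ)) y := rfl
  rw [h4, h3, hk]
  by_cases hy : y ∈ H
  · have hy' := (mem_iff_not_dvd_of_complement hd hk y).1 hy
    rw [reg_of_not_dvd _ hy', if_pos hy]
    push_cast
    rw [mul_one, ← pow_add, Nat.sub_add_cancel hkn]
  · have hy' : p ∣ orderOf y := by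
      by_contra hc
      exact hy ((mem_iff_not_dvd_of_complement hd hk y).2 hc)
    rw [reg_of_dvd _ hy', if_neg hy]
    simp

end Induced

section Main

variable {G : Type u} [Group G] [Fintype G] {p : ℕ} [hp : Fact p.Prime]

/-- **`|P| •` the indicator of the `p`-regular elements is a generalized character.** -/
theorem isGeneralized_pow_reg_one (p : ℕ) [hp : Fact p.Prime] (G : Type u) [Group G] [Fintype G] :
    IsGeneralizedCharacter G (fun y => (p ^ (Nat.card G).factorization p : ℂ) * reg p (fun _ : G => (1 : ℂ)) y) := by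
  classical
  refine isGeneralized_of_restrict ?_ ?_
  · intro g h
    have := isClassFunction_reg (p := p) (f := fun _ : G => (1 : ℂ)) (fun _ _ => rfl) g h
    simp only [this]
  · intro E q hq hE
    haveI : Fintype E := Fintype.ofFinite E
    have hle : (Nat.card E).factorization p ≤ (Nat.card G).factorization p :=
      (Nat.factorization_le_iff_dvd Nat.card_pos.ne' Nat.card_pos.ne').2 (Subgroup.card_subgroup_dvd_card E) p
    have h1 := isCharacter_pow_reg_one (p := p) hq hE hle
    refine ⟨_, 0, h1, Cfsg.Agent.Lib.Char.Basic.isCharacter_zero, ?_⟩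
    funext e
    simp only [Pi.sub_apply, Pi.zero_apply, sub_zero]
    congr 1
    unfold reg
    simp [Subgroup.orderOf_coe]

/-- **`|P| • reg p χ` is a generalized character, for `χ` a character.** -/
theorem isGeneralized_pow_reg (p : ℕ) [hp : Fact p.Prime] {χ : G → ℂ} (hχ : IsCharacter G χ) :
    IsGeneralizedCharacter G (fun y => (p ^ (Nat.card G).factorization p : ℂ) * reg p χ y) := by
  obtain ⟨α, β, hα, hβ, h⟩ := isGeneralized_pow_reg_one p G
  refine ⟨α * χ, β * χ, Cfsg.Agent.Lib.Char.Basic.isCharacter_mul hα hχ,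
    Cfsg.Agent.Lib.Char.Basic.isCharacter_mul hβ hχ, ?_⟩
  funext y
  have h1 := congrFun h y
  simp only [Pi.sub_apply, Pi.mul_apply] at h1 ⊢
  rw [← sub_mul, ← h1]
  unfold reg
  split_ifs <;> simp

/-- A generalized character has integral inner products with the irreducible characters. -/
theorem exists_int_classInner_of_isGeneralized {θ : G → ℂ} (hθ : IsGeneralizedCharacter G θ)
    (ψ : IrrCharacter G) : ∃ n : ℤ, classInner θ (ψ : G → ℂ) = n := by
  obtain ⟨α, β, hα, hβ, rfl⟩ := hθ
  obtain ⟨a, ha⟩ := Cfsg.Agent.Lib.Char.Ortho.exists_nat_classInner hα ψ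
  obtain ⟨b, hb⟩ := Cfsg.Agent.Lib.Char.Ortho.exists_nat_classInner hβ ψ
  refine ⟨(a : ℤ) - b, ?_⟩
  rw [Cfsg.Agent.Lib.Char.Ortho.classInner_sub_left, ha, hb]
  push_cast
  rfl

/-- `|P| * ⟨reg p χ, ψ⟩` is an integer. -/
theorem exists_int_pow_mul_classInner_reg (p : ℕ) [hp : Fact p.Prime] {χ : G → ℂ} (hχ : IsCharacter G χ)
    (ψ : IrrCharacter G) :
    ∃ n : ℤ, (p ^ (Nat.card G).factorization p : ℂ) * classInner (reg p χ) (ψ : G → ℂ) = n := by
  obtain ⟨n, hn⟩ := exists_int_classInner_of_isGeneralized (isGeneralized_pow_reg p hχ) ψ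
  refine ⟨n, ?_⟩
  rw [← hn]
  have := Cfsg.Agent.Lib.Char.Ortho.classInner_smul_left ((p ^ (Nat.card G).factorization p : ℂ)) (reg p χ) (ψ : G → ℂ)
  rw [← this]
  rfl

/-- The square-sum of the components of `reg p 1` is at most one. -/
theorem sum_normSq_classInner_reg_one_le [Fintype (IrrCharacter G)] :
    ∑ χ : IrrCharacter G, Complex.normSq (classInner (reg p (fun _ : G => (1 : ℂ))) (χ : G → ℂ)) ≤ 1 := by
  classical
  set θ : G → ℂ := reg p (fun _ : G => (1 : ℂ)) with hθ
  have hc : IsClassFunction G θ := isClassFunction_reg (fun _ _ => rfl)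
  have h1 := Cfsg.Agent.Lib.Blocks.Parseval.classInner_eq_sum_irr hc θ
  have h2 : ∀ χ : IrrCharacter G, classInner θ (χ : G → ℂ) * classInner (χ : G → ℂ) θ =
      (Complex.normSq (classInner θ (χ : G → ℂ)) : ℂ) := by
    intro χ
    rw [← Cfsg.Agent.Lib.Char.Ortho.classInner_conj_symm θ (χ : G → ℂ), Complex.mul_conj]
  simp only [h2] at h1
  have h3 := Cfsg.Agent.Lib.Char.Ortho.classInner_self_eq θ
  rw [h3] at h1
  rw [← Complex.ofReal_sum] at h1
  have h4 := Complex.ofReal_injective h1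
  rw [← h4]
  have h5 : ∀ y : G, ‖θ y‖ ^ 2 ≤ 1 := by
    intro y
    by_cases hy : p ∣ orderOf y
    · simp [hθ, reg_of_dvd _ hy]
    · simp [hθ, reg_of_not_dvd _ hy]
  have h6 : ∑ y : G, ‖θ y‖ ^ 2 ≤ (Nat.card G : ℝ) := by
    calc ∑ y : G, ‖θ y‖ ^ 2 ≤ ∑ _y : G, (1 : ℝ) := Finset.sum_le_sum fun y _ => h5 y
      _ = (Nat.card G : ℝ) := by simp [Nat.card_eq_fintype_card]
  have h7 : (0 : ℝ) < (Nat.card G : ℝ) := by exact_mod_cast Nat.card_pos
  rw [inv_mul_le_iff₀ h7, mul_one]
  exact h6

/-- A finite set of characters, with each `⟨reg p 1, χ⟩ ≠ 0`, has at most `|P|²` elements. -/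
theorem card_le_of_classInner_reg_ne_zero [Fintype (IrrCharacter G)] (s : Finset (IrrCharacter G))
    (hs : ∀ χ ∈ s, classInner (reg p (fun _ : G => (1 : ℂ))) (χ : G → ℂ) ≠ 0) :
    s.card ≤ p ^ (2 * (Nat.card G).factorization p) := by
  classical
  set θ : G → ℂ := reg p (fun _ : G => (1 : ℂ)) with hθ
  set ν := (Nat.card G).factorization p with hν
  have hppos : (0 : ℝ) < (p : ℝ) ^ ν := by
    have : 0 < p := hp.out.pos
    positivity
  have hone : IsCharacter G (fun _ : G => (1 : ℂ)) := Cfsg.Agent.Lib.Char.Basic.isCharacter_one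
  have hlower : ∀ χ ∈ s, (1 : ℝ) ≤ ((p : ℝ) ^ ν) ^ 2 * Complex.normSq (classInner θ (χ : G → ℂ)) := by
    intro χ hχ
    obtain ⟨n, hn⟩ := exists_int_pow_mul_classInner_reg p hone χ
    have hn0 : n ≠ 0 := by
      rintro rfl
      simp only [Int.cast_zero, mul_eq_zero, pow_eq_zero_iff', Nat.cast_eq_zero] at hn
      rcases hn with hn | hn
      · exact hp.out.ne_zero hn.1
      · exact hs χ hχ hn
    have h1 : (((p : ℝ) ^ ν) ^ 2 * Complex.normSq (classInner θ (χ : G → ℂ))) = (n : ℝ) ^ 2 := by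
      have := congrArg Complex.normSq hn
      rw [map_mul, map_pow, Complex.normSq_natCast] at this
      have h2 : Complex.normSq (n : ℂ) = (n : ℝ) ^ 2 := by
        rw [Complex.normSq_intCast]; ring
      rw [h2] at this
      rw [← this]
      ring
    rw [h1]
    have : 1 ≤ n ^ 2 := by
      have := Int.one_le_abs hn0
      nlinarith [sq_abs n, sq_nonneg (|n| - 1)]
    exact_mod_cast this
  have hsum : (s.card : ℝ) ≤ ((p : ℝ) ^ ν) ^ 2 := by
    have h1 : ((s.card : ℕ) : ℝ) = ∑ _χ ∈ s, (1 : ℝ) := by simp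
    rw [h1]
    calc ∑ _χ ∈ s, (1 : ℝ) ≤ ∑ χ ∈ s, ((p : ℝ) ^ ν) ^ 2 * Complex.normSq (classInner θ (χ : G → ℂ)) :=
          Finset.sum_le_sum hlower
      _ = ((p : ℝ) ^ ν) ^ 2 * ∑ χ ∈ s, Complex.normSq (classInner θ (χ : G → ℂ)) := by
          rw [Finset.mul_sum]
      _ ≤ ((p : ℝ) ^ ν) ^ 2 * 1 := by
          refine mul_le_mul_of_nonneg_left ?_ (by positivity)
          refine le_trans ?_ (sum_normSq_classInner_reg_one_le (G := G) (p := p))
          exact Finset.sum_le_sum_of_subset_of_nonneg (Finset.subset_univ s)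
            (fun _ _ _ => Complex.normSq_nonneg _)
      _ = ((p : ℝ) ^ ν) ^ 2 := mul_one _
  have h2 : ((s.card : ℕ) : ℝ) ≤ ((p ^ (2 * ν) : ℕ) : ℝ) := by
    push_cast
    calc (s.card : ℝ) ≤ ((p : ℝ) ^ ν) ^ 2 := hsum
      _ = (p : ℝ) ^ (2 * ν) := by rw [← pow_mul, mul_comm]
  exact_mod_cast h2

variable {M : Ideal AlgInt} [hMp : M.IsPrime]

/-- In the principal block, `⟨reg p 1, χ⟩ ≠ 0`. -/
theorem classInner_reg_one_ne_zero (hM : IsPModular p M) {χ : IrrCharacter G} (hχ : χ ∈ principalBlock M G) :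
    classInner (reg p (fun _ : G => (1 : ℂ))) (χ : G → ℂ) ≠ 0 := by
  intro h0
  apply (mem_principalBlock_iff_omega_regT hM).1 hχ
  rw [regT]
  rw [omega_regElt]
  have h1 := congrArg (starRingEnd ℂ) h0
  rw [Cfsg.Agent.Lib.Char.Ortho.classInner_conj_symm, map_zero] at h1
  rw [Cfsg.Agent.Lib.Char.Complete.classInner_def] at h1
  have h3 : (Nat.card G : ℂ)⁻¹ ≠ 0 := inv_ne_zero (by exact_mod_cast Nat.card_pos.ne')
  have h4 := (mul_eq_zero.1 h1).resolve_left h3
  have h5 : ∑ y : G, reg p (fun _ : G => (1 : ℂ)) y * (χ : G → ℂ) y = 0 := by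
    rw [← h4]
    refine Finset.sum_congr rfl fun y _ => ?_
    rw [mul_comm]
    congr 1
    unfold reg
    split_ifs <;> simp
  rw [h5, zero_div]

/-- **The principal block has at most `|P|²` irreducible characters.** -/
theorem card_principalBlock_le (hM : IsPModular p M) [Fintype (IrrCharacter G)] (s : Finset (IrrCharacter G))
    (hs : ∀ χ ∈ s, χ ∈ principalBlock M G) : s.card ≤ p ^ (2 * (Nat.card G).factorization p) :=
  card_le_of_classInner_reg_ne_zero s fun χ hχ => classInner_reg_one_ne_zero hM (hs χ hχ)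

end Main

end Cfsg.Agent.Lib.Blocks.RegLift
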