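import Mathlib
import Cfsg.Prelude.Def_Blocks
import Cfsg.Agent.Lib.Blocks.RegLift
import Cfsg.Agent.Lib.Blocks.RegNorm
import Cfsg.Agent.Lib.Char.Virtual

/-!
# The integers `I(χ, ξ) = |P| ⟨reg p χ, ξ⟩`

* `regN p χ ξ : ℤ`, symmetric; `regN_eq_pow_mul`: `regN p χ ξ = p ^ ν(χ(1)) * k` with
  `k * m = (p'-part of χ(1)) * ω_χ(z_ξ)`.
* `exists_int_of_vanish`: a generalized character vanishing on `p`-singular elements has degree divisible
  by `|P|`.
* `isGeneralized_of_forall_int`: class function with integer components is generalized.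
-/

set_option autoImplicit false

namespace Cfsg.Agent.Lib.Blocks.RegInt

open Cfsg Cfsg.Agent.Lib.Blocks.Local Cfsg.Agent.Lib.Blocks.Central Cfsg.Agent.Lib.Blocks.Osima
  Cfsg.Agent.Lib.Blocks.Regular Cfsg.Agent.Lib.Blocks.RegLift Cfsg.Agent.Lib.Blocks.RegNorm
open scoped ComplexConjugate

universe u

section General

variable {G : Type u} [Group G] [Fintype G]

/-- A class function with integer components along the irreducible characters is generalized. -/
theorem isGeneralized_of_forall_int {f : G → ℂ} (hf : IsClassFunction G f)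
    (h : ∀ ξ : IrrCharacter G, ∃ n : ℤ, classInner f (ξ : G → ℂ) = n) : IsGeneralizedCharacter G f := by
  classical
  haveI : Finite (IrrCharacter G) := Cfsg.Agent.Lib.Char.Complete.finite_irr
  haveI := Fintype.ofFinite (IrrCharacter G)
  rw [Cfsg.Agent.Lib.Char.Complete.eq_sum_classInner f hf]
  refine Cfsg.Agent.Lib.Char.Virtual.isGeneralized_finset_sum _ fun χ _ => ?_
  obtain ⟨n, hn⟩ := h χ
  rw [hn]
  exact Cfsg.Agent.Lib.Char.Virtual.isGeneralized_intCast_smul
    (Cfsg.Agent.Lib.Char.Virtual.isGeneralized_of_isIrr χ.2) n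

/-- A generalized character vanishing on the `p`-singular elements has degree divisible by `|P|`. -/
theorem exists_int_of_vanish {p : ℕ} [hp : Fact p.Prime] {f : G → ℂ} (hf : IsGeneralizedCharacter G f)
    (hv : ∀ y, p ∣ orderOf y → f y = 0) : ∃ n : ℤ, f 1 = (p ^ (Nat.card G).factorization p : ℕ) * n := by
  classical
  obtain ⟨S⟩ : Nonempty (Sylow p G) := inferInstance
  haveI : Fintype (S : Subgroup G) := Fintype.ofFinite _
  obtain ⟨α, β, hα, hβ, rfl⟩ := hf
  have hgen : IsGeneralizedCharacter (S : Subgroup G) (fun q : (S : Subgroup G) => (α - β) (q : G)) :=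
    ⟨_, _, Cfsg.Agent.Lib.Char.Basic.isCharacter_restrict hα S, Cfsg.Agent.Lib.Char.Basic.isCharacter_restrict hβ S,
      by funext q; rfl⟩
  obtain ⟨n, hn⟩ := exists_int_classInner_of_isGeneralized hgen
    (Cfsg.Agent.Lib.Blocks.Principal.trivChar (S : Subgroup G))
  refine ⟨n, ?_⟩
  rw [← hn, Cfsg.Agent.Lib.Char.Complete.classInner_def]
  have hcard : Nat.card (S : Subgroup G) = p ^ (Nat.card G).factorization p := Sylow.card_eq_multiplicity S
  rw [Finset.sum_eq_single (1 : (S : Subgroup G))]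
  · simp only [map_one, mul_one, Cfsg.Agent.Lib.Blocks.Principal.coe_trivChar, Subgroup.coe_one]
    rw [hcard]
    have : ((p ^ (Nat.card G).factorization p : ℕ) : ℂ) ≠ 0 := by
      exact_mod_cast (pow_pos hp.out.pos _).ne'
    field_simp
  · intro q _ hq
    have hq' : (q : G) ≠ 1 := fun h => hq (Subtype.ext h)
    have hd : p ∣ orderOf (q : G) := by
      have hP : IsPGroup p (S : Subgroup G) := S.isPGroup'
      obtain ⟨k, hk⟩ := hP q
      have h1 : orderOf (q : G) ∣ p ^ k := by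
        apply orderOf_dvd_of_pow_eq_one
        have := congrArg (Subtype.val) hk
        simpa using this
      obtain ⟨j, -, hj⟩ := (Nat.dvd_prime_pow hp.out).1 h1
      rw [hj]
      apply dvd_pow_self
      rintro rfl
      rw [pow_zero, orderOf_eq_one_iff] at hj
      exact hq' hj
    have h3 := hv _ hd
    simp only [h3, zero_mul]
  · intro hn
    exact absurd (Finset.mem_univ _) hn

end General

section Int

variable {M : Ideal AlgInt} {p : ℕ}

/-- Divisibility in the local ring. -/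
theorem pow_dvd_int_of_mul_eq [hMp : M.IsPrime] [hp : Fact p.Prime] (hM : IsPModular p M) {m : ℕ} (hm : ¬ p ∣ m) {b : ℕ} :
    ∀ {n : ℤ} {r : ℂ}, MemLocalRing M r → (n : ℂ) * m = (p ^ b : ℕ) * r → ((p ^ b : ℕ) : ℤ) ∣ n := by
  induction b with
  | zero => intro n r _ _; simp
  | succ b ih =>
    intro n r hr h
    have h1 : MemLocalIdeal M ((n * m : ℤ) : ℂ) := by
      push_cast
      rw [h, pow_succ', Nat.cast_mul, mul_assoc]
      exact memLocalIdeal_mul_right (memLocalIdeal_natCast_self hM)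
        (memLocalRing_mul (memLocalRing_natCast _) hr)
    rw [memLocalIdeal_intCast_iff hM] at h1
    have hp' : Prime (p : ℤ) := Nat.prime_iff_prime_int.1 hp.out
    have h2 : (p : ℤ) ∣ n := by
      rcases hp'.dvd_or_dvd h1 with h3 | h3
      · exact h3
      · exact absurd (Int.natCast_dvd_natCast.1 h3) hm
    obtain ⟨n₁, rfl⟩ := h2
    have hp0 : (p : ℂ) ≠ 0 := by exact_mod_cast hp.out.ne_zero
    have h4 : (n₁ : ℂ) * m = (p ^ b : ℕ) * r := by
      apply mul_left_cancel₀ hp0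
      push_cast at h ⊢
      rw [pow_succ'] at h
      linear_combination h
    have h5 := ih hr h4
    rw [pow_succ']
    push_cast at h5 ⊢
    exact mul_dvd_mul_left _ h5

end Int

section Main

variable {G : Type u} [Group G] [Fintype G] {M : Ideal AlgInt} [hMp : M.IsPrime] {p : ℕ} [hp : Fact p.Prime]

/-- The prime-to-`p` part of the group order. -/
noncomputable def pm (p : ℕ) (G : Type u) [Group G] : ℕ := ordCompl[p] (Nat.card G)

lemma not_dvd_pm : ¬ p ∣ pm p G := Nat.not_dvd_ordCompl hp.out Nat.card_pos.ne'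

lemma pow_mul_pm : p ^ (Nat.card G).factorization p * pm p G = Nat.card G :=
  Nat.ordProj_mul_ordCompl_eq_self _ _

/-- `p^a` times the function `χ` on `p`-regular elements, as in the printed statements. -/
lemma ite_eq_smul_reg (c : ℂ) (χ : G → ℂ) :
    (fun x : G => if p ∣ orderOf x then (0 : ℂ) else c * χ x) = c • reg p χ := by
  funext x
  by_cases hx : p ∣ orderOf x
  · simp [hx, reg_of_dvd]
  · simp [hx, reg_of_not_dvd]

lemma isClassFunction_smul_reg {χ : G → ℂ} (hχ : IsClassFunction G χ) (c : ℂ) :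
    IsClassFunction G (c • reg p χ) := by
  intro g h
  simp only [Pi.smul_apply, isClassFunction_reg hχ g h]

/-- `regI p χ ξ = |P| ⟨reg p χ, ξ⟩`. -/
noncomputable def regI (p : ℕ) (χ ξ : G → ℂ) : ℂ :=
  ((p ^ (Nat.card G).factorization p : ℕ) : ℂ) * classInner (reg p χ) ξ

theorem exists_int_regI (χ ξ : IrrCharacter G) : ∃ n : ℤ, regI p (χ : G → ℂ) (ξ : G → ℂ) = n := by
  obtain ⟨n, hn⟩ := exists_int_pow_mul_classInner_reg p (Cfsg.Agent.Lib.Char.Basic.isCharacter_of_isIrrCharacter χ.2) ξ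
  refine ⟨n, ?_⟩
  rw [regI, ← hn]
  push_cast
  rfl

/-- The integer `|P| ⟨reg p χ, ξ⟩`. -/
noncomputable def regN (p : ℕ) [hp : Fact p.Prime] (χ ξ : IrrCharacter G) : ℤ :=
  Classical.choose (exists_int_regI (p := p) χ ξ)

theorem regI_eq_regN (χ ξ : IrrCharacter G) : regI p (χ : G → ℂ) (ξ : G → ℂ) = regN p χ ξ :=
  Classical.choose_spec (exists_int_regI (p := p) χ ξ)

lemma classInner_ite_eq (χ ξ : IrrCharacter G) :
    classInner (fun x : G => if p ∣ orderOf x then (0 : ℂ)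
      else ((p ^ (Nat.card G).factorization p : ℕ) : ℂ) * (χ : G → ℂ) x) (ξ : G → ℂ) = regN p χ ξ := by
  rw [ite_eq_smul_reg, Cfsg.Agent.Lib.Char.Ortho.classInner_smul_left, ← regI_eq_regN, regI]

lemma classInner_reg_eq_regSum (χ ξ : G → ℂ) :
    classInner (reg p χ) ξ = (Nat.card G : ℂ)⁻¹ * regSum p ξ χ := by
  rw [Cfsg.Agent.Lib.Char.Complete.classInner_def, regSum]
  congr 1
  refine Finset.sum_congr rfl fun y _ => ?_
  by_cases hy : p ∣ orderOf y
  · simp [reg_of_dvd, hy]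
  · simp [reg_of_not_dvd, hy, mul_comm]

theorem regI_comm (χ ξ : IrrCharacter G) : regI p (χ : G → ℂ) (ξ : G → ℂ) = regI p (ξ : G → ℂ) (χ : G → ℂ) := by
  rw [regI, regI, classInner_reg_eq_regSum, classInner_reg_eq_regSum, regSum_comm ξ.2 χ.2]

theorem regN_comm (χ ξ : IrrCharacter G) : regN p χ ξ = regN p ξ χ := by
  have := regI_comm (p := p) χ ξ
  rw [regI_eq_regN, regI_eq_regN] at this
  exact_mod_cast this

/-- The relation between `regN` and the central character. -/
theorem regN_mul_pm (χ ξ : IrrCharacter G) :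
    (regN p χ ξ : ℂ) * (pm p G : ℕ) = (χ : G → ℂ) 1 * omega (χ : G → ℂ) (zElt p (ξ : G → ℂ)) := by
  rw [← regI_eq_regN, regI, classInner_reg_eq_regSum, omega_zElt]
  have h1 := Cfsg.Agent.Lib.Char.Ortho.irr_apply_one_ne_zero χ.2
  have h2 : ((p ^ (Nat.card G).factorization p : ℕ) : ℂ) * (pm p G : ℕ) = (Nat.card G : ℂ) := by
    rw [← Nat.cast_mul, pow_mul_pm]
  have h3 : (Nat.card G : ℂ) ≠ 0 := by exact_mod_cast Nat.card_pos.ne'
  rw [← h2] at h3 ⊢
  have h4 := (mul_ne_zero_iff.1 h3).1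
  have h5 := (mul_ne_zero_iff.1 h3).2
  field_simp

lemma charDegree_ne_zero (χ : IrrCharacter G) : charDegree (χ : G → ℂ) ≠ 0 := by
  intro h1
  apply Cfsg.Agent.Lib.Char.Ortho.irr_apply_one_ne_zero χ.2
  rw [← Cfsg.Agent.Lib.Char.Values.IsCharacter.charDegree_cast
      (Cfsg.Agent.Lib.Char.Values.IsIrrCharacter.isCharacter χ.2), h1]
  simp

lemma charDegree_cast (χ : IrrCharacter G) : ((charDegree (χ : G → ℂ) : ℕ) : ℂ) = (χ : G → ℂ) 1 :=
  Cfsg.Agent.Lib.Char.Values.IsCharacter.charDegree_cast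
      (Cfsg.Agent.Lib.Char.Values.IsIrrCharacter.isCharacter χ.2)

/-- **Divisibility of `regN`.** -/
theorem regN_eq_pow_mul (hM : IsPModular p M) (χ ξ : IrrCharacter G) :
    ∃ k : ℤ, regN p χ ξ = ((p ^ (charDegree (χ : G → ℂ)).factorization p : ℕ) : ℤ) * k ∧
      (k : ℂ) * (pm p G : ℕ) = (ordCompl[p] (charDegree (χ : G → ℂ)) : ℕ) * omega (χ : G → ℂ) (zElt p (ξ : G → ℂ)) := by
  set d := charDegree (χ : G → ℂ) with hd
  set b := d.factorization p with hb
  have hdeg : ((p ^ b : ℕ) : ℂ) * (ordCompl[p] d : ℕ) = (χ : G → ℂ) 1 := by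
    rw [← Nat.cast_mul, Nat.ordProj_mul_ordCompl_eq_self]
    exact charDegree_cast χ
  have hω : MemLocalRing M (omega (χ : G → ℂ) (zElt p (ξ : G → ℂ))) :=
    memLocalRing_omega χ.2 (zElt_mem_localCenter ξ.2)
  have h1 := regN_mul_pm (p := p) χ ξ
  rw [← hdeg, mul_assoc] at h1
  have h2 := pow_dvd_int_of_mul_eq hM (not_dvd_pm (p := p) (G := G))
    (memLocalRing_mul (memLocalRing_natCast (ordCompl[p] d)) hω) h1
  obtain ⟨k, hk⟩ := h2
  refine ⟨k, hk, ?_⟩
  have hp0 : ((p ^ b : ℕ) : ℂ) ≠ 0 := by exact_mod_cast (pow_pos hp.out.pos _).ne'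
  apply mul_left_cancel₀ hp0
  rw [← mul_assoc, ← h1, hk]
  push_cast
  ring

/-- The `k` of `regN_eq_pow_mul` is prime to `p` iff `ω_χ(z_ξ)` is a unit. -/
theorem dvd_iff_memLocalIdeal (hM : IsPModular p M) {χ ξ : IrrCharacter G} {k : ℤ}
    (hk : (k : ℂ) * (pm p G : ℕ) = (ordCompl[p] (charDegree (χ : G → ℂ)) : ℕ) * omega (χ : G → ℂ) (zElt p (ξ : G → ℂ))) :
    (p : ℤ) ∣ k ↔ MemLocalIdeal M (omega (χ : G → ℂ) (zElt p (ξ : G → ℂ))) := by
  have hω : MemLocalRing M (omega (χ : G → ℂ) (zElt p (ξ : G → ℂ))) :=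
    memLocalRing_omega χ.2 (zElt_mem_localCenter ξ.2)
  have hnd : ¬ p ∣ ordCompl[p] (charDegree (χ : G → ℂ)) :=
    Nat.not_dvd_ordCompl hp.out (charDegree_ne_zero χ)
  have hm := not_dvd_pm (p := p) (G := G)
  constructor
  · intro h
    have h1 : MemLocalIdeal M ((k * (pm p G : ℕ) : ℤ) : ℂ) :=
      (memLocalIdeal_intCast_iff hM).2 (Dvd.dvd.mul_right h _)
    push_cast at h1
    rw [hk] at h1
    rw [mul_comm] at h1
    exact memLocalIdeal_of_mul_right hω (memLocalRing_natCast _) h1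
      (fun h2 => hnd ((memLocalIdeal_natCast_iff hM).1 h2))
  · intro h
    have h1 : MemLocalIdeal M ((k * (pm p G : ℕ) : ℤ) : ℂ) := by
      push_cast
      rw [hk]
      exact memLocalIdeal_mul_left (memLocalRing_natCast _) h
    rw [memLocalIdeal_intCast_iff hM] at h1
    have hp' : Prime (p : ℤ) := Nat.prime_iff_prime_int.1 hp.out
    rcases hp'.dvd_or_dvd h1 with h3 | h3
    · exact h3
    · exact absurd (Int.natCast_dvd_natCast.1 h3) hm

end Main

end Cfsg.Agent.Lib.Blocks.RegInt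

namespace Cfsg.Agent.Lib.Blocks.RegInt

open Cfsg Cfsg.Agent.Lib.Blocks.Local Cfsg.Agent.Lib.Blocks.Central Cfsg.Agent.Lib.Blocks.Osima
  Cfsg.Agent.Lib.Blocks.Regular Cfsg.Agent.Lib.Blocks.RegLift Cfsg.Agent.Lib.Blocks.RegNorm
open scoped ComplexConjugate

universe u

variable {G : Type u} [Group G] [Fintype G] {p : ℕ} [hp : Fact p.Prime]

lemma finsum_mem_eq_sum_ite {ι α : Type*} [Fintype ι] [AddCommMonoid α] (B : Set ι) [DecidablePred (· ∈ B)]
    (f : ι → α) : ∑ᶠ χ ∈ B, f χ = ∑ χ, if χ ∈ B then f χ else 0 := by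
  rw [finsum_mem_def, finsum_eq_sum_of_fintype]
  refine Finset.sum_congr rfl fun χ _ => ?_
  rw [Set.indicator_apply]

/-- The expansion of `|P| reg p χ` into irreducible characters. -/
theorem pow_mul_reg_eq_sum [Fintype (IrrCharacter G)] (χ : IrrCharacter G) (y : G) :
    ((p ^ (Nat.card G).factorization p : ℕ) : ℂ) * reg p (χ : G → ℂ) y =
      ∑ ξ : IrrCharacter G, (regN p χ ξ : ℂ) * (ξ : G → ℂ) y := by
  have hcl : IsClassFunction G (((p ^ (Nat.card G).factorization p : ℕ) : ℂ) • reg p (χ : G → ℂ)) :=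
    isClassFunction_smul_reg (isClassFunction_of_irr χ.2) _
  have h1 := congrFun (Cfsg.Agent.Lib.Char.Complete.eq_sum_classInner _ hcl) y
  rw [Pi.smul_apply, smul_eq_mul] at h1
  rw [h1, Finset.sum_apply]
  refine Finset.sum_congr rfl fun ξ _ => ?_
  rw [Pi.smul_apply, smul_eq_mul, Cfsg.Agent.Lib.Char.Ortho.classInner_smul_left, ← regI_eq_regN, regI]

end Cfsg.Agent.Lib.Blocks.RegInt
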