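import Mathlib
import Cfsg.Prelude.Def_Blocks
import Cfsg.Agent.Lib.Blocks.RegInt
import Cfsg.Agent.Lib.Blocks.Parseval
import Cfsg.Agent.Lib.Blocks.HeightZero
import Cfsg.Agent.Lib.Char.Integrality

/-!
# The Brauer--Feit bounds

With `m(ξ, ψ) = p^d ⟨reg ξ, ψ⟩` (integers, symmetric), for `ξ, ψ` in a block `B` of defect `d`:

* `∑_ψ m(ξ, ψ)² = p^d m(ξ, ξ)`;
* `p^{h(ξ)} ∣ m(ξ, ψ)`;
* `m(χ, ψ) ≠ 0` for `χ` of height zero;
* `p^{h(ψ)+1} ∣ m(ψ, ψ)` if `ψ` has positive height.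

All the numerical statements follow (`Numeric` section).
-/

set_option autoImplicit false

namespace Cfsg.Agent.Lib.Blocks.BrauerFeit

section Numeric

variable {ι : Type*} [DecidableEq ι]

lemma sq_ge_of_dvd {p : ℕ} {n : ℤ} {k : ℕ} (hn : n ≠ 0) (hd : ((p : ℤ) ^ k) ∣ n) :
    (p : ℤ) ^ (2 * k) ≤ n ^ 2 := by
  obtain ⟨c, rfl⟩ := hd
  have hc : c ≠ 0 := fun h => hn (by simp [h])
  have h1 : 1 ≤ c ^ 2 := by
    have := sq_nonneg c
    have h2 : c ^ 2 ≠ 0 := pow_ne_zero _ hc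
    omega
  have h3 : (0 : ℤ) ≤ (p : ℤ) ^ (2 * k) := by positivity
  calc (p : ℤ) ^ (2 * k) = (p : ℤ) ^ (2 * k) * 1 := by ring
    _ ≤ (p : ℤ) ^ (2 * k) * c ^ 2 := mul_le_mul_of_nonneg_left h1 h3
    _ = ((p : ℤ) ^ k * c) ^ 2 := by rw [mul_pow, ← pow_mul, mul_comm k 2]

/-- The hypotheses of the numerical argument. -/
structure Data (s : Finset ι) (p d : ℕ) (h : ι → ℕ) (m : ι → ι → ℤ) : Prop where
  hp : 2 ≤ p
  symm : ∀ ξ ψ, m ξ ψ = m ψ ξ
  dvd : ∀ ξ ∈ s, ∀ ψ ∈ s, (p : ℤ) ^ h ξ ∣ m ξ ψ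
  sum : ∀ ξ ∈ s, ∑ ψ ∈ s, (m ξ ψ) ^ 2 = (p : ℤ) ^ d * m ξ ξ
  ne : ∀ χ ∈ s, h χ = 0 → ∀ ψ ∈ s, m χ ψ ≠ 0
  pos : ∀ ψ ∈ s, 0 < h ψ → (p : ℤ) ^ (h ψ + 1) ∣ m ψ ψ

namespace Data

variable {s : Finset ι} {p d : ℕ} {h : ι → ℕ} {m : ι → ι → ℤ}

lemma sum_erase (D : Data s p d h m) {ξ : ι} (hξ : ξ ∈ s) :
    ∑ ψ ∈ s.erase ξ, (m ξ ψ) ^ 2 = m ξ ξ * ((p : ℤ) ^ d - m ξ ξ) := by
  have h1 := D.sum ξ hξ
  rw [← Finset.add_sum_erase s _ hξ] at h1
  linear_combination h1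

lemma four_mul_le (b q : ℤ) : 4 * (b * (q - b)) ≤ q ^ 2 := by
  nlinarith [sq_nonneg (q - 2 * b)]

/-- The main estimate. -/
theorem sum_pow_erase_le (D : Data s p d h m) {χ : ι} (hχ : χ ∈ s) (h0 : h χ = 0) :
    4 * ∑ ψ ∈ s.erase χ, ((p : ℤ) ^ (2 * h ψ)) ≤ ((p : ℤ) ^ d) ^ 2 := by
  have h1 : ∑ ψ ∈ s.erase χ, ((p : ℤ) ^ (2 * h ψ)) ≤ ∑ ψ ∈ s.erase χ, (m χ ψ) ^ 2 := by
    apply Finset.sum_le_sum
    intro ψ hψ
    have hψs := Finset.mem_of_mem_erase hψ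
    apply sq_ge_of_dvd (D.ne χ hχ h0 ψ hψs)
    rw [D.symm χ ψ]
    exact D.dvd ψ hψs χ hχ
  rw [D.sum_erase hχ] at h1
  have h2 := four_mul_le (m χ χ) ((p : ℤ) ^ d)
  linarith

theorem sum_pow_le (D : Data s p d h m) {χ : ι} (hχ : χ ∈ s) (h0 : h χ = 0) :
    4 * ∑ ψ ∈ s, ((p : ℤ) ^ (2 * h ψ)) ≤ ((p : ℤ) ^ d) ^ 2 + 4 := by
  have h1 := D.sum_pow_erase_le hχ h0
  rw [← Finset.add_sum_erase s _ hχ, h0]
  simp only [mul_zero, pow_zero]
  linarith

lemma card_le_sum (D : Data s p d h m) : (s.card : ℤ) ≤ ∑ ψ ∈ s, ((p : ℤ) ^ (2 * h ψ)) := by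
  rw [Finset.card_eq_sum_ones]
  push_cast
  apply Finset.sum_le_sum
  intro ψ _
  have hp1 : (1 : ℤ) ≤ p := by exact_mod_cast (by have := D.hp; omega : 1 ≤ p)
  exact one_le_pow₀ hp1

/-- The height bound. -/
theorem height_add_two_le (D : Data s p d h m) {χ ψ : ι} (hχ : χ ∈ s) (h0 : h χ = 0) (hψ : ψ ∈ s)
    (hpos : 0 < h ψ) : h ψ + 2 ≤ d := by
  have hne : ψ ≠ χ := by
    rintro rfl
    omega
  have hχe : χ ∈ s.erase ψ := Finset.mem_erase.mpr ⟨hne.symm, hχ⟩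
  have hv : m ψ χ ≠ 0 := by
    rw [D.symm]
    exact D.ne χ hχ h0 ψ hψ
  have hvp : 0 < (m ψ χ) ^ 2 := by positivity
  have h1 : (m ψ χ) ^ 2 ≤ ∑ τ ∈ s.erase ψ, (m ψ τ) ^ 2 :=
    Finset.single_le_sum (f := fun τ => (m ψ τ) ^ 2) (fun τ _ => sq_nonneg _) hχe
  rw [D.sum_erase hψ] at h1
  have hq : (0 : ℤ) < (p : ℤ) ^ d := by
    have : (0 : ℤ) < p := by exact_mod_cast (by have := D.hp; omega : 0 < p)
    positivity
  have hb : 0 < m ψ ψ := by
    by_contra hb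
    push Not at hb
    nlinarith
  have hlt : m ψ ψ < (p : ℤ) ^ d := by
    by_contra hb'
    push Not at hb'
    nlinarith
  obtain ⟨c, hc⟩ := D.pos ψ hψ hpos
  have hc0 : 0 < c := by
    by_contra hc0
    push Not at hc0
    have : (0 : ℤ) ≤ (p : ℤ) ^ (h ψ + 1) := by positivity
    nlinarith
  have h2 : (p : ℤ) ^ (h ψ + 1) < (p : ℤ) ^ d := by
    have h3 : (0 : ℤ) ≤ (p : ℤ) ^ (h ψ + 1) := by positivity
    nlinarith
  have h3 : p ^ (h ψ + 1) < p ^ d := by exact_mod_cast h2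
  have h4 := (Nat.pow_lt_pow_iff_right (by have := D.hp; omega : 1 < p)).mp h3
  omega

/-- The bound in the presence of a character of positive height. -/
theorem two_mul_card_le (D : Data s p d h m) {χ ψ : ι} (hχ : χ ∈ s) (h0 : h χ = 0) (hψ : ψ ∈ s)
    (hpos : 0 < h ψ) : 2 * (s.card : ℤ) * (p : ℤ) ^ 2 ≤ ((p : ℤ) ^ d) ^ 2 := by
  classical
  have hp1 : (1 : ℤ) ≤ p := by exact_mod_cast (by have := D.hp; omega : 1 ≤ p)
  have hp0 : (0 : ℤ) ≤ p := by omega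
  set s0 := s.filter (fun τ => h τ = 0) with hs0
  set s1 := s.filter (fun τ => ¬ h τ = 0) with hs1
  have hcard : s.card = s0.card + s1.card := (Finset.card_filter_add_card_filter_not _).symm
  -- the positive part
  have h1 : (s1.card : ℤ) * (p : ℤ) ^ 2 ≤ ∑ τ ∈ s.erase χ, ((p : ℤ) ^ (2 * h τ)) := by
    have hsub : s1 ⊆ s.erase χ := by
      intro τ hτ
      rw [hs1, Finset.mem_filter] at hτ
      refine Finset.mem_erase.mpr ⟨?_, hτ.1⟩
      rintro rfl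
      exact hτ.2 h0
    calc (s1.card : ℤ) * (p : ℤ) ^ 2 = ∑ τ ∈ s1, (p : ℤ) ^ 2 := by simp
      _ ≤ ∑ τ ∈ s1, ((p : ℤ) ^ (2 * h τ)) := by
          apply Finset.sum_le_sum
          intro τ hτ
          rw [hs1, Finset.mem_filter] at hτ
          apply pow_le_pow_right₀ hp1
          have := hτ.2
          omega
      _ ≤ ∑ τ ∈ s.erase χ, ((p : ℤ) ^ (2 * h τ)) :=
          Finset.sum_le_sum_of_subset_of_nonneg hsub fun _ _ _ => by positivity
  have h2 := D.sum_pow_erase_le hχ h0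
  -- the height zero part
  have h3 : (s0.card : ℤ) * (p : ℤ) ^ 2 ≤ ∑ τ ∈ s.erase ψ, (m ψ τ) ^ 2 := by
    have hsub : s0 ⊆ s.erase ψ := by
      intro τ hτ
      rw [hs0, Finset.mem_filter] at hτ
      refine Finset.mem_erase.mpr ⟨?_, hτ.1⟩
      rintro rfl
      omega
    calc (s0.card : ℤ) * (p : ℤ) ^ 2 = ∑ τ ∈ s0, (p : ℤ) ^ 2 := by simp
      _ ≤ ∑ τ ∈ s0, (m ψ τ) ^ 2 := by
          apply Finset.sum_le_sum
          intro τ hτ
          rw [hs0, Finset.mem_filter] at hτ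
          have hne : m ψ τ ≠ 0 := by
            rw [D.symm]
            exact D.ne τ hτ.1 hτ.2 ψ hψ
          have h5 := sq_ge_of_dvd hne (D.dvd ψ hψ τ hτ.1)
          refine le_trans ?_ h5
          apply pow_le_pow_right₀ hp1
          omega
      _ ≤ ∑ τ ∈ s.erase ψ, (m ψ τ) ^ 2 :=
          Finset.sum_le_sum_of_subset_of_nonneg hsub fun _ _ _ => sq_nonneg _
  rw [D.sum_erase hψ] at h3
  have h4 := four_mul_le (m ψ ψ) ((p : ℤ) ^ d)
  rw [hcard]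
  push_cast
  nlinarith

end Data

end Numeric

open Cfsg Cfsg.Agent.Lib.Blocks.Local Cfsg.Agent.Lib.Blocks.Central Cfsg.Agent.Lib.Blocks.Osima
  Cfsg.Agent.Lib.Blocks.Regular Cfsg.Agent.Lib.Blocks.RegLift Cfsg.Agent.Lib.Blocks.RegNorm
  Cfsg.Agent.Lib.Blocks.RegInt Cfsg.Agent.Lib.Blocks.HeightZero Cfsg.Agent.Lib.Blocks.Laradji
open scoped ComplexConjugate

universe u

section Main

variable {G : Type u} [Group G] [Fintype G] {M : Ideal AlgInt} {p : ℕ} [hp : Fact p.Prime]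

/-- Parseval for the integers `regN`. -/
theorem sum_regN_sq [Fintype (IrrCharacter G)] (ξ : IrrCharacter G) :
    ∑ ψ : IrrCharacter G, (regN p ξ ψ) ^ 2 = (p : ℤ) ^ (Nat.card G).factorization p * regN p ξ ξ := by
  set c : ℂ := ((p ^ (Nat.card G).factorization p : ℕ) : ℂ) with hc
  have hc0 : c ≠ 0 := by
    rw [hc]
    exact_mod_cast (pow_pos hp.out.pos _).ne'
  have h1 : ∀ ψ : G → ℂ, classInner (reg p (ξ : G → ℂ)) ψ = regI p (ξ : G → ℂ) ψ / c := by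
    intro ψ
    rw [regI, ← hc]
    field_simp
  have h2 := Cfsg.Agent.Lib.Blocks.Parseval.classInner_eq_sum_irr
    (isClassFunction_reg (p := p) (isClassFunction_of_irr ξ.2)) (reg p (ξ : G → ℂ))
  have h3 : classInner (reg p (ξ : G → ℂ)) (reg p (ξ : G → ℂ)) =
      classInner (reg p (ξ : G → ℂ)) (ξ : G → ℂ) := by
    rw [classInner, classInner]
    congr 1
    refine Finset.sum_congr rfl fun y _ => ?_
    by_cases hy : p ∣ orderOf y
    · simp [reg_of_dvd, hy]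
    · simp [reg_of_not_dvd, hy]
  have h4 : ∀ τ : IrrCharacter G, classInner (reg p (ξ : G → ℂ)) (τ : G → ℂ) *
      classInner (τ : G → ℂ) (reg p (ξ : G → ℂ)) = ((regN p ξ τ : ℂ)) ^ 2 / c ^ 2 := by
    intro τ
    rw [← Cfsg.Agent.Lib.Char.Ortho.classInner_conj_symm (reg p (ξ : G → ℂ)) (τ : G → ℂ), h1, regI_eq_regN]
    have hcc : conj c = c := by
      rw [hc]
      exact Complex.conj_natCast _
    rw [map_div₀, map_intCast, hcc]
    field_simp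
  rw [h3, h1, regI_eq_regN, Finset.sum_congr rfl fun τ _ => h4 τ, ← Finset.sum_div] at h2
  have h5 : ∑ τ : IrrCharacter G, ((regN p ξ τ : ℂ)) ^ 2 = c * (regN p ξ ξ : ℂ) := by
    field_simp at h2
    linear_combination -h2
  rw [hc] at h5
  have h6 : ((∑ τ : IrrCharacter G, (regN p ξ τ) ^ 2 : ℤ) : ℂ) =
      (((p : ℤ) ^ (Nat.card G).factorization p * regN p ξ ξ : ℤ) : ℂ) := by
    push_cast at h5 ⊢
    exact h5
  exact_mod_cast h6

variable (hM : IsPModular p M)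

include hM in
lemma regN_eq_zero [M.IsPrime] {ξ ψ : IrrCharacter G} (h : ¬ SameBlock M (ξ : G → ℂ) (ψ : G → ℂ)) :
    regN p ξ ψ = 0 := by
  have h1 := regI_eq_regN (p := p) ξ ψ
  rw [regI, classInner_reg_eq_zero hM h, mul_zero] at h1
  exact_mod_cast h1.symm

/-- The least `p`-exponent of the degrees in `B`. -/
noncomputable def mu (p : ℕ) (B : Set (IrrCharacter G)) : ℕ :=
  sInf ((fun χ : IrrCharacter G => (charDegree (χ : G → ℂ)).factorization p) '' B)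

lemma mu_le {B : Set (IrrCharacter G)} {ξ : IrrCharacter G} (hξ : ξ ∈ B) :
    mu p B ≤ (charDegree (ξ : G → ℂ)).factorization p :=
  Nat.sInf_le ⟨ξ, hξ, rfl⟩

lemma mu_add_height {B : Set (IrrCharacter G)} {ξ : IrrCharacter G} (hξ : ξ ∈ B) :
    mu p B + blockHeight p B (ξ : G → ℂ) = (charDegree (ξ : G → ℂ)).factorization p := by
  have := mu_le (p := p) hξ
  rw [blockHeight]
  rw [mu] at this ⊢
  omega

lemma factorization_le_card (ξ : IrrCharacter G) :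
    (charDegree (ξ : G → ℂ)).factorization p ≤ (Nat.card G).factorization p := by
  have hd : charDegree (ξ : G → ℂ) ∣ Nat.card G := by
    have hD := charDegree_cast ξ
    obtain ⟨χ, n, ρ, hρ, hχ⟩ := ξ
    subst hχ
    have hirr : ρ.IsIrreducible := hρ
    have h1 := Cfsg.Agent.Lib.Char.Integrality.finrank_dvd_card ρ
    have h2 : (ρ.character 1 : ℂ) = charDegree (ρ.character : G → ℂ) := hD.symm
    rw [Representation.char_one] at h2
    have h3 : Module.finrank ℂ (Fin n → ℂ) = charDegree (ρ.character : G → ℂ) := by exact_mod_cast h2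
    rwa [h3] at h1
  exact (Nat.factorization_le_iff_dvd (charDegree_ne_zero ξ) Nat.card_pos.ne').2 hd p

lemma mu_le_card {B : Set (IrrCharacter G)} {ξ : IrrCharacter G} (hξ : ξ ∈ B) :
    mu p B ≤ (Nat.card G).factorization p :=
  (mu_le hξ).trans (factorization_le_card ξ)

lemma defect_add_mu {B : Set (IrrCharacter G)} {ξ : IrrCharacter G} (hξ : ξ ∈ B) :
    blockDefect p B + mu p B = (Nat.card G).factorization p := by
  have := mu_le_card (p := p) hξ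
  rw [blockDefect]
  rw [mu] at this ⊢
  omega

/-- The matrix `m(ξ, ψ) = p^d ⟨reg ξ, ψ⟩`. -/
noncomputable def mm (p : ℕ) [hp : Fact p.Prime] (B : Set (IrrCharacter G)) (ξ ψ : IrrCharacter G) : ℤ :=
  regN p ξ ψ / (p : ℤ) ^ mu p B

lemma mm_comm (B : Set (IrrCharacter G)) (ξ ψ : IrrCharacter G) : mm p B ξ ψ = mm p B ψ ξ := by
  rw [mm, mm, regN_comm]

include hM in
lemma regN_eq [M.IsPrime] {B : Set (IrrCharacter G)} {ξ : IrrCharacter G} (hξ : ξ ∈ B) (ψ : IrrCharacter G) :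
    ∃ k : ℤ, regN p ξ ψ = (p : ℤ) ^ mu p B * ((p : ℤ) ^ blockHeight p B (ξ : G → ℂ) * k) ∧
      mm p B ξ ψ = (p : ℤ) ^ blockHeight p B (ξ : G → ℂ) * k ∧
      (k : ℂ) * (pm p G : ℕ) =
        (ordCompl[p] (charDegree (ξ : G → ℂ)) : ℕ) * omega (ξ : G → ℂ) (zElt p (ψ : G → ℂ)) := by
  obtain ⟨k, hk, hk2⟩ := regN_eq_pow_mul hM ξ ψ
  have h1 : regN p ξ ψ = (p : ℤ) ^ mu p B * ((p : ℤ) ^ blockHeight p B (ξ : G → ℂ) * k) := by
    rw [hk, ← mu_add_height hξ]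
    push_cast
    ring
  refine ⟨k, h1, ?_, hk2⟩
  rw [mm, h1]
  apply Int.mul_ediv_cancel_left
  exact pow_ne_zero _ (by exact_mod_cast hp.out.ne_zero)

include hM in
lemma regN_eq_mul_mm [M.IsPrime] {B : Set (IrrCharacter G)} {ξ : IrrCharacter G} (hξ : ξ ∈ B) (ψ : IrrCharacter G) :
    regN p ξ ψ = (p : ℤ) ^ mu p B * mm p B ξ ψ := by
  obtain ⟨k, h1, h2, -⟩ := regN_eq hM hξ ψ
  rw [h1, h2]

include hM in
theorem sum_mm_sq [M.IsPrime] [Fintype (IrrCharacter G)] {B : Set (IrrCharacter G)} [DecidablePred (· ∈ B)]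
    (hB : IsPBlock M B) {ξ : IrrCharacter G} (hξ : ξ ∈ B) :
    ∑ ψ ∈ Finset.univ.filter (· ∈ B), (mm p B ξ ψ) ^ 2 = (p : ℤ) ^ blockDefect p B * mm p B ξ ξ := by
  have h1 := sum_regN_sq (p := p) ξ
  have hz : ∀ ψ : IrrCharacter G, ψ ∉ B → regN p ξ ψ = 0 := by
    intro ψ hψ
    apply regN_eq_zero hM
    intro hs
    apply hψ
    obtain ⟨χ₀, rfl⟩ := hB
    exact sameBlock_trans hξ hs
  have h2 : ∑ ψ : IrrCharacter G, (regN p ξ ψ) ^ 2 = ∑ ψ ∈ Finset.univ.filter (· ∈ B), (regN p ξ ψ) ^ 2 := by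
    rw [Finset.sum_filter]
    refine Finset.sum_congr rfl fun ψ _ => ?_
    by_cases hψ : ψ ∈ B
    · rw [if_pos hψ]
    · rw [if_neg hψ, hz ψ hψ]
      simp
  rw [h2, Finset.sum_congr rfl fun ψ _ => by rw [regN_eq_mul_mm hM hξ ψ, mul_pow], ← Finset.mul_sum,
    regN_eq_mul_mm hM hξ ξ, ← defect_add_mu hξ] at h1
  have hp0 : (p : ℤ) ^ mu p B ≠ 0 := pow_ne_zero _ (by exact_mod_cast hp.out.ne_zero)
  apply mul_left_cancel₀ (pow_ne_zero 2 hp0)
  rw [h1, pow_add]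
  ring

include hM in
theorem mm_ne_zero [M.IsPrime] {B : Set (IrrCharacter G)} (hB : IsPBlock M B) {χ ψ : IrrCharacter G}
    (hχ : χ ∈ B) (h0 : blockHeight p B (χ : G → ℂ) = 0) (hψ : ψ ∈ B) : mm p B χ ψ ≠ 0 := by
  intro hz
  have hn : regN p ψ χ = 0 := by
    rw [regN_comm, regN_eq_mul_mm hM hχ, hz, mul_zero]
  have h1 := regN_mul_pm (p := p) ψ χ
  rw [hn, Int.cast_zero, zero_mul] at h1
  have h2 : omega (ψ : G → ℂ) (zElt p (χ : G → ℂ)) = 0 := by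
    rcases mul_eq_zero.mp h1.symm with h3 | h3
    · exact absurd h3 (Cfsg.Agent.Lib.Char.Ortho.irr_apply_one_ne_zero ψ.2)
    · exact h3
  have h3 := not_memLocalIdeal_omega_zElt_self hM hB hχ h0
  apply h3
  have hs : SameBlock M (χ : G → ℂ) (ψ : G → ℂ) := by
    obtain ⟨χ₀, rfl⟩ := hB
    exact sameBlock_trans (sameBlock_symm hχ) hψ
  have h4 := memLocalIdeal_omega_sub χ.2 ψ.2 hs (zElt_mem_localCenter (M := M) (p := p) χ.2)
  rw [h2, sub_zero] at h4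
  exact h4

include hM in
theorem dvd_mm_self [M.IsPrime] {B : Set (IrrCharacter G)} (hB : IsPBlock M B) {ψ : IrrCharacter G}
    (hψ : ψ ∈ B) (hpos : 0 < blockHeight p B (ψ : G → ℂ)) :
    (p : ℤ) ^ (blockHeight p B (ψ : G → ℂ) + 1) ∣ mm p B ψ ψ := by
  obtain ⟨k, -, h2, h3⟩ := regN_eq hM hψ ψ
  obtain ⟨χ₀, hχ₀, h0⟩ := exists_height_zero (p := p) (nonempty_of_isPBlock hB)
  have hlt : (charDegree (χ₀ : G → ℂ)).factorization p < (charDegree (ψ : G → ℂ)).factorization p := by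
    rw [← mu_add_height hχ₀, ← mu_add_height hψ, h0]
    omega
  have h4 := memLocalIdeal_omega_zElt_of_lt hM hlt
  have hs : SameBlock M (χ₀ : G → ℂ) (ψ : G → ℂ) := by
    obtain ⟨χ₁, rfl⟩ := hB
    exact sameBlock_trans (sameBlock_symm hχ₀) hψ
  have h5 := memLocalIdeal_omega_sub χ₀.2 ψ.2 hs (zElt_mem_localCenter (M := M) (p := p) ψ.2)
  have h6 : MemLocalIdeal M (omega (ψ : G → ℂ) (zElt p (ψ : G → ℂ))) := by
    have h7 := memLocalIdeal_sub h4 h5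
    convert h7 using 1
    ring
  obtain ⟨k', rfl⟩ := (dvd_iff_memLocalIdeal hM h3).2 h6
  rw [h2, pow_succ]
  exact ⟨k', by ring⟩

include hM in
/-- The data of the numerical argument, for a block. -/
theorem data [M.IsPrime] [Fintype (IrrCharacter G)] {B : Set (IrrCharacter G)} [DecidablePred (· ∈ B)]
    (hB : IsPBlock M B) :
    Data (Finset.univ.filter (· ∈ B)) p (blockDefect p B) (fun ξ : IrrCharacter G => blockHeight p B (ξ : G → ℂ))
      (mm p B) where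
  hp := hp.out.two_le
  symm := mm_comm B
  dvd := by
    intro ξ hξ ψ _
    obtain ⟨k, -, h2, -⟩ := regN_eq hM (Finset.mem_filter.mp hξ).2 ψ
    rw [h2]
    exact ⟨k, rfl⟩
  sum := fun ξ hξ => sum_mm_sq hM hB (Finset.mem_filter.mp hξ).2
  ne := fun χ hχ h0 ψ hψ => mm_ne_zero hM hB (Finset.mem_filter.mp hχ).2 h0 (Finset.mem_filter.mp hψ).2
  pos := fun ψ hψ hpos => dvd_mm_self hM hB (Finset.mem_filter.mp hψ).2 hpos

end Main

section Final

variable {G : Type u} [Group G] [Fintype G] {M : Ideal AlgInt} {p : ℕ} [hp : Fact p.Prime]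

/-- **Brauer--Feit**, weighted form. -/
theorem sum_pow_height_le (hM : IsPModular p M) [Fintype (IrrCharacter G)] {B : Set (IrrCharacter G)}
    [DecidablePred (· ∈ B)] (hB : IsPBlock M B) :
    ∑ ψ ∈ Finset.univ.filter (· ∈ B), p ^ (2 * blockHeight p B (ψ : G → ℂ)) ≤
      p ^ (2 * blockDefect p B) / 4 + 1 := by
  haveI := isPrime_of_isPModular hM
  obtain ⟨χ₀, hχ₀, h0⟩ := exists_height_zero (p := p) (nonempty_of_isPBlock hB)
  have hs : χ₀ ∈ Finset.univ.filter (· ∈ B) := Finset.mem_filter.mpr ⟨Finset.mem_univ _, hχ₀⟩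
  have h1 := (data hM hB).sum_pow_erase_le hs h0
  have h2 : 4 * ∑ ψ ∈ (Finset.univ.filter (· ∈ B)).erase χ₀, p ^ (2 * blockHeight p B (ψ : G → ℂ)) ≤
      p ^ (2 * blockDefect p B) := by
    rw [pow_mul', ]
    have : ((4 * ∑ ψ ∈ (Finset.univ.filter (· ∈ B)).erase χ₀, p ^ (2 * blockHeight p B (ψ : G → ℂ)) : ℕ) : ℤ) ≤
        (((p ^ blockDefect p B) ^ 2 : ℕ) : ℤ) := by
      push_cast
      exact h1
    exact_mod_cast this
  rw [← Finset.add_sum_erase _ _ hs, h0, mul_zero, pow_zero, add_comm]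
  omega

/-- `k(B) ≤ ∑ p^{2h}`. -/
theorem card_le_sum_pow_height [Fintype (IrrCharacter G)] {B : Set (IrrCharacter G)}
    [DecidablePred (· ∈ B)] :
    (Finset.univ.filter (· ∈ B)).card ≤
      ∑ ψ ∈ Finset.univ.filter (· ∈ B), p ^ (2 * blockHeight p B (ψ : G → ℂ)) := by
  rw [Finset.card_eq_sum_ones]
  apply Finset.sum_le_sum
  intro ψ _
  exact Nat.one_le_pow _ _ hp.out.pos

/-- **Brauer--Feit**, heights. -/
theorem height_add_two_le (hM : IsPModular p M) {B : Set (IrrCharacter G)} (hB : IsPBlock M B)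
    {ψ : IrrCharacter G} (hψ : ψ ∈ B) (hpos : 0 < blockHeight p B (ψ : G → ℂ)) :
    blockHeight p B (ψ : G → ℂ) + 2 ≤ blockDefect p B := by
  classical
  haveI := isPrime_of_isPModular hM
  haveI : Finite (IrrCharacter G) := Cfsg.Agent.Lib.Char.Complete.finite_irr
  haveI := Fintype.ofFinite (IrrCharacter G)
  obtain ⟨χ₀, hχ₀, h0⟩ := exists_height_zero (p := p) (nonempty_of_isPBlock hB)
  exact (data hM hB).height_add_two_le (Finset.mem_filter.mpr ⟨Finset.mem_univ _, hχ₀⟩) h0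
    (Finset.mem_filter.mpr ⟨Finset.mem_univ _, hψ⟩) hpos

/-- **Brauer--Feit**, the bound in presence of a positive height. -/
theorem two_mul_card_le (hM : IsPModular p M) [Fintype (IrrCharacter G)] {B : Set (IrrCharacter G)}
    [DecidablePred (· ∈ B)] (hB : IsPBlock M B)
    {ψ : IrrCharacter G} (hψ : ψ ∈ B) (hpos : 0 < blockHeight p B (ψ : G → ℂ)) :
    2 * (Finset.univ.filter (· ∈ B)).card ≤ p ^ (2 * blockDefect p B - 2) := by
  haveI := isPrime_of_isPModular hM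
  obtain ⟨χ₀, hχ₀, h0⟩ := exists_height_zero (p := p) (nonempty_of_isPBlock hB)
  have h1 := (data hM hB).two_mul_card_le (Finset.mem_filter.mpr ⟨Finset.mem_univ _, hχ₀⟩) h0
    (Finset.mem_filter.mpr ⟨Finset.mem_univ _, hψ⟩) hpos
  have h2 := height_add_two_le hM hB hψ hpos
  have h3 : ((p : ℤ) ^ blockDefect p B) ^ 2 = ((p : ℤ) ^ (2 * blockDefect p B - 2)) * (p : ℤ) ^ 2 := by
    rw [← pow_mul, ← pow_add]
    congr 1
    omega
  rw [h3] at h1
  have hp2 : (0 : ℤ) < (p : ℤ) ^ 2 := by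
    have : (0 : ℤ) < p := by exact_mod_cast hp.out.pos
    positivity
  have h4 := le_of_mul_le_mul_right h1 hp2
  exact_mod_cast h4

end Final

end Cfsg.Agent.Lib.Blocks.BrauerFeit
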