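import Mathlib
import Cfsg.Prelude.Def_BlockRank
import Cfsg.Agent.Lib.Blocks.Cartan
import Cfsg.Agent.Lib.Blocks.Sections

/-!
# Counting the characters of a block by subsections

* `blockRank_union`, `blockRank_biUnion`: additivity of the `p`-regular rank over unions of blocks.
* `exists_classFunction_section`: a class function with prescribed values on the `p`-sections.
* `card_eq_sum_blockRank`: `k(B) = ∑_x l(inducers x)`.
-/

set_option autoImplicit false

namespace Cfsg.Agent.Lib.Blocks.BlockCount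

open Cfsg Cfsg.Agent.Lib.Blocks.Local Cfsg.Agent.Lib.Blocks.Central Cfsg.Agent.Lib.Blocks.Osima
  Cfsg.Agent.Lib.Blocks.Regular Cfsg.Agent.Lib.Blocks.Cartan Cfsg.Agent.Lib.Blocks.Sections
  Cfsg.Agent.Lib.Blocks.SecondMain
open scoped ComplexConjugate

universe u

section Rank

variable {G : Type u} [Group G] [Fintype G] {M : Ideal AlgInt} [hMp : M.IsPrime] {p : ℕ} [hp : Fact p.Prime]

/-- A union of blocks. -/
def IsClosed (M : Ideal AlgInt) (A : Set (IrrCharacter G)) : Prop :=
  ∀ χ ∈ A, blockOf M (χ : G → ℂ) ⊆ A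

lemma isClosed_compl {A : Set (IrrCharacter G)} (hA : IsClosed M A) : IsClosed M Aᶜ := by
  intro χ hχ ψ hψ hψA
  exact hχ (hA ψ hψA (sameBlock_symm hψ))

lemma isClosed_of_isPBlock {A : Set (IrrCharacter G)} (hA : IsPBlock M A) : IsClosed M A := by
  obtain ⟨χ₀, rfl⟩ := hA
  intro χ hχ ψ hψ
  exact sameBlock_trans hχ hψ

lemma isClosed_union {A C : Set (IrrCharacter G)} (hA : IsClosed M A) (hC : IsClosed M C) :
    IsClosed M (A ∪ C) := by
  rintro χ (hχ | hχ)
  · exact (hA χ hχ).trans Set.subset_union_left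
  · exact (hC χ hχ).trans Set.subset_union_right

/-- The span of the regular parts. -/
noncomputable def regSpan (p : ℕ) (A : Set (IrrCharacter G)) : Submodule ℂ (G → ℂ) :=
  Submodule.span ℂ ((fun χ : IrrCharacter G => pRegularPart p (χ : G → ℂ)) '' A)

lemma blockRank_eq (A : Set (IrrCharacter G)) : blockRank p A = Module.finrank ℂ (regSpan p A) := rfl

lemma classInner_add (f f' g : G → ℂ) : classInner (f + f') g = classInner f g + classInner f' g := by
  simp only [classInner, Pi.add_apply, add_mul, Finset.sum_add_distrib, mul_add]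

lemma classInner_smul (c : ℂ) (f g : G → ℂ) : classInner (c • f) g = c * classInner f g := by
  simp only [classInner, Pi.smul_apply, smul_eq_mul, Finset.mul_sum]
  refine Finset.sum_congr rfl fun x _ => ?_
  ring

/-- The block part as a linear map. -/
noncomputable def blockPartL (A : Set (IrrCharacter G)) : (G → ℂ) →ₗ[ℂ] (G → ℂ) where
  toFun := blockPart A
  map_add' f f' := by
    classical
    funext g
    simp only [Pi.add_apply, blockPart_eq_sum, classInner_add, add_mul, Finset.sum_add_distrib]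
  map_smul' c f := by
    classical
    funext g
    simp only [Pi.smul_apply, blockPart_eq_sum, classInner_smul, RingHom.id_apply, smul_eq_mul, Finset.mul_sum]
    refine Finset.sum_congr rfl fun x _ => ?_
    ring

@[simp] lemma blockPartL_apply (A : Set (IrrCharacter G)) (f : G → ℂ) : blockPartL A f = blockPart A f := rfl

lemma blockPart_reg_of_mem (hM : IsPModular p M) {A : Set (IrrCharacter G)} (hA : IsClosed M A)
    {ξ : IrrCharacter G} (hξ : ξ ∈ A) : blockPart A (reg p (ξ : G → ℂ)) = reg p (ξ : G → ℂ) := by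
  classical
  funext g
  have h1 := congrFun (Cfsg.Agent.Lib.Char.Complete.eq_sum_classInner (reg p (ξ : G → ℂ))
    (isClassFunction_reg (isClassFunction_of_irr ξ.2))) g
  rw [Finset.sum_apply] at h1
  rw [blockPart_eq_sum, h1, Finset.sum_filter]
  refine Finset.sum_congr rfl fun τ _ => ?_
  by_cases hτ : τ ∈ A
  · rw [if_pos hτ]
    rfl
  · rw [if_neg hτ]
    show 0 = classInner _ _ • (τ : G → ℂ) g
    have h2 := classInner_reg_eq_zero_of_closed hM (A := Aᶜ) (isClosed_compl hA)
      (χ := ξ) (ψ := τ) (fun h => h hξ) hτ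
    rw [h2, zero_smul]

lemma blockPart_reg_of_notMem (hM : IsPModular p M) {A : Set (IrrCharacter G)} (hA : IsClosed M A)
    {ξ : IrrCharacter G} (hξ : ξ ∉ A) : blockPart A (reg p (ξ : G → ℂ)) = 0 := by
  classical
  funext g
  rw [blockPart_eq_sum]
  apply Finset.sum_eq_zero
  intro τ hτ
  have hτA := (Finset.mem_filter.mp hτ).2
  rw [classInner_reg_eq_zero_of_closed hM hA hξ hτA, zero_mul]

lemma blockPart_of_mem_regSpan (hM : IsPModular p M) {A : Set (IrrCharacter G)} (hA : IsClosed M A)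
    {u : G → ℂ} (hu : u ∈ regSpan p A) : blockPart A u = u := by
  have h : regSpan p A ≤ LinearMap.eqLocus (blockPartL A) LinearMap.id := by
    rw [regSpan, Submodule.span_le]
    rintro _ ⟨ξ, hξ, rfl⟩
    show blockPartL A _ = _
    simp only [pRegularPart_eq_reg]
    exact blockPart_reg_of_mem hM hA hξ
  exact h hu

lemma blockPart_of_mem_regSpan_of_disjoint (hM : IsPModular p M) {A C : Set (IrrCharacter G)}
    (hA : IsClosed M A) (hAC : Disjoint A C) {u : G → ℂ} (hu : u ∈ regSpan p C) : blockPart A u = 0 := by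
  have h : regSpan p C ≤ LinearMap.ker (blockPartL A) := by
    rw [regSpan, Submodule.span_le]
    rintro _ ⟨ξ, hξ, rfl⟩
    show blockPartL A _ = _
    simp only [pRegularPart_eq_reg]
    exact blockPart_reg_of_notMem hM hA (fun h => Set.disjoint_left.mp hAC h hξ)
  exact h hu

/-- Additivity of the `p`-regular rank. -/
theorem blockRank_union (hM : IsPModular p M) {A C : Set (IrrCharacter G)} (hA : IsClosed M A)
    (hAC : Disjoint A C) : blockRank p (A ∪ C) = blockRank p A + blockRank p C := by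
  have h1 : regSpan p (A ∪ C) = regSpan p A ⊔ regSpan p C := by
    rw [regSpan, Set.image_union, Submodule.span_union]
    rfl
  have h2 : regSpan p A ⊓ regSpan p C = ⊥ := by
    rw [eq_bot_iff]
    rintro u ⟨hu1, hu2⟩
    rw [Submodule.mem_bot, ← blockPart_of_mem_regSpan hM hA hu1]
    exact blockPart_of_mem_regSpan_of_disjoint hM hA hAC hu2
  have h3 := Submodule.finrank_sup_add_finrank_inf_eq (regSpan p A) (regSpan p C)
  rw [h2, finrank_bot, add_zero, ← h1] at h3
  rw [blockRank_eq, blockRank_eq, blockRank_eq, h3]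

lemma disjoint_of_isPBlock {A C : Set (IrrCharacter G)} (hA : IsPBlock M A) (hC : IsPBlock M C)
    (h : A ≠ C) : Disjoint A C := by
  rw [Set.disjoint_left]
  intro χ hχA hχC
  apply h
  obtain ⟨a, rfl⟩ := hA
  obtain ⟨c, rfl⟩ := hC
  rw [← blockOf_eq_of_mem hχA, blockOf_eq_of_mem hχC]

/-- Additivity of the rank over a finite family of blocks. -/
theorem blockRank_biUnion (hM : IsPModular p M) (S : Finset (Set (IrrCharacter G)))
    (hS : ∀ b ∈ S, IsPBlock M b) : blockRank p (⋃ b ∈ S, b) = ∑ b ∈ S, blockRank p b := by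
  classical
  induction S using Finset.induction_on with
  | empty =>
    have h0 : (⋃ b ∈ (∅ : Finset (Set (IrrCharacter G))), b) = ∅ := by simp
    rw [Finset.sum_empty, h0, blockRank_eq, regSpan, Set.image_empty, Submodule.span_empty, finrank_bot]
  | insert a S ha ih =>
    rw [Finset.sum_insert ha, Finset.set_biUnion_insert,
      blockRank_union hM (isClosed_of_isPBlock (hS a (Finset.mem_insert_self a S))),
      ih fun b hb => hS b (Finset.mem_insert_of_mem hb)]
    rw [Set.disjoint_iUnion₂_right]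
    intro b hb
    refine disjoint_of_isPBlock (hS a (Finset.mem_insert_self a S))
      (hS b (Finset.mem_insert_of_mem hb)) ?_
    rintro rfl
    exact ha hb

lemma mem_regSpan_classFunction {A : Set (IrrCharacter G)} {u : G → ℂ} (hu : u ∈ regSpan p A) :
    IsClassFunction G u := by
  induction hu using Submodule.span_induction with
  | mem x h =>
    obtain ⟨ξ, -, rfl⟩ := h
    simp only [pRegularPart_eq_reg]
    exact isClassFunction_reg (isClassFunction_of_irr ξ.2)
  | zero => intro g h; rfl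
  | add x y _ _ hx hy =>
    intro g h
    simp only [Pi.add_apply, hx g h, hy g h]
  | smul c x _ hx =>
    intro g h
    simp only [Pi.smul_apply, hx g h]

lemma mem_regSpan_vanish {A : Set (IrrCharacter G)} {u : G → ℂ} (hu : u ∈ regSpan p A) {c : G}
    (hc : p ∣ orderOf c) : u c = 0 := by
  induction hu using Submodule.span_induction with
  | mem x h =>
    obtain ⟨ξ, -, rfl⟩ := h
    simp only [pRegularPart_eq_reg]
    exact reg_of_dvd _ hc
  | zero => rfl
  | add x y _ _ hx hy => simp only [Pi.add_apply, hx, hy, add_zero]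
  | smul a x _ hx => simp only [Pi.smul_apply, hx, smul_zero]

end Rank

section Extension

variable {G : Type u} [Group G] [Fintype G] {p : ℕ} [hp : Fact p.Prime]

/-- Extension by zero from the centralizer. -/
noncomputable def extU (u : ∀ x : G, Cen x → ℂ) (x v : G) : ℂ := by
  classical
  exact if hv : v ∈ Cen x then u x ⟨v, hv⟩ else 0

/-- The class function with prescribed values on the sections. -/
noncomputable def sectionFun (X : Finset G) (u : ∀ x : G, Cen x → ℂ) (g : G) : ℂ :=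
  ∑ x ∈ X, (Nat.card (Cen x) : ℂ)⁻¹ * ∑ h : G, extU u x (x⁻¹ * (h * g * h⁻¹))

lemma isClassFunction_sectionFun (X : Finset G) (u : ∀ x : G, Cen x → ℂ) :
    IsClassFunction G (sectionFun X u) := by
  intro g k
  unfold sectionFun
  refine Finset.sum_congr rfl fun x _ => ?_
  congr 1
  refine Fintype.sum_equiv (Equiv.mulRight k) _ _ fun h => ?_
  simp only [Equiv.coe_mulRight]
  congr 2
  group

lemma extU_of_mem (u : ∀ x : G, Cen x → ℂ) {x v : G} (hv : v ∈ Cen x) : extU u x v = u x ⟨v, hv⟩ := by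
  classical
  unfold extU
  rw [dif_pos hv]

lemma extU_of_notMem (u : ∀ x : G, Cen x → ℂ) {x v : G} (hv : v ∉ Cen x) : extU u x v = 0 := by
  classical
  unfold extU
  rw [dif_neg hv]

theorem sectionFun_mul_of (X : Finset G) (hX : ∀ x ∈ X, ∃ k : ℕ, orderOf x = p ^ k)
    (u : ∀ x : G, Cen x → ℂ) (hu : ∀ x ∈ X, IsClassFunction (Cen x) (u x))
    (hreg : ∀ x ∈ X, ∀ c : Cen x, p ∣ orderOf c → u x c = 0) {x₀ : G} (hx₀ : x₀ ∈ X)
    (hXu : ∀ x ∈ X, IsConj x₀ x → x = x₀) (y₀ : Cen x₀)
    (hy₀ : ¬ p ∣ orderOf y₀) : sectionFun X u (x₀ * y₀) = u x₀ y₀ := by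
  classical
  obtain ⟨k₀, hk₀⟩ := hX x₀ hx₀
  have hA : ∀ x ∈ X, ∀ h : G, extU u x (x⁻¹ * (h * (x₀ * y₀) * h⁻¹)) ≠ 0 → x = h * x₀ * h⁻¹ := by
    intro x hx h hne
    by_cases hv : x⁻¹ * (h * (x₀ * y₀) * h⁻¹) ∈ Cen x
    · rw [extU_of_mem u hv] at hne
      have hc : ¬ p ∣ orderOf (⟨_, hv⟩ : Cen x) := fun hd => hne (hreg x hx _ hd)
      obtain ⟨k, hk⟩ := hX x hx
      have h1 := isPPart_mul hk _ hc
      have h2 : x * ((⟨_, hv⟩ : Cen x) : G) = h * (x₀ * y₀) * h⁻¹ := by
        simp only [mul_inv_cancel_left]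
      rw [h2] at h1
      exact isPPart_unique h1 (isPPart_conj (isPPart_mul hk₀ y₀ hy₀) h)
    · exact absurd (extU_of_notMem u hv) hne
  have hB : ∀ x ∈ X, ∀ h : G, x = h * x₀ * h⁻¹ → x = x₀ := by
    intro x hx h hxh
    exact hXu x hx (isConj_iff.mpr ⟨h, hxh.symm⟩)
  unfold sectionFun
  rw [Finset.sum_eq_single x₀]
  · have h1 : ∀ h : G, extU u x₀ (x₀⁻¹ * (h * (x₀ * y₀) * h⁻¹)) = if h ∈ Cen x₀ then u x₀ y₀ else 0 := by
      intro h
      by_cases hh : h ∈ Cen x₀
      · rw [if_pos hh]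
        have hc : Commute h x₀ := (Subgroup.mem_centralizer_iff.mp hh x₀ rfl).symm
        have h2 : x₀⁻¹ * (h * (x₀ * y₀) * h⁻¹) = ((⟨h, hh⟩ * y₀ * (⟨h, hh⟩ : Cen x₀)⁻¹ : Cen x₀) : G) := by
          simp only [Subgroup.coe_mul, Subgroup.coe_inv]
          rw [← mul_assoc h x₀, hc.eq]
          group
        rw [h2, extU_of_mem u (Subtype.coe_prop _)]
        exact hu x₀ hx₀ _ _
      · rw [if_neg hh]
        by_contra hne
        have h2 := hA x₀ hx₀ h hne
        apply hh
        rw [Subgroup.mem_centralizer_iff]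
        intro w hw
        rw [Set.mem_singleton_iff.mp hw]
        nth_rewrite 1 [h2]
        group
    simp only [h1]
    rw [Finset.sum_ite, Finset.sum_const_zero, add_zero, Finset.sum_const, nsmul_eq_mul]
    have h3 : ((Finset.univ.filter (fun h : G => h ∈ Cen x₀)).card : ℂ) = (Nat.card (Cen x₀) : ℂ) := by
      congr 1
      rw [Nat.card_eq_fintype_card, Fintype.card_subtype]
    rw [h3, ← mul_assoc, inv_mul_cancel₀ (Nat.cast_ne_zero.mpr Nat.card_pos.ne'), one_mul]
  · intro x hx hne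
    have h1 : ∀ h : G, extU u x (x⁻¹ * (h * (x₀ * y₀) * h⁻¹)) = 0 := by
      intro h
      by_contra hc
      exact hne (hB x hx h (hA x hx h hc))
    simp only [h1, Finset.sum_const_zero, mul_zero]
  · intro h
    exact absurd hx₀ h

theorem sectionFun_mul (X : Finset G) (hX : ∀ x ∈ X, ∃ k : ℕ, orderOf x = p ^ k)
    (hXrep : ∀ g : G, (∃ k : ℕ, orderOf g = p ^ k) → ∃! x, x ∈ X ∧ IsConj g x)
    (u : ∀ x : G, Cen x → ℂ) (hu : ∀ x ∈ X, IsClassFunction (Cen x) (u x))
    (hreg : ∀ x ∈ X, ∀ c : Cen x, p ∣ orderOf c → u x c = 0) {x₀ : G} (hx₀ : x₀ ∈ X) (y₀ : Cen x₀)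
    (hy₀ : ¬ p ∣ orderOf y₀) : sectionFun X u (x₀ * y₀) = u x₀ y₀ := by
  refine sectionFun_mul_of X hX u hu hreg hx₀ (fun x hx hc => ?_) y₀ hy₀
  obtain ⟨k₀, hk₀⟩ := hX x₀ hx₀
  obtain ⟨z, -, hz⟩ := hXrep x₀ ⟨k₀, hk₀⟩
  rw [hz x ⟨hx, hc⟩, hz x₀ ⟨hx₀, IsConj.refl _⟩]

end Extension

section Main

variable {G : Type u} [Group G] [Fintype G] {M : Ideal AlgInt} [hMp : M.IsPrime] {p : ℕ} [hp : Fact p.Prime]

/-- The section map. -/
noncomputable def secL (p : ℕ) (x : G) : (G → ℂ) →ₗ[ℂ] (Cen x → ℂ) where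
  toFun f := reg p (fun c : Cen x => f (x * c))
  map_add' f f' := by
    funext c
    by_cases hc : p ∣ orderOf c
    · simp [reg_of_dvd _ hc]
    · simp [reg_of_not_dvd _ hc]
  map_smul' a f := by
    funext c
    by_cases hc : p ∣ orderOf c
    · simp [reg_of_dvd _ hc]
    · simp [reg_of_not_dvd _ hc]

lemma secL_apply (x : G) (f : G → ℂ) (c : Cen x) : secL p x f c = reg p (fun c : Cen x => f (x * c)) c := rfl

/-- The irreducible characters, as a linear combination. -/
lemma blockPart_eq_self {B : Set (IrrCharacter G)} {χ : IrrCharacter G} (hχ : χ ∈ B) :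
    blockPart B (χ : G → ℂ) = (χ : G → ℂ) := by
  classical
  funext g
  rw [blockPart_eq_sum, Finset.sum_eq_single χ]
  · rw [Cfsg.Agent.Lib.Char.Ortho.classInner_irr_self χ.2, one_mul]
  · intro τ _ hτ
    rw [Cfsg.Agent.Lib.Char.Ortho.classInner_irr_of_ne χ.2 τ.2 (fun h => hτ (Subtype.ext h).symm), zero_mul]
  · intro h
    exact absurd (Finset.mem_filter.mpr ⟨Finset.mem_univ _, hχ⟩) h

/-- The regular part of a block part lies in the regular span. -/
lemma reg_blockPart_mem (A : Set (IrrCharacter G)) (f : G → ℂ) : reg p (blockPart A f) ∈ regSpan p A := by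
  classical
  have h1 : reg p (blockPart A f) = ∑ ξ ∈ Finset.univ.filter (· ∈ A), classInner f (ξ : G → ℂ) •
      pRegularPart p (ξ : G → ℂ) := by
    funext g
    simp only [pRegularPart_eq_reg, Finset.sum_apply, Pi.smul_apply, smul_eq_mul]
    by_cases hg : p ∣ orderOf g
    · simp [reg_of_dvd _ hg]
    · rw [reg_of_not_dvd _ hg, blockPart_eq_sum]
      refine Finset.sum_congr rfl fun ξ _ => ?_
      rw [reg_of_not_dvd _ hg]
  rw [h1]
  exact Submodule.sum_mem _ fun ξ hξ => Submodule.smul_mem _ _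
    (Submodule.subset_span ⟨ξ, (Finset.mem_filter.mp hξ).2, rfl⟩)

/-- The section map on a block part. -/
lemma secL_blockPart (hM : IsPModular p M) (χ₀ : IrrCharacter G) {x : G} {k : ℕ} (hk : orderOf x = p ^ k)
    [Fintype (Cen x)] {ϑ : G → ℂ} (hϑ : IsClassFunction G ϑ) :
    secL p x (blockPart (blockOf M (χ₀ : G → ℂ)) ϑ) =
      reg p (blockPart (inducers (Cen x) M (χ₀ : G → ℂ)) (fun c : Cen x => ϑ (x * c))) := by
  funext y
  rw [secL_apply]
  by_cases hy : p ∣ orderOf y
  · rw [reg_of_dvd _ hy, reg_of_dvd _ hy]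
  · rw [reg_of_not_dvd _ hy, reg_of_not_dvd _ hy]
    exact blockPart_section hM hk y hy χ₀ hϑ

/-- The main counting theorem. -/
theorem card_eq_sum_blockRank (hM : IsPModular p M) (χ₀ : IrrCharacter G) (X : Finset G)
    (hX : ∀ x ∈ X, ∃ k : ℕ, orderOf x = p ^ k)
    (hXrep : ∀ g : G, (∃ k : ℕ, orderOf g = p ^ k) → ∃! x, x ∈ X ∧ IsConj g x) :
    Nat.card (blockOf M (χ₀ : G → ℂ)) = ∑ x ∈ X, blockRank p (inducers (Cen x) M (χ₀ : G → ℂ)) := by
  classical
  letI hfin : ∀ x : G, Fintype (Cen x) := fun x => Fintype.ofFinite _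
  set B := blockOf M (χ₀ : G → ℂ) with hB
  let L : (B → ℂ) →ₗ[ℂ] (G → ℂ) := Fintype.linearCombination ℂ (fun χ : B => ((χ : IrrCharacter G) : G → ℂ))
  have hL : ∀ a : B → ℂ, ∀ g, L a g = ∑ χ : B, a χ * ((χ : IrrCharacter G) : G → ℂ) g := by
    intro a g
    simp only [L, Fintype.linearCombination_apply, Finset.sum_apply, Pi.smul_apply, smul_eq_mul]
  have hLcl : ∀ a : B → ℂ, IsClassFunction G (L a) := by
    intro a g h
    rw [hL, hL]
    refine Finset.sum_congr rfl fun χ _ => ?_
    rw [isClassFunction_of_irr (χ : IrrCharacter G).2]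
  -- the image lies in the span
  have hmem : ∀ (x : X) (a : B → ℂ), ((secL p (x : G)).comp L) a ∈
      regSpan p (inducers (Cen (x : G)) M (χ₀ : G → ℂ)) := by
    intro x a
    obtain ⟨k, hk⟩ := hX x x.2
    have h1 : L a = ∑ χ : B, a χ • ((χ : IrrCharacter G) : G → ℂ) := by
      funext g
      rw [hL, Finset.sum_apply]
      rfl
    rw [LinearMap.comp_apply, h1, map_sum]
    refine Submodule.sum_mem _ fun χ _ => ?_
    rw [map_smul]
    refine Submodule.smul_mem _ _ ?_
    have h2 := blockPart_eq_self χ.2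
    have h3 := secL_blockPart hM χ₀ hk (isClassFunction_of_irr (χ : IrrCharacter G).2)
    rw [← hB, h2] at h3
    rw [h3]
    exact reg_blockPart_mem _ _
  let Ψ : (B → ℂ) →ₗ[ℂ] (∀ x : X, regSpan p (inducers (Cen (x : G)) M (χ₀ : G → ℂ))) :=
    LinearMap.pi fun x : X => ((secL p (x : G)).comp L).codRestrict _ (hmem x)
  have hΨ : ∀ (a : B → ℂ) (x : X), ((Ψ a x : regSpan p (inducers (Cen (x : G)) M (χ₀ : G → ℂ))) : Cen (x : G) → ℂ) =
      secL p (x : G) (L a) := fun a x => rfl
  have hinj : Function.Injective Ψ := by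
    rw [injective_iff_map_eq_zero]
    intro a ha
    -- vanishing of `L a`
    have h1 : ∀ g, L a g = 0 := by
      intro g
      obtain ⟨z, w, hzw, hc, hz, hw⟩ := exists_isPPart p g
      obtain ⟨x, ⟨hxX, hxz⟩, -⟩ := hXrep z hz
      obtain ⟨h, hh⟩ := isConj_iff.mp hxz
      obtain ⟨k, hk⟩ := hX x hxX
      have hmemc : h * w * h⁻¹ ∈ Cen x := by
        rw [Subgroup.mem_centralizer_iff]
        intro t ht
        rw [Set.mem_singleton_iff.mp ht, ← hh]
        have e1 : h * z * h⁻¹ * (h * w * h⁻¹) = h * (z * w) * h⁻¹ := by group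
        have e2 : h * w * h⁻¹ * (h * z * h⁻¹) = h * (w * z) * h⁻¹ := by group
        rw [e1, e2, hc.eq]
      have hreg : ¬ p ∣ orderOf (⟨h * w * h⁻¹, hmemc⟩ : Cen x) := by
        rw [← Subgroup.orderOf_coe]
        simp only
        rw [orderOf_conj_eq]
        exact hw
      have h2 := congrFun (congrArg Subtype.val (congrFun ha ⟨x, hxX⟩)) ⟨h * w * h⁻¹, hmemc⟩
      rw [hΨ, secL_apply, reg_of_not_dvd _ hreg] at h2
      have h3 : h * g * h⁻¹ = x * (h * w * h⁻¹) := by
        rw [← hh, ← hzw]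
        group
      rw [← hLcl a g h, h3]
      exact h2
    funext ψ
    have h2 : Cfsg.classInner (L a) ((ψ : IrrCharacter G) : G → ℂ) = a ψ := by
      have h3 : Cfsg.classInner (L a) ((ψ : IrrCharacter G) : G → ℂ) =
          ∑ χ : B, a χ * Cfsg.classInner ((χ : IrrCharacter G) : G → ℂ) ((ψ : IrrCharacter G) : G → ℂ) := by
        simp only [Cfsg.classInner, hL, Finset.sum_mul, Finset.mul_sum]
        rw [Finset.sum_comm]
        refine Finset.sum_congr rfl fun χ _ => Finset.sum_congr rfl fun g _ => ?_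
        ring
      rw [h3, Finset.sum_eq_single ψ]
      · rw [Cfsg.Agent.Lib.Char.Ortho.classInner_irr_self (ψ : IrrCharacter G).2, mul_one]
      · intro χ _ hχ
        rw [Cfsg.Agent.Lib.Char.Ortho.classInner_irr_of_ne (χ : IrrCharacter G).2 (ψ : IrrCharacter G).2
          (fun h => hχ (Subtype.ext (Subtype.ext h))), mul_zero]
      · intro h
        exact absurd (Finset.mem_univ _) h
    rw [← h2]
    have h4 : L a = 0 := funext h1
    rw [h4]
    simp [Cfsg.classInner]
  have hsurj : Function.Surjective Ψ := by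
    intro u
    let u' : ∀ x : G, Cen x → ℂ := fun x =>
      if hx : x ∈ X then ((u ⟨x, hx⟩ : regSpan p (inducers (Cen x) M (χ₀ : G → ℂ))) : Cen x → ℂ) else 0
    have hu' : ∀ x : X, u' x = ((u x : regSpan p (inducers (Cen (x : G)) M (χ₀ : G → ℂ))) : Cen (x : G) → ℂ) := by
      intro x
      simp only [u', dif_pos x.2]
    set ϑ := sectionFun X u' with hϑ
    have hϑcl : IsClassFunction G ϑ := isClassFunction_sectionFun X u'
    have hval : ∀ (x : X) (c : Cen (x : G)), ¬ p ∣ orderOf c → ϑ ((x : G) * c) = (u x : Cen (x : G) → ℂ) c := by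
      intro x c hc
      rw [hϑ, sectionFun_mul X hX hXrep u' _ _ x.2 c hc, hu' x]
      · intro y hy
        have := hu' ⟨y, hy⟩
        simp only at this
        rw [this]
        exact mem_regSpan_classFunction (u ⟨y, hy⟩).2
      · intro y hy c' hc'
        have := hu' ⟨y, hy⟩
        simp only at this
        rw [this]
        exact mem_regSpan_vanish (u ⟨y, hy⟩).2 hc'
    refine ⟨fun χ => Cfsg.classInner ϑ ((χ : IrrCharacter G) : G → ℂ), ?_⟩
    have hLa : L (fun χ => Cfsg.classInner ϑ ((χ : IrrCharacter G) : G → ℂ)) = blockPart B ϑ := by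
      funext g
      rw [hL, blockPart_eq_sum, Finset.sum_subtype (Finset.univ.filter (· ∈ B)) (p := (· ∈ B)) (by simp)]
    funext x
    apply Subtype.ext
    rw [hΨ, hLa]
    obtain ⟨k, hk⟩ := hX x x.2
    rw [hB, secL_blockPart hM χ₀ hk hϑcl]
    funext y
    by_cases hy : p ∣ orderOf y
    · rw [reg_of_dvd _ hy, mem_regSpan_vanish (u x).2 hy]
    · rw [reg_of_not_dvd _ hy]
      have hI : IsClosed M (inducers (Cen (x : G)) M (χ₀ : G → ℂ)) := inducers_closed _ _
      have h1 : blockPart (inducers (Cen (x : G)) M (χ₀ : G → ℂ))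
          ((fun c : Cen (x : G) => ϑ ((x : G) * c)) - (u x : Cen (x : G) → ℂ)) y = 0 := by
        apply blockPart_eq_zero_of_regular hM hI _ hy
        intro c hc
        simp only [Pi.sub_apply]
        rw [hval x c hc, sub_self]
      have h2 := congrFun (map_sub (blockPartL (inducers (Cen (x : G)) M (χ₀ : G → ℂ)))
        (fun c : Cen (x : G) => ϑ ((x : G) * c)) (u x : Cen (x : G) → ℂ)) y
      simp only [blockPartL_apply, Pi.sub_apply] at h2
      rw [h1] at h2
      rw [blockPart_of_mem_regSpan hM hI (u x).2] at h2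
      exact sub_eq_zero.mp h2.symm
  have hcard := (LinearEquiv.ofBijective Ψ ⟨hinj, hsurj⟩).finrank_eq
  rw [Module.finrank_fintype_fun_eq_card, Module.finrank_pi_fintype] at hcard
  rw [Nat.card_eq_fintype_card, hcard]
  rw [← Finset.sum_coe_sort X]
  rfl

/-- The inducers are the union of the blocks inducing a given block. -/
theorem inducers_eq_biUnion (C : Subgroup G) [Fintype C] (χ₀ : IrrCharacter G) :
    inducers C M (χ₀ : G → ℂ) =
      ⋃ b ∈ {b : Set (IrrCharacter C) | IsInducedBlock M C b (blockOf M (χ₀ : G → ℂ))}, b := by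
  ext ξ
  simp only [Set.mem_iUnion, exists_prop, Set.mem_setOf_eq]
  constructor
  · intro hξ
    refine ⟨blockOf M (ξ : C → ℂ), ⟨⟨ξ, rfl⟩, ⟨χ₀, rfl⟩, fun ξ' hξ' χ' hχ' g => ?_⟩, mem_blockOf_self ξ⟩
    have h1 := inducers_closed _ _ ξ hξ hξ' g
    have h2 := memLocalIdeal_add h1 (hχ' g)
    convert h2 using 1
    ring
  · rintro ⟨b, hb, hξ⟩
    exact fun g => hb.2.2 ξ hξ χ₀ (mem_blockOf_self χ₀) g

/-- The sum of the ranks of the blocks inducing a given block. -/
theorem finsum_blockRank_eq (hM : IsPModular p M) (C : Subgroup G) [Fintype C] (χ₀ : IrrCharacter G) :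
    ∑ᶠ b ∈ {b : Set (IrrCharacter C) | IsInducedBlock M C b (blockOf M (χ₀ : G → ℂ))}, blockRank p b =
      blockRank p (inducers C M (χ₀ : G → ℂ)) := by
  classical
  have hfin : {b : Set (IrrCharacter C) | IsInducedBlock M C b (blockOf M (χ₀ : G → ℂ))}.Finite := Set.toFinite _
  rw [finsum_mem_eq_finite_toFinset_sum _ hfin, inducers_eq_biUnion,
    ← blockRank_biUnion hM _ (fun b hb => ((hfin.mem_toFinset).mp hb).1)]
  congr 1
  ext ξ
  simp only [Set.mem_iUnion, exists_prop, Set.Finite.mem_toFinset]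

end Main

end Cfsg.Agent.Lib.Blocks.BlockCount
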