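import Mathlib
import Cfsg.Prelude.Def_BlockRank
import Cfsg.Agent.Lib.Blocks.BlockCount

/-!
# The norm of the subsection functions

For a `p`-element `u` with centralizer `C`, and a block `e` of `C` inducing `B`: the sum over `χ ∈ B` of the
squared norms of the `e`-parts of `c ↦ χ (u c)` on the `p`-regular elements is `|C| l(e)`.
-/

set_option autoImplicit false

namespace Cfsg.Agent.Lib.Blocks.SubsectionNorm

open Cfsg Cfsg.Agent.Lib.Blocks.Local Cfsg.Agent.Lib.Blocks.Central Cfsg.Agent.Lib.Blocks.Osima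
  Cfsg.Agent.Lib.Blocks.Regular Cfsg.Agent.Lib.Blocks.Cartan Cfsg.Agent.Lib.Blocks.Sections
  Cfsg.Agent.Lib.Blocks.SecondMain Cfsg.Agent.Lib.Blocks.BlockCount
open scoped ComplexConjugate

universe u

/-- An orthonormal basis of a subspace of functions on a finite set. -/
theorem exists_orthonormal {X : Type*} [Fintype X] (W : Submodule ℂ (X → ℂ)) :
    ∃ w : Fin (Module.finrank ℂ W) → (X → ℂ), (∀ i, w i ∈ W) ∧
      (∀ i j, ∑ x, w i x * conj (w j x) = if i = j then 1 else 0) ∧
      ∀ f ∈ W, f = ∑ i, (∑ x, f x * conj (w i x)) • w i := by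
  classical
  let Φ := (WithLp.linearEquiv 2 ℂ (X → ℂ)).symm
  let W' : Submodule ℂ (EuclideanSpace ℂ X) := W.map Φ.toLinearMap
  have hfin : Module.finrank ℂ W' = Module.finrank ℂ W := LinearEquiv.finrank_map_eq Φ W
  let b := (stdOrthonormalBasis ℂ W').reindex (finCongr hfin)
  have hcoe : ∀ (a : W') (x : X), ((a : EuclideanSpace ℂ X)) x = Φ.symm (a : EuclideanSpace ℂ X) x := fun a x => rfl
  have hmemW : ∀ a : W', Φ.symm (a : EuclideanSpace ℂ X) ∈ W := by
    rintro ⟨a, c, hc, rfl⟩
    simpa using hc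
  refine ⟨fun i => Φ.symm (b i : EuclideanSpace ℂ X), fun i => hmemW _, ?_, ?_⟩
  · intro i j
    have h1 := orthonormal_iff_ite.mp b.orthonormal j i
    rw [Submodule.coe_inner, PiLp.inner_apply] at h1
    simp only [RCLike.inner_apply] at h1
    have h2 : (if i = j then (1 : ℂ) else 0) = if j = i then 1 else 0 := by simp [eq_comm]
    rw [h2, ← h1]
    rfl
  · intro f hf
    have h1 := b.sum_repr (⟨Φ f, Submodule.mem_map_of_mem hf⟩ : W')
    have h2 := congrArg (fun a : W' => Φ.symm (a : EuclideanSpace ℂ X)) h1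
    simp only [AddSubmonoidClass.coe_finset_sum, map_sum, SetLike.val_smul, map_smul] at h2
    have h3 : Φ.symm (Φ f) = f := Φ.symm_apply_apply f
    rw [h3] at h2
    rw [← h2]
    refine Finset.sum_congr rfl fun i _ => ?_
    congr 1
    rw [OrthonormalBasis.repr_apply_apply, Submodule.coe_inner, PiLp.inner_apply]
    simp only [RCLike.inner_apply]
    rw [h2]
    rfl

/-- The sum inner product. -/
noncomputable def sumInner {X : Type*} [Fintype X] (f g : X → ℂ) : ℂ := ∑ x, f x * conj (g x)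

section Main

variable {G : Type u} [Group G] [Fintype G] {M : Ideal AlgInt} [hMp : M.IsPrime] {p : ℕ} [hp : Fact p.Prime]

lemma sum_eq_sum_subgroup (C : Subgroup G) [Fintype C] (F : G → ℂ) (h0 : ∀ t, t ∉ C → F t = 0) :
    ∑ t, F t = ∑ c : C, F c := by
  classical
  rw [← Finset.sum_filter_of_ne (s := Finset.univ) (p := (· ∈ C)) (f := F)
    (fun t _ ht => by
      by_contra hc
      exact ht (h0 t hc))]
  exact Finset.sum_subtype _ (by simp) F

/-- The central identity. -/
theorem sum_norm_eq (hM : IsPModular p M) (χ₀ : IrrCharacter G) {u : G} {k : ℕ} (hk : orderOf u = p ^ k)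
    [Fintype (Cen u)] {w : Cen u → ℂ} (hw : w ∈ regSpan p (inducers (Cen u) M (χ₀ : G → ℂ))) [DecidablePred (· ∈ blockOf M (χ₀ : G → ℂ))] :
    ∑ χ ∈ Finset.univ.filter (· ∈ blockOf M (χ₀ : G → ℂ)),
      conj (sumInner (fun c : Cen u => (χ : G → ℂ) (u * c)) w) * sumInner (fun c : Cen u => (χ : G → ℂ) (u * c)) w =
      (Nat.card (Cen u) : ℂ) * sumInner w w := by
  classical
  have hwcl : IsClassFunction (Cen u) w := mem_regSpan_classFunction hw
  have hw0 : ∀ c : Cen u, p ∣ orderOf c → w c = 0 := fun c hc => mem_regSpan_vanish hw hc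
  let wt : G → ℂ := fun v => if hv : v ∈ Cen u then w ⟨v, hv⟩ else 0
  have hwt : ∀ c : Cen u, wt c = w c := by
    intro c
    simp only [wt, dif_pos c.2]
  let u' : ∀ x : G, Cen x → ℂ := fun x c => wt c
  have hext : ∀ v : G, extU u' u v = wt v := by
    intro v
    by_cases hv : v ∈ Cen u
    · rw [extU_of_mem u' hv]
    · rw [extU_of_notMem u' hv]
      simp only [wt, dif_neg hv]
  set ϑ := sectionFun {u} u' with hϑ
  have hϑcl : IsClassFunction G ϑ := isClassFunction_sectionFun _ _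
  have hϑg : ∀ g, ϑ g = (Nat.card (Cen u) : ℂ)⁻¹ * ∑ h : G, wt (u⁻¹ * (h * g * h⁻¹)) := by
    intro g
    rw [hϑ, sectionFun, Finset.sum_singleton]
    simp only [hext]
  have hval : ∀ c : Cen u, ¬ p ∣ orderOf c → ϑ (u * c) = w c := by
    intro c hc
    rw [hϑ, sectionFun_mul_of {u} ?_ u' ?_ ?_ (Finset.mem_singleton_self u) ?_ c hc]
    · exact hwt c
    · intro x hx
      rw [Finset.mem_singleton.mp hx]
      exact ⟨k, hk⟩
    · intro x hx c₁ d₁
      obtain rfl := Finset.mem_singleton.mp hx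
      simp only [u', hwt]
      exact hwcl c₁ d₁
    · intro x hx c₁ hc₁
      obtain rfl := Finset.mem_singleton.mp hx
      simp only [u', hwt]
      exact hw0 c₁ hc₁
    · intro x hx _
      exact Finset.mem_singleton.mp hx
  -- the inner product
  have hinner : ∀ χ : IrrCharacter G, classInner ϑ (χ : G → ℂ) =
      (Nat.card (Cen u) : ℂ)⁻¹ * conj (sumInner (fun c : Cen u => (χ : G → ℂ) (u * c)) w) := by
    intro χ
    have hcard : (Nat.card G : ℂ) ≠ 0 := Nat.cast_ne_zero.mpr Nat.card_pos.ne'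
    have h1 : ∀ h : G, ∑ g : G, wt (u⁻¹ * (h * g * h⁻¹)) * conj ((χ : G → ℂ) g) =
        ∑ g : G, wt (u⁻¹ * g) * conj ((χ : G → ℂ) g) := by
      intro h
      refine Fintype.sum_equiv (MulAut.conj h).toEquiv _ _ fun g => ?_
      simp only [MulEquiv.toEquiv_eq_coe, EquivLike.coe_coe, MulAut.conj_apply]
      rw [isClassFunction_of_irr χ.2]
    have h2 : ∑ g : G, wt (u⁻¹ * g) * conj ((χ : G → ℂ) g) =
        ∑ t : G, wt t * conj ((χ : G → ℂ) (u * t)) := by
      refine Fintype.sum_equiv (Equiv.mulLeft u⁻¹) _ _ fun g => ?_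
      simp only [Equiv.coe_mulLeft, mul_inv_cancel_left]
    have h3 : ∑ t : G, wt t * conj ((χ : G → ℂ) (u * t)) =
        ∑ c : Cen u, w c * conj ((χ : G → ℂ) (u * c)) := by
      rw [sum_eq_sum_subgroup (Cen u) _ (fun t ht => by simp only [wt, dif_neg ht, zero_mul])]
      refine Finset.sum_congr rfl fun c _ => ?_
      rw [hwt]
    have h5 : ∑ g : G, ϑ g * conj ((χ : G → ℂ) g) =
        (Nat.card (Cen u) : ℂ)⁻¹ * ∑ h : G, ∑ g : G, wt (u⁻¹ * (h * g * h⁻¹)) * conj ((χ : G → ℂ) g) := by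
      simp only [hϑg, Finset.mul_sum, Finset.sum_mul]
      rw [Finset.sum_comm]
      refine Finset.sum_congr rfl fun h _ => Finset.sum_congr rfl fun g _ => ?_
      ring
    rw [classInner, h5]
    simp only [h1, Finset.sum_const, Finset.card_univ, nsmul_eq_mul]
    rw [h2, h3, sumInner, map_sum, ← Nat.card_eq_fintype_card]
    simp only [map_mul, Complex.conj_conj]
    field_simp
    refine Finset.sum_congr rfl fun c _ => ?_
    ring
  -- the block part identity
  have hI : IsClosed M (inducers (Cen u) M (χ₀ : G → ℂ)) := inducers_closed _ _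
  have hdag : ∀ s : Cen u, ¬ p ∣ orderOf s →
      ∑ χ ∈ Finset.univ.filter (· ∈ blockOf M (χ₀ : G → ℂ)), classInner ϑ (χ : G → ℂ) * (χ : G → ℂ) (u * s) = w s := by
    intro s hs
    have h1 := blockPart_section hM hk s hs χ₀ hϑcl
    rw [blockPart_eq_sum] at h1
    have h1' : ∑ χ ∈ Finset.univ.filter (· ∈ blockOf M (χ₀ : G → ℂ)), classInner ϑ (χ : G → ℂ) * (χ : G → ℂ) (u * s) =
        blockPart (inducers (Cen u) M (χ₀ : G → ℂ)) (fun c : Cen u => ϑ (u * c)) s := by
      rw [← h1]
      refine Finset.sum_congr (by ext x; simp) fun _ _ => rfl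
    rw [h1']
    have h2 : blockPart (inducers (Cen u) M (χ₀ : G → ℂ)) ((fun c : Cen u => ϑ (u * c)) - w) s = 0 := by
      apply blockPart_eq_zero_of_regular hM hI _ hs
      intro c hc
      simp only [Pi.sub_apply]
      rw [hval c hc, sub_self]
    have h3 := congrFun (map_sub (blockPartL (inducers (Cen u) M (χ₀ : G → ℂ)))
      (fun c : Cen u => ϑ (u * c)) w) s
    simp only [blockPartL_apply, Pi.sub_apply] at h3
    rw [h2, blockPart_of_mem_regSpan hM hI hw] at h3
    exact sub_eq_zero.mp h3.symm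
  -- conclusion
  have hcardC : (Nat.card (Cen u) : ℂ) ≠ 0 := Nat.cast_ne_zero.mpr Nat.card_pos.ne'
  have h5 : ∑ χ ∈ Finset.univ.filter (· ∈ blockOf M (χ₀ : G → ℂ)),
      conj (sumInner (fun c : Cen u => (χ : G → ℂ) (u * c)) w) * sumInner (fun c : Cen u => (χ : G → ℂ) (u * c)) w =
      (Nat.card (Cen u) : ℂ) * ∑ s : Cen u, (∑ χ ∈ Finset.univ.filter (· ∈ blockOf M (χ₀ : G → ℂ)),
        classInner ϑ (χ : G → ℂ) * (χ : G → ℂ) (u * s)) * conj (w s) := by
    simp only [Finset.sum_mul]
    rw [Finset.sum_comm, Finset.mul_sum]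
    refine Finset.sum_congr rfl fun χ _ => ?_
    rw [hinner χ]
    have h6 : ∀ t : ℂ, ∑ s : Cen u, t * (χ : G → ℂ) (u * s) * conj (w s) =
        t * sumInner (fun c : Cen u => (χ : G → ℂ) (u * c)) w := by
      intro t
      rw [sumInner, Finset.mul_sum]
      refine Finset.sum_congr rfl fun s _ => ?_
      ring
    rw [h6]
    field_simp
  rw [h5]
  congr 1
  rw [sumInner]
  refine Finset.sum_congr rfl fun s _ => ?_
  by_cases hs : p ∣ orderOf s
  · rw [hw0 s hs]
    simp
  · rw [hdag s hs]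

/-- The inverse shift. -/
lemma classInner_shift_inv {u : G} [Fintype (Cen u)] {χ : G → ℂ} (hχ : IsIrrCharacter G χ) {ξ : Cen u → ℂ}
    (hξ : IsIrrCharacter (Cen u) ξ) :
    classInner (fun c : Cen u => χ (u⁻¹ * c)) ξ = conj (classInner (fun c : Cen u => χ (u * c)) ξ) := by
  rw [classInner, classInner, map_mul, map_inv₀, Complex.conj_natCast, map_sum]
  congr 1
  refine Fintype.sum_equiv (Equiv.inv (Cen u)) _ _ fun c => ?_
  simp only [Equiv.inv_apply, map_mul, Complex.conj_conj]
  rw [Cfsg.Agent.Lib.Char.Complete.isIrr_inv hξ, ← Cfsg.Agent.Lib.Char.Complete.isIrr_inv hχ]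
  have h1 : (u * ((c⁻¹ : Cen u) : G))⁻¹ = u⁻¹ * c := by
    have hc : Commute (c : G) u := commute_of_mem_Cen c
    simp only [Subgroup.coe_inv, mul_inv_rev, inv_inv]
    exact hc.inv_right.eq
  rw [h1]

/-- The `e`-part of the inverse shift. -/
lemma blockPart_shift_inv {u : G} [Fintype (Cen u)] (e : Set (IrrCharacter (Cen u))) {χ : G → ℂ}
    (hχ : IsIrrCharacter G χ) (s : Cen u) :
    blockPart e (fun c : Cen u => χ (u⁻¹ * c)) s⁻¹ = conj (blockPart e (fun c : Cen u => χ (u * c)) s) := by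
  classical
  rw [blockPart_eq_sum, blockPart_eq_sum, map_sum]
  refine Finset.sum_congr rfl fun ξ _ => ?_
  rw [classInner_shift_inv hχ ξ.2, map_mul, Cfsg.Agent.Lib.Char.Complete.isIrr_inv ξ.2]

/-- Self-adjointness of the block part. -/
lemma sumInner_reg_blockPart (hM : IsPModular p M) {X : Type u} [Group X] [Fintype X]
    {e : Set (IrrCharacter X)} (he : IsClosed M e) (h : X → ℂ) {w : X → ℂ} (hw : w ∈ regSpan p e) :
    sumInner (reg p (blockPart e h)) w = sumInner h w := by
  classical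
  have h0 : ∀ c, p ∣ orderOf c → w c = 0 := fun c hc => mem_regSpan_vanish hw hc
  have h1 : sumInner (reg p (blockPart e h)) w = sumInner (blockPart e h) w := by
    rw [sumInner, sumInner]
    refine Finset.sum_congr rfl fun c _ => ?_
    by_cases hc : p ∣ orderOf c
    · rw [h0 c hc]
      simp
    · rw [reg_of_not_dvd _ hc]
  have h2 : blockPart e w = w := blockPart_of_mem_regSpan hM he hw
  rw [h1]
  have h3 : ∀ f : X → ℂ, sumInner f w = ∑ ξ ∈ Finset.univ.filter (· ∈ e), (Nat.card X : ℂ) * classInner f (ξ : X → ℂ) *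
      conj (classInner w (ξ : X → ℂ)) := by
    intro f
    conv_lhs => rw [sumInner, ← h2]
    have hcard : (Nat.card X : ℂ) ≠ 0 := Nat.cast_ne_zero.mpr Nat.card_pos.ne'
    simp only [blockPart_eq_sum, map_sum, Finset.mul_sum]
    rw [Finset.sum_comm]
    refine Finset.sum_congr rfl fun ξ _ => ?_
    have h4 : (Nat.card X : ℂ) * classInner f (ξ : X → ℂ) = ∑ c, f c * conj ((ξ : X → ℂ) c) := by
      rw [classInner]
      field_simp
    rw [h4, Finset.sum_mul]
    refine Finset.sum_congr rfl fun c _ => ?_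
    rw [map_mul]
    ring
  rw [h3, h3]
  refine Finset.sum_congr rfl fun ξ hξ => ?_
  congr 2
  have h5 : blockPart e (blockPart e h) = blockPart e h := by
    funext g
    rw [blockPart_eq_sum]
    have h6 : ∀ τ ∈ Finset.univ.filter (· ∈ e), classInner (blockPart e h) (τ : X → ℂ) = classInner h (τ : X → ℂ) := by
      intro τ hτ
      have h7 : blockPart e h = ∑ χ : IrrCharacter X, (if χ ∈ e then classInner h (χ : X → ℂ) else 0) • (χ : X → ℂ) := by
        funext y
        rw [blockPart_eq_sum, Finset.sum_apply, Finset.sum_filter]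
        refine Finset.sum_congr rfl fun χ _ => ?_
        by_cases hχ : χ ∈ e
        · simp [hχ]
        · simp [hχ]
      rw [h7, Cfsg.Agent.Lib.Char.Ortho.classInner_sum_irr, if_pos (Finset.mem_filter.mp hτ).2]
    rw [Finset.sum_congr rfl (fun τ hτ => by rw [h6 τ hτ])]
    rw [blockPart_eq_sum]
  have h7 : blockPart e h = ∑ χ : IrrCharacter X, (if χ ∈ e then classInner h (χ : X → ℂ) else 0) • (χ : X → ℂ) := by
    funext y
    rw [blockPart_eq_sum, Finset.sum_apply, Finset.sum_filter]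
    refine Finset.sum_congr rfl fun χ _ => ?_
    by_cases hχ : χ ∈ e
    · simp [hχ]
    · simp [hχ]
  rw [h7, Cfsg.Agent.Lib.Char.Ortho.classInner_sum_irr, if_pos (Finset.mem_filter.mp hξ).2]

/-- The main sum. -/
theorem sum_subsection_norm (hM : IsPModular p M) (χ₀ : IrrCharacter G) {u : G} {k : ℕ} (hk : orderOf u = p ^ k)
    [Fintype (Cen u)] {e : Set (IrrCharacter (Cen u))} (he : IsPBlock M e)
    (hind : ∀ ξ ∈ e, ξ ∈ inducers (Cen u) M (χ₀ : G → ℂ)) [DecidablePred (· ∈ blockOf M (χ₀ : G → ℂ))] :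
    ∑ χ ∈ Finset.univ.filter (· ∈ blockOf M (χ₀ : G → ℂ)), ∑ s : Cen u,
      reg p (blockPart e (fun c : Cen u => (χ : G → ℂ) (u * c))) s *
        blockPart e (fun c : Cen u => (χ : G → ℂ) (u⁻¹ * c)) s⁻¹ =
      (Nat.card (Cen u) : ℂ) * (blockRank p e : ℂ) := by
  classical
  have heC : IsClosed M e := isClosed_of_isPBlock he
  obtain ⟨w, hwmem, hwon, hwexp⟩ := exists_orthonormal (regSpan p e)
  have hsub : regSpan p e ≤ regSpan p (inducers (Cen u) M (χ₀ : G → ℂ)) :=
    Submodule.span_mono (Set.image_mono hind)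
  have h1 : ∀ χ : IrrCharacter G, ∑ s : Cen u,
      reg p (blockPart e (fun c : Cen u => (χ : G → ℂ) (u * c))) s *
        blockPart e (fun c : Cen u => (χ : G → ℂ) (u⁻¹ * c)) s⁻¹ =
      ∑ i, conj (sumInner (fun c : Cen u => (χ : G → ℂ) (u * c)) (w i)) *
        sumInner (fun c : Cen u => (χ : G → ℂ) (u * c)) (w i) := by
    intro χ
    set f : Cen u → ℂ := fun c : Cen u => (χ : G → ℂ) (u * c) with hf
    set v := reg p (blockPart e f) with hv
    have hvmem : v ∈ regSpan p e := reg_blockPart_mem e f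
    have h2 : ∀ s : Cen u, v s * blockPart e (fun c : Cen u => (χ : G → ℂ) (u⁻¹ * c)) s⁻¹ = v s * conj (v s) := by
      intro s
      rw [blockPart_shift_inv e χ.2 s]
      by_cases hs : p ∣ orderOf s
      · rw [hv, reg_of_dvd _ hs, zero_mul, zero_mul]
      · rw [hv, reg_of_not_dvd _ hs]
    rw [Finset.sum_congr rfl fun s _ => h2 s]
    have h3 : ∀ i, sumInner v (w i) = sumInner f (w i) := fun i => sumInner_reg_blockPart hM heC f (hwmem i)
    have h4 := hwexp v hvmem
    have h5 : ∀ s : Cen u, conj (v s) = ∑ i, conj (sumInner f (w i)) * conj (w i s) := by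
      intro s
      conv_lhs => rw [h4]
      rw [Finset.sum_apply, map_sum]
      refine Finset.sum_congr rfl fun i _ => ?_
      rw [← h3 i, Pi.smul_apply, smul_eq_mul, map_mul]
      rfl
    simp only [h5, Finset.mul_sum]
    rw [Finset.sum_comm]
    refine Finset.sum_congr rfl fun i _ => ?_
    rw [← h3 i]
    conv_rhs => rw [mul_comm]
    rw [sumInner, Finset.sum_mul]
    refine Finset.sum_congr rfl fun s _ => ?_
    ring
  simp only [h1]
  rw [Finset.sum_comm]
  have h6 : ∀ i, ∑ χ ∈ Finset.univ.filter (· ∈ blockOf M (χ₀ : G → ℂ)),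
      conj (sumInner (fun c : Cen u => (χ : G → ℂ) (u * c)) (w i)) *
        sumInner (fun c : Cen u => (χ : G → ℂ) (u * c)) (w i) = (Nat.card (Cen u) : ℂ) := by
    intro i
    rw [sum_norm_eq hM χ₀ hk (hsub (hwmem i))]
    have := hwon i i
    rw [if_pos rfl] at this
    rw [sumInner, this, mul_one]
  simp only [h6, Finset.sum_const, Finset.card_univ, Fintype.card_fin, nsmul_eq_mul]
  rw [mul_comm]
  rfl

end Main

end Cfsg.Agent.Lib.Blocks.SubsectionNorm
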