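import Mathlib
import Cfsg.Prelude.Def_BlockRank
import Cfsg.Agent.Lib.Blocks.SubsectionNorm
import Cfsg.Agent.Lib.Blocks.GaloisAvg
import Cfsg.Agent.Lib.Blocks.BrauerFeit
import Cfsg.Agent.Lib.Char.BlichfeldtB
import Cfsg.Agent.S4431

/-!
# Major subsections and blocks all of whose characters have height zero

Let `u` be a `p`-element of `G`, `C = C_G(u)`, `b` a block of `C` inducing the block `B` of `G`, with `b` and `B` of
the same defect `d`, and suppose that all the members of `B` have height zero. With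
`f_χ c = χ (u c)` and `g_χ = reg (f_χ)_b`, the numbers `x χ χ' = p^d [g_χ, g_χ']` are nonzero integer combinations
of roots of unity and `∑_{χ,χ' ∈ B} |x χ χ'|^2 = p^{2d} l(b)`. Hence `k(B)^2 ≤ p^{2d} l(b)`.
-/

set_option autoImplicit false

namespace Cfsg.Agent.Lib.Blocks.MajorSub

open Cfsg Cfsg.Agent.Lib.Blocks.Local Cfsg.Agent.Lib.Blocks.Central Cfsg.Agent.Lib.Blocks.Osima
  Cfsg.Agent.Lib.Blocks.Regular Cfsg.Agent.Lib.Blocks.Cartan Cfsg.Agent.Lib.Blocks.Sections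
  Cfsg.Agent.Lib.Blocks.SecondMain Cfsg.Agent.Lib.Blocks.BlockCount
  Cfsg.Agent.Lib.Blocks.SubsectionNorm Cfsg.Agent.Lib.Blocks.RegNorm Cfsg.Agent.Lib.Blocks.GaloisAvg
  Cfsg.Agent.Lib.Blocks.BrauerFeit Cfsg.Agent.Lib.Blocks.HeightZero
open scoped ComplexConjugate

universe u

section Polar

variable {V : Type*} [AddCommGroup V] [Module ℂ V]

/-- Complex polarisation. -/
theorem polar_zero (S : V → V → ℂ)
    (hl : ∀ a a' b, S (a + a') b = S a b + S a' b) (hr : ∀ a b b', S a (b + b') = S a b + S a b')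
    (hIl : ∀ a b, S (Complex.I • a) b = Complex.I * S a b)
    (hIr : ∀ a b, S a (Complex.I • b) = -Complex.I * S a b)
    (W : Submodule ℂ V) (h : ∀ w ∈ W, S w w = 0) {a b : V} (ha : a ∈ W) (hb : b ∈ W) : S a b = 0 := by
  have h1 := h (a + b) (W.add_mem ha hb)
  rw [hl, hr, hr, h a ha, h b hb, zero_add, add_zero] at h1
  have h2 := h (a + Complex.I • b) (W.add_mem ha (W.smul_mem _ hb))
  rw [hl, hr, hr, h a ha, hIl, hIl, hIr, hIr, h b hb, mul_zero, mul_zero, zero_add, add_zero] at h2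
  have h3 : S b a = - S a b := by linear_combination h1
  rw [h3] at h2
  have h4 : (2 : ℂ) * Complex.I * S a b = 0 := by linear_combination -h2
  have h5 : (2 : ℂ) * Complex.I ≠ 0 := mul_ne_zero two_ne_zero Complex.I_ne_zero
  exact (mul_eq_zero.mp h4).resolve_left h5

end Polar

section SumInner

variable {X : Type*} [Fintype X]

lemma sumInner_add_left (f f' g : X → ℂ) : sumInner (f + f') g = sumInner f g + sumInner f' g := by
  simp [sumInner, add_mul, Finset.sum_add_distrib]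

lemma sumInner_add_right (f g g' : X → ℂ) : sumInner f (g + g') = sumInner f g + sumInner f g' := by
  simp [sumInner, mul_add, Finset.sum_add_distrib]

lemma sumInner_smul_left (c : ℂ) (f g : X → ℂ) : sumInner (c • f) g = c * sumInner f g := by
  simp only [sumInner, Pi.smul_apply, smul_eq_mul, Finset.mul_sum]
  exact Finset.sum_congr rfl fun x _ => by ring

lemma sumInner_smul_right (c : ℂ) (f g : X → ℂ) : sumInner f (c • g) = conj c * sumInner f g := by
  simp only [sumInner, Pi.smul_apply, smul_eq_mul, Finset.mul_sum, map_mul]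
  exact Finset.sum_congr rfl fun x _ => by ring

end SumInner

section Polarised

variable {G : Type u} [Group G] [Fintype G] {M : Ideal AlgInt} [hMp : M.IsPrime] {p : ℕ} [hp : Fact p.Prime]

/-- The polarised form of `sum_norm_eq`. -/
theorem sum_polar (hM : IsPModular p M) (χ₀ : IrrCharacter G) {u : G} {k : ℕ} (hk : orderOf u = p ^ k)
    [Fintype (Cen u)] [DecidablePred (· ∈ blockOf M (χ₀ : G → ℂ))] {a b : Cen u → ℂ}
    (ha : a ∈ regSpan p (inducers (Cen u) M (χ₀ : G → ℂ)))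
    (hb : b ∈ regSpan p (inducers (Cen u) M (χ₀ : G → ℂ))) :
    ∑ χ ∈ Finset.univ.filter (· ∈ blockOf M (χ₀ : G → ℂ)),
      conj (sumInner (fun c : Cen u => (χ : G → ℂ) (u * c)) a) * sumInner (fun c : Cen u => (χ : G → ℂ) (u * c)) b =
      (Nat.card (Cen u) : ℂ) * sumInner a b := by
  rw [← sub_eq_zero]
  refine polar_zero (fun a b => ∑ χ ∈ Finset.univ.filter (· ∈ blockOf M (χ₀ : G → ℂ)),
      conj (sumInner (fun c : Cen u => (χ : G → ℂ) (u * c)) a) * sumInner (fun c : Cen u => (χ : G → ℂ) (u * c)) b -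
      (Nat.card (Cen u) : ℂ) * sumInner a b) ?_ ?_ ?_ ?_ _ ?_ ha hb
  · intro a a' b
    simp only [sumInner_add_right, sumInner_add_left, map_add, add_mul, Finset.sum_add_distrib, mul_add]
    ring
  · intro a b b'
    simp only [sumInner_add_right, mul_add, Finset.sum_add_distrib]
    ring
  · intro a b
    simp only [sumInner_smul_right, sumInner_smul_left, map_mul, map_neg, Complex.conj_I, neg_neg, mul_sub,
      Finset.mul_sum]
    congr 1
    · exact Finset.sum_congr rfl fun x _ => by ring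
    · ring
  · intro a b
    simp only [sumInner_smul_right, Complex.conj_I, mul_sub, Finset.mul_sum]
    congr 1
    · exact Finset.sum_congr rfl fun x _ => by ring
    · ring
  · intro w hw
    rw [sub_eq_zero]
    exact sum_norm_eq hM χ₀ hk hw

end Polarised

section Roots

variable {M : Ideal AlgInt} [hMp : M.IsPrime] {p : ℕ} [hp : Fact p.Prime]

/-- A `p`-power root of unity is congruent to `1`. -/
theorem memLocalIdeal_root_sub_one (hM : IsPModular p M) {z : ℂ} {k : ℕ} (hz : z ^ (p ^ k) = 1) :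
    MemLocalIdeal M (z - 1) := by
  haveI hchar : CharP (localRing M ⧸ localIdeal M) p := Cfsg.Agent.Lib.Blocks.BlockHom.charP_residue hM
  have hzl : MemLocalRing M z := memLocalRing_of_pow_eq_one (pow_pos hp.out.pos k) hz
  have h1 : (⟨z, hzl⟩ : localRing M) ^ (p ^ k) = 1 := Subtype.ext (by simpa using hz)
  have h2 := congrArg (residue M) h1
  rw [map_pow, map_one, ← sub_eq_zero] at h2
  have h2' : (residue M (⟨z, hzl⟩ : localRing M) - 1) ^ (p ^ k) = 0 := by
    rw [sub_pow_char_pow, one_pow]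
    exact h2
  have h3 := (pow_eq_zero_iff (pow_ne_zero k hp.out.ne_zero)).mp h2'
  rw [sub_eq_zero, ← map_one (residue M), residue_eq_iff] at h3
  simpa using h3

end Roots

section Main

variable {G : Type u} [Group G] [Fintype G] {M : Ideal AlgInt} [hMp : M.IsPrime] {p : ℕ} [hp : Fact p.Prime]

/-- The element `u` as an element of its centralizer. -/
def uC (u : G) : Cen u := ⟨u, mem_Cen_self u⟩

lemma uC_comm (u : G) (g : Cen u) : g * uC u = uC u * g := by
  apply Subtype.ext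
  exact commute_of_mem_Cen g

/-- The scalar by which `u` acts. -/
noncomputable def nu {u : G} (μ : IrrCharacter (Cen u)) : ℂ := (μ : Cen u → ℂ) (uC u) / (μ : Cen u → ℂ) 1

lemma irr_uC_mul {u : G} (μ : IrrCharacter (Cen u)) (c : Cen u) :
    (μ : Cen u → ℂ) (uC u * c) = nu μ * (μ : Cen u → ℂ) c := by
  obtain ⟨a, -, ha⟩ := Cfsg.Agent.Lib.Char.BlichfeldtB.irr_central_mul μ.2 (uC u) (uC_comm u)
  have h1 := ha 1
  rw [mul_one] at h1
  have h0 := Cfsg.Agent.Lib.Char.Ortho.irr_apply_one_ne_zero μ.2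
  have h2 : nu μ = a := by
    rw [nu, h1]
    field_simp
  rw [ha c, h2]

lemma nu_pow_eq {u : G} {k : ℕ} (hk : orderOf u = p ^ k) (μ : IrrCharacter (Cen u)) : nu μ ^ (p ^ k) = 1 := by
  have h0 := Cfsg.Agent.Lib.Char.Ortho.irr_apply_one_ne_zero μ.2
  have h1 : ∀ n : ℕ, (μ : Cen u → ℂ) (uC u ^ n) = nu μ ^ n * (μ : Cen u → ℂ) 1 := by
    intro n
    induction n with
    | zero => simp
    | succ n ih =>
      rw [pow_succ', irr_uC_mul, ih, pow_succ']
      ring
  have h2 : uC u ^ (p ^ k) = 1 := by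
    apply Subtype.ext
    show u ^ (p ^ k) = 1
    rw [← hk]
    exact pow_orderOf_eq_one u
  have h3 := h1 (p ^ k)
  rw [h2] at h3
  have h4 : (nu μ ^ (p ^ k) - 1) * (μ : Cen u → ℂ) 1 = 0 := by
    rw [sub_mul, ← h3]
    ring
  exact sub_eq_zero.mp ((mul_eq_zero.mp h4).resolve_right h0)

variable {u : G} [Fintype (Cen u)]

/-- The multiplicity of `μ` in the restriction of `χ`. -/
noncomputable def mm (χ : IrrCharacter G) (μ : IrrCharacter (Cen u)) : ℕ :=
  Classical.choose (Cfsg.Agent.Lib.Char.Ortho.exists_nat_classInner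
    (Cfsg.Agent.Lib.Char.Basic.isCharacter_restrict
      (Cfsg.Agent.Lib.Char.Basic.isCharacter_of_isIrrCharacter χ.2) (Cen u)) μ)

lemma mm_spec (χ : IrrCharacter G) (μ : IrrCharacter (Cen u)) :
    classInner (fun c : Cen u => (χ : G → ℂ) c) (μ : Cen u → ℂ) = mm χ μ :=
  Classical.choose_spec (Cfsg.Agent.Lib.Char.Ortho.exists_nat_classInner
    (Cfsg.Agent.Lib.Char.Basic.isCharacter_restrict
      (Cfsg.Agent.Lib.Char.Basic.isCharacter_of_isIrrCharacter χ.2) (Cen u)) μ)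

lemma isClassFunction_res (χ : IrrCharacter G) :
    IsClassFunction (Cen u) (fun c : Cen u => (χ : G → ℂ) c) := by
  intro c d
  exact isClassFunction_of_irr χ.2 (c : G) (d : G)

lemma res_expand (χ : IrrCharacter G) (c : Cen u) :
    (χ : G → ℂ) c = ∑ μ : IrrCharacter (Cen u), (mm χ μ : ℂ) * (μ : Cen u → ℂ) c := by
  have h1 := congrFun (Cfsg.Agent.Lib.Char.Complete.eq_sum_classInner _ (isClassFunction_res (u := u) χ)) c
  rw [Finset.sum_apply] at h1
  rw [h1]
  refine Finset.sum_congr rfl fun μ _ => ?_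
  rw [Pi.smul_apply, smul_eq_mul, mm_spec]

/-- The section function. -/
lemma sec_expand (χ : IrrCharacter G) (c : Cen u) :
    (χ : G → ℂ) (u * c) = ∑ μ : IrrCharacter (Cen u), ((mm χ μ : ℂ) * nu μ) * (μ : Cen u → ℂ) c := by
  have h1 := res_expand χ (uC u * c)
  have h2 : ((uC u * c : Cen u) : G) = u * c := rfl
  rw [h2] at h1
  rw [h1]
  refine Finset.sum_congr rfl fun μ _ => ?_
  rw [irr_uC_mul]
  ring

lemma sec_eq_sum (χ : IrrCharacter G) :
    (fun c : Cen u => (χ : G → ℂ) (u * c)) =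
      ∑ μ : IrrCharacter (Cen u), ((mm χ μ : ℂ) * nu μ) • (μ : Cen u → ℂ) := by
  funext c
  rw [Finset.sum_apply, sec_expand]
  rfl

lemma classInner_sec (χ : IrrCharacter G) (μ : IrrCharacter (Cen u)) :
    classInner (fun c : Cen u => (χ : G → ℂ) (u * c)) (μ : Cen u → ℂ) = (mm χ μ : ℂ) * nu μ := by
  rw [sec_eq_sum]
  exact Cfsg.Agent.Lib.Char.Ortho.classInner_sum_irr (fun μ => (mm χ μ : ℂ) * nu μ) μ

open Classical

/-- The regular block part of the section function. -/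
noncomputable def gg (p : ℕ) (b : Set (IrrCharacter (Cen u))) (χ : IrrCharacter G) : Cen u → ℂ :=
  reg p (blockPart b (fun c : Cen u => (χ : G → ℂ) (u * c)))

lemma gg_eq (b : Set (IrrCharacter (Cen u))) (χ : IrrCharacter G) :
    gg p b χ = ∑ μ ∈ Finset.univ.filter (· ∈ b), ((mm χ μ : ℂ) * nu μ) • reg p (μ : Cen u → ℂ) := by
  funext c
  rw [Finset.sum_apply]
  simp only [gg, Pi.smul_apply, smul_eq_mul]
  by_cases hc : p ∣ orderOf c
  · rw [reg_of_dvd _ hc]
    symm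
    apply Finset.sum_eq_zero
    intro μ _
    rw [reg_of_dvd _ hc, mul_zero]
  · rw [reg_of_not_dvd _ hc, blockPart_eq_sum]
    refine Finset.sum_congr rfl fun μ _ => ?_
    rw [classInner_sec, reg_of_not_dvd _ hc]

lemma classInner_reg_reg (μ μ' : Cen u → ℂ) :
    classInner (reg p μ) (reg p μ') = classInner (reg p μ) μ' := by
  rw [classInner, classInner]
  congr 1
  refine Finset.sum_congr rfl fun c _ => ?_
  by_cases hc : p ∣ orderOf c
  · rw [reg_of_dvd _ hc]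
    simp
  · rw [reg_of_not_dvd _ hc, reg_of_not_dvd _ hc]

lemma classInner_gg (b : Set (IrrCharacter (Cen u))) (χ χ' : IrrCharacter G) :
    classInner (gg p b χ) (gg p b χ') =
      ∑ μ ∈ Finset.univ.filter (· ∈ b), ∑ μ' ∈ Finset.univ.filter (· ∈ b),
        ((mm χ μ : ℂ) * nu μ) * (conj ((mm χ' μ' : ℂ) * nu μ') *
          classInner (reg p (μ : Cen u → ℂ)) (μ' : Cen u → ℂ)) := by
  rw [gg_eq, gg_eq, Cfsg.Agent.Lib.Char.Ortho.classInner_sum_left]
  refine Finset.sum_congr rfl fun μ _ => ?_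
  rw [Cfsg.Agent.Lib.Char.Ortho.classInner_smul_left, Cfsg.Agent.Lib.Char.Ortho.classInner_sum_right,
    Finset.mul_sum]
  refine Finset.sum_congr rfl fun μ' _ => ?_
  rw [Cfsg.Agent.Lib.Char.Ortho.classInner_smul_right, classInner_reg_reg]

/-- The main numbers. -/
noncomputable def XX (p : ℕ) (b : Set (IrrCharacter (Cen u))) (χ χ' : IrrCharacter G) : ℂ :=
  (p : ℂ) ^ blockDefect p b * classInner (gg p b χ) (gg p b χ')

lemma XX_eq (b : Set (IrrCharacter (Cen u))) (χ χ' : IrrCharacter G) :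
    XX p b χ χ' = ∑ μ ∈ Finset.univ.filter (· ∈ b), ∑ μ' ∈ Finset.univ.filter (· ∈ b),
      ((mm χ μ * mm χ' μ' : ℕ) : ℂ) * (nu μ * conj (nu μ')) *
        ((p : ℂ) ^ blockDefect p b * classInner (reg p (μ : Cen u → ℂ)) (μ' : Cen u → ℂ)) := by
  rw [XX, classInner_gg, Finset.mul_sum]
  refine Finset.sum_congr rfl fun μ _ => ?_
  rw [Finset.mul_sum]
  refine Finset.sum_congr rfl fun μ' _ => ?_
  rw [map_mul, Complex.conj_natCast]
  push_cast
  ring

lemma nu_conj_pow {k : ℕ} (hk : orderOf u = p ^ k) (μ μ' : IrrCharacter (Cen u)) :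
    (nu μ * conj (nu μ')) ^ (p ^ k) = 1 := by
  rw [mul_pow, ← map_pow, nu_pow_eq hk, nu_pow_eq hk, map_one, one_mul]

/-- The numbers `XX` are integer combinations of roots of unity. -/
theorem XX_mem (hM : IsPModular p M) {k : ℕ} (hk : orderOf u = p ^ k) (b : Set (IrrCharacter (Cen u)))
    (χ χ' : IrrCharacter G) : XX p b χ χ' ∈ rootSums (p ^ k) := by
  rw [XX_eq]
  refine AddSubgroup.sum_mem _ fun μ _ => AddSubgroup.sum_mem _ fun μ' hμ' => ?_
  obtain ⟨n, hn⟩ := exists_int_pow_defect_mul hM μ (Finset.mem_filter.mp hμ').2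
  rw [hn]
  have h1 : ((mm χ μ * mm χ' μ' : ℕ) : ℂ) * (nu μ * conj (nu μ')) * (n : ℂ) =
      (((mm χ μ * mm χ' μ' : ℕ) : ℤ) * n) • (nu μ * conj (nu μ')) := by
    rw [zsmul_eq_mul]
    push_cast
    ring
  rw [h1]
  exact zsmul_mem (root_mem_rootSums (nu_conj_pow hk μ μ')) _

/-- The double sum without the roots of unity. -/
noncomputable def DD (p : ℕ) (b : Set (IrrCharacter (Cen u))) (χ χ' : IrrCharacter G) : ℂ :=
  ∑ μ ∈ Finset.univ.filter (· ∈ b), ∑ μ' ∈ Finset.univ.filter (· ∈ b),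
      ((mm χ μ * mm χ' μ' : ℕ) : ℂ) *
        ((p : ℂ) ^ blockDefect p b * classInner (reg p (μ : Cen u → ℂ)) (μ' : Cen u → ℂ))

/-- Modulo the local ideal the roots of unity can be dropped. -/
theorem XX_cong (hM : IsPModular p M) {k : ℕ} (hk : orderOf u = p ^ k) (b : Set (IrrCharacter (Cen u)))
    (χ χ' : IrrCharacter G) : MemLocalIdeal M (XX p b χ χ' - DD p b χ χ') := by
  rw [XX_eq, DD, ← Finset.sum_sub_distrib]
  refine memLocalIdeal_sum _ _ fun μ _ => ?_
  rw [← Finset.sum_sub_distrib]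
  refine memLocalIdeal_sum _ _ fun μ' hμ' => ?_
  obtain ⟨n, hn⟩ := exists_int_pow_defect_mul hM μ (Finset.mem_filter.mp hμ').2
  rw [hn]
  have h1 : ((mm χ μ * mm χ' μ' : ℕ) : ℂ) * (nu μ * conj (nu μ')) * (n : ℂ) - ((mm χ μ * mm χ' μ' : ℕ) : ℂ) * (n : ℂ) =
      (((mm χ μ * mm χ' μ' : ℕ) : ℂ) * (n : ℂ)) * (nu μ * conj (nu μ') - 1) := by ring
  rw [h1]
  exact memLocalIdeal_mul_left (memLocalRing_mul (memLocalRing_natCast _) (memLocalRing_intCast _))
    (memLocalIdeal_root_sub_one hM (nu_conj_pow hk μ μ'))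

/-- The expansion of `[reg χ_C, μ']` along the block. -/
theorem sum_mm_reg (hM : IsPModular p M) {b : Set (IrrCharacter (Cen u))} (hb : IsPBlock M b) (χ : IrrCharacter G)
    {μ' : IrrCharacter (Cen u)} (hμ' : μ' ∈ b) :
    ∑ μ ∈ Finset.univ.filter (· ∈ b), (mm χ μ : ℂ) * classInner (reg p (μ : Cen u → ℂ)) (μ' : Cen u → ℂ) =
      classInner (reg p (fun c : Cen u => (χ : G → ℂ) c)) (μ' : Cen u → ℂ) := by
  have h1 : reg p (fun c : Cen u => (χ : G → ℂ) c) =
      ∑ μ : IrrCharacter (Cen u), (mm χ μ : ℂ) • reg p (μ : Cen u → ℂ) := by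
    funext c
    rw [Finset.sum_apply]
    simp only [Pi.smul_apply, smul_eq_mul]
    by_cases hc : p ∣ orderOf c
    · rw [reg_of_dvd _ hc]
      symm
      apply Finset.sum_eq_zero
      intro μ _
      rw [reg_of_dvd _ hc, mul_zero]
    · rw [reg_of_not_dvd _ hc, res_expand]
      refine Finset.sum_congr rfl fun μ _ => ?_
      rw [reg_of_not_dvd _ hc]
  rw [h1, Cfsg.Agent.Lib.Char.Ortho.classInner_sum_left, Finset.sum_filter]
  refine Finset.sum_congr rfl fun μ _ => ?_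
  rw [Cfsg.Agent.Lib.Char.Ortho.classInner_smul_left]
  by_cases hμ : μ ∈ b
  · rw [if_pos hμ]
  · rw [if_neg hμ, classInner_reg_eq_zero hM, mul_zero]
    intro hs
    apply hμ
    exact isClosed_of_isPBlock hb μ' hμ' (sameBlock_symm hs)

/-- The cofactor of the degree. -/
noncomputable def vv (p : ℕ) (b : Set (IrrCharacter (Cen u))) (μ : IrrCharacter (Cen u)) : ℕ :=
  charDegree (μ : Cen u → ℂ) / p ^ mu p b

lemma vv_spec {b : Set (IrrCharacter (Cen u))} {μ : IrrCharacter (Cen u)} (hμ : μ ∈ b) :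
    p ^ mu p b * vv p b μ = charDegree (μ : Cen u → ℂ) := by
  apply Nat.mul_div_cancel'
  refine dvd_trans (pow_dvd_pow p (mu_le hμ)) (Nat.ordProj_dvd _ _)

lemma vv_not_dvd {b : Set (IrrCharacter (Cen u))} {μ : IrrCharacter (Cen u)} (hμ : μ ∈ b)
    (h0 : blockHeight p b (μ : Cen u → ℂ) = 0) : ¬ p ∣ vv p b μ := by
  rintro ⟨t, ht⟩
  have h1 := vv_spec (p := p) hμ
  have h2 := Cfsg.Agent.Lib.Blocks.RegInt.charDegree_ne_zero μ
  have h3 : p ^ (mu p b + 1) ∣ charDegree (μ : Cen u → ℂ) := by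
    rw [← h1, ht, pow_succ]
    exact ⟨t, by ring⟩
  have h4 := (hp.out.pow_dvd_iff_le_factorization h2).mp h3
  have h5 := mu_add_height (p := p) hμ
  omega

lemma vv_ne_zero {b : Set (IrrCharacter (Cen u))} {μ : IrrCharacter (Cen u)} (hμ : μ ∈ b) :
    ((vv p b μ : ℕ) : ℂ) ≠ 0 := by
  have h1 := vv_spec (p := p) hμ
  have h2 := Cfsg.Agent.Lib.Blocks.RegInt.charDegree_ne_zero μ
  have h3 : vv p b μ ≠ 0 := by
    intro h0
    rw [h0, mul_zero] at h1
    exact h2 h1.symm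
  exact_mod_cast h3

/-- The cofactor of the group order. -/
noncomputable abbrev ff (p : ℕ) (u : G) : ℕ := ordCompl[p] (Nat.card (Cen u))

lemma arith_id {b : Set (IrrCharacter (Cen u))} {μ : IrrCharacter (Cen u)} (hμ : μ ∈ b) :
    (ff p u : ℂ) * ((p : ℂ) ^ blockDefect p b * ((Nat.card (Cen u) : ℂ)⁻¹ * (μ : Cen u → ℂ) 1)) = vv p b μ := by
  have h1 : ((p ^ (Nat.card (Cen u)).factorization p : ℕ) : ℂ) * (ff p u : ℂ) = (Nat.card (Cen u) : ℂ) := by
    rw [← Nat.cast_mul, Nat.ordProj_mul_ordCompl_eq_self]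
  have h2 := defect_add_mu (p := p) hμ
  have h3 : ((p ^ mu p b : ℕ) : ℂ) * (vv p b μ : ℂ) = (μ : Cen u → ℂ) 1 := by
    rw [← Nat.cast_mul, vv_spec hμ, Cfsg.Agent.Lib.Blocks.RegInt.charDegree_cast]
  have hcard : (Nat.card (Cen u) : ℂ) ≠ 0 := Nat.cast_ne_zero.mpr Nat.card_pos.ne'
  rw [← h2] at h1
  rw [← h3, ← h1]
  have hf : (ff p u : ℂ) ≠ 0 := by
    intro h0
    rw [← h1, h0, mul_zero] at hcard
    exact hcard rfl
  have hp0 : (p : ℂ) ≠ 0 := by exact_mod_cast hp.out.ne_zero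
  push_cast
  rw [pow_add]
  field_simp

/-- First main computation. -/
theorem key1 {b : Set (IrrCharacter (Cen u))} (χ : IrrCharacter G) {μ' : IrrCharacter (Cen u)} (hμ' : μ' ∈ b) :
    (ff p u : ℂ) * ((p : ℂ) ^ blockDefect p b * classInner (reg p (fun c : Cen u => (χ : G → ℂ) c)) (μ' : Cen u → ℂ)) =
      vv p b μ' * omega (μ' : Cen u → ℂ) (restr (Cen u) (zElt p (χ : G → ℂ))) := by
  have h1 := Cfsg.Agent.S4431.classInner_eq_omega_restr p (Cen u) χ μ'
  have hfun : (fun h : Cen u => if p ∣ orderOf h then (0 : ℂ) else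
        ((p ^ (Nat.card (Cen u)).factorization p : ℕ) : ℂ) * (χ : G → ℂ) h) =
      ((p ^ (Nat.card (Cen u)).factorization p : ℕ) : ℂ) • reg p (fun c : Cen u => (χ : G → ℂ) c) := by
    funext h
    simp only [Pi.smul_apply, smul_eq_mul]
    by_cases hh : p ∣ orderOf h
    · rw [if_pos hh, reg_of_dvd _ hh, mul_zero]
    · rw [if_neg hh, reg_of_not_dvd _ hh]
  rw [hfun, Cfsg.Agent.Lib.Char.Ortho.classInner_smul_left] at h1
  have h2 := defect_add_mu (p := p) hμ'
  have h3 : ((p ^ mu p b : ℕ) : ℂ) * (vv p b μ' : ℂ) = (μ' : Cen u → ℂ) 1 := by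
    rw [← Nat.cast_mul, vv_spec hμ', Cfsg.Agent.Lib.Blocks.RegInt.charDegree_cast]
  have hv := vv_ne_zero (p := p) hμ'
  have hp0 : (p : ℂ) ≠ 0 := by exact_mod_cast hp.out.ne_zero
  have hf : (ff p u : ℂ) ≠ 0 := by
    have : ff p u ≠ 0 := (Nat.ordCompl_pos p Nat.card_pos.ne').ne'
    exact_mod_cast this
  have hpa : ((p ^ (Nat.card (Cen u)).factorization p : ℕ) : ℂ) = (p : ℂ) ^ blockDefect p b * (p : ℂ) ^ mu p b := by
    rw [← h2]
    push_cast
    rw [pow_add]
  have hB : (p : ℂ) ^ mu p b ≠ 0 := pow_ne_zero _ hp0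
  have h3' : (μ' : Cen u → ℂ) 1 = (p : ℂ) ^ mu p b * (vv p b μ' : ℂ) := by
    rw [← h3]
    push_cast
    rfl
  rw [hpa, h3', div_eq_iff (mul_ne_zero hB hv)] at h1
  have h5 : (p : ℂ) ^ blockDefect p b * classInner (reg p (fun c : Cen u => (χ : G → ℂ) c)) (μ' : Cen u → ℂ) =
      (ff p u : ℂ)⁻¹ * omega (μ' : Cen u → ℂ) (restr (Cen u) (zElt p (χ : G → ℂ))) * (vv p b μ' : ℂ) := by
    apply mul_left_cancel₀ hB
    linear_combination h1
  rw [h5]
  field_simp

/-- Second main computation. -/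
theorem key2 {b : Set (IrrCharacter (Cen u))} (μ₀ : IrrCharacter (Cen u)) {μ : IrrCharacter (Cen u)} (hμ : μ ∈ b) :
    (ff p u : ℂ) * ((p : ℂ) ^ blockDefect p b * classInner (reg p (μ : Cen u → ℂ)) (μ₀ : Cen u → ℂ)) =
      vv p b μ * omega (μ : Cen u → ℂ) (zElt p (μ₀ : Cen u → ℂ)) := by
  have h1 : classInner (reg p (μ : Cen u → ℂ)) (μ₀ : Cen u → ℂ) =
      classInner (reg p (μ₀ : Cen u → ℂ)) (μ : Cen u → ℂ) := by
    rw [Cfsg.Agent.Lib.Blocks.RegInt.classInner_reg_eq_regSum, Cfsg.Agent.Lib.Blocks.RegInt.classInner_reg_eq_regSum,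
      regSum_comm μ₀.2 μ.2]
  rw [h1, classInner_reg_eq_omega, ← arith_id hμ]
  ring

/-- The degree of the `b`-part of the restriction, divided by the common power of `p`. -/
noncomputable def nn (p : ℕ) (b : Set (IrrCharacter (Cen u))) (χ : IrrCharacter G) : ℕ :=
  ∑ μ ∈ Finset.univ.filter (· ∈ b), mm χ μ * vv p b μ

/-- The block `b` has the congruence for `DD`. -/
theorem ff_mul_DD (hM : IsPModular p M) {b : Set (IrrCharacter (Cen u))} (hb : IsPBlock M b) (χ χ' : IrrCharacter G) :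
    (ff p u : ℂ) * DD p b χ χ' = ∑ μ' ∈ Finset.univ.filter (· ∈ b), (mm χ' μ' : ℂ) * ((vv p b μ' : ℂ) *
      omega (μ' : Cen u → ℂ) (restr (Cen u) (zElt p (χ : G → ℂ)))) := by
  rw [DD, Finset.sum_comm, Finset.mul_sum]
  refine Finset.sum_congr rfl fun μ' hμ' => ?_
  have hμ'b := (Finset.mem_filter.mp hμ').2
  rw [← key1 χ hμ'b, ← sum_mm_reg hM hb χ hμ'b, Finset.mul_sum, Finset.mul_sum, Finset.mul_sum, Finset.mul_sum]
  refine Finset.sum_congr rfl fun μ _ => ?_
  push_cast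
  ring

/-- The central congruence. -/
theorem ff_mul_DD_cong (hM : IsPModular p M) {b : Set (IrrCharacter (Cen u))} {B : Set (IrrCharacter G)}
    (hind : IsInducedBlock M (Cen u) b B) {χ : IrrCharacter G} (hχ : χ ∈ B) (χ' : IrrCharacter G) :
    MemLocalIdeal M ((ff p u : ℂ) * DD p b χ χ' - (nn p b χ' : ℂ) * omega (χ : G → ℂ) (zElt p (χ : G → ℂ))) := by
  rw [ff_mul_DD hM hind.1, nn]
  push_cast
  rw [Finset.sum_mul, ← Finset.sum_sub_distrib]
  refine memLocalIdeal_sum _ _ fun μ' hμ' => ?_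
  have h1 := memLocalIdeal_omega_restr_sub (H := Cen u) (ξ := (μ' : Cen u → ℂ))
    (isClassFunction_of_irr χ.2) (zElt_mem_localCenter (M := M) (p := p) χ.2)
    (hind.2.2 μ' (Finset.mem_filter.mp hμ').2 χ hχ)
  have h2 : (mm χ' μ' : ℂ) * ((vv p b μ' : ℂ) * omega (μ' : Cen u → ℂ) (restr (Cen u) (zElt p (χ : G → ℂ)))) -
      (mm χ' μ' : ℂ) * (vv p b μ' : ℂ) * omega (χ : G → ℂ) (zElt p (χ : G → ℂ)) =
      ((mm χ' μ' : ℂ) * (vv p b μ' : ℂ)) * (omega (μ' : Cen u → ℂ) (restr (Cen u) (zElt p (χ : G → ℂ))) -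
        omega (χ : G → ℂ) (zElt p (χ : G → ℂ))) := by ring
  rw [h2]
  exact memLocalIdeal_mul_left (memLocalRing_mul (memLocalRing_natCast _) (memLocalRing_natCast _)) h1

/-- The number `nn` is prime to `p` for a character of height zero. -/
theorem nn_not_mem (hM : IsPModular p M) {b : Set (IrrCharacter (Cen u))} {B : Set (IrrCharacter G)}
    (hind : IsInducedBlock M (Cen u) b B) {χ : IrrCharacter G} (hχ : χ ∈ B)
    (h0 : blockHeight p B (χ : G → ℂ) = 0) : ¬ MemLocalIdeal M ((nn p b χ : ℕ) : ℂ) := by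
  intro hn
  have hb := hind.1
  obtain ⟨μ₀, hμ₀, hμ₀0⟩ := exists_height_zero (p := p) (nonempty_of_isPBlock hb)
  set A : ℂ := (ff p u : ℂ) * ((p : ℂ) ^ blockDefect p b *
    classInner (reg p (fun c : Cen u => (χ : G → ℂ) c)) (μ₀ : Cen u → ℂ)) with hA
  have h1 : A = (vv p b μ₀ : ℂ) * omega (μ₀ : Cen u → ℂ) (restr (Cen u) (zElt p (χ : G → ℂ))) := key1 χ hμ₀
  have h2 := memLocalIdeal_omega_restr_sub (H := Cen u) (ξ := (μ₀ : Cen u → ℂ))
    (isClassFunction_of_irr χ.2) (zElt_mem_localCenter (M := M) (p := p) χ.2) (hind.2.2 μ₀ hμ₀ χ hχ)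
  have h3 : A = ∑ μ ∈ Finset.univ.filter (· ∈ b), (mm χ μ : ℂ) * ((vv p b μ : ℂ) *
      omega (μ : Cen u → ℂ) (zElt p (μ₀ : Cen u → ℂ))) := by
    rw [hA, ← sum_mm_reg hM hb χ hμ₀, Finset.mul_sum, Finset.mul_sum]
    refine Finset.sum_congr rfl fun μ hμ => ?_
    rw [← key2 μ₀ (Finset.mem_filter.mp hμ).2]
    ring
  have h4 : MemLocalIdeal M (A - (nn p b χ : ℂ) * omega (μ₀ : Cen u → ℂ) (zElt p (μ₀ : Cen u → ℂ))) := by
    rw [h3, nn]
    push_cast
    rw [Finset.sum_mul, ← Finset.sum_sub_distrib]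
    refine memLocalIdeal_sum _ _ fun μ hμ => ?_
    have h5 : SameBlock M (μ : Cen u → ℂ) (μ₀ : Cen u → ℂ) := by
      have hμb := (Finset.mem_filter.mp hμ).2
      obtain ⟨τ, hτ⟩ := hb
      rw [hτ] at hμb hμ₀
      exact sameBlock_trans (sameBlock_symm hμb) hμ₀
    have h6 := memLocalIdeal_omega_sub μ.2 μ₀.2 h5 (zElt_mem_localCenter (M := M) (p := p) μ₀.2)
    have h7 : (mm χ μ : ℂ) * ((vv p b μ : ℂ) * omega (μ : Cen u → ℂ) (zElt p (μ₀ : Cen u → ℂ))) -
        (mm χ μ : ℂ) * (vv p b μ : ℂ) * omega (μ₀ : Cen u → ℂ) (zElt p (μ₀ : Cen u → ℂ)) =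
        ((mm χ μ : ℂ) * (vv p b μ : ℂ)) * (omega (μ : Cen u → ℂ) (zElt p (μ₀ : Cen u → ℂ)) -
          omega (μ₀ : Cen u → ℂ) (zElt p (μ₀ : Cen u → ℂ))) := by ring
    rw [h7]
    exact memLocalIdeal_mul_left (memLocalRing_mul (memLocalRing_natCast _) (memLocalRing_natCast _)) h6
  have h8 : MemLocalIdeal M A := by
    have h9 := memLocalIdeal_add h4 (memLocalIdeal_mul_right hn
      (memLocalRing_omega μ₀.2 (zElt_mem_localCenter (M := M) (p := p) μ₀.2)))
    simpa using h9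
  have hvv : ¬ MemLocalIdeal M ((vv p b μ₀ : ℕ) : ℂ) := fun h =>
    vv_not_dvd hμ₀ hμ₀0 ((memLocalIdeal_natCast_iff hM).1 h)
  have hω := not_memLocalIdeal_omega_zElt_self hM hind.2.1 hχ h0
  apply not_memLocalIdeal_mul (memLocalRing_natCast _)
    (memLocalRing_omega χ.2 (zElt_mem_localCenter (M := M) (p := p) χ.2)) hvv hω
  have h10 := memLocalIdeal_sub h8 (memLocalIdeal_mul_left (memLocalRing_natCast (vv p b μ₀)) h2)
  rw [h1] at h10
  convert h10 using 1
  ring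

/-- **The numbers `XX` do not vanish.** -/
theorem XX_ne (hM : IsPModular p M) {k : ℕ} (hk : orderOf u = p ^ k) {b : Set (IrrCharacter (Cen u))}
    {B : Set (IrrCharacter G)} (hind : IsInducedBlock M (Cen u) b B) {χ χ' : IrrCharacter G} (hχ : χ ∈ B)
    (hχ' : χ' ∈ B) (h0 : blockHeight p B (χ : G → ℂ) = 0) (h0' : blockHeight p B (χ' : G → ℂ) = 0) :
    XX p b χ χ' ≠ 0 := by
  intro hX
  have h1 := XX_cong hM hk b χ χ'
  rw [hX, zero_sub] at h1
  have h2 := memLocalIdeal_neg (memLocalIdeal_mul_left (memLocalRing_natCast (ff p u)) h1)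
  have h3 := ff_mul_DD_cong hM hind hχ χ'
  have h4 := memLocalIdeal_sub h2 h3
  have h5 : MemLocalIdeal M ((nn p b χ' : ℂ) * omega (χ : G → ℂ) (zElt p (χ : G → ℂ))) := by
    convert h4 using 1
    ring
  exact not_memLocalIdeal_mul (memLocalRing_natCast _)
    (memLocalRing_omega χ.2 (zElt_mem_localCenter (M := M) (p := p) χ.2))
    (nn_not_mem hM hind hχ' h0') (not_memLocalIdeal_omega_zElt_self hM hind.2.1 hχ h0) h5

lemma sumInner_sum_right {X : Type*} [Fintype X] {ι : Type*} (s : Finset ι) (f : X → ℂ) (g : ι → X → ℂ) :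
    sumInner f (∑ i ∈ s, g i) = ∑ i ∈ s, sumInner f (g i) := by
  classical
  induction s using Finset.induction_on with
  | empty => simp [sumInner]
  | insert a s ha ih => rw [Finset.sum_insert ha, Finset.sum_insert ha, sumInner_add_right, ih]

/-- **The sum of the squares.** -/
theorem sum_XX (hM : IsPModular p M) {k : ℕ} (hk : orderOf u = p ^ k) {b : Set (IrrCharacter (Cen u))}
    (hb : IsPBlock M b) (χ₀ : IrrCharacter G) (hsub : ∀ ξ ∈ b, ξ ∈ inducers (Cen u) M (χ₀ : G → ℂ)) :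
    ∑ χ ∈ Finset.univ.filter (· ∈ blockOf M (χ₀ : G → ℂ)), ∑ χ' ∈ Finset.univ.filter (· ∈ blockOf M (χ₀ : G → ℂ)),
      XX p b χ χ' * conj (XX p b χ χ') = ((p ^ (2 * blockDefect p b) * blockRank p b : ℕ) : ℂ) := by
  have heC : IsClosed M b := isClosed_of_isPBlock hb
  obtain ⟨w, hwmem, hwon, hwexp⟩ := exists_orthonormal (regSpan p b)
  have hs : regSpan p b ≤ regSpan p (inducers (Cen u) M (χ₀ : G → ℂ)) :=
    Submodule.span_mono (Set.image_mono hsub)
  set T : Fin (Module.finrank ℂ (regSpan p b)) → IrrCharacter G → ℂ := fun i χ =>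
    sumInner (fun c : Cen u => (χ : G → ℂ) (u * c)) (w i) with hT
  have h1 : ∀ i χ, sumInner (gg p b χ) (w i) = T i χ := fun i χ =>
    sumInner_reg_blockPart hM heC _ (hwmem i)
  have h2 : ∀ χ, gg p b χ = ∑ i, T i χ • w i := by
    intro χ
    conv_lhs => rw [hwexp (gg p b χ) (reg_blockPart_mem _ _)]
    simp only [← h1]
    rfl
  have hcard : (Nat.card (Cen u) : ℂ) ≠ 0 := Nat.cast_ne_zero.mpr Nat.card_pos.ne'
  have h3 : ∀ χ χ', classInner (gg p b χ) (gg p b χ') = (Nat.card (Cen u) : ℂ)⁻¹ * ∑ i, T i χ * conj (T i χ') := by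
    intro χ χ'
    show (Nat.card (Cen u) : ℂ)⁻¹ * sumInner (gg p b χ) (gg p b χ') = _
    congr 1
    conv_lhs => rw [h2 χ']
    rw [sumInner_sum_right]
    refine Finset.sum_congr rfl fun i _ => ?_
    rw [sumInner_smul_right, h1, mul_comm]
  have h4 : ∀ i j, ∑ χ ∈ Finset.univ.filter (· ∈ blockOf M (χ₀ : G → ℂ)), conj (T i χ) * T j χ =
      (Nat.card (Cen u) : ℂ) * (if i = j then 1 else 0) := by
    intro i j
    rw [← hwon i j]
    exact sum_polar hM χ₀ hk (hs (hwmem i)) (hs (hwmem j))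
  have h5 : ∀ χ χ', XX p b χ χ' * conj (XX p b χ χ') =
      ((p : ℂ) ^ (2 * blockDefect p b) * ((Nat.card (Cen u) : ℂ)⁻¹) ^ 2) *
        ∑ i, ∑ j, (conj (T j χ) * T i χ) * (conj (T i χ') * T j χ') := by
    intro χ χ'
    rw [XX, h3, map_mul, map_mul, map_pow, Complex.conj_natCast, map_inv₀, Complex.conj_natCast, map_sum]
    simp only [map_mul, Complex.conj_conj]
    have h6 : (∑ i, T i χ * conj (T i χ')) * (∑ j, conj (T j χ) * T j χ') =
        ∑ i, ∑ j, (conj (T j χ) * T i χ) * (conj (T i χ') * T j χ') := by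
      rw [Finset.sum_mul_sum]
      refine Finset.sum_congr rfl fun i _ => Finset.sum_congr rfl fun j _ => ?_
      ring
    rw [← h6]
    ring
  simp only [h5, ← Finset.mul_sum]
  have h7 : ∑ χ ∈ Finset.univ.filter (· ∈ blockOf M (χ₀ : G → ℂ)), ∑ χ' ∈ Finset.univ.filter (· ∈ blockOf M (χ₀ : G → ℂ)),
      ∑ i, ∑ j, (conj (T j χ) * T i χ) * (conj (T i χ') * T j χ') =
      ∑ i, ∑ j, (∑ χ ∈ Finset.univ.filter (· ∈ blockOf M (χ₀ : G → ℂ)), conj (T j χ) * T i χ) *
        (∑ χ' ∈ Finset.univ.filter (· ∈ blockOf M (χ₀ : G → ℂ)), conj (T i χ') * T j χ') := by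
    have h8 : ∀ i j, (∑ χ ∈ Finset.univ.filter (· ∈ blockOf M (χ₀ : G → ℂ)), conj (T j χ) * T i χ) *
        (∑ χ' ∈ Finset.univ.filter (· ∈ blockOf M (χ₀ : G → ℂ)), conj (T i χ') * T j χ') =
        ∑ χ ∈ Finset.univ.filter (· ∈ blockOf M (χ₀ : G → ℂ)), ∑ χ' ∈ Finset.univ.filter (· ∈ blockOf M (χ₀ : G → ℂ)),
          (conj (T j χ) * T i χ) * (conj (T i χ') * T j χ') := fun i j => Finset.sum_mul_sum _ _ _ _
    simp only [h8]
    calc _ = ∑ χ ∈ Finset.univ.filter (· ∈ blockOf M (χ₀ : G → ℂ)), ∑ i, ∑ χ' ∈ Finset.univ.filter (· ∈ blockOf M (χ₀ : G → ℂ)),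
          ∑ j, (conj (T j χ) * T i χ) * (conj (T i χ') * T j χ') :=
          Finset.sum_congr rfl fun χ _ => Finset.sum_comm
      _ = ∑ i, ∑ χ ∈ Finset.univ.filter (· ∈ blockOf M (χ₀ : G → ℂ)), ∑ χ' ∈ Finset.univ.filter (· ∈ blockOf M (χ₀ : G → ℂ)),
          ∑ j, (conj (T j χ) * T i χ) * (conj (T i χ') * T j χ') := Finset.sum_comm
      _ = ∑ i, ∑ χ ∈ Finset.univ.filter (· ∈ blockOf M (χ₀ : G → ℂ)), ∑ j, ∑ χ' ∈ Finset.univ.filter (· ∈ blockOf M (χ₀ : G → ℂ)),
          (conj (T j χ) * T i χ) * (conj (T i χ') * T j χ') :=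
          Finset.sum_congr rfl fun i _ => Finset.sum_congr rfl fun χ _ => Finset.sum_comm
      _ = _ := Finset.sum_congr rfl fun i _ => Finset.sum_comm
  rw [h7]
  simp only [h4]
  have h9 : ∑ i : Fin (Module.finrank ℂ (regSpan p b)), ∑ j : Fin (Module.finrank ℂ (regSpan p b)),
      ((Nat.card (Cen u) : ℂ) * (if j = i then 1 else 0)) * ((Nat.card (Cen u) : ℂ) * (if i = j then 1 else 0)) =
      (Nat.card (Cen u) : ℂ) ^ 2 * (Module.finrank ℂ (regSpan p b) : ℂ) := by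
    have h10 : ∀ i : Fin (Module.finrank ℂ (regSpan p b)), ∑ j : Fin (Module.finrank ℂ (regSpan p b)),
        ((Nat.card (Cen u) : ℂ) * (if j = i then 1 else 0)) * ((Nat.card (Cen u) : ℂ) * (if i = j then 1 else 0)) =
        (Nat.card (Cen u) : ℂ) ^ 2 := by
      intro i
      rw [Finset.sum_eq_single i]
      · simp only [if_true]
        ring
      · intro j _ hj
        rw [if_neg hj, mul_zero, zero_mul]
      · intro h
        exact absurd (Finset.mem_univ i) h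
    simp only [h10, Finset.sum_const, Finset.card_univ, Fintype.card_fin, nsmul_eq_mul]
    ring
  rw [h9, blockRank_eq]
  push_cast
  field_simp

/-- **Robinson's bound**, for blocks all of whose characters have height zero. -/
theorem card_sq_le (hM : IsPModular p M) {k : ℕ} (hk : orderOf u = p ^ k) {b : Set (IrrCharacter (Cen u))}
    {B : Set (IrrCharacter G)} (hind : IsInducedBlock M (Cen u) b B)
    (hh : ∀ χ ∈ B, blockHeight p B (χ : G → ℂ) = 0) :
    Nat.card B ^ 2 ≤ p ^ (2 * blockDefect p b) * blockRank p b := by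
  obtain ⟨χ₀, rfl⟩ := id hind.2.1
  have hχ₀ := mem_blockOf_self (M := M) χ₀
  have hsub : ∀ ξ ∈ b, ξ ∈ inducers (Cen u) M (χ₀ : G → ℂ) := fun ξ hξ g => hind.2.2 ξ hξ χ₀ hχ₀ g
  set B := blockOf M (χ₀ : G → ℂ) with hBdef
  haveI : Fintype B := Fintype.ofFinite _
  have hpk : 0 < p ^ k := pow_pos hp.out.pos k
  have h1 := card_le_of_sum_mul_conj hpk (S := B × B) (fun x => XX p b (x.1 : IrrCharacter G) (x.2 : IrrCharacter G))
    (fun x => XX_mem hM hk b _ _) (fun x => XX_ne hM hk hind x.1.2 x.2.2 (hh _ x.1.2) (hh _ x.2.2))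
    (p ^ (2 * blockDefect p b) * blockRank p b) (by
      rw [Fintype.sum_prod_type, ← sum_XX hM hk hind.1 χ₀ hsub]
      have h2 : ∀ F : IrrCharacter G → ℂ, ∑ χ : B, F χ = ∑ χ ∈ Finset.univ.filter (· ∈ B), F χ := by
        intro F
        symm
        exact Finset.sum_subtype _ (by simp) F
      rw [← h2]
      refine Finset.sum_congr rfl fun χ _ => ?_
      rw [← h2])
  rw [Fintype.card_prod] at h1
  rw [Nat.card_eq_fintype_card, sq]
  exact h1

end Main

end Cfsg.Agent.Lib.Blocks.MajorSub
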