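import Mathlib
import Cfsg.Agent.Lib.Blocks.GaloisAvg
import Cfsg.Agent.Lib.Char.GaloisC
import Cfsg.Agent.Lib.Blocks.Local
import Cfsg.Agent.Lib.Blocks.MajorSub

/-!
# The ring of integer combinations of `p^K`-th roots of unity

* `rootRing n`: the additive group `rootSums n` as a subring of `ℂ`.
* `div_mem_of_local`: if `x = p * y` lies in `rootRing (p ^ K)` and `y` is a local integer at a `p`-modular ideal,
  then `y` lies in `rootRing (p ^ K)` (uniqueness of the prime above `p` in the `p`-power cyclotomic field, in the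
  form needed here).
-/

set_option autoImplicit false

namespace Cfsg.Agent.Lib.Blocks.CycloSums

open Cfsg Cfsg.Agent.Lib.Blocks.Local Cfsg.Agent.Lib.Blocks.GaloisAvg Cfsg.Agent.Lib.Blocks.HeightZero
open scoped ComplexConjugate

lemma root_mul_mem {n : ℕ} {z y : ℂ} (hz : z ^ n = 1) (hy : y ∈ rootSums n) : z * y ∈ rootSums n := by
  induction hy using AddSubgroup.closure_induction with
  | mem b hb =>
    refine root_mem_rootSums ?_
    have hb' : b ^ n = 1 := hb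
    rw [mul_pow, hz, hb', one_mul]
  | zero => rw [mul_zero]; exact AddSubgroup.zero_mem _
  | add s t _ _ hs ht => rw [mul_add]; exact AddSubgroup.add_mem _ hs ht
  | neg s _ hs => rw [mul_neg]; exact AddSubgroup.neg_mem _ hs

/-- The integer combinations of `n`-th roots of unity, as a subring. -/
def rootRing (n : ℕ) : Subring ℂ where
  carrier := rootSums n
  mul_mem' := by
    intro x y hx hy
    have hx' : x ∈ rootSums n := hx
    have hy' : y ∈ rootSums n := hy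
    show x * y ∈ rootSums n
    induction hx' using AddSubgroup.closure_induction with
    | mem a ha => exact root_mul_mem ha hy'
    | zero => rw [zero_mul]; exact AddSubgroup.zero_mem _
    | add s t _ _ hs ht =>
      rw [add_mul]
      exact AddSubgroup.add_mem _ (hs ‹_›) (ht ‹_›)
    | neg s _ hs =>
      rw [neg_mul]
      exact AddSubgroup.neg_mem _ (hs ‹_›)
  one_mem' := root_mem_rootSums (one_pow n)
  add_mem' := fun hx hy => AddSubgroup.add_mem _ hx hy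
  zero_mem' := AddSubgroup.zero_mem _
  neg_mem' := fun hx => AddSubgroup.neg_mem _ hx

@[simp] lemma mem_rootRing {n : ℕ} {x : ℂ} : x ∈ rootRing n ↔ x ∈ rootSums n := Iff.rfl

lemma root_mem_rootRing {n : ℕ} {z : ℂ} (hz : z ^ n = 1) : z ∈ rootRing n := root_mem_rootSums hz

lemma rootSums_mono {m n : ℕ} (h : m ∣ n) : rootSums m ≤ rootSums n := by
  refine (AddSubgroup.closure_le _).2 fun b hb => ?_
  obtain ⟨t, rfl⟩ := h
  refine root_mem_rootSums ?_
  have hb' : b ^ m = 1 := hb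
  rw [pow_mul, hb', one_pow]

lemma rootRing_mono {m n : ℕ} (h : m ∣ n) : rootRing m ≤ rootRing n := fun _ hx => rootSums_mono h hx

lemma conj_mem_rootRing {n : ℕ} {x : ℂ} (hx : x ∈ rootRing n) : conj x ∈ rootRing n := by
  have hx' : x ∈ rootSums n := hx
  show conj x ∈ rootSums n
  induction hx' using AddSubgroup.closure_induction with
  | mem b hb => exact root_mem_rootSums (conj_root hb)
  | zero => rw [map_zero]; exact AddSubgroup.zero_mem _
  | add s t _ _ hs ht =>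
    rw [map_add]
    exact AddSubgroup.add_mem _ (hs ‹_›) (ht ‹_›)
  | neg s _ hs =>
    rw [map_neg]
    exact AddSubgroup.neg_mem _ (hs ‹_›)

section Local

variable {M : Ideal AlgInt} [hMp : M.IsPrime]

lemma memLocalRing_of_mem_rootRing {n : ℕ} (hn : 0 < n) {x : ℂ} (hx : x ∈ rootRing n) : MemLocalRing M x := by
  have hx' : x ∈ rootSums n := hx
  induction hx' using AddSubgroup.closure_induction with
  | mem b hb => exact memLocalRing_of_pow_eq_one hn hb
  | zero => exact memLocalRing_zero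
  | add s t _ _ hs ht => exact memLocalRing_add (hs ‹_›) (ht ‹_›)
  | neg s _ hs => exact memLocalRing_neg (hs ‹_›)

end Local

section Cyclo

variable {p : ℕ} [hp : Fact p.Prime] {K : ℕ}

/-- `1 - β` is divisible by `1 - α` if `β` is a power of `α`, in the root ring. -/
lemma one_sub_pow_dvd {n : ℕ} {α : ℂ} (hα : α ^ n = 1) (i : ℕ) :
    ∃ c ∈ rootRing n, 1 - α ^ i = (1 - α) * c := by
  refine ⟨∑ t ∈ Finset.range i, α ^ t, Subring.sum_mem _ fun t _ => Subring.pow_mem _ (root_mem_rootRing hα) t, ?_⟩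
  have h := mul_geom_sum α i
  linear_combination h

/-- The factorization of `p`. -/
theorem exists_power_assoc {ζ : ℂ} (hζ : IsPrimitiveRoot ζ (p ^ (K + 1))) :
    ∃ e : ℕ, 0 < e ∧ ∃ w ∈ rootRing (p ^ (K + 1)), ∃ w' ∈ rootRing (p ^ (K + 1)),
      (p : ℂ) = (1 - ζ) ^ e * w ∧ (1 - ζ) ^ e = (p : ℂ) * w' := by
  classical
  set n := p ^ (K + 1) with hn
  have hnpos : 0 < n := pow_pos hp.out.pos _
  haveI : NeZero n := ⟨hnpos.ne'⟩
  set S := primitiveRoots n ℂ with hS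
  have hprod : ∏ ξ ∈ S, ((1 : ℂ) - ξ) = (p : ℂ) := by
    have h1 := Polynomial.cyclotomic_eq_prod_X_sub_primitiveRoots hζ
    have h2 := Polynomial.eval_one_cyclotomic_prime_pow (R := ℂ) (p := p) K
    rw [h1, Polynomial.eval_prod] at h2
    simpa using h2
  have hmem : ∀ ξ ∈ S, IsPrimitiveRoot ξ n := fun ξ hξ => (isPrimitiveRoot_of_mem_primitiveRoots hξ)
  have h1 : ∀ ξ ∈ S, ∃ c ∈ rootRing n, 1 - ξ = (1 - ζ) * c := by
    intro ξ hξ
    obtain ⟨i, -, rfl⟩ := hζ.eq_pow_of_pow_eq_one (hmem ξ hξ).pow_eq_one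
    exact one_sub_pow_dvd hζ.pow_eq_one i
  have h2 : ∀ ξ ∈ S, ∃ c ∈ rootRing n, 1 - ζ = (1 - ξ) * c := by
    intro ξ hξ
    obtain ⟨i, -, hi⟩ := (hmem ξ hξ).eq_pow_of_pow_eq_one hζ.pow_eq_one
    have := one_sub_pow_dvd (hmem ξ hξ).pow_eq_one i
    rwa [hi] at this
  choose! c hc hc' using h1
  choose! c₂ hc₂ hc₂' using h2
  have hcard : 0 < S.card := Finset.card_pos.mpr ⟨ζ, by
    rw [hS, mem_primitiveRoots hnpos]
    exact hζ⟩
  refine ⟨S.card, hcard, ∏ ξ ∈ S, c ξ, Subring.prod_mem _ fun ξ hξ => hc ξ hξ,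
    ∏ ξ ∈ S, c₂ ξ, Subring.prod_mem _ fun ξ hξ => hc₂ ξ hξ, ?_, ?_⟩
  · rw [← hprod, ← Finset.prod_const, ← Finset.prod_mul_distrib]
    exact Finset.prod_congr rfl fun ξ hξ => hc' ξ hξ
  · rw [← hprod, ← Finset.prod_const, ← Finset.prod_mul_distrib]
    exact Finset.prod_congr rfl fun ξ hξ => hc₂' ξ hξ

/-- Every element of the root ring is an integer modulo `1 - ζ`. -/
lemma exists_int_add {n : ℕ} (hn : 0 < n) {ζ : ℂ} (hζ : IsPrimitiveRoot ζ n) {x : ℂ} (hx : x ∈ rootRing n) :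
    ∃ m : ℤ, ∃ r ∈ rootRing n, x = m + (1 - ζ) * r := by
  haveI : NeZero n := ⟨hn.ne'⟩
  have hx' : x ∈ rootSums n := hx
  induction hx' using AddSubgroup.closure_induction with
  | mem b hb =>
    have hb' : b ^ n = 1 := hb
    obtain ⟨i, -, rfl⟩ := hζ.eq_pow_of_pow_eq_one hb'
    obtain ⟨c, hc, hc'⟩ := one_sub_pow_dvd hζ.pow_eq_one i
    refine ⟨1, -c, Subring.neg_mem _ hc, ?_⟩
    push_cast
    linear_combination -hc'
  | zero => exact ⟨0, 0, Subring.zero_mem _, by simp⟩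
  | add s t hs' ht' hs ht =>
    obtain ⟨m₁, r₁, h₁, e₁⟩ := hs hs'
    obtain ⟨m₂, r₂, h₂, e₂⟩ := ht ht'
    refine ⟨m₁ + m₂, r₁ + r₂, Subring.add_mem _ h₁ h₂, ?_⟩
    rw [e₁, e₂]
    push_cast
    ring
  | neg s hs' hs =>
    obtain ⟨m₁, r₁, h₁, e₁⟩ := hs hs'
    refine ⟨-m₁, -r₁, Subring.neg_mem _ h₁, ?_⟩
    rw [e₁]
    push_cast
    ring

variable {M : Ideal AlgInt} [hMp : M.IsPrime]

/-- Local ideal and divisibility by `1 - ζ`. -/
lemma exists_of_memLocalIdeal (hM : IsPModular p M) {ζ : ℂ} (hζ : IsPrimitiveRoot ζ (p ^ (K + 1))) {x : ℂ}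
    (hx : x ∈ rootRing (p ^ (K + 1))) (hxM : MemLocalIdeal M x) :
    ∃ r ∈ rootRing (p ^ (K + 1)), x = (1 - ζ) * r := by
  have hnpos : 0 < p ^ (K + 1) := pow_pos hp.out.pos _
  obtain ⟨m, r₀, hr₀, e₀⟩ := exists_int_add hnpos hζ hx
  have hl : MemLocalIdeal M (1 - ζ) := by
    have h := Cfsg.Agent.Lib.Blocks.MajorSub.memLocalIdeal_root_sub_one (M := M) hM hζ.pow_eq_one
    have h' := memLocalIdeal_neg h
    convert h' using 1
    ring
  have hm : MemLocalIdeal M (m : ℂ) := by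
    have h1 : (m : ℂ) = x - (1 - ζ) * r₀ := by rw [e₀]; ring
    rw [h1]
    exact memLocalIdeal_sub hxM (memLocalIdeal_mul_right hl (memLocalRing_of_mem_rootRing hnpos hr₀))
  obtain ⟨t, ht⟩ := (memLocalIdeal_intCast_iff hM).1 hm
  obtain ⟨e, he, w, hw, w', hw', h1, h2⟩ := exists_power_assoc (p := p) (K := K) hζ
  obtain ⟨e', rfl⟩ : ∃ e', e = e' + 1 := ⟨e - 1, by omega⟩
  refine ⟨(1 - ζ) ^ e' * w * t + r₀, Subring.add_mem _ (Subring.mul_mem _ (Subring.mul_mem _
    (Subring.pow_mem _ ?_ _) hw) ?_) hr₀, ?_⟩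
  · exact Subring.sub_mem _ (Subring.one_mem _) (root_mem_rootRing hζ.pow_eq_one)
  · exact intCast_mem _ t
  · rw [e₀, ht]
    push_cast
    rw [h1, pow_succ]
    ring

/-- **Division by `p`.** -/
theorem div_mem_of_local (hM : IsPModular p M) {x y : ℂ} (hx : x ∈ rootRing (p ^ (K + 1)))
    (hy : MemLocalRing M y) (hxy : x = (p : ℂ) * y) : y ∈ rootRing (p ^ (K + 1)) := by
  set n := p ^ (K + 1) with hn
  have hnpos : 0 < n := pow_pos hp.out.pos _
  obtain ⟨ζ, hζ⟩ : ∃ ζ : ℂ, IsPrimitiveRoot ζ n := ⟨_, Complex.isPrimitiveRoot_exp n hnpos.ne'⟩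
  obtain ⟨e, he, w, hw, w', hw', h1, h2⟩ := exists_power_assoc (p := p) (K := K) hζ
  have hp0 : (p : ℂ) ≠ 0 := by exact_mod_cast hp.out.ne_zero
  have hl0 : (1 - ζ) ≠ 0 := by
    intro h0
    rw [h0, zero_pow he.ne', zero_mul] at h1
    exact hp0 h1
  have hl : MemLocalIdeal M (1 - ζ) := by
    have h := Cfsg.Agent.Lib.Blocks.MajorSub.memLocalIdeal_root_sub_one (M := M) hM hζ.pow_eq_one
    have h' := memLocalIdeal_neg h
    convert h' using 1
    ring
  have hwl : MemLocalRing M w := memLocalRing_of_mem_rootRing hnpos hw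
  have hstep : ∀ i, i ≤ e → ∃ z ∈ rootRing n, x = (1 - ζ) ^ i * z := by
    intro i
    induction i with
    | zero => exact fun _ => ⟨x, hx, by simp⟩
    | succ i ih =>
      intro hi
      obtain ⟨z, hz, hxz⟩ := ih (by omega)
      have hzM : MemLocalIdeal M z := by
        obtain ⟨f, hf⟩ : ∃ f, e = i + (f + 1) := ⟨e - i - 1, by omega⟩
        have h3 : (1 - ζ) ^ i * z = (1 - ζ) ^ i * ((1 - ζ) * ((1 - ζ) ^ f * w * y)) := by
          rw [← hxz, hxy, h1, hf]
          ring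
        have h4 := mul_left_cancel₀ (pow_ne_zero i hl0) h3
        rw [h4]
        exact memLocalIdeal_mul_right hl (memLocalRing_mul (memLocalRing_mul
          (memLocalRing_pow (memLocalRing_of_memLocalIdeal hl) f) hwl) hy)
      obtain ⟨r, hr, hzr⟩ := exists_of_memLocalIdeal hM hζ hz hzM
      exact ⟨r, hr, by rw [hxz, hzr, pow_succ]; ring⟩
  obtain ⟨z, hz, hxz⟩ := hstep e le_rfl
  have h3 : y = w' * z := by
    apply mul_left_cancel₀ hp0
    rw [← hxy, hxz, h2]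
    ring
  rw [h3]
  exact Subring.mul_mem _ hw' hz

/-- **Division by a power of `p`.** -/
theorem pow_div_mem_of_local (hM : IsPModular p M) {x y : ℂ} {h : ℕ} (hx : x ∈ rootRing (p ^ (K + 1)))
    (hy : MemLocalRing M y) (hxy : x = (p : ℂ) ^ h * y) : y ∈ rootRing (p ^ (K + 1)) := by
  induction h generalizing x with
  | zero => simpa [hxy] using hx
  | succ h ih =>
    refine ih (x := (p : ℂ) ^ h * y) ?_ rfl
    refine div_mem_of_local hM hx (memLocalRing_mul (memLocalRing_pow (memLocalRing_natCast p) h) hy) ?_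
    rw [hxy, pow_succ]
    ring

end Cyclo

section Avg

variable (n : ℕ) [NeZero n]

/-- The Galois automorphisms of the `2n`-th cyclotomic field, extended to `ℂ`. -/
noncomputable def tau (u : (ZMod (2 * n))ˣ) : ℂ →+* ℂ :=
  Classical.choose (Cfsg.Agent.Lib.Char.Galois.exists_ringHom_pow (2 * n) (NeZero.pos _) _
    (ZMod.val_coe_unit_coprime u))

lemma tau_root (u : (ZMod (2 * n))ˣ) {ε : ℂ} (hε : ε ^ (2 * n) = 1) :
    tau n u ε = ε ^ (u : ZMod (2 * n)).val :=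
  Classical.choose_spec (Cfsg.Agent.Lib.Char.Galois.exists_ringHom_pow (2 * n) (NeZero.pos _) _
    (ZMod.val_coe_unit_coprime u)) ε hε

lemma tau_root' (u : (ZMod (2 * n))ˣ) {ε : ℂ} (hε : ε ^ n = 1) :
    tau n u ε = ε ^ (u : ZMod (2 * n)).val :=
  tau_root n u (by rw [mul_comm, pow_mul, hε, one_pow])

variable {n}

lemma tau_mem (u : (ZMod (2 * n))ˣ) {x : ℂ} (hx : x ∈ rootRing n) : tau n u x ∈ rootRing n := by
  have hx' : x ∈ rootSums n := hx
  induction hx' using AddSubgroup.closure_induction with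
  | mem b hb =>
    have hb' : b ^ n = 1 := hb
    rw [tau_root' n u hb']
    exact Subring.pow_mem _ (root_mem_rootRing hb') _
  | zero => rw [map_zero]; exact Subring.zero_mem _
  | add s t hs' ht' hs ht =>
    rw [map_add]
    exact Subring.add_mem _ (hs hs') (ht ht')
  | neg s hs' hs =>
    rw [map_neg]
    exact Subring.neg_mem _ (hs hs')

lemma tau_conj (u : (ZMod (2 * n))ˣ) {x : ℂ} (hx : x ∈ rootRing n) : tau n u (conj x) = conj (tau n u x) := by
  have hx' : x ∈ rootSums n := hx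
  induction hx' using AddSubgroup.closure_induction with
  | mem b hb =>
    have hb' : b ^ n = 1 := hb
    rw [tau_root' n u hb', tau_root' n u (conj_root hb'), map_pow]
  | zero => simp
  | add s t hs' ht' hs ht => simp only [map_add, hs hs', ht ht']
  | neg s hs' hs => simp only [map_neg, hs hs']

/-- The norm to the rationals is a rational integer. -/
theorem prod_tau_int {x : ℂ} (hx : x ∈ rootRing n) : ∃ m : ℤ, ∏ u, tau n u x = m := by
  obtain ⟨ι, hι, z, hz, rfl⟩ := exists_sum_of_mem (n := n) hx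
  obtain ⟨m, hm⟩ := Cfsg.Agent.Lib.Char.Galois.prod_int (2 * n) z hz
  refine ⟨m, ?_⟩
  rw [← hm]
  refine Finset.prod_congr rfl fun u _ => ?_
  rw [map_sum]
  exact Finset.sum_congr rfl fun i _ => tau_root n u (hz i)

lemma one_le_prod_norm_tau {x : ℂ} (hx : x ∈ rootRing n) (h0 : x ≠ 0) : (1 : ℝ) ≤ ∏ u, ‖tau n u x‖ := by
  obtain ⟨m, hm⟩ := prod_tau_int hx
  have h3 : (m : ℂ) ≠ 0 := by
    rw [← hm]
    exact Finset.prod_ne_zero_iff.mpr fun u _ => (map_ne_zero (tau n u)).mpr h0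
  have h4 : m ≠ 0 := by exact_mod_cast h3
  rw [← norm_prod, hm, Complex.norm_intCast]
  exact_mod_cast Int.one_le_abs h4

variable (n)

/-- The Galois average. -/
noncomputable def avg (x : ℂ) : ℂ := (Fintype.card (ZMod (2 * n))ˣ : ℂ)⁻¹ * ∑ u, tau n u x

/-- The Galois average of the squared absolute value. -/
noncomputable def nAvg (x : ℂ) : ℝ := (Fintype.card (ZMod (2 * n))ˣ : ℝ)⁻¹ * ∑ u, ‖tau n u x‖ ^ 2

variable {n}

lemma card_units_pos : (0 : ℝ) < Fintype.card (ZMod (2 * n))ˣ := by exact_mod_cast Fintype.card_pos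

lemma card_units_ne : (Fintype.card (ZMod (2 * n))ˣ : ℂ) ≠ 0 := by
  have := (card_units_pos (n := n)).ne'
  exact_mod_cast this

lemma avg_add (x y : ℂ) : avg n (x + y) = avg n x + avg n y := by
  simp only [avg, map_add, Finset.sum_add_distrib, mul_add]

lemma avg_zero : avg n 0 = 0 := by simp [avg]

lemma avg_neg (x : ℂ) : avg n (-x) = - avg n x := by
  simp only [avg, map_neg, Finset.sum_neg_distrib, mul_neg]

lemma avg_sub (x y : ℂ) : avg n (x - y) = avg n x - avg n y := by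
  rw [sub_eq_add_neg, avg_add, avg_neg, sub_eq_add_neg]

lemma avg_sum {ι : Type*} (s : Finset ι) (f : ι → ℂ) : avg n (∑ i ∈ s, f i) = ∑ i ∈ s, avg n (f i) := by
  classical
  induction s using Finset.induction_on with
  | empty => simp [avg_zero]
  | insert a s ha ih => rw [Finset.sum_insert ha, Finset.sum_insert ha, avg_add, ih]

lemma avg_natCast_mul (m : ℕ) (x : ℂ) : avg n ((m : ℂ) * x) = (m : ℂ) * avg n x := by
  simp only [avg, map_mul, map_natCast, ← Finset.mul_sum]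
  ring

lemma avg_intCast_mul (m : ℤ) (x : ℂ) : avg n ((m : ℂ) * x) = (m : ℂ) * avg n x := by
  simp only [avg, map_mul, map_intCast, ← Finset.mul_sum]
  ring

lemma avg_one : avg n 1 = 1 := by
  simp only [avg, map_one, Finset.sum_const, Finset.card_univ, nsmul_eq_mul, mul_one]
  exact inv_mul_cancel₀ card_units_ne

lemma avg_natCast (m : ℕ) : avg n (m : ℂ) = m := by
  have := avg_natCast_mul (n := n) m 1
  rwa [mul_one, avg_one, mul_one] at this

lemma avg_intCast (m : ℤ) : avg n (m : ℂ) = m := by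
  have := avg_intCast_mul (n := n) m 1
  rwa [mul_one, avg_one, mul_one] at this

lemma nAvg_nonneg (x : ℂ) : 0 ≤ nAvg n x :=
  mul_nonneg (inv_nonneg.mpr card_units_pos.le) (Finset.sum_nonneg fun _ _ => by positivity)

lemma avg_mul_conj {x : ℂ} (hx : x ∈ rootRing n) : avg n (x * conj x) = (nAvg n x : ℂ) := by
  rw [avg, nAvg]
  push_cast
  congr 1
  refine Finset.sum_congr rfl fun u _ => ?_
  rw [map_mul, tau_conj u hx, Complex.mul_conj, Complex.normSq_eq_norm_sq]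
  push_cast
  rfl

/-- A nonzero element has Galois average of the squared absolute value at least one. -/
theorem one_le_nAvg {x : ℂ} (hx : x ∈ rootRing n) (h0 : x ≠ 0) : 1 ≤ nAvg n x := by
  have h1 : (Fintype.card (ZMod (2 * n))ˣ : ℝ) ≤ ∑ u, ‖tau n u x‖ ^ 2 := by
    apply Cfsg.Agent.Lib.Char.GaloisC.card_le_sum_of_one_le_prod
    · intro u
      positivity
    · rw [Finset.prod_pow]
      exact one_le_pow₀ (one_le_prod_norm_tau hx h0)
  rw [nAvg, inv_mul_eq_div, one_le_div card_units_pos]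
  exact h1

lemma nAvg_natCast_pow_mul (c : ℕ) (h : ℕ) (y : ℂ) : nAvg n ((c : ℂ) ^ h * y) = (c : ℝ) ^ (2 * h) * nAvg n y := by
  rw [nAvg, nAvg, mul_left_comm]
  congr 1
  rw [Finset.mul_sum]
  refine Finset.sum_congr rfl fun u _ => ?_
  rw [map_mul, map_pow, map_natCast, norm_mul, norm_pow, Complex.norm_natCast, mul_pow, pow_mul, pow_two]
  ring

lemma nAvg_conj {x : ℂ} (hx : x ∈ rootRing n) : nAvg n (conj x) = nAvg n x := by
  rw [nAvg, nAvg]
  congr 1
  refine Finset.sum_congr rfl fun u _ => ?_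
  rw [tau_conj u hx, Complex.norm_conj]

/-- All Galois conjugates are nonnegative reals. -/
def TotNonneg (n : ℕ) [NeZero n] (y : ℂ) : Prop := ∀ u, ∃ r : ℝ, 0 ≤ r ∧ tau n u y = r

/-- The real part of the Galois average. -/
noncomputable def aAvg (n : ℕ) [NeZero n] (y : ℂ) : ℝ := (avg n y).re

lemma TotNonneg.avg_eq {y : ℂ} (hy : TotNonneg n y) : avg n y = (aAvg n y : ℂ) := by
  choose r hr0 hr using hy
  have h1 : avg n y = (((Fintype.card (ZMod (2 * n))ˣ : ℝ)⁻¹ * ∑ u, r u : ℝ) : ℂ) := by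
    rw [avg]
    push_cast
    simp only [hr]
  rw [aAvg, h1, Complex.ofReal_re]

lemma TotNonneg.aAvg_nonneg {y : ℂ} (hy : TotNonneg n y) : 0 ≤ aAvg n y := by
  choose r hr0 hr using hy
  have h1 : avg n y = (((Fintype.card (ZMod (2 * n))ˣ : ℝ)⁻¹ * ∑ u, r u : ℝ) : ℂ) := by
    rw [avg]
    push_cast
    simp only [hr]
  rw [aAvg, h1, Complex.ofReal_re]
  exact mul_nonneg (inv_nonneg.mpr card_units_pos.le) (Finset.sum_nonneg fun u _ => hr0 u)

/-- A nonzero totally nonnegative element has Galois average at least one. -/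
theorem TotNonneg.one_le_aAvg {y : ℂ} (hy : TotNonneg n y) (hR : y ∈ rootRing n) (h0 : y ≠ 0) : 1 ≤ aAvg n y := by
  choose r hr0 hr using hy
  have h1 : avg n y = (((Fintype.card (ZMod (2 * n))ˣ : ℝ)⁻¹ * ∑ u, r u : ℝ) : ℂ) := by
    rw [avg]
    push_cast
    simp only [hr]
  have h2 : (Fintype.card (ZMod (2 * n))ˣ : ℝ) ≤ ∑ u, r u := by
    apply Cfsg.Agent.Lib.Char.GaloisC.card_le_sum_of_one_le_prod _ hr0
    have h3 := one_le_prod_norm_tau hR h0
    convert h3 using 2 with u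
    rw [hr u, Complex.norm_real, Real.norm_of_nonneg (hr0 u)]
  rw [aAvg, h1, Complex.ofReal_re, inv_mul_eq_div, one_le_div card_units_pos]
  exact h2

lemma TotNonneg.natCast_mul {y : ℂ} {c : ℕ} (hc : 0 < c) (hy : TotNonneg n ((c : ℂ) * y)) : TotNonneg n y := by
  intro u
  obtain ⟨r, hr0, hr⟩ := hy u
  refine ⟨r / c, by positivity, ?_⟩
  rw [map_mul, map_natCast] at hr
  have hc0 : (c : ℂ) ≠ 0 := by exact_mod_cast hc.ne'
  push_cast
  field_simp
  rw [mul_comm, hr]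

lemma aAvg_natCast_mul {y : ℂ} (c : ℕ) : aAvg n ((c : ℂ) * y) = (c : ℝ) * aAvg n y := by
  rw [aAvg, aAvg, avg_natCast_mul, ← Complex.ofReal_natCast, Complex.re_ofReal_mul]

lemma aAvg_add (x y : ℂ) : aAvg n (x + y) = aAvg n x + aAvg n y := by
  rw [aAvg, aAvg, aAvg, avg_add, Complex.add_re]

lemma aAvg_sub (x y : ℂ) : aAvg n (x - y) = aAvg n x - aAvg n y := by
  rw [aAvg, aAvg, aAvg, avg_sub, Complex.sub_re]

lemma aAvg_natCast (m : ℕ) : aAvg n (m : ℂ) = m := by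
  rw [aAvg, avg_natCast]
  simp

lemma aAvg_sum {ι : Type*} (s : Finset ι) (f : ι → ℂ) : aAvg n (∑ i ∈ s, f i) = ∑ i ∈ s, aAvg n (f i) := by
  rw [aAvg, avg_sum, Complex.re_sum]
  rfl

lemma aAvg_mul_conj {x : ℂ} (hx : x ∈ rootRing n) : aAvg n (x * conj x) = nAvg n x := by
  rw [aAvg, avg_mul_conj hx, Complex.ofReal_re]

/-- A row identity: `∑ x_j conj x_j = c y`. -/
theorem row_totNonneg {ι : Type*} {s : Finset ι} {x : ι → ℂ} (hx : ∀ j ∈ s, x j ∈ rootRing n) {c : ℕ} (hc : 0 < c) {y : ℂ}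
    (hrow : ∑ j ∈ s, x j * conj (x j) = (c : ℂ) * y) : TotNonneg n y := by
  apply TotNonneg.natCast_mul hc
  intro u
  refine ⟨∑ j ∈ s, ‖tau n u (x j)‖ ^ 2, Finset.sum_nonneg fun _ _ => by positivity, ?_⟩
  rw [← hrow, map_sum]
  push_cast
  refine Finset.sum_congr rfl fun j hj => ?_
  rw [map_mul, tau_conj u (hx j hj), Complex.mul_conj, Complex.normSq_eq_norm_sq]
  push_cast
  rfl

/-- The averaged row identity. -/
theorem sum_nAvg_eq {ι : Type*} {s : Finset ι} {x : ι → ℂ} (hx : ∀ j ∈ s, x j ∈ rootRing n) {c : ℕ} {y : ℂ}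
    (hrow : ∑ j ∈ s, x j * conj (x j) = (c : ℂ) * y) : ∑ j ∈ s, nAvg n (x j) = (c : ℝ) * aAvg n y := by
  rw [← aAvg_natCast_mul, ← hrow, aAvg_sum]
  exact Finset.sum_congr rfl fun j hj => (aAvg_mul_conj (hx j hj)).symm

/-- Cauchy-Schwarz. -/
theorem TotNonneg.aAvg_sq_le {y : ℂ} (hy : TotNonneg n y) : aAvg n y ^ 2 ≤ nAvg n y := by
  choose r hr0 hr using hy
  have h1 : avg n y = (((Fintype.card (ZMod (2 * n))ˣ : ℝ)⁻¹ * ∑ u, r u : ℝ) : ℂ) := by
    rw [avg]
    push_cast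
    simp only [hr]
  have h2 : nAvg n y = (Fintype.card (ZMod (2 * n))ˣ : ℝ)⁻¹ * ∑ u, r u ^ 2 := by
    rw [nAvg]
    congr 1
    refine Finset.sum_congr rfl fun u _ => ?_
    rw [hr u, Complex.norm_real, Real.norm_of_nonneg (hr0 u)]
  rw [aAvg, h1, Complex.ofReal_re, h2]
  have h3 := sq_sum_le_card_mul_sum_sq (s := (Finset.univ : Finset (ZMod (2 * n))ˣ)) (f := r)
  rw [Finset.card_univ] at h3
  have hc := card_units_pos (n := n)
  rw [mul_pow]
  have h4 : (Fintype.card (ZMod (2 * n))ˣ : ℝ)⁻¹ * (∑ u, r u) ^ 2 ≤ ∑ u, r u ^ 2 := by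
    rw [inv_mul_le_iff₀ hc]
    exact h3
  have h5 := mul_le_mul_of_nonneg_left h4 (inv_nonneg.mpr hc.le)
  calc _ = (Fintype.card (ZMod (2 * n))ˣ : ℝ)⁻¹ * ((Fintype.card (ZMod (2 * n))ˣ : ℝ)⁻¹ * (∑ u, r u) ^ 2) := by
        ring
    _ ≤ _ := h5

lemma avg_conj {x : ℂ} (hx : x ∈ rootRing n) : avg n (conj x) = conj (avg n x) := by
  rw [avg, avg, map_mul, map_inv₀, map_natCast, map_sum]
  congr 1
  exact Finset.sum_congr rfl fun u _ => tau_conj u hx

end Avg

section Two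

variable {K : ℕ}

lemma pow_mod_of_pow_eq_one {N : ℕ} {ε : ℂ} (hε : ε ^ N = 1) (m : ℕ) : ε ^ (m % N) = ε ^ m := by
  conv_rhs => rw [← Nat.mod_add_div m N, pow_add, pow_mul, hε, one_pow, mul_one]

/-- The sum over the odd residues. -/
theorem sum_units_pow_eq_zero {ε : ℂ} (hε : ε ^ (2 * 2 ^ (K + 1)) = 1) (h2 : ε ^ 2 ≠ 1) :
    ∑ u : (ZMod (2 * 2 ^ (K + 1)))ˣ, ε ^ (u : ZMod (2 * 2 ^ (K + 1))).val = 0 := by
  set N := 2 * 2 ^ (K + 1) with hN
  have hco : ∀ u : (ZMod N)ˣ, ((u : ZMod N).val + 2).Coprime N := by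
    intro u
    have h1 := ZMod.val_coe_unit_coprime u
    have h3 : Nat.Coprime (u : ZMod N).val 2 := Nat.Coprime.coprime_dvd_right (Dvd.intro _ rfl) h1
    have h3' : Odd (u : ZMod N).val := by simpa using h3
    have h4 : Nat.Coprime ((u : ZMod N).val + 2) 2 := by simpa using h3'.add_even even_two
    exact Nat.Coprime.mul_right h4 (Nat.Coprime.pow_right _ h4)
  let s : (ZMod N)ˣ → (ZMod N)ˣ := fun u => ZMod.unitOfCoprime _ (hco u)
  have hs : Function.Injective s := by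
    intro u v huv
    have h1 := congrArg (fun w : (ZMod N)ˣ => (w : ZMod N)) huv
    simp only [s, ZMod.coe_unitOfCoprime] at h1
    push_cast at h1
    rw [ZMod.natCast_zmod_val, ZMod.natCast_zmod_val] at h1
    exact Units.ext (add_right_cancel h1)
  have hsb : Function.Bijective s := Finite.injective_iff_bijective.mp hs
  have h3 := hsb.sum_comp (fun u : (ZMod N)ˣ => ε ^ (u : ZMod N).val)
  have h4 : ∀ u : (ZMod N)ˣ, ε ^ ((s u : (ZMod N)ˣ) : ZMod N).val = ε ^ 2 * ε ^ (u : ZMod N).val := by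
    intro u
    simp only [s, ZMod.coe_unitOfCoprime]
    rw [ZMod.val_natCast, pow_mod_of_pow_eq_one hε, pow_add, mul_comm]
  simp only [h4, ← Finset.mul_sum] at h3
  have h5 : (ε ^ 2 - 1) * ∑ u : (ZMod N)ˣ, ε ^ (u : ZMod N).val = 0 := by
    rw [sub_mul, h3, one_mul, sub_self]
  exact (mul_eq_zero.mp h5).resolve_left (sub_ne_zero.mpr h2)

lemma avg_root_eq_zero {ε : ℂ} (hε : ε ^ (2 * 2 ^ (K + 1)) = 1) (h2 : ε ^ 2 ≠ 1) : avg (2 ^ (K + 1)) ε = 0 := by
  rw [avg]
  simp only [tau_root _ _ hε]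
  rw [sum_units_pow_eq_zero hε h2, mul_zero]

lemma exists_avg_root {ε : ℂ} (hε : ε ^ (2 * 2 ^ (K + 1)) = 1) : ∃ b : ℤ, avg (2 ^ (K + 1)) ε = b := by
  by_cases h2 : ε ^ 2 = 1
  · have h3 : (ε - 1) * (ε + 1) = 0 := by linear_combination h2
    rcases mul_eq_zero.mp h3 with h | h
    · exact ⟨1, by rw [sub_eq_zero.mp h, avg_one]; simp⟩
    · have h4 : ε = -1 := by linear_combination h
      exact ⟨-1, by rw [h4, avg_neg, avg_one]; simp⟩
  · exact ⟨0, by rw [avg_root_eq_zero hε h2]; simp⟩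

lemma conj_root_mul {n : ℕ} (hn : n ≠ 0) {ε : ℂ} (hε : ε ^ n = 1) : conj ε * ε = 1 := by
  rw [Complex.conj_mul', Complex.norm_eq_one_of_pow_eq_one hε hn]
  simp

lemma mem_rootRing_succ {x : ℂ} (hx : x ∈ rootRing (2 ^ (K + 1))) : x ∈ rootRing (2 * 2 ^ (K + 1)) :=
  rootRing_mono (Dvd.intro_left _ rfl) hx

/-- The coordinates of the elements of the root ring. -/
theorem exists_coords {ζ : ℂ} (hζ : IsPrimitiveRoot ζ (2 ^ (K + 1))) {x : ℂ} (hx : x ∈ rootRing (2 ^ (K + 1))) :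
    (∀ i, ∃ b : ℤ, avg (2 ^ (K + 1)) (x * conj (ζ ^ i)) = b) ∧
      x = ∑ i ∈ Finset.range (2 ^ K), avg (2 ^ (K + 1)) (x * conj (ζ ^ i)) * ζ ^ i := by
  set n := 2 ^ (K + 1) with hn
  have hn0 : n ≠ 0 := NeZero.ne n
  have hpow : ∀ i, (ζ ^ i) ^ n = 1 := fun i => by rw [← pow_mul, mul_comm, pow_mul, hζ.pow_eq_one, one_pow]
  have hpow2 : ∀ ε : ℂ, ε ^ n = 1 → ε ^ (2 * n) = 1 := fun ε hε => by rw [mul_comm, pow_mul, hε, one_pow]
  have hmid : ζ ^ (2 ^ K) = -1 := by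
    have h1 : (ζ ^ (2 ^ K) - 1) * (ζ ^ (2 ^ K) + 1) = 0 := by
      have h2 : (ζ ^ (2 ^ K)) ^ 2 = 1 := by
        rw [← pow_mul, ← pow_succ]
        exact hζ.pow_eq_one
      linear_combination h2
    rcases mul_eq_zero.mp h1 with h | h
    · exact absurd (sub_eq_zero.mp h) (hζ.pow_ne_one_of_pos_of_lt (by positivity) (by
        rw [hn, pow_succ]
        have : 0 < 2 ^ K := by positivity
        omega))
    · linear_combination h
  -- the main predicate for a power of `ζ`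
  have hbase : ∀ t, t < 2 ^ K → ζ ^ t = ∑ i ∈ Finset.range (2 ^ K), avg n (ζ ^ t * conj (ζ ^ i)) * ζ ^ i := by
    intro t ht
    rw [Finset.sum_eq_single t]
    · have h1 : ζ ^ t * conj (ζ ^ t) = 1 := by
        rw [mul_comm]
        exact conj_root_mul hn0 (hpow t)
      rw [h1, avg_one, one_mul]
    · intro i hi hit
      have hi' : i < 2 ^ K := Finset.mem_range.mp hi
      rw [avg_root_eq_zero, zero_mul]
      · rw [mul_pow, ← map_pow, hpow2 _ (hpow t)]
        rw [hpow2 _ (hpow i), map_one, one_mul]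
      · intro h2
        have h3 : (ζ ^ t) ^ 2 = (ζ ^ i) ^ 2 := by
          have h4 := conj_root_mul hn0 (hpow i)
          have h5 : (conj (ζ ^ i)) ^ 2 * (ζ ^ i) ^ 2 = 1 := by rw [← mul_pow, h4, one_pow]
          rw [mul_pow] at h2
          calc (ζ ^ t) ^ 2 = (ζ ^ t) ^ 2 * ((conj (ζ ^ i)) ^ 2 * (ζ ^ i) ^ 2) := by rw [h5, mul_one]
            _ = ((ζ ^ t) ^ 2 * (conj (ζ ^ i)) ^ 2) * (ζ ^ i) ^ 2 := by ring
            _ = (ζ ^ i) ^ 2 := by rw [h2, one_mul]
        rw [← pow_mul, ← pow_mul] at h3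
        have h6 : 2 ^ K * 2 = n := by rw [hn, pow_succ]
        have h7 := hζ.pow_inj (by omega) (by omega) h3
        exact hit (by omega)
    · intro h
      exact absurd (Finset.mem_range.mpr ht) h
  have hint : ∀ ε : ℂ, ε ^ n = 1 → ∀ i, ∃ b : ℤ, avg n (ε * conj (ζ ^ i)) = b := by
    intro ε hε i
    apply exists_avg_root
    rw [mul_pow, ← map_pow, hpow2 _ hε, hpow2 _ (hpow i), map_one, one_mul]
  have hx' : x ∈ rootSums n := hx
  induction hx' using AddSubgroup.closure_induction with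
  | mem ε hε =>
    have hε' : ε ^ n = 1 := hε
    refine ⟨hint ε hε', ?_⟩
    haveI : NeZero n := ⟨hn0⟩
    obtain ⟨t, ht, rfl⟩ := hζ.eq_pow_of_pow_eq_one hε'
    by_cases h1 : t < 2 ^ K
    · exact hbase t h1
    · obtain ⟨t', rfl⟩ : ∃ t', t = 2 ^ K + t' := ⟨t - 2 ^ K, by omega⟩
      have h2 : t' < 2 ^ K := by
        rw [hn, pow_succ] at ht
        omega
      have h3 : ζ ^ (2 ^ K + t') = - ζ ^ t' := by rw [pow_add, hmid]; ring
      rw [h3]
      have h4 := hbase t' h2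
      have h5 : ∀ i, avg n (- ζ ^ t' * conj (ζ ^ i)) = - avg n (ζ ^ t' * conj (ζ ^ i)) := by
        intro i
        rw [neg_mul, avg_neg]
      have h6 : ∑ i ∈ Finset.range (2 ^ K), avg n (- ζ ^ t' * conj (ζ ^ i)) * ζ ^ i =
          - ∑ i ∈ Finset.range (2 ^ K), avg n (ζ ^ t' * conj (ζ ^ i)) * ζ ^ i := by
        rw [← Finset.sum_neg_distrib]
        exact Finset.sum_congr rfl fun i _ => by rw [h5 i, neg_mul]
      rw [h6, ← h4]
  | zero =>
    refine ⟨fun i => ⟨0, by simp [avg_zero]⟩, ?_⟩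
    simp [avg_zero]
  | add a b ha' hb' ha hb =>
    obtain ⟨h1, h2⟩ := ha ha'
    obtain ⟨h3, h4⟩ := hb hb'
    have h5 : ∀ i, avg n ((a + b) * conj (ζ ^ i)) = avg n (a * conj (ζ ^ i)) + avg n (b * conj (ζ ^ i)) := by
      intro i
      rw [add_mul, avg_add]
    refine ⟨fun i => ?_, ?_⟩
    · obtain ⟨b₁, e₁⟩ := h1 i
      obtain ⟨b₂, e₂⟩ := h3 i
      exact ⟨b₁ + b₂, by rw [h5, e₁, e₂]; push_cast; rfl⟩
    · have h6 : ∑ i ∈ Finset.range (2 ^ K), avg n ((a + b) * conj (ζ ^ i)) * ζ ^ i =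
          ∑ i ∈ Finset.range (2 ^ K), avg n (a * conj (ζ ^ i)) * ζ ^ i +
            ∑ i ∈ Finset.range (2 ^ K), avg n (b * conj (ζ ^ i)) * ζ ^ i := by
        rw [← Finset.sum_add_distrib]
        exact Finset.sum_congr rfl fun i _ => by rw [h5 i, add_mul]
      rw [h6, ← h2, ← h4]
  | neg a ha' ha =>
    obtain ⟨h1, h2⟩ := ha ha'
    have h5 : ∀ i, avg n (-a * conj (ζ ^ i)) = - avg n (a * conj (ζ ^ i)) := by
      intro i
      rw [neg_mul, avg_neg]
    refine ⟨fun i => ?_, ?_⟩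
    · obtain ⟨b₁, e₁⟩ := h1 i
      exact ⟨-b₁, by rw [h5, e₁]; push_cast; rfl⟩
    · have h6 : ∑ i ∈ Finset.range (2 ^ K), avg n (-a * conj (ζ ^ i)) * ζ ^ i =
          - ∑ i ∈ Finset.range (2 ^ K), avg n (a * conj (ζ ^ i)) * ζ ^ i := by
        rw [← Finset.sum_neg_distrib]
        exact Finset.sum_congr rfl fun i _ => by rw [h5 i, neg_mul]
      rw [h6, ← h2]

variable {M : Ideal AlgInt} [hMp : M.IsPrime]

/-- **The Galois average of a real element of the root ring of a `2`-power cyclotomic field** is a rational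
integer, congruent to it modulo the local ideal. -/
theorem real_avg (hM : IsPModular 2 M) {y : ℂ} (hy : y ∈ rootRing (2 ^ (K + 1))) (hr : conj y = y) :
    ∃ m : ℤ, avg (2 ^ (K + 1)) y = m ∧ MemLocalIdeal M (y - m) := by
  haveI : Fact (Nat.Prime 2) := ⟨Nat.prime_two⟩
  set n := 2 ^ (K + 1) with hn
  have hn0 : n ≠ 0 := NeZero.ne n
  obtain ⟨ζ, hζ⟩ : ∃ ζ : ℂ, IsPrimitiveRoot ζ n := ⟨_, Complex.isPrimitiveRoot_exp n hn0⟩
  have hmid : ζ ^ (2 ^ K) = -1 := by
    have h1 : (ζ ^ (2 ^ K) - 1) * (ζ ^ (2 ^ K) + 1) = 0 := by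
      have h2 : (ζ ^ (2 ^ K)) ^ 2 = 1 := by
        rw [← pow_mul, ← pow_succ]
        exact hζ.pow_eq_one
      linear_combination h2
    rcases mul_eq_zero.mp h1 with h | h
    · exact absurd (sub_eq_zero.mp h) (hζ.pow_ne_one_of_pos_of_lt (by positivity) (by
        rw [hn, pow_succ]
        have : 0 < 2 ^ K := by positivity
        omega))
    · linear_combination h
  have hpow : ∀ i, (ζ ^ i) ^ n = 1 := fun i => by rw [← pow_mul, mul_comm, pow_mul, hζ.pow_eq_one, one_pow]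
  obtain ⟨hint, hexp⟩ := exists_coords (K := K) hζ hy
  choose b hb using hint
  have hmemc : ∀ i, y * conj (ζ ^ i) ∈ rootRing n := fun i =>
    Subring.mul_mem _ hy (conj_mem_rootRing (root_mem_rootRing (hpow i)))
  -- the reflection
  have hrefl : ∀ i, i ∈ Finset.Ico 1 (2 ^ K) → b (2 ^ K - i) = - b i := by
    intro i hi
    obtain ⟨hi1, hi2⟩ := Finset.mem_Ico.mp hi
    have h1 : conj (ζ ^ (2 ^ K - i)) = - ζ ^ i := by
      have h2 : ζ ^ (2 ^ K - i) * ζ ^ i = -1 := by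
        rw [← pow_add, Nat.sub_add_cancel hi2.le, hmid]
      have h3 := conj_root_mul hn0 (hpow (2 ^ K - i))
      calc conj (ζ ^ (2 ^ K - i)) = conj (ζ ^ (2 ^ K - i)) * (- (ζ ^ (2 ^ K - i) * ζ ^ i)) := by
            rw [h2]; ring
        _ = - ((conj (ζ ^ (2 ^ K - i)) * ζ ^ (2 ^ K - i)) * ζ ^ i) := by ring
        _ = - ζ ^ i := by rw [h3, one_mul]
    have h2 : y * ζ ^ i = conj (y * conj (ζ ^ i)) := by
      rw [map_mul, Complex.conj_conj, hr]
    have h3 : avg n (y * conj (ζ ^ (2 ^ K - i))) = - conj (avg n (y * conj (ζ ^ i))) := by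
      rw [h1, mul_neg, avg_neg, h2, avg_conj (hmemc i)]
    rw [hb, hb, map_intCast] at h3
    exact_mod_cast h3
  have hsum : ∑ i ∈ Finset.Ico 1 (2 ^ K), b i = 0 := by
    have h1 : ∑ i ∈ Finset.Ico 1 (2 ^ K), b (2 ^ K - i) = ∑ i ∈ Finset.Ico 1 (2 ^ K), b i := by
      refine Finset.sum_nbij' (fun i => 2 ^ K - i) (fun i => 2 ^ K - i) ?_ ?_ ?_ ?_ ?_
      · intro i hi
        obtain ⟨h1, h2⟩ := Finset.mem_Ico.mp hi
        exact Finset.mem_Ico.mpr ⟨by omega, by omega⟩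
      · intro i hi
        obtain ⟨h1, h2⟩ := Finset.mem_Ico.mp hi
        exact Finset.mem_Ico.mpr ⟨by omega, by omega⟩
      · intro i hi
        obtain ⟨h1, h2⟩ := Finset.mem_Ico.mp hi
        show 2 ^ K - (2 ^ K - i) = i
        omega
      · intro i hi
        obtain ⟨h1, h2⟩ := Finset.mem_Ico.mp hi
        show 2 ^ K - (2 ^ K - i) = i
        omega
      · intro i _
        rfl
    have h2 : ∑ i ∈ Finset.Ico 1 (2 ^ K), b (2 ^ K - i) = - ∑ i ∈ Finset.Ico 1 (2 ^ K), b i := by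
      rw [← Finset.sum_neg_distrib]
      exact Finset.sum_congr rfl hrefl
    omega
  have h0 : avg n y = b 0 := by
    have := hb 0
    simpa using this
  refine ⟨b 0, h0, ?_⟩
  have hK : 0 < 2 ^ K := by positivity
  have h2 : (b 0 : ℂ) = ∑ i ∈ Finset.range (2 ^ K), (b i : ℂ) := by
    rw [Finset.range_eq_Ico, Finset.sum_eq_sum_Ico_succ_bot hK]
    have h3 : ∑ i ∈ Finset.Ico (0 + 1) (2 ^ K), (b i : ℂ) = 0 := by
      rw [zero_add]
      exact_mod_cast hsum
    rw [h3, add_zero]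
  have h4 : y - ∑ i ∈ Finset.range (2 ^ K), (b i : ℂ) =
      ∑ i ∈ Finset.range (2 ^ K), (avg n (y * conj (ζ ^ i)) * ζ ^ i - b i) := by
    rw [Finset.sum_sub_distrib, ← hexp]
  rw [h2, h4]
  refine memLocalIdeal_sum _ _ fun i _ => ?_
  rw [hb i]
  have h3 : (b i : ℂ) * ζ ^ i - b i = (b i : ℂ) * (ζ ^ i - 1) := by ring
  rw [h3]
  exact memLocalIdeal_mul_left (memLocalRing_intCast _)
    (Cfsg.Agent.Lib.Blocks.MajorSub.memLocalIdeal_root_sub_one hM (hpow i))

end Two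

end Cfsg.Agent.Lib.Blocks.CycloSums
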