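/-
Transport of irreducible characters, blocks, block coefficients and defect groups along an isomorphism
of groups.
-/
import Mathlib
import Cfsg.Prelude.Def_Blocks
import Cfsg.Agent.S0916
import Cfsg.Agent.Lib.Char.Basic
import Cfsg.Agent.Lib.Blocks.Osima

set_option autoImplicit false

namespace Cfsg.Agent.Lib.Blocks.Transport

open Cfsg Cfsg.Agent.Lib.Blocks.Local Cfsg.Agent.Lib.Blocks.Central Cfsg.Agent.Lib.Blocks.Osima
open scoped ComplexConjugate

variable {A : Type*} {B : Type*} [Group A] [Group B] (φ : A ≃* B)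

/-- Pull back an irreducible character along an isomorphism. -/
noncomputable def irrComap (χ : IrrCharacter B) : IrrCharacter A :=
  ⟨fun a => (χ : B → ℂ) (φ a), Cfsg.Agent.Lib.Char.Basic.isIrrCharacter_comp_surjective χ.2 φ.toMonoidHom φ.surjective⟩

@[simp] lemma coe_irrComap (χ : IrrCharacter B) (a : A) : (irrComap φ χ : A → ℂ) a = (χ : B → ℂ) (φ a) := rfl

lemma irrComap_symm_irrComap (χ : IrrCharacter B) : irrComap φ.symm (irrComap φ χ) = χ := by
  apply Subtype.ext
  funext b
  simp

lemma irrComap_irrComap_symm (ξ : IrrCharacter A) : irrComap φ (irrComap φ.symm ξ) = ξ := by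
  apply Subtype.ext
  funext a
  simp

lemma irrComap_injective : Function.Injective (irrComap φ) :=
  Function.LeftInverse.injective (irrComap_symm_irrComap φ)

lemma centralizer_eq_comap (a : A) :
    Subgroup.centralizer ({a} : Set A) = (Subgroup.centralizer ({φ a} : Set B)).comap φ.toMonoidHom := by
  ext x
  simp only [Subgroup.mem_centralizer_singleton_iff, Subgroup.mem_comap, MulEquiv.coe_toMonoidHom]
  constructor
  · intro h
    rw [← map_mul, ← map_mul, h]
  · intro h
    apply φ.injective
    rw [map_mul, map_mul, h]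

lemma index_centralizer (a : A) :
    (Subgroup.centralizer ({a} : Set A)).index = (Subgroup.centralizer ({φ a} : Set B)).index := by
  rw [centralizer_eq_comap φ a]
  exact Subgroup.index_comap_of_surjective _ φ.surjective

lemma card_comap (D : Subgroup B) : Nat.card (D.comap φ.toMonoidHom) = Nat.card D :=
  Nat.card_congr (φ.toEquiv.subtypeEquiv (fun x => by simp))

lemma card_centralizer (a : A) :
    Nat.card (Subgroup.centralizer ({a} : Set A)) = Nat.card (Subgroup.centralizer ({φ a} : Set B)) := by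
  rw [centralizer_eq_comap φ a]
  exact card_comap φ _

lemma centralChar_comap (χ : B → ℂ) (a : A) :
    centralChar (fun a => χ (φ a)) a = centralChar χ (φ a) := by
  unfold centralChar
  rw [index_centralizer φ a]
  simp only [map_one]

/-- The transport of a set of irreducible characters. -/
noncomputable def blockMap (b : Set (IrrCharacter B)) : Set (IrrCharacter A) := irrComap φ '' b

lemma mem_blockMap_iff {b : Set (IrrCharacter B)} {ξ : IrrCharacter A} :
    ξ ∈ blockMap φ b ↔ irrComap φ.symm ξ ∈ b := by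
  constructor
  · rintro ⟨χ, hχ, rfl⟩
    rwa [irrComap_symm_irrComap]
  · intro h
    exact ⟨_, h, irrComap_irrComap_symm φ ξ⟩

lemma irrComap_mem_blockMap {b : Set (IrrCharacter B)} {χ : IrrCharacter B} (h : χ ∈ b) :
    irrComap φ χ ∈ blockMap φ b := ⟨χ, h, rfl⟩

lemma blockMap_symm_blockMap (b : Set (IrrCharacter B)) : blockMap φ.symm (blockMap φ b) = b := by
  ext χ
  rw [mem_blockMap_iff, mem_blockMap_iff]
  have : φ.symm.symm = φ := rfl
  rw [this, irrComap_symm_irrComap]

lemma blockMap_blockMap_symm (b : Set (IrrCharacter A)) : blockMap φ (blockMap φ.symm b) = b := by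
  ext χ
  rw [mem_blockMap_iff, mem_blockMap_iff]
  have : φ.symm.symm = φ := rfl
  rw [this, irrComap_irrComap_symm]

variable {M : Ideal AlgInt}

lemma sameBlock_comap_iff {χ ψ : B → ℂ} :
    SameBlock M (fun a => χ (φ a)) (fun a => ψ (φ a)) ↔ SameBlock M χ ψ := by
  constructor
  · intro h b
    have := h (φ.symm b)
    rw [centralChar_comap, centralChar_comap] at this
    simpa using this
  · intro h a
    rw [centralChar_comap, centralChar_comap]
    exact h _

lemma blockOf_comap (χ : IrrCharacter B) :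
    blockOf M (irrComap φ χ : A → ℂ) = blockMap φ (blockOf M (χ : B → ℂ)) := by
  ext ξ
  rw [mem_blockMap_iff]
  show SameBlock M (fun a => (χ : B → ℂ) (φ a)) (ξ : A → ℂ) ↔ SameBlock M (χ : B → ℂ) (fun b => (ξ : A → ℂ) (φ.symm b))
  rw [← sameBlock_comap_iff φ (χ := (χ : B → ℂ)) (ψ := fun b => (ξ : A → ℂ) (φ.symm b))]
  simp

lemma isPBlock_blockMap {b : Set (IrrCharacter B)} (hb : IsPBlock M b) : IsPBlock M (blockMap φ b) := by
  obtain ⟨χ, rfl⟩ := hb
  exact ⟨irrComap φ χ, (blockOf_comap φ χ).symm⟩

lemma blockCoeff_blockMap [Finite B] (b : Set (IrrCharacter B)) (a : A) :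
    blockCoeff (blockMap φ b) a = blockCoeff b (φ a) := by
  unfold blockCoeff blockMap
  have hcard : Nat.card A = Nat.card B := Nat.card_congr φ.toEquiv
  rw [hcard, finsum_mem_image (irrComap_injective φ).injOn]
  simp

lemma isDefectClass_blockMap [Finite B] {b : Set (IrrCharacter B)} {a : A} (h : IsDefectClass M b (φ a)) :
    IsDefectClass M (blockMap φ b) a := by
  refine ⟨?_, ?_, ?_⟩
  · rw [blockCoeff_blockMap]; exact h.1
  · rw [blockCoeff_blockMap]; exact h.2.1
  · rintro ξ ⟨χ, hχ, rfl⟩
    show ¬ MemLocalIdeal M (centralChar (fun a => (χ : B → ℂ) (φ a)) a)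
    rw [centralChar_comap]
    exact h.2.2 χ hχ

variable {p : ℕ} [Fact p.Prime]

lemma isDefectGroup_blockMap [Finite A] [Finite B] {b : Set (IrrCharacter B)} {D : Subgroup B}
    (h : IsDefectGroup p M b D) : IsDefectGroup p M (blockMap φ b) (D.comap φ.toMonoidHom) := by
  obtain ⟨g, hg, S, hS⟩ := h
  obtain ⟨hle, hcard⟩ := (Cfsg.Agent.S0916.exists_sylow_map_iff (p := p)).mp ⟨S, hS.symm⟩
  have hga : φ (φ.symm g) = g := by simp
  have hdc : IsDefectClass M (blockMap φ b) (φ.symm g) :=
    isDefectClass_blockMap φ (by rwa [hga])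
  obtain ⟨S', hS'⟩ := (Cfsg.Agent.S0916.exists_sylow_map_iff (p := p)
    (H := Subgroup.centralizer ({φ.symm g} : Set A)) (P := D.comap φ.toMonoidHom)).mpr ⟨by
      rw [centralizer_eq_comap φ (φ.symm g), hga]
      exact Subgroup.comap_mono hle, by
      rw [card_comap, card_centralizer φ (φ.symm g), hga, hcard]⟩
  exact ⟨_, hdc, S', hS'.symm⟩

end Cfsg.Agent.Lib.Blocks.Transport
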