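/-
Brauer pairs, the basic calculus: the Brauer map `res C_G(P)` on elements invariant under `P` and
`C_G(P)` is multiplicative modulo the local ideal.
-/
import Mathlib
import Cfsg.Prelude.Def_BrauerPairs
import Cfsg.Agent.Lib.Blocks.BrauerMap
import Cfsg.Agent.Lib.Blocks.BrauerCoeff
import Cfsg.Agent.Lib.Blocks.Transport
import Cfsg.Agent.Lib.Blocks.SecondMain
import Cfsg.Agent.Lib.Blocks.Covering

set_option autoImplicit false

namespace Cfsg.Agent.Lib.Blocks.Pairs

open Cfsg Cfsg.Agent.Lib.Blocks.Local Cfsg.Agent.Lib.Blocks.Central Cfsg.Agent.Lib.Blocks.Osima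
open Cfsg.Agent.Lib.Blocks.Covering Cfsg.Agent.Lib.Blocks.BrauerMap Cfsg.Agent.Lib.Blocks.Transport
open Cfsg.Agent.Lib.Blocks.BlockHom

universe u

section Basic

variable {G : Type u} [Group G] [Fintype G] {M : Ideal AlgInt} [hM : M.IsPrime]

/-- The element of the group algebra of `G` is invariant under conjugation by `H`. -/
def InvBy (H : Subgroup G) (a : MonoidAlgebra ℂ G) : Prop :=
  ∀ x : G, ∀ u ∈ H, a.coeff (u * x * u⁻¹) = a.coeff x

/-- The element of the group algebra has local coefficients. -/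
def LocCoeff (M : Ideal AlgInt) (a : MonoidAlgebra ℂ G) : Prop :=
  ∀ x, MemLocalRing M (a.coeff x)

lemma InvBy.mono {H K : Subgroup G} (hK : K ≤ H) {a : MonoidAlgebra ℂ G} (ha : InvBy H a) : InvBy K a :=
  fun x u hu => ha x u (hK hu)

lemma invBy_one (H : Subgroup G) : InvBy H (1 : MonoidAlgebra ℂ G) := fun x u _ =>
  isClassFunction_one x u

lemma InvBy.add {H : Subgroup G} {a b : MonoidAlgebra ℂ G} (ha : InvBy H a) (hb : InvBy H b) :
    InvBy H (a + b) := fun x u hu => by
  simp only [MonoidAlgebra.coeff_add, Finsupp.add_apply, ha x u hu, hb x u hu]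

lemma InvBy.sub {H : Subgroup G} {a b : MonoidAlgebra ℂ G} (ha : InvBy H a) (hb : InvBy H b) :
    InvBy H (a - b) := fun x u hu => by
  simp only [MonoidAlgebra.coeff_sub, Finsupp.sub_apply, ha x u hu, hb x u hu]

lemma InvBy.smul {H : Subgroup G} {a : MonoidAlgebra ℂ G} (c : ℂ) (ha : InvBy H a) :
    InvBy H (c • a) := fun x u hu => by
  simp only [MonoidAlgebra.coeff_smul_apply, ha x u hu]

lemma InvBy.mul {H : Subgroup G} {a b : MonoidAlgebra ℂ G} (ha : InvBy H a) (hb : InvBy H b) :
    InvBy H (a * b) := fun x u hu => by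
  rw [coeff_mul_eq_sum, coeff_mul_eq_sum]
  refine Fintype.sum_equiv (MulAut.conj u⁻¹).toEquiv _ _ fun y => ?_
  have h1 : (MulAut.conj u⁻¹).toEquiv y = u⁻¹ * y * u := by
    simp [MulAut.conj_apply]
  rw [h1]
  have h2 : a.coeff y = a.coeff (u⁻¹ * y * u) := by
    have := ha (u⁻¹ * y * u) u hu
    rw [← this]
    congr 2
    group
  have h3 : b.coeff (y⁻¹ * (u * x * u⁻¹)) = b.coeff ((u⁻¹ * y * u)⁻¹ * x) := by
    have := hb ((u⁻¹ * y * u)⁻¹ * x) u hu
    rw [← this]
    congr 1
    group
  rw [h2, h3]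

lemma InvBy.pow {H : Subgroup G} {a : MonoidAlgebra ℂ G} (ha : InvBy H a) (t : ℕ) :
    InvBy H (a ^ t) := by
  induction t with
  | zero => rw [pow_zero]; exact invBy_one H
  | succ t ih => rw [pow_succ]; exact ih.mul ha

lemma invBy_sum {H : Subgroup G} {ι : Type*} (s : Finset ι) (f : ι → MonoidAlgebra ℂ G)
    (hf : ∀ i ∈ s, InvBy H (f i)) : InvBy H (∑ i ∈ s, f i) := by
  classical
  induction s using Finset.induction_on with
  | empty => intro x u _; simp
  | insert i s hi ih =>
    rw [Finset.sum_insert hi]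
    exact (hf i (Finset.mem_insert_self _ _)).add
      (ih fun j hj => hf j (Finset.mem_insert_of_mem hj))

omit [Fintype G] in
lemma locCoeff_zero : LocCoeff M (0 : MonoidAlgebra ℂ G) := fun x => by
  simpa using memLocalRing_zero

lemma locCoeff_one : LocCoeff M (1 : MonoidAlgebra ℂ G) := fun x => by
  classical
  rw [coeff_one_apply]
  split_ifs
  · exact memLocalRing_one
  · exact memLocalRing_zero

omit [Fintype G] in
lemma LocCoeff.add {a b : MonoidAlgebra ℂ G} (ha : LocCoeff M a) (hb : LocCoeff M b) :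
    LocCoeff M (a + b) := fun x => by
  rw [MonoidAlgebra.coeff_add, Finsupp.add_apply]
  exact memLocalRing_add (ha x) (hb x)

omit [Fintype G] in
lemma LocCoeff.sub {a b : MonoidAlgebra ℂ G} (ha : LocCoeff M a) (hb : LocCoeff M b) :
    LocCoeff M (a - b) := fun x => by
  rw [MonoidAlgebra.coeff_sub, Finsupp.sub_apply]
  exact memLocalRing_sub (ha x) (hb x)

omit [Fintype G] in
lemma LocCoeff.smul {c : ℂ} {a : MonoidAlgebra ℂ G} (hc : MemLocalRing M c) (ha : LocCoeff M a) :
    LocCoeff M (c • a) := fun x => by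
  rw [MonoidAlgebra.coeff_smul_apply, smul_eq_mul]
  exact memLocalRing_mul hc (ha x)

lemma LocCoeff.mul {a b : MonoidAlgebra ℂ G} (ha : LocCoeff M a) (hb : LocCoeff M b) :
    LocCoeff M (a * b) := fun x => by
  rw [coeff_mul_eq_sum]
  exact memLocalRing_sum _ _ fun y _ => memLocalRing_mul (ha y) (hb _)

lemma LocCoeff.pow {a : MonoidAlgebra ℂ G} (ha : LocCoeff M a) (t : ℕ) : LocCoeff M (a ^ t) := by
  induction t with
  | zero => rw [pow_zero]; exact locCoeff_one
  | succ t ih => rw [pow_succ]; exact ih.mul ha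

omit [Fintype G] in
lemma locCoeff_sum {ι : Type*} (s : Finset ι) (f : ι → MonoidAlgebra ℂ G)
    (hf : ∀ i ∈ s, LocCoeff M (f i)) : LocCoeff M (∑ i ∈ s, f i) := by
  classical
  induction s using Finset.induction_on with
  | empty => intro x; simpa using memLocalRing_zero
  | insert i s hi ih =>
    rw [Finset.sum_insert hi]
    exact (hf i (Finset.mem_insert_self _ _)).add
      (ih fun j hj => hf j (Finset.mem_insert_of_mem hj))

variable {P : Subgroup G} [Fintype (Subgroup.centralizer (P : Set G))]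

/-- The domain of the Brauer map at `P`: local elements, invariant under `P` and `C_G(P)`. -/
structure BrDom (M : Ideal AlgInt) (P : Subgroup G) (a : MonoidAlgebra ℂ G) : Prop where
  loc : LocCoeff M a
  invP : InvBy P a
  invC : InvBy (Subgroup.centralizer (P : Set G)) a

omit [Fintype (Subgroup.centralizer (P : Set G))] in
lemma brDom_one : BrDom M P (1 : MonoidAlgebra ℂ G) :=
  ⟨locCoeff_one, invBy_one _, invBy_one _⟩

omit [Fintype (Subgroup.centralizer (P : Set G))] in
lemma BrDom.add {a b : MonoidAlgebra ℂ G} (ha : BrDom M P a) (hb : BrDom M P b) :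
    BrDom M P (a + b) :=
  ⟨ha.loc.add hb.loc, ha.invP.add hb.invP, ha.invC.add hb.invC⟩

omit [Fintype (Subgroup.centralizer (P : Set G))] in
lemma BrDom.sub {a b : MonoidAlgebra ℂ G} (ha : BrDom M P a) (hb : BrDom M P b) :
    BrDom M P (a - b) :=
  ⟨ha.loc.sub hb.loc, ha.invP.sub hb.invP, ha.invC.sub hb.invC⟩

omit [Fintype (Subgroup.centralizer (P : Set G))] in
lemma BrDom.mul {a b : MonoidAlgebra ℂ G} (ha : BrDom M P a) (hb : BrDom M P b) :
    BrDom M P (a * b) :=
  ⟨ha.loc.mul hb.loc, ha.invP.mul hb.invP, ha.invC.mul hb.invC⟩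

omit [Fintype (Subgroup.centralizer (P : Set G))] in
lemma BrDom.pow {a : MonoidAlgebra ℂ G} (ha : BrDom M P a) (t : ℕ) : BrDom M P (a ^ t) :=
  ⟨ha.loc.pow t, ha.invP.pow t, ha.invC.pow t⟩

omit [Fintype (Subgroup.centralizer (P : Set G))] in
lemma BrDom.smul {c : ℂ} {a : MonoidAlgebra ℂ G} (hc : MemLocalRing M c) (ha : BrDom M P a) :
    BrDom M P (c • a) :=
  ⟨ha.loc.smul hc, ha.invP.smul c, ha.invC.smul c⟩

omit [Fintype (Subgroup.centralizer (P : Set G))] in
lemma brDom_sum {ι : Type*} (s : Finset ι) (f : ι → MonoidAlgebra ℂ G)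
    (hf : ∀ i ∈ s, BrDom M P (f i)) : BrDom M P (∑ i ∈ s, f i) :=
  ⟨locCoeff_sum s f fun i hi => (hf i hi).loc, invBy_sum s f fun i hi => (hf i hi).invP,
    invBy_sum s f fun i hi => (hf i hi).invC⟩

lemma res_mem_localCenter' {a : MonoidAlgebra ℂ G} (ha : LocCoeff M a)
    (hc : InvBy (Subgroup.centralizer (P : Set G)) a) :
    res (Subgroup.centralizer (P : Set G)) a ∈ localCenter (Subgroup.centralizer (P : Set G)) M := by
  refine ⟨fun x y => ?_, fun x => ?_⟩
  · rw [coeff_res, coeff_res]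
    have : ((y * x * y⁻¹ : Subgroup.centralizer (P : Set G)) : G) = (y : G) * x * (y : G)⁻¹ := by simp
    rw [this]
    exact hc _ _ y.2
  · rw [coeff_res]
    exact ha _

lemma res_mem_localCenter {a : MonoidAlgebra ℂ G} (ha : BrDom M P a) :
    res (Subgroup.centralizer (P : Set G)) a ∈ localCenter (Subgroup.centralizer (P : Set G)) M :=
  res_mem_localCenter' ha.loc ha.invC

/-- The Brauer map is multiplicative modulo the local ideal. -/
theorem res_mul_sub_coeff {p : ℕ} [Fact p.Prime] (hMp : IsPModular p M) (hP : IsPGroup p P)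
    {a b : MonoidAlgebra ℂ G} (ha : LocCoeff M a) (haP : InvBy P a) (hb : LocCoeff M b)
    (hbP : InvBy P b) (h : Subgroup.centralizer (P : Set G)) :
    MemLocalIdeal M ((res (Subgroup.centralizer (P : Set G)) (a * b) -
      res (Subgroup.centralizer (P : Set G)) a * res (Subgroup.centralizer (P : Set G)) b).coeff h) := by
  classical
  haveI hchar : CharP (localRing M ⧸ localIdeal M) p := charP_residue hMp
  rw [MonoidAlgebra.coeff_sub, Finsupp.sub_apply, coeff_res, coeff_mul_eq_sum (res _ a)]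
  simp only [coeff_res]
  have hh : (h : G) ∈ Subgroup.centralizer (P : Set G) := h.2
  rw [coeff_mul_eq_sum]
  -- rewrite the sum over `H`
  have h1 : ∑ x : Subgroup.centralizer (P : Set G), a.coeff x *
      b.coeff ((x⁻¹ * h : Subgroup.centralizer (P : Set G)) : G) =
      ∑ x : G, (if x ∈ Subgroup.centralizer (P : Set G) then a.coeff x * b.coeff (x⁻¹ * h) else 0) := by
    rw [← sum_subgroup_eq (le_refl _) (fun x => a.coeff x * b.coeff (x⁻¹ * h))]
    refine Finset.sum_congr rfl fun x _ => ?_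
    rw [if_pos x.2]
    simp
  rw [h1]
  -- the difference is the sum over the complement of the centralizer
  have h3 : ∑ x : G, a.coeff x * b.coeff (x⁻¹ * (h : G)) -
      ∑ x : G, (if x ∈ Subgroup.centralizer (P : Set G) then a.coeff x * b.coeff (x⁻¹ * h) else 0) =
      ∑ x : {x : G // x ∉ Subgroup.centralizer (P : Set G)}, a.coeff x * b.coeff ((x : G)⁻¹ * h) := by
    rw [← Finset.sum_sub_distrib]
    have : ∀ x : G, a.coeff x * b.coeff (x⁻¹ * (h : G)) -
        (if x ∈ Subgroup.centralizer (P : Set G) then a.coeff x * b.coeff (x⁻¹ * h) else 0) =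
        if x ∉ Subgroup.centralizer (P : Set G) then a.coeff x * b.coeff (x⁻¹ * h) else 0 := by
      intro x
      by_cases hx : x ∈ Subgroup.centralizer (P : Set G) <;> simp [hx]
    rw [Finset.sum_congr rfl (fun x _ => this x), ← Finset.sum_filter]
    refine Finset.sum_bij' (fun x hx => ⟨x, by simpa using hx⟩) (fun x _ => x.1) ?_ ?_ ?_ ?_ ?_
    · intro x _; simp
    · intro x _; simpa using x.2
    · intro x _; rfl
    · intro x _; rfl
    · intro x _; rfl
  rw [h3]
  -- the residue of the sum vanishes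
  let S := {x : G // x ∉ Subgroup.centralizer (P : Set G)}
  have hPN : P ≤ Subgroup.normalizer (P : Set G) := Subgroup.le_normalizer
  have hinv : ∀ (u : P) (x : S), (u : G) * x.1 * (u : G)⁻¹ ∉ Subgroup.centralizer (P : Set G) :=
    fun u x hmem => x.2 ((conj_mem_centralizer_iff' (hPN u.2)).1 hmem)
  let act : MulAction P S :=
    { smul := fun u x => ⟨(u : G) * x.1 * (u : G)⁻¹, hinv u x⟩
      one_smul := fun x => Subtype.ext (by
        show (1 : G) * x.1 * (1 : G)⁻¹ = x.1
        simp)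
      mul_smul := fun a b x => Subtype.ext (by
        show ((a : G) * (b : G)) * x.1 * ((a : G) * (b : G))⁻¹ =
          (a : G) * ((b : G) * x.1 * (b : G)⁻¹) * (a : G)⁻¹
        group) }
  have hsm : ∀ (u : P) (x : S), ((u • x : S) : G) = (u : G) * x.1 * (u : G)⁻¹ := fun _ _ => rfl
  have hfix : ∀ x : S, ∃ u : P, u • x ≠ x := by
    intro x
    by_contra hcon
    push Not at hcon
    apply x.2
    rw [Subgroup.mem_centralizer_iff]
    intro u hu
    have h1 := congrArg Subtype.val (hcon ⟨u, hu⟩)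
    rw [hsm] at h1
    rw [mul_inv_eq_iff_eq_mul] at h1
    exact h1
  have hloc : ∀ x : S, MemLocalRing M (a.coeff x.1 * b.coeff ((x.1)⁻¹ * h)) := fun x =>
    memLocalRing_mul (ha _) (hb _)
  let f : S → (localRing M ⧸ localIdeal M) := fun x => residue M ⟨_, hloc x⟩
  have hf : ∀ (u : P) (x : S), f (u • x) = f x := by
    intro u x
    show residue M ⟨_, hloc (u • x)⟩ = residue M ⟨_, hloc x⟩
    congr 2
    show a.coeff ((u • x : S) : G) * b.coeff (((u • x : S) : G)⁻¹ * h) = a.coeff x.1 * b.coeff ((x.1)⁻¹ * h)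
    rw [hsm, haP x.1 u u.2]
    congr 1
    have hhu : (u : G) * h = h * (u : G) := Subgroup.mem_centralizer_iff.mp hh u u.2
    have h2 : ((u : G) * x.1 * (u : G)⁻¹)⁻¹ * (h : G) = (u : G) * ((x.1)⁻¹ * h) * (u : G)⁻¹ := by
      have : (h : G) = (u : G) * h * (u : G)⁻¹ := by rw [hhu]; group
      conv_lhs => rw [this]
      group
    rw [h2, hbP _ _ u.2]
  have hsum := Cfsg.Agent.Lib.Blocks.PFixed.sum_eq_zero_of_no_fixed
    (F := localRing M ⧸ localIdeal M) hP hfix f hf
  have h4 : (∑ x : S, (⟨_, hloc x⟩ : localRing M)) ∈ localIdeal M := by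
    rw [← Ideal.Quotient.eq_zero_iff_mem, map_sum]
    exact hsum
  rw [mem_localIdeal] at h4
  have h5 : ((∑ x : S, (⟨_, hloc x⟩ : localRing M) : localRing M) : ℂ) =
      ∑ x : S, a.coeff x.1 * b.coeff ((x.1)⁻¹ * h) := by
    rw [AddSubmonoidClass.coe_finsetSum]
  rw [← h5]
  exact h4

/-- The value of the Brauer map at `P` under the central character of `ξ`. -/
noncomputable def bv (P : Subgroup G) [Fintype (Subgroup.centralizer (P : Set G))]
    (ξ : Subgroup.centralizer (P : Set G) → ℂ) (a : MonoidAlgebra ℂ G) : ℂ :=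
  omega ξ (res (Subgroup.centralizer (P : Set G)) a)

variable {ξ : Subgroup.centralizer (P : Set G) → ℂ}

lemma brauerOmega_eq_bv (a : MonoidAlgebra ℂ G) : brauerOmega P a.coeff ξ = bv P ξ a := by
  unfold brauerOmega bv omega
  rw [finsum_eq_finsetSum_of_support_subset _ (s := Finset.univ) (by simp), Finset.sum_div]
  refine Finset.sum_congr rfl fun x _ => ?_
  rw [coeff_res]

lemma bv_add (a b : MonoidAlgebra ℂ G) : bv P ξ (a + b) = bv P ξ a + bv P ξ b := by
  unfold bv
  rw [res_add, omega_add]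

lemma bv_smul (c : ℂ) (a : MonoidAlgebra ℂ G) : bv P ξ (c • a) = c * bv P ξ a := by
  unfold bv
  rw [res_smul, omega_smul]

lemma bv_neg (a : MonoidAlgebra ℂ G) : bv P ξ (-a) = - bv P ξ a := by
  have := bv_smul (P := P) (ξ := ξ) (-1) a
  simpa using this

lemma bv_sub (a b : MonoidAlgebra ℂ G) : bv P ξ (a - b) = bv P ξ a - bv P ξ b := by
  rw [sub_eq_add_neg, bv_add, bv_neg, sub_eq_add_neg]

lemma bv_zero : bv P ξ (0 : MonoidAlgebra ℂ G) = 0 := by
  have := bv_smul (P := P) (ξ := ξ) 0 (0 : MonoidAlgebra ℂ G)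
  simpa using this

lemma bv_sum {ι : Type*} (s : Finset ι) (f : ι → MonoidAlgebra ℂ G) :
    bv P ξ (∑ i ∈ s, f i) = ∑ i ∈ s, bv P ξ (f i) := by
  classical
  induction s using Finset.induction_on with
  | empty => simp [bv_zero]
  | insert i s hi ih => rw [Finset.sum_insert hi, Finset.sum_insert hi, bv_add, ih]

lemma res_one : res (Subgroup.centralizer (P : Set G)) (1 : MonoidAlgebra ℂ G) = 1 := by
  classical
  apply ext_coeff
  intro h
  rw [coeff_res, coeff_one_apply, coeff_one_apply]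
  by_cases h1 : h = 1
  · subst h1
    simp
  · have h2 : (h : G) ≠ 1 := fun h3 => h1 (Subtype.ext h3)
    simp [h1, h2]

lemma bv_one (hξ : IsIrrCharacter _ ξ) : bv P ξ (1 : MonoidAlgebra ℂ G) = 1 := by
  unfold bv
  rw [res_one, omega_one hξ]

lemma memLocalRing_bv' (hξ : IsIrrCharacter _ ξ) {a : MonoidAlgebra ℂ G} (ha : LocCoeff M a)
    (hc : InvBy (Subgroup.centralizer (P : Set G)) a) :
    MemLocalRing M (bv P ξ a) :=
  memLocalRing_omega hξ (res_mem_localCenter' ha hc)

lemma memLocalRing_bv (hξ : IsIrrCharacter _ ξ) {a : MonoidAlgebra ℂ G} (ha : BrDom M P a) :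
    MemLocalRing M (bv P ξ a) :=
  memLocalRing_omega hξ (res_mem_localCenter ha)

/-- The value of `bv` only depends on the truncation to `C_G(P)`, modulo the local ideal. -/
lemma memLocalIdeal_bv_of_coeff (hξ : IsIrrCharacter _ ξ) {a : MonoidAlgebra ℂ G}
    (hC : InvBy (Subgroup.centralizer (P : Set G)) a)
    (ha : ∀ x ∈ Subgroup.centralizer (P : Set G), MemLocalIdeal M (a.coeff x)) :
    MemLocalIdeal M (bv P ξ a) := by
  apply memLocalIdeal_omega_of_coeff hξ
  · intro x y
    rw [coeff_res, coeff_res]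
    have : ((y * x * y⁻¹ : Subgroup.centralizer (P : Set G)) : G) = (y : G) * x * (y : G)⁻¹ := by simp
    rw [this]
    exact hC _ _ y.2
  · intro h
    rw [coeff_res]
    exact ha _ h.2

lemma bv_congr {a b : MonoidAlgebra ℂ G}
    (h : ∀ x ∈ Subgroup.centralizer (P : Set G), a.coeff x = b.coeff x) : bv P ξ a = bv P ξ b := by
  unfold bv
  congr 1
  apply ext_coeff
  intro x
  rw [coeff_res, coeff_res]
  exact h _ x.2

/-- `bv` is multiplicative modulo the local ideal. -/
theorem bv_mul {p : ℕ} [Fact p.Prime] (hMp : IsPModular p M) (hP : IsPGroup p P)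
    (hξ : IsIrrCharacter _ ξ) {a b : MonoidAlgebra ℂ G} (ha : BrDom M P a) (hb : BrDom M P b) :
    MemLocalIdeal M (bv P ξ (a * b) - bv P ξ a * bv P ξ b) := by
  have h1 := res_mem_localCenter ha
  have h2 := res_mem_localCenter hb
  have h3 := res_mem_localCenter (ha.mul hb)
  unfold bv
  rw [← omega_mul hξ h1.1, ← omega_sub]
  apply memLocalIdeal_omega_of_coeff hξ
  · exact ((localCenter _ M).sub_mem h3 ((localCenter _ M).mul_mem h1 h2)).1
  · intro h
    exact res_mul_sub_coeff hMp hP ha.loc ha.invP hb.loc hb.invP h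

/-- Powers. -/
theorem bv_pow {p : ℕ} [Fact p.Prime] (hMp : IsPModular p M) (hP : IsPGroup p P)
    (hξ : IsIrrCharacter _ ξ) {a : MonoidAlgebra ℂ G} (ha : BrDom M P a) (t : ℕ) :
    MemLocalIdeal M (bv P ξ (a ^ t) - bv P ξ a ^ t) := by
  induction t with
  | zero =>
    rw [pow_zero, pow_zero, bv_one hξ, sub_self]
    exact memLocalIdeal_zero
  | succ t ih =>
    rw [pow_succ, pow_succ]
    have h1 := bv_mul hMp hP hξ (ha.pow t) ha
    have h2 := memLocalIdeal_mul_right ih (memLocalRing_bv hξ ha)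
    have h3 := memLocalIdeal_add h1 h2
    convert h3 using 1
    ring

/-- A nilpotent modulo the local ideal has value in the local ideal. -/
theorem memLocalIdeal_bv_of_pow {p : ℕ} [Fact p.Prime] (hMp : IsPModular p M) (hP : IsPGroup p P)
    (hξ : IsIrrCharacter _ ξ) {a : MonoidAlgebra ℂ G} (ha : BrDom M P a) {t : ℕ}
    (ht : ∀ x ∈ Subgroup.centralizer (P : Set G), MemLocalIdeal M ((a ^ t).coeff x)) :
    MemLocalIdeal M (bv P ξ a) := by
  have h1 := bv_pow hMp hP hξ ha t
  have h2 := memLocalIdeal_bv_of_coeff hξ (ha.pow t).invC ht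
  have h3 : MemLocalIdeal M (bv P ξ a ^ t) := by
    have := memLocalIdeal_sub h2 h1
    simpa using this
  have hpr : (localIdeal M).IsPrime := by
    rw [localIdeal_eq_maximalIdeal]
    infer_instance
  have hloc := memLocalRing_bv hξ ha
  have h4 : (⟨_, hloc⟩ : localRing M) ^ t ∈ localIdeal M := by
    rw [mem_localIdeal]
    simpa using h3
  have h5 := hpr.mem_of_pow_mem _ h4
  rwa [mem_localIdeal] at h5

/-- An idempotent has value `0` or `1` modulo the local ideal. -/
theorem bv_idem {p : ℕ} [Fact p.Prime] (hMp : IsPModular p M) (hP : IsPGroup p P)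
    (hξ : IsIrrCharacter _ ξ) {a : MonoidAlgebra ℂ G} (ha : BrDom M P a) (h2 : a * a = a) :
    MemLocalIdeal M (bv P ξ a) ∨ MemLocalIdeal M (bv P ξ a - 1) := by
  have h1 := bv_mul hMp hP hξ ha ha
  rw [h2] at h1
  by_cases h : MemLocalIdeal M (bv P ξ a)
  · exact Or.inl h
  · right
    have hloc := memLocalRing_bv hξ ha
    have h3 : MemLocalIdeal M ((bv P ξ a - 1) * bv P ξ a) := by
      have := memLocalIdeal_neg h1
      convert this using 1
      ring
    exact memLocalIdeal_of_mul_right (memLocalRing_sub hloc memLocalRing_one) hloc h3 h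

end Basic

end Cfsg.Agent.Lib.Blocks.Pairs
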