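/-
Nilpotent blocks: spectral calculus in the group algebra over the local ring.
-/
import Mathlib
import Cfsg.Agent.Lib.Blocks.Pairs
import Cfsg.Agent.Lib.Blocks.Twisted

set_option autoImplicit false

namespace Cfsg.Agent.Lib.Blocks.Nilp

open Cfsg Cfsg.Agent.Lib.Blocks.Local Cfsg.Agent.Lib.Blocks.Central Cfsg.Agent.Lib.Blocks.Osima
open Cfsg.Agent.Lib.Blocks.Covering Cfsg.Agent.Lib.Blocks.BlockHom Cfsg.Agent.Lib.Blocks.Pairs
open Cfsg.Agent.Lib.Blocks.Twisted
open Polynomial

universe u

section Closed

variable {M : Ideal AlgInt} [hM : M.IsPrime]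

lemma exists_common_denominator (g : (localRing M)[X]) :
    ∃ s : AlgInt, s ∉ M ∧ ∀ i, IsIntegral ℤ ((s : ℂ) * (g.coeff i : ℂ)) := by
  classical
  have key : ∀ t : Finset ℕ, ∃ s : AlgInt, s ∉ M ∧ ∀ i ∈ t, IsIntegral ℤ ((s : ℂ) * (g.coeff i : ℂ)) := by
    intro t
    induction t using Finset.induction_on with
    | empty =>
      refine ⟨1, fun h => hM.ne_top ((Ideal.eq_top_iff_one M).2 h), by simp⟩
    | insert i t _ ih =>
      obtain ⟨s, hs, hst⟩ := ih
      obtain ⟨a, b, hb, hab⟩ := (g.coeff i).2
      refine ⟨s * b, fun h => (hM.mem_or_mem h).elim hs hb, ?_⟩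
      intro j hj
      rw [Finset.mem_insert] at hj
      rcases hj with rfl | hj
      · have hb0 := coe_ne_zero_of_notMem hb
        have : ((s * b : AlgInt) : ℂ) * (g.coeff j : ℂ) = ((s * a : AlgInt) : ℂ) := by
          rw [← hab]
          push_cast
          field_simp
        rw [this]
        exact (s * a).2
      · have : ((s * b : AlgInt) : ℂ) * (g.coeff j : ℂ) = (b : ℂ) * ((s : ℂ) * (g.coeff j : ℂ)) := by
          push_cast
          ring
        rw [this]
        exact IsIntegral.mul b.2 (hst j hj)
  obtain ⟨s, hs, h⟩ := key g.support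
  refine ⟨s, hs, fun i => ?_⟩
  by_cases hi : i ∈ g.support
  · exact h i hi
  · rw [notMem_support_iff.mp hi]
    simpa using isIntegral_zero

/-- The local ring is integrally closed in `ℂ`. -/
theorem memLocalRing_of_isIntegral_local {r : ℂ} (h : IsIntegral (localRing M) r) :
    MemLocalRing M r := by
  classical
  obtain ⟨g, hg, h0⟩ := h
  obtain ⟨s, hs, hint⟩ := exists_common_denominator (M := M) g
  have hs0 := coe_ne_zero_of_notMem hs
  have hw : IsIntegral ℤ ((s : ℂ) * r) := by
    -- `s r` is a root of a monic polynomial with algebraic integer coefficients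
    set Q : ℂ[X] := (g.map (algebraMap (localRing M) ℂ)).scaleRoots (s : ℂ) with hQ
    have hmon : Q.Monic := by
      rw [hQ]
      exact (monic_scaleRoots_iff _).mpr (hg.map _)
    have hroot : aeval ((s : ℂ) * r) Q = 0 := by
      have h1 : aeval r (g.map (algebraMap (localRing M) ℂ)) = 0 := by
        rw [aeval_map_algebraMap]
        exact h0
      have := scaleRoots_aeval_eq_zero (R := ℂ) (A := ℂ) (r := (s : ℂ)) h1
      simpa using this
    have hcoeff : ∀ i, IsIntegral ℤ (Q.coeff i) := by
      intro i
      rw [hQ, coeff_scaleRoots, coeff_map]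
      by_cases hi : i < (g.map (algebraMap (localRing M) ℂ)).natDegree
      · obtain ⟨k, hk⟩ : ∃ k, (g.map (algebraMap (localRing M) ℂ)).natDegree - i = k + 1 :=
          ⟨(g.map (algebraMap (localRing M) ℂ)).natDegree - i - 1, by omega⟩
        rw [hk, pow_succ]
        have : (algebraMap (localRing M) ℂ) (g.coeff i) * ((s : ℂ) ^ k * (s : ℂ)) =
            (s : ℂ) ^ k * ((s : ℂ) * (g.coeff i : ℂ)) := by
          show (g.coeff i : ℂ) * _ = _
          ring
        rw [this]
        exact IsIntegral.mul (IsIntegral.pow s.2 k) (hint i)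
      · have hle : (g.map (algebraMap (localRing M) ℂ)).natDegree - i = 0 := by omega
        rw [hle, pow_zero, mul_one]
        by_cases hi2 : i = (g.map (algebraMap (localRing M) ℂ)).natDegree
        · have h1 : (g.map (algebraMap (localRing M) ℂ)).coeff i = 1 := by
            rw [hi2]
            exact (hg.map _).coeff_natDegree
          rw [coeff_map] at h1
          rw [h1]
          exact isIntegral_one
        · have h1 : (g.map (algebraMap (localRing M) ℂ)).coeff i = 0 :=
            coeff_eq_zero_of_natDegree_lt (by omega)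
          rw [coeff_map] at h1
          rw [h1]
          exact isIntegral_zero
    -- an integrality argument over the algebraic integers
    have hlift : Q ∈ Polynomial.lifts (algebraMap AlgInt ℂ) := by
      rw [Polynomial.lifts_iff_coeff_lifts]
      intro i
      exact ⟨⟨Q.coeff i, hcoeff i⟩, rfl⟩
    obtain ⟨Q', hQ', -, hmon'⟩ := Polynomial.lifts_and_natDegree_eq_and_monic hlift hmon
    have hint2 : IsIntegral AlgInt ((s : ℂ) * r) := by
      refine ⟨Q', hmon', ?_⟩
      rw [← Polynomial.aeval_def, ← aeval_map_algebraMap (A := ℂ), hQ']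
      exact hroot
    exact isIntegral_trans (R := ℤ) (A := AlgInt) _ hint2
  obtain ⟨w, hw'⟩ : ∃ w : AlgInt, (w : ℂ) = (s : ℂ) * r := ⟨⟨_, hw⟩, rfl⟩
  refine ⟨w, s, hs, ?_⟩
  rw [hw']
  field_simp

end Closed

section Spec

variable {G : Type u} [Group G] [Fintype G] {M : Ideal AlgInt} [hM : M.IsPrime]

lemma algebraMap_local_eq (r : localRing M) :
    algebraMap (localRing M) (MonoidAlgebra ℂ G) r = algebraMap ℂ (MonoidAlgebra ℂ G) (r : ℂ) := rfl

lemma locCoeff_algebraMap (r : localRing M) :
    LocCoeff M (algebraMap (localRing M) (MonoidAlgebra ℂ G) r) := by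
  classical
  intro x
  rw [algebraMap_local_eq, MonoidAlgebra.coe_algebraMap]
  simp only [Function.comp_apply, MonoidAlgebra.coeff_single, Finsupp.single_apply]
  split_ifs
  · exact r.2
  · exact memLocalRing_zero

lemma invBy_algebraMap (H : Subgroup G) (r : localRing M) :
    InvBy H (algebraMap (localRing M) (MonoidAlgebra ℂ G) r) := by
  classical
  intro x u _
  rw [algebraMap_local_eq, MonoidAlgebra.coe_algebraMap]
  simp only [Function.comp_apply, MonoidAlgebra.coeff_single, Finsupp.single_apply]
  have : (1 : G) = u * x * u⁻¹ ↔ (1 : G) = x := by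
    constructor
    · intro h
      have h2 : x = u⁻¹ * (u * x * u⁻¹) * u := by group
      rw [h2, ← h]
      simp
    · intro h
      rw [← h]
      simp
  simp only [this]

lemma locCoeff_aeval {a : MonoidAlgebra ℂ G} (ha : LocCoeff M a) (q : (localRing M)[X]) :
    LocCoeff M (aeval a q) := by
  induction q using Polynomial.induction_on' with
  | add p q hp hq => rw [map_add]; exact hp.add hq
  | monomial n r =>
    rw [aeval_monomial]
    exact (locCoeff_algebraMap r).mul (ha.pow n)

lemma invBy_aeval {H : Subgroup G} {a : MonoidAlgebra ℂ G} (ha : InvBy H a) (q : (localRing M)[X]) :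
    InvBy H (aeval a q) := by
  induction q using Polynomial.induction_on' with
  | add p q hp hq => rw [map_add]; exact hp.add hq
  | monomial n r =>
    rw [aeval_monomial]
    exact (invBy_algebraMap H r).mul (ha.pow n)

lemma commute_aeval {a y : MonoidAlgebra ℂ G} (h : Commute y a) (q : (localRing M)[X]) :
    Commute y (aeval a q) := by
  induction q using Polynomial.induction_on' with
  | add p q hp hq => rw [map_add]; exact hp.add_right hq
  | monomial n r =>
    rw [aeval_monomial]
    have h1 : Commute y (algebraMap (localRing M) (MonoidAlgebra ℂ G) r) := (Algebra.commutes r y).symm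
    exact h1.mul_right (h.pow_right n)

/-- An element with local coefficients is integral over the local ring. -/
theorem isIntegral_of_locCoeff {a : MonoidAlgebra ℂ G} (ha : LocCoeff M a) :
    IsIntegral (localRing M) a := by
  classical
  set a' := liftLocal a ha with ha'
  have h1 : IsIntegral (localRing M) a' := IsIntegral.of_finite _ _
  obtain ⟨g, hg, h0⟩ := h1
  refine ⟨g, hg, ?_⟩
  have h2 := congrArg (MonoidAlgebra.mapRingHom G (localRing M).subtype) h0
  have h5 : MonoidAlgebra.mapRingHom G (localRing M).subtype a' = a := mapRingHom_liftLocal a ha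
  rw [hom_eval₂, map_zero, h5] at h2
  have h6 : (MonoidAlgebra.mapRingHom G (localRing M).subtype).comp
      (algebraMap (localRing M) (MonoidAlgebra (localRing M) G)) =
      algebraMap (localRing M) (MonoidAlgebra ℂ G) := by
    refine RingHom.ext fun r => ?_
    show MonoidAlgebra.mapRingHom G _ (algebraMap _ _ r) = _
    ext x
    rw [MonoidAlgebra.coeff_mapRingHom, MonoidAlgebra.coe_algebraMap, MonoidAlgebra.coe_algebraMap]
    simp only [Function.comp_apply, MonoidAlgebra.coeff_single, Finsupp.single_apply]
    split_ifs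
    · rfl
    · simp
  rw [h6] at h2
  exact h2

/-- An element with local coefficients is annihilated by a product of linear factors over the local ring. -/
theorem exists_spec {a : MonoidAlgebra ℂ G} (ha : LocCoeff M a) :
    ∃ s : Multiset (localRing M), aeval a (s.map (fun r => X - C r)).prod = 0 := by
  classical
  obtain ⟨g, hg, h0⟩ := isIntegral_of_locCoeff ha
  set f := g.map (algebraMap (localRing M) ℂ) with hf
  have hfm : f.Monic := hg.map _
  have hsp : f.Splits := IsAlgClosed.splits f
  have hmem : ∀ z ∈ f.roots, MemLocalRing M z := by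
    intro z hz
    apply memLocalRing_of_isIntegral_local
    refine ⟨g, hg, ?_⟩
    have := (mem_roots hfm.ne_zero).mp hz
    rw [IsRoot.def, hf, eval_map] at this
    exact this
  set s : Multiset (localRing M) := f.roots.attach.map (fun z => ⟨z.1, hmem z.1 z.2⟩) with hs
  refine ⟨s, ?_⟩
  have hs1 : s.map (fun r : localRing M => (r : ℂ)) = f.roots := by
    rw [hs, Multiset.map_map]
    exact Multiset.attach_map_val f.roots
  clear_value s
  have h3 : ((s.map (fun r => X - C r)).prod).map (algebraMap (localRing M) ℂ) = g.map (algebraMap (localRing M) ℂ) := by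
    rw [Polynomial.map_multiset_prod, Multiset.map_map]
    rw [← hf, hsp.eq_prod_roots_of_monic hfm]
    rw [← hs1, Multiset.map_map]
    congr 1
    refine Multiset.map_congr rfl fun r _ => ?_
    simp
    rfl
  have h4 : (s.map (fun r => X - C r)).prod = g :=
    Polynomial.map_injective _ (Subtype.val_injective) h3
  rw [h4]
  exact h0

/-- The product of linear factors over a multiset of the local ring. -/
noncomputable abbrev lin (s : Multiset (localRing M)) : (localRing M)[X] :=
  (s.map (fun r => X - C r)).prod

omit [Group G] [Fintype G] in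
lemma isCoprime_lin (S T : Multiset (localRing M)) (h : ∀ r ∈ S, ∀ t ∈ T, IsUnit (r - t)) :
    IsCoprime (lin S) (lin T) := by
  induction S using Multiset.induction_on with
  | empty => simpa [lin] using isCoprime_one_left
  | cons r S ih =>
    rw [lin, Multiset.map_cons, Multiset.prod_cons]
    refine IsCoprime.mul_left ?_ (ih fun r' hr' t ht => h r' (Multiset.mem_cons_of_mem hr') t ht)
    have h1 : ∀ t ∈ T, IsUnit (r - t) := fun t ht => h r (Multiset.mem_cons_self _ _) t ht
    clear ih h
    induction T using Multiset.induction_on with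
    | empty => simpa [lin] using isCoprime_one_right
    | cons t T ih =>
      rw [lin, Multiset.map_cons, Multiset.prod_cons]
      refine IsCoprime.mul_right ?_ (ih fun t' ht' => h1 t' (Multiset.mem_cons_of_mem ht'))
      exact isCoprime_X_sub_C_of_isUnit_sub (h1 t (Multiset.mem_cons_self _ _))

omit [Group G] [Fintype G] in
lemma lin_filter_mul (s : Multiset (localRing M)) (Q : localRing M → Prop) [DecidablePred Q] :
    lin (s.filter Q) * lin (s.filter (fun r => ¬ Q r)) = lin s := by
  rw [lin, lin, ← Multiset.prod_add, ← Multiset.map_add, Multiset.filter_add_not]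

/-- All "eigenvalues" of `n` lie in the local ideal. -/
def SpecI (M : Ideal AlgInt) [M.IsPrime] (n : MonoidAlgebra ℂ G) : Prop :=
  ∃ s : Multiset (localRing M), (∀ r ∈ s, r ∈ localIdeal M) ∧ aeval n (lin s) = 0

omit [Group G] [Fintype G] in
lemma lin_cons (r : localRing M) (s : Multiset (localRing M)) : lin (r ::ₘ s) = (X - C r) * lin s := by
  rw [lin, Multiset.map_cons, Multiset.prod_cons]

/-- A monic split polynomial with roots in the local ideal: the `card`-th power of `n` is
divisible by the ideal, for `n` with local coefficients. -/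
lemma exists_eq_pow_add (n : MonoidAlgebra ℂ G) (hn : LocCoeff M n) (s : Multiset (localRing M))
    (hs : ∀ r ∈ s, r ∈ localIdeal M) :
    ∃ b : MonoidAlgebra ℂ G, CoeffIn (localIdeal M) b ∧
      aeval n (lin s) = n ^ (Multiset.card s) + b := by
  induction s using Multiset.induction_on with
  | empty => exact ⟨0, coeffIn_zero, by simp [lin]⟩
  | cons r s ih =>
    obtain ⟨b, hb, hbE⟩ := ih fun t ht => hs t (Multiset.mem_cons_of_mem ht)
    have hr := hs r (Multiset.mem_cons_self _ _)
    have hnc : CoeffIn (⊤ : Ideal (localRing M)) n := coeffIn_top_iff.mpr hn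
    have hpow : CoeffIn (⊤ : Ideal (localRing M)) (n ^ Multiset.card s) :=
      coeffIn_top_iff.mpr (hn.pow _)
    have hrc : ∀ u : MonoidAlgebra ℂ G, CoeffIn (⊤ : Ideal (localRing M)) u →
        CoeffIn (localIdeal M) (algebraMap (localRing M) (MonoidAlgebra ℂ G) r * u) := by
      intro u hu g
      have : (algebraMap (localRing M) (MonoidAlgebra ℂ G) r * u).coeff g = (r : ℂ) * u.coeff g := by
        rw [algebraMap_local_eq, ← Algebra.smul_def, MonoidAlgebra.coeff_smul_apply, smul_eq_mul]
      obtain ⟨c, -, hc⟩ := hu g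
      refine ⟨r * c, (localIdeal M).mul_mem_right _ hr, ?_⟩
      rw [this, ← hc]
      rfl
    refine ⟨n * b - algebraMap (localRing M) _ r * (n ^ Multiset.card s + b), ?_, ?_⟩
    · refine (CoeffIn.mul_left hnc hb).sub (hrc _ ?_)
      have h3 := hpow.add hb.top
      exact h3
    · rw [lin, Multiset.map_cons, Multiset.prod_cons, map_mul, ← lin, hbE, Multiset.card_cons]
      simp only [map_sub, aeval_X, aeval_C]
      rw [pow_succ']
      noncomm_ring

theorem SpecI.exists_pow {n : MonoidAlgebra ℂ G} (h : SpecI M n) (hn : LocCoeff M n) :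
    ∃ k : ℕ, CoeffIn (localIdeal M) (n ^ k) := by
  obtain ⟨s, hs, h0⟩ := h
  obtain ⟨b, hb, hbE⟩ := exists_eq_pow_add n hn s hs
  refine ⟨Multiset.card s, ?_⟩
  rw [h0] at hbE
  have : n ^ Multiset.card s = - b := by
    rw [eq_neg_iff_add_eq_zero]
    exact hbE.symm
  rw [this]
  exact hb.neg

/-- The trace of a representation on the group algebra. -/
lemma trace_asAlgebraHom {V : Type*} [AddCommGroup V] [Module ℂ V] (ρ : Representation ℂ G V)
    (a : MonoidAlgebra ℂ G) :
    LinearMap.trace ℂ V (ρ.asAlgebraHom a) = twTrace ρ.character 1 a := by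
  classical
  have h1 : a = ∑ g : G, MonoidAlgebra.single g (a.coeff g) := by
    ext x
    simp [MonoidAlgebra.coeff_sum, Finsupp.finsetSum_apply, MonoidAlgebra.coeff_single,
      Finsupp.single_apply]
  conv_lhs => rw [h1]
  rw [map_sum, map_sum, twTrace]
  refine Finset.sum_congr rfl fun g _ => ?_
  rw [Representation.asAlgebraHom_single, map_smul, smul_eq_mul, mul_one]
  rfl

/-- The trace of an element with spectrum in the local ideal lies in the local ideal. -/
theorem SpecI.trace_mem {n : MonoidAlgebra ℂ G} (h : SpecI M n) {χ : G → ℂ}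
    (hχ : IsCharacter G χ) : MemLocalIdeal M (twTrace χ 1 n) := by
  classical
  obtain ⟨m, ρ, rfl⟩ := hχ
  obtain ⟨s, hs, h0⟩ := h
  rw [← trace_asAlgebraHom]
  set T := ρ.asAlgebraHom n with hT
  rw [Module.End.trace_eq_sum_roots_charpoly_of_splits (IsAlgClosed.splits _)]
  -- all roots of the characteristic polynomial are in `s`
  have hroot : ∀ z ∈ (LinearMap.charpoly T).roots, MemLocalIdeal M z := by
    intro z hz
    have hz' : (LinearMap.charpoly T).IsRoot z := (mem_roots'.mp hz).2
    have hev : Module.End.HasEigenvalue T z :=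
      Module.End.hasEigenvalue_iff_isRoot_charpoly T z |>.mpr hz'
    obtain ⟨v, hv⟩ := hev.exists_hasEigenvector
    have h1 : aeval n ((lin s).map (algebraMap (localRing M) ℂ)) = 0 := by
      rw [aeval_map_algebraMap]
      exact h0
    have h2 : aeval T ((lin s).map (algebraMap (localRing M) ℂ)) = 0 := by
      rw [hT, aeval_algHom_apply, h1, map_zero]
    have h3 := Module.End.aeval_apply_of_hasEigenvector (p := (lin s).map (algebraMap (localRing M) ℂ)) hv
    rw [h2, LinearMap.zero_apply] at h3
    have h4 : ((lin s).map (algebraMap (localRing M) ℂ)).eval z = 0 := by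
      have := h3.symm
      rw [smul_eq_zero] at this
      exact this.resolve_right hv.2
    have h5 : z ∈ ((lin s).map (algebraMap (localRing M) ℂ)).roots := by
      rw [mem_roots']
      refine ⟨?_, h4⟩
      exact ((monic_multiset_prod_of_monic _ _ fun r _ => monic_X_sub_C r).map _).ne_zero
    have h6 : ((lin s).map (algebraMap (localRing M) ℂ)) =
        ((s.map (fun r : localRing M => (r : ℂ))).map (fun r => X - C r)).prod := by
      rw [lin, Polynomial.map_multiset_prod, Multiset.map_map, Multiset.map_map]
      congr 1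
      refine Multiset.map_congr rfl fun r _ => ?_
      simp
      rfl
    rw [h6, roots_multiset_prod_X_sub_C, Multiset.mem_map] at h5
    obtain ⟨r, hr, rfl⟩ := h5
    exact hs r hr
  generalize (LinearMap.charpoly T).roots = t at hroot
  induction t using Multiset.induction_on with
  | empty => simpa using memLocalIdeal_zero
  | cons z t ih =>
    rw [Multiset.sum_cons]
    exact memLocalIdeal_add (hroot z (Multiset.mem_cons_self _ _))
      (ih fun w hw => hroot w (Multiset.mem_cons_of_mem hw))

/-- Primitive idempotents of the local `P`-invariant lattice. -/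
structure IsPrimIdem (M : Ideal AlgInt) [M.IsPrime] (P : Subgroup G) (y : MonoidAlgebra ℂ G) : Prop where
  loc : LocCoeff M y
  inv : InvBy P y
  idem : y * y = y
  ne : y ≠ 0
  prim : ∀ w₁ w₂ : MonoidAlgebra ℂ G, LocCoeff M w₁ → InvBy P w₁ → LocCoeff M w₂ → InvBy P w₂ →
    w₁ * w₁ = w₁ → w₂ * w₂ = w₂ → w₁ * w₂ = 0 → w₂ * w₁ = 0 → w₁ + w₂ = y → w₁ = 0 ∨ w₂ = 0

/-- A measure for idempotents. -/
noncomputable def idemRank (w : MonoidAlgebra ℂ G) : ℕ :=
  Module.finrank ℂ (LinearMap.range (LinearMap.mulLeft ℂ w))

omit [Fintype G] in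
lemma idemRank_lt [Finite G] {w y : MonoidAlgebra ℂ G} (hw : w * w = w) (h1 : y * w = w) (h2 : w * y = w) (hy : y * y = y)
    (hne : w ≠ y) : idemRank w < idemRank y := by
  classical
  have : Module.Finite ℂ (MonoidAlgebra ℂ G) := by
    have := Fintype.ofFinite G
    infer_instance
  apply Submodule.finrank_lt_finrank_of_lt
  refine lt_of_le_of_ne ?_ ?_
  · rintro _ ⟨a, rfl⟩
    refine ⟨w * a, ?_⟩
    simp only [LinearMap.mulLeft_apply]
    rw [← mul_assoc, h1]
  · intro heq
    have hy1 : y ∈ LinearMap.range (LinearMap.mulLeft ℂ y) := ⟨y, by simpa using hy⟩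
    rw [← heq] at hy1
    obtain ⟨a, ha⟩ := hy1
    simp only [LinearMap.mulLeft_apply] at ha
    apply hne
    rw [← h2, ← ha, ← mul_assoc, hw]

/-- Existence of a primitive idempotent which sees the symmetric form `T`. -/
theorem exists_primIdem {P : Subgroup G} (T : MonoidAlgebra ℂ G → ℂ) (hadd : ∀ a b, T (a + b) = T a + T b)
    (hsym : ∀ a b, T (a * b) = T (b * a)) {c₀ : MonoidAlgebra ℂ G} (hc₀ : LocCoeff M c₀)
    (hc₀' : InvBy P c₀) (hT : ¬ MemLocalIdeal M (T c₀)) :
    ∃ y c : MonoidAlgebra ℂ G, IsPrimIdem M P y ∧ LocCoeff M c ∧ InvBy P c ∧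
      ¬ MemLocalIdeal M (T (y * c * y)) := by
  classical
  have h00 : T 0 = 0 := by
    have := hadd 0 0
    simpa using this
  let Sel : MonoidAlgebra ℂ G → Prop := fun w => LocCoeff M w ∧ InvBy P w ∧ w * w = w ∧
    ∃ c, LocCoeff M c ∧ InvBy P c ∧ ¬ MemLocalIdeal M (T (w * c * w))
  have hex : ∃ n, ∃ w, Sel w ∧ idemRank w = n :=
    ⟨_, 1, ⟨locCoeff_one, invBy_one P, mul_one 1, c₀, hc₀, hc₀', by simpa using hT⟩, rfl⟩
  obtain ⟨y, hy, hym⟩ := Nat.find_spec hex
  have hmin : ∀ w, Sel w → idemRank y ≤ idemRank w := by
    intro w hw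
    rw [hym]
    exact Nat.find_min' hex ⟨w, hw, rfl⟩
  obtain ⟨hyl, hyi, hyy, c, hc, hci, hcT⟩ := hy
  refine ⟨y, c, ⟨hyl, hyi, hyy, ?_, ?_⟩, hc, hci, hcT⟩
  · rintro rfl
    apply hcT
    simpa [h00] using memLocalIdeal_zero
  · intro w₁ w₂ hl₁ hi₁ hl₂ hi₂ h₁ h₂ h₁₂ h₂₁ hsum
    -- the form splits
    have hsplit : T (y * c * y) = T (w₁ * c * w₁) + T (w₂ * c * w₂) := by
      have e1 : T (w₁ * c * w₂) = 0 := by
        rw [hsym, ← mul_assoc, h₂₁, zero_mul, h00]
      have e2 : T (w₂ * c * w₁) = 0 := by
        rw [hsym, ← mul_assoc, h₁₂, zero_mul, h00]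
      rw [← hsum]
      have : (w₁ + w₂) * c * (w₁ + w₂) =
          w₁ * c * w₁ + (w₁ * c * w₂ + (w₂ * c * w₁ + w₂ * c * w₂)) := by noncomm_ring
      rw [this, hadd, hadd, hadd, e1, e2]
      ring
    have hsub : ∀ w w' : MonoidAlgebra ℂ G, w * w = w → w * w' = 0 → w' * w = 0 → w + w' = y →
        LocCoeff M w → InvBy P w → ¬ MemLocalIdeal M (T (w * c * w)) → w' = 0 := by
      intro w w' hw hww' hw'w hs hl hi hnot
      have hge := hmin w ⟨hl, hi, hw, c, hc, hci, hnot⟩
      have h1 : y * w = w := by rw [← hs, add_mul, hw, hw'w, add_zero]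
      have h2 : w * y = w := by rw [← hs, mul_add, hw, hww', add_zero]
      by_contra hne
      have hne' : w ≠ y := by
        intro h
        apply hne
        have : w + w' = w := by rw [hs, h]
        simpa using this
      have := idemRank_lt hw h1 h2 hyy hne'
      omega
    by_cases h3 : MemLocalIdeal M (T (w₁ * c * w₁))
    · left
      refine hsub w₂ w₁ h₂ h₂₁ h₁₂ (by rw [add_comm]; exact hsum) hl₂ hi₂ ?_
      intro h4
      apply hcT
      rw [hsplit]
      exact memLocalIdeal_add h3 h4
    · right
      exact hsub w₁ w₂ h₁ h₁₂ h₂₁ hsum hl₁ hi₁ h3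

/-- In the corner of a primitive idempotent, an element of the lattice has a single eigenvalue
modulo the local ideal. -/
theorem IsPrimIdem.exists_corner {P : Subgroup G} {y : MonoidAlgebra ℂ G} (hy : IsPrimIdem M P y)
    {a : MonoidAlgebra ℂ G} (ha : LocCoeff M a) (hai : InvBy P a) (hc : Commute y a) :
    ∃ (l : localRing M) (s : Multiset (localRing M)), (∀ r ∈ s, r - l ∈ localIdeal M) ∧
      aeval a (lin s) * y = 0 := by
  classical
  have key : ∀ (n : ℕ) (s : Multiset (localRing M)), Multiset.card s = n → aeval a (lin s) * y = 0 →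
      ∃ (l : localRing M) (s : Multiset (localRing M)), (∀ r ∈ s, r - l ∈ localIdeal M) ∧
        aeval a (lin s) * y = 0 := by
    intro n
    induction n using Nat.strong_induction_on with
    | _ n ih =>
    intro s hs h0
    rcases Multiset.empty_or_exists_mem s with rfl | ⟨l, hl⟩
    · exfalso
      apply hy.ne
      simpa [lin] using h0
    · set Q : localRing M → Prop := fun r => r - l ∈ localIdeal M with hQ
      have hunit : ∀ r ∈ s.filter Q, ∀ t ∈ s.filter (fun r => ¬ Q r), IsUnit (r - t) := by
        intro r hr t ht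
        rw [Multiset.mem_filter] at hr ht
        rw [isUnit_iff_not_mem]
        intro h
        apply ht.2
        have : t - l = (r - l) - (r - t) := by ring
        show t - l ∈ localIdeal M
        rw [this]
        exact (localIdeal M).sub_mem hr.2 h
      obtain ⟨u, v, huv⟩ := isCoprime_lin _ _ hunit
      set f₁ := lin (s.filter Q) with hf₁
      set f₂ := lin (s.filter (fun r => ¬ Q r)) with hf₂
      have hprod : f₁ * f₂ = lin s := lin_filter_mul s Q
      set e₁ := aeval a (v * f₂) with he₁
      set e₂ := aeval a (u * f₁) with he₂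
      have hsum : e₁ + e₂ = 1 := by
        rw [he₁, he₂, ← map_add, add_comm, huv, map_one]
      have hcomm : ∀ q : (localRing M)[X], aeval a q * y = y * aeval a q := fun q =>
        (commute_aeval hc q).symm
      have hy0 : y * aeval a (lin s) = 0 := by rw [← hcomm, h0]
      have h12 : y * (e₁ * e₂) = 0 := by
        have : e₁ * e₂ = aeval a (v * u) * aeval a (lin s) := by
          rw [he₁, he₂, ← map_mul, ← map_mul, ← hprod]
          congr 1
          ring
        rw [this, ← mul_assoc, ← hcomm, mul_assoc, hy0, mul_zero]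
      have hcommE : ∀ q r : (localRing M)[X], aeval a q * aeval a r = aeval a r * aeval a q := by
        intro q r
        rw [← map_mul, ← map_mul, mul_comm]
      have e₁e₂ : e₂ * e₁ = e₁ * e₂ := hcommE _ _
      have hye₁ : y * e₁ = e₁ * y := (hcomm _).symm
      have hye₂ : y * e₂ = e₂ * y := (hcomm _).symm
      have hyy := hy.idem
      -- the two pieces
      have hw₁ : (y * e₁) * (y * e₁) = y * e₁ := by
        have : e₁ = e₁ * e₁ + e₁ * e₂ := by rw [← mul_add, hsum, mul_one]
        calc (y * e₁) * (y * e₁) = y * y * (e₁ * e₁) := by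
              rw [mul_assoc, ← mul_assoc e₁, ← hye₁, mul_assoc y e₁ e₁, mul_assoc]
          _ = y * (e₁ * e₁) := by rw [hyy]
          _ = y * (e₁ * e₁ + e₁ * e₂) := by rw [mul_add, h12, add_zero]
          _ = y * e₁ := by rw [← this]
      have hw₂ : (y * e₂) * (y * e₂) = y * e₂ := by
        have : e₂ = e₂ * e₂ + e₁ * e₂ := by rw [← add_mul, add_comm, hsum, one_mul]
        calc (y * e₂) * (y * e₂) = y * y * (e₂ * e₂) := by
              rw [mul_assoc, ← mul_assoc e₂, ← hye₂, mul_assoc y e₂ e₂, mul_assoc]
          _ = y * (e₂ * e₂) := by rw [hyy]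
          _ = y * (e₂ * e₂ + e₁ * e₂) := by rw [mul_add, h12, add_zero]
          _ = y * e₂ := by rw [← this]
      have hw₁₂ : (y * e₁) * (y * e₂) = 0 := by
        calc (y * e₁) * (y * e₂) = y * y * (e₁ * e₂) := by
              rw [mul_assoc, ← mul_assoc e₁, ← hye₁, mul_assoc y e₁ e₂, mul_assoc]
          _ = 0 := by rw [hyy, h12]
      have hw₂₁ : (y * e₂) * (y * e₁) = 0 := by
        calc (y * e₂) * (y * e₁) = y * y * (e₁ * e₂) := by
              rw [mul_assoc, ← mul_assoc e₂, ← hye₂, mul_assoc y e₂ e₁, mul_assoc, e₁e₂]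
          _ = 0 := by rw [hyy, h12]
      have hws : y * e₁ + y * e₂ = y := by rw [← mul_add, hsum, mul_one]
      have hl₁ : LocCoeff M e₁ := locCoeff_aeval ha _
      have hl₂ : LocCoeff M e₂ := locCoeff_aeval ha _
      have hi₁ : InvBy P e₁ := invBy_aeval hai _
      have hi₂ : InvBy P e₂ := invBy_aeval hai _
      rcases hy.prim _ _ (hy.loc.mul hl₁) (hy.inv.mul hi₁) (hy.loc.mul hl₂) (hy.inv.mul hi₂) hw₁ hw₂
        hw₁₂ hw₂₁ hws with h | h
      · -- `y = y e₂`: the class of `l` disappears
        have hye : y * e₂ = y := by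
          have := hws
          rwa [h, zero_add] at this
        have hf : aeval a f₂ * y = 0 := by
          calc aeval a f₂ * y = aeval a f₂ * (y * e₂) := by rw [hye]
            _ = y * (aeval a f₂ * e₂) := by
                rw [← mul_assoc, hcomm, mul_assoc]
            _ = y * (aeval a u * aeval a (lin s)) := by
                congr 1
                rw [he₂, ← map_mul, ← map_mul, ← hprod]
                congr 1
                ring
            _ = 0 := by
                rw [← mul_assoc, ← hcomm, mul_assoc, hy0, mul_zero]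
        have hlt : Multiset.card (s.filter (fun r => ¬ Q r)) < n := by
          rw [← hs]
          apply lt_of_le_of_ne (Multiset.card_le_card (Multiset.filter_le _ _))
          intro heq
          have h5 := (Multiset.filter_eq_self).mp (Multiset.eq_of_le_of_card_le
            (Multiset.filter_le _ _) heq.ge)
          have h6 := h5 l hl
          apply h6
          show l - l ∈ localIdeal M
          simp
        exact ih _ hlt _ rfl hf
      · -- `y = y e₁`
        have hye : y * e₁ = y := by
          have := hws
          rwa [h, add_zero] at this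
        refine ⟨l, s.filter Q, fun r hr => (Multiset.mem_filter.mp hr).2, ?_⟩
        calc aeval a f₁ * y = aeval a f₁ * (y * e₁) := by rw [hye]
          _ = y * (aeval a f₁ * e₁) := by
              rw [← mul_assoc, hcomm, mul_assoc]
          _ = y * (aeval a v * aeval a (lin s)) := by
              congr 1
              rw [he₁, ← map_mul, ← map_mul, ← hprod]
              congr 1
              ring
          _ = 0 := by
              rw [← mul_assoc, ← hcomm, mul_assoc, hy0, mul_zero]
  obtain ⟨s, hs⟩ := exists_spec ha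
  exact key _ s rfl (by rw [hs, zero_mul])

lemma ι_sub (r l : localRing M) : algebraMap (localRing M) (MonoidAlgebra ℂ G) (r - l) =
    algebraMap (localRing M) (MonoidAlgebra ℂ G) r - algebraMap (localRing M) (MonoidAlgebra ℂ G) l :=
  map_sub _ _ _

/-- **The corner is local.**  For `c` in the lattice there is a scalar `l` such that
`y c y - l y` has all its eigenvalues in the local ideal. -/
theorem IsPrimIdem.exists_specI {P : Subgroup G} {y : MonoidAlgebra ℂ G} (hy : IsPrimIdem M P y)
    {c : MonoidAlgebra ℂ G} (hc : LocCoeff M c) (hci : InvBy P c) :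
    ∃ l : localRing M, SpecI M (y * c * y - algebraMap (localRing M) (MonoidAlgebra ℂ G) l * y) := by
  classical
  have hyy := hy.idem
  set a := y * c * y with ha
  have hal : LocCoeff M a := (hy.loc.mul hc).mul hy.loc
  have hai : InvBy P a := (hy.inv.mul hci).mul hy.inv
  have hay : a * y = a := by rw [ha, mul_assoc, hyy]
  have hya : y * a = a := by rw [ha, ← mul_assoc, ← mul_assoc, hyy]
  have hcomm : Commute y a := by
    show y * a = a * y
    rw [hay, hya]
  obtain ⟨l, s, hs, hs0⟩ := hy.exists_corner hal hai hcomm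
  refine ⟨l, ?_⟩
  set ι := algebraMap (localRing M) (MonoidAlgebra ℂ G) with hι
  set n := a - ι l * y with hn
  have hιc : ∀ (r : localRing M) (x : MonoidAlgebra ℂ G), ι r * x = x * ι r := fun r x => Algebra.commutes r x
  have hny : n * y = n := by
    rw [hn, sub_mul, hay, mul_assoc, hyy]
  have hyn : y * n = n := by
    rw [hn, mul_sub, hya, ← mul_assoc, ← hιc l y, mul_assoc, hyy]
  have hcyn : Commute y n := by
    show y * n = n * y
    rw [hny, hyn]
  have hcan : Commute a n := by
    show a * n = n * a
    have h1 : Commute a y := hcomm.symm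
    have h2 : Commute a (ι l) := (Algebra.commutes l a).symm
    have : Commute a n := (Commute.refl a).sub_right (h2.mul_right h1)
    exact this
  have step : ∀ s' : Multiset (localRing M),
      aeval a (lin s') * y = aeval n (lin (s'.map (fun r => r - l))) * y := by
    intro s'
    induction s' using Multiset.induction_on with
    | empty => simp [lin]
    | cons r s' ih =>
      rw [Multiset.map_cons, lin_cons, lin_cons, map_mul, map_mul, mul_assoc, ih]
      simp only [map_sub, aeval_X, aeval_C]
      have hFa : Commute a (aeval n (lin (s'.map (fun r => r - l)))) := commute_aeval hcan _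
      have hFι : ∀ t : localRing M, Commute (ι t) (aeval n (lin (s'.map (fun r => r - l)))) :=
        fun t => Algebra.commutes t _
      have hFy : Commute y (aeval n (lin (s'.map (fun r => r - l)))) := commute_aeval hcyn _
      set F := aeval n (lin (s'.map (fun r => r - l))) with hF
      have e1 : (a - ι r) * (F * y) = F * ((a - ι r) * y) := by
        rw [← mul_assoc, ← mul_assoc, (hFa.sub_left (hFι r)).eq]
      have e2 : (n - (ι r - ι l)) * F * y = F * ((n - (ι r - ι l)) * y) := by
        have h5 : Commute n F := commute_aeval (Commute.refl n) _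
        rw [← mul_assoc, (h5.sub_left ((hFι r).sub_left (hFι l))).eq]
      rw [e1, e2]
      congr 1
      rw [sub_mul a, sub_mul n, hny, hay, sub_mul (ι r) (ι l), hn]
      abel
  have h1 := step s
  rw [hs0] at h1
  refine ⟨0 ::ₘ s.map (fun r => r - l), ?_, ?_⟩
  · intro r hr
    rw [Multiset.mem_cons, Multiset.mem_map] at hr
    rcases hr with rfl | ⟨t, ht, rfl⟩
    · exact (localIdeal M).zero_mem
    · exact hs t ht
  · rw [lin, Multiset.map_cons, Multiset.prod_cons, map_mul, ← lin]
    simp only [map_sub, aeval_X, aeval_C, map_zero, sub_zero]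
    have h2 : n * aeval n (lin (s.map (fun r => r - l))) = n * y * aeval n (lin (s.map (fun r => r - l))) := by
      rw [hny]
    rw [h2, mul_assoc, (commute_aeval hcyn _).eq, ← h1, mul_zero]

end Spec

end Cfsg.Agent.Lib.Blocks.Nilp
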