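/-
Brauer pairs: local blocks and defect groups.
-/
import Mathlib
import Cfsg.Agent.Lib.Blocks.Pairs7
import Cfsg.Agent.Lib.Blocks.Principal

set_option autoImplicit false

namespace Cfsg.Agent.Lib.Blocks.Pairs

open Cfsg Cfsg.Agent.Lib.Blocks.Local Cfsg.Agent.Lib.Blocks.Central Cfsg.Agent.Lib.Blocks.Osima
open Cfsg.Agent.Lib.Blocks.Covering Cfsg.Agent.Lib.Blocks.BrauerMap Cfsg.Agent.Lib.Blocks.Transport
open Cfsg.Agent.Lib.Blocks.BlockHom Cfsg.Agent.Lib.Blocks.Twisted

universe u

section Stab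

variable {G : Type u} [Group G] [Fintype G]

/-- The stabilizer of a set of irreducible characters of `K`, as a subgroup. -/
def blockStabilizer (K : Subgroup G) (f : Set (IrrCharacter K)) : Subgroup G where
  carrier := {u | StabilizesBlock K f u}
  one_mem' := stabilizesBlock_of_mem K.one_mem f
  mul_mem' := by
    intro a b ha hb
    obtain ⟨ha1, ha2⟩ := stabilizesBlock_iff.mp ha
    obtain ⟨hb1, hb2⟩ := stabilizesBlock_iff.mp hb
    refine stabilizesBlock_iff.mpr ⟨Subgroup.mul_mem _ ha1 hb1, ?_⟩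
    rw [conjB_mul (map_conj_of_mem_normalizer ha1) (map_conj_of_mem_normalizer hb1), hb2, ha2]
  inv_mem' := by
    intro a ha
    obtain ⟨ha1, ha2⟩ := stabilizesBlock_iff.mp ha
    have hi := Subgroup.inv_mem _ ha1
    refine stabilizesBlock_iff.mpr ⟨hi, ?_⟩
    conv_lhs => rw [← ha2]
    rw [← conjB_mul (map_conj_of_mem_normalizer hi) (map_conj_of_mem_normalizer ha1)
      (map_conj_of_mem_normalizer (Subgroup.mul_mem _ hi ha1))]
    rw [conjB_congr (inv_mul_cancel a) _ (map_conj_of_mem_normalizer (Subgroup.one_mem _))]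
    exact conjB_of_mem K.one_mem _ f

@[simp] lemma mem_blockStabilizer {K : Subgroup G} {f : Set (IrrCharacter K)} {u : G} :
    u ∈ blockStabilizer K f ↔ StabilizesBlock K f u := Iff.rfl

/-- An element centralizing `K` stabilizes everything. -/
lemma stabilizesBlock_of_centralizes {K : Subgroup G} {u : G} (hu : u ∈ Subgroup.centralizer (K : Set G))
    (f : Set (IrrCharacter K)) : StabilizesBlock K f u := by
  classical
  have hun : u ∈ Subgroup.normalizer (K : Set G) := by
    rw [Subgroup.mem_normalizer_iff]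
    intro k
    have h1 := Subgroup.mem_centralizer_iff.mp hu
    constructor
    · intro hk
      have : u * k * u⁻¹ = k := by
        rw [← h1 k hk]
        group
      rwa [this]
    · intro hk
      have h3 := h1 _ hk
      have h4 : k = u * k * u⁻¹ := by
        apply mul_left_cancel (a := u)
        calc u * k = (u * k * u⁻¹) * u := by group
          _ = u * (u * k * u⁻¹) := h3
      rwa [h4]
  rw [stabilizesBlock_iff]
  refine ⟨hun, ?_⟩
  ext ξ
  rw [mem_conjB]
  have : irrComap (conjEq u (map_conj_of_mem_normalizer hun)) ξ = ξ := by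
    apply Subtype.ext
    funext k
    show (ξ : K → ℂ) (conjEq u (map_conj_of_mem_normalizer hun) k) = (ξ : K → ℂ) k
    have h2 : conjEq u (map_conj_of_mem_normalizer hun) k = k := by
      apply Subtype.ext
      rw [coe_conjEq, ← Subgroup.mem_centralizer_iff.mp hu k k.2]
      group
    rw [h2]
  rw [this]

end Stab

section Local

variable {G : Type u} [Group G] [Fintype G] {M : Ideal AlgInt} [hM : M.IsPrime]
variable {p : ℕ} [Fact p.Prime]

/-- Below `(P, e)`, the subpair on `Q` is a normal subpair of the subpair on `N_P(Q)`. -/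
theorem exists_normal_subpair_normalizer (hMp : IsPModular p M) {P Q : Subgroup G}
    {e : Set (IrrCharacter (Subgroup.centralizer (P : Set G)))}
    {f : Set (IrrCharacter (Subgroup.centralizer (Q : Set G)))} (hPe : IsBrauerPair p M P e)
    (hQP : Q ≤ P) (hle : SubpairLE p M Q f P e) :
    ∃ h : Set (IrrCharacter (Subgroup.centralizer ((P ⊓ Subgroup.normalizer (Q : Set G) : Subgroup G) : Set G))),
      IsNormalSubpair p M Q f (P ⊓ Subgroup.normalizer (Q : Set G)) h := by
  classical
  have hRP : P ⊓ Subgroup.normalizer (Q : Set G) ≤ P := inf_le_left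
  obtain ⟨h, hh, hle₂⟩ := exists_subpairLE hMp hPe hRP
  have hR : IsBrauerPair p M (P ⊓ Subgroup.normalizer (Q : Set G)) h := ⟨hPe.1.to_le hRP, hh⟩
  obtain ⟨f', hf', -⟩ := existsUnique_normal_subpair hMp hR (le_inf hQP Subgroup.le_normalizer) inf_le_right
  refine ⟨h, ?_⟩
  have h1 : SubpairLE p M Q f' P e := Relation.ReflTransGen.head
    (show NormalSubpairRel p M ⟨Q, f'⟩ ⟨_, h⟩ from hf') hle₂
  rwa [eq_of_subpairLE hMp hPe hle h1]

/-- Elements outside the subgroup have coefficient zero. -/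
lemma mem_of_coeff_EE {K : Subgroup G} {f : Set (IrrCharacter K)} {x : G}
    (hx : ¬ MemLocalIdeal M ((EE K f).coeff x)) : x ∈ K := by
  by_contra hxK
  apply hx
  rw [coeff_EE, subgroupBlockCoeff_of_notMem _ hxK]
  exact memLocalIdeal_zero

omit hM in
/-- Existence of a defect group. -/
theorem exists_isDefectGroup (hMp : IsPModular p M) {H : Type u} [Group H] [Fintype H]
    {B : Set (IrrCharacter H)} (hB : IsPBlock M B) :
    ∃ (x : H) (S : Sylow p (Subgroup.centralizer ({x} : Set H))), IsDefectClass M B x ∧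
      IsDefectGroup p M B ((S : Subgroup (Subgroup.centralizer ({x} : Set H))).map
        (Subgroup.centralizer ({x} : Set H)).subtype) := by
  haveI : M.IsPrime := hMp.2.1.isPrime
  obtain ⟨x, hx⟩ := exists_isDefectClass hB
  obtain ⟨S⟩ : Nonempty (Sylow p (Subgroup.centralizer ({x} : Set H))) := inferInstance
  exact ⟨x, S, hx, x, hx, S, rfl⟩

omit hM in
/-- First part of S4661: the centralizer in `P` lies in a defect group. -/
theorem exists_defect_le_centralizer (hMp : IsPModular p M) {P Q : Subgroup G}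
    {e : Set (IrrCharacter (Subgroup.centralizer (P : Set G)))}
    {f : Set (IrrCharacter (Subgroup.centralizer (Q : Set G)))} (hPe : IsBrauerPair p M P e)
    (hQP : Q ≤ P) (hf : IsPBlock M f) (hle : SubpairLE p M Q f P e) :
    ∃ D : Subgroup (Subgroup.centralizer (Q : Set G)), IsDefectGroup p M f D ∧
      (P ⊓ Subgroup.centralizer (Q : Set G)).subgroupOf (Subgroup.centralizer (Q : Set G)) ≤ D := by
  classical
  haveI : M.IsPrime := hMp.2.1.isPrime
  obtain ⟨h, hn⟩ := exists_normal_subpair_normalizer hMp hPe hQP hle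
  obtain ⟨x, hxR, hx⟩ := exists_coeff_of_normal_subpair hn
  have hxK := mem_of_coeff_EE hx
  obtain ⟨x₀, S, -, hdef⟩ := exists_isDefectGroup hMp hf
  have hxc : ¬ MemLocalIdeal M (blockCoeff f (⟨x, hxK⟩ : Subgroup.centralizer (Q : Set G))) := by
    rw [coeff_EE, subgroupBlockCoeff_of_mem _ hxK] at hx
    exact hx
  have hRp : IsPGroup p ((P ⊓ Subgroup.centralizer (Q : Set G)).subgroupOf (Subgroup.centralizer (Q : Set G))) :=
    (hPe.1.to_le inf_le_left).comap_of_injective _ (Subgroup.subtype_injective _)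
  have hRx : (P ⊓ Subgroup.centralizer (Q : Set G)).subgroupOf (Subgroup.centralizer (Q : Set G)) ≤
      Subgroup.centralizer ({(⟨x, hxK⟩ : Subgroup.centralizer (Q : Set G))} : Set _) := by
    intro d hd
    rw [Subgroup.mem_subgroupOf] at hd
    rw [Subgroup.mem_centralizer_singleton_iff]
    apply Subtype.ext
    have hdR : (d : G) ∈ P ⊓ Subgroup.normalizer (Q : Set G) :=
      ⟨hd.1, Cfsg.Agent.Lib.Blocks.FirstMain.centralizer_le_normalizer' Q hd.2⟩
    exact Subgroup.mem_centralizer_iff.mp hxR _ hdR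
  obtain ⟨y, hy⟩ := exists_le_conj_of_coeff hMp hf hdef hxc hRp hRx
  exact ⟨_, Cfsg.Agent.Lib.Blocks.Principal.isDefectGroup_map_conj hdef y, hy⟩

/-- The data on a defect group: a pair above `(Q, f)` on a group containing the defect group. -/
lemma le_blockStabilizer_of_sup {Q : Subgroup G} {D : Subgroup G} (hDK : D ≤ Subgroup.centralizer (Q : Set G))
    (f : Set (IrrCharacter (Subgroup.centralizer (Q : Set G)))) :
    D ⊔ Q ≤ blockStabilizer (Subgroup.centralizer (Q : Set G)) f := by
  apply sup_le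
  · intro d hd
    exact stabilizesBlock_of_mem (hDK hd) f
  · intro q hq
    apply stabilizesBlock_of_centralizes
    rw [Subgroup.mem_centralizer_iff]
    intro k hk
    exact (Subgroup.mem_centralizer_iff.mp hk q hq).symm

/-- **Second part of S4661.** -/
theorem exists_conj_isDefectGroup_centralizer (hMp : IsPModular p M) {B : Set (IrrCharacter G)} {P Q : Subgroup G}
    {e : Set (IrrCharacter (Subgroup.centralizer (P : Set G)))}
    {f : Set (IrrCharacter (Subgroup.centralizer (Q : Set G)))}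
    (hmax : IsMaximalBrauerPair p M B P e) (hQP : Q ≤ P) (hf : IsPBlock M f)
    (hle : SubpairLE p M Q f P e) :
    ∃ x : G, SubpairLE p M (Q.map (MulAut.conj x).toMonoidHom) (conjBlock Q x f) P e ∧
      IsDefectGroup p M (conjBlock Q x f)
        ((P ⊓ Subgroup.centralizer ((Q.map (MulAut.conj x).toMonoidHom) : Set G)).subgroupOf
          (Subgroup.centralizer ((Q.map (MulAut.conj x).toMonoidHom) : Set G))) := by
  classical
  have hPe := hmax.1.1
  have hQp : IsPGroup p Q := hPe.1.to_le hQP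
  have hQf : IsBrauerPair p M Q f := ⟨hQp, hf⟩
  have hBf : IsBrauerPairOf p M B Q f := (isBrauerPairOf_iff_of_subpairLE hMp hQf hle).mp hmax.1
  obtain ⟨x₀, S₀, hx₀, hdef⟩ := exists_isDefectGroup hMp hf
  set D₀ : Subgroup (Subgroup.centralizer (Q : Set G)) :=
    (S₀ : Subgroup (Subgroup.centralizer ({x₀} : Set (Subgroup.centralizer (Q : Set G))))).map
      (Subgroup.centralizer ({x₀} : Set (Subgroup.centralizer (Q : Set G)))).subtype with hD₀
  set D : Subgroup G := D₀.map (Subgroup.centralizer (Q : Set G)).subtype with hD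
  have hD₀p : IsPGroup p D₀ := Cfsg.Agent.Lib.Blocks.Defect.isPGroup_sylow_map S₀
  have hDp : IsPGroup p D := hD₀p.map _
  have hDK : D ≤ Subgroup.centralizer (Q : Set G) := Subgroup.map_subtype_le _
  have hKN : Subgroup.centralizer (Q : Set G) ≤ Subgroup.normalizer (Q : Set G) :=
    Cfsg.Agent.Lib.Blocks.FirstMain.centralizer_le_normalizer' Q
  have hSp : IsPGroup p (D ⊔ Q : Subgroup G) := hDp.to_sup_of_normal_right' hQp (hDK.trans hKN)
  have hSN : D ⊔ Q ≤ Subgroup.normalizer (Q : Set G) := sup_le (hDK.trans hKN) Subgroup.le_normalizer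
  have hst : ∀ u ∈ D ⊔ Q, StabilizesBlock (Subgroup.centralizer (Q : Set G)) f u :=
    fun u hu => le_blockStabilizer_of_sup hDK f hu
  have hxS : (x₀ : G) ∈ Subgroup.centralizer ((D ⊔ Q : Subgroup G) : Set G) := by
    rw [← Cfsg.Agent.Lib.Blocks.Defect.le_centralizer_singleton_iff]
    apply sup_le
    · rintro _ ⟨d, hd, rfl⟩
      have h1 := Cfsg.Agent.Lib.Blocks.Defect.sylow_map_le S₀ hd
      have h2 := Cfsg.Agent.Lib.Blocks.Defect.mem_centralizer_singleton_iff.1 h1
      exact Cfsg.Agent.Lib.Blocks.Defect.mem_centralizer_singleton_iff.2 (congrArg Subtype.val h2)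
    · intro q hq
      exact Cfsg.Agent.Lib.Blocks.Defect.mem_centralizer_singleton_iff.2
        (Subgroup.mem_centralizer_iff.mp x₀.2 q hq)
  have hcoef : ¬ MemLocalIdeal M ((EE (Subgroup.centralizer (Q : Set G)) f).coeff x₀) := by
    rw [coeff_EE, subgroupBlockCoeff_coe]
    exact hx₀.2.1
  obtain ⟨h, hn⟩ := exists_normal_subpair_of_coeff hMp hSp le_sup_right hSN hf hst hxS hcoef
  have hBh := isBrauerPairOf_up hMp hBf hn
  obtain ⟨y, hy⟩ := exists_conj_subpairLE hMp hmax hBh
  have hn' : IsNormalSubpair p M (Q.map (MulAut.conj y).toMonoidHom) (conjBlock Q y f)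
      ((D ⊔ Q : Subgroup G).map (MulAut.conj y).toMonoidHom) (conjBlock (D ⊔ Q : Subgroup G) y h) := by
    rw [conjBlock_eq_conjB, conjBlock_eq_conjB]
    exact isNormalSubpair_conj y rfl rfl _ _ hn
  have hle' : SubpairLE p M (Q.map (MulAut.conj y).toMonoidHom) (conjBlock Q y f) P e :=
    Relation.ReflTransGen.head (show NormalSubpairRel p M ⟨_, conjBlock Q y f⟩ ⟨_, conjBlock (D ⊔ Q : Subgroup G) y h⟩ from hn') hy
  have hfy : IsPBlock M (conjBlock Q y f) := by
    rw [conjBlock_eq_conjB]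
    exact isPBlock_conjB hf
  have hQyP := SubpairLE.le hle'
  refine ⟨y, hle', ?_⟩
  obtain ⟨D', hD', hW⟩ := exists_defect_le_centralizer hMp hPe hQyP hfy hle'
  -- the transported defect group
  have hc := map_conj_centralizer Q y
  have hdef' := isDefectGroup_blockMap (conjEq y hc).symm hdef
  have hfy' : blockMap (conjEq y hc).symm f = conjBlock Q y f := by
    rw [conjBlock_eq_conjB]
    rfl
  rw [hfy'] at hdef'
  have hle2 : D₀.comap (conjEq y hc).symm.toMonoidHom ≤
      (P ⊓ Subgroup.centralizer ((Q.map (MulAut.conj y).toMonoidHom) : Set G)).subgroupOf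
        (Subgroup.centralizer ((Q.map (MulAut.conj y).toMonoidHom) : Set G)) := by
    intro d hd
    rw [Subgroup.mem_subgroupOf]
    refine ⟨?_, d.2⟩
    have h1 := SubpairLE.le hy
    apply h1
    have h2 : (((conjEq y hc).symm d : Subgroup.centralizer (Q : Set G)) : G) ∈ D ⊔ Q :=
      (le_sup_left : D ≤ D ⊔ Q) ⟨_, hd, rfl⟩
    refine ⟨_, h2, ?_⟩
    exact conjEq_symm_spec y hc d
  have hcard : Nat.card D' = Nat.card (D₀.comap (conjEq y hc).symm.toMonoidHom) := by
    rw [Cfsg.Agent.S0908.result p M hMp _ hfy _ hD', Cfsg.Agent.S0908.result p M hMp _ hfy _ hdef']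
  have heq := Subgroup.eq_of_le_of_card_ge hW (by
    rw [hcard]
    exact Subgroup.card_le_of_le hle2)
  rw [heq]
  exact hD'

lemma orbitU_eq_of_stable {X K : Subgroup G} (hX : X ≤ Subgroup.normalizer (K : Set G))
    {f : Set (IrrCharacter K)} (h : ∀ u ∈ X, StabilizesBlock K f u) : orbitU X K hX f = f := by
  apply Set.Subset.antisymm
  · rintro θ ⟨u, hu⟩
    obtain ⟨h1, h2⟩ := stabilizesBlock_iff.mp (h u u.2)
    rw [h2] at hu
    exact hu
  · exact subset_orbitU _ _ _ _

lemma stabilizer_facts {Q T : Subgroup G}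
    {f : Set (IrrCharacter (Subgroup.centralizer (Q : Set G)))}
    (hT : ∀ y : G, y ∈ T ↔ y ∈ Subgroup.normalizer (Q : Set G) ∧
      StabilizesBlock (Subgroup.centralizer (Q : Set G)) f y) :
    Q ≤ T ∧ Subgroup.centralizer (Q : Set G) ≤ T ∧ T ≤ Subgroup.normalizer (Q : Set G) ∧
      T ≤ Subgroup.normalizer ((Subgroup.centralizer (Q : Set G) : Subgroup G) : Set G) ∧
      ∀ u ∈ T, StabilizesBlock (Subgroup.centralizer (Q : Set G)) f u := by
  refine ⟨fun q hq => ?_, fun c hc => ?_, fun t ht => ((hT t).mp ht).1, fun t ht => ((hT t).mp ht).2.1,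
    fun t ht => ((hT t).mp ht).2⟩
  · exact (hT q).mpr ⟨Subgroup.le_normalizer hq, le_blockStabilizer_of_sup (le_refl _) f (le_sup_right (a := Subgroup.centralizer (Q : Set G)) hq)⟩
  · exact (hT c).mpr ⟨Cfsg.Agent.Lib.Blocks.FirstMain.centralizer_le_normalizer' Q hc,
      stabilizesBlock_of_mem hc f⟩

/-- The block of the stabilizer. -/
theorem exists_block_of_stabilizer (hMp : IsPModular p M) {Q T : Subgroup G} (hQ : IsPGroup p Q)
    {f : Set (IrrCharacter (Subgroup.centralizer (Q : Set G)))} (hf : IsPBlock M f)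
    (hT : ∀ y : G, y ∈ T ↔ y ∈ Subgroup.normalizer (Q : Set G) ∧
      StabilizesBlock (Subgroup.centralizer (Q : Set G)) f y) :
    ∃ F : Set (IrrCharacter T), IsPBlock M F ∧
      ∀ t : T, blockCoeff F t = subgroupBlockCoeff (Subgroup.centralizer (Q : Set G)) f t := by
  obtain ⟨h1, h2, h3, h4, h5⟩ := stabilizer_facts hT
  obtain ⟨F, hF, hFc⟩ := exists_block_orbitU hMp hQ h1 h2 h3 h4 hf
  rw [orbitU_eq_of_stable h4 h5] at hFc
  exact ⟨F, hF, hFc⟩

omit hM in
/-- First part of S4662: the normalizer in `P` lies in a defect group. -/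
theorem exists_defect_le_normalizer (hMp : IsPModular p M) {P Q T : Subgroup G}
    {e : Set (IrrCharacter (Subgroup.centralizer (P : Set G)))}
    {f : Set (IrrCharacter (Subgroup.centralizer (Q : Set G)))} (hPe : IsBrauerPair p M P e)
    (hQP : Q ≤ P) (hle : SubpairLE p M Q f P e)
    (hT : ∀ y : G, y ∈ T ↔ y ∈ Subgroup.normalizer (Q : Set G) ∧
      StabilizesBlock (Subgroup.centralizer (Q : Set G)) f y)
    {F : Set (IrrCharacter T)} (hF : IsPBlock M F)
    (hFc : ∀ t : T, blockCoeff F t = subgroupBlockCoeff (Subgroup.centralizer (Q : Set G)) f t) :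
    ∃ D : Subgroup T, IsDefectGroup p M F D ∧ (P ⊓ Subgroup.normalizer (Q : Set G)).subgroupOf T ≤ D := by
  classical
  haveI : M.IsPrime := hMp.2.1.isPrime
  obtain ⟨h, hn⟩ := exists_normal_subpair_normalizer hMp hPe hQP hle
  obtain ⟨x, hxR, hx⟩ := exists_coeff_of_normal_subpair hn
  have hxK := mem_of_coeff_EE hx
  obtain ⟨h1, h2, h3, h4, h5⟩ := stabilizer_facts hT
  obtain ⟨x₀, S, -, hdef⟩ := exists_isDefectGroup hMp hF
  have hxc : ¬ MemLocalIdeal M (blockCoeff F (⟨x, h2 hxK⟩ : T)) := by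
    rw [hFc]
    rw [coeff_EE] at hx
    exact hx
  have hRp : IsPGroup p ((P ⊓ Subgroup.normalizer (Q : Set G)).subgroupOf T) :=
    (hPe.1.to_le inf_le_left).comap_of_injective _ (Subgroup.subtype_injective _)
  have hRx : (P ⊓ Subgroup.normalizer (Q : Set G)).subgroupOf T ≤
      Subgroup.centralizer ({(⟨x, h2 hxK⟩ : T)} : Set _) := by
    intro d hd
    rw [Subgroup.mem_subgroupOf] at hd
    rw [Subgroup.mem_centralizer_singleton_iff]
    apply Subtype.ext
    exact Subgroup.mem_centralizer_iff.mp hxR _ hd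
  obtain ⟨y, hy⟩ := exists_le_conj_of_coeff hMp hF hdef hxc hRp hRx
  exact ⟨_, Cfsg.Agent.Lib.Blocks.Principal.isDefectGroup_map_conj hdef y, hy⟩

/-- The stabilizer of a conjugate pair is the conjugate of the stabilizer. -/
lemma map_conj_stabilizer {Q T T' : Subgroup G} (y : G)
    {f : Set (IrrCharacter (Subgroup.centralizer (Q : Set G)))}
    (hT : ∀ u : G, u ∈ T ↔ u ∈ Subgroup.normalizer (Q : Set G) ∧
      StabilizesBlock (Subgroup.centralizer (Q : Set G)) f u)
    (hT' : ∀ u : G, u ∈ T' ↔ u ∈ Subgroup.normalizer ((Q.map (MulAut.conj y).toMonoidHom) : Set G) ∧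
      StabilizesBlock (Subgroup.centralizer ((Q.map (MulAut.conj y).toMonoidHom) : Set G))
        (conjBlock Q y f) u) :
    T.map (MulAut.conj y).toMonoidHom = T' := by
  have hcQ := map_conj_centralizer Q y
  have hK : ∀ {t : G}, t ∈ T → y * t * y⁻¹ ∈ T' := by
    intro t ht
    obtain ⟨h1, h2⟩ := (hT t).mp ht
    refine (hT' _).mpr ⟨?_, ?_⟩
    · have h3 := map_conj_le_normalizer (x := y) (Q := Q) (Q' := Q.map (MulAut.conj y).toMonoidHom)
        (P := T) (P' := T.map (MulAut.conj y).toMonoidHom) rfl rfl (fun a ha => ((hT a).mp ha).1)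
      exact h3 ⟨t, ht, rfl⟩
    · rw [conjBlock_eq_conjB]
      exact stabilizesBlock_conj hcQ h2 rfl
  have hy1 : (Q.map (MulAut.conj y).toMonoidHom).map (MulAut.conj y⁻¹).toMonoidHom = Q := by
    rw [← map_conj_mul]
    have : y⁻¹ * y = 1 := inv_mul_cancel y
    rw [this]
    exact map_conj_of_mem_normalizer (Subgroup.one_mem _)
  have hcy1 : (Subgroup.centralizer ((Q.map (MulAut.conj y).toMonoidHom) : Set G)).map (MulAut.conj y⁻¹).toMonoidHom =
      Subgroup.centralizer (Q : Set G) := by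
    rw [map_conj_centralizer, hy1]
  have hcancel : conjB y⁻¹ hcy1 (conjB y hcQ f) = f := by
    have hone : (Subgroup.centralizer (Q : Set G)).map (MulAut.conj (y⁻¹ * y)).toMonoidHom =
        Subgroup.centralizer (Q : Set G) := by
      rw [map_conj_mul, hcQ, hcy1]
    rw [← conjB_mul hcy1 hcQ hone,
      conjB_congr (inv_mul_cancel y) hone (map_conj_of_mem_normalizer (Subgroup.one_mem _))]
    exact conjB_of_mem (Subgroup.one_mem _) _ f
  apply le_antisymm
  · rintro _ ⟨t, ht, rfl⟩
    exact hK ht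
  · intro t' ht'
    obtain ⟨h1, h2⟩ := (hT' t').mp ht'
    rw [conjBlock_eq_conjB] at h2
    refine ⟨y⁻¹ * t' * y, (hT _).mpr ⟨?_, ?_⟩, ?_⟩
    · have h3 := map_conj_le_normalizer (x := y⁻¹) (Q := Q.map (MulAut.conj y).toMonoidHom) (Q' := Q)
        (P := T') (P' := T'.map (MulAut.conj y⁻¹).toMonoidHom) hy1 rfl (fun a ha => ((hT' a).mp ha).1)
      apply h3
      refine ⟨t', ht', ?_⟩
      show y⁻¹ * t' * y⁻¹⁻¹ = _
      group
    · have h3 := stabilizesBlock_conj (y := y⁻¹ * t' * y) hcy1 h2 (by group)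
      rwa [hcancel] at h3
    · show y * (y⁻¹ * t' * y) * y⁻¹ = t'
      group

/-- **Second part of S4662.** -/
theorem exists_conj_isDefectGroup_normalizer (hMp : IsPModular p M) {B : Set (IrrCharacter G)} {P Q : Subgroup G}
    {e : Set (IrrCharacter (Subgroup.centralizer (P : Set G)))}
    {f : Set (IrrCharacter (Subgroup.centralizer (Q : Set G)))}
    (hmax : IsMaximalBrauerPair p M B P e) (hQP : Q ≤ P) (hf : IsPBlock M f)
    (hle : SubpairLE p M Q f P e) {T : Subgroup G}
    (hT : ∀ y : G, y ∈ T ↔ y ∈ Subgroup.normalizer (Q : Set G) ∧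
      StabilizesBlock (Subgroup.centralizer (Q : Set G)) f y) :
    ∃ x : G, SubpairLE p M (Q.map (MulAut.conj x).toMonoidHom) (conjBlock Q x f) P e ∧
      ∀ T' : Subgroup G, (∀ y : G, y ∈ T' ↔ y ∈ Subgroup.normalizer ((Q.map (MulAut.conj x).toMonoidHom) : Set G) ∧
        StabilizesBlock (Subgroup.centralizer ((Q.map (MulAut.conj x).toMonoidHom) : Set G)) (conjBlock Q x f) y) →
      ∃ F' : Set (IrrCharacter T'), IsPBlock M F' ∧
        (∀ t : T', blockCoeff F' t = subgroupBlockCoeff
          (Subgroup.centralizer ((Q.map (MulAut.conj x).toMonoidHom) : Set G)) (conjBlock Q x f) (t : G)) ∧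
        IsDefectGroup p M F' ((P ⊓ Subgroup.normalizer ((Q.map (MulAut.conj x).toMonoidHom) : Set G)).subgroupOf T') := by
  classical
  have hPe := hmax.1.1
  have hQp : IsPGroup p Q := hPe.1.to_le hQP
  have hQf : IsBrauerPair p M Q f := ⟨hQp, hf⟩
  have hBf : IsBrauerPairOf p M B Q f := (isBrauerPairOf_iff_of_subpairLE hMp hQf hle).mp hmax.1
  obtain ⟨h1, h2, h3, h4, h5⟩ := stabilizer_facts hT
  obtain ⟨F, hF, hFc⟩ := exists_block_of_stabilizer hMp hQp hf hT
  obtain ⟨x₀, S₀, hx₀, hdef⟩ := exists_isDefectGroup hMp hF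
  set D₀ : Subgroup T :=
    (S₀ : Subgroup (Subgroup.centralizer ({x₀} : Set T))).map
      (Subgroup.centralizer ({x₀} : Set T)).subtype with hD₀
  set D : Subgroup G := D₀.map T.subtype with hD
  have hD₀p : IsPGroup p D₀ := Cfsg.Agent.Lib.Blocks.Defect.isPGroup_sylow_map S₀
  have hDp : IsPGroup p D := hD₀p.map _
  have hDT : D ≤ T := Subgroup.map_subtype_le _
  have hQD : Q ≤ D := by
    have hn : (Q.subgroupOf T).Normal :=
      (Subgroup.normal_subgroupOf_iff_le_normalizer h1).mpr h3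
    have hp := Cfsg.Agent.S0912.result p M hMp F hF D₀ hdef
    have hle3 := (Cfsg.Agent.Lib.Basic.PCore.le_pCore hn (hQp.comap_of_injective _ (Subgroup.subtype_injective _))).trans hp
    intro q hq
    exact ⟨⟨q, h1 hq⟩, hle3 (Subgroup.mem_subgroupOf.mpr hq), rfl⟩
  have hxS : (x₀ : G) ∈ Subgroup.centralizer (D : Set G) := by
    rw [Subgroup.mem_centralizer_iff]
    rintro _ ⟨d, hd, rfl⟩
    have h6 := Cfsg.Agent.Lib.Blocks.Defect.sylow_map_le S₀ hd
    have h7 := Cfsg.Agent.Lib.Blocks.Defect.mem_centralizer_singleton_iff.1 h6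
    exact congrArg Subtype.val h7
  have hcoef : ¬ MemLocalIdeal M ((EE (Subgroup.centralizer (Q : Set G)) f).coeff x₀) := by
    rw [coeff_EE, ← hFc]
    exact hx₀.2.1
  obtain ⟨h, hn⟩ := exists_normal_subpair_of_coeff hMp hDp hQD (hDT.trans h3) hf (fun u hu => h5 u (hDT hu)) hxS hcoef
  have hBh := isBrauerPairOf_up hMp hBf hn
  obtain ⟨y, hy⟩ := exists_conj_subpairLE hMp hmax hBh
  have hn' : IsNormalSubpair p M (Q.map (MulAut.conj y).toMonoidHom) (conjBlock Q y f)
      (D.map (MulAut.conj y).toMonoidHom) (conjBlock D y h) := by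
    rw [conjBlock_eq_conjB, conjBlock_eq_conjB]
    exact isNormalSubpair_conj y rfl rfl _ _ hn
  have hle' : SubpairLE p M (Q.map (MulAut.conj y).toMonoidHom) (conjBlock Q y f) P e :=
    Relation.ReflTransGen.head (show NormalSubpairRel p M ⟨_, conjBlock Q y f⟩ ⟨_, conjBlock D y h⟩ from hn') hy
  have hfy : IsPBlock M (conjBlock Q y f) := by
    rw [conjBlock_eq_conjB]
    exact isPBlock_conjB hf
  have hQyP := SubpairLE.le hle'
  refine ⟨y, hle', fun T' hT' => ?_⟩
  have hTT' := map_conj_stabilizer y hT hT'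
  have hF' : IsPBlock M (blockMap (conjEq y hTT').symm F) := isPBlock_blockMap _ hF
  have hcQ := map_conj_centralizer Q y
  have hFc' : ∀ t : T', blockCoeff (blockMap (conjEq y hTT').symm F) t = subgroupBlockCoeff
      (Subgroup.centralizer ((Q.map (MulAut.conj y).toMonoidHom) : Set G)) (conjBlock Q y f) (t : G) := by
    intro t
    rw [blockCoeff_blockMap, hFc, conjBlock_eq_conjB]
    have h6 := subgroupBlockCoeff_conjB hcQ f (((conjEq y hTT').symm t : T) : G)
    rw [conjEq_symm_spec] at h6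
    exact h6.symm
  refine ⟨_, hF', hFc', ?_⟩
  obtain ⟨D', hD', hW⟩ := exists_defect_le_normalizer hMp hPe hQyP hle' hT' hF' hFc'
  have hdef' := isDefectGroup_blockMap (conjEq y hTT').symm hdef
  have hle2 : D₀.comap (conjEq y hTT').symm.toMonoidHom ≤
      (P ⊓ Subgroup.normalizer ((Q.map (MulAut.conj y).toMonoidHom) : Set G)).subgroupOf T' := by
    intro d hd
    rw [Subgroup.mem_subgroupOf]
    refine ⟨?_, ((hT' d).mp d.2).1⟩
    have h6 := SubpairLE.le hy
    apply h6
    have h7 : (((conjEq y hTT').symm d : T) : G) ∈ D := ⟨_, hd, rfl⟩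
    refine ⟨_, h7, ?_⟩
    exact conjEq_symm_spec y hTT' d
  have hcard : Nat.card D' = Nat.card (D₀.comap (conjEq y hTT').symm.toMonoidHom) := by
    rw [Cfsg.Agent.S0908.result p M hMp _ hF' _ hD', Cfsg.Agent.S0908.result p M hMp _ hF' _ hdef']
  have heq := Subgroup.eq_of_le_of_card_ge hW (by
    rw [hcard]
    exact Subgroup.card_le_of_le hle2)
  rw [heq]
  exact hD'

end Local

end Cfsg.Agent.Lib.Blocks.Pairs
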