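/-
Nilpotent blocks: truncations, congruences modulo the local ideal and the corner of a primitive
idempotent.
-/
import Mathlib
import Cfsg.Agent.Lib.Blocks.NilpSpec
import Cfsg.Agent.Lib.Blocks.Pairs8

set_option autoImplicit false

namespace Cfsg.Agent.Lib.Blocks.Nilp

open Cfsg Cfsg.Agent.Lib.Blocks.Local Cfsg.Agent.Lib.Blocks.Central Cfsg.Agent.Lib.Blocks.Osima
open Cfsg.Agent.Lib.Blocks.Covering Cfsg.Agent.Lib.Blocks.BlockHom Cfsg.Agent.Lib.Blocks.Pairs
open Cfsg.Agent.Lib.Blocks.Twisted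
open Polynomial

universe u

section Tr

variable {G : Type u} [Group G] [Fintype G] {M : Ideal AlgInt} [hM : M.IsPrime]

/-- Congruence of coefficients modulo the local ideal. -/
def EqI (M : Ideal AlgInt) [M.IsPrime] (a b : MonoidAlgebra ℂ G) : Prop :=
  CoeffIn (localIdeal M) (a - b)

lemma eqI_zero_iff {a : MonoidAlgebra ℂ G} : EqI M a 0 ↔ CoeffIn (localIdeal M) a := by
  rw [EqI, sub_zero]

lemma EqI.refl (a : MonoidAlgebra ℂ G) : EqI M a a := by
  rw [EqI, sub_self]
  exact coeffIn_zero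

lemma EqI.symm {a b : MonoidAlgebra ℂ G} (h : EqI M a b) : EqI M b a := by
  have := CoeffIn.neg h
  rwa [neg_sub] at this

lemma EqI.trans {a b c : MonoidAlgebra ℂ G} (h : EqI M a b) (h' : EqI M b c) : EqI M a c := by
  have := CoeffIn.add h h'
  rwa [sub_add_sub_cancel] at this

lemma EqI.add {a b c d : MonoidAlgebra ℂ G} (h : EqI M a b) (h' : EqI M c d) :
    EqI M (a + c) (b + d) := by
  have := CoeffIn.add h h'
  rwa [sub_add_sub_comm] at this

lemma EqI.sub {a b c d : MonoidAlgebra ℂ G} (h : EqI M a b) (h' : EqI M c d) :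
    EqI M (a - c) (b - d) := by
  have := CoeffIn.sub h h'
  rwa [sub_sub_sub_comm] at this

lemma EqI.neg {a b : MonoidAlgebra ℂ G} (h : EqI M a b) : EqI M (-a) (-b) := by
  have := CoeffIn.neg h
  rw [EqI]
  convert this using 1
  abel

lemma EqI.sum {ι : Type*} (s : Finset ι) {f g : ι → MonoidAlgebra ℂ G} (h : ∀ i ∈ s, EqI M (f i) (g i)) :
    EqI M (∑ i ∈ s, f i) (∑ i ∈ s, g i) := by
  classical
  induction s using Finset.induction_on with
  | empty => simpa using EqI.refl 0
  | insert i s hi ih =>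
    rw [Finset.sum_insert hi, Finset.sum_insert hi]
    exact (h i (Finset.mem_insert_self _ _)).add (ih fun j hj => h j (Finset.mem_insert_of_mem hj))

lemma EqI.mul_left {a b : MonoidAlgebra ℂ G} (h : EqI M a b) {c : MonoidAlgebra ℂ G} (hc : LocCoeff M c) :
    EqI M (c * a) (c * b) := by
  have := CoeffIn.mul_left (coeffIn_top_iff.mpr hc) h
  rwa [mul_sub] at this

lemma EqI.mul_right {a b : MonoidAlgebra ℂ G} (h : EqI M a b) {c : MonoidAlgebra ℂ G} (hc : LocCoeff M c) :
    EqI M (a * c) (b * c) := by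
  have := CoeffIn.mul_right h (coeffIn_top_iff.mpr hc)
  rwa [sub_mul] at this

lemma EqI.mul {a b c d : MonoidAlgebra ℂ G} (h : EqI M a b) (h' : EqI M c d) (ha : LocCoeff M b)
    (hc : LocCoeff M c) : EqI M (a * c) (b * d) :=
  (h.mul_right hc).trans (h'.mul_left ha)

lemma EqI.pow {a b : MonoidAlgebra ℂ G} (h : EqI M a b) (ha : LocCoeff M a) (hb : LocCoeff M b) (k : ℕ) :
    EqI M (a ^ k) (b ^ k) := by
  induction k with
  | zero => simpa using EqI.refl 1
  | succ k ih =>
    rw [pow_succ, pow_succ]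
    exact ih.mul h (hb.pow k) ha

lemma coeffIn_of_eqI {a b : MonoidAlgebra ℂ G} (h : EqI M a b) (hb : CoeffIn (localIdeal M) b) :
    CoeffIn (localIdeal M) a := by
  have := CoeffIn.add h hb
  rwa [sub_add_cancel] at this

lemma locCoeff_of_coeffIn {a : MonoidAlgebra ℂ G} (h : CoeffIn (localIdeal M) a) : LocCoeff M a :=
  fun g => memLocalRing_of_memLocalIdeal (coeffIn_localIdeal_iff.mp h g)

lemma coeffIn_mul_loc {a b : MonoidAlgebra ℂ G} (h : CoeffIn (localIdeal M) a) (hb : LocCoeff M b) :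
    CoeffIn (localIdeal M) (a * b) := h.mul_right (coeffIn_top_iff.mpr hb)

lemma coeffIn_loc_mul {a b : MonoidAlgebra ℂ G} (ha : LocCoeff M a) (h : CoeffIn (localIdeal M) b) :
    CoeffIn (localIdeal M) (a * b) := CoeffIn.mul_left (coeffIn_top_iff.mpr ha) h

/-- An idempotent modulo the ideal, nilpotent modulo the ideal, is zero modulo the ideal. -/
lemma coeffIn_of_idem_of_pow {t : MonoidAlgebra ℂ G} (ht : LocCoeff M t) (h2 : EqI M (t * t) t) {k : ℕ}
    (hk : CoeffIn (localIdeal M) (t ^ k)) : CoeffIn (localIdeal M) t := by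
  have h : ∀ j, EqI M (t ^ (j + 1)) t := by
    intro j
    induction j with
    | zero => simpa using EqI.refl t
    | succ j ih =>
      rw [pow_succ]
      exact (ih.mul_right ht).trans h2
  have h3 : CoeffIn (localIdeal M) (t ^ (k + 1)) := by
    rw [pow_succ]
    exact coeffIn_mul_loc hk ht
  exact coeffIn_of_eqI (h k).symm h3

/-- Scalars from the local ring. -/
lemma coeffIn_ι_mul {r : localRing M} (hr : r ∈ localIdeal M) {u : MonoidAlgebra ℂ G} (hu : LocCoeff M u) :
    CoeffIn (localIdeal M) (algebraMap (localRing M) (MonoidAlgebra ℂ G) r * u) := by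
  intro g
  have : (algebraMap (localRing M) (MonoidAlgebra ℂ G) r * u).coeff g = (r : ℂ) * u.coeff g := by
    rw [algebraMap_local_eq, ← Algebra.smul_def, MonoidAlgebra.coeff_smul_apply, smul_eq_mul]
  refine ⟨r * ⟨u.coeff g, hu g⟩, (localIdeal M).mul_mem_right _ hr, ?_⟩
  rw [this]
  rfl

lemma coeffIn_ι_mul_of {r : localRing M} {u : MonoidAlgebra ℂ G}
    (hu : CoeffIn (localIdeal M) u) :
    CoeffIn (localIdeal M) (algebraMap (localRing M) (MonoidAlgebra ℂ G) r * u) :=
  coeffIn_loc_mul (locCoeff_algebraMap r) hu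

/-- Cancel a unit scalar. -/
lemma coeffIn_of_ι_mul {r : localRing M} (hr : r ∉ localIdeal M) {u : MonoidAlgebra ℂ G}
    (h : CoeffIn (localIdeal M) (algebraMap (localRing M) (MonoidAlgebra ℂ G) r * u)) :
    CoeffIn (localIdeal M) u := by
  have hunit : IsUnit r := (isUnit_iff_not_mem r).mpr hr
  obtain ⟨v, rfl⟩ := hunit
  have h1 := coeffIn_ι_mul_of (r := ((v⁻¹ : (localRing M)ˣ) : localRing M)) h
  rw [← mul_assoc, ← map_mul, Units.inv_mul, map_one, one_mul] at h1
  exact h1

/-- The truncation to a subgroup. -/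
noncomputable def tr (K : Subgroup G) (a : MonoidAlgebra ℂ G) : MonoidAlgebra ℂ G := by
  classical
  exact ofFun (fun g => if g ∈ K then a.coeff g else 0)

lemma coeff_tr_of_mem {K : Subgroup G} (a : MonoidAlgebra ℂ G) {g : G} (hg : g ∈ K) :
    (tr K a).coeff g = a.coeff g := by
  classical
  simp [tr, hg]

lemma coeff_tr_of_notMem {K : Subgroup G} (a : MonoidAlgebra ℂ G) {g : G} (hg : g ∉ K) :
    (tr K a).coeff g = 0 := by
  classical
  simp [tr, hg]

lemma tr_eq_push (K : Subgroup G) [Fintype K] (a : MonoidAlgebra ℂ G) : tr K a = push K (res K a) := by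
  apply ext_coeff
  intro g
  by_cases hg : g ∈ K
  · rw [coeff_tr_of_mem a hg, coeff_push_res_of_mem a hg]
  · rw [coeff_tr_of_notMem a hg, coeff_push_of_notMem K _ hg]

lemma tr_add (K : Subgroup G) (a b : MonoidAlgebra ℂ G) : tr K (a + b) = tr K a + tr K b := by
  apply ext_coeff
  intro g
  rw [MonoidAlgebra.coeff_add, Finsupp.add_apply]
  by_cases hg : g ∈ K
  · simp only [coeff_tr_of_mem _ hg, MonoidAlgebra.coeff_add, Finsupp.add_apply]
  · simp only [coeff_tr_of_notMem _ hg, add_zero]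

lemma tr_sub (K : Subgroup G) (a b : MonoidAlgebra ℂ G) : tr K (a - b) = tr K a - tr K b := by
  apply ext_coeff
  intro g
  rw [MonoidAlgebra.coeff_sub, Finsupp.sub_apply]
  by_cases hg : g ∈ K
  · simp only [coeff_tr_of_mem _ hg, MonoidAlgebra.coeff_sub, Finsupp.sub_apply]
  · simp only [coeff_tr_of_notMem _ hg, sub_zero]

lemma tr_zero (K : Subgroup G) : tr K (0 : MonoidAlgebra ℂ G) = 0 := by
  have := tr_sub K (0 : MonoidAlgebra ℂ G) 0
  simpa using this

lemma tr_sum (K : Subgroup G) {ι : Type*} (s : Finset ι) (f : ι → MonoidAlgebra ℂ G) :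
    tr K (∑ i ∈ s, f i) = ∑ i ∈ s, tr K (f i) := by
  classical
  induction s using Finset.induction_on with
  | empty => simpa using tr_zero K
  | insert i s hi ih => rw [Finset.sum_insert hi, Finset.sum_insert hi, tr_add, ih]

lemma tr_ι_mul (K : Subgroup G) (r : localRing M) (a : MonoidAlgebra ℂ G) :
    tr K (algebraMap (localRing M) (MonoidAlgebra ℂ G) r * a) =
      algebraMap (localRing M) (MonoidAlgebra ℂ G) r * tr K a := by
  apply ext_coeff
  intro g
  have h : ∀ u : MonoidAlgebra ℂ G, (algebraMap (localRing M) (MonoidAlgebra ℂ G) r * u).coeff g = (r : ℂ) * u.coeff g := by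
    intro u
    rw [algebraMap_local_eq, ← Algebra.smul_def, MonoidAlgebra.coeff_smul_apply, smul_eq_mul]
  rw [h]
  by_cases hg : g ∈ K
  · rw [coeff_tr_of_mem _ hg, h, coeff_tr_of_mem _ hg]
  · rw [coeff_tr_of_notMem _ hg, coeff_tr_of_notMem _ hg, mul_zero]

lemma locCoeff_tr (K : Subgroup G) {a : MonoidAlgebra ℂ G} (ha : LocCoeff M a) : LocCoeff M (tr K a) := by
  intro g
  by_cases hg : g ∈ K
  · rw [coeff_tr_of_mem _ hg]
    exact ha g
  · rw [coeff_tr_of_notMem _ hg]
    exact memLocalRing_zero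

lemma coeffIn_tr (K : Subgroup G) {a : MonoidAlgebra ℂ G} (ha : CoeffIn (localIdeal M) a) :
    CoeffIn (localIdeal M) (tr K a) := by
  rw [coeffIn_localIdeal_iff] at ha ⊢
  intro g
  by_cases hg : g ∈ K
  · rw [coeff_tr_of_mem _ hg]
    exact ha g
  · rw [coeff_tr_of_notMem _ hg]
    exact memLocalIdeal_zero

lemma EqI.tr (K : Subgroup G) {a b : MonoidAlgebra ℂ G} (h : EqI M a b) : EqI M (tr K a) (tr K b) := by
  have := coeffIn_tr K h
  rwa [tr_sub] at this

lemma tr_tr {K K' : Subgroup G} (h : K ≤ K') (a : MonoidAlgebra ℂ G) : tr K (tr K' a) = tr K a := by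
  apply ext_coeff
  intro g
  by_cases hg : g ∈ K
  · rw [coeff_tr_of_mem _ hg, coeff_tr_of_mem _ hg, coeff_tr_of_mem _ (h hg)]
  · rw [coeff_tr_of_notMem _ hg, coeff_tr_of_notMem _ hg]

/-- Elements supported on a subgroup. -/
def SuppOn (K : Subgroup G) (a : MonoidAlgebra ℂ G) : Prop := ∀ g, g ∉ K → a.coeff g = 0

lemma suppOn_tr (K : Subgroup G) (a : MonoidAlgebra ℂ G) : SuppOn K (tr K a) := fun _ hg =>
  coeff_tr_of_notMem a hg

lemma tr_of_suppOn {K : Subgroup G} {a : MonoidAlgebra ℂ G} (h : SuppOn K a) : tr K a = a := by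
  apply ext_coeff
  intro g
  by_cases hg : g ∈ K
  · rw [coeff_tr_of_mem _ hg]
  · rw [coeff_tr_of_notMem _ hg, h g hg]

lemma suppOn_EE (K : Subgroup G) (f : Set (IrrCharacter K)) : SuppOn K (EE K f) := fun g hg => by
  rw [coeff_EE, subgroupBlockCoeff_of_notMem f hg]

lemma SuppOn.mul {K : Subgroup G} {a b : MonoidAlgebra ℂ G} (ha : SuppOn K a) (hb : SuppOn K b) :
    SuppOn K (a * b) := by
  intro g hg
  rw [coeff_mul_eq_sum]
  refine Finset.sum_eq_zero fun x _ => ?_
  by_cases hx : x ∈ K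
  · rw [hb _ (fun h => hg (by simpa using K.mul_mem hx h)), mul_zero]
  · rw [ha x hx, zero_mul]

lemma SuppOn.sub {K : Subgroup G} {a b : MonoidAlgebra ℂ G} (ha : SuppOn K a) (hb : SuppOn K b) :
    SuppOn K (a - b) := by
  intro g hg
  rw [MonoidAlgebra.coeff_sub, Finsupp.sub_apply, ha g hg, hb g hg, sub_zero]

lemma suppOn_one (K : Subgroup G) : SuppOn K (1 : MonoidAlgebra ℂ G) := by
  classical
  intro g hg
  rw [coeff_one_apply, if_neg]
  rintro rfl
  exact hg K.one_mem

lemma SuppOn.pow {K : Subgroup G} {a : MonoidAlgebra ℂ G} (ha : SuppOn K a) (k : ℕ) :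
    SuppOn K (a ^ k) := by
  induction k with
  | zero => rw [pow_zero]; exact suppOn_one K
  | succ k ih => rw [pow_succ]; exact ih.mul ha

/-- An element supported on `K` commutes with an element invariant under `K`. -/
lemma commute_of_suppOn {K : Subgroup G} {a E : MonoidAlgebra ℂ G} (ha : SuppOn K a) (hE : InvBy K E) :
    Commute a E := by
  show a * E = E * a
  apply ext_coeff
  intro g
  rw [coeff_mul_eq_sum, coeff_mul_eq_sum']
  refine Finset.sum_congr rfl fun x _ => ?_
  by_cases hx : x ∈ K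
  · have h1 := hE (x⁻¹ * g) x hx
    have h2 : x * (x⁻¹ * g) * x⁻¹ = g * x⁻¹ := by group
    rw [h2] at h1
    rw [h1, mul_comm]
  · rw [ha x hx, zero_mul, mul_zero]

/-- An element supported on the centralizer of `Q` is `Q`-invariant. -/
lemma invBy_of_suppOn {Q : Subgroup G} {a : MonoidAlgebra ℂ G}
    (ha : SuppOn (Subgroup.centralizer (Q : Set G)) a) : InvBy Q a := by
  intro x u hu
  by_cases hx : x ∈ Subgroup.centralizer (Q : Set G)
  · have h := Subgroup.mem_centralizer_iff.mp hx u hu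
    have : u * x * u⁻¹ = x := by rw [h]; group
    rw [this]
  · rw [ha x hx, ha]
    intro h
    apply hx
    rw [Subgroup.mem_centralizer_iff] at h ⊢
    intro v hv
    have h1 := h v hv
    -- `v` commutes with `u x u⁻¹`; replace `v` by a conjugate
    have h2 := h (u⁻¹ * v * u) (by simpa using Q.mul_mem (Q.mul_mem (Q.inv_mem hu) hv) hu)
    have h3 : (u⁻¹ * v * u) * (u * x * u⁻¹) = u⁻¹ * v * u * u * x * u⁻¹ := by group
    have hcomm : ∀ w ∈ Q, w * (u * x * u⁻¹) = (u * x * u⁻¹) * w := h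
    have h4 := hcomm (u * v * u⁻¹) (by simpa using Q.mul_mem (Q.mul_mem hu hv) (Q.inv_mem hu))
    apply mul_left_cancel (a := u)
    apply mul_right_cancel (b := u⁻¹)
    calc u * (v * x) * u⁻¹ = (u * v * u⁻¹) * (u * x * u⁻¹) := by group
      _ = (u * x * u⁻¹) * (u * v * u⁻¹) := h4
      _ = u * (x * v) * u⁻¹ := by group

lemma invBy_tr {K T : Subgroup G} (hT : T ≤ Subgroup.normalizer (K : Set G)) {a : MonoidAlgebra ℂ G}
    (ha : InvBy T a) : InvBy T (tr K a) := by
  classical
  letI : Fintype K := Fintype.ofFinite K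
  rw [tr_eq_push]
  exact invBy_push_res hT ha

variable {p : ℕ} [Fact p.Prime]

/-- The truncation to the centralizer of a `p`-subgroup is multiplicative modulo the ideal. -/
theorem tr_mul_eqI (hMp : IsPModular p M) {Q : Subgroup G} (hQ : IsPGroup p Q)
    {a b : MonoidAlgebra ℂ G} (ha : LocCoeff M a) (hai : InvBy Q a) (hb : LocCoeff M b) (hbi : InvBy Q b) :
    EqI M (tr (Subgroup.centralizer (Q : Set G)) (a * b))
      (tr (Subgroup.centralizer (Q : Set G)) a * tr (Subgroup.centralizer (Q : Set G)) b) := by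
  classical
  letI : Fintype (Subgroup.centralizer (Q : Set G)) := Fintype.ofFinite _
  rw [EqI, coeffIn_localIdeal_iff]
  intro g
  simp only [tr_eq_push]
  rw [← push_mul]
  by_cases hg : g ∈ Subgroup.centralizer (Q : Set G)
  · have h1 := res_mul_sub_coeff hMp hQ ha hai hb hbi ⟨g, hg⟩
    rw [MonoidAlgebra.coeff_sub, Finsupp.sub_apply] at h1 ⊢
    have e1 := coeff_push_coe _ (res (Subgroup.centralizer (Q : Set G)) (a * b)) ⟨g, hg⟩
    have e2 := coeff_push_coe _ (res (Subgroup.centralizer (Q : Set G)) a * res (Subgroup.centralizer (Q : Set G)) b) ⟨g, hg⟩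
    simp only at e1 e2
    rw [e1, e2]
    exact h1
  · rw [MonoidAlgebra.coeff_sub, Finsupp.sub_apply, coeff_push_of_notMem _ _ hg, coeff_push_of_notMem _ _ hg,
      sub_zero]
    exact memLocalIdeal_zero

theorem tr_pow_eqI (hMp : IsPModular p M) {Q : Subgroup G} (hQ : IsPGroup p Q)
    {a : MonoidAlgebra ℂ G} (ha : LocCoeff M a) (hai : InvBy Q a) (k : ℕ) :
    EqI M (tr (Subgroup.centralizer (Q : Set G)) (a ^ k)) (tr (Subgroup.centralizer (Q : Set G)) a ^ k) := by
  induction k with
  | zero =>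
    simp only [pow_zero]
    have : tr (Subgroup.centralizer (Q : Set G)) (1 : MonoidAlgebra ℂ G) = 1 :=
      tr_of_suppOn (suppOn_one _)
    rw [this]
    exact EqI.refl _
  | succ k ih =>
    rw [pow_succ, pow_succ]
    exact (tr_mul_eqI hMp hQ (ha.pow k) (hai.pow k) ha hai).trans
      (ih.mul_right (locCoeff_tr _ ha))

/-- **Local control.**  A primitive idempotent `y` of the `P`-invariant lattice, not killed by the
truncation at `P`: for `c` in the lattice with truncation zero modulo the ideal, `y c y` is nilpotent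
modulo the ideal. -/
theorem nil_of_tr_eq_zero (hMp : IsPModular p M) {P : Subgroup G} (hP : IsPGroup p P)
    {y : MonoidAlgebra ℂ G} (hy : IsPrimIdem M P y)
    (hne : ¬ CoeffIn (localIdeal M) (tr (Subgroup.centralizer (P : Set G)) y))
    {c : MonoidAlgebra ℂ G} (hc : LocCoeff M c) (hci : InvBy P c)
    (h0 : CoeffIn (localIdeal M) (tr (Subgroup.centralizer (P : Set G)) c)) :
    ∃ k : ℕ, CoeffIn (localIdeal M) ((y * c * y) ^ k) := by
  classical
  obtain ⟨l, hspec⟩ := hy.exists_specI hc hci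
  set C := Subgroup.centralizer (P : Set G) with hC
  set ι := algebraMap (localRing M) (MonoidAlgebra ℂ G) with hι
  set a := y * c * y with ha
  have hal : LocCoeff M a := (hy.loc.mul hc).mul hy.loc
  have hai : InvBy P a := (hy.inv.mul hci).mul hy.inv
  set n := a - ι l * y with hn
  have hnl : LocCoeff M n := hal.sub ((locCoeff_algebraMap l).mul hy.loc)
  have hni : InvBy P n := hai.sub ((invBy_algebraMap P l).mul hy.inv)
  obtain ⟨k, hk⟩ := hspec.exists_pow hnl
  by_cases hl : l ∈ localIdeal M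
  · refine ⟨k, ?_⟩
    have h1 : EqI M a n := by
      rw [EqI, hn, sub_sub_cancel]
      exact coeffIn_ι_mul hl hy.loc
    exact coeffIn_of_eqI (h1.pow hal hnl k) hk
  · exfalso
    apply hne
    set τ := tr C y with hτ
    have hτl : LocCoeff M τ := locCoeff_tr _ hy.loc
    have hττ : EqI M (τ * τ) τ := by
      have := tr_mul_eqI hMp hP hy.loc hy.inv hy.loc hy.inv
      rw [hy.idem] at this
      exact this.symm
    -- the truncation of `a` vanishes
    have h1 : CoeffIn (localIdeal M) (tr C a) := by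
      have e1 := tr_mul_eqI hMp hP (hy.loc.mul hc) (hy.inv.mul hci) hy.loc hy.inv
      have e2 := tr_mul_eqI hMp hP hy.loc hy.inv hc hci
      have e3 := e1.trans (e2.mul_right hτl)
      refine coeffIn_of_eqI e3 ?_
      exact coeffIn_mul_loc (coeffIn_loc_mul hτl h0) hτl
    have h2 : EqI M (tr C n) (ι (-l) * τ) := by
      rw [hn, tr_sub, tr_ι_mul, EqI, map_neg, neg_mul, sub_neg_eq_add, sub_add_cancel]
      exact h1
    have h3 : CoeffIn (localIdeal M) (tr C n ^ k) := coeffIn_of_eqI (tr_pow_eqI hMp hP hnl hni k).symm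
      (coeffIn_tr C hk)
    have h4 : CoeffIn (localIdeal M) ((ι (-l) * τ) ^ k) :=
      coeffIn_of_eqI (h2.pow (locCoeff_tr _ hnl) ((locCoeff_algebraMap _).mul hτl) k).symm h3
    have h5 : (ι (-l) * τ) ^ k = ι ((-l) ^ k) * τ ^ k := by
      rw [(show Commute (ι (-l)) τ from Algebra.commutes _ _).mul_pow, map_pow]
    rw [h5] at h4
    have hlk : (-l) ^ k ∉ localIdeal M := by
      intro h
      have := (Ideal.IsPrime.mem_of_pow_mem (inferInstance) k h)
      exact hl (by simpa using (localIdeal M).neg_mem this)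
    exact coeffIn_of_idem_of_pow hτl hττ (coeffIn_of_ι_mul hlk h4)

/-- The truncation of a block idempotent of the centralizer is in the lattice. -/
lemma invBy_EE_centralizer (P : Subgroup G) (f : Set (IrrCharacter (Subgroup.centralizer (P : Set G)))) :
    InvBy P (EE (Subgroup.centralizer (P : Set G)) f) :=
  invBy_of_suppOn (suppOn_EE _ f)

/-- A primitive idempotent lives in a single block of the centralizer. -/
theorem exists_block_of_primIdem (hMp : IsPModular p M) {P : Subgroup G} (hP : IsPGroup p P)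
    {y : MonoidAlgebra ℂ G} (hy : IsPrimIdem M P y)
    (hne : ¬ CoeffIn (localIdeal M) (tr (Subgroup.centralizer (P : Set G)) y)) :
    ∃ e : Set (IrrCharacter (Subgroup.centralizer (P : Set G))), IsPBlock M e ∧
      ¬ CoeffIn (localIdeal M) (tr (Subgroup.centralizer (P : Set G)) y * EE (Subgroup.centralizer (P : Set G)) e) ∧
      CoeffIn (localIdeal M) (tr (Subgroup.centralizer (P : Set G)) y * (1 - EE (Subgroup.centralizer (P : Set G)) e)) := by
  classical
  set C := Subgroup.centralizer (P : Set G) with hC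
  set τ := tr C y with hτ
  have hτl : LocCoeff M τ := locCoeff_tr _ hy.loc
  have hττ : EqI M (τ * τ) τ := by
    have := tr_mul_eqI hMp hP hy.loc hy.inv hy.loc hy.inv
    rw [hy.idem] at this
    exact this.symm
  -- a block which survives
  obtain ⟨⟨e, he⟩, hee⟩ : ∃ f : Blk M C, ¬ CoeffIn (localIdeal M) (τ * EE C f.1) := by
    by_contra hcon
    push Not at hcon
    apply hne
    have h1 : τ = ∑ f : Blk M C, τ * EE C f.1 := by
      rw [← Finset.mul_sum, sum_EE_eq_one, mul_one]
    rw [h1, coeffIn_localIdeal_iff]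
    intro g
    rw [MonoidAlgebra.coeff_sum, Finsupp.finsetSum_apply]
    exact memLocalIdeal_sum _ _ fun f _ => coeffIn_localIdeal_iff.mp (hcon f) g
  refine ⟨e, he, hee, ?_⟩
  set E := EE C e with hE
  have hEl : LocCoeff M E := locCoeff_EE he
  have hEi : InvBy P E := invBy_EE_centralizer P e
  have hEE : E * E = E := EE_mul_self C e
  have hEC : InvBy C E := invBy_EE_self C e
  have hτE : Commute τ E := commute_of_suppOn (suppOn_tr C y) hEC
  obtain ⟨l, hspec⟩ := hy.exists_specI hEl hEi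
  set ι := algebraMap (localRing M) (MonoidAlgebra ℂ G) with hι
  set a := y * E * y with ha
  have hal : LocCoeff M a := (hy.loc.mul hEl).mul hy.loc
  have hai : InvBy P a := (hy.inv.mul hEi).mul hy.inv
  set n := a - ι l * y with hn
  have hnl : LocCoeff M n := hal.sub ((locCoeff_algebraMap l).mul hy.loc)
  have hni : InvBy P n := hai.sub ((invBy_algebraMap P l).mul hy.inv)
  obtain ⟨k, hk⟩ := hspec.exists_pow hnl
  set t := τ * E with ht
  have htl : LocCoeff M t := hτl.mul hEl
  have htt : EqI M (t * t) t := by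
    have : t * t = τ * τ * E := by
      rw [ht, mul_assoc, ← mul_assoc E, ← hτE.eq, mul_assoc, hEE, mul_assoc]
    rw [this]
    exact hττ.mul_right hEl
  -- the truncation of `a`
  have htra : EqI M (tr C a) t := by
    have e1 := tr_mul_eqI hMp hP (hy.loc.mul hEl) (hy.inv.mul hEi) hy.loc hy.inv
    have e2 := tr_mul_eqI hMp hP hy.loc hy.inv hEl hEi
    have e3 := e1.trans (e2.mul_right hτl)
    have e4 : tr C E = E := tr_of_suppOn (suppOn_EE C e)
    rw [e4] at e3
    have e5 : τ * E * τ = τ * τ * E := by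
      rw [mul_assoc, ← hτE.eq, ← mul_assoc]
    rw [e5] at e3
    exact e3.trans (hττ.mul_right hEl)
  have hpow : CoeffIn (localIdeal M) (tr C n ^ k) :=
    coeffIn_of_eqI (tr_pow_eqI hMp hP hnl hni k).symm (coeffIn_tr C hk)
  have htrn : EqI M (tr C n) (t - ι l * τ) := by
    rw [hn, tr_sub, tr_ι_mul]
    exact htra.sub (EqI.refl _)
  have hpow2 : CoeffIn (localIdeal M) ((t - ι l * τ) ^ k) :=
    coeffIn_of_eqI (htrn.pow (locCoeff_tr _ hnl) (htl.sub ((locCoeff_algebraMap l).mul hτl)) k).symm hpow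
  -- the scalar is `1` modulo the ideal
  have hl1 : 1 - l ∈ localIdeal M := by
    by_contra hl1
    apply hee
    have hcE : Commute (t - ι l * τ) E := by
      have h1 : Commute t E := hτE.mul_left (Commute.refl E)
      have h2 : Commute (ι l * τ) E := (show Commute (ι l) E from Algebra.commutes l E).mul_left hτE
      exact h1.sub_left h2
    have h3 : (t - ι l * τ) * E = ι (1 - l) * t := by
      rw [sub_mul, ht, mul_assoc τ E E, hEE, mul_assoc (ι l), map_sub, map_one, sub_mul, one_mul]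
    have h4 : ∀ j : ℕ, ((t - ι l * τ) * E) ^ (j + 1) = (t - ι l * τ) ^ (j + 1) * E := by
      intro j
      rw [hcE.mul_pow]
      congr 1
      exact IsIdempotentElem.pow_succ_eq j hEE
    have h5 : CoeffIn (localIdeal M) ((ι (1 - l) * t) ^ (k + 1)) := by
      rw [← h3, h4, pow_succ, mul_assoc]
      exact coeffIn_mul_loc hpow2 ((htl.sub ((locCoeff_algebraMap l).mul hτl)).mul hEl)
    have h6 : (ι (1 - l) * t) ^ (k + 1) = ι ((1 - l) ^ (k + 1)) * t ^ (k + 1) := by
      rw [(show Commute (ι (1 - l)) t from Algebra.commutes _ _).mul_pow, map_pow]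
    rw [h6] at h5
    have hlk : (1 - l) ^ (k + 1) ∉ localIdeal M := fun h =>
      hl1 (Ideal.IsPrime.mem_of_pow_mem (inferInstance) _ h)
    exact coeffIn_of_idem_of_pow htl htt (coeffIn_of_ι_mul hlk h5)
  -- the complement
  set t' := τ * (1 - E) with ht'
  have hE'l : LocCoeff M (1 - E) := locCoeff_one.sub hEl
  have ht'l : LocCoeff M t' := hτl.mul hE'l
  have hcomm' : Commute τ (1 - E) := (Commute.one_right τ).sub_right hτE
  have hE'E' : (1 - E) * (1 - E) = 1 - E := by
    rw [mul_sub, sub_mul, sub_mul, one_mul, mul_one, one_mul, hEE]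
    abel
  have ht't' : EqI M (t' * t') t' := by
    have : t' * t' = τ * τ * (1 - E) := by
      rw [ht', mul_assoc, ← mul_assoc (1 - E), ← hcomm'.eq, mul_assoc, hE'E', mul_assoc]
    rw [this]
    exact hττ.mul_right hE'l
  -- `y - a` is nilpotent
  have hb : EqI M (y - a) (-n) := by
    rw [EqI, hn]
    have h1 : y - a - -(a - ι l * y) = ι (1 - l) * y := by
      rw [map_sub, map_one, sub_mul, one_mul]
      abel
    rw [h1]
    exact coeffIn_ι_mul hl1 hy.loc
  have hbl : LocCoeff M (y - a) := hy.loc.sub hal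
  have hbi : InvBy P (y - a) := hy.inv.sub hai
  have h00 : LocCoeff M (0 : MonoidAlgebra ℂ G) := locCoeff_zero
  have hnegl : LocCoeff M (-n) := by simpa using h00.sub hnl
  have hm1 : LocCoeff M (-1 : MonoidAlgebra ℂ G) := by simpa using h00.sub locCoeff_one
  have hnegk : CoeffIn (localIdeal M) ((-n) ^ k) := by
    rw [neg_pow]
    exact coeffIn_loc_mul (hm1.pow k) hk
  have hbk : CoeffIn (localIdeal M) ((y - a) ^ k) :=
    coeffIn_of_eqI (hb.pow hbl hnegl k) hnegk
  have htrb : EqI M (tr C (y - a)) t' := by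
    rw [tr_sub, ht', mul_sub, mul_one]
    exact (EqI.refl τ).sub htra
  have hpow3 : CoeffIn (localIdeal M) (t' ^ k) := by
    have h1 := coeffIn_of_eqI (tr_pow_eqI hMp hP hbl hbi k).symm (coeffIn_tr C hbk)
    exact coeffIn_of_eqI (htrb.pow (locCoeff_tr _ hbl) ht'l k).symm h1
  exact coeffIn_of_idem_of_pow ht'l ht't' hpow3

end Tr

end Cfsg.Agent.Lib.Blocks.Nilp
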