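/-
Nilpotent blocks: coherence of the Brauer images of a primitive idempotent of the lattice fixed by
a defect group.
-/
import Mathlib
import Cfsg.Agent.Lib.Blocks.NilpTr
import Cfsg.Agent.Lib.Blocks.Pairs4

set_option autoImplicit false

namespace Cfsg.Agent.Lib.Blocks.Nilp

open Cfsg Cfsg.Agent.Lib.Blocks.Local Cfsg.Agent.Lib.Blocks.Central Cfsg.Agent.Lib.Blocks.Osima
open Cfsg.Agent.Lib.Blocks.Covering Cfsg.Agent.Lib.Blocks.BlockHom Cfsg.Agent.Lib.Blocks.Pairs
open Cfsg.Agent.Lib.Blocks.Twisted
open Polynomial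

universe u

section Cj

variable {G : Type u} [Group G] [Fintype G] {M : Ideal AlgInt} [hM : M.IsPrime]

/-- Conjugation on the group algebra. -/
noncomputable def cj (s : G) (a : MonoidAlgebra ℂ G) : MonoidAlgebra ℂ G :=
  ofFun (fun c => a.coeff (s⁻¹ * c * s))

@[simp] lemma coeff_cj (s : G) (a : MonoidAlgebra ℂ G) (c : G) : (cj s a).coeff c = a.coeff (s⁻¹ * c * s) :=
  coeff_ofFun _ _

lemma cj_mul (s : G) (a b : MonoidAlgebra ℂ G) : cj s (a * b) = cj s a * cj s b := by
  apply ext_coeff
  intro g
  rw [coeff_cj, coeff_mul_eq_sum, coeff_mul_eq_sum]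
  refine Fintype.sum_equiv (MulAut.conj s).toEquiv _ _ fun x => ?_
  simp only [MulEquiv.toEquiv_eq_coe, MulEquiv.coe_toEquiv, MulAut.conj_apply, coeff_cj]
  congr 2 <;> group

lemma cj_add (s : G) (a b : MonoidAlgebra ℂ G) : cj s (a + b) = cj s a + cj s b := by
  apply ext_coeff
  intro g
  simp [MonoidAlgebra.coeff_add]

lemma locCoeff_cj (s : G) {a : MonoidAlgebra ℂ G} (ha : LocCoeff M a) : LocCoeff M (cj s a) := fun c => by
  rw [coeff_cj]
  exact ha _

lemma cj_eq_of_invBy {H : Subgroup G} {a : MonoidAlgebra ℂ G} (ha : InvBy H a) {s : G} (hs : s ∈ H) :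
    cj s a = a := by
  apply ext_coeff
  intro c
  rw [coeff_cj]
  have := ha c s⁻¹ (H.inv_mem hs)
  simpa using this

lemma suppOn_cj {K : Subgroup G} {a : MonoidAlgebra ℂ G} (ha : SuppOn K a) {s : G}
    (hs : s ∈ Subgroup.normalizer (K : Set G)) : SuppOn K (cj s a) := by
  intro c hc
  rw [coeff_cj]
  apply ha
  intro h
  apply hc
  have h1 := (Subgroup.mem_normalizer_iff.mp hs (s⁻¹ * c * s)).mp h
  have h2 : s * (s⁻¹ * c * s) * s⁻¹ = c := by group
  rwa [h2] at h1

/-- Coset representatives. -/
abbrev PQ (P Q : Subgroup G) : Type u := ↥P ⧸ Q.subgroupOf P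

noncomputable instance instFintypePQ (P Q : Subgroup G) : Fintype (PQ P Q) := Fintype.ofFinite _

/-- The representative in `G`. -/
noncomputable def sg {P Q : Subgroup G} (q : PQ P Q) : G := ((Quotient.out q : ↥P) : G)

lemma sg_mem {P Q : Subgroup G} (q : PQ P Q) : sg q ∈ P := (Quotient.out q : ↥P).2

lemma exists_sg_eq {P Q : Subgroup G} (x : ↥P) :
    ∃ z ∈ Q, sg (QuotientGroup.mk x : PQ P Q) = (x : G) * z := by
  obtain ⟨h, hh⟩ := QuotientGroup.mk_out_eq_mul (Q.subgroupOf P) x
  refine ⟨((h : ↥P) : G), h.2, ?_⟩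
  unfold sg
  rw [hh]
  rfl

lemma mk_sg {P Q : Subgroup G} (q : PQ P Q) :
    (QuotientGroup.mk (⟨sg q, sg_mem q⟩ : ↥P) : PQ P Q) = q :=
  QuotientGroup.out_eq' q

/-- The transfer from `Q` to `P`. -/
noncomputable def tQ (P Q : Subgroup G) (w : MonoidAlgebra ℂ G) : MonoidAlgebra ℂ G :=
  ∑ q : PQ P Q, cj (sg q) w

lemma coeff_tQ (P Q : Subgroup G) (w : MonoidAlgebra ℂ G) (c : G) :
    (tQ P Q w).coeff c = ∑ q : PQ P Q, w.coeff ((sg q)⁻¹ * c * sg q) := by
  rw [tQ, MonoidAlgebra.coeff_sum, Finsupp.finsetSum_apply]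
  simp only [coeff_cj]

lemma locCoeff_tQ (P Q : Subgroup G) {w : MonoidAlgebra ℂ G} (hw : LocCoeff M w) : LocCoeff M (tQ P Q w) := by
  intro c
  rw [coeff_tQ]
  exact memLocalRing_sum _ _ fun q _ => hw _

lemma invBy_tQ {P Q : Subgroup G} {w : MonoidAlgebra ℂ G} (hw : InvBy Q w) : InvBy P (tQ P Q w) := by
  intro c u hu
  rw [coeff_tQ, coeff_tQ]
  let U : ↥P := ⟨u, hu⟩
  refine Fintype.sum_equiv (MulAction.toPerm (U⁻¹)) _ _ fun q => ?_
  have h1 : (MulAction.toPerm (U⁻¹) q : PQ P Q) =
      QuotientGroup.mk (U⁻¹ * ⟨sg q, sg_mem q⟩ : ↥P) := by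
    conv_lhs => rw [← mk_sg q]
    rfl
  obtain ⟨z, hz, hzE⟩ := exists_sg_eq (P := P) (Q := Q) (U⁻¹ * ⟨sg q, sg_mem q⟩ : ↥P)
  rw [h1, hzE]
  have h2 := hw ((sg q)⁻¹ * (u * c * u⁻¹) * sg q) z⁻¹ (Q.inv_mem hz)
  rw [← h2]
  congr 1
  simp only [Subgroup.coe_mul, InvMemClass.coe_inv, U]
  group

/-- The transfer from a proper subgroup vanishes on the centralizer of `P`, modulo `p`. -/
lemma memLocalIdeal_tQ_of_centralizes {p : ℕ} [Fact p.Prime] (hMp : IsPModular p M) {P Q : Subgroup G}
    (hP : IsPGroup p P) (hQP : Q ≤ P) (hne : Q ≠ P) {w : MonoidAlgebra ℂ G} (hw : LocCoeff M w) {c : G}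
    (hc : c ∈ Subgroup.centralizer (P : Set G)) : MemLocalIdeal M ((tQ P Q w).coeff c) := by
  classical
  rw [coeff_tQ]
  have h1 : ∀ q : PQ P Q, (sg q)⁻¹ * c * sg q = c := by
    intro q
    have := Subgroup.mem_centralizer_iff.mp hc (sg q) (sg_mem q)
    rw [mul_assoc, ← this]
    group
  simp only [h1, Finset.sum_const, Finset.card_univ, nsmul_eq_mul]
  have hp : p ∣ Fintype.card (PQ P Q) := by
    rw [← Nat.card_eq_fintype_card]
    have h2 : Nat.card (PQ P Q) = (Q.subgroupOf P).index := rfl
    rw [h2]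
    obtain ⟨n, hn⟩ := IsPGroup.iff_card.mp hP
    have h3 : (Q.subgroupOf P).index ∣ p ^ n := by
      rw [← hn]
      exact Subgroup.index_dvd_card _
    obtain ⟨j, -, hj⟩ := (Nat.dvd_prime_pow (Fact.out : p.Prime)).mp h3
    rw [hj]
    refine dvd_pow_self p ?_
    rintro rfl
    rw [pow_zero, Subgroup.index_eq_one] at hj
    apply hne
    apply le_antisymm hQP
    exact Subgroup.subgroupOf_eq_top.mp hj
  have h5 : MemLocalIdeal M (Fintype.card (PQ P Q) : ℂ) :=
    (memLocalIdeal_natCast_iff hMp).mpr hp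
  have h6 := (localIdeal M).mul_mem_right (⟨_, hw c⟩ : localRing M)
    (show (⟨(Fintype.card (PQ P Q) : ℂ), memLocalRing_of_memLocalIdeal h5⟩ : localRing M) ∈ localIdeal M from h5)
  exact h6

/-- Fixed points for the action of `Q` on cosets: the normalizer. -/
lemma fixed_iff_normalizer {P Q : Subgroup G} (hQP : Q ≤ P) (q : PQ P Q) :
    (∀ u : ↥(Q.subgroupOf P), (u : ↥P) • q = q) ↔ sg q ∈ Subgroup.normalizer (Q : Set G) := by
  have key : ∀ u : ↥P, u • q = q ↔ (sg q)⁻¹ * (u : G)⁻¹ * sg q ∈ Q := by
    intro u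
    have h1 : u • q = (QuotientGroup.mk (u * ⟨sg q, sg_mem q⟩ : ↥P) : PQ P Q) := by
      conv_lhs => rw [← mk_sg q]
      rfl
    rw [h1]
    conv_lhs => rhs; rw [← mk_sg q]
    rw [QuotientGroup.eq, Subgroup.mem_subgroupOf]
    have : (((u * ⟨sg q, sg_mem q⟩ : ↥P)⁻¹ * ⟨sg q, sg_mem q⟩ : ↥P) : G) = (sg q)⁻¹ * (u : G)⁻¹ * sg q := by
      simp
    rw [this]
  constructor
  · intro h
    have h1 : ∀ n ∈ (Q : Set G), (sg q)⁻¹ * n * (sg q)⁻¹⁻¹ ∈ (Q : Set G) := by
      intro n hn
      have hn' : n⁻¹ ∈ Q := Q.inv_mem hn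
      have h2 := h ⟨⟨n⁻¹, hQP hn'⟩, hn'⟩
      rw [key] at h2
      simpa using h2
    have h3 := Subgroup.mem_normalizer_fintype h1
    simpa using (Subgroup.normalizer (Q : Set G)).inv_mem h3
  · intro h u
    rw [key]
    have h1 := (Subgroup.normalizer (Q : Set G)).inv_mem h
    have h2 := (Subgroup.mem_normalizer_iff.mp h1 ((u : G)⁻¹)).mp (Q.inv_mem u.2)
    simpa using h2

/-- The transfer on the centralizer of `Q`, modulo the ideal: only the normalizer contributes. -/
lemma memLocalIdeal_tQ_sub_fixed {p : ℕ} [Fact p.Prime] (hMp : IsPModular p M) {P Q : Subgroup G}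
    (hP : IsPGroup p P) (hQP : Q ≤ P) {w : MonoidAlgebra ℂ G} (hw : LocCoeff M w) (hwi : InvBy Q w) {c : G}
    (hc : c ∈ Subgroup.centralizer (Q : Set G)) [DecidablePred fun q : PQ P Q => sg q ∈ Subgroup.normalizer (Q : Set G)] :
    MemLocalIdeal M ((tQ P Q w).coeff c -
      ∑ q ∈ Finset.univ.filter (fun q : PQ P Q => sg q ∈ Subgroup.normalizer (Q : Set G)),
        w.coeff ((sg q)⁻¹ * c * sg q)) := by
  classical
  haveI hchar : CharP (localRing M ⧸ localIdeal M) p := charP_residue hMp
  let f : PQ P Q → (localRing M ⧸ localIdeal M) := fun q =>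
    residue M ⟨w.coeff ((sg q)⁻¹ * c * sg q), hw _⟩
  have hf : ∀ (u : ↥(Q.subgroupOf P)) (q : PQ P Q), f (u • q) = f q := by
    intro u q
    have h1 : u • q = (QuotientGroup.mk ((u : ↥P) * ⟨sg q, sg_mem q⟩ : ↥P) : PQ P Q) := by
      conv_lhs => rw [← mk_sg q]
      rfl
    obtain ⟨z, hz, hzE⟩ := exists_sg_eq (P := P) (Q := Q) ((u : ↥P) * ⟨sg q, sg_mem q⟩ : ↥P)
    have h2 : (sg (u • q))⁻¹ * c * sg (u • q) = z⁻¹ * ((sg q)⁻¹ * c * sg q) * z⁻¹⁻¹ := by
      rw [h1, hzE]
      have hu : ((u : ↥P) : G) ∈ Q := u.2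
      have h3 := Subgroup.mem_centralizer_iff.mp hc _ hu
      have h4 : (((u : ↥P) : G))⁻¹ * c * ((u : ↥P) : G) = c := by
        rw [mul_assoc, ← h3]
        group
      simp only [Subgroup.coe_mul]
      calc (((u : ↥P) : G) * sg q * z)⁻¹ * c * (((u : ↥P) : G) * sg q * z)
          = z⁻¹ * ((sg q)⁻¹ * (((u : ↥P) : G)⁻¹ * c * ((u : ↥P) : G)) * sg q) * z := by group
        _ = _ := by rw [h4]; group
    show residue M ⟨w.coeff ((sg (u • q))⁻¹ * c * sg (u • q)), hw _⟩ =
      residue M ⟨w.coeff ((sg q)⁻¹ * c * sg q), hw _⟩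
    congr 2
    rw [h2]
    exact hwi _ _ (Q.inv_mem hz)
  have hPp : IsPGroup p ↥(Q.subgroupOf P) := hP.to_subgroup _
  have h0 := sum_eq_sum_fixed (F := localRing M ⧸ localIdeal M) hPp f hf
  have hfilter : Finset.univ.filter (fun q : PQ P Q => ∀ u : ↥(Q.subgroupOf P), u • q = q) =
      Finset.univ.filter (fun q : PQ P Q => sg q ∈ Subgroup.normalizer (Q : Set G)) := by
    refine Finset.filter_congr fun q _ => ?_
    exact fixed_iff_normalizer hQP q
  rw [hfilter] at h0
  have hX : MemLocalRing M ((tQ P Q w).coeff c) := locCoeff_tQ P Q hw c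
  have hY : MemLocalRing M (∑ q ∈ Finset.univ.filter (fun q : PQ P Q => sg q ∈ Subgroup.normalizer (Q : Set G)),
      w.coeff ((sg q)⁻¹ * c * sg q)) := memLocalRing_sum _ _ fun q _ => hw _
  have e1 : (⟨_, hX⟩ : localRing M) = ∑ q : PQ P Q, (⟨w.coeff ((sg q)⁻¹ * c * sg q), hw _⟩ : localRing M) := by
    apply Subtype.ext
    rw [AddSubmonoidClass.coe_finsetSum]
    exact coeff_tQ P Q w c
  have e2 : (⟨_, hY⟩ : localRing M) = ∑ q ∈ Finset.univ.filter (fun q : PQ P Q => sg q ∈ Subgroup.normalizer (Q : Set G)),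
      (⟨w.coeff ((sg q)⁻¹ * c * sg q), hw _⟩ : localRing M) := by
    apply Subtype.ext
    rw [AddSubmonoidClass.coe_finsetSum]
  have h3 : residue M ⟨_, hX⟩ = residue M ⟨_, hY⟩ := by
    rw [e1, e2, map_sum, map_sum]
    exact h0
  exact residue_eq_iff.mp h3

/-- Splitting an invariant element along a free action, modulo the ideal. -/
theorem exists_transfer_of_free {P Q H : Subgroup G} (hQH : Q ≤ H) (hHP : H ≤ P)
    (hHN : H ≤ Subgroup.normalizer (Q : Set G)) {f : MonoidAlgebra ℂ G} (hfl : LocCoeff M f)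
    (hfi : InvBy H f) (hfs : SuppOn (Subgroup.centralizer (Q : Set G)) f)
    (hfree : ∀ c, ¬ MemLocalIdeal M (f.coeff c) → ∀ u ∈ H, u * c * u⁻¹ = c → u ∈ Q)
    [DecidablePred fun q : PQ P Q => sg q ∈ H] :
    ∃ w : MonoidAlgebra ℂ G, LocCoeff M w ∧ SuppOn (Subgroup.centralizer (Q : Set G)) w ∧
      EqI M f (∑ q ∈ Finset.univ.filter (fun q : PQ P Q => sg q ∈ H), cj (sg q) w) := by
  classical
  let r : Setoid G :=
    { r := fun c d => ∃ u ∈ H, d = u * c * u⁻¹
      iseqv :=
        { refl := fun c => ⟨1, H.one_mem, by simp⟩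
          symm := by
            rintro c d ⟨u, hu, rfl⟩
            exact ⟨u⁻¹, H.inv_mem hu, by group⟩
          trans := by
            rintro c d e ⟨u, hu, rfl⟩ ⟨v, hv, rfl⟩
            exact ⟨v * u, H.mul_mem hv hu, by group⟩ } }
  let rep : G → G := fun c => (Quotient.mk r c).out
  have hrep1 : ∀ c, ∃ u ∈ H, c = u * rep c * u⁻¹ := fun c => Quotient.mk_out (s := r) c
  have hrep2 : ∀ c u, u ∈ H → rep (u * c * u⁻¹) = rep c := by
    intro c u hu
    have : Quotient.mk r (u * c * u⁻¹) = Quotient.mk r c :=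
      Quotient.sound (show r.r _ _ from ⟨u⁻¹, H.inv_mem hu, by group⟩)
    show (Quotient.mk r (u * c * u⁻¹)).out = (Quotient.mk r c).out
    rw [this]
  have hfconj : ∀ c u, u ∈ H → f.coeff (u * c * u⁻¹) = f.coeff c := fun c u hu => hfi c u hu
  let w : MonoidAlgebra ℂ G := ofFun fun c =>
    if rep c = c ∧ ¬ MemLocalIdeal M (f.coeff c) then f.coeff c else 0
  have hwc : ∀ c, w.coeff c = if rep c = c ∧ ¬ MemLocalIdeal M (f.coeff c) then f.coeff c else 0 :=
    fun c => coeff_ofFun _ _
  refine ⟨w, ?_, ?_, ?_⟩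
  · intro c
    rw [hwc]
    split_ifs
    · exact hfl c
    · exact memLocalRing_zero
  · intro c hc
    rw [hwc, if_neg]
    rintro ⟨-, h⟩
    apply h
    rw [hfs c hc]
    exact memLocalIdeal_zero
  · rw [EqI, coeffIn_localIdeal_iff]
    intro c
    rw [MonoidAlgebra.coeff_sub, Finsupp.sub_apply, MonoidAlgebra.coeff_sum, Finsupp.finsetSum_apply]
    simp only [coeff_cj]
    by_cases hc : MemLocalIdeal M (f.coeff c)
    · rw [Finset.sum_eq_zero, sub_zero]
      · exact hc
      · intro q hq
        have hqH : sg q ∈ H := (Finset.mem_filter.mp hq).2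
        rw [hwc, if_neg]
        rintro ⟨-, h⟩
        apply h
        have := hfconj c (sg q)⁻¹ (H.inv_mem hqH)
        rw [inv_inv] at this
        rw [this]
        exact hc
    · -- the unique coset
      obtain ⟨u, hu, huE⟩ := hrep1 c
      set t := rep c with ht
      have hft : f.coeff t = f.coeff c := by
        rw [huE, hfconj t u hu]
      have htrep : rep t = t := by
        have := hrep2 t u hu
        rw [← huE] at this
        exact this.symm
      have htC : t ∈ Subgroup.centralizer (Q : Set G) := by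
        by_contra hcon
        apply hc
        rw [← hft, hfs t hcon]
        exact memLocalIdeal_zero
      let U : ↥P := ⟨u, hHP hu⟩
      obtain ⟨z, hz, hzE⟩ := exists_sg_eq (P := P) (Q := Q) U
      set q₀ : PQ P Q := QuotientGroup.mk U with hq₀
      have hq₀H : sg q₀ ∈ H := by
        rw [hzE]
        exact H.mul_mem hu (hQH hz)
      have hq₀t : (sg q₀)⁻¹ * c * sg q₀ = t := by
        rw [hzE, huE]
        have h3 := Subgroup.mem_centralizer_iff.mp htC z hz
        have h4 : z⁻¹ * t * z = t := by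
          rw [mul_assoc, ← h3]
          group
        calc ((U : G) * z)⁻¹ * (u * t * u⁻¹) * ((U : G) * z) = z⁻¹ * t * z := by
              simp only [U]
              group
          _ = t := h4
      rw [Finset.sum_eq_single q₀]
      · rw [hq₀t, hwc, if_pos ⟨htrep, by rw [hft]; exact hc⟩, hft, sub_self]
        exact memLocalIdeal_zero
      · intro q hq hne
        have hqH : sg q ∈ H := (Finset.mem_filter.mp hq).2
        rw [hwc, if_neg]
        rintro ⟨h1, h2⟩
        apply hne
        -- the element is `t`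
        have h5 : rep ((sg q)⁻¹ * c * sg q) = rep c := by
          have := hrep2 c (sg q)⁻¹ (H.inv_mem hqH)
          rwa [inv_inv] at this
        have h6 : (sg q)⁻¹ * c * sg q = t := h1.symm.trans h5
        -- the quotient element fixes `c`
        set v := sg q₀ * (sg q)⁻¹ with hv
        have hvH : v ∈ H := H.mul_mem hq₀H (H.inv_mem hqH)
        have hvc : v * c * v⁻¹ = c := by
          have h7 : v * c * v⁻¹ = sg q₀ * ((sg q)⁻¹ * c * sg q) * (sg q₀)⁻¹ := by
            rw [hv]
            group
          rw [h7, h6, ← hq₀t]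
          group
        have hvQ : v ∈ Q := hfree c hc v hvH hvc
        -- same coset
        have h8 : (sg q)⁻¹ * sg q₀ ∈ Q := by
          have h9 := (Subgroup.mem_normalizer_iff.mp ((Subgroup.normalizer (Q : Set G)).inv_mem (hHN hqH)) v).mp hvQ
          have h10 : (sg q)⁻¹ * v * (sg q)⁻¹⁻¹ = (sg q)⁻¹ * sg q₀ := by
            rw [hv]
            group
          rwa [h10] at h9
        rw [← mk_sg q, ← mk_sg q₀, QuotientGroup.eq, Subgroup.mem_subgroupOf]
        simpa using h8
      · intro h
        exact (h (Finset.mem_filter.mpr ⟨Finset.mem_univ _, hq₀H⟩)).elim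

end Cj

section Central

variable {M : Ideal AlgInt} [hM : M.IsPrime]

/-- A central element with all central characters in the local ideal has spectrum in the ideal. -/
theorem specI_of_omega {K : Type u} [Group K] [Fintype K] {z : MonoidAlgebra ℂ K}
    (hz : z ∈ localCenter K M)
    (h : ∀ χ : IrrCharacter K, MemLocalIdeal M (omega (χ : K → ℂ) z)) : SpecI M z := by
  classical
  haveI : Finite (IrrCharacter K) := Cfsg.Agent.Lib.Char.Complete.finite_irr
  letI := Fintype.ofFinite (IrrCharacter K)
  have hgen : ∀ t : Multiset (localRing M), aeval z (lin t) ∈ localCenter K M ∧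
      ∀ η : IrrCharacter K, omega (η : K → ℂ) (aeval z (lin t)) =
        (t.map (fun r : localRing M => omega (η : K → ℂ) z - (r : ℂ))).prod := by
    intro t
    induction t using Multiset.induction_on with
    | empty =>
      refine ⟨by simp [lin, (localCenter K M).one_mem], fun η => ?_⟩
      simpa [lin] using omega_one η.2
    | cons r t ih =>
      have hι : algebraMap (localRing M) (MonoidAlgebra ℂ K) r ∈ localCenter K M := by
        rw [algebraMap_local_eq, Algebra.algebraMap_eq_smul_one]
        exact smul_mem_localCenter r.2 (localCenter K M).one_mem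
      have h1 : aeval z (X - C r : (localRing M)[X]) ∈ localCenter K M := by
        simp only [map_sub, aeval_X, aeval_C]
        exact (localCenter K M).sub_mem hz hι
      rw [lin_cons, map_mul]
      refine ⟨(localCenter K M).mul_mem h1 ih.1, fun η => ?_⟩
      rw [omega_mul η.2 h1.1, ih.2 η, Multiset.map_cons, Multiset.prod_cons]
      congr 1
      simp only [map_sub, aeval_X, aeval_C]
      rw [omega_sub, algebraMap_local_eq, Algebra.algebraMap_eq_smul_one, omega_smul, omega_one η.2, mul_one]
  let s : Multiset (localRing M) := (Finset.univ : Finset (IrrCharacter K)).val.map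
    (fun χ : IrrCharacter K => ⟨omega (χ : K → ℂ) z, memLocalRing_of_memLocalIdeal (h χ)⟩)
  refine ⟨s, ?_, ?_⟩
  · intro r hr
    rw [Multiset.mem_map] at hr
    obtain ⟨χ, -, rfl⟩ := hr
    exact h χ
  · have h2 := hgen s
    refine eq_of_omega_eq' h2.1.1 (fun g h => by simp) fun η => ?_
    rw [h2.2 η]
    have h3 : omega (η : K → ℂ) (0 : MonoidAlgebra ℂ K) = 0 := omega_zero _
    rw [h3]
    apply Multiset.prod_eq_zero
    rw [Multiset.mem_map]
    refine ⟨⟨omega (η : K → ℂ) z, memLocalRing_of_memLocalIdeal (h η)⟩, ?_, sub_self _⟩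
    exact Multiset.mem_map.mpr ⟨η, Finset.mem_univ _, rfl⟩

variable {G : Type u} [Group G] [Fintype G] {p : ℕ} [Fact p.Prime]

/-- Brauer values of idempotents: the block `h` occurs in the truncation of the idempotent `a`. -/
theorem bv_sub_one_of_not_coeffIn (hMp : IsPModular p M) {R : Subgroup G} (hR : IsPGroup p R)
    [Fintype (Subgroup.centralizer (R : Set G))] {a : MonoidAlgebra ℂ G} (ha : BrDom M R a) (h2 : a * a = a)
    {h : Set (IrrCharacter (Subgroup.centralizer (R : Set G)))} (hh : IsPBlock M h)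
    (hne : ¬ CoeffIn (localIdeal M) (tr (Subgroup.centralizer (R : Set G)) a *
      EE (Subgroup.centralizer (R : Set G)) h)) :
    ∀ ξ ∈ h, MemLocalIdeal M (bv R (ξ : _ → ℂ) a - 1) := by
  classical
  obtain ⟨ξ₀, hξ₀⟩ := Cfsg.Agent.Lib.Blocks.Pairs.isPBlock_nonempty hh
  intro ξ hξ
  rcases bv_idem hMp hR ξ₀.2 ha h2 with h0 | h1
  · exfalso
    apply hne
    -- all values on the block vanish
    have hall : ∀ η ∈ h, MemLocalIdeal M (bv R (η : _ → ℂ) a) := by
      intro η hη
      have h3 := memLocalIdeal_bv_sub_of_mem hh hξ₀ hη ha.loc ha.invC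
      have h4 := memLocalIdeal_sub h0 h3
      convert h4 using 1
      ring
    set z := res (Subgroup.centralizer (R : Set G)) a * blockElt h with hz
    have hzc : z ∈ localCenter (Subgroup.centralizer (R : Set G)) M :=
      (localCenter (Subgroup.centralizer (R : Set G)) M).mul_mem (res_mem_localCenter ha) (blockElt_mem_localCenter hh)
    have hspec : SpecI M z := by
      refine specI_of_omega hzc fun η => ?_
      rw [hz, omega_mul η.2 (res_mem_localCenter ha).1]
      by_cases hη : η ∈ h
      · rw [omega_blockElt_of_mem hη, mul_one]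
        exact hall η hη
      · rw [omega_blockElt_of_notMem hη, mul_zero]
        exact memLocalIdeal_zero
    have hzl : LocCoeff M z := fun x => hzc.2 x
    obtain ⟨k, hk⟩ := hspec.exists_pow hzl
    -- go back to `G`
    set t := tr (Subgroup.centralizer (R : Set G)) a * EE (Subgroup.centralizer (R : Set G)) h with ht
    have htz : t = push (Subgroup.centralizer (R : Set G)) z := by
      rw [ht, tr_eq_push, EE_eq_push, hz, push_mul]
    have htl : LocCoeff M t := (locCoeff_tr _ ha.loc).mul (locCoeff_EE hh)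
    have hEi : InvBy (Subgroup.centralizer (R : Set G)) (EE (Subgroup.centralizer (R : Set G)) h) := invBy_EE_self (Subgroup.centralizer (R : Set G)) h
    have hτE : Commute (tr (Subgroup.centralizer (R : Set G)) a) (EE (Subgroup.centralizer (R : Set G)) h) := commute_of_suppOn (suppOn_tr (Subgroup.centralizer (R : Set G)) a) hEi
    have hτl : LocCoeff M (tr (Subgroup.centralizer (R : Set G)) a) := locCoeff_tr _ ha.loc
    have hττ : EqI M (tr (Subgroup.centralizer (R : Set G)) a * tr (Subgroup.centralizer (R : Set G)) a) (tr (Subgroup.centralizer (R : Set G)) a) := by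
      have := tr_mul_eqI hMp hR ha.loc ha.invP ha.loc ha.invP
      rw [h2] at this
      exact this.symm
    have htt : EqI M (t * t) t := by
      have : t * t = tr (Subgroup.centralizer (R : Set G)) a * tr (Subgroup.centralizer (R : Set G)) a * EE (Subgroup.centralizer (R : Set G)) h := by
        rw [ht, mul_assoc, ← mul_assoc (EE (Subgroup.centralizer (R : Set G)) h), ← hτE.eq, mul_assoc, EE_mul_self, mul_assoc]
      rw [this]
      exact hττ.mul_right (locCoeff_EE hh)
    have htk : CoeffIn (localIdeal M) (t ^ k) := by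
      rw [htz]
      have h5 : push (Subgroup.centralizer (R : Set G)) z ^ k = push (Subgroup.centralizer (R : Set G)) (z ^ k) := by
        unfold push
        rw [map_pow]
      rw [h5, coeffIn_localIdeal_iff]
      intro g
      by_cases hg : g ∈ (Subgroup.centralizer (R : Set G))
      · have h6 := coeff_push_coe (Subgroup.centralizer (R : Set G)) (z ^ k) ⟨g, hg⟩
        simp only at h6
        rw [h6]
        exact coeffIn_localIdeal_iff.mp hk _
      · rw [coeff_push_of_notMem (Subgroup.centralizer (R : Set G)) _ hg]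
        exact memLocalIdeal_zero
    exact coeffIn_of_idem_of_pow htl htt htk
  · exact memLocalIdeal_bv_sub_one_of_mem hh hξ₀ hξ ha.loc ha.invC h1

/-- The idempotent of a non-stable block is orthogonal to its conjugate. -/
lemma EE_mul_cj_eq_zero {K : Subgroup G} {g : Set (IrrCharacter K)} (hg : IsPBlock M g) {s : G}
    (hn : s ∈ Subgroup.normalizer (K : Set G)) (hs : ¬ StabilizesBlock K g s) :
    EE K g * cj s (EE K g) = 0 := by
  classical
  have h := map_conj_of_mem_normalizer hn
  have h1 : cj s (EE K g) = EE K (conjB s h g) := by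
    apply ext_coeff
    intro c
    rw [coeff_cj]
    have := coeff_EE_conjB h g (s⁻¹ * c * s)
    have h2 : s * (s⁻¹ * c * s) * s⁻¹ = c := by group
    rw [h2] at this
    exact this.symm
  have hne : g ≠ conjB s h g := by
    intro he
    exact hs (stabilizesBlock_iff.mpr ⟨hn, he.symm⟩)
  rw [h1, EE_mul, disjoint_of_isPBlock hg (isPBlock_conjB hg) hne, EE_empty]

/-- **Coherence**: the Brauer images of a primitive idempotent of the `P`-invariant lattice only
involve the blocks of the pairs below the pair of the idempotent. -/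
theorem coherence (hMp : IsPModular p M) {P : Subgroup G} (hP : IsPGroup p P) {y : MonoidAlgebra ℂ G}
    (hy : IsPrimIdem M P y) (hne : ¬ CoeffIn (localIdeal M) (tr (Subgroup.centralizer (P : Set G)) y))
    {e : Set (IrrCharacter (Subgroup.centralizer (P : Set G)))} (he : IsPBlock M e)
    (h1 : CoeffIn (localIdeal M) (tr (Subgroup.centralizer (P : Set G)) y *
      (1 - EE (Subgroup.centralizer (P : Set G)) e))) :
    ∀ (n : ℕ) (Q : Subgroup G), Nat.card P - Nat.card Q = n → Q ≤ P →
      ∀ g : Set (IrrCharacter (Subgroup.centralizer (Q : Set G))), IsPBlock M g →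
        ¬ CoeffIn (localIdeal M) (tr (Subgroup.centralizer (Q : Set G)) y *
          EE (Subgroup.centralizer (Q : Set G)) g) → SubpairLE p M Q g P e := by
  classical
  intro n
  induction n using Nat.strong_induction_on with
  | _ n ih =>
  intro Q hn hQP g hg hx
  by_cases hQeq : Q = P
  · subst hQeq
    by_cases hge : g = e
    · subst hge
      exact Relation.ReflTransGen.refl
    · exfalso
      apply hx
      have h0 : EE (Subgroup.centralizer (Q : Set G)) e * EE (Subgroup.centralizer (Q : Set G)) g = 0 := by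
        rw [EE_mul, disjoint_of_isPBlock he hg (Ne.symm hge), EE_empty]
      have h2 : EE (Subgroup.centralizer (Q : Set G)) g =
          (1 - EE (Subgroup.centralizer (Q : Set G)) e) * EE (Subgroup.centralizer (Q : Set G)) g := by
        rw [sub_mul, one_mul, h0, sub_zero]
      rw [h2, ← mul_assoc]
      exact coeffIn_mul_loc h1 (locCoeff_EE hg)
  have hQlt : Q < P := lt_of_le_of_ne hQP hQeq
  have hcardQP : Nat.card Q < Nat.card P := card_lt_of_lt hQlt
  have hQ : IsPGroup p Q := hP.to_le hQP
  let H : Subgroup G := P ⊓ (Subgroup.normalizer (Q : Set G) ⊓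
    blockStabilizer (Subgroup.centralizer (Q : Set G)) g)
  have hHP : H ≤ P := inf_le_left
  have hHN : H ≤ Subgroup.normalizer (Q : Set G) := inf_le_right.trans inf_le_left
  have hHS : ∀ u ∈ H, StabilizesBlock (Subgroup.centralizer (Q : Set G)) g u := fun u hu => hu.2.2
  have hHN' : H ≤ Subgroup.normalizer ((Subgroup.centralizer (Q : Set G) : Subgroup G) : Set G) :=
    hHN.trans (normalizer_le_normalizer_centralizer Q)
  have hQH : Q ≤ H := by
    intro z hz
    refine ⟨hQP hz, ?_, ?_⟩
    · exact Subgroup.le_normalizer hz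
    · refine stabilizesBlock_of_centralizes ?_ g
      rw [Subgroup.mem_centralizer_iff]
      intro c hc
      exact (Subgroup.mem_centralizer_iff.mp hc z hz).symm
  have hτl : LocCoeff M (tr (Subgroup.centralizer (Q : Set G)) y) := locCoeff_tr _ hy.loc
  have hτi : InvBy H (tr (Subgroup.centralizer (Q : Set G)) y) := invBy_tr hHN' (hy.inv.mono hHP)
  have hEl : LocCoeff M (EE (Subgroup.centralizer (Q : Set G)) g) := locCoeff_EE hg
  have hEi : InvBy H (EE (Subgroup.centralizer (Q : Set G)) g) := invBy_EE_of_stab hHS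
  have hEC : InvBy (Subgroup.centralizer (Q : Set G)) (EE (Subgroup.centralizer (Q : Set G)) g) :=
    invBy_EE_self _ g
  have hEE : EE (Subgroup.centralizer (Q : Set G)) g * EE (Subgroup.centralizer (Q : Set G)) g =
      EE (Subgroup.centralizer (Q : Set G)) g := EE_mul_self _ g
  have hτE : Commute (tr (Subgroup.centralizer (Q : Set G)) y) (EE (Subgroup.centralizer (Q : Set G)) g) :=
    commute_of_suppOn (suppOn_tr _ y) hEC
  have hτs : SuppOn (Subgroup.centralizer (Q : Set G)) (tr (Subgroup.centralizer (Q : Set G)) y) := suppOn_tr _ y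
  have hEs : SuppOn (Subgroup.centralizer (Q : Set G)) (EE (Subgroup.centralizer (Q : Set G)) g) := suppOn_EE _ g
  have hττ : EqI M (tr (Subgroup.centralizer (Q : Set G)) y * tr (Subgroup.centralizer (Q : Set G)) y)
      (tr (Subgroup.centralizer (Q : Set G)) y) := by
    have := tr_mul_eqI hMp hQ hy.loc (hy.inv.mono hQP) hy.loc (hy.inv.mono hQP)
    rw [hy.idem] at this
    exact this.symm
  by_cases hcase : ∃ c, ¬ MemLocalIdeal M ((tr (Subgroup.centralizer (Q : Set G)) y *
      EE (Subgroup.centralizer (Q : Set G)) g).coeff c) ∧ ∃ u ∈ H, u * c * u⁻¹ = c ∧ u ∉ Q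
  · -- a larger subgroup
    obtain ⟨c, hc, u, hu, huc, huQ⟩ := hcase
    have hcC : c ∈ Subgroup.centralizer (Q : Set G) := by
      by_contra hcon
      apply hc
      rw [hτs.mul hEs c hcon]
      exact memLocalIdeal_zero
    let R : Subgroup G := H ⊓ Subgroup.centralizer ({c} : Set G)
    have hRH : R ≤ H := inf_le_left
    have hRP : R ≤ P := hRH.trans hHP
    have hQR : Q ≤ R := by
      intro z hz
      refine Subgroup.mem_inf.mpr ⟨hQH hz, ?_⟩
      rw [Subgroup.mem_centralizer_iff]
      rintro _ rfl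
      exact (Subgroup.mem_centralizer_iff.mp hcC z hz).symm
    have huR : u ∈ R := by
      refine Subgroup.mem_inf.mpr ⟨hu, ?_⟩
      rw [Subgroup.mem_centralizer_iff]
      rintro _ rfl
      rw [mul_inv_eq_iff_eq_mul] at huc
      exact huc.symm
    have hQltR : Q < R := lt_of_le_of_ne hQR (fun h => huQ (h ▸ huR))
    have hcardQR : Nat.card Q < Nat.card R := card_lt_of_lt hQltR
    have hcardRP : Nat.card R ≤ Nat.card P := Subgroup.card_le_of_le hRP
    have hR : IsPGroup p R := hP.to_le hRP
    have hcR : c ∈ Subgroup.centralizer (R : Set G) := by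
      rw [Subgroup.mem_centralizer_iff]
      intro v hv
      exact (Subgroup.mem_centralizer_iff.mp (Subgroup.mem_inf.mp hv).2 c rfl).symm
    have hCRQ : Subgroup.centralizer (R : Set G) ≤ Subgroup.centralizer (Q : Set G) :=
      Subgroup.centralizer_le hQR
    have h2 : EqI M (tr (Subgroup.centralizer (R : Set G)) (tr (Subgroup.centralizer (Q : Set G)) y *
        EE (Subgroup.centralizer (Q : Set G)) g))
        (tr (Subgroup.centralizer (R : Set G)) y * tr (Subgroup.centralizer (R : Set G))
          (EE (Subgroup.centralizer (Q : Set G)) g)) := by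
      have := tr_mul_eqI hMp hR hτl (hτi.mono hRH) hEl (hEi.mono hRH)
      rwa [tr_tr hCRQ] at this
    have h3 : ¬ CoeffIn (localIdeal M) (tr (Subgroup.centralizer (R : Set G)) y *
        tr (Subgroup.centralizer (R : Set G)) (EE (Subgroup.centralizer (Q : Set G)) g)) := by
      intro hcon
      have h4 := coeffIn_of_eqI h2 hcon
      apply hc
      have h5 := coeffIn_localIdeal_iff.mp h4 c
      rwa [coeff_tr_of_mem _ hcR] at h5
    -- a block of the centralizer of `R`
    obtain ⟨⟨h, hh⟩, hh1⟩ : ∃ f : Blk M (Subgroup.centralizer (R : Set G)),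
        ¬ CoeffIn (localIdeal M) (tr (Subgroup.centralizer (R : Set G)) y *
          tr (Subgroup.centralizer (R : Set G)) (EE (Subgroup.centralizer (Q : Set G)) g) *
          EE (Subgroup.centralizer (R : Set G)) f.1) := by
      by_contra hcon
      push Not at hcon
      apply h3
      have h4 : tr (Subgroup.centralizer (R : Set G)) y *
          tr (Subgroup.centralizer (R : Set G)) (EE (Subgroup.centralizer (Q : Set G)) g) =
          ∑ f : Blk M (Subgroup.centralizer (R : Set G)), tr (Subgroup.centralizer (R : Set G)) y *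
          tr (Subgroup.centralizer (R : Set G)) (EE (Subgroup.centralizer (Q : Set G)) g) *
          EE (Subgroup.centralizer (R : Set G)) f.1 := by
        rw [← Finset.mul_sum, sum_EE_eq_one, mul_one]
      rw [h4, coeffIn_localIdeal_iff]
      intro x
      rw [MonoidAlgebra.coeff_sum, Finsupp.finsetSum_apply]
      exact memLocalIdeal_sum _ _ fun f _ => coeffIn_localIdeal_iff.mp (hcon f) x
    have hcommE : Commute (tr (Subgroup.centralizer (R : Set G)) (EE (Subgroup.centralizer (Q : Set G)) g))
        (EE (Subgroup.centralizer (R : Set G)) h) :=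
      commute_of_suppOn (suppOn_tr _ _) (invBy_EE_self _ h)
    have hE'l : LocCoeff M (tr (Subgroup.centralizer (R : Set G)) (EE (Subgroup.centralizer (Q : Set G)) g)) :=
      locCoeff_tr _ hEl
    have hτRl : LocCoeff M (tr (Subgroup.centralizer (R : Set G)) y) := locCoeff_tr _ hy.loc
    have h5 : ¬ CoeffIn (localIdeal M) (tr (Subgroup.centralizer (R : Set G)) y *
        EE (Subgroup.centralizer (R : Set G)) h) := by
      intro hcon
      apply hh1
      rw [mul_assoc, hcommE.eq, ← mul_assoc]
      exact coeffIn_mul_loc hcon hE'l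
    have h6 : ¬ CoeffIn (localIdeal M) (tr (Subgroup.centralizer (R : Set G)) (EE (Subgroup.centralizer (Q : Set G)) g) *
        EE (Subgroup.centralizer (R : Set G)) h) := by
      intro hcon
      apply hh1
      rw [mul_assoc]
      exact coeffIn_loc_mul hτRl hcon
    have hIH : SubpairLE p M R h P e :=
      ih (Nat.card P - Nat.card R) (by omega) R rfl hRP h hh h5
    letI : Fintype (Subgroup.centralizer (R : Set G)) := Fintype.ofFinite _
    have h7 := bv_sub_one_of_not_coeffIn hMp hR
      (⟨hEl, hEi.mono hRH, hEC.mono hCRQ⟩ : BrDom M R (EE (Subgroup.centralizer (Q : Set G)) g)) hEE hh h6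
    have h8 : IsNormalSubpair p M Q g R h := by
      rw [isNormalSubpair_iff]
      exact ⟨⟨hQ, hg⟩, ⟨hR, hh⟩, hQR, hRH.trans hHN, fun v hv => hHS v (hRH hv), h7⟩
    exact Relation.ReflTransGen.head (show NormalSubpairRel p M ⟨Q, g⟩ ⟨R, h⟩ from h8) hIH
  · -- the free case: contradiction
    exfalso
    push Not at hcase
    have hxl : LocCoeff M (tr (Subgroup.centralizer (Q : Set G)) y * EE (Subgroup.centralizer (Q : Set G)) g) :=
      hτl.mul hEl
    obtain ⟨w₁, hw₁l, hw₁s, hw₁E⟩ := exists_transfer_of_free (P := P) hQH hHP hHN hxl (hτi.mul hEi)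
      (hτs.mul hEs) hcase
    have hwl : LocCoeff M (w₁ * EE (Subgroup.centralizer (Q : Set G)) g) := hw₁l.mul hEl
    have hws : SuppOn (Subgroup.centralizer (Q : Set G)) (w₁ * EE (Subgroup.centralizer (Q : Set G)) g) :=
      hw₁s.mul hEs
    have hwi : InvBy Q (w₁ * EE (Subgroup.centralizer (Q : Set G)) g) := invBy_of_suppOn hws
    set a := tQ P Q (w₁ * EE (Subgroup.centralizer (Q : Set G)) g) with ha
    have hal : LocCoeff M a := locCoeff_tQ P Q hwl
    have hai : InvBy P a := invBy_tQ hwi
    have htrP : CoeffIn (localIdeal M) (tr (Subgroup.centralizer (P : Set G)) a) := by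
      rw [coeffIn_localIdeal_iff]
      intro c
      by_cases hc : c ∈ Subgroup.centralizer (P : Set G)
      · rw [coeff_tr_of_mem _ hc]
        exact memLocalIdeal_tQ_of_centralizes hMp hP hQP hQeq hwl hc
      · rw [coeff_tr_of_notMem _ hc]
        exact memLocalIdeal_zero
    obtain ⟨k, hk⟩ := nil_of_tr_eq_zero hMp hP hy hne hal hai htrP
    -- truncate at `Q`
    have hyaQ : EqI M (tr (Subgroup.centralizer (Q : Set G)) (y * a * y))
        (tr (Subgroup.centralizer (Q : Set G)) y * tr (Subgroup.centralizer (Q : Set G)) a *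
          tr (Subgroup.centralizer (Q : Set G)) y) := by
      have e1 := tr_mul_eqI hMp hQ (hy.loc.mul hal) ((hy.inv.mul hai).mono hQP) hy.loc (hy.inv.mono hQP)
      have e2 := tr_mul_eqI hMp hQ hy.loc (hy.inv.mono hQP) hal (hai.mono hQP)
      exact e1.trans (e2.mul_right hτl)
    have hAl : LocCoeff M (tr (Subgroup.centralizer (Q : Set G)) a) := locCoeff_tr _ hal
    have hbl : LocCoeff M (tr (Subgroup.centralizer (Q : Set G)) y * tr (Subgroup.centralizer (Q : Set G)) a *
        tr (Subgroup.centralizer (Q : Set G)) y) := (hτl.mul hAl).mul hτl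
    have hyal : LocCoeff M (y * a * y) := (hy.loc.mul hal).mul hy.loc
    have hyai : InvBy Q (y * a * y) := ((hy.inv.mul hai).mul hy.inv).mono hQP
    have hbk : CoeffIn (localIdeal M) ((tr (Subgroup.centralizer (Q : Set G)) y * tr (Subgroup.centralizer (Q : Set G)) a *
        tr (Subgroup.centralizer (Q : Set G)) y) ^ k) := by
      have e1 := coeffIn_of_eqI (tr_pow_eqI hMp hQ hyal hyai k).symm (coeffIn_tr _ hk)
      exact coeffIn_of_eqI (hyaQ.pow (locCoeff_tr _ hyal) hbl k).symm e1
    -- the key congruence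
    have hAS : EqI M (tr (Subgroup.centralizer (Q : Set G)) a)
        (∑ q ∈ Finset.univ.filter (fun q : PQ P Q => sg q ∈ Subgroup.normalizer (Q : Set G)),
          cj (sg q) (w₁ * EE (Subgroup.centralizer (Q : Set G)) g)) := by
      rw [EqI, coeffIn_localIdeal_iff]
      intro c
      rw [MonoidAlgebra.coeff_sub, Finsupp.sub_apply, MonoidAlgebra.coeff_sum, Finsupp.finsetSum_apply]
      simp only [coeff_cj]
      by_cases hc : c ∈ Subgroup.centralizer (Q : Set G)
      · rw [coeff_tr_of_mem _ hc]
        exact memLocalIdeal_tQ_sub_fixed hMp hP hQP hwl hwi hc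
      · rw [coeff_tr_of_notMem _ hc, Finset.sum_eq_zero, sub_zero]
        · exact memLocalIdeal_zero
        · intro q hq
          have hqN : sg q ∈ Subgroup.normalizer (Q : Set G) := (Finset.mem_filter.mp hq).2
          have := suppOn_cj hws (normalizer_le_normalizer_centralizer Q hqN) c hc
          rwa [coeff_cj] at this
    have hterm : ∀ q ∈ Finset.univ.filter (fun q : PQ P Q => sg q ∈ Subgroup.normalizer (Q : Set G)),
        EE (Subgroup.centralizer (Q : Set G)) g * cj (sg q) (w₁ * EE (Subgroup.centralizer (Q : Set G)) g) =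
        if sg q ∈ H then cj (sg q) w₁ * EE (Subgroup.centralizer (Q : Set G)) g else 0 := by
      intro q hq
      have hqN : sg q ∈ Subgroup.normalizer (Q : Set G) := (Finset.mem_filter.mp hq).2
      have hqN' := normalizer_le_normalizer_centralizer Q hqN
      have hc1 : Commute (EE (Subgroup.centralizer (Q : Set G)) g) (cj (sg q) w₁) :=
        (commute_of_suppOn (suppOn_cj hw₁s hqN') hEC).symm
      rw [cj_mul]
      by_cases hqH : sg q ∈ H
      · rw [if_pos hqH, cj_eq_of_invBy hEi hqH, ← mul_assoc, hc1.eq, mul_assoc, hEE]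
      · rw [if_neg hqH, ← mul_assoc, hc1.eq, mul_assoc]
        have hns : ¬ StabilizesBlock (Subgroup.centralizer (Q : Set G)) g (sg q) := fun h =>
          hqH ⟨sg_mem q, hqN, h⟩
        rw [EE_mul_cj_eq_zero hg hqN' hns, mul_zero]
    have hEA : EE (Subgroup.centralizer (Q : Set G)) g *
        (∑ q ∈ Finset.univ.filter (fun q : PQ P Q => sg q ∈ Subgroup.normalizer (Q : Set G)),
          cj (sg q) (w₁ * EE (Subgroup.centralizer (Q : Set G)) g)) =
        (∑ q ∈ Finset.univ.filter (fun q : PQ P Q => sg q ∈ H), cj (sg q) w₁) *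
          EE (Subgroup.centralizer (Q : Set G)) g := by
      rw [Finset.mul_sum, Finset.sum_mul, Finset.sum_congr rfl hterm, ← Finset.sum_filter,
        Finset.filter_filter]
      refine Finset.sum_congr ?_ fun _ _ => rfl
      ext q
      simp only [Finset.mem_filter, Finset.mem_univ, true_and]
      exact ⟨fun h => h.2, fun h => ⟨hHN h, h⟩⟩
    have hxE : tr (Subgroup.centralizer (Q : Set G)) y * EE (Subgroup.centralizer (Q : Set G)) g *
        EE (Subgroup.centralizer (Q : Set G)) g =
        tr (Subgroup.centralizer (Q : Set G)) y * EE (Subgroup.centralizer (Q : Set G)) g := by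
      rw [mul_assoc, hEE]
    have hkey : EqI M (EE (Subgroup.centralizer (Q : Set G)) g * tr (Subgroup.centralizer (Q : Set G)) a)
        (tr (Subgroup.centralizer (Q : Set G)) y * EE (Subgroup.centralizer (Q : Set G)) g) := by
      have e1 := hAS.mul_left hEl
      rw [hEA] at e1
      have e2 := hw₁E.mul_right hEl
      rw [hxE] at e2
      exact e1.trans e2.symm
    -- the element is idempotent and nilpotent
    have hcAE : Commute (tr (Subgroup.centralizer (Q : Set G)) a) (EE (Subgroup.centralizer (Q : Set G)) g) :=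
      commute_of_suppOn (suppOn_tr _ a) hEC
    have hbE : EqI M (tr (Subgroup.centralizer (Q : Set G)) y * tr (Subgroup.centralizer (Q : Set G)) a *
        tr (Subgroup.centralizer (Q : Set G)) y * EE (Subgroup.centralizer (Q : Set G)) g)
        (tr (Subgroup.centralizer (Q : Set G)) y * EE (Subgroup.centralizer (Q : Set G)) g) := by
      have e1 : tr (Subgroup.centralizer (Q : Set G)) y * tr (Subgroup.centralizer (Q : Set G)) a *
          tr (Subgroup.centralizer (Q : Set G)) y * EE (Subgroup.centralizer (Q : Set G)) g =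
          tr (Subgroup.centralizer (Q : Set G)) y * (EE (Subgroup.centralizer (Q : Set G)) g *
            tr (Subgroup.centralizer (Q : Set G)) a) * tr (Subgroup.centralizer (Q : Set G)) y := by
        rw [mul_assoc _ (tr (Subgroup.centralizer (Q : Set G)) y), hτE.eq, ← mul_assoc, mul_assoc _ _ (EE _ _),
          hcAE.eq]
      rw [e1]
      have e2 := (hkey.mul_left hτl).mul_right hτl
      refine e2.trans ?_
      have e3 : tr (Subgroup.centralizer (Q : Set G)) y * (tr (Subgroup.centralizer (Q : Set G)) y *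
          EE (Subgroup.centralizer (Q : Set G)) g) * tr (Subgroup.centralizer (Q : Set G)) y =
          tr (Subgroup.centralizer (Q : Set G)) y * (tr (Subgroup.centralizer (Q : Set G)) y *
            tr (Subgroup.centralizer (Q : Set G)) y) * EE (Subgroup.centralizer (Q : Set G)) g := by
        calc _ = tr (Subgroup.centralizer (Q : Set G)) y * (tr (Subgroup.centralizer (Q : Set G)) y *
              (EE (Subgroup.centralizer (Q : Set G)) g * tr (Subgroup.centralizer (Q : Set G)) y)) := by
              simp only [mul_assoc]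
          _ = _ := by
              rw [hτE.symm.eq]
              simp only [mul_assoc]
      rw [e3]
      have e4 := ((hττ.mul_left hτl).trans hττ).mul_right hEl
      exact e4
    have hcbE : Commute (tr (Subgroup.centralizer (Q : Set G)) y * tr (Subgroup.centralizer (Q : Set G)) a *
        tr (Subgroup.centralizer (Q : Set G)) y) (EE (Subgroup.centralizer (Q : Set G)) g) :=
      (hτE.mul_left hcAE).mul_left hτE
    apply hx
    have hxx : EqI M ((tr (Subgroup.centralizer (Q : Set G)) y * EE (Subgroup.centralizer (Q : Set G)) g) *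
        (tr (Subgroup.centralizer (Q : Set G)) y * EE (Subgroup.centralizer (Q : Set G)) g))
        (tr (Subgroup.centralizer (Q : Set G)) y * EE (Subgroup.centralizer (Q : Set G)) g) := by
      have : (tr (Subgroup.centralizer (Q : Set G)) y * EE (Subgroup.centralizer (Q : Set G)) g) *
          (tr (Subgroup.centralizer (Q : Set G)) y * EE (Subgroup.centralizer (Q : Set G)) g) =
          tr (Subgroup.centralizer (Q : Set G)) y * tr (Subgroup.centralizer (Q : Set G)) y *
            EE (Subgroup.centralizer (Q : Set G)) g := by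
        rw [mul_assoc, ← mul_assoc (EE _ _), hτE.symm.eq, mul_assoc (tr _ y), hEE, mul_assoc]
      rw [this]
      exact hττ.mul_right hEl
    have hpw : CoeffIn (localIdeal M) ((tr (Subgroup.centralizer (Q : Set G)) y * tr (Subgroup.centralizer (Q : Set G)) a *
        tr (Subgroup.centralizer (Q : Set G)) y * EE (Subgroup.centralizer (Q : Set G)) g) ^ (k + 1)) := by
      rw [hcbE.mul_pow, IsIdempotentElem.pow_succ_eq k hEE, pow_succ, mul_assoc]
      exact coeffIn_mul_loc hbk (hbl.mul hEl)
    have hpw2 := coeffIn_of_eqI (hbE.pow (hbl.mul hEl) hxl (k + 1)).symm hpw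
    exact coeffIn_of_idem_of_pow hxl hxx hpw2

end Central

end Cfsg.Agent.Lib.Blocks.Nilp
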