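/-
Nilpotent blocks: characters cut by the idempotent, and vanishing of twisted traces on sections.
-/
import Mathlib
import Cfsg.Agent.Lib.Blocks.NilpCoh
import Cfsg.Agent.Lib.Char.Basic

set_option autoImplicit false

namespace Cfsg.Agent.Lib.Blocks.Nilp

open Cfsg Cfsg.Agent.Lib.Blocks.Local Cfsg.Agent.Lib.Blocks.Central Cfsg.Agent.Lib.Blocks.Osima
open Cfsg.Agent.Lib.Blocks.Covering Cfsg.Agent.Lib.Blocks.BlockHom Cfsg.Agent.Lib.Blocks.Pairs
open Cfsg.Agent.Lib.Blocks.Twisted Cfsg.Agent.Lib.Blocks.Necklace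
open Polynomial

universe u

section Pow

/-- A class function vanishing on `p`-regular elements, paired with a high `p`-power. -/
theorem sum_pow_mul_class_divisible {K : Type*} [Group K] [Fintype K] {p : ℕ} [hp : Fact p.Prime]
    (Λ : Subring ℂ) (b : MonoidAlgebra ℂ K) (hb : ∀ g, b.coeff g ∈ Λ) (ϑ : K → ℂ) (hϑ : ∀ g, ϑ g ∈ Λ)
    (hcl : ∀ c d : K, ϑ (d * c * d⁻¹) = ϑ c) (h0 : ∀ c : K, ¬ p ∣ orderOf c → ϑ c = 0) (k : ℕ) :
    ∃ r ∈ Λ, ∑ c : K, (b ^ (p ^ (k + (Nat.card K).factorization p))).coeff c * ϑ c = (p : ℂ) ^ k * r := by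
  classical
  set e := (Nat.card K).factorization p with he
  set n := k + e with hn
  set N := p ^ n with hNdef
  have : NeZero N := ⟨pow_ne_zero _ hp.out.ne_zero⟩
  have hexp := pow_eq_sum_tuples b N
  have hT : ∑ c : K, (b ^ N).coeff c * ϑ c = ∑ w : Fin N → K, (∏ i, b.coeff (w i)) * ϑ (tupleProd w) := by
    rw [hexp]
    simp only [MonoidAlgebra.coeff_sum, Finsupp.finsetSum_apply, Finset.sum_mul]
    rw [Finset.sum_comm]
    refine Finset.sum_congr rfl fun w _ => ?_
    rw [Finset.sum_eq_single (tupleProd w)]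
    · simp [MonoidAlgebra.coeff_single]
    · intro c _ hc
      simp [MonoidAlgebra.coeff_single, Finsupp.single_apply, Ne.symm hc]
    · simp
  rw [hT]
  apply exists_eq_pow_mul_of_periodic (rot N) n rot_pow_self Λ
  · intro w
    rw [prod_rot_coeff, tupleProd_rot]
    congr 1
    have := hcl (tupleProd w) (w 0)⁻¹
    simpa using this
  · intro w
    exact Λ.mul_mem (Λ.prod_mem fun i _ => hb _) (hϑ _)
  · intro w j hW hper
    by_contra hlt
    rw [not_le] at hlt
    have hjn : j ≤ n := by omega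
    obtain ⟨h, hh⟩ := tupleProd_eq_pow_of_periodic w (p ^ j) (p ^ (n - j))
      (by rw [hNdef, ← pow_add, Nat.add_sub_cancel' hjn]) hper
    have hcard0 : Nat.card K ≠ 0 := Nat.card_pos.ne'
    have hnje : e ≤ n - j := by omega
    have hm : (tupleProd w) ^ (ordCompl[p] (Nat.card K)) = 1 := by
      have h1 : p ^ (n - j) * ordCompl[p] (Nat.card K) = Nat.card K * p ^ (n - j - e) := by
        have h2 : p ^ (n - j) = p ^ e * p ^ (n - j - e) := by
          rw [← pow_add, Nat.add_sub_cancel' hnje]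
        rw [h2, mul_comm (p ^ e), mul_assoc, Nat.ordProj_mul_ordCompl_eq_self (Nat.card K) p, mul_comm]
      rw [hh, ← pow_mul, h1, pow_mul, pow_card_eq_one', one_pow]
    have hdvd : orderOf (tupleProd w) ∣ ordCompl[p] (Nat.card K) := orderOf_dvd_of_pow_eq_one hm
    have hreg : ¬ p ∣ orderOf (tupleProd w) := fun h' =>
      Nat.not_dvd_ordCompl hp.out hcard0 (h'.trans hdvd)
    apply hW
    rw [h0 _ hreg, mul_zero]

end Pow

section Rep

variable {G : Type u} [Group G]

/-- The subrepresentation cut out by an idempotent commuting with a subgroup. -/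
theorem isCharacter_trace_comp_idem {V : Type*} [AddCommGroup V] [Module ℂ V] [FiniteDimensional ℂ V]
    (P : Subgroup G) (ρ : Representation ℂ G V) {T : Module.End ℂ V} (hT : T * T = T)
    (hc : ∀ a ∈ P, ρ a * T = T * ρ a) :
    IsCharacter P (fun a : P => LinearMap.trace ℂ V (ρ a * T)) := by
  classical
  let W : Submodule ℂ V := LinearMap.range T
  let π : V →ₗ[ℂ] W := T.rangeRestrict
  let i : W →ₗ[ℂ] V := W.subtype
  have hπi : ∀ w : W, π (i w) = w := by
    rintro ⟨_, v, rfl⟩
    apply Subtype.ext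
    show T (T v) = T v
    exact LinearMap.congr_fun hT v
  have hiπ : ∀ v, i (π v) = T v := fun _ => rfl
  let σ : Representation ℂ P W :=
    { toFun := fun a => π ∘ₗ ρ a ∘ₗ i
      map_one' := by
        ext w
        simp [hπi]
      map_mul' := by
        intro a b
        ext w
        obtain ⟨_, v, rfl⟩ := w
        show T (ρ (a * b : G) (T v)) = T (ρ a (T (ρ b (T v))))
        have h1 : ρ (b : G) (T (T v)) = T (ρ b (T v)) := LinearMap.congr_fun (hc b b.2) (T v)
        have h2 : T (T v) = T v := LinearMap.congr_fun hT v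
        rw [h2] at h1
        rw [← h1, map_mul]
        rfl }
  have h := Cfsg.Agent.Lib.Char.Basic.isCharacter_of_rep σ
  convert h using 1
  funext a
  show LinearMap.trace ℂ V (ρ a * T) = LinearMap.trace ℂ W (π ∘ₗ (ρ a ∘ₗ i))
  rw [LinearMap.trace_comp_comm']
  congr 1

variable [Fintype G]

/-- The cut-down character. -/
theorem isCharacter_twTrace_idem {χ : G → ℂ} (hχ : IsCharacter G χ) {y : MonoidAlgebra ℂ G} (hy : y * y = y)
    (P : Subgroup G) (hinv : InvBy P y) :
    IsCharacter P (fun a : P => twTrace χ 1 (MonoidAlgebra.single (a : G) (1 : ℂ) * y)) := by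
  classical
  obtain ⟨n, ρ, rfl⟩ := hχ
  have hT : ρ.asAlgebraHom y * ρ.asAlgebraHom y = ρ.asAlgebraHom y := by
    rw [← map_mul, hy]
  have hsingle : ∀ a : G, ρ.asAlgebraHom (MonoidAlgebra.single a (1 : ℂ)) = ρ a := by
    intro a
    rw [Representation.asAlgebraHom_single, one_smul]
  have hc : ∀ a ∈ P, ρ a * ρ.asAlgebraHom y = ρ.asAlgebraHom y * ρ a := by
    intro a ha
    have h1 : SuppOn P (MonoidAlgebra.single a (1 : ℂ)) := by
      intro g hg
      have : a ≠ g := fun h => hg (h ▸ ha)
      simp [MonoidAlgebra.coeff_single, Finsupp.single_apply, this]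
    have h2 := (commute_of_suppOn h1 hinv).eq
    have h3 := congrArg ρ.asAlgebraHom h2
    rwa [map_mul, map_mul, hsingle] at h3
  have h := isCharacter_trace_comp_idem P ρ hT hc
  convert h using 1
  funext a
  rw [← trace_asAlgebraHom, map_mul, hsingle]

end Rep

section Exact

variable {G : Type u} [Group G] [Fintype G] {M : Ideal AlgInt} [hM : M.IsPrime]

lemma twTrace_add (t : G → ℂ) (h : G) (u v : MonoidAlgebra ℂ G) :
    twTrace t h (u + v) = twTrace t h u + twTrace t h v := by
  simp only [twTrace, MonoidAlgebra.coeff_add, Finsupp.add_apply, add_mul, Finset.sum_add_distrib]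

/-- The trace of a product in terms of the section function. -/
lemma twTrace_mul_eq_sum {t : G → ℂ} (ht : IsClassFunction G t) (v : G) (w E : MonoidAlgebra ℂ G) :
    twTrace t v (w * E) = ∑ x : G, w.coeff x * twTrace t (v * x) E := by
  simp only [twTrace, coeff_mul_eq_sum, Finset.sum_mul, Finset.mul_sum]
  rw [Finset.sum_comm]
  refine Finset.sum_congr rfl fun x _ => ?_
  refine Fintype.sum_equiv (Equiv.mulLeft x⁻¹) _ _ fun g => ?_
  simp only [Equiv.coe_mulLeft]
  have : t (g * v) = t (x⁻¹ * g * (v * x)) := by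
    have h1 := ht (g * v) x⁻¹
    rw [← h1]
    congr 1
    group
  rw [this, mul_assoc]

lemma add_pow_of_orthogonal {R : Type*} [Ring R] {a b : R} (hab : a * b = 0) (hba : b * a = 0) (N : ℕ) (hN : 0 < N) :
    (a + b) ^ N = a ^ N + b ^ N := by
  induction N with
  | zero => omega
  | succ N ih =>
    rcases Nat.eq_zero_or_pos N with rfl | hpos
    · simp
    · rw [pow_succ, ih hpos, add_mul, mul_add, mul_add, ← pow_succ, ← pow_succ]
      have h1 : a ^ N * b = 0 := by
        obtain ⟨m, rfl⟩ : ∃ m, N = m + 1 := ⟨N - 1, by omega⟩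
        rw [pow_succ, mul_assoc, hab, mul_zero]
      have h2 : b ^ N * a = 0 := by
        obtain ⟨m, rfl⟩ : ∃ m, N = m + 1 := ⟨N - 1, by omega⟩
        rw [pow_succ, mul_assoc, hba, mul_zero]
      rw [h1, h2, add_zero, zero_add]

lemma mem_centralizer_zpowers_iff {v g : G} :
    g ∈ Subgroup.centralizer ((Subgroup.zpowers v : Subgroup G) : Set G) ↔ g * v = v * g := by
  rw [Subgroup.mem_centralizer_iff]
  constructor
  · intro h
    exact (h v (Subgroup.mem_zpowers v)).symm
  · rintro h _ ⟨n, rfl⟩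
    exact ((show Commute g v from h).zpow_right n).symm.eq

lemma trunc_eq_tr (v : G) (a : MonoidAlgebra ℂ G) :
    trunc v a = tr (Subgroup.centralizer ((Subgroup.zpowers v : Subgroup G) : Set G)) a := by
  apply ext_coeff
  intro g
  by_cases h : g * v = v * g
  · rw [coeff_trunc_of_comm h, coeff_tr_of_mem _ (mem_centralizer_zpowers_iff.mpr h)]
  · rw [coeff_trunc_of_not_comm h, coeff_tr_of_notMem _ (fun h' => h (mem_centralizer_zpowers_iff.mp h'))]

variable {p : ℕ} [hp : Fact p.Prime]

/-- **Exactness.**  Let `y` be an idempotent with local coefficients, `v`-invariant for a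
`p`-element `v`, whose truncation at `v` lies in the block idempotent `E` of `C = C_G(v)` modulo the
local ideal.  If the `E`-part of the class function `t` at the section of `v` vanishes on `p`-regular
elements of `C`, then the twisted trace of `t` at `v` vanishes on `y`. -/
theorem twTrace_eq_zero_of_section (hMp : IsPModular p M) {v : G} {k : ℕ} (hv : v ^ (p ^ k) = 1)
    {y : MonoidAlgebra ℂ G} (hy : y * y = y) (hyl : LocCoeff M y) (hyv : IsInv v y)
    {t : G → ℂ} (htl : ∀ g, MemLocalRing M (t g)) (ht : IsClassFunction G t)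
    {E : MonoidAlgebra ℂ G} (hEE : E * E = E) (hEl : LocCoeff M E)
    (hEi : InvBy (Subgroup.centralizer ((Subgroup.zpowers v : Subgroup G) : Set G)) E)
    (hs0 : ∀ c ∈ Subgroup.centralizer ((Subgroup.zpowers v : Subgroup G) : Set G), ¬ p ∣ orderOf c →
      twTrace t (v * c) E = 0)
    (hyE : CoeffIn (localIdeal M) (tr (Subgroup.centralizer ((Subgroup.zpowers v : Subgroup G) : Set G)) y * (1 - E))) :
    twTrace t v y = 0 := by
  classical
  letI : Fintype (Subgroup.centralizer ((Subgroup.zpowers v : Subgroup G) : Set G)) := Fintype.ofFinite _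
  have hloc : MemLocalRing M (twTrace t v y) :=
    (localRing M).sum_mem fun g _ => memLocalRing_mul (hyl g) (htl _)
  have hmemC : ∀ x : G, x ∈ Subgroup.centralizer ((Subgroup.zpowers v : Subgroup G) : Set G) → x * v = v * x :=
    fun x hx => mem_centralizer_zpowers_iff.mp hx
  apply eq_zero_of_forall_dvd_pow hMp hloc
  intro n
  have hp0 : (p : ℂ) ≠ 0 := by exact_mod_cast hMp.1.ne_zero
  obtain ⟨t0, ht0, hpow⟩ := exists_pow_coeffIn_pIdeal (p := p) hyE
  set e := (Nat.card (Subgroup.centralizer ((Subgroup.zpowers v : Subgroup G) : Set G))).factorization p with he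
  set m := (n + 1 + t0 * (n + 1)) + e with hm
  set N := p ^ m with hN
  have hNpos : 0 < N := pow_pos hp.out.pos m
  have hmN : m < N := Nat.lt_pow_self hp.out.one_lt
  -- the necklace congruence
  have hpow1 : y ^ N = y := IsIdempotentElem.pow_eq hy hNpos.ne'
  obtain ⟨r1, hr1, hr1E⟩ := twisted_necklace (p := p) m (h := v) (z := v) (y := 1) (mul_one v) (Commute.one_right v) hv
    (by simpa using hp.out.one_lt.ne') (a := y) (t := t) (localRing M) hyl htl hyv ht
  rw [hpow1, trunc_eq_tr] at hr1E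
  set τ := tr (Subgroup.centralizer ((Subgroup.zpowers v : Subgroup G) : Set G)) y with hτ
  have hτl : LocCoeff M τ := locCoeff_tr _ hyl
  have hτs : SuppOn (Subgroup.centralizer ((Subgroup.zpowers v : Subgroup G) : Set G)) τ := suppOn_tr _ y
  have hτE : Commute τ E := commute_of_suppOn hτs hEi
  have h1E : (1 - E) * (1 - E) = 1 - E := by
    rw [mul_sub, sub_mul, sub_mul, one_mul, mul_one, one_mul, hEE]
    abel
  have hEE' : E * (1 - E) = 0 := by rw [mul_sub, mul_one, hEE, sub_self]
  have hE'E : (1 - E) * E = 0 := by rw [sub_mul, one_mul, hEE, sub_self]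
  have hsplit : τ = τ * E + τ * (1 - E) := by rw [← mul_add]; simp
  have h12 : (τ * E) * (τ * (1 - E)) = 0 := by
    rw [mul_assoc, ← mul_assoc E, ← hτE.eq, mul_assoc, hEE', mul_zero, mul_zero]
  have h21 : (τ * (1 - E)) * (τ * E) = 0 := by
    have hc' : Commute τ (1 - E) := (Commute.one_right τ).sub_right hτE
    rw [mul_assoc, ← mul_assoc (1 - E), ← hc'.eq, mul_assoc, hE'E, mul_zero, mul_zero]
  have hτpow : τ ^ N = (τ * E) ^ N + (τ * (1 - E)) ^ N := by
    conv_lhs => rw [hsplit]
    exact add_pow_of_orthogonal h12 h21 N hNpos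
  rw [hτpow, twTrace_add] at hr1E
  -- the small part
  have hτ₂l : LocCoeff M (τ * (1 - E)) := hτl.mul (locCoeff_one.sub hEl)
  have hsmall : ∃ r2 ∈ localRing M, twTrace t v ((τ * (1 - E)) ^ N) = (p : ℂ) ^ (n + 1) * r2 := by
    have hle : t0 * (n + 1) ≤ N := by omega
    have e1 : (τ * (1 - E)) ^ N = ((τ * (1 - E)) ^ t0) ^ (n + 1) * (τ * (1 - E)) ^ (N - t0 * (n + 1)) := by
      rw [← pow_mul, ← pow_add, Nat.add_sub_cancel' hle]
    have h6 : CoeffIn (pIdeal p M ^ (n + 1)) ((τ * (1 - E)) ^ N) := by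
      rw [e1]
      exact (hpow.pow (n + 1)).mul_right (coeffIn_top_iff.mpr (hτ₂l.pow _))
    have h6' : CoeffIn (Ideal.span {((p : localRing M) ^ (n + 1) : localRing M)}) ((τ * (1 - E)) ^ N) := by
      rw [← Ideal.span_singleton_pow]
      exact h6
    have h7 : ∀ g, ∃ d : localRing M, ((τ * (1 - E)) ^ N).coeff g = (p : ℂ) ^ (n + 1) * d := by
      intro g
      obtain ⟨c, hc, hc'⟩ := h6' g
      rw [Ideal.mem_span_singleton'] at hc
      obtain ⟨d, rfl⟩ := hc
      refine ⟨d, ?_⟩
      rw [← hc']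
      push_cast
      ring
    choose d hd using h7
    refine ⟨∑ g, (d g : ℂ) * t (g * v), (localRing M).sum_mem fun g _ =>
      memLocalRing_mul (d g).2 (htl _), ?_⟩
    rw [twTrace, Finset.mul_sum]
    refine Finset.sum_congr rfl fun g _ => ?_
    rw [hd, mul_assoc]
  obtain ⟨r2, hr2, hr2E⟩ := hsmall
  -- the section part
  have hsec : ∃ r3 ∈ localRing M, twTrace t v ((τ * E) ^ N) =
      (p : ℂ) ^ (n + 1 + t0 * (n + 1)) * r3 := by
    have e1 : (τ * E) ^ N = τ ^ N * E := by
      rw [hτE.mul_pow, IsIdempotentElem.pow_eq hEE hNpos.ne']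
    rw [e1, twTrace_mul_eq_sum ht]
    set b := res (Subgroup.centralizer ((Subgroup.zpowers v : Subgroup G) : Set G)) τ with hb
    have hbτ : push (Subgroup.centralizer ((Subgroup.zpowers v : Subgroup G) : Set G)) b = τ := by
      rw [hb, ← tr_eq_push, hτ, tr_tr le_rfl]
    have hpowb : ∀ c : Subgroup.centralizer ((Subgroup.zpowers v : Subgroup G) : Set G),
        (τ ^ N).coeff (c : G) = (b ^ N).coeff c := by
      intro c
      rw [← hbτ]
      have h1 : push (Subgroup.centralizer ((Subgroup.zpowers v : Subgroup G) : Set G)) b ^ N =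
          push (Subgroup.centralizer ((Subgroup.zpowers v : Subgroup G) : Set G)) (b ^ N) := by
        unfold push
        rw [map_pow]
      rw [h1, coeff_push_coe]
    have hsum : ∑ x : G, (τ ^ N).coeff x * twTrace t (v * x) E =
        ∑ c : Subgroup.centralizer ((Subgroup.zpowers v : Subgroup G) : Set G),
          (b ^ N).coeff c * twTrace t (v * c) E := by
      have h2 : ∀ x ∉ Subgroup.centralizer ((Subgroup.zpowers v : Subgroup G) : Set G),
          (τ ^ N).coeff x * twTrace t (v * x) E = 0 := by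
        intro x hx
        rw [hτs.pow N x hx, zero_mul]
      rw [← Finset.sum_subset (Finset.subset_univ (Finset.univ.filter
        (· ∈ Subgroup.centralizer ((Subgroup.zpowers v : Subgroup G) : Set G))))
        (fun x _ hx => h2 x (by simpa using hx))]
      symm
      refine Finset.sum_bij' (fun c _ => (c : G)) (fun x hx => ⟨x, (Finset.mem_filter.mp hx).2⟩)
        (fun c _ => Finset.mem_filter.mpr ⟨Finset.mem_univ _, c.2⟩) (fun _ _ => Finset.mem_univ _)
        (fun _ _ => rfl) (fun _ _ => rfl) (fun c _ => ?_)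
      rw [hpowb]
    rw [hsum]
    have hbl : ∀ g, b.coeff g ∈ localRing M := by
      intro g
      rw [hb, coeff_res]
      exact hτl _
    have hϑl : ∀ c : Subgroup.centralizer ((Subgroup.zpowers v : Subgroup G) : Set G),
        twTrace t (v * c) E ∈ localRing M := fun c =>
      (localRing M).sum_mem fun g _ => memLocalRing_mul (hEl g) (htl _)
    have hcl : ∀ c d : Subgroup.centralizer ((Subgroup.zpowers v : Subgroup G) : Set G),
        twTrace t (v * ((d * c * d⁻¹ : Subgroup.centralizer ((Subgroup.zpowers v : Subgroup G) : Set G)) : G)) E =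
          twTrace t (v * c) E := by
      intro c d
      simp only [twTrace]
      refine Fintype.sum_equiv (MulAut.conj (d⁻¹ : G)).toEquiv _ _ fun g => ?_
      simp only [MulEquiv.toEquiv_eq_coe, MulEquiv.coe_toEquiv, MulAut.conj_apply, inv_inv]
      have hd := hEi g (d⁻¹ : G) ((Subgroup.centralizer _).inv_mem d.2)
      simp only [inv_inv] at hd
      rw [hd]
      congr 1
      have hdv : (d : G) * v = v * d := hmemC d d.2
      have h3 := ht (g * (v * ((d * c * d⁻¹ : Subgroup.centralizer ((Subgroup.zpowers v : Subgroup G) : Set G)) : G))) (d⁻¹ : G)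
      rw [← h3]
      congr 1
      have hdv' : (d : G)⁻¹ * v = v * (d : G)⁻¹ := (Commute.inv_left (show Commute (d : G) v from hdv)).eq
      simp only [Subgroup.coe_mul, InvMemClass.coe_inv]
      calc (d : G)⁻¹ * (g * (v * ((d : G) * c * (d : G)⁻¹))) * (d : G)⁻¹⁻¹
          = (d : G)⁻¹ * g * (v * ((d : G) * c)) := by group
        _ = (d : G)⁻¹ * g * (d : G) * (v * c) := by
            rw [← mul_assoc v, ← hdv]
            group
    have h0 : ∀ c : Subgroup.centralizer ((Subgroup.zpowers v : Subgroup G) : Set G),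
        ¬ p ∣ orderOf c → twTrace t (v * c) E = 0 := by
      intro c hc
      refine hs0 c c.2 ?_
      rwa [Subgroup.orderOf_coe]
    obtain ⟨r3, hr3, hr3E⟩ := sum_pow_mul_class_divisible (p := p) (localRing M) b hbl
      (fun c => twTrace t (v * c) E) hϑl hcl h0 (n + 1 + t0 * (n + 1))
    exact ⟨r3, hr3, hr3E⟩
  obtain ⟨r3, hr3, hr3E⟩ := hsec
  rw [hr2E, hr3E, sub_eq_iff_eq_add] at hr1E
  have hfinal : twTrace t v y = (p : ℂ) ^ (n + 1) * ((p : ℂ) ^ (m - n) * r1 + (p : ℂ) ^ (t0 * (n + 1)) * r3 + r2) := by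
    rw [hr1E]
    have e1 : (p : ℂ) ^ (m + 1) = (p : ℂ) ^ (n + 1) * (p : ℂ) ^ (m - n) := by
      rw [← pow_add]
      congr 1
      omega
    rw [e1, pow_add (p : ℂ) (n + 1) (t0 * (n + 1))]
    ring
  rw [hfinal]
  have h5 : (p : ℂ) ^ (n + 1) * ((p : ℂ) ^ (m - n) * r1 + (p : ℂ) ^ (t0 * (n + 1)) * r3 + r2) / (p : ℂ) ^ n =
      (p : ℂ) * ((p : ℂ) ^ (m - n) * r1 + (p : ℂ) ^ (t0 * (n + 1)) * r3 + r2) := by
    field_simp
    ring
  rw [h5]
  exact memLocalRing_mul (memLocalRing_natCast p) (memLocalRing_add (memLocalRing_add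
    (memLocalRing_mul (memLocalRing_pow (memLocalRing_natCast p) _) hr1)
    (memLocalRing_mul (memLocalRing_pow (memLocalRing_natCast p) _) hr3)) hr2)

end Exact

end Cfsg.Agent.Lib.Blocks.Nilp
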