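/-
Nilpotent blocks: sections of characters in the language of the group algebra of `G`.
-/
import Mathlib
import Cfsg.Agent.Lib.Blocks.NilpExact
import Cfsg.Agent.Lib.Blocks.Sections
import Cfsg.Agent.Lib.Blocks.BlockCount
import Cfsg.Agent.Lib.Blocks.SubsectionNorm

set_option autoImplicit false

namespace Cfsg.Agent.Lib.Blocks.Nilp

open Cfsg Cfsg.Agent.Lib.Blocks.Local Cfsg.Agent.Lib.Blocks.Central Cfsg.Agent.Lib.Blocks.Osima
open Cfsg.Agent.Lib.Blocks.Covering Cfsg.Agent.Lib.Blocks.BlockHom Cfsg.Agent.Lib.Blocks.Pairs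
open Cfsg.Agent.Lib.Blocks.Twisted Cfsg.Agent.Lib.Blocks.Necklace Cfsg.Agent.Lib.Blocks.Sections
open Cfsg.Agent.Lib.Blocks.Regular Cfsg.Agent.Lib.Blocks.BlockCount
open scoped ComplexConjugate

universe u

section Sec

variable {G : Type u} [Group G] [Fintype G] {M : Ideal AlgInt} [hM : M.IsPrime]

/-- The centralizer of an element, as the centralizer of the cyclic subgroup. -/
abbrev Kz (v : G) : Subgroup G := Subgroup.centralizer ((Subgroup.zpowers v : Subgroup G) : Set G)

open Classical in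
/-- The `p`-regular elements of the centralizer. -/
noncomputable def regC (p : ℕ) (v : G) : Finset G :=
  Finset.univ.filter (fun c => c ∈ Kz v ∧ ¬ p ∣ orderOf c)

lemma mem_regC {p : ℕ} {v c : G} : c ∈ regC p v ↔ c ∈ Kz v ∧ ¬ p ∣ orderOf c := by
  classical
  simp [regC]

open Classical in
/-- The `p`-elements. -/
noncomputable def pElts (p : ℕ) : Finset G := Finset.univ.filter (fun u : G => ∃ k : ℕ, orderOf u = p ^ k)

lemma mem_pElts {p : ℕ} {u : G} : u ∈ pElts p ↔ ∃ k : ℕ, orderOf u = p ^ k := by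
  classical
  simp [pElts]

variable {p : ℕ} [hp : Fact p.Prime]

/-- The decomposition of a sum over `G` along `p`-parts. -/
theorem sum_eq_sum_sections (φ : G → ℂ) :
    ∑ g : G, φ g = ∑ u ∈ pElts (G := G) p, ∑ c ∈ regC p u, φ (u * c) := by
  classical
  choose pp hpp using fun g : G => Cfsg.Agent.Lib.Blocks.SecondMain.exists_isPPart p g
  have hmaps : ∀ g ∈ (Finset.univ : Finset G), pp g ∈ pElts (G := G) p := by
    intro g _
    obtain ⟨y, -, -, hk, -⟩ := hpp g
    exact mem_pElts.mpr hk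
  rw [← Finset.sum_fiberwise_of_maps_to hmaps]
  refine Finset.sum_congr rfl fun u hu => ?_
  obtain ⟨k, hk⟩ := mem_pElts.mp hu
  symm
  refine Finset.sum_bij' (fun c _ => u * c) (fun g _ => u⁻¹ * g) ?_ ?_ ?_ ?_ ?_
  · intro c hc
    obtain ⟨hc1, hc2⟩ := mem_regC.mp hc
    refine Finset.mem_filter.mpr ⟨Finset.mem_univ _, ?_⟩
    refine isPPart_unique (hpp _) ?_
    exact ⟨c, rfl, (mem_centralizer_zpowers_iff.mp hc1).symm, ⟨k, hk⟩, hc2⟩
  · intro g hg
    have hgu : pp g = u := (Finset.mem_filter.mp hg).2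
    obtain ⟨y, hy, hcomm, -, hreg⟩ := hpp g
    rw [hgu] at hy hcomm
    rw [mem_regC, ← hy, inv_mul_cancel_left]
    exact ⟨mem_centralizer_zpowers_iff.mpr hcomm.symm, hreg⟩
  · intro c _
    simp
  · intro g _
    simp
  · intro c _
    rfl

/-- The trace at a section in terms of the block part on the centralizer. -/
lemma twTrace_EE_eq_blockPart {v : G} {t : G → ℂ} (ht : IsClassFunction G t) {K : Subgroup G}
    [Fintype K] (hK : ∀ k ∈ K, k * v = v * k) (f : Set (IrrCharacter K)) (c : K) :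
    twTrace t (v * c) (EE K f) = blockPart f (fun k : K => t (v * k)) c := by
  classical
  have hcl : IsClassFunction K (fun k : K => t (v * k)) := by
    intro c d
    show t (v * ((d * c * d⁻¹ : K) : G)) = t (v * c)
    have h1 : v * ((d * c * d⁻¹ : K) : G) = (d : G) * (v * c) * (d : G)⁻¹ := by
      simp only [Subgroup.coe_mul, Subgroup.coe_inv]
      rw [← mul_assoc, ← mul_assoc, ← hK d d.2]
      group
    rw [h1, ht]
  rw [blockPart_eq_twTrace f hcl, EE_eq_push]
  simp only [twTrace]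
  have h1 : ∑ g : G, (push K (blockElt f)).coeff g * t (g * (v * c)) =
      ∑ k : K, (blockElt f).coeff k * t ((k : G) * (v * c)) := by
    have h2 : ∑ g : G, (push K (blockElt f)).coeff g * t (g * (v * c)) =
        ∑ g ∈ Finset.univ.filter (· ∈ K), (push K (blockElt f)).coeff g * t (g * (v * c)) := by
      rw [Finset.sum_filter]
      refine Finset.sum_congr rfl fun g _ => ?_
      split_ifs with hg
      · rfl
      · rw [coeff_push_of_notMem K _ hg, zero_mul]
    rw [h2]
    symm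
    refine Finset.sum_bij' (fun k _ => (k : G)) (fun x hx => ⟨x, (Finset.mem_filter.mp hx).2⟩)
      (fun k _ => Finset.mem_filter.mpr ⟨Finset.mem_univ _, k.2⟩) (fun _ _ => Finset.mem_univ _)
      (fun _ _ => rfl) (fun _ _ => rfl) (fun k _ => ?_)
    rw [coeff_push_coe]
  rw [h1]
  refine Finset.sum_congr rfl fun k _ => ?_
  congr 1
  show t ((k : G) * (v * c)) = t (v * ((k * c : K) : G))
  simp only [Subgroup.coe_mul]
  rw [← mul_assoc, ← mul_assoc, hK k k.2]

/-- Expansion over blocks. -/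
lemma sum_twTrace_EE (K : Subgroup G) (t : G → ℂ) (h : G) :
    t h = ∑ f : Blk M K, twTrace t h (EE K f.1) := by
  rw [← twTrace_sum, sum_EE_eq_one, Sections.twTrace_one]

/-- Weak block orthogonality for block parts. -/
lemma sum_reg_blockPart_eq_zero (hMp : IsPModular p M) {X : Type u} [Group X] [Fintype X]
    {f f' : Set (IrrCharacter X)} (hf : IsPBlock M f) (hf' : IsPBlock M f') (hne : f ≠ f') (ϑ₁ ϑ₂ : X → ℂ) :
    ∑ c : X, reg p (blockPart f ϑ₁) c * conj (blockPart f' ϑ₂ c) = 0 := by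
  classical
  have hdis := Pairs.disjoint_of_isPBlock hf hf' hne
  have hclosed := isClosed_of_isPBlock hf
  simp only [reg]
  have h1 : ∀ c : X, (if p ∣ orderOf c then (0 : ℂ) else blockPart f ϑ₁ c) * conj (blockPart f' ϑ₂ c) =
      ∑ ξ ∈ Finset.univ.filter (· ∈ f), ∑ ξ' ∈ Finset.univ.filter (· ∈ f'),
        classInner ϑ₁ (ξ : X → ℂ) * conj (classInner ϑ₂ (ξ' : X → ℂ)) *
          (reg p (ξ : X → ℂ) c * conj ((ξ' : X → ℂ) c)) := by
    intro c
    by_cases hc : p ∣ orderOf c
    · rw [if_pos hc, zero_mul]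
      symm
      refine Finset.sum_eq_zero fun ξ _ => Finset.sum_eq_zero fun ξ' _ => ?_
      rw [reg_of_dvd _ hc]
      ring
    · rw [if_neg hc, blockPart_eq_sum, blockPart_eq_sum, map_sum, Finset.sum_mul_sum]
      refine Finset.sum_congr rfl fun ξ _ => Finset.sum_congr rfl fun ξ' _ => ?_
      rw [reg_of_not_dvd _ hc, map_mul]
      ring
  simp only [h1]
  rw [Finset.sum_comm]
  refine Finset.sum_eq_zero fun ξ hξ => ?_
  rw [Finset.sum_comm]
  refine Finset.sum_eq_zero fun ξ' hξ' => ?_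
  rw [← Finset.mul_sum]
  have hξf : ξ ∈ f := (Finset.mem_filter.mp hξ).2
  have hξ'f : ξ' ∈ f' := (Finset.mem_filter.mp hξ').2
  have h3 : ξ ∉ f' := fun h => by
    have : ξ ∈ f ∩ f' := ⟨hξf, h⟩
    rw [hdis] at this
    exact this
  have h2 := classInner_reg_eq_zero_of_closed hMp (isClosed_of_isPBlock hf') h3 hξ'f
  rw [classInner, mul_eq_zero] at h2
  rcases h2 with h2 | h2
  · exfalso
    have : (Nat.card X : ℂ) ≠ 0 := by exact_mod_cast Nat.card_pos.ne'
    exact (inv_ne_zero this) h2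
  · rw [h2, mul_zero]

/-- A sum over the regular elements of the centralizer as a sum over the subgroup. -/
lemma sum_regC_eq {v : G} [Fintype (Kz v)] (Φ : G → ℂ) :
    ∑ c ∈ regC p v, Φ c = ∑ c : Kz v, if p ∣ orderOf c then 0 else Φ c := by
  classical
  have h1 : ∑ c ∈ regC p v, Φ c = ∑ c : G, if c ∈ Kz v then (if p ∣ orderOf c then 0 else Φ c) else 0 := by
    rw [regC, Finset.sum_filter]
    refine Finset.sum_congr rfl fun c _ => ?_
    by_cases h1 : c ∈ Kz v
    · by_cases h2 : p ∣ orderOf c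
      · simp [h1, h2]
      · simp [h1, h2]
    · simp [h1]
  rw [h1, Cfsg.Agent.Lib.Blocks.SubsectionNorm.sum_eq_sum_subgroup (Kz v) _ (fun t ht => by simp [ht])]
  refine Finset.sum_congr rfl fun c _ => ?_
  rw [if_pos c.2, Subgroup.orderOf_coe]

/-- Orthogonality of different blocks of the centralizer at a section. -/
lemma sum_regC_twTrace_EE_eq_zero (hMp : IsPModular p M) {v : G} {t₁ t₂ : G → ℂ} (h₁ : IsClassFunction G t₁)
    (h₂ : IsClassFunction G t₂) {f f' : Set (IrrCharacter (Kz v))} (hf : IsPBlock M f) (hf' : IsPBlock M f')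
    (hne : f ≠ f') :
    ∑ c ∈ regC p v, twTrace t₁ (v * c) (EE (Kz v) f) * conj (twTrace t₂ (v * c) (EE (Kz v) f')) = 0 := by
  classical
  letI : Fintype (Kz v) := Fintype.ofFinite _
  have hK : ∀ k ∈ Kz v, k * v = v * k := fun k hk => mem_centralizer_zpowers_iff.mp hk
  rw [sum_regC_eq]
  refine Eq.trans ?_ (sum_reg_blockPart_eq_zero (p := p) hMp hf hf' hne (fun k : Kz v => t₁ (v * k)) (fun k : Kz v => t₂ (v * k)))
  refine Finset.sum_congr rfl fun c _ => ?_
  rw [twTrace_EE_eq_blockPart h₁ hK, twTrace_EE_eq_blockPart h₂ hK]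
  by_cases hc : p ∣ orderOf c
  · rw [if_pos hc, reg_of_dvd _ hc, zero_mul]
  · rw [if_neg hc, reg_of_not_dvd _ hc]

/-- The norm form at a pair. -/
noncomputable def secF (p : ℕ) (t₁ t₂ : G → ℂ) (v : G) (E : MonoidAlgebra ℂ G) : ℂ :=
  ∑ c ∈ regC p v, twTrace t₁ (v * c) E * conj (twTrace t₂ (v * c) E)

/-- The inner product of class functions as a sum over pairs. -/
theorem sum_eq_sum_secF (hMp : IsPModular p M) {t₁ t₂ : G → ℂ} (h₁ : IsClassFunction G t₁)
    (h₂ : IsClassFunction G t₂) :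
    ∑ g : G, t₁ g * conj (t₂ g) =
      ∑ u ∈ pElts (G := G) p, ∑ f : Blk M (Kz u), secF p t₁ t₂ u (EE (Kz u) f.1) := by
  classical
  rw [sum_eq_sum_sections (p := p)]
  refine Finset.sum_congr rfl fun u _ => ?_
  have h1 : ∀ c, t₁ (u * c) * conj (t₂ (u * c)) = ∑ f : Blk M (Kz u), ∑ f' : Blk M (Kz u),
      twTrace t₁ (u * c) (EE (Kz u) f.1) * conj (twTrace t₂ (u * c) (EE (Kz u) f'.1)) := by
    intro c
    conv_lhs => rw [sum_twTrace_EE (M := M) (Kz u) t₁ (u * c), sum_twTrace_EE (M := M) (Kz u) t₂ (u * c)]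
    rw [map_sum, Finset.sum_mul_sum]
  simp only [h1]
  rw [Finset.sum_comm]
  refine Finset.sum_congr rfl fun f _ => ?_
  rw [Finset.sum_comm, Finset.sum_eq_single f]
  · rfl
  · intro f' _ hne
    refine sum_regC_twTrace_EE_eq_zero hMp h₁ h₂ f.2 f'.2 ?_
    intro h
    exact hne (Subtype.ext h.symm)
  · simp

/-- Pulling a central idempotent through the trace of a class function. -/
lemma twTrace_blockElt_mul {χ : IrrCharacter G} (B : Set (IrrCharacter G)) (hχ : χ ∈ B) (h : G)
    (E : MonoidAlgebra ℂ G) :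
    twTrace (χ : G → ℂ) h (blockElt B * E) = twTrace (χ : G → ℂ) h E := by
  have hcl : IsClassFunction G (χ : G → ℂ) := isClassFunction_of_irr χ.2
  rw [twTrace_mul_eq_sum hcl]
  have h1 : ∀ x : G, twTrace (χ : G → ℂ) (h * x) E = ∑ g : G, E.coeff g * (χ : G → ℂ) (x * (g * h)) := by
    intro x
    simp only [twTrace]
    refine Finset.sum_congr rfl fun g _ => ?_
    congr 1
    have h2 := hcl (g * (h * x)) x
    rw [← h2]
    congr 1
    group
  simp only [h1, Finset.mul_sum]
  rw [Finset.sum_comm]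
  have h3 : ∀ g : G, ∑ x : G, (blockElt B).coeff x * (E.coeff g * (χ : G → ℂ) (x * (g * h))) =
      E.coeff g * twTrace (χ : G → ℂ) (g * h) (blockElt B) := by
    intro g
    rw [twTrace, Finset.mul_sum]
    refine Finset.sum_congr rfl fun x _ => ?_
    ring
  simp only [h3, twTrace_blockElt, omega_blockElt_of_mem hχ, one_mul]
  rfl

/-- **Second main theorem, in the language of Brauer pairs.** -/
theorem twTrace_EE_eq_zero_of_not_pair (hMp : IsPModular p M) {B : Set (IrrCharacter G)} (hB : IsPBlock M B)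
    {χ : IrrCharacter G} (hχ : χ ∈ B) {u : G} {k : ℕ} (hu : u ^ (p ^ k) = 1)
    {f : Set (IrrCharacter (Kz u))} (hf : IsPBlock M f)
    (hnot : ¬ IsBrauerPairOf p M B (Subgroup.zpowers u) f) {c : G} (hc : c ∈ regC p u) :
    twTrace (χ : G → ℂ) (u * c) (EE (Kz u) f) = 0 := by
  classical
  letI : Fintype (Kz u) := Fintype.ofFinite _
  obtain ⟨hcK, hcreg⟩ := mem_regC.mp hc
  have hZ : IsPGroup p (Subgroup.zpowers u) := by
    rw [IsPGroup.iff_card, Nat.card_zpowers]
    obtain ⟨j, -, hj⟩ := (Nat.dvd_prime_pow hp.out).mp (orderOf_dvd_of_pow_eq_one hu)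
    exact ⟨j, hj⟩
  have hBd : BrDom M (Subgroup.zpowers u) (blockElt B) := brDom_blockElt hB
  have hco : CoeffIn (localIdeal M) (tr (Kz u) (blockElt B) * EE (Kz u) f) := by
    by_contra hcon
    apply hnot
    rw [isBrauerPairOf_iff]
    exact ⟨⟨hZ, hf⟩, hB, bv_sub_one_of_not_coeffIn hMp hZ hBd (blockElt_mul_self B) hf hcon⟩
  have hEi : InvBy (Kz u) (EE (Kz u) f) := invBy_EE_self _ f
  have hEl : LocCoeff M (EE (Kz u) f) := locCoeff_EE hf
  have hEs : SuppOn (Kz u) (EE (Kz u) f) := suppOn_EE _ f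
  have hEEi : InvBy (Subgroup.zpowers u) (EE (Kz u) f) := invBy_of_suppOn hEs
  have hBcl := isClassFunction_blockElt (G := G) B
  have hcommE : Commute (EE (Kz u) f) (blockElt B) := commute_of_suppOn hEs (fun g x _ => hBcl g x)
  have hcomm2 : (blockElt B * EE (Kz u) f) * (blockElt B * EE (Kz u) f) = blockElt B * EE (Kz u) f := by
    calc (blockElt B * EE (Kz u) f) * (blockElt B * EE (Kz u) f)
        = blockElt B * (EE (Kz u) f * blockElt B) * EE (Kz u) f := by noncomm_ring
      _ = blockElt B * (blockElt B * EE (Kz u) f) * EE (Kz u) f := by rw [hcommE.eq]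
      _ = (blockElt B * blockElt B) * (EE (Kz u) f * EE (Kz u) f) := by noncomm_ring
      _ = _ := by rw [blockElt_mul_self, EE_mul_self]
  rw [← twTrace_blockElt_mul B hχ]
  have hBl : LocCoeff M (blockElt B) := hBd.loc
  have hinvε : IsInv (u * c) (blockElt B * EE (Kz u) f) := by
    apply IsInv.mul (IsInv.of_isClassFunction hBcl _)
    intro g
    have huu : u ∈ Kz u := by
      rw [Subgroup.mem_centralizer_iff]
      intro h hh
      obtain ⟨n, rfl⟩ := Subgroup.mem_zpowers_iff.mp hh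
      exact (Commute.zpow_left (Commute.refl u) n).eq
    exact hEi g (u * c) ((Kz u).mul_mem huu hcK)
  have hcomm3 : Commute u c := by
    have := (Subgroup.mem_centralizer_iff.mp hcK) u (Subgroup.mem_zpowers u)
    exact this
  have hcoprime : ¬ p ∣ orderOf c := hcreg
  refine twTrace_eq_zero hMp rfl hcomm3 hu hcoprime hcomm2 ?_ hinvε (fun g => ?_)
    (isClassFunction_of_irr χ.2) one_pos ?_
  · rw [coeffIn_top_iff]
    exact hBl.mul hEl
  · exact memLocalRing_of_isIntegral (isIntegral_irr χ.2 g)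
  · rw [pow_one, trunc_eq_tr]
    have h1 := tr_mul_eqI hMp hZ hBl hBd.invP hEl hEEi
    rw [tr_of_suppOn hEs] at h1
    exact coeffIn_of_eqI h1 hco

end Sec

end Cfsg.Agent.Lib.Blocks.Nilp
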