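/-
Brauer pairs: a character of defect zero modulo a normal `p`-subgroup, and the characterization of maximal Brauer pairs.
-/
import Mathlib
import Cfsg.Agent.Lib.Blocks.Pairs11
import Cfsg.Agent.Lib.Blocks.Dominate
import Cfsg.Agent.Lib.Blocks.HeightZero

set_option autoImplicit false

namespace Cfsg.Agent.Lib.Blocks.Pairs

open Cfsg Cfsg.Agent.Lib.Blocks.Local Cfsg.Agent.Lib.Blocks.Central Cfsg.Agent.Lib.Blocks.Osima
open Cfsg.Agent.Lib.Blocks.Covering Cfsg.Agent.Lib.Blocks.BrauerMap Cfsg.Agent.Lib.Blocks.Transport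
open Cfsg.Agent.Lib.Blocks.BlockHom Cfsg.Agent.Lib.Blocks.Twisted Cfsg.Agent.Lib.Blocks.Dominate
open scoped ComplexConjugate

universe u

section DefectZero

variable {H : Type u} [Group H] [Fintype H] {M : Ideal AlgInt} [hM : M.IsPrime]
variable {p : ℕ} [Fact p.Prime]

/-- A character whose degree has the full `p`-part is alone in its block. -/
theorem blockOf_eq_singleton (hMp : IsPModular p M) {η : IrrCharacter H}
    (hdeg : (charDegree (η : H → ℂ)).factorization p = (Nat.card H).factorization p) :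
    blockOf M (η : H → ℂ) = {η} := by
  classical
  obtain ⟨m, hm⟩ := Cfsg.Agent.Lib.Blocks.HeightZero.charDegree_dvd_card η.2
  have hH0 : Nat.card H ≠ 0 := Nat.card_pos.ne'
  have hd0 : charDegree (η : H → ℂ) ≠ 0 := fun h => hH0 (by rw [hm, h, zero_mul])
  have hm0 : m ≠ 0 := fun h => hH0 (by rw [hm, h, mul_zero])
  have hpm : ¬ p ∣ m := by
    intro hd
    have h1 := (Fact.out : p.Prime).factorization_pos_of_dvd hm0 hd
    rw [hm, Nat.factorization_mul hd0 hm0, Finsupp.add_apply] at hdeg
    omega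
  have hdc : ((charDegree (η : H → ℂ) : ℕ) : ℂ) = (η : H → ℂ) 1 :=
    Cfsg.Agent.Lib.Char.Values.IsCharacter.charDegree_cast
      (Cfsg.Agent.Lib.Char.Values.IsIrrCharacter.isCharacter η.2)
  have hcoef : ∀ g, blockCoeff ({η} : Set (IrrCharacter H)) g = (m : ℂ)⁻¹ * conj ((η : H → ℂ) g) := by
    intro g
    rw [blockCoeff_eq_sum]
    rw [Finset.sum_eq_single η (fun ψ hψ hne => absurd (by simpa using hψ) hne)
      (fun h => absurd (by simp) h), ← hdc, hm, Nat.cast_mul]
    have h2 : ((charDegree (η : H → ℂ) : ℕ) : ℂ) ≠ 0 := Nat.cast_ne_zero.2 hd0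
    have h3 : (m : ℂ) ≠ 0 := Nat.cast_ne_zero.2 hm0
    field_simp
  have hy : blockElt ({η} : Set (IrrCharacter H)) ∈ localCenter H M := by
    refine ⟨isClassFunction_blockElt _, fun g => ?_⟩
    rw [coeff_blockElt, hcoef]
    refine memLocalRing_mul (memLocalRing_inv_natCast hMp hpm) ?_
    rw [← Cfsg.Agent.Lib.Char.Complete.isIrr_inv η.2]
    exact memLocalRing_of_isIntegral (isIntegral_irr η.2 _)
  have hθ : η ∈ idemSupp (blockElt ({η} : Set (IrrCharacter H))) := omega_blockElt_of_mem rfl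
  have hsub := idemSupp_union hy (blockElt_mul_self _) hθ
  apply Set.Subset.antisymm
  · intro ψ hψ
    have h1 : omega (ψ : H → ℂ) (blockElt ({η} : Set (IrrCharacter H))) = 1 := hsub hψ
    by_contra hne
    rw [omega_blockElt_of_notMem hne] at h1
    exact zero_ne_one h1
  · intro ψ hψ
    rw [Set.mem_singleton_iff] at hψ
    rw [hψ]
    exact mem_blockOf_self η

/-- **A block containing a character of defect zero modulo a normal `p`-subgroup `N`** has defect groups of order at
most `|N|`. -/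
theorem card_defect_le_of_kernel (hMp : IsPModular p M) (N : Subgroup H) [N.Normal] (hN : IsPGroup p N)
    (hC : ∃ k : ℕ, (Subgroup.centralizer (N : Set H)).index = p ^ k) {χ : IrrCharacter H}
    (hker : ∀ n ∈ N, (χ : H → ℂ) n = (χ : H → ℂ) 1)
    (hdeg : (charDegree (χ : H → ℂ)).factorization p + (Nat.card N).factorization p =
      (Nat.card H).factorization p)
    {D : Subgroup H} (hD : IsDefectGroup p M (blockOf M (χ : H → ℂ)) D) : Nat.card D ≤ Nat.card N := by
  classical
  letI : Fintype (H ⧸ N) := Fintype.ofFinite _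
  obtain ⟨η, hη⟩ := Cfsg.Agent.Lib.Blocks.Kernel.exists_irr_of_kernel N χ.2 hker
  have hdeg1 : charDegree (η : H ⧸ N → ℂ) = charDegree (χ : H → ℂ) := by
    rw [hη]
    simp [charDegree]
  have hcard : Nat.card H = Nat.card (H ⧸ N) * Nat.card N :=
    Subgroup.card_eq_card_quotient_mul_card_subgroup N
  have hq0 : Nat.card (H ⧸ N) ≠ 0 := Nat.card_pos.ne'
  have hn0 : Nat.card N ≠ 0 := Nat.card_pos.ne'
  have hdegη : (charDegree (η : H ⧸ N → ℂ)).factorization p = (Nat.card (H ⧸ N)).factorization p := by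
    rw [hcard, Nat.factorization_mul hq0 hn0, Finsupp.add_apply] at hdeg
    rw [hdeg1]
    omega
  have hb := blockOf_eq_singleton hMp hdegη
  have hbb : IsPBlock M (blockOf M (η : H ⧸ N → ℂ)) := ⟨η, rfl⟩
  have hy : blockElt (blockOf M (η : H ⧸ N → ℂ)) ∈ localCenter (H ⧸ N) M := blockElt_mem_localCenter hbb
  have hv : ∀ c : H ⧸ N, p ∣ orderOf c → (blockElt (blockOf M (η : H ⧸ N → ℂ))).coeff c = 0 := by
    intro c hc
    rw [coeff_blockElt]
    exact blockCoeff_eq_zero_of_dvd hMp hbb hc
  have hε := regLift_mem_localCenter (p := p) N hy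
  have hω : omega (χ : H → ℂ) (regLift N p (blockElt (blockOf M (η : H ⧸ N → ℂ)))) = 1 := by
    rw [hη, omega_regLift N hN hC (η : H ⧸ N → ℂ) hv]
    exact omega_blockElt_of_mem (mem_blockOf_self η)
  have hsum := omega_eq_sum_centralChar (isClassFunction_of_irr χ.2) hε.1
  rw [hω] at hsum
  obtain ⟨C, hC1⟩ : ∃ C : ConjClasses H, ¬ MemLocalIdeal M
      ((regLift N p (blockElt (blockOf M (η : H ⧸ N → ℂ)))).coeff C.out * centralChar (χ : H → ℂ) C.out) := by
    by_contra hcon
    push Not at hcon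
    apply not_memLocalIdeal_one (M := M)
    rw [hsum]
    exact memLocalIdeal_sum _ _ fun C _ => hcon C
  have hc1 : ¬ MemLocalIdeal M ((regLift N p (blockElt (blockOf M (η : H ⧸ N → ℂ)))).coeff C.out) :=
    fun hh => hC1 (memLocalIdeal_mul_right hh (memLocalRing_centralChar χ.2 _))
  have hc2 : ¬ MemLocalIdeal M (centralChar (χ : H → ℂ) C.out) :=
    fun hh => hC1 (memLocalIdeal_mul_left (hε.2 _) hh)
  have hreg : ¬ p ∣ orderOf C.out := by
    intro hd
    rw [coeff_regLift_of_dvd N _ hd] at hc1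
    exact hc1 memLocalIdeal_zero
  rw [coeff_regLift_of_not_dvd N _ hreg, coeff_blockElt] at hc1
  -- the defect of the block of `η` is trivial
  obtain ⟨x₀, S₀, -, hdef⟩ := exists_isDefectGroup hMp hbb
  have hcardD := Cfsg.Agent.S0908.result p M hMp _ hbb _ hdef
  have hdefect0 : blockDefect p (blockOf M (η : H ⧸ N → ℂ)) = 0 := by
    unfold blockDefect
    rw [hb, Set.image_singleton, csInf_singleton, hdegη, Nat.sub_self]
  rw [hdefect0, pow_zero] at hcardD
  have htriv : ∀ R : Subgroup (H ⧸ N), IsPGroup p R →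
      R ≤ Subgroup.centralizer ({((C.out : H) : H ⧸ N)} : Set (H ⧸ N)) → R = ⊥ := by
    intro R hR hRc
    obtain ⟨y, hy⟩ := exists_le_conj_of_coeff hMp hbb hdef hc1 hR hRc
    have h1 := Subgroup.card_le_of_le hy
    have h2 : Nat.card ((((S₀ : Subgroup (Subgroup.centralizer ({x₀} : Set (H ⧸ N)))).map
        (Subgroup.centralizer ({x₀} : Set (H ⧸ N))).subtype)).map (MulAut.conj y).toMonoidHom : Subgroup (H ⧸ N)) = 1 := by
      rw [← hcardD]
      exact Nat.card_congr (Subgroup.equivMapOfInjective _ _ (MulAut.conj y).injective).toEquiv.symm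
    rw [h2] at h1
    exact (Subgroup.card_le_one_iff_eq_bot R).mp h1
  obtain ⟨g, hg, P, rfl⟩ := hD
  have hbχ : IsPBlock M (blockOf M (χ : H → ℂ)) := ⟨χ, rfl⟩
  obtain ⟨x, Q, hxQ⟩ := (Cfsg.Agent.Lib.Blocks.Defect.min_max hMp (blockOf M (χ : H → ℂ)) hbχ g hg P C.out).2
    ⟨χ, mem_blockOf_self χ, hc2⟩
  have hQN : (Q : Subgroup (Subgroup.centralizer ({C.out} : Set H))).map
      (Subgroup.centralizer ({C.out} : Set H)).subtype ≤ N := by
    have hmap := htriv (((Q : Subgroup (Subgroup.centralizer ({C.out} : Set H))).map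
      (Subgroup.centralizer ({C.out} : Set H)).subtype).map (QuotientGroup.mk' N))
      ((Cfsg.Agent.Lib.Blocks.Defect.isPGroup_sylow_map Q).map _) (by
        rintro _ ⟨u, hu, rfl⟩
        have h1 := Cfsg.Agent.Lib.Blocks.Defect.sylow_map_le Q hu
        have h2 := Subgroup.mem_centralizer_singleton_iff.mp h1
        refine Subgroup.mem_centralizer_singleton_iff.mpr ?_
        show (u : H ⧸ N) * (C.out : H) = (C.out : H) * (u : H ⧸ N)
        rw [← QuotientGroup.mk_mul, ← QuotientGroup.mk_mul, h2])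
    intro u hu
    have h3 : (QuotientGroup.mk' N u) ∈ (⊥ : Subgroup (H ⧸ N)) := by
      rw [← hmap]
      exact ⟨u, hu, rfl⟩
    exact (QuotientGroup.eq_one_iff u).1 h3
  calc Nat.card ((P : Subgroup (Subgroup.centralizer ({g} : Set H))).map (Subgroup.centralizer ({g} : Set H)).subtype)
      = Nat.card (((P : Subgroup (Subgroup.centralizer ({g} : Set H))).map (Subgroup.centralizer ({g} : Set H)).subtype).map
          (MulAut.conj x).toMonoidHom : Subgroup H) :=
        Nat.card_congr (Subgroup.equivMapOfInjective _ _ (MulAut.conj x).injective).toEquiv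
    _ ≤ _ := Subgroup.card_le_of_le hxQ
    _ ≤ _ := Subgroup.card_le_of_le hQN

end DefectZero

section Maximal

variable {G : Type u} [Group G] [Fintype G] {M : Ideal AlgInt} [hM : M.IsPrime]
variable {p : ℕ} [Fact p.Prime]

/-- `Z(Q)` as a subgroup of `C_G(Q)` is normal. -/
lemma normal_center_subgroupOf (Q : Subgroup G) :
    ((Q ⊓ Subgroup.centralizer (Q : Set G)).subgroupOf (Subgroup.centralizer (Q : Set G))).Normal := by
  constructor
  intro a ha c
  rw [Subgroup.mem_subgroupOf] at ha ⊢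
  have h3 : (c : G) * (a : G) * (c : G)⁻¹ = a := by
    have := Subgroup.mem_centralizer_iff.mp c.2 _ ha.1
    rw [← this, mul_assoc, mul_inv_cancel, mul_one]
  simpa [h3] using ha

/-- In a maximal pair, the `p`-elements of the stabilizer lie in `Q C_G(Q)`. -/
theorem mem_sup_of_isMaximal (hMp : IsPModular p M) {B : Set (IrrCharacter G)} {Q : Subgroup G}
    {e : Set (IrrCharacter (Subgroup.centralizer (Q : Set G)))}
    (hmax : IsMaximalBrauerPair p M B Q e) {g : G} (hgN : g ∈ Subgroup.normalizer (Q : Set G))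
    (hgs : StabilizesBlock (Subgroup.centralizer (Q : Set G)) e g) (hgp : ∃ k : ℕ, orderOf g = p ^ k) :
    g ∈ Q ⊔ Subgroup.centralizer (Q : Set G) := by
  classical
  have hQp : IsPGroup p Q := hmax.1.1.1
  have he := hmax.1.1.2
  have hzp : IsPGroup p (Subgroup.zpowers g) := by
    obtain ⟨k, hk⟩ := hgp
    rw [IsPGroup.iff_card, Nat.card_zpowers, hk]
    exact ⟨k, rfl⟩
  have hzN : Subgroup.zpowers g ≤ Subgroup.normalizer (Q : Set G) := by
    rw [Subgroup.zpowers_le]
    exact hgN
  have hRp : IsPGroup p (Subgroup.zpowers g ⊔ Q : Subgroup G) := hzp.to_sup_of_normal_right' hQp hzN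
  have hst : ∀ u ∈ (Subgroup.zpowers g ⊔ Q : Subgroup G),
      StabilizesBlock (Subgroup.centralizer (Q : Set G)) e u := by
    have h1 : (Subgroup.zpowers g ⊔ Q : Subgroup G) ≤ blockStabilizer (Subgroup.centralizer (Q : Set G)) e := by
      refine sup_le ?_ ?_
      · rw [Subgroup.zpowers_le]
        exact hgs
      · intro q hq
        exact le_blockStabilizer_of_sup (le_refl _) e (le_sup_right (a := Subgroup.centralizer (Q : Set G)) hq)
    exact fun u hu => h1 hu
  obtain ⟨S, hSp, hQS, -, hcov, h, hn⟩ := exists_stable_growth hMp hRp le_sup_right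
    (sup_le hzN Subgroup.le_normalizer) he hst
  have hBh := isBrauerPairOf_up hMp hmax.1 hn
  have hSQ : S = Q := hmax.2 S h hBh (Relation.ReflTransGen.single hn)
  subst hSQ
  obtain ⟨s, hs, k, hk, rfl⟩ := hcov g (le_sup_left (a := Subgroup.zpowers g) (Subgroup.mem_zpowers g))
  exact Subgroup.mul_mem _ (le_sup_left (a := S) hs) (le_sup_right (a := S) hk)

/-- In a maximal pair, `Z(Q)` is a defect group of the local block. -/
theorem isDefectGroup_center_of_isMaximal (hMp : IsPModular p M) {B : Set (IrrCharacter G)} {Q : Subgroup G}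
    {e : Set (IrrCharacter (Subgroup.centralizer (Q : Set G)))}
    (hmax : IsMaximalBrauerPair p M B Q e) :
    IsDefectGroup p M e
      ((Q ⊓ Subgroup.centralizer (Q : Set G)).subgroupOf (Subgroup.centralizer (Q : Set G))) := by
  have hQp : IsPGroup p Q := hmax.1.1.1
  have he := hmax.1.1.2
  obtain ⟨x, hx, hxD⟩ := exists_conj_isDefectGroup_centralizer hMp hmax (le_refl Q) he Relation.ReflTransGen.refl
  obtain ⟨D, hD, -⟩ := exists_defect_le_centralizer hMp hmax.1.1 (le_refl Q) he Relation.ReflTransGen.refl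
  have h2 := card_defect_conjBlock hMp he hD x hxD
  have hn := normal_center_subgroupOf Q
  have hp : IsPGroup p ((Q ⊓ Subgroup.centralizer (Q : Set G)).subgroupOf (Subgroup.centralizer (Q : Set G))) :=
    (hQp.to_le inf_le_left).comap_of_injective _ (Subgroup.subtype_injective _)
  have hZD := (Cfsg.Agent.Lib.Basic.PCore.le_pCore hn hp).trans (Cfsg.Agent.S0912.result p M hMp e he D hD)
  have hQx : Q.map (MulAut.conj x).toMonoidHom = Q := by
    apply Subgroup.eq_of_le_of_card_ge (SubpairLE.le hx)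
    exact (Nat.card_congr (Subgroup.equivMapOfInjective _ _ (MulAut.conj x).injective).toEquiv).le
  have heq := Subgroup.eq_of_le_of_card_ge hZD (by
    rw [← h2, card_subgroupOf_inf_right, card_subgroupOf_inf_right, hQx])
  rw [heq]
  exact hD

/-- **S4828**, forward. -/
theorem exists_theta_of_isMaximal (hMp : IsPModular p M) {B : Set (IrrCharacter G)} {Q : Subgroup G}
    {e : Set (IrrCharacter (Subgroup.centralizer (Q : Set G)))}
    (hmax : IsMaximalBrauerPair p M B Q e) :
    ∃ θ ∈ e, (∀ z : Subgroup.centralizer (Q : Set G), (z : G) ∈ Q →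
        (θ : Subgroup.centralizer (Q : Set G) → ℂ) z = (θ : Subgroup.centralizer (Q : Set G) → ℂ) 1) ∧
      (charDegree (θ : Subgroup.centralizer (Q : Set G) → ℂ)).factorization p +
        (Nat.card ↥(Q ⊓ Subgroup.centralizer (Q : Set G))).factorization p =
        (Nat.card (Subgroup.centralizer (Q : Set G))).factorization p ∧
      (∀ g : G, g ∈ Subgroup.normalizer (Q : Set G) →
        StabilizesBlock (Subgroup.centralizer (Q : Set G)) e g → (∃ k : ℕ, orderOf g = p ^ k) →
        g ∈ Q ⊔ Subgroup.centralizer (Q : Set G)) := by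
  classical
  have hQp : IsPGroup p Q := hmax.1.1.1
  have he := hmax.1.1.2
  have hD := isDefectGroup_center_of_isMaximal hMp hmax
  haveI hn := normal_center_subgroupOf Q
  have hp : IsPGroup p ((Q ⊓ Subgroup.centralizer (Q : Set G)).subgroupOf (Subgroup.centralizer (Q : Set G))) :=
    (hQp.to_le inf_le_left).comap_of_injective _ (Subgroup.subtype_injective _)
  obtain ⟨θ, hθ, hker⟩ := exists_mem_kernel _ hMp hp he
  refine ⟨θ, hθ, fun z hz => hker z (Subgroup.mem_subgroupOf.mpr ⟨hz, z.2⟩), ?_,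
    fun g hg hs hk => mem_sup_of_isMaximal hMp hmax hg hs hk⟩
  have hcard := Cfsg.Agent.S0908.result p M hMp e he _ hD
  rw [card_subgroupOf_inf_right] at hcard
  have hv : (Nat.card ↥(Q ⊓ Subgroup.centralizer (Q : Set G))).factorization p = blockDefect p e := by
    rw [hcard, Nat.Prime.factorization_pow (Fact.out : p.Prime), Finsupp.single_eq_same]
  rw [hv]
  -- the lower bound for the degree
  have hlow : sInf ((fun χ : IrrCharacter (Subgroup.centralizer (Q : Set G)) =>
      (charDegree (χ : Subgroup.centralizer (Q : Set G) → ℂ)).factorization p) '' e) ≤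
      (charDegree (θ : Subgroup.centralizer (Q : Set G) → ℂ)).factorization p := Nat.sInf_le ⟨θ, hθ, rfl⟩
  -- the upper bound for the degree
  letI : Fintype (Subgroup.centralizer (Q : Set G) ⧸
      (Q ⊓ Subgroup.centralizer (Q : Set G)).subgroupOf (Subgroup.centralizer (Q : Set G))) := Fintype.ofFinite _
  obtain ⟨η, hη⟩ := Cfsg.Agent.Lib.Blocks.Kernel.exists_irr_of_kernel _ θ.2 hker
  have hdeg1 : charDegree (η : Subgroup.centralizer (Q : Set G) ⧸
      (Q ⊓ Subgroup.centralizer (Q : Set G)).subgroupOf (Subgroup.centralizer (Q : Set G)) → ℂ) =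
      charDegree (θ : Subgroup.centralizer (Q : Set G) → ℂ) := by
    rw [hη]
    simp [charDegree]
  have hdvd := Cfsg.Agent.Lib.Blocks.HeightZero.charDegree_dvd_card η.2
  rw [hdeg1] at hdvd
  have hcardq := Subgroup.card_eq_card_quotient_mul_card_subgroup
    ((Q ⊓ Subgroup.centralizer (Q : Set G)).subgroupOf (Subgroup.centralizer (Q : Set G)))
  rw [card_subgroupOf_inf_right] at hcardq
  have hq0 : Nat.card (Subgroup.centralizer (Q : Set G) ⧸
      (Q ⊓ Subgroup.centralizer (Q : Set G)).subgroupOf (Subgroup.centralizer (Q : Set G))) ≠ 0 := Nat.card_pos.ne'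
  have hn0 : Nat.card ↥(Q ⊓ Subgroup.centralizer (Q : Set G)) ≠ 0 := Nat.card_pos.ne'
  have hvK := hcardq ▸ Nat.factorization_mul hq0 hn0
  have hvK2 := congrArg (fun f => f p) hvK
  simp only [Finsupp.add_apply] at hvK2
  have hle := (Nat.factorization_le_iff_dvd (by
    intro h0
    have := Cfsg.Agent.Lib.Char.Ortho.irr_apply_one_ne_zero η.2
    have hc := Cfsg.Agent.Lib.Char.Values.IsCharacter.charDegree_cast
      (Cfsg.Agent.Lib.Char.Values.IsIrrCharacter.isCharacter η.2)
    rw [hdeg1, h0] at hc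
    exact this (by rw [← hc]; simp)) hq0).mpr hdvd p
  have hdef : blockDefect p e = (Nat.card (Subgroup.centralizer (Q : Set G))).factorization p -
      sInf ((fun χ : IrrCharacter (Subgroup.centralizer (Q : Set G)) =>
      (charDegree (χ : Subgroup.centralizer (Q : Set G) → ℂ)).factorization p) '' e) := rfl
  omega

/-- **S4828**, backward. -/
theorem exists_isMaximal_of_theta (hMp : IsPModular p M) {Q : Subgroup G}
    {e : Set (IrrCharacter (Subgroup.centralizer (Q : Set G)))} (he : IsBrauerPair p M Q e)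
    (h : ∃ θ ∈ e, (∀ z : Subgroup.centralizer (Q : Set G), (z : G) ∈ Q →
        (θ : Subgroup.centralizer (Q : Set G) → ℂ) z = (θ : Subgroup.centralizer (Q : Set G) → ℂ) 1) ∧
      (charDegree (θ : Subgroup.centralizer (Q : Set G) → ℂ)).factorization p +
        (Nat.card ↥(Q ⊓ Subgroup.centralizer (Q : Set G))).factorization p =
        (Nat.card (Subgroup.centralizer (Q : Set G))).factorization p ∧
      (∀ g : G, g ∈ Subgroup.normalizer (Q : Set G) →
        StabilizesBlock (Subgroup.centralizer (Q : Set G)) e g → (∃ k : ℕ, orderOf g = p ^ k) →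
        g ∈ Q ⊔ Subgroup.centralizer (Q : Set G))) :
    ∃ B : Set (IrrCharacter G), IsMaximalBrauerPair p M B Q e := by
  classical
  obtain ⟨θ, hθ, hker, hdeg, hstab⟩ := h
  obtain ⟨B, hB, -⟩ := existsUnique_block_of_pair hMp he
  refine ⟨B, hB, fun R g hRg hle => ?_⟩
  -- the defect of `e`
  haveI hn := normal_center_subgroupOf Q
  have hZp : IsPGroup p ((Q ⊓ Subgroup.centralizer (Q : Set G)).subgroupOf (Subgroup.centralizer (Q : Set G))) :=
    (he.1.to_le inf_le_left).comap_of_injective _ (Subgroup.subtype_injective _)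
  have hC : ∃ k : ℕ, (Subgroup.centralizer (((Q ⊓ Subgroup.centralizer (Q : Set G)).subgroupOf
      (Subgroup.centralizer (Q : Set G)) : Subgroup _) : Set (Subgroup.centralizer (Q : Set G)))).index = p ^ k := by
    refine ⟨0, ?_⟩
    rw [pow_zero, Subgroup.index_eq_one, Subgroup.eq_top_iff']
    intro c
    rw [Subgroup.mem_centralizer_iff]
    intro z hz
    apply Subtype.ext
    have hz' : (z : G) ∈ Q := (Subgroup.mem_subgroupOf.mp hz).1
    exact (Subgroup.mem_centralizer_iff.mp c.2 _ hz')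
  have hdegZ : (charDegree (θ : Subgroup.centralizer (Q : Set G) → ℂ)).factorization p +
      (Nat.card ((Q ⊓ Subgroup.centralizer (Q : Set G)).subgroupOf (Subgroup.centralizer (Q : Set G)) : Subgroup _)).factorization p =
      (Nat.card (Subgroup.centralizer (Q : Set G))).factorization p := by
    rw [card_subgroupOf_inf_right]
    exact hdeg
  have hebl : e = blockOf M (θ : Subgroup.centralizer (Q : Set G) → ℂ) := isPBlock_eq_blockOf he.2 hθ
  obtain ⟨x₀, S₀, -, hdef⟩ := exists_isDefectGroup hMp he.2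
  have hdef' := hdef
  rw [hebl] at hdef'
  have hcardle := card_defect_le_of_kernel hMp _ hZp hC
    (fun n hn' => hker n (Subgroup.mem_subgroupOf.mp hn').1) hdegZ hdef'
  have hZD := (Cfsg.Agent.Lib.Basic.PCore.le_pCore hn hZp).trans (Cfsg.Agent.S0912.result p M hMp e he.2 _ hdef)
  have heq := Subgroup.eq_of_le_of_card_ge hZD hcardle
  rw [← heq] at hdef
  -- the first step of a chain
  by_contra hne
  have hgen : ∀ a : BrauerPairIdx G, Relation.ReflTransGen (NormalSubpairRel p M) a ⟨R, g⟩ → a = ⟨Q, e⟩ →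
      ∃ c : BrauerPairIdx G, c.1 ≠ Q ∧ NormalSubpairRel p M ⟨Q, e⟩ c := by
    intro a hab
    induction hab using Relation.ReflTransGen.head_induction_on with
    | refl =>
      intro h1
      exact absurd (congrArg Sigma.fst h1) hne
    | @head a c hac hcb ih =>
      intro h1
      subst h1
      by_cases hc : c.1 = Q
      · obtain ⟨c1, c2⟩ := c
        dsimp only at hc
        subst hc
        have h2 : c2 = e := (eq_of_isNormalSubpair_self hac).symm
        subst h2
        exact ih rfl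
      · exact ⟨c, hc, hac⟩
  obtain ⟨⟨R₁, h₁⟩, hR₁, hn₁⟩ := hgen _ hle rfl
  dsimp only at hR₁
  have hn₁' : IsNormalSubpair p M Q e R₁ h₁ := hn₁
  apply hR₁
  obtain ⟨x, hxR, hx⟩ := exists_coeff_of_normal_subpair hn₁'
  have hxK := mem_of_coeff_EE hx
  have hxc : ¬ MemLocalIdeal M (blockCoeff e (⟨x, hxK⟩ : Subgroup.centralizer (Q : Set G))) := by
    rw [coeff_EE] at hx
    rwa [subgroupBlockCoeff_of_mem _ hxK] at hx
  have hQR₁ := hn₁'.2.2.1
  have hR₁p := hn₁'.2.1.1
  have hcent : R₁ ⊓ Subgroup.centralizer (Q : Set G) ≤ Q := by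
    intro c hc
    have hR' : IsPGroup p ((R₁ ⊓ Subgroup.centralizer (Q : Set G)).subgroupOf (Subgroup.centralizer (Q : Set G))) :=
      (hR₁p.to_le inf_le_left).comap_of_injective _ (Subgroup.subtype_injective _)
    have hRx : (R₁ ⊓ Subgroup.centralizer (Q : Set G)).subgroupOf (Subgroup.centralizer (Q : Set G)) ≤
        Subgroup.centralizer ({(⟨x, hxK⟩ : Subgroup.centralizer (Q : Set G))} : Set _) := by
      intro d hd
      rw [Subgroup.mem_subgroupOf] at hd
      rw [Subgroup.mem_centralizer_singleton_iff]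
      apply Subtype.ext
      exact Subgroup.mem_centralizer_iff.mp hxR _ hd.1
    obtain ⟨y, hy⟩ := exists_le_conj_of_coeff hMp he.2 hdef hxc hR' hRx
    obtain ⟨z, hz, hzc⟩ := hy (Subgroup.mem_subgroupOf.mpr (show ((⟨c, hc.2⟩ : Subgroup.centralizer (Q : Set G)) : G) ∈ _ from hc))
    have hz' : (z : G) ∈ Q := (Subgroup.mem_subgroupOf.mp hz).1
    have h1 : (y : G) * z * (y : G)⁻¹ = z := by
      have := Subgroup.mem_centralizer_iff.mp y.2 _ hz'
      rw [← this, mul_assoc, mul_inv_cancel, mul_one]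
    have h2 : (y : G) * z * (y : G)⁻¹ = c := congrArg Subtype.val hzc
    rw [← h2, h1]
    exact hz'
  apply le_antisymm _ hQR₁
  intro r hr
  have hrp : ∃ k : ℕ, orderOf r = p ^ k := by
    obtain ⟨k, hk⟩ := (IsPGroup.iff_orderOf.1 hR₁p) ⟨r, hr⟩
    exact ⟨k, by rw [← Subgroup.orderOf_mk r hr]; exact hk⟩
  have h3 := hstab r (hn₁'.2.2.2.1 hr) (hn₁'.2.2.2.2.1 r hr) hrp
  have h4 : (r : G) ∈ ((Q ⊔ Subgroup.centralizer (Q : Set G) : Subgroup G) : Set G) := h3
  rw [Subgroup.coe_mul_of_left_le_normalizer_right Q _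
    (Subgroup.le_normalizer.trans (normalizer_le_normalizer_centralizer Q))] at h4
  obtain ⟨q, hq, c, hc, rfl⟩ := h4
  have hcR : c ∈ R₁ := by
    have := R₁.mul_mem (R₁.inv_mem (hQR₁ hq)) hr
    simpa using this
  exact Subgroup.mul_mem _ hq (hcent ⟨hcR, hc⟩)

end Maximal

end Cfsg.Agent.Lib.Blocks.Pairs
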