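/-
Brauer pairs carrying a weight; the centric reduction.
-/
import Mathlib
import Cfsg.Agent.Lib.Blocks.Pairs12
import Cfsg.Agent.Lib.Char.DegreeDvd

set_option autoImplicit false

namespace Cfsg.Agent.Lib.Blocks.Pairs

open Cfsg Cfsg.Agent.Lib.Blocks.Local Cfsg.Agent.Lib.Blocks.Central Cfsg.Agent.Lib.Blocks.Osima
open Cfsg.Agent.Lib.Blocks.Covering Cfsg.Agent.Lib.Blocks.BrauerMap Cfsg.Agent.Lib.Blocks.Transport
open Cfsg.Agent.Lib.Blocks.BlockHom Cfsg.Agent.Lib.Blocks.Twisted Cfsg.Agent.Lib.Blocks.Dominate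
open scoped ComplexConjugate

universe u

section Weight

/-- A constituent of a character on which the block idempotent acts as the identity lies in the block. -/
lemma mem_of_sum_blockCoeff {K : Type u} [Group K] [Fintype K] {e : Set (IrrCharacter K)} {θ Ξ : K → ℂ}
    (hθ : IsIrrCharacter K θ) (hΞ : IsCharacter K Ξ)
    (h : ∑ k, blockCoeff e k * (θ k + Ξ k) = θ 1 + Ξ 1) : (⟨θ, hθ⟩ : IrrCharacter K) ∈ e := by
  classical
  by_contra hne
  obtain ⟨m, hm⟩ := Cfsg.Agent.Lib.Char.Ortho.exists_nat_decomp hΞ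
  have hu : ∀ ψ : IrrCharacter K, ∑ k, blockCoeff e k * (ψ : K → ℂ) k =
      if ψ ∈ e then (ψ : K → ℂ) 1 else 0 := by
    intro ψ
    have h1 := omega_blockElt e ψ
    rw [omega] at h1
    have h0 := Cfsg.Agent.Lib.Char.Ortho.irr_apply_one_ne_zero ψ.2
    simp only [coeff_blockElt] at h1
    rw [div_eq_iff h0] at h1
    rw [h1]
    split_ifs <;> simp
  have h1 : ∑ k, blockCoeff e k * θ k = 0 := by
    have := hu ⟨θ, hθ⟩
    rwa [if_neg hne] at this
  have hd : ∀ ψ : IrrCharacter K, (ψ : K → ℂ) 1 = ((charDegree (ψ : K → ℂ) : ℕ) : ℂ) := fun ψ =>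
    (Cfsg.Agent.Lib.Char.Values.IsCharacter.charDegree_cast
      (Cfsg.Agent.Lib.Char.Values.IsIrrCharacter.isCharacter ψ.2)).symm
  have hΞk : ∀ k, Ξ k = ∑ ψ : IrrCharacter K, (m ψ : ℂ) * (ψ : K → ℂ) k := by
    intro k
    rw [hm, Finset.sum_apply]
    refine Finset.sum_congr rfl fun ψ _ => ?_
    rw [Pi.smul_apply, nsmul_eq_mul]
  have h2 : ∑ k, blockCoeff e k * Ξ k = ∑ ψ, (m ψ : ℂ) * (if ψ ∈ e then (ψ : K → ℂ) 1 else 0) := by
    simp only [hΞk, Finset.mul_sum]
    rw [Finset.sum_comm]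
    refine Finset.sum_congr rfl fun ψ _ => ?_
    rw [← hu ψ, Finset.mul_sum]
    refine Finset.sum_congr rfl fun k _ => ?_
    ring
  have h3 : Ξ 1 = ∑ ψ, (m ψ : ℂ) * (ψ : K → ℂ) 1 := hΞk 1
  simp only [mul_add, Finset.sum_add_distrib] at h
  rw [h1, h2, h3, zero_add] at h
  have hθ1 : θ 1 = ((charDegree θ : ℕ) : ℂ) :=
    (Cfsg.Agent.Lib.Char.Values.IsCharacter.charDegree_cast
      (Cfsg.Agent.Lib.Char.Values.IsIrrCharacter.isCharacter hθ)).symm
  have h4 : ((charDegree θ + ∑ ψ, m ψ * (if ψ ∈ e then 0 else charDegree (ψ : K → ℂ)) : ℕ) : ℂ) = 0 := by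
    push_cast
    rw [← hθ1]
    have h5 : ∑ ψ, (m ψ : ℂ) * (if ψ ∈ e then (ψ : K → ℂ) 1 else 0) +
        ∑ ψ : IrrCharacter K, (m ψ : ℂ) * ((if ψ ∈ e then ((0 : ℕ) : ℂ) else ((charDegree (ψ : K → ℂ) : ℕ) : ℂ))) =
        ∑ ψ, (m ψ : ℂ) * (ψ : K → ℂ) 1 := by
      rw [← Finset.sum_add_distrib]
      refine Finset.sum_congr rfl fun ψ _ => ?_
      by_cases hψ : ψ ∈ e
      · simp [hψ]
      · simp [hψ, hd ψ]
    simp only [Nat.cast_ite, Nat.cast_zero] at h5 ⊢
    linear_combination h5 - h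
  have h5 : charDegree θ = 0 := by
    have h6 : charDegree θ + ∑ ψ, m ψ * (if ψ ∈ e then 0 else charDegree (ψ : K → ℂ)) = 0 := by
      exact_mod_cast h4
    omega
  have h6 := Cfsg.Agent.Lib.Char.Ortho.irr_apply_one_ne_zero hθ
  rw [hθ1, h5] at h6
  simp at h6

end Weight

section Weight2

variable {G : Type u} [Group G] [Fintype G] {M : Ideal AlgInt} [hM : M.IsPrime]
variable {p : ℕ} [Fact p.Prime]

/-- A character of the block of defect zero modulo `Z(Q)` forces `Z(Q)` to be a defect group. -/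
theorem isDefectGroup_center_of_theta (hMp : IsPModular p M) {Q : Subgroup G}
    {e : Set (IrrCharacter (Subgroup.centralizer (Q : Set G)))} (he : IsBrauerPair p M Q e)
    {θ : IrrCharacter (Subgroup.centralizer (Q : Set G))} (hθ : θ ∈ e)
    (hker : ∀ z : Subgroup.centralizer (Q : Set G), (z : G) ∈ Q →
        (θ : Subgroup.centralizer (Q : Set G) → ℂ) z = (θ : Subgroup.centralizer (Q : Set G) → ℂ) 1)
    (hdeg : (charDegree (θ : Subgroup.centralizer (Q : Set G) → ℂ)).factorization p +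
        (Nat.card ↥(Q ⊓ Subgroup.centralizer (Q : Set G))).factorization p =
        (Nat.card (Subgroup.centralizer (Q : Set G))).factorization p) :
    IsDefectGroup p M e
      ((Q ⊓ Subgroup.centralizer (Q : Set G)).subgroupOf (Subgroup.centralizer (Q : Set G))) := by
  classical
  haveI hn := normal_center_subgroupOf Q
  have hZp : IsPGroup p ((Q ⊓ Subgroup.centralizer (Q : Set G)).subgroupOf (Subgroup.centralizer (Q : Set G))) :=
    (he.1.to_le inf_le_left).comap_of_injective _ (Subgroup.subtype_injective _)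
  have hC : ∃ k : ℕ, (Subgroup.centralizer (((Q ⊓ Subgroup.centralizer (Q : Set G)).subgroupOf
      (Subgroup.centralizer (Q : Set G)) : Subgroup _) : Set (Subgroup.centralizer (Q : Set G)))).index = p ^ k := by
    refine ⟨0, ?_⟩
    rw [pow_zero, Subgroup.index_eq_one, Subgroup.eq_top_iff']
    intro c
    rw [Subgroup.mem_centralizer_iff]
    intro z hz
    apply Subtype.ext
    have hz' : (z : G) ∈ Q := (Subgroup.mem_subgroupOf.mp hz).1
    exact (Subgroup.mem_centralizer_iff.mp c.2 _ hz')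
  have hdegZ : (charDegree (θ : Subgroup.centralizer (Q : Set G) → ℂ)).factorization p +
      (Nat.card ((Q ⊓ Subgroup.centralizer (Q : Set G)).subgroupOf (Subgroup.centralizer (Q : Set G)) : Subgroup _)).factorization p =
      (Nat.card (Subgroup.centralizer (Q : Set G))).factorization p := by
    rw [card_subgroupOf_inf_right]
    exact hdeg
  have hebl : e = blockOf M (θ : Subgroup.centralizer (Q : Set G) → ℂ) := isPBlock_eq_blockOf he.2 hθ
  obtain ⟨x₀, S₀, -, hdef⟩ := exists_isDefectGroup hMp he.2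
  have hdef' := hdef
  rw [hebl] at hdef'
  have hcardle := card_defect_le_of_kernel hMp _ hZp hC
    (fun n hn' => hker n (Subgroup.mem_subgroupOf.mp hn').1) hdegZ hdef'
  have hZD := (Cfsg.Agent.Lib.Basic.PCore.le_pCore hn hZp).trans (Cfsg.Agent.S0912.result p M hMp e he.2 _ hdef)
  have heq := Subgroup.eq_of_le_of_card_ge hZD hcardle
  rw [← heq] at hdef
  exact hdef

/-- **S4694**. -/
theorem weight_facts (hMp : IsPModular p M) {Q : Subgroup G}
    {e : Set (IrrCharacter (Subgroup.centralizer (Q : Set G)))} (he : IsBrauerPair p M Q e) {T : Subgroup G}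
    (hT : ∀ y : G, y ∈ T ↔ y ∈ Subgroup.normalizer (Q : Set G) ∧
      StabilizesBlock (Subgroup.centralizer (Q : Set G)) e y)
    {F' : Set (IrrCharacter T)} (hF'e : ∀ t : T, blockCoeff F' t =
      subgroupBlockCoeff (Subgroup.centralizer (Q : Set G)) e (t : G))
    {χ : IrrCharacter T} (hχ : χ ∈ F')
    (hχQ : ∀ q : G, q ∈ Q → ∀ t : T, ∀ t' : T, (t' : G) = q * (t : G) → (χ : T → ℂ) t' = (χ : T → ℂ) t)
    (hdeg : (charDegree (χ : T → ℂ)).factorization p + (Nat.card Q).factorization p =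
      (Nat.card T).factorization p) :
    IsDefectGroup p M e ((Q ⊓ Subgroup.centralizer (Q : Set G)).subgroupOf (Subgroup.centralizer (Q : Set G))) ∧
      ∀ R : Subgroup G, R ≤ T → IsPGroup p R → (∀ t ∈ T, t ∈ Subgroup.normalizer (R : Set G)) → R ≤ Q := by
  classical
  obtain ⟨h1, h2, h3, h4, h5⟩ := stabilizer_facts hT
  haveI hQ'n : (Q.subgroupOf T).Normal := (Subgroup.normal_subgroupOf_iff_le_normalizer h1).mpr h3
  letI : Fintype (T ⧸ Q.subgroupOf T) := Fintype.ofFinite _
  have hker : ∀ n ∈ Q.subgroupOf T, (χ : T → ℂ) n = (χ : T → ℂ) 1 :=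
    fun n hn => hχQ n (Subgroup.mem_subgroupOf.mp hn) 1 n (by simp)
  obtain ⟨η, hη⟩ := Cfsg.Agent.Lib.Blocks.Kernel.exists_irr_of_kernel _ χ.2 hker
  have hdeg1 : charDegree (η : T ⧸ Q.subgroupOf T → ℂ) = charDegree (χ : T → ℂ) := by
    rw [hη]
    simp [charDegree]
  have hcard : Nat.card T = Nat.card (T ⧸ Q.subgroupOf T) * Nat.card Q := by
    have := Subgroup.card_eq_card_quotient_mul_card_subgroup (Q.subgroupOf T)
    rwa [card_subgroupOf_of_le h1] at this
  have hq0 : Nat.card (T ⧸ Q.subgroupOf T) ≠ 0 := Nat.card_pos.ne'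
  have hn0 : Nat.card Q ≠ 0 := Nat.card_pos.ne'
  have hdegη : (charDegree (η : T ⧸ Q.subgroupOf T → ℂ)).factorization p =
      (Nat.card (T ⧸ Q.subgroupOf T)).factorization p := by
    rw [hcard, Nat.factorization_mul hq0 hn0, Finsupp.add_apply] at hdeg
    rw [hdeg1]
    omega
  constructor
  · -- the image of `C_G(Q)`
    let π : Subgroup.centralizer (Q : Set G) →* T ⧸ Q.subgroupOf T :=
      (QuotientGroup.mk' (Q.subgroupOf T)).comp (Subgroup.inclusion h2)
    haveI hNn : π.range.Normal := by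
      constructor
      rintro _ ⟨k, rfl⟩ g
      obtain ⟨t, rfl⟩ := QuotientGroup.mk_surjective g
      have ht : (t : G) * k * (t : G)⁻¹ ∈ Subgroup.centralizer (Q : Set G) :=
        (Subgroup.mem_normalizer_iff.mp (h4 t.2) _).mp k.2
      refine ⟨⟨_, ht⟩, ?_⟩
      show ((Subgroup.inclusion h2 ⟨_, ht⟩ : T) : T ⧸ Q.subgroupOf T) = _
      rw [← QuotientGroup.mk_inv]
      show _ = ((t * Subgroup.inclusion h2 k * t⁻¹ : T) : T ⧸ Q.subgroupOf T)
      rfl
    letI : Fintype π.range := Fintype.ofFinite _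
    have hπs : Function.Surjective π.rangeRestrict := MonoidHom.rangeRestrict_surjective π
    have hres := Cfsg.Agent.Lib.Char.Basic.isCharacter_restrict
      (Cfsg.Agent.Lib.Char.Basic.isCharacter_of_isIrrCharacter η.2) π.range
    have hres1 : (fun n : π.range => (η : T ⧸ Q.subgroupOf T → ℂ) n) 1 ≠ 0 :=
      Cfsg.Agent.Lib.Char.Ortho.irr_apply_one_ne_zero η.2
    obtain ⟨ϑ, hϑ, hcon⟩ := Cfsg.Agent.Lib.Char.CliffordCorr.exists_irr_constituent hres hres1
    obtain ⟨e', he', hed⟩ := Cfsg.Agent.Lib.Char.DegreeDvd.exists_degree_ratio π.range η.2 hϑ hcon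
    obtain ⟨Ξ, hΞ, hsum⟩ := Cfsg.Agent.Lib.Char.Clifford.exists_char_add hres hϑ hcon
    have hθ₀ := Cfsg.Agent.Lib.Char.Basic.isIrrCharacter_comp_surjective hϑ π.rangeRestrict hπs
    have hΞ₀ := Cfsg.Agent.Lib.Char.Basic.isCharacter_comp_hom hΞ π.rangeRestrict
    have hval : ∀ k : Subgroup.centralizer (Q : Set G), (χ : T → ℂ) (Subgroup.inclusion h2 k) =
        (fun c => ϑ (π.rangeRestrict c)) k + (fun c => Ξ (π.rangeRestrict c)) k := by
      intro k
      have h6 := congrFun hη (Subgroup.inclusion h2 k)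
      have h7 := congrFun hsum (π.rangeRestrict k)
      rw [h6]
      exact h7
    have hsum1 : ∑ k, blockCoeff e k * ((fun c => ϑ (π.rangeRestrict c)) k + (fun c => Ξ (π.rangeRestrict c)) k) =
        (fun c => ϑ (π.rangeRestrict c)) 1 + (fun c => Ξ (π.rangeRestrict c)) 1 := by
      have h8 : omega (χ : T → ℂ) (blockElt F') = 1 := omega_blockElt_of_mem hχ
      rw [omega, div_eq_iff (Cfsg.Agent.Lib.Char.Ortho.irr_apply_one_ne_zero χ.2), one_mul] at h8
      simp only [coeff_blockElt] at h8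
      have h9 : ∑ t : T, blockCoeff F' t * (χ : T → ℂ) t =
          ∑ k : Subgroup.centralizer (Q : Set G), blockCoeff e k * (χ : T → ℂ) (Subgroup.inclusion h2 k) := by
        symm
        apply Fintype.sum_of_injective (Subgroup.inclusion h2) (Subgroup.inclusion_injective h2)
        · intro t ht
          have h10 : (t : G) ∉ Subgroup.centralizer (Q : Set G) := fun h => ht ⟨⟨t, h⟩, rfl⟩
          rw [hF'e, subgroupBlockCoeff_of_notMem _ h10, zero_mul]
        · intro k
          rw [hF'e]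
          show _ = subgroupBlockCoeff _ e (k : G) * _
          rw [subgroupBlockCoeff_coe]
      rw [h9] at h8
      simp only [hval] at h8
      rw [h8]
      have h10 := hval 1
      simpa using h10
    have hθe := mem_of_sum_blockCoeff hθ₀ hΞ₀ hsum1
    refine isDefectGroup_center_of_theta hMp he hθe ?_ ?_
    · intro z hz
      have h6 : π.rangeRestrict z = 1 := by
        apply Subtype.ext
        show ((Subgroup.inclusion h2 z : T) : T ⧸ Q.subgroupOf T) = 1
        rw [QuotientGroup.eq_one_iff]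
        exact Subgroup.mem_subgroupOf.mpr hz
      show ϑ (π.rangeRestrict z) = ϑ (π.rangeRestrict 1)
      rw [h6, map_one]
    · have hd1 : charDegree (fun c => ϑ (π.rangeRestrict c)) = charDegree ϑ := by
        simp [charDegree]
      show (charDegree (fun c => ϑ (π.rangeRestrict c))).factorization p + _ = _
      rw [hd1]
      have hcϑ : ((charDegree ϑ : ℕ) : ℂ) = ϑ 1 := Cfsg.Agent.Lib.Char.Values.IsCharacter.charDegree_cast
        (Cfsg.Agent.Lib.Char.Values.IsIrrCharacter.isCharacter hϑ)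
      have hcη : ((charDegree (η : T ⧸ Q.subgroupOf T → ℂ) : ℕ) : ℂ) = (η : T ⧸ Q.subgroupOf T → ℂ) 1 :=
        Cfsg.Agent.Lib.Char.Values.IsCharacter.charDegree_cast
          (Cfsg.Agent.Lib.Char.Values.IsIrrCharacter.isCharacter η.2)
      have hmul : charDegree (η : T ⧸ Q.subgroupOf T → ℂ) = e' * charDegree ϑ := by
        have h6 : ((charDegree (η : T ⧸ Q.subgroupOf T → ℂ) : ℕ) : ℂ) = ((e' * charDegree ϑ : ℕ) : ℂ) := by
          rw [hcη, he']
          push_cast
          rw [hcϑ]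
        exact_mod_cast h6
      have hd0 : charDegree (η : T ⧸ Q.subgroupOf T → ℂ) ≠ 0 := by
        intro h0
        have h6 := Cfsg.Agent.Lib.Char.Ortho.irr_apply_one_ne_zero η.2
        rw [← hcη, h0] at h6
        simp at h6
      have he0 : e' ≠ 0 := fun h => hd0 (by rw [hmul, h, zero_mul])
      have hϑ0 : charDegree ϑ ≠ 0 := fun h => hd0 (by rw [hmul, h, mul_zero])
      have hi0 : π.range.index ≠ 0 := Subgroup.index_ne_zero_of_finite
      have hr0 : Nat.card π.range ≠ 0 := Nat.card_pos.ne'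
      have hz0 : Nat.card ↥(Q ⊓ Subgroup.centralizer (Q : Set G)) ≠ 0 := Nat.card_pos.ne'
      have e1 := congrArg (fun f => f p) (Nat.factorization_mul he0 hϑ0)
      simp only [Finsupp.add_apply, ← hmul] at e1
      have e2 := congrArg (fun f => f p) (Nat.factorization_mul hi0 hr0)
      simp only [Finsupp.add_apply] at e2
      rw [mul_comm, Subgroup.card_mul_index] at e2
      have e3 := (Nat.factorization_le_iff_dvd he0 hi0).mpr hed p
      have e4 := (Nat.factorization_le_iff_dvd hϑ0 hr0).mpr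
        (Cfsg.Agent.Lib.Blocks.HeightZero.charDegree_dvd_card hϑ) p
      have hker' : π.ker = (Q ⊓ Subgroup.centralizer (Q : Set G)).subgroupOf (Subgroup.centralizer (Q : Set G)) := by
        ext k
        rw [MonoidHom.mem_ker, Subgroup.mem_subgroupOf]
        constructor
        · intro h6
          have h7 := (QuotientGroup.eq_one_iff _).mp h6
          exact ⟨Subgroup.mem_subgroupOf.mp h7, k.2⟩
        · intro h6
          exact (QuotientGroup.eq_one_iff _).mpr (Subgroup.mem_subgroupOf.mpr h6.1)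
      have e5 : Nat.card (Subgroup.centralizer (Q : Set G)) =
          Nat.card π.range * Nat.card ↥(Q ⊓ Subgroup.centralizer (Q : Set G)) := by
        rw [← card_subgroupOf_inf_right, ← hker', ← Subgroup.index_ker, mul_comm, Subgroup.card_mul_index]
      have e6 := congrArg (fun f => f p) (Nat.factorization_mul hr0 hz0)
      simp only [Finsupp.add_apply, ← e5] at e6
      omega
  · intro R hRT hRp hRN
    have hb := blockOf_eq_singleton hMp hdegη
    have hbb : IsPBlock M (blockOf M (η : T ⧸ Q.subgroupOf T → ℂ)) := ⟨η, rfl⟩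
    obtain ⟨x₀, S₀, -, hdef⟩ := exists_isDefectGroup hMp hbb
    have hcardD := Cfsg.Agent.S0908.result p M hMp _ hbb _ hdef
    have hdefect0 : blockDefect p (blockOf M (η : T ⧸ Q.subgroupOf T → ℂ)) = 0 := by
      unfold blockDefect
      rw [hb, Set.image_singleton, csInf_singleton, hdegη, Nat.sub_self]
    rw [hdefect0, pow_zero] at hcardD
    haveI hRn : (R.subgroupOf T).Normal :=
      (Subgroup.normal_subgroupOf_iff_le_normalizer hRT).mpr (fun t ht => hRN t ht)
    have hn := hRn.map (QuotientGroup.mk' (Q.subgroupOf T)) (QuotientGroup.mk'_surjective _)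
    have hp : IsPGroup p ((R.subgroupOf T).map (QuotientGroup.mk' (Q.subgroupOf T))) :=
      (hRp.comap_of_injective _ (Subgroup.subtype_injective _)).map _
    have hle := (Cfsg.Agent.Lib.Basic.PCore.le_pCore hn hp).trans (Cfsg.Agent.S0912.result p M hMp _ hbb _ hdef)
    have hbot : (R.subgroupOf T).map (QuotientGroup.mk' (Q.subgroupOf T)) = ⊥ :=
      (Subgroup.card_le_one_iff_eq_bot _).mp ((Subgroup.card_le_of_le hle).trans hcardD.le)
    intro r hr
    have h6 : (QuotientGroup.mk' (Q.subgroupOf T)) ⟨r, hRT hr⟩ ∈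
        (R.subgroupOf T).map (QuotientGroup.mk' (Q.subgroupOf T)) :=
      ⟨⟨r, hRT hr⟩, Subgroup.mem_subgroupOf.mpr hr, rfl⟩
    rw [hbot] at h6
    exact Subgroup.mem_subgroupOf.mp ((QuotientGroup.eq_one_iff _).mp h6)

end Weight2

end Cfsg.Agent.Lib.Blocks.Pairs
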