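/-
Brauer pairs: the centric reduction.
-/
import Mathlib
import Cfsg.Agent.Lib.Blocks.Pairs13

set_option autoImplicit false

namespace Cfsg.Agent.Lib.Blocks.Pairs

open Cfsg Cfsg.Agent.Lib.Blocks.Local Cfsg.Agent.Lib.Blocks.Central Cfsg.Agent.Lib.Blocks.Osima
open Cfsg.Agent.Lib.Blocks.Covering Cfsg.Agent.Lib.Blocks.BrauerMap Cfsg.Agent.Lib.Blocks.Transport
open Cfsg.Agent.Lib.Blocks.BlockHom Cfsg.Agent.Lib.Blocks.Twisted Cfsg.Agent.Lib.Blocks.Dominate

universe u

section Centric

variable {G : Type u} [Group G] [Fintype G] {M : Ideal AlgInt} [hM : M.IsPrime]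
variable {p : ℕ} [Fact p.Prime]

/-- If `G` stabilizes `(Q, f)`, the idempotent of `f` is that of a block of `G`. -/
theorem exists_block_of_global (hMp : IsPModular p M) {Q : Subgroup G} (hQ : IsPGroup p Q)
    {f : Set (IrrCharacter (Subgroup.centralizer (Q : Set G)))} (hf : IsPBlock M f)
    (hG : ∀ x : G, x ∈ Subgroup.normalizer (Q : Set G) ∧
      StabilizesBlock (Subgroup.centralizer (Q : Set G)) f x) :
    ∃ B₀ : Set (IrrCharacter G), IsPBlock M B₀ ∧ (∀ g, blockCoeff B₀ g = subgroupBlockCoeff (Subgroup.centralizer (Q : Set G)) f g) ∧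
      IsBrauerPairOf p M B₀ Q f := by
  classical
  obtain ⟨F₀, hF₀, hF₀c⟩ := exists_block_of_stabilizer hMp hQ hf (T := ⊤)
    (fun y => ⟨fun _ => hG y, fun _ => Subgroup.mem_top y⟩)
  have hB₀ : IsPBlock M (blockMap (Subgroup.topEquiv (G := G)).symm F₀) := isPBlock_blockMap _ hF₀
  have hB₀c : ∀ g, blockCoeff (blockMap (Subgroup.topEquiv (G := G)).symm F₀) g =
      subgroupBlockCoeff (Subgroup.centralizer (Q : Set G)) f g := fun g => by
    rw [blockCoeff_blockMap, hF₀c]
    rfl
  refine ⟨_, hB₀, hB₀c, ⟨hQ, hf⟩, hB₀, fun ξ hξ => ?_⟩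
  have h1 : blockCoeff (blockMap (Subgroup.topEquiv (G := G)).symm F₀) =
      subgroupBlockCoeff (Subgroup.centralizer (Q : Set G)) f := funext hB₀c
  have h2 : brauerOmega Q (blockCoeff (blockMap (Subgroup.topEquiv (G := G)).symm F₀))
      (ξ : Subgroup.centralizer (Q : Set G) → ℂ) = 1 := by
    rw [h1, brauerOmega_subgroupBlockCoeff]
    unfold bv
    rw [res_EE, omega_blockElt_of_mem hξ]
  rw [h2, sub_self]
  exact memLocalIdeal_zero

/-- **S4693**. -/
theorem centric_reduction (hMp : IsPModular p M) {B : Set (IrrCharacter G)} {P Q : Subgroup G}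
    {e : Set (IrrCharacter (Subgroup.centralizer (P : Set G)))}
    {f : Set (IrrCharacter (Subgroup.centralizer (Q : Set G)))} {F : FusionSystem P}
    (hF : IsBlockFusionSystemOn p M B P e F) (hQP : Q ≤ P) (hf : IsPBlock M f)
    (hle : SubpairLE p M Q f P e) (hcen : F.IsCentric Q)
    (hG : ∀ x : G, x ∈ Subgroup.normalizer (Q : Set G) ∧
      StabilizesBlock (Subgroup.centralizer (Q : Set G)) f x) :
    (∀ g : G, MemLocalIdeal M (blockCoeff B g - subgroupBlockCoeff (Subgroup.centralizer (Q : Set G)) f g)) ∧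
      ∃ F' : Set (IrrCharacter ↥(Q ⊔ Subgroup.centralizer (Q : Set G))), IsPBlock M F' ∧
        (∀ t : ↥(Q ⊔ Subgroup.centralizer (Q : Set G)), blockCoeff F' t =
          subgroupBlockCoeff (Subgroup.centralizer (Q : Set G)) f (t : G)) ∧
        IsNilpotentBlock p M F' := by
  classical
  have hPe := hF.1.1.1
  have hQp : IsPGroup p Q := hPe.1.to_le hQP
  have hBf : IsBrauerPairOf p M B Q f := (isBrauerPairOf_iff_of_subpairLE hMp ⟨hQp, hf⟩ hle).mp hF.1.1
  constructor
  · obtain ⟨B₀, hB₀, hB₀c, hB₀f⟩ := exists_block_of_global hMp hQp hf hG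
    have h1 : B = B₀ := (existsUnique_block_of_pair hMp ⟨hQp, hf⟩).unique hBf hB₀f
    intro g
    rw [h1, hB₀c, sub_self]
    exact memLocalIdeal_zero
  · have hXN : Q ⊔ Subgroup.centralizer (Q : Set G) ≤ Subgroup.normalizer (Q : Set G) := fun x _ => (hG x).1
    have hXK : Q ⊔ Subgroup.centralizer (Q : Set G) ≤
        Subgroup.normalizer ((Subgroup.centralizer (Q : Set G) : Subgroup G) : Set G) := fun x _ => (hG x).2.1
    obtain ⟨F', hF', hF'c⟩ := exists_block_orbitU hMp hQp le_sup_left le_sup_right hXN hXK hf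
    rw [orbitU_eq_of_stable hXK (fun u _ => (hG u).2)] at hF'c
    refine ⟨F', hF', hF'c, hF', ?_⟩
    intro R' g' hRg' x _ _ hxreg
    have hD := (isCentric_iff hMp hF hQP hf hle).mp hcen
    obtain ⟨y, hyR, hy⟩ := exists_coeff_of_pair hRg'
    rw [hF'c] at hy
    have hyK : (y : G) ∈ Subgroup.centralizer (Q : Set G) := by
      by_contra hyK
      apply hy
      rw [subgroupBlockCoeff_of_notMem _ hyK]
      exact memLocalIdeal_zero
    rw [subgroupBlockCoeff_of_mem _ hyK] at hy
    have hRp : IsPGroup p (R'.map (Q ⊔ Subgroup.centralizer (Q : Set G)).subtype) := hRg'.1.1.map _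
    have hRX : R'.map (Q ⊔ Subgroup.centralizer (Q : Set G)).subtype ≤ Q ⊔ Subgroup.centralizer (Q : Set G) :=
      Subgroup.map_subtype_le _
    have hSp : IsPGroup p (R'.map (Q ⊔ Subgroup.centralizer (Q : Set G)).subtype ⊔ Q : Subgroup G) :=
      hRp.to_sup_of_normal_right' hQp (hRX.trans hXN)
    have hyS : (R'.map (Q ⊔ Subgroup.centralizer (Q : Set G)).subtype ⊔ Q : Subgroup G) ≤
        Subgroup.centralizer ({(y : G)} : Set G) := by
      apply sup_le
      · rintro _ ⟨r, hr, rfl⟩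
        have h1 := Subgroup.mem_centralizer_iff.mp hyR r hr
        exact Subgroup.mem_centralizer_singleton_iff.mpr (congrArg Subtype.val h1)
      · intro q hq
        exact Subgroup.mem_centralizer_singleton_iff.mpr (Subgroup.mem_centralizer_iff.mp hyK q hq)
    have hS₁p : IsPGroup p (((R'.map (Q ⊔ Subgroup.centralizer (Q : Set G)).subtype ⊔ Q : Subgroup G) ⊓
        Subgroup.centralizer (Q : Set G)).subgroupOf (Subgroup.centralizer (Q : Set G))) :=
      (hSp.to_le inf_le_left).comap_of_injective _ (Subgroup.subtype_injective _)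
    have hS₁c : ((R'.map (Q ⊔ Subgroup.centralizer (Q : Set G)).subtype ⊔ Q : Subgroup G) ⊓
        Subgroup.centralizer (Q : Set G)).subgroupOf (Subgroup.centralizer (Q : Set G)) ≤
        Subgroup.centralizer ({(⟨(y : G), hyK⟩ : Subgroup.centralizer (Q : Set G))} : Set _) := by
      intro d hd
      rw [Subgroup.mem_subgroupOf] at hd
      rw [Subgroup.mem_centralizer_singleton_iff]
      apply Subtype.ext
      exact Subgroup.mem_centralizer_singleton_iff.mp (hyS hd.1)
    obtain ⟨c, hc⟩ := exists_le_conj_of_coeff hMp hf hD hy hS₁p hS₁c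
    have hS₁Q : ((R'.map (Q ⊔ Subgroup.centralizer (Q : Set G)).subtype ⊔ Q : Subgroup G) ⊓
        Subgroup.centralizer (Q : Set G)) ≤ Q := by
      intro s hs
      obtain ⟨z, hz, hzc⟩ := hc (Subgroup.mem_subgroupOf.mpr
        (show ((⟨s, hs.2⟩ : Subgroup.centralizer (Q : Set G)) : G) ∈ _ from hs))
      have hz' : (z : G) ∈ Q := (Subgroup.mem_subgroupOf.mp hz).1
      have h1 : (c : G) * z * (c : G)⁻¹ = z := by
        have := Subgroup.mem_centralizer_iff.mp c.2 _ hz'
        rw [← this, mul_assoc, mul_inv_cancel, mul_one]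
      have h2 : (c : G) * z * (c : G)⁻¹ = s := congrArg Subtype.val hzc
      rw [← h2, h1]
      exact hz'
    have hdec : ∀ w ∈ Q ⊔ Subgroup.centralizer (Q : Set G), ∃ q ∈ Q, ∃ k ∈ Subgroup.centralizer (Q : Set G), w = q * k := by
      intro w hw
      have h1 : (w : G) ∈ ((Q ⊔ Subgroup.centralizer (Q : Set G) : Subgroup G) : Set G) := hw
      rw [Subgroup.coe_mul_of_left_le_normalizer_right Q _
        (Subgroup.le_normalizer.trans (normalizer_le_normalizer_centralizer Q))] at h1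
      obtain ⟨q, hq, k, hk, rfl⟩ := h1
      exact ⟨q, hq, k, hk, rfl⟩
    have hSQ : (R'.map (Q ⊔ Subgroup.centralizer (Q : Set G)).subtype ⊔ Q : Subgroup G) ≤ Q := by
      intro s hs
      obtain ⟨q, hq, k, hk, rfl⟩ := hdec s ((sup_le hRX le_sup_left) hs)
      have hq' : q ∈ (R'.map (Q ⊔ Subgroup.centralizer (Q : Set G)).subtype ⊔ Q : Subgroup G) :=
        (le_sup_right : Q ≤ _) hq
      have hk' : k ∈ (R'.map (Q ⊔ Subgroup.centralizer (Q : Set G)).subtype ⊔ Q : Subgroup G) := by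
        have := Subgroup.mul_mem _ (Subgroup.inv_mem _ hq') hs
        simpa using this
      exact Subgroup.mul_mem _ hq (hS₁Q ⟨hk', hk⟩)
    have hRQ : ∀ r ∈ R', ((r : ↥(Q ⊔ Subgroup.centralizer (Q : Set G))) : G) ∈ Q := fun r hr =>
      hSQ (Subgroup.mem_sup_left ⟨r, hr, rfl⟩)
    -- a `p`-regular element centralizes `R'`
    rw [Subgroup.mem_centralizer_iff]
    intro r hr
    apply Subtype.ext
    have hrQ := hRQ r hr
    obtain ⟨q, hq, k, hk, hx⟩ := hdec x x.2
    have hkr : Commute k ((r : ↥(Q ⊔ Subgroup.centralizer (Q : Set G))) : G) :=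
      (Subgroup.mem_centralizer_iff.mp hk _ hrQ).symm
    have hqk : Commute q k := Subgroup.mem_centralizer_iff.mp hk q hq
    have hqp : ∃ j : ℕ, orderOf q = p ^ j := by
      obtain ⟨j, hj⟩ := (IsPGroup.iff_orderOf.1 hQp) ⟨q, hq⟩
      exact ⟨j, by rw [← Subgroup.orderOf_mk q hq]; exact hj⟩
    obtain ⟨j, hj⟩ := hqp
    have hreg : ¬ p ∣ orderOf (x : G) := by
      rw [Subgroup.orderOf_coe]
      exact hxreg
    have hcop : Nat.Coprime (orderOf (x : G)) (orderOf q) := by
      rw [hj]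
      exact Nat.Coprime.pow_right j ((Nat.Prime.coprime_iff_not_dvd Fact.out).2 hreg).symm
    have hxa : q ^ orderOf (x : G) * k ^ orderOf (x : G) = 1 := by
      rw [← hqk.mul_pow, ← hx, pow_orderOf_eq_one]
    have hqa : Commute (q ^ orderOf (x : G)) ((r : ↥(Q ⊔ Subgroup.centralizer (Q : Set G))) : G) := by
      rw [eq_inv_of_mul_eq_one_left hxa]
      exact (hkr.pow_left _).inv_left
    obtain ⟨u, hu⟩ := exists_pow_eq_self_of_coprime hcop
    have hqr : Commute q ((r : ↥(Q ⊔ Subgroup.centralizer (Q : Set G))) : G) := by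
      rw [← hu]
      exact hqa.pow_left u
    show ((r : ↥(Q ⊔ Subgroup.centralizer (Q : Set G))) : G) * x = x * ((r : ↥(Q ⊔ Subgroup.centralizer (Q : Set G))) : G)
    rw [hx]
    exact ((hqr.mul_left hkr)).symm

end Centric

end Cfsg.Agent.Lib.Blocks.Pairs
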