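/-
Brauer pairs: transport between a subgroup `W ≥ C_G(Q)` and `G`; local conjugacy.
-/
import Mathlib
import Cfsg.Agent.Lib.Blocks.Pairs14

set_option autoImplicit false

namespace Cfsg.Agent.Lib.Blocks.Pairs

open Cfsg Cfsg.Agent.Lib.Blocks.Local Cfsg.Agent.Lib.Blocks.Central Cfsg.Agent.Lib.Blocks.Osima
open Cfsg.Agent.Lib.Blocks.Covering Cfsg.Agent.Lib.Blocks.BrauerMap Cfsg.Agent.Lib.Blocks.Transport
open Cfsg.Agent.Lib.Blocks.BlockHom Cfsg.Agent.Lib.Blocks.Twisted Cfsg.Agent.Lib.Blocks.Dominate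

universe u

section LocalTransport

variable {G : Type u} [Group G]

/-- Centralizers in `W` and in `G` which have the same elements. -/
def cIso {W : Subgroup G} (A' : Subgroup W) (B : Subgroup G)
    (hCW : Subgroup.centralizer (B : Set G) ≤ W)
    (hC : ∀ c : W, c ∈ Subgroup.centralizer (A' : Set W) ↔ (c : G) ∈ Subgroup.centralizer (B : Set G)) :
    Subgroup.centralizer (A' : Set W) ≃* Subgroup.centralizer (B : Set G) where
  toFun z := ⟨((z : W) : G), (hC z).mp z.2⟩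
  invFun c := ⟨⟨c, hCW c.2⟩, (hC ⟨c, hCW c.2⟩).mpr c.2⟩
  left_inv z := Subtype.ext (Subtype.ext rfl)
  right_inv c := Subtype.ext rfl
  map_mul' a b := Subtype.ext rfl

@[simp] lemma coe_cIso {W : Subgroup G} (A' : Subgroup W) (B : Subgroup G)
    (hCW : Subgroup.centralizer (B : Set G) ≤ W)
    (hC : ∀ c : W, c ∈ Subgroup.centralizer (A' : Set W) ↔ (c : G) ∈ Subgroup.centralizer (B : Set G))
    (z : Subgroup.centralizer (A' : Set W)) : ((cIso A' B hCW hC z : Subgroup.centralizer (B : Set G)) : G) = ((z : W) : G) := rfl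

@[simp] lemma coe_cIso_symm {W : Subgroup G} (A' : Subgroup W) (B : Subgroup G)
    (hCW : Subgroup.centralizer (B : Set G) ≤ W)
    (hC : ∀ c : W, c ∈ Subgroup.centralizer (A' : Set W) ↔ (c : G) ∈ Subgroup.centralizer (B : Set G))
    (z : Subgroup.centralizer (B : Set G)) :
    (((cIso A' B hCW hC).symm z : Subgroup.centralizer (A' : Set W)) : G) = (z : G) := rfl

lemma brauerOmega_cIso {W : Subgroup G} {A' : Subgroup W} {B : Subgroup G}
    (hCW : Subgroup.centralizer (B : Set G) ≤ W)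
    (hC : ∀ c : W, c ∈ Subgroup.centralizer (A' : Set W) ↔ (c : G) ∈ Subgroup.centralizer (B : Set G))
    {β' : W → ℂ} {β : G → ℂ} (hβ : ∀ t : W, β' t = β t) (ξ : Subgroup.centralizer (B : Set G) → ℂ) :
    brauerOmega A' β' (fun z => ξ (cIso A' B hCW hC z)) = brauerOmega B β ξ := by
  unfold brauerOmega
  rw [← finsum_comp_equiv (cIso A' B hCW hC).toEquiv]
  refine finsum_congr fun z => ?_
  rw [hβ]
  show β _ * ξ _ / ξ (cIso A' B hCW hC 1) = _
  rw [map_one]
  rfl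

/-- `B` of the form `A'.map subtype` containing `Q`. -/
lemma centralizer_map_le {W Q : Subgroup G} (hCW : Subgroup.centralizer (Q : Set G) ≤ W)
    {A' : Subgroup W} (hA : Q.subgroupOf W ≤ A') (hQW : Q ≤ W) :
    Subgroup.centralizer ((A'.map W.subtype : Subgroup G) : Set G) ≤ W := by
  refine (Subgroup.centralizer_le ?_).trans hCW
  intro q hq
  exact ⟨⟨q, hQW hq⟩, hA (Subgroup.mem_subgroupOf.mpr hq), rfl⟩

lemma mem_centralizer_map_iff {W : Subgroup G} (A' : Subgroup W) (c : W) :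
    c ∈ Subgroup.centralizer (A' : Set W) ↔ (c : G) ∈ Subgroup.centralizer ((A'.map W.subtype : Subgroup G) : Set G) := by
  rw [Subgroup.mem_centralizer_iff, Subgroup.mem_centralizer_iff]
  constructor
  · rintro h _ ⟨a, ha, rfl⟩
    exact congrArg Subtype.val (h a ha)
  · intro h a ha
    exact Subtype.ext (h _ ⟨a, ha, rfl⟩)

/-- The iso for a subgroup of `W` containing `Q`. -/
noncomputable abbrev cU {W Q : Subgroup G} (hCW : Subgroup.centralizer (Q : Set G) ≤ W) (hQW : Q ≤ W)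
    (A' : Subgroup W) (hA : Q.subgroupOf W ≤ A') :
    Subgroup.centralizer (A' : Set W) ≃* Subgroup.centralizer ((A'.map W.subtype : Subgroup G) : Set G) :=
  cIso A' _ (centralizer_map_le hCW hA hQW) (mem_centralizer_map_iff A')

lemma map_subtype_le_normalizer {W : Subgroup G} {A₁ A₂ : Subgroup W}
    (h : A₂ ≤ Subgroup.normalizer (A₁ : Set W)) :
    A₂.map W.subtype ≤ Subgroup.normalizer ((A₁.map W.subtype : Subgroup G) : Set G) := by
  rintro _ ⟨a, ha, rfl⟩
  rw [Subgroup.mem_normalizer_iff]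
  intro g
  have hna := Subgroup.mem_normalizer_iff.mp (h ha)
  constructor
  · rintro ⟨b, hb, rfl⟩
    exact ⟨a * b * a⁻¹, (hna b).mp hb, rfl⟩
  · rintro ⟨b, hb, hbg⟩
    have hgW : g ∈ W := by
      have h1 : g = (a : G)⁻¹ * (b : G) * (a : G) := by
        have h2 : ((b : W) : G) = (a : G) * g * (a : G)⁻¹ := hbg
        rw [h2]
        group
      rw [h1]
      exact W.mul_mem (W.mul_mem (W.inv_mem a.2) b.2) a.2
    refine ⟨⟨g, hgW⟩, (hna _).mpr ?_, rfl⟩
    have h3 : a * (⟨g, hgW⟩ : W) * a⁻¹ = b := Subtype.ext hbg.symm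
    rw [h3]
    exact hb

variable [Fintype G] {M : Ideal AlgInt} [hM : M.IsPrime] {p : ℕ} [Fact p.Prime]

/-- A normal step in `W`, above `Q`, gives a normal step in `G`. -/
theorem isNormalSubpair_up {W Q : Subgroup G} (hCW : Subgroup.centralizer (Q : Set G) ≤ W) (hQW : Q ≤ W)
    {A₁ A₂ : Subgroup W} (h1 : Q.subgroupOf W ≤ A₁) (h2 : Q.subgroupOf W ≤ A₂)
    {h₁ : Set (IrrCharacter (Subgroup.centralizer (A₁ : Set W)))}
    {h₂ : Set (IrrCharacter (Subgroup.centralizer (A₂ : Set W)))}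
    (hn : IsNormalSubpair p M A₁ h₁ A₂ h₂) :
    IsNormalSubpair p M (A₁.map W.subtype) (blockMap (cU hCW hQW A₁ h1).symm h₁)
      (A₂.map W.subtype) (blockMap (cU hCW hQW A₂ h2).symm h₂) := by
  classical
  obtain ⟨⟨hp1, hb1⟩, ⟨hp2, hb2⟩, hle, hN, hst, hval⟩ := hn
  have hN' := map_subtype_le_normalizer hN
  refine ⟨⟨hp1.map _, isPBlock_blockMap _ hb1⟩, ⟨hp2.map _, isPBlock_blockMap _ hb2⟩,
    Subgroup.map_mono hle, hN', ?_, ?_⟩
  · rintro _ ⟨a, ha, rfl⟩
    refine ⟨normalizer_le_normalizer_centralizer _ (hN' ⟨a, ha, rfl⟩), ?_⟩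
    rintro χ hχ
    rw [mem_blockMap_iff] at hχ
    obtain ⟨χ', hχ', hc⟩ := (hst a ha).2 _ hχ
    refine ⟨irrComap (cU hCW hQW A₁ h1).symm χ', irrComap_mem_blockMap _ hχ', ?_⟩
    intro k k' hk
    have hk2 := hc ((cU hCW hQW A₁ h1).symm k) ((cU hCW hQW A₁ h1).symm k') (by
      apply Subtype.ext
      exact hk)
    show (χ' : _ → ℂ) ((cU hCW hQW A₁ h1).symm k') = _
    rw [hk2]
    show (χ : _ → ℂ) ((cU hCW hQW A₁ h1) ((cU hCW hQW A₁ h1).symm k)) = _
    rw [MulEquiv.apply_symm_apply]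
  · intro ξ hξ
    rw [mem_blockMap_iff] at hξ
    have h3 := hval _ hξ
    have hβ : ∀ t : W, subgroupBlockCoeff (Subgroup.centralizer (A₁ : Set W)) h₁ t =
        subgroupBlockCoeff (Subgroup.centralizer ((A₁.map W.subtype : Subgroup G) : Set G))
          (blockMap (cU hCW hQW A₁ h1).symm h₁) t := by
      intro t
      by_cases ht : t ∈ Subgroup.centralizer (A₁ : Set W)
      · rw [subgroupBlockCoeff_of_mem _ ht,
          subgroupBlockCoeff_of_mem _ ((mem_centralizer_map_iff A₁ t).mp ht), blockCoeff_blockMap]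
        rfl
      · rw [subgroupBlockCoeff_of_notMem _ ht,
          subgroupBlockCoeff_of_notMem _ (fun h => ht ((mem_centralizer_map_iff A₁ t).mpr h))]
    have h4 := brauerOmega_cIso (centralizer_map_le hCW h2 hQW) (mem_centralizer_map_iff A₂) hβ
      (ξ : Subgroup.centralizer ((A₂.map W.subtype : Subgroup G) : Set G) → ℂ)
    have h5 : ((irrComap (cU hCW hQW A₂ h2) ξ : IrrCharacter _) : _ → ℂ) =
        fun z => (ξ : Subgroup.centralizer ((A₂.map W.subtype : Subgroup G) : Set G) → ℂ) (cU hCW hQW A₂ h2 z) := rfl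
    have h6 : (blockMap (cU hCW hQW A₂ h2).symm h₂) = (blockMap (cU hCW hQW A₂ h2).symm h₂) := rfl
    rw [← h4]
    have h7 := hval (irrComap (cU hCW hQW A₂ h2) ξ) hξ
    rw [h5] at h7
    exact h7

/-- A chain in `W`, above `Q`, gives a chain in `G`. -/
theorem subpairLE_up {W Q : Subgroup G} (hCW : Subgroup.centralizer (Q : Set G) ≤ W) (hQW : Q ≤ W)
    {a b : BrauerPairIdx W} (hab : Relation.ReflTransGen (NormalSubpairRel p M) a b)
    (ha : Q.subgroupOf W ≤ a.1) :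
    ∃ hb : Q.subgroupOf W ≤ b.1, SubpairLE p M (a.1.map W.subtype) (blockMap (cU hCW hQW a.1 ha).symm a.2)
      (b.1.map W.subtype) (blockMap (cU hCW hQW b.1 hb).symm b.2) := by
  induction hab with
  | refl => exact ⟨ha, Relation.ReflTransGen.refl⟩
  | @tail c d _ hcd ih =>
    obtain ⟨hc, hle⟩ := ih
    have hd : Q.subgroupOf W ≤ d.1 := hc.trans hcd.2.2.1
    exact ⟨hd, hle.tail (isNormalSubpair_up hCW hQW hc hd hcd)⟩

/-- Congruence for inclusions of Brauer pairs. -/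
lemma subpairLE_congr {X₁ X₂ Y₁ Y₂ : Subgroup G} (hX : X₁ = X₂) (hY : Y₁ = Y₂)
    {b₁ : Set (IrrCharacter (Subgroup.centralizer (X₁ : Set G)))}
    {b₂ : Set (IrrCharacter (Subgroup.centralizer (X₂ : Set G)))}
    {c₁ : Set (IrrCharacter (Subgroup.centralizer (Y₁ : Set G)))}
    {c₂ : Set (IrrCharacter (Subgroup.centralizer (Y₂ : Set G)))}
    (hb : ∀ (ξ₁ : IrrCharacter (Subgroup.centralizer (X₁ : Set G))) (ξ₂ : IrrCharacter (Subgroup.centralizer (X₂ : Set G))),
      (∀ (u₁ : Subgroup.centralizer (X₁ : Set G)) (u₂ : Subgroup.centralizer (X₂ : Set G)),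
        (u₁ : G) = u₂ → (ξ₁ : _ → ℂ) u₁ = (ξ₂ : _ → ℂ) u₂) → (ξ₁ ∈ b₁ ↔ ξ₂ ∈ b₂))
    (hc : ∀ (ξ₁ : IrrCharacter (Subgroup.centralizer (Y₁ : Set G))) (ξ₂ : IrrCharacter (Subgroup.centralizer (Y₂ : Set G))),
      (∀ (u₁ : Subgroup.centralizer (Y₁ : Set G)) (u₂ : Subgroup.centralizer (Y₂ : Set G)),
        (u₁ : G) = u₂ → (ξ₁ : _ → ℂ) u₁ = (ξ₂ : _ → ℂ) u₂) → (ξ₁ ∈ c₁ ↔ ξ₂ ∈ c₂))
    (H : SubpairLE p M X₁ b₁ Y₁ c₁) : SubpairLE p M X₂ b₂ Y₂ c₂ := by
  subst hX hY
  have hbb : b₁ = b₂ := by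
    ext ξ
    exact hb ξ ξ (fun u₁ u₂ h => by rw [Subtype.ext h])
  have hcc : c₁ = c₂ := by
    ext ξ
    exact hc ξ ξ (fun u₁ u₂ h => by rw [Subtype.ext h])
  rw [← hbb, ← hcc]
  exact H

/-- The centralizer in `W` of `A.subgroupOf W`. -/
lemma mem_centralizer_subgroupOf_iff {W A : Subgroup G} (hAW : A ≤ W) (c : W) :
    c ∈ Subgroup.centralizer ((A.subgroupOf W : Subgroup W) : Set W) ↔ (c : G) ∈ Subgroup.centralizer (A : Set G) := by
  rw [Subgroup.mem_centralizer_iff, Subgroup.mem_centralizer_iff]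
  constructor
  · intro h a ha
    exact congrArg Subtype.val (h ⟨a, hAW ha⟩ (Subgroup.mem_subgroupOf.mpr ha))
  · intro h a ha
    exact Subtype.ext (h _ (Subgroup.mem_subgroupOf.mp ha))

/-- The iso for `A.subgroupOf W`. -/
noncomputable abbrev cD {W Q A : Subgroup G} (hCW : Subgroup.centralizer (Q : Set G) ≤ W) (hQA : Q ≤ A)
    (hAW : A ≤ W) :
    Subgroup.centralizer ((A.subgroupOf W : Subgroup W) : Set W) ≃* Subgroup.centralizer (A : Set G) :=
  cIso (A.subgroupOf W) A ((Subgroup.centralizer_le hQA).trans hCW) (mem_centralizer_subgroupOf_iff hAW)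

/-- From `(Q, f) ◁ (A, h)` in `G` to a Brauer pair of the block `F''` of `W` with the idempotent of `f`. -/
theorem isBrauerPairOf_down {W Q A : Subgroup G} (hCW : Subgroup.centralizer (Q : Set G) ≤ W)
    {f : Set (IrrCharacter (Subgroup.centralizer (Q : Set G)))} {F'' : Set (IrrCharacter W)} (hF'' : IsPBlock M F'')
    (hF''c : ∀ t : W, blockCoeff F'' t = subgroupBlockCoeff (Subgroup.centralizer (Q : Set G)) f t)
    (hQA : Q ≤ A) (hAW : A ≤ W) {h : Set (IrrCharacter (Subgroup.centralizer (A : Set G)))}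
    (hn : IsNormalSubpair p M Q f A h) :
    IsBrauerPairOf p M F'' (A.subgroupOf W) (blockMap (cD hCW hQA hAW) h) := by
  refine ⟨⟨hn.2.1.1.comap_of_injective _ (Subgroup.subtype_injective _), isPBlock_blockMap _ hn.2.1.2⟩, hF'', ?_⟩
  intro ξ hξ
  rw [mem_blockMap_iff] at hξ
  have h1 := hn.2.2.2.2.2 _ hξ
  have h2 := brauerOmega_cIso ((Subgroup.centralizer_le hQA).trans hCW) (mem_centralizer_subgroupOf_iff hAW)
    hF''c ((irrComap (cD hCW hQA hAW).symm ξ : IrrCharacter _) : Subgroup.centralizer (A : Set G) → ℂ)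
  rw [← h2] at h1
  convert h1 using 3
  funext z
  show _ = (ξ : _ → ℂ) ((cD hCW hQA hAW).symm (cD hCW hQA hAW z))
  rw [MulEquiv.symm_apply_apply]

/-- **Local conjugacy.** Let `W ≥ C_G(Q)`, `Q ≤ W ≤ N_G(Q)` and `F''` the block of `W` with the idempotent of `f`, with defect
group `D ≥ Q`. If `(Q, f) ◁ (D, h_D)` and `(Q, f) ◁ (A, h_A)` with `A ≤ W`, then some element of `W` moves `(A, h_A)`
below `(D, h_D)`. -/
theorem exists_conj_subpairLE_local (hMp : IsPModular p M) {Q W D A : Subgroup G} (hQW : Q ≤ W)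
    (hCW : Subgroup.centralizer (Q : Set G) ≤ W) (hWN : W ≤ Subgroup.normalizer (Q : Set G))
    {f : Set (IrrCharacter (Subgroup.centralizer (Q : Set G)))} {F'' : Set (IrrCharacter W)} (hF'' : IsPBlock M F'')
    (hF''c : ∀ t : W, blockCoeff F'' t = subgroupBlockCoeff (Subgroup.centralizer (Q : Set G)) f t)
    (hQD : Q ≤ D) (hDW : D ≤ W) (hDdef : IsDefectGroup p M F'' (D.subgroupOf W))
    {hD : Set (IrrCharacter (Subgroup.centralizer (D : Set G)))} (hnD : IsNormalSubpair p M Q f D hD)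
    (hQA : Q ≤ A) (hAW : A ≤ W) {hA : Set (IrrCharacter (Subgroup.centralizer (A : Set G)))}
    (hnA : IsNormalSubpair p M Q f A hA) :
    ∃ w ∈ W, SubpairLE p M (A.map (MulAut.conj w).toMonoidHom) (conjBlock A w hA) D hD := by
  classical
  have hBD := isBrauerPairOf_down hCW hF'' hF''c hQD hDW hnD
  have hBA := isBrauerPairOf_down hCW hF'' hF''c hQA hAW hnA
  have hmax := isMaximal_of_isDefectGroup hMp hBD hDdef
  obtain ⟨w, hw⟩ := exists_conj_subpairLE hMp hmax hBA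
  have hQn : (Q.subgroupOf W).Normal := (Subgroup.normal_subgroupOf_iff_le_normalizer hQW).mpr hWN
  have hQ' : Q.subgroupOf W ≤ (A.subgroupOf W).map (MulAut.conj w).toMonoidHom := by
    intro q hq
    refine ⟨w⁻¹ * q * w, Subgroup.mem_subgroupOf.mpr (hQA (Subgroup.mem_subgroupOf.mp ?_)), ?_⟩
    · have := hQn.conj_mem q hq w⁻¹
      rwa [inv_inv] at this
    · show w * (w⁻¹ * q * w) * w⁻¹ = q
      group
  obtain ⟨hb, hup⟩ := subpairLE_up hCW hQW hw hQ'
  have hX : (((A.subgroupOf W).map (MulAut.conj w).toMonoidHom).map W.subtype : Subgroup G) =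
      A.map (MulAut.conj (w : G)).toMonoidHom := by
    ext y
    constructor
    · rintro ⟨_, ⟨a, ha, rfl⟩, rfl⟩
      exact ⟨a, Subgroup.mem_subgroupOf.mp ha, rfl⟩
    · rintro ⟨a, ha, rfl⟩
      exact ⟨w * ⟨a, hAW ha⟩ * w⁻¹, ⟨⟨a, hAW ha⟩, Subgroup.mem_subgroupOf.mpr ha, rfl⟩, rfl⟩
  refine ⟨w, w.2, subpairLE_congr hX (Subgroup.map_subgroupOf_eq_of_le hDW) ?_ ?_ hup⟩
  · intro ξ₁ ξ₂ hξ
    rw [mem_blockMap_iff]
    constructor
    · rintro ⟨ξ', hξ', hspec⟩
      rw [mem_blockMap_iff] at hξ'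
      refine ⟨_, hξ', fun c c' hcc => ?_⟩
      have hc'X : (c' : G) ∈ Subgroup.centralizer ((((A.subgroupOf W).map (MulAut.conj w).toMonoidHom).map W.subtype : Subgroup G) : Set G) := by
        rw [hX]
        exact c'.2
      have h1 := hξ ⟨c', hc'X⟩ c' rfl
      rw [← h1]
      have h2 := hspec ((cD hCW hQA hAW).symm c)
        ((cU hCW hQW ((A.subgroupOf W).map (MulAut.conj w).toMonoidHom) hQ').symm ⟨c', hc'X⟩) (by
          apply Subtype.ext
          exact hcc)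
      have h3 : (ξ₁ : _ → ℂ) (cU hCW hQW ((A.subgroupOf W).map (MulAut.conj w).toMonoidHom) hQ'
          ((cU hCW hQW ((A.subgroupOf W).map (MulAut.conj w).toMonoidHom) hQ').symm ⟨c', hc'X⟩)) =
          (ξ' : _ → ℂ) ((cD hCW hQA hAW).symm c) := h2
      rw [MulEquiv.apply_symm_apply] at h3
      exact h3
    · rintro ⟨ξ, hξ', hspec⟩
      refine ⟨irrComap (cD hCW hQA hAW) ξ, irrComap_mem_blockMap _ hξ', fun c c' hcc => ?_⟩
      have hc'X : (cU hCW hQW ((A.subgroupOf W).map (MulAut.conj w).toMonoidHom) hQ' c' : G) ∈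
          Subgroup.centralizer ((A.map (MulAut.conj (w : G)).toMonoidHom : Subgroup G) : Set G) := by
        rw [← hX]
        exact (cU hCW hQW ((A.subgroupOf W).map (MulAut.conj w).toMonoidHom) hQ' c').2
      have h1 := hspec (cD hCW hQA hAW c) ⟨_, hc'X⟩ (congrArg Subtype.val hcc)
      have h2 := hξ (cU hCW hQW ((A.subgroupOf W).map (MulAut.conj w).toMonoidHom) hQ' c') ⟨_, hc'X⟩ rfl
      exact h2.trans h1
  · intro ξ₁ ξ₂ hξ
    rw [mem_blockMap_iff, mem_blockMap_iff]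
    have h1 : irrComap (cD hCW hQD hDW).symm (irrComap (cU hCW hQW (D.subgroupOf W) hb).symm.symm ξ₁) = ξ₂ := by
      apply Subtype.ext
      funext z
      exact hξ _ _ rfl
    rw [h1]

end LocalTransport

end Cfsg.Agent.Lib.Blocks.Pairs
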