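/-
Brauer pairs: abelian defect groups.
-/
import Mathlib
import Cfsg.Agent.Lib.Blocks.Pairs15
import Cfsg.Agent.Lib.Transfer.Basic

set_option autoImplicit false

namespace Cfsg.Agent.Lib.Blocks.Pairs

open Cfsg Cfsg.Agent.Lib.Blocks.Local Cfsg.Agent.Lib.Blocks.Central Cfsg.Agent.Lib.Blocks.Osima
open Cfsg.Agent.Lib.Blocks.Covering Cfsg.Agent.Lib.Blocks.BrauerMap Cfsg.Agent.Lib.Blocks.Transport
open Cfsg.Agent.Lib.Blocks.BlockHom Cfsg.Agent.Lib.Blocks.Twisted Cfsg.Agent.Lib.Blocks.Dominate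

universe u

section Abelian

variable {G : Type u} [Group G] [Fintype G] {M : Ideal AlgInt} [hM : M.IsPrime] {p : ℕ} [Fact p.Prime]

/-- An element stabilizing `(Q, f)` moves a normal overpair to a normal overpair. -/
lemma isNormalSubpair_conj_stable {Q A : Subgroup G} {x : G}
    {f : Set (IrrCharacter (Subgroup.centralizer (Q : Set G)))}
    {h : Set (IrrCharacter (Subgroup.centralizer (A : Set G)))}
    (hxN : x ∈ Subgroup.normalizer (Q : Set G)) (hxs : StabilizesBlock (Subgroup.centralizer (Q : Set G)) f x)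
    (hn : IsNormalSubpair p M Q f A h) :
    IsNormalSubpair p M Q f (A.map (MulAut.conj x).toMonoidHom) (conjBlock A x h) := by
  obtain ⟨hx, h2⟩ := stabilizesBlock_iff.mp hxs
  have h3 := isNormalSubpair_conj x (map_conj_of_mem_normalizer hxN) rfl
    (map_conj_of_mem_normalizer hx) (map_conj_centralizer A x) hn
  rwa [h2, ← conjBlock_eq_conjB] at h3

/-- An element of `P` stabilizes every block of `C_G(P)`. -/
lemma stabilizesBlock_of_mem_self {P : Subgroup G} {u : G} (hu : u ∈ P)
    (e : Set (IrrCharacter (Subgroup.centralizer (P : Set G)))) :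
    StabilizesBlock (Subgroup.centralizer (P : Set G)) e u :=
  stabilizesBlock_of_centralizes (Subgroup.mem_centralizer_iff.mpr fun c hc =>
    (Subgroup.mem_centralizer_iff.mp hc u hu).symm) e

omit [Fintype G] hM [Fact p.Prime] in
/-- A conjugation preserving `K` is in the normalizer. -/
lemma mem_normalizer_of_map_conj {K : Subgroup G} {y : G} (h : K.map (MulAut.conj y).toMonoidHom = K) :
    y ∈ Subgroup.normalizer (K : Set G) := by
  rw [Subgroup.mem_normalizer_iff]
  intro g
  constructor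
  · intro hg
    rw [← h]
    exact ⟨g, hg, rfl⟩
  · intro hg
    rw [← h] at hg
    obtain ⟨a, ha, hag⟩ := hg
    have h1 : y * a * y⁻¹ = y * g * y⁻¹ := hag
    have h2 : a = g := mul_left_cancel (mul_right_cancel h1)
    exact h2 ▸ ha

/-- An element normalizing `Q`, `P` and stabilizing `e` stabilizes the subpair on `Q`. -/
lemma stabilizesBlock_of_subpair (hMp : IsPModular p M) {P Q : Subgroup G}
    {e : Set (IrrCharacter (Subgroup.centralizer (P : Set G)))}
    {f : Set (IrrCharacter (Subgroup.centralizer (Q : Set G)))} (hPe : IsBrauerPair p M P e)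
    (hle : SubpairLE p M Q f P e) {y : G} (hyQ : y ∈ Subgroup.normalizer (Q : Set G))
    (hyP : y ∈ Subgroup.normalizer (P : Set G)) (hye : StabilizesBlock (Subgroup.centralizer (P : Set G)) e y) :
    StabilizesBlock (Subgroup.centralizer (Q : Set G)) f y := by
  obtain ⟨hx, h2⟩ := stabilizesBlock_iff.mp hye
  have hyQ' := normalizer_le_normalizer_centralizer Q hyQ
  have h3 := subpairLE_conj_gen y (map_conj_of_mem_normalizer hyQ) (map_conj_of_mem_normalizer hyP)
    (map_conj_of_mem_normalizer hyQ') (map_conj_of_mem_normalizer hx) hle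
  rw [h2] at h3
  have h4 := eq_of_subpairLE hMp hPe h3 hle
  exact stabilizesBlock_iff.mpr ⟨hyQ', h4⟩

/-- If `(Q, f) ≤ (P, e)` and `P ≤ N_G(Q)` then the inclusion is normal. -/
lemma isNormalSubpair_of_subpairLE (hMp : IsPModular p M) {P Q : Subgroup G}
    {e : Set (IrrCharacter (Subgroup.centralizer (P : Set G)))}
    {f : Set (IrrCharacter (Subgroup.centralizer (Q : Set G)))} (hPe : IsBrauerPair p M P e)
    (hle : SubpairLE p M Q f P e) (hPN : P ≤ Subgroup.normalizer (Q : Set G)) :
    IsNormalSubpair p M Q f P e := by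
  obtain ⟨f₀, hf₀, -⟩ := existsUnique_normal_subpair hMp hPe (SubpairLE.le hle) hPN
  have h1 := eq_of_subpairLE hMp hPe (Relation.ReflTransGen.single hf₀ : SubpairLE p M Q f₀ P e) hle
  rwa [h1] at hf₀

/-- **S4682**, the factorization. -/
theorem exists_mul_of_abelian (hMp : IsPModular p M) {B : Set (IrrCharacter G)} {P Q : Subgroup G}
    {e : Set (IrrCharacter (Subgroup.centralizer (P : Set G)))}
    {f : Set (IrrCharacter (Subgroup.centralizer (Q : Set G)))}
    (hmax : IsMaximalBrauerPair p M B P e) (hab : ∀ x ∈ P, ∀ y ∈ P, x * y = y * x) (hQP : Q ≤ P)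
    (hf : IsPBlock M f) (hle : SubpairLE p M Q f P e) {x : G} (hxN : x ∈ Subgroup.normalizer (Q : Set G))
    (hxs : StabilizesBlock (Subgroup.centralizer (Q : Set G)) f x) :
    ∃ y : G, y ∈ Subgroup.normalizer (P : Set G) ∧ StabilizesBlock (Subgroup.centralizer (P : Set G)) e y ∧
      ∃ c ∈ Subgroup.centralizer (Q : Set G), x = y * c := by
  classical
  have hPe := hmax.1.1
  have hPK : P ≤ Subgroup.centralizer (Q : Set G) := fun u hu =>
    Subgroup.mem_centralizer_iff.mpr fun q hq => hab q (hQP hq) u hu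
  have hKN : Subgroup.centralizer (Q : Set G) ≤ Subgroup.normalizer (Q : Set G) :=
    Cfsg.Agent.Lib.Blocks.FirstMain.centralizer_le_normalizer' Q
  -- `P` is a defect group of `f`
  have hPdef : IsDefectGroup p M f (P.subgroupOf (Subgroup.centralizer (Q : Set G))) := by
    obtain ⟨x₀, hx₀, hx₀D⟩ := exists_conj_isDefectGroup_centralizer hMp hmax hQP hf hle
    obtain ⟨D, hD, hW⟩ := exists_defect_le_centralizer hMp hPe hQP hf hle
    have h2 := card_defect_conjBlock hMp hf hD x₀ hx₀D
    have hPK' : P ≤ Subgroup.centralizer ((Q.map (MulAut.conj x₀).toMonoidHom : Subgroup G) : Set G) := fun u hu =>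
      Subgroup.mem_centralizer_iff.mpr fun q hq => hab q (SubpairLE.le hx₀ hq) u hu
    have heq := Subgroup.eq_of_le_of_card_ge hW (by
      rw [← h2, card_subgroupOf_inf_right, card_subgroupOf_inf_right, inf_eq_left.mpr hPK', inf_eq_left.mpr hPK])
    rw [inf_eq_left.mpr hPK] at heq
    rw [heq]
    exact hD
  have hn := isNormalSubpair_of_subpairLE hMp hPe hle (hPK.trans hKN)
  have hn' := isNormalSubpair_conj_stable hxN hxs hn
  have hQPx : Q ≤ P.map (MulAut.conj x).toMonoidHom := by
    have h1 := Subgroup.map_mono (f := (MulAut.conj x).toMonoidHom) hQP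
    rwa [map_conj_of_mem_normalizer hxN] at h1
  have hPxK : P.map (MulAut.conj x).toMonoidHom ≤ Subgroup.centralizer (Q : Set G) := by
    rintro _ ⟨u, hu, rfl⟩
    exact (Subgroup.mem_normalizer_iff.mp (normalizer_le_normalizer_centralizer Q hxN) u).mp (hPK hu)
  obtain ⟨w, hwK, hw⟩ := exists_conj_subpairLE_local hMp (hQP.trans hPK)
    (le_refl _) hKN hf (fun t => (subgroupBlockCoeff_coe _ _).symm) hQP hPK hPdef hn hQPx hPxK hn'
  -- `y = w * x`
  have hmul := map_conj_mul w x P
  have hyP : P.map (MulAut.conj (w * x)).toMonoidHom = P := by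
    apply Subgroup.eq_of_le_of_card_ge
    · rw [hmul]
      exact SubpairLE.le hw
    · exact (Nat.card_congr (Subgroup.equivMapOfInjective _ _ (MulAut.conj (w * x)).injective).toEquiv).le
  have hyN : w * x ∈ Subgroup.normalizer (P : Set G) := mem_normalizer_of_map_conj hyP
  have hyK := normalizer_le_normalizer_centralizer P hyN
  have hX : (P.map (MulAut.conj x).toMonoidHom).map (MulAut.conj w).toMonoidHom = P := by
    rw [← hmul]
    exact hyP
  have hH : SubpairLE p M P (conjB (w * x) (map_conj_of_mem_normalizer hyK) e) P e := by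
    refine subpairLE_congr hX rfl ?_ (fun ξ₁ ξ₂ hξ => ?_) hw
    · intro ξ₁ ξ₂ hξ
      have hcP := map_conj_centralizer P x
      have hcP' := map_conj_centralizer (P.map (MulAut.conj x).toMonoidHom) w
      have hxy : (Subgroup.centralizer (P : Set G)).map (MulAut.conj (w * x)).toMonoidHom =
          Subgroup.centralizer (((P.map (MulAut.conj x).toMonoidHom).map (MulAut.conj w).toMonoidHom : Subgroup G) : Set G) := by
        rw [map_conj_mul, hcP, hcP']
      rw [conjBlock_eq_conjB, conjBlock_eq_conjB, ← conjB_mul hcP' hcP hxy, mem_conjB, mem_conjB]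
      have h1 : irrComap (conjEq (w * x) hxy) ξ₁ = irrComap (conjEq (w * x) (map_conj_of_mem_normalizer hyK)) ξ₂ := by
        apply Subtype.ext
        funext k
        exact hξ _ _ rfl
      rw [h1]
    · have h1 : ξ₁ = ξ₂ := by
        apply Subtype.ext
        funext k
        exact hξ _ _ rfl
      rw [h1]
  have hye := eq_of_subpairLE hMp hPe hH Relation.ReflTransGen.refl
  refine ⟨w * x, hyN, stabilizesBlock_iff.mpr ⟨hyK, hye⟩, x⁻¹ * w⁻¹ * x, ?_, by group⟩
  have h1 := (Subgroup.mem_normalizer_iff.mp (normalizer_le_normalizer_centralizer Q (Subgroup.inv_mem _ hxN)) w⁻¹).mp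
    (Subgroup.inv_mem _ hwK)
  rwa [inv_inv] at h1

/-- **S4682**. -/
theorem abelian_factorization (hMp : IsPModular p M) {B : Set (IrrCharacter G)} {P Q TQ TP : Subgroup G}
    {e : Set (IrrCharacter (Subgroup.centralizer (P : Set G)))}
    {f : Set (IrrCharacter (Subgroup.centralizer (Q : Set G)))}
    (hmax : IsMaximalBrauerPair p M B P e) (hab : ∀ x ∈ P, ∀ y ∈ P, x * y = y * x) (hQP : Q ≤ P)
    (hf : IsPBlock M f) (hle : SubpairLE p M Q f P e)
    (hTQ : ∀ y : G, y ∈ TQ ↔ y ∈ Subgroup.normalizer (Q : Set G) ∧ StabilizesBlock (Subgroup.centralizer (Q : Set G)) f y)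
    (hTP : ∀ y : G, y ∈ TP ↔ y ∈ Subgroup.normalizer (P : Set G) ∧ StabilizesBlock (Subgroup.centralizer (P : Set G)) e y) :
    (∀ x ∈ TQ, ∃ y ∈ TP, ∃ c ∈ Subgroup.centralizer (Q : Set G), x = y * c) ∧
      ((Subgroup.centralizer (Q : Set G)).subgroupOf TQ).index =
        ((TP ⊓ Subgroup.centralizer (Q : Set G)).subgroupOf (TP ⊓ Subgroup.normalizer (Q : Set G))).index := by
  classical
  have hPe := hmax.1.1
  have hfac : ∀ x ∈ TQ, ∃ y ∈ TP, ∃ c ∈ Subgroup.centralizer (Q : Set G), x = y * c := by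
    intro x hx
    obtain ⟨hxN, hxs⟩ := (hTQ x).mp hx
    obtain ⟨y, hy1, hy2, c, hc, hxy⟩ := exists_mul_of_abelian hMp hmax hab hQP hf hle hxN hxs
    exact ⟨y, (hTP y).mpr ⟨hy1, hy2⟩, c, hc, hxy⟩
  refine ⟨hfac, ?_⟩
  obtain ⟨h1, h2, h3, h4, h5⟩ := stabilizer_facts hTQ
  have hAT : TP ⊓ Subgroup.normalizer (Q : Set G) ≤ TQ := by
    rintro y ⟨hy1, hy2⟩
    obtain ⟨hy3, hy4⟩ := (hTP y).mp hy1
    exact (hTQ y).mpr ⟨hy2, stabilizesBlock_of_subpair hMp hPe hle hy2 hy3 hy4⟩
  haveI hnK : ((Subgroup.centralizer (Q : Set G)).subgroupOf TQ).Normal :=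
    (Subgroup.normal_subgroupOf_iff_le_normalizer h2).mpr h4
  let φ : ↥(TP ⊓ Subgroup.normalizer (Q : Set G)) →* TQ ⧸ (Subgroup.centralizer (Q : Set G)).subgroupOf TQ :=
    (QuotientGroup.mk' ((Subgroup.centralizer (Q : Set G)).subgroupOf TQ)).comp (Subgroup.inclusion hAT)
  have hsurj : Function.Surjective φ := by
    intro c
    obtain ⟨t, rfl⟩ := QuotientGroup.mk_surjective c
    obtain ⟨y, hy, k, hk, hty⟩ := hfac t t.2
    have hyT : y ∈ TQ := by
      have := TQ.mul_mem t.2 (TQ.inv_mem (h2 hk))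
      rw [hty] at this
      simpa using this
    refine ⟨⟨y, hy, h3 hyT⟩, ?_⟩
    show ((Subgroup.inclusion hAT ⟨y, hy, h3 hyT⟩ : TQ) : TQ ⧸ (Subgroup.centralizer (Q : Set G)).subgroupOf TQ) = _
    rw [QuotientGroup.eq, Subgroup.mem_subgroupOf]
    have h6 : (((Subgroup.inclusion hAT ⟨y, hy, h3 hyT⟩ : TQ)⁻¹ * t : TQ) : G) = k := by
      show y⁻¹ * (t : G) = k
      rw [hty]
      group
    rw [h6]
    exact hk
  have hker : φ.ker = (TP ⊓ Subgroup.centralizer (Q : Set G)).subgroupOf (TP ⊓ Subgroup.normalizer (Q : Set G)) := by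
    ext t
    rw [MonoidHom.mem_ker, Subgroup.mem_subgroupOf]
    constructor
    · intro h6
      have h7 := (QuotientGroup.eq_one_iff _).mp h6
      exact ⟨t.2.1, Subgroup.mem_subgroupOf.mp h7⟩
    · intro h6
      exact (QuotientGroup.eq_one_iff _).mpr (Subgroup.mem_subgroupOf.mpr h6.2)
  rw [← hker, Subgroup.index_ker, MonoidHom.range_eq_top.mpr hsurj]
  rw [Subgroup.index]
  exact (Nat.card_congr (Equiv.Set.univ _)).symm

/-- The conjugate of an element of the stabilizer. -/
lemma stab_conj {Q : Subgroup G} {f : Set (IrrCharacter (Subgroup.centralizer (Q : Set G)))} (z : G) {x : G}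
    (hx : x ∈ Subgroup.normalizer (Q : Set G)) (hs : StabilizesBlock (Subgroup.centralizer (Q : Set G)) f x) :
    z * x * z⁻¹ ∈ Subgroup.normalizer ((Q.map (MulAut.conj z).toMonoidHom : Subgroup G) : Set G) ∧
      StabilizesBlock (Subgroup.centralizer ((Q.map (MulAut.conj z).toMonoidHom : Subgroup G) : Set G))
        (conjBlock Q z f) (z * x * z⁻¹) :=
  (stabilizer_conj_spec z (T := Subgroup.normalizer (Q : Set G) ⊓ blockStabilizer (Subgroup.centralizer (Q : Set G)) f)
    (fun _ => Iff.rfl) _).mp ⟨x, ⟨hx, hs⟩, rfl⟩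

/-- Decompose an element of the stabilizer. -/
lemma mem_centralizer_of_conj {Q : Subgroup G} {z x : G}
    (h : z * x * z⁻¹ ∈ Subgroup.centralizer ((Q.map (MulAut.conj z).toMonoidHom : Subgroup G) : Set G)) :
    x ∈ Subgroup.centralizer (Q : Set G) := by
  rw [Subgroup.mem_centralizer_iff] at h ⊢
  intro q hq
  have h1 := h (z * q * z⁻¹) ⟨q, hq, rfl⟩
  have h2 : z * (q * x) * z⁻¹ = z * (x * q) * z⁻¹ := by
    calc z * (q * x) * z⁻¹ = z * q * z⁻¹ * (z * x * z⁻¹) := by group
      _ = z * x * z⁻¹ * (z * q * z⁻¹) := h1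
      _ = _ := by group
  exact mul_left_cancel (mul_right_cancel h2)

/-- **S4687**. -/
theorem isNilpotentBlock_iff_of_abelian (hMp : IsPModular p M) {B : Set (IrrCharacter G)} {P : Subgroup G}
    {e : Set (IrrCharacter (Subgroup.centralizer (P : Set G)))}
    (hmax : IsMaximalBrauerPair p M B P e) (hab : ∀ x ∈ P, ∀ y ∈ P, x * y = y * x) :
    IsNilpotentBlock p M B ↔ ∀ x : G, x ∈ Subgroup.normalizer (P : Set G) →
      StabilizesBlock (Subgroup.centralizer (P : Set G)) e x → x ∈ Subgroup.centralizer (P : Set G) := by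
  classical
  have hPP : P ≤ Subgroup.centralizer (P : Set G) := fun u hu =>
    Subgroup.mem_centralizer_iff.mpr fun q hq => hab q hq u hu
  constructor
  · intro hnil x hxN hxs
    obtain ⟨a, b, hab', -, ha, hb, hap, hbp⟩ := Cfsg.Agent.Lib.Transfer.Basic.exists_pPart_decomp (p := p) x
    have hT : Subgroup.zpowers x ≤ Subgroup.normalizer (P : Set G) ⊓
        blockStabilizer (Subgroup.centralizer (P : Set G)) e := by
      rw [Subgroup.zpowers_le]
      exact ⟨hxN, hxs⟩
    have hbC : b ∈ Subgroup.centralizer (P : Set G) := by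
      refine hnil.2 P e hmax.1 b (hT hb).1 (hT hb).2 ?_
      intro hd
      have h1 := Nat.Coprime.eq_one_of_dvd hbp.symm hd
      exact (Fact.out : p.Prime).one_lt.ne' h1
    have haC : a ∈ Subgroup.centralizer (P : Set G) := by
      have h1 := mem_sup_of_isMaximal hMp hmax (hT ha).1 (hT ha).2 hap
      rwa [sup_eq_right.mpr hPP] at h1
    rw [← hab']
    exact Subgroup.mul_mem _ haC hbC
  · intro hT
    refine ⟨hmax.1.2.1, fun Q f hQf x hxN hxs _ => ?_⟩
    obtain ⟨z, hz⟩ := exists_conj_subpairLE hMp hmax hQf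
    obtain ⟨h1, h2⟩ := stab_conj z hxN hxs
    have hf' : IsPBlock M (conjBlock Q z f) := by
      rw [conjBlock_eq_conjB]
      exact isPBlock_conjB hQf.1.2
    obtain ⟨y, hy1, hy2, c, hc, hxy⟩ := exists_mul_of_abelian hMp hmax hab (SubpairLE.le hz) hf' hz h1 h2
    apply mem_centralizer_of_conj (z := z)
    rw [hxy]
    refine Subgroup.mul_mem _ ?_ hc
    exact Subgroup.centralizer_le (SubpairLE.le hz) (hT y hy1 hy2)

end Abelian

end Cfsg.Agent.Lib.Blocks.Pairs
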