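/-
Brauer pairs: the extension property of fully normalized pairs.
-/
import Mathlib
import Cfsg.Agent.Lib.Blocks.Pairs16

set_option autoImplicit false

namespace Cfsg.Agent.Lib.Blocks.Pairs

open Cfsg Cfsg.Agent.Lib.Blocks.Local Cfsg.Agent.Lib.Blocks.Central Cfsg.Agent.Lib.Blocks.Osima
open Cfsg.Agent.Lib.Blocks.Covering Cfsg.Agent.Lib.Blocks.BrauerMap Cfsg.Agent.Lib.Blocks.Transport
open Cfsg.Agent.Lib.Blocks.BlockHom Cfsg.Agent.Lib.Blocks.Twisted Cfsg.Agent.Lib.Blocks.Dominate

universe u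

section Extension

variable {G : Type u} [Group G] [Fintype G] {M : Ideal AlgInt} [hM : M.IsPrime] {p : ℕ} [Fact p.Prime]

/-- The pair is fully normalized: `N_P(Q)` is a defect group of the block of the stabilizer. -/
def FN (p : ℕ) (M : Ideal AlgInt) (P Q : Subgroup G)
    (f : Set (IrrCharacter (Subgroup.centralizer (Q : Set G)))) : Prop :=
  ∀ T' : Subgroup G, (∀ y : G, y ∈ T' ↔ y ∈ Subgroup.normalizer (Q : Set G) ∧
      StabilizesBlock (Subgroup.centralizer (Q : Set G)) f y) →
    ∃ F' : Set (IrrCharacter T'), IsPBlock M F' ∧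
      (∀ t : T', blockCoeff F' t = subgroupBlockCoeff (Subgroup.centralizer (Q : Set G)) f (t : G)) ∧
      IsDefectGroup p M F' ((P ⊓ Subgroup.normalizer (Q : Set G)).subgroupOf T')

omit hM in
lemma isBrauerPair_of_subpairLE {P Q : Subgroup G}
    {e : Set (IrrCharacter (Subgroup.centralizer (P : Set G)))}
    {f : Set (IrrCharacter (Subgroup.centralizer (Q : Set G)))} (hPe : IsBrauerPair p M P e)
    (hle : SubpairLE p M Q f P e) : IsBrauerPair p M Q f := by
  have key : ∀ a : BrauerPairIdx G, Relation.ReflTransGen (NormalSubpairRel p M) a ⟨P, e⟩ →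
      IsBrauerPair p M a.1 a.2 := by
    intro a h
    induction h using Relation.ReflTransGen.head_induction_on with
    | refl => exact hPe
    | head h1 _ _ => exact h1.1
  exact key ⟨Q, f⟩ hle

/-- Two pairs below `(P, e)`, the smaller subgroup gives the smaller pair. -/
lemma subpairLE_of_le (hMp : IsPModular p M) {P A B : Subgroup G}
    {e : Set (IrrCharacter (Subgroup.centralizer (P : Set G)))}
    {g : Set (IrrCharacter (Subgroup.centralizer (A : Set G)))}
    {h : Set (IrrCharacter (Subgroup.centralizer (B : Set G)))} (hPe : IsBrauerPair p M P e)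
    (hA : SubpairLE p M A g P e) (hB : SubpairLE p M B h P e) (hAB : A ≤ B) : SubpairLE p M A g B h := by
  have hBb := isBrauerPair_of_subpairLE hPe hB
  obtain ⟨f, -, hf⟩ := exists_subpairLE hMp hBb hAB
  have h1 := eq_of_subpairLE hMp hPe (hf.trans hB) hA
  rwa [h1] at hf

/-- Every `p`-subgroup of the stabilizer is in a conjugate of the defect group modulo `C_G(Q)`. -/
theorem le_conj_mul_of_pgroup (hMp : IsPModular p M) {Q T D R : Subgroup G} (hQp : IsPGroup p Q)
    {f : Set (IrrCharacter (Subgroup.centralizer (Q : Set G)))} (hf : IsPBlock M f)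
    (hT : ∀ y : G, y ∈ T ↔ y ∈ Subgroup.normalizer (Q : Set G) ∧
      StabilizesBlock (Subgroup.centralizer (Q : Set G)) f y)
    {F₁ : Set (IrrCharacter T)} (hF₁ : IsPBlock M F₁)
    (hF₁c : ∀ t : T, blockCoeff F₁ t = subgroupBlockCoeff (Subgroup.centralizer (Q : Set G)) f t)
    (hD : IsDefectGroup p M F₁ (D.subgroupOf T)) (hRT : R ≤ T) (hRp : IsPGroup p R) :
    ∃ t ∈ T, ∀ r ∈ R, ∃ d ∈ D, ∃ k ∈ Subgroup.centralizer (Q : Set G), r = t * d * t⁻¹ * k := by
  classical
  obtain ⟨h1, h2, h3, h4, h5⟩ := stabilizer_facts hT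
  have hR₁p : IsPGroup p (R ⊔ Q : Subgroup G) := hRp.to_sup_of_normal_right' hQp (hRT.trans h3)
  have hR₁T : (R ⊔ Q : Subgroup G) ≤ T := sup_le hRT h1
  obtain ⟨S, hSp, hQS, hSX, hcov, h, hn⟩ := exists_stable_growth hMp hR₁p le_sup_right (hR₁T.trans h3) hf
    (fun u hu => h5 u (hR₁T hu))
  have hST : S ≤ T := hSX.trans (sup_le hR₁T h2)
  obtain ⟨x, hxS, hx⟩ := exists_coeff_of_normal_subpair hn
  have hxK := mem_of_coeff_EE hx
  have hxc : ¬ MemLocalIdeal M (blockCoeff F₁ (⟨x, h2 hxK⟩ : T)) := by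
    rw [hF₁c]
    rw [coeff_EE] at hx
    exact hx
  have hS'p : IsPGroup p (S.subgroupOf T) := hSp.comap_of_injective _ (Subgroup.subtype_injective _)
  have hS'c : S.subgroupOf T ≤ Subgroup.centralizer ({(⟨x, h2 hxK⟩ : T)} : Set T) := by
    intro d hd
    rw [Subgroup.mem_subgroupOf] at hd
    rw [Subgroup.mem_centralizer_singleton_iff]
    apply Subtype.ext
    exact Subgroup.mem_centralizer_iff.mp hxS _ hd
  obtain ⟨t, ht⟩ := exists_le_conj_of_coeff hMp hF₁ hD hxc hS'p hS'c
  refine ⟨t, t.2, fun r hr => ?_⟩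
  obtain ⟨s, hs, k, hk, hrs⟩ := hcov r (Subgroup.mem_sup_left hr)
  obtain ⟨d, hd, hdt⟩ := ht (Subgroup.mem_subgroupOf.mpr (show ((⟨s, hST hs⟩ : T) : G) ∈ S from hs))
  refine ⟨d, Subgroup.mem_subgroupOf.mp hd, k, hk, ?_⟩
  have hdt' : (t : G) * d * (t : G)⁻¹ = s := congrArg Subtype.val hdt
  rw [hrs, hdt']

/-- The defect group in a subgroup between the centralizer and the stabilizer. -/
theorem isDefectGroup_W (hMp : IsPModular p M) {Q T W D : Subgroup G}
    {f : Set (IrrCharacter (Subgroup.centralizer (Q : Set G)))}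
    (hT : ∀ y : G, y ∈ T ↔ y ∈ Subgroup.normalizer (Q : Set G) ∧
      StabilizesBlock (Subgroup.centralizer (Q : Set G)) f y)
    {F₁ : Set (IrrCharacter T)} (hF₁ : IsPBlock M F₁)
    (hF₁c : ∀ t : T, blockCoeff F₁ t = subgroupBlockCoeff (Subgroup.centralizer (Q : Set G)) f t)
    (hD : IsDefectGroup p M F₁ (D.subgroupOf T)) (hWT : W ≤ T) (hCW : Subgroup.centralizer (Q : Set G) ≤ W)
    (hDW : D ≤ W) {F'' : Set (IrrCharacter W)} (hF'' : IsPBlock M F'')
    (hF''c : ∀ t : W, blockCoeff F'' t = subgroupBlockCoeff (Subgroup.centralizer (Q : Set G)) f t)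
    {h : Set (IrrCharacter (Subgroup.centralizer (D : Set G)))} (hn : IsNormalSubpair p M Q f D h) :
    IsDefectGroup p M F'' (D.subgroupOf W) := by
  classical
  obtain ⟨h1, h2, h3, h4, h5⟩ := stabilizer_facts hT
  obtain ⟨x'', S'', hcl, hdef⟩ := exists_isDefectGroup hMp hF''
  -- the lower bound
  obtain ⟨x, hxD, hx⟩ := exists_coeff_of_normal_subpair hn
  have hxK := mem_of_coeff_EE hx
  have hxc : ¬ MemLocalIdeal M (blockCoeff F'' (⟨x, hCW hxK⟩ : W)) := by
    rw [hF''c]
    rw [coeff_EE] at hx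
    exact hx
  have hDp := hn.2.1.1
  have hRp : IsPGroup p (D.subgroupOf W) := hDp.comap_of_injective _ (Subgroup.subtype_injective _)
  have hRc : D.subgroupOf W ≤ Subgroup.centralizer ({(⟨x, hCW hxK⟩ : W)} : Set W) := by
    intro d hd
    rw [Subgroup.mem_subgroupOf] at hd
    rw [Subgroup.mem_centralizer_singleton_iff]
    apply Subtype.ext
    exact Subgroup.mem_centralizer_iff.mp hxD _ hd
  obtain ⟨y, hy⟩ := exists_le_conj_of_coeff hMp hF'' hdef hxc hRp hRc
  -- the upper bound
  have hc'' := hcl.2.1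
  rw [hF''c] at hc''
  have hx''K : (x'' : G) ∈ Subgroup.centralizer (Q : Set G) := by
    by_contra hcon
    apply hc''
    rw [subgroupBlockCoeff_of_notMem _ hcon]
    exact memLocalIdeal_zero
  have hxc' : ¬ MemLocalIdeal M (blockCoeff F₁ (⟨x'', hWT x''.2⟩ : T)) := by
    rw [hF₁c]
    exact hc''
  have hSp := Cfsg.Agent.Lib.Blocks.Defect.isPGroup_sylow_map S''
  have hR'p := hSp.map (Subgroup.inclusion hWT)
  have hR'c : ((S'' : Subgroup (Subgroup.centralizer ({x''} : Set W))).map
      (Subgroup.centralizer ({x''} : Set W)).subtype).map (Subgroup.inclusion hWT) ≤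
      Subgroup.centralizer ({(⟨x'', hWT x''.2⟩ : T)} : Set T) := by
    rintro _ ⟨d, hd, rfl⟩
    have h6 := Cfsg.Agent.Lib.Blocks.Defect.sylow_map_le S'' hd
    have h7 := Subgroup.mem_centralizer_singleton_iff.mp h6
    rw [Subgroup.mem_centralizer_singleton_iff]
    have h8 : ((d : W) : G) * (x'' : W) = (x'' : W) * ((d : W) : G) := by
      simpa using congrArg (Subtype.val : W → G) h7
    exact Subtype.ext h8
  obtain ⟨t, ht⟩ := exists_le_conj_of_coeff hMp hF₁ hD hxc' hR'p hR'c
  have hcardle : Nat.card ((S'' : Subgroup (Subgroup.centralizer ({x''} : Set W))).map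
      (Subgroup.centralizer ({x''} : Set W)).subtype) ≤ Nat.card (D.subgroupOf W) := by
    have h6 := Subgroup.card_le_of_le ht
    have h7 : Nat.card (((S'' : Subgroup (Subgroup.centralizer ({x''} : Set W))).map
        (Subgroup.centralizer ({x''} : Set W)).subtype).map (Subgroup.inclusion hWT) : Subgroup T) =
        Nat.card ((S'' : Subgroup (Subgroup.centralizer ({x''} : Set W))).map
        (Subgroup.centralizer ({x''} : Set W)).subtype) :=
      Nat.card_congr (Subgroup.equivMapOfInjective _ _ (Subgroup.inclusion_injective hWT)).toEquiv.symm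
    have h8 : Nat.card ((D.subgroupOf T).map (MulAut.conj t).toMonoidHom : Subgroup T) = Nat.card (D.subgroupOf T) :=
      Nat.card_congr (Subgroup.equivMapOfInjective _ _ (MulAut.conj t).injective).toEquiv.symm
    rw [h7, h8] at h6
    refine h6.trans (le_of_eq ?_)
    rw [card_subgroupOf_of_le (hDW.trans hWT), card_subgroupOf_of_le hDW]
  have h8 : Nat.card (((S'' : Subgroup (Subgroup.centralizer ({x''} : Set W))).map
      (Subgroup.centralizer ({x''} : Set W)).subtype).map (MulAut.conj y).toMonoidHom : Subgroup W) =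
      Nat.card ((S'' : Subgroup (Subgroup.centralizer ({x''} : Set W))).map
      (Subgroup.centralizer ({x''} : Set W)).subtype) :=
    Nat.card_congr (Subgroup.equivMapOfInjective _ _ (MulAut.conj y).injective).toEquiv.symm
  have heq := Subgroup.eq_of_le_of_card_ge hy (by rw [h8]; exact hcardle)
  rw [heq]
  exact Cfsg.Agent.Lib.Blocks.Principal.isDefectGroup_map_conj hdef y

/-- Conjugating a centralizer, any form of the image. -/
lemma map_conj_centralizer_gen {Q Q' : Subgroup G} (x : G) (h : Q.map (MulAut.conj x).toMonoidHom = Q') :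
    (Subgroup.centralizer (Q : Set G)).map (MulAut.conj x).toMonoidHom = Subgroup.centralizer (Q' : Set G) := by
  subst h
  exact map_conj_centralizer Q x

/-- A block of a subgroup `W` between `C_G(Q)` and the stabilizer, with the idempotent of `f`. -/
lemma exists_block_W (hMp : IsPModular p M) {Q W : Subgroup G} (hQp : IsPGroup p Q) (hQW : Q ≤ W)
    (hCW : Subgroup.centralizer (Q : Set G) ≤ W) (hWN : W ≤ Subgroup.normalizer (Q : Set G))
    {f : Set (IrrCharacter (Subgroup.centralizer (Q : Set G)))} (hf : IsPBlock M f)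
    (hst : ∀ u ∈ W, StabilizesBlock (Subgroup.centralizer (Q : Set G)) f u) :
    ∃ F'' : Set (IrrCharacter W), IsPBlock M F'' ∧
      ∀ t : W, blockCoeff F'' t = subgroupBlockCoeff (Subgroup.centralizer (Q : Set G)) f t := by
  have hWK := hWN.trans (normalizer_le_normalizer_centralizer Q)
  obtain ⟨F'', hF'', hc⟩ := exists_block_orbitU hMp hQp hQW hCW hWN hWK hf
  rw [orbitU_eq_of_stable hWK hst] at hc
  exact ⟨F'', hF'', hc⟩

/-- **The extension property** for a fully normalized pair: a pair `(N, h)` above `(R, f)` whose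
action on `Q₁ = R^g` is realized inside `P` can be moved below `(P, e)` by `c g`, `c ∈ C_G(Q₁)`. -/
theorem exists_extension (hMp : IsPModular p M) {P R N : Subgroup G}
    {e : Set (IrrCharacter (Subgroup.centralizer (P : Set G)))}
    {f : Set (IrrCharacter (Subgroup.centralizer (R : Set G)))}
    {hN : Set (IrrCharacter (Subgroup.centralizer (N : Set G)))}
    (hPe : IsBrauerPair p M P e) (g : G)
    (hle₁ : SubpairLE p M (R.map (MulAut.conj g).toMonoidHom) (conjBlock R g f) P e)
    (hFN : FN p M P (R.map (MulAut.conj g).toMonoidHom) (conjBlock R g f))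
    (hnN : IsNormalSubpair p M R f N hN)
    (hcov : ∀ u ∈ N, ∃ d ∈ P ⊓ Subgroup.normalizer ((R.map (MulAut.conj g).toMonoidHom : Subgroup G) : Set G),
      ∃ c ∈ Subgroup.centralizer ((R.map (MulAut.conj g).toMonoidHom : Subgroup G) : Set G), g * u * g⁻¹ = d * c) :
    ∃ c ∈ Subgroup.centralizer ((R.map (MulAut.conj g).toMonoidHom : Subgroup G) : Set G),
      SubpairLE p M (N.map (MulAut.conj (c * g)).toMonoidHom) (conjBlock N (c * g) hN) P e := by
  classical
  set Q₁ := R.map (MulAut.conj g).toMonoidHom with hQ₁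
  set f₁ := conjBlock R g f with hf₁
  have hQP : Q₁ ≤ P := SubpairLE.le hle₁
  have hf₁b : IsPBlock M f₁ := (isBrauerPair_of_subpairLE hPe hle₁).2
  have hQp : IsPGroup p Q₁ := (isBrauerPair_of_subpairLE hPe hle₁).1
  set T₁ := Subgroup.normalizer (Q₁ : Set G) ⊓ blockStabilizer (Subgroup.centralizer (Q₁ : Set G)) f₁ with hT₁
  have hT : ∀ y : G, y ∈ T₁ ↔ y ∈ Subgroup.normalizer (Q₁ : Set G) ∧
      StabilizesBlock (Subgroup.centralizer (Q₁ : Set G)) f₁ y := fun _ => Iff.rfl
  obtain ⟨F₁, hF₁, hF₁c, hF₁D⟩ := hFN T₁ hT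
  obtain ⟨h1, h2, h3, h4, h5⟩ := stabilizer_facts hT
  set D₁ := P ⊓ Subgroup.normalizer (Q₁ : Set G) with hD₁
  have hD₁T : D₁ ≤ T₁ := normalizerIn_le_stabilizer hMp hPe hQP hle₁ hT
  set W := D₁ ⊔ Subgroup.centralizer (Q₁ : Set G) with hW
  have hWT : W ≤ T₁ := sup_le hD₁T h2
  have hQD : Q₁ ≤ D₁ := le_inf hQP Subgroup.le_normalizer
  obtain ⟨F'', hF'', hF''c⟩ := exists_block_W hMp hQp (hQD.trans le_sup_left) le_sup_right (hWT.trans h3)
    hf₁b (fun u hu => h5 u (hWT hu))
  obtain ⟨h₁, -, hle₂⟩ := exists_subpairLE hMp hPe (inf_le_left : D₁ ≤ P)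
  have hD₁b := isBrauerPair_of_subpairLE hPe hle₂
  have hle₃ := subpairLE_of_le hMp hPe hle₁ hle₂ hQD
  have hnD := isNormalSubpair_of_subpairLE hMp hD₁b hle₃ inf_le_right
  have hdef := isDefectGroup_W hMp hT hF₁ hF₁c hF₁D hWT le_sup_right le_sup_left hF'' hF''c hnD
  have hnA : IsNormalSubpair p M Q₁ f₁ (N.map (MulAut.conj g).toMonoidHom) (conjBlock N g hN) := by
    have := isNormalSubpair_conj g rfl rfl (map_conj_centralizer R g) (map_conj_centralizer N g) hnN
    rwa [← conjBlock_eq_conjB, ← conjBlock_eq_conjB] at this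
  have hQA := hnA.2.2.1
  have hAW : N.map (MulAut.conj g).toMonoidHom ≤ W := by
    rintro _ ⟨u, hu, rfl⟩
    obtain ⟨d, hd, c, hc, h⟩ := hcov u hu
    show g * u * g⁻¹ ∈ W
    rw [h]
    exact W.mul_mem (Subgroup.mem_sup_left hd) (Subgroup.mem_sup_right hc)
  obtain ⟨w, hwW, hw⟩ := exists_conj_subpairLE_local hMp (hQD.trans le_sup_left) le_sup_right (hWT.trans h3)
    hF'' hF''c hQD le_sup_left hdef hnD hQA hAW hnA
  have hDN : D₁ ≤ Subgroup.normalizer ((Subgroup.centralizer (Q₁ : Set G) : Subgroup G) : Set G) :=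
    inf_le_right.trans (normalizer_le_normalizer_centralizer Q₁)
  have hwW' : w ∈ ((D₁ ⊔ Subgroup.centralizer (Q₁ : Set G) : Subgroup G) : Set G) := hwW
  rw [Subgroup.coe_mul_of_left_le_normalizer_right _ _ hDN, Set.mem_mul] at hwW'
  obtain ⟨d, hd, c, hc, rfl⟩ := hwW'
  have hd' : d ∈ D₁ := hd
  have hle₄ := hw.trans hle₂
  refine ⟨c, hc, ?_⟩
  have hdP : d ∈ P := hd'.1
  have hPd : P.map (MulAut.conj d⁻¹).toMonoidHom = P :=
    map_conj_of_mem_normalizer (Subgroup.inv_mem _ (Subgroup.le_normalizer hdP))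
  have hX : (((N.map (MulAut.conj g).toMonoidHom)).map (MulAut.conj (d * c)).toMonoidHom).map
      (MulAut.conj d⁻¹).toMonoidHom = N.map (MulAut.conj (c * g)).toMonoidHom := by
    rw [← map_conj_mul, ← map_conj_mul]
    congr 2
    group
  have hcX := map_conj_centralizer_gen d⁻¹ hX
  have hcP := map_conj_centralizer_gen d⁻¹ hPd
  have h5 := subpairLE_conj_gen d⁻¹ hX hPd hcX hcP hle₄
  have he : conjB d⁻¹ hcP e = e := by
    obtain ⟨h7, h6⟩ := stabilizesBlock_iff.mp (stabilizesBlock_of_mem_self (P.inv_mem hdP) e)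
    exact h6
  rw [he] at h5
  have hblock : conjB d⁻¹ hcX (conjBlock (N.map (MulAut.conj g).toMonoidHom) (d * c) (conjBlock N g hN)) =
      conjBlock N (c * g) hN := by
    rw [conjBlock_eq_conjB, conjBlock_eq_conjB, conjBlock_eq_conjB]
    have e1 := map_conj_centralizer N (c * g)
    have e2 : (Subgroup.centralizer (N : Set G)).map (MulAut.conj ((d * c) * g)).toMonoidHom =
        Subgroup.centralizer ((((N.map (MulAut.conj g).toMonoidHom)).map (MulAut.conj (d * c)).toMonoidHom :
          Subgroup G) : Set G) :=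
      map_conj_centralizer_gen _ (map_conj_mul _ _ _)
    have e3 : (Subgroup.centralizer (N : Set G)).map (MulAut.conj (d⁻¹ * ((d * c) * g))).toMonoidHom =
        Subgroup.centralizer ((N.map (MulAut.conj (c * g)).toMonoidHom : Subgroup G) : Set G) := by
      apply map_conj_centralizer_gen
      rw [map_conj_mul, map_conj_mul, ← hX]
    rw [← conjB_mul _ _ e2, ← conjB_mul _ _ e3]
    apply conjB_congr
    group
  rwa [hblock] at h5

end Extension

end Cfsg.Agent.Lib.Blocks.Pairs
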