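/-
Brauer pairs: fusion in nilpotent blocks is controlled by the defect group.
-/
import Mathlib
import Cfsg.Agent.Lib.Blocks.Pairs17

set_option autoImplicit false

namespace Cfsg.Agent.Lib.Blocks.Pairs

open Cfsg Cfsg.Agent.Lib.Blocks.Local Cfsg.Agent.Lib.Blocks.Central Cfsg.Agent.Lib.Blocks.Osima
open Cfsg.Agent.Lib.Blocks.Covering Cfsg.Agent.Lib.Blocks.BrauerMap Cfsg.Agent.Lib.Blocks.Transport
open Cfsg.Agent.Lib.Blocks.BlockHom Cfsg.Agent.Lib.Blocks.Twisted Cfsg.Agent.Lib.Blocks.Dominate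

universe u

section Nilpotent

variable {G : Type u} [Group G] [Fintype G] {M : Ideal AlgInt} [hM : M.IsPrime] {p : ℕ} [Fact p.Prime]

omit hM in
/-- In a nilpotent block every element of the stabilizer is a `p`-element times an element of `C_G(Q)`. -/
lemma exists_pPart_of_nilpotent {B : Set (IrrCharacter G)} {Q T : Subgroup G}
    {f : Set (IrrCharacter (Subgroup.centralizer (Q : Set G)))} (hnil : IsNilpotentBlock p M B)
    (hQf : IsBrauerPairOf p M B Q f)
    (hT : ∀ y : G, y ∈ T ↔ y ∈ Subgroup.normalizer (Q : Set G) ∧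
      StabilizesBlock (Subgroup.centralizer (Q : Set G)) f y) {t : G} (ht : t ∈ T) :
    ∃ a b : G, a * b = t ∧ Commute a b ∧ a ∈ T ∧ b ∈ Subgroup.centralizer (Q : Set G) ∧ ∃ k : ℕ, orderOf a = p ^ k := by
  obtain ⟨a, b, hab, hc, ha, hb, hap, hbp⟩ := Cfsg.Agent.Lib.Transfer.Basic.exists_pPart_decomp (p := p) t
  have hzT : Subgroup.zpowers t ≤ T := by
    rw [Subgroup.zpowers_le]
    exact ht
  refine ⟨a, b, hab, hc, hzT ha, ?_, hap⟩
  obtain ⟨h1, h2⟩ := (hT b).mp (hzT hb)
  refine hnil.2 Q f hQf b h1 h2 ?_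
  intro hd
  have h3 := Nat.Coprime.eq_one_of_dvd hbp.symm hd
  exact (Fact.out : p.Prime).one_lt.ne' h3

/-- In a nilpotent block the stabilizer of a pair is a `p`-group modulo `C_G(Q)`. -/
lemma isPGroup_stabilizer_quotient {B : Set (IrrCharacter G)} {Q T : Subgroup G}
    {f : Set (IrrCharacter (Subgroup.centralizer (Q : Set G)))} (hnil : IsNilpotentBlock p M B)
    (hQf : IsBrauerPairOf p M B Q f)
    (hT : ∀ y : G, y ∈ T ↔ y ∈ Subgroup.normalizer (Q : Set G) ∧
      StabilizesBlock (Subgroup.centralizer (Q : Set G)) f y)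
    [((Subgroup.centralizer (Q : Set G)).subgroupOf T).Normal] :
    IsPGroup p (T ⧸ (Subgroup.centralizer (Q : Set G)).subgroupOf T) := by
  intro c
  obtain ⟨t, rfl⟩ := QuotientGroup.mk_surjective c
  obtain ⟨a, b, hab, hc, -, hb, k, hk⟩ := exists_pPart_of_nilpotent hnil hQf hT t.2
  refine ⟨k, ?_⟩
  rw [← QuotientGroup.mk_pow, QuotientGroup.eq_one_iff, Subgroup.mem_subgroupOf]
  have h1 : ((t ^ p ^ k : T) : G) = b ^ p ^ k := by
    rw [Subgroup.coe_pow, ← hab, hc.mul_pow, ← hk, pow_orderOf_eq_one, one_mul]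
  rw [h1]
  exact Subgroup.pow_mem _ hb _

/-- For a fully normalized pair of a nilpotent block, the stabilizer is `N_P(Q) C_G(Q)`. -/
theorem exists_mul_of_nilpotent_FN (hMp : IsPModular p M) {B : Set (IrrCharacter G)} {Q T D : Subgroup G}
    {f : Set (IrrCharacter (Subgroup.centralizer (Q : Set G)))} (hnil : IsNilpotentBlock p M B)
    (hQf : IsBrauerPairOf p M B Q f)
    (hT : ∀ y : G, y ∈ T ↔ y ∈ Subgroup.normalizer (Q : Set G) ∧
      StabilizesBlock (Subgroup.centralizer (Q : Set G)) f y)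
    {F₁ : Set (IrrCharacter T)} (hF₁ : IsPBlock M F₁)
    (hF₁c : ∀ t : T, blockCoeff F₁ t = subgroupBlockCoeff (Subgroup.centralizer (Q : Set G)) f t)
    (hD : IsDefectGroup p M F₁ (D.subgroupOf T)) {y : G} (hy : y ∈ T) :
    ∃ d ∈ D, ∃ k ∈ Subgroup.centralizer (Q : Set G), y = d * k := by
  classical
  obtain ⟨h1, h2, h3, h4, h5⟩ := stabilizer_facts hT
  haveI hnK : ((Subgroup.centralizer (Q : Set G)).subgroupOf T).Normal :=
    (Subgroup.normal_subgroupOf_iff_le_normalizer h2).mpr h4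
  have hq := isPGroup_stabilizer_quotient hnil hQf hT
  obtain ⟨S₀⟩ : Nonempty (Sylow p T) := inferInstance
  have hcov := sylow_cover (p := p) _ hq (MonoidHom.id T)
    (fun w => ⟨w, 1, Subgroup.one_mem _, by simp⟩) S₀
  obtain ⟨t₀, ht₀, hr⟩ := le_conj_mul_of_pgroup hMp hQf.1.1 hQf.1.2 hT hF₁ hF₁c hD
    (R := (S₀ : Subgroup T).map T.subtype) (Subgroup.map_subtype_le _) (S₀.2.map _)
  have hy' : t₀ * y * t₀⁻¹ ∈ T := T.mul_mem (T.mul_mem ht₀ hy) (T.inv_mem ht₀)
  obtain ⟨s, hs, k₁, hk₁, h6⟩ := hcov ⟨t₀ * y * t₀⁻¹, hy'⟩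
  obtain ⟨d, hd, k, hk, h7⟩ := hr s ⟨s, hs, rfl⟩
  have hk₁' : (k₁ : G) ∈ Subgroup.centralizer (Q : Set G) := Subgroup.mem_subgroupOf.mp hk₁
  have h8 : t₀ * y * t₀⁻¹ = (s : G) * k₁ := congrArg Subtype.val h6
  refine ⟨d, hd, t₀⁻¹ * (k * k₁) * t₀, ?_, ?_⟩
  · have h9 := (Subgroup.mem_normalizer_iff.mp (h4 (T.inv_mem ht₀)) (k * k₁)).mp (Subgroup.mul_mem _ hk hk₁')
    rwa [inv_inv] at h9
  · rw [h7] at h8
    calc y = t₀⁻¹ * (t₀ * y * t₀⁻¹) * t₀ := by group
      _ = t₀⁻¹ * (t₀ * d * t₀⁻¹ * k * k₁) * t₀ := by rw [h8]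
      _ = d * (t₀⁻¹ * (k * k₁) * t₀) := by group

/-- The stabilizer of a maximal pair in a nilpotent block. -/
theorem exists_mul_of_nilpotent_maximal (hMp : IsPModular p M) {B : Set (IrrCharacter G)} {P : Subgroup G}
    {e : Set (IrrCharacter (Subgroup.centralizer (P : Set G)))} (hnil : IsNilpotentBlock p M B)
    (hmax : IsMaximalBrauerPair p M B P e) {h : G} (hN : h ∈ Subgroup.normalizer (P : Set G))
    (hs : StabilizesBlock (Subgroup.centralizer (P : Set G)) e h) :
    ∃ u ∈ P, ∃ c ∈ Subgroup.centralizer (P : Set G), h = u * c := by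
  classical
  have hT : ∀ y : G, y ∈ Subgroup.normalizer (P : Set G) ⊓ blockStabilizer (Subgroup.centralizer (P : Set G)) e ↔
      y ∈ Subgroup.normalizer (P : Set G) ∧ StabilizesBlock (Subgroup.centralizer (P : Set G)) e y :=
    fun _ => Iff.rfl
  obtain ⟨a, b, hab, -, haT, hb, hk⟩ := exists_pPart_of_nilpotent hnil hmax.1 hT (t := h) ⟨hN, hs⟩
  have h1 := mem_sup_of_isMaximal hMp hmax haT.1 haT.2 hk
  have h2 : a ∈ ((P ⊔ Subgroup.centralizer (P : Set G) : Subgroup G) : Set G) := h1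
  rw [Subgroup.coe_mul_of_left_le_normalizer_right _ _
    (Subgroup.le_normalizer.trans (normalizer_le_normalizer_centralizer P)), Set.mem_mul] at h2
  obtain ⟨u, hu, c, hc, rfl⟩ := h2
  refine ⟨u, hu, c * b, Subgroup.mul_mem _ hc hb, ?_⟩
  rw [← hab, mul_assoc]

/-- The inner claim of the induction. -/
theorem nil_claim (hMp : IsPModular p M) {B : Set (IrrCharacter G)} {P R : Subgroup G}
    {e : Set (IrrCharacter (Subgroup.centralizer (P : Set G)))}
    {f : Set (IrrCharacter (Subgroup.centralizer (R : Set G)))}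
    (hmax : IsMaximalBrauerPair p M B P e) (hnil : IsNilpotentBlock p M B) (g : G)
    (hle : SubpairLE p M R f P e)
    (hle₁ : SubpairLE p M (R.map (MulAut.conj g).toMonoidHom) (conjBlock R g f) P e)
    (hFN : FN p M P (R.map (MulAut.conj g).toMonoidHom) (conjBlock R g f))
    (IH : ∀ (N : Subgroup G) (hN : Set (IrrCharacter (Subgroup.centralizer (N : Set G)))) (g' : G), R < N →
      SubpairLE p M N hN P e → SubpairLE p M (N.map (MulAut.conj g').toMonoidHom) (conjBlock N g' hN) P e →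
      ∃ u ∈ P, ∀ x ∈ N, g' * x * g'⁻¹ = u * x * u⁻¹) :
    ∃ u ∈ P, ∀ x ∈ R, g * x * g⁻¹ = u * x * u⁻¹ := by
  classical
  have hPe := hmax.1.1
  have hRP := SubpairLE.le hle
  by_cases hR : R = P
  · subst hR
    have hfe := eq_of_subpairLE hMp hPe hle Relation.ReflTransGen.refl
    subst hfe
    have hRg : R.map (MulAut.conj g).toMonoidHom = R := by
      apply Subgroup.eq_of_le_of_card_ge (SubpairLE.le hle₁)
      exact (Nat.card_congr (Subgroup.equivMapOfInjective _ _ (MulAut.conj g).injective).toEquiv).le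
    have hgN : g ∈ Subgroup.normalizer (R : Set G) := mem_normalizer_of_map_conj hRg
    have hgK := normalizer_le_normalizer_centralizer R hgN
    have hH : SubpairLE p M R (conjB g (map_conj_of_mem_normalizer hgK) f) R f := by
      have key : ∀ (Y : Subgroup G) (hY : R.map (MulAut.conj g).toMonoidHom = Y),
          SubpairLE p M (R.map (MulAut.conj g).toMonoidHom) (conjBlock R g f) R f →
          SubpairLE p M Y (conjB g (map_conj_centralizer_gen g hY) f) R f := by
        rintro Y rfl h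
        rwa [← conjBlock_eq_conjB]
      exact key R hRg hle₁
    have hye := eq_of_subpairLE hMp hPe hH Relation.ReflTransGen.refl
    obtain ⟨u, hu, c, hc, hgu⟩ := exists_mul_of_nilpotent_maximal hMp hnil hmax hgN
      (stabilizesBlock_iff.mpr ⟨hgK, hye⟩)
    refine ⟨u, hu, fun x hx => ?_⟩
    have h1 : c * x = x * c := Subgroup.mem_centralizer_iff.mp hc x hx |>.symm
    rw [hgu, mul_inv_rev]
    calc u * c * x * (c⁻¹ * u⁻¹) = u * (c * x) * c⁻¹ * u⁻¹ := by group
      _ = u * x * u⁻¹ := by rw [h1]; group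
  · -- `R < P`
    have hRltP := lt_of_le_of_ne hRP hR
    obtain ⟨R', hRR', hR'P, hR'N⟩ := exists_normalizer_gt hPe.1 hRltP
    set N := P ⊓ Subgroup.normalizer (R : Set G) with hNdef
    have hRN : R < N := lt_of_lt_of_le hRR' (le_inf hR'P hR'N)
    obtain ⟨hN, -, hleN⟩ := exists_subpairLE hMp hPe (inf_le_left : N ≤ P)
    have hNb := isBrauerPair_of_subpairLE hPe hleN
    have hle' := subpairLE_of_le hMp hPe hle hleN hRN.le
    have hn := isNormalSubpair_of_subpairLE hMp hNb hle' inf_le_right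
    have hPQ₁ : IsBrauerPairOf p M B (R.map (MulAut.conj g).toMonoidHom) (conjBlock R g f) :=
      (isBrauerPairOf_iff_of_subpairLE hMp (isBrauerPair_of_subpairLE hPe hle₁) hle₁).mp hmax.1
    have hT : ∀ y : G, y ∈ Subgroup.normalizer (((R.map (MulAut.conj g).toMonoidHom : Subgroup G)) : Set G) ⊓
        blockStabilizer (Subgroup.centralizer ((R.map (MulAut.conj g).toMonoidHom : Subgroup G) : Set G))
          (conjBlock R g f) ↔
        y ∈ Subgroup.normalizer (((R.map (MulAut.conj g).toMonoidHom : Subgroup G)) : Set G) ∧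
        StabilizesBlock (Subgroup.centralizer ((R.map (MulAut.conj g).toMonoidHom : Subgroup G) : Set G))
          (conjBlock R g f) y := fun _ => Iff.rfl
    obtain ⟨F₁, hF₁, hF₁c, hF₁D⟩ := hFN _ hT
    have hcov : ∀ u ∈ N, ∃ d ∈ P ⊓ Subgroup.normalizer ((R.map (MulAut.conj g).toMonoidHom : Subgroup G) : Set G),
        ∃ c ∈ Subgroup.centralizer ((R.map (MulAut.conj g).toMonoidHom : Subgroup G) : Set G),
          g * u * g⁻¹ = d * c := by
      intro u hu
      have hu2 := stab_conj g hu.2 (hn.2.2.2.2.1 u hu)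
      exact exists_mul_of_nilpotent_FN hMp hnil hPQ₁ hT hF₁ hF₁c hF₁D hu2
    obtain ⟨c, hc, hcg⟩ := exists_extension hMp hPe g hle₁ hFN hn hcov
    obtain ⟨u, hu, hux⟩ := IH N hN (c * g) hRN hleN hcg
    refine ⟨u, hu, fun x hx => ?_⟩
    have h1 := hux x (hRN.le hx)
    have h2 : g * x * g⁻¹ ∈ R.map (MulAut.conj g).toMonoidHom := ⟨x, hx, rfl⟩
    have h3 := Subgroup.mem_centralizer_iff.mp hc _ h2
    rw [← h1, mul_inv_rev]
    calc g * x * g⁻¹ = (c * (g * x * g⁻¹)) * c⁻¹ := by rw [← h3]; group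
      _ = c * g * x * (g⁻¹ * c⁻¹) := by group

/-- Transport of a property of a conjugate pair. -/
lemma transport_pair {Q Y : Subgroup G} (x : G) (hY : Q.map (MulAut.conj x).toMonoidHom = Y)
    (f : Set (IrrCharacter (Subgroup.centralizer (Q : Set G))))
    (S : ∀ A : Subgroup G, Set (IrrCharacter (Subgroup.centralizer (A : Set G))) → Prop)
    (h : S (Q.map (MulAut.conj x).toMonoidHom) (conjBlock Q x f)) :
    S Y (conjB x (map_conj_centralizer_gen x hY) f) := by
  subst hY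
  rwa [← conjBlock_eq_conjB]

/-- **Fusion in a nilpotent block is controlled by the defect group.** -/
theorem exists_mem_conj_of_nilpotent (hMp : IsPModular p M) {B : Set (IrrCharacter G)} {P Q : Subgroup G}
    {e : Set (IrrCharacter (Subgroup.centralizer (P : Set G)))}
    {f : Set (IrrCharacter (Subgroup.centralizer (Q : Set G)))}
    (hmax : IsMaximalBrauerPair p M B P e) (hnil : IsNilpotentBlock p M B) (g : G)
    (hle : SubpairLE p M Q f P e)
    (hle' : SubpairLE p M (Q.map (MulAut.conj g).toMonoidHom) (conjBlock Q g f) P e) :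
    ∃ u ∈ P, ∀ x ∈ Q, g * x * g⁻¹ = u * x * u⁻¹ := by
  classical
  have hPe := hmax.1.1
  induction' hn : Nat.card P - Nat.card Q using Nat.strong_induction_on with n ih generalizing Q f g
  have hQP := SubpairLE.le hle
  have hcP : Nat.card Q ≤ Nat.card P := Subgroup.card_le_of_le hQP
  have hcardg : Nat.card (Q.map (MulAut.conj g).toMonoidHom) = Nat.card Q :=
    Nat.card_congr (Subgroup.equivMapOfInjective _ _ (MulAut.conj g).injective).toEquiv.symm
  have hT : ∀ y : G, y ∈ Subgroup.normalizer (Q : Set G) ⊓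
      blockStabilizer (Subgroup.centralizer (Q : Set G)) f ↔
      y ∈ Subgroup.normalizer (Q : Set G) ∧ StabilizesBlock (Subgroup.centralizer (Q : Set G)) f y :=
    fun _ => Iff.rfl
  obtain ⟨x₁, hx₁, hx₁D⟩ := exists_conj_isDefectGroup_normalizer hMp hmax hQP
    (isBrauerPair_of_subpairLE hPe hle).2 hle hT
  have hFN : FN p M P (Q.map (MulAut.conj x₁).toMonoidHom) (conjBlock Q x₁ f) := hx₁D
  -- the first conjugation
  obtain ⟨u₁, hu₁, h₁⟩ := nil_claim hMp hmax hnil x₁ hle hx₁ hFN (by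
    intro N hN g' hQN hNle hNle'
    have hcard := card_lt_of_lt hQN
    have hNP := Subgroup.card_le_of_le (SubpairLE.le hNle)
    exact ih (Nat.card P - Nat.card N) (by omega) g' hNle hNle' rfl)
  -- the second conjugation
  have hY : Q.map (MulAut.conj x₁).toMonoidHom =
      (Q.map (MulAut.conj g).toMonoidHom).map (MulAut.conj (x₁ * g⁻¹)).toMonoidHom := by
    rw [← map_conj_mul]
    congr 2
    group
  have hS := transport_pair x₁ hY f (fun A a => SubpairLE p M A a P e ∧ FN p M P A a) ⟨hx₁, hFN⟩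
  have hb : conjB x₁ (map_conj_centralizer_gen x₁ hY) f =
      conjBlock (Q.map (MulAut.conj g).toMonoidHom) (x₁ * g⁻¹) (conjBlock Q g f) := by
    rw [conjBlock_eq_conjB, conjBlock_eq_conjB]
    have e1 : (Subgroup.centralizer (Q : Set G)).map (MulAut.conj ((x₁ * g⁻¹) * g)).toMonoidHom =
        Subgroup.centralizer (((Q.map (MulAut.conj g).toMonoidHom).map
          (MulAut.conj (x₁ * g⁻¹)).toMonoidHom : Subgroup G) : Set G) :=
      map_conj_centralizer_gen _ (map_conj_mul _ _ _)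
    rw [← conjB_mul _ _ e1]
    apply conjB_congr
    group
  simp only [hb] at hS
  obtain ⟨u₂, hu₂, h₂⟩ := nil_claim hMp hmax hnil (x₁ * g⁻¹) hle' hS.1 hS.2 (by
    intro N hN g' hQN hNle hNle'
    have hcard := card_lt_of_lt hQN
    have hNP := Subgroup.card_le_of_le (SubpairLE.le hNle)
    exact ih (Nat.card P - Nat.card N) (by omega) g' hNle hNle' rfl)
  refine ⟨u₂⁻¹ * u₁, P.mul_mem (P.inv_mem hu₂) hu₁, fun x hx => ?_⟩
  have h3 := h₁ x hx
  have h4 := h₂ (g * x * g⁻¹) ⟨x, hx, rfl⟩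
  have h5 : x₁ * g⁻¹ * (g * x * g⁻¹) * (x₁ * g⁻¹)⁻¹ = x₁ * x * x₁⁻¹ := by group
  rw [h5, h3] at h4
  have h6 : g * x * g⁻¹ = u₂⁻¹ * (u₂ * (g * x * g⁻¹) * u₂⁻¹) * u₂ := by group
  rw [h6, ← h4]
  group

end Nilpotent

end Cfsg.Agent.Lib.Blocks.Pairs
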