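/-
Brauer pairs: nilpotent blocks and their fusion systems.
-/
import Mathlib
import Cfsg.Agent.Lib.Blocks.Pairs18
import Cfsg.Prelude.Def_BlockFusion

set_option autoImplicit false

namespace Cfsg.Agent.Lib.Blocks.Pairs

open Cfsg Cfsg.Agent.Lib.Blocks.Local Cfsg.Agent.Lib.Blocks.Central Cfsg.Agent.Lib.Blocks.Osima
open Cfsg.Agent.Lib.Blocks.Covering Cfsg.Agent.Lib.Blocks.BrauerMap Cfsg.Agent.Lib.Blocks.Transport
open Cfsg.Agent.Lib.Blocks.BlockHom Cfsg.Agent.Lib.Blocks.Twisted Cfsg.Agent.Lib.Blocks.Dominate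

universe u

section NilpotentFusion

variable {G : Type u} [Group G]

/-- A `p`-element `u` acting on `A` as a `p`-regular element `t` acts trivially. -/
lemma mem_centralizer_of_conj_eq {p : ℕ} [Fact p.Prime] {P A : Subgroup G} {t u : G} (hPp : IsPGroup p P) (hu : u ∈ P)
    (htr : ¬ p ∣ orderOf t) (htA : t ∈ Subgroup.normalizer (A : Set G))
    (h : ∀ y ∈ A, t * y * t⁻¹ = u * y * u⁻¹) : t ∈ Subgroup.centralizer (A : Set G) := by
  have hk : ∀ k : ℕ, ∀ y ∈ A, t ^ k * y * (t ^ k)⁻¹ = u ^ k * y * (u ^ k)⁻¹ := by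
    intro k
    induction k with
    | zero => intro y _; simp
    | succ k ih =>
      intro y hy
      have h1 := (Subgroup.mem_normalizer_iff.mp htA y).mp hy
      have h2 := ih _ h1
      rw [h y hy] at h2
      calc t ^ (k + 1) * y * (t ^ (k + 1))⁻¹ = t ^ k * (t * y * t⁻¹) * (t ^ k)⁻¹ := by
            rw [pow_succ]; group
        _ = u ^ k * (u * y * u⁻¹) * (u ^ k)⁻¹ := by rw [h y hy] at *; exact h2
        _ = u ^ (k + 1) * y * (u ^ (k + 1))⁻¹ := by rw [pow_succ]; group
  obtain ⟨j, hj⟩ := (IsPGroup.iff_orderOf.mp hPp) ⟨u, hu⟩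
  have hj' : orderOf u = p ^ j := by
    rw [← hj, Subgroup.orderOf_mk]
  have hco : (orderOf t).Coprime (orderOf u) := by
    rw [hj']
    exact Nat.Coprime.pow_right _ ((Nat.Prime.coprime_iff_not_dvd Fact.out).mpr htr).symm
  obtain ⟨m, hm⟩ := exists_pow_eq_self_of_coprime hco
  rw [Subgroup.mem_centralizer_iff]
  intro y hy
  have h1 := hk (orderOf t) y hy
  rw [pow_orderOf_eq_one, one_mul, inv_one, mul_one] at h1
  have hcomm : Commute (u ^ orderOf t) y := by
    show u ^ orderOf t * y = y * u ^ orderOf t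
    have h2 := h1.symm
    rw [mul_inv_eq_iff_eq_mul] at h2
    exact h2
  have hcu : Commute u y := by
    rw [← hm]
    exact hcomm.pow_left m
  have h3 := h y hy
  have h4 : u * y * u⁻¹ = y := by
    rw [hcu.eq]
    group
  rw [h4, mul_inv_eq_iff_eq_mul] at h3
  exact h3.symm

variable [Fintype G] {M : Ideal AlgInt} [hM : M.IsPrime] {p : ℕ} [Fact p.Prime]

/-- An element stabilizing a pair below `(P, e)` gives the conjugate pair, which is the same pair, below `(P, e)`. -/
lemma subpairLE_conj_of_stable {P A : Subgroup G} {e : Set (IrrCharacter (Subgroup.centralizer (P : Set G)))}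
    {f : Set (IrrCharacter (Subgroup.centralizer (A : Set G)))} {t : G} (htN : t ∈ Subgroup.normalizer (A : Set G))
    (hts : StabilizesBlock (Subgroup.centralizer (A : Set G)) f t) (h : SubpairLE p M A f P e) :
    SubpairLE p M (A.map (MulAut.conj t).toMonoidHom) (conjBlock A t f) P e := by
  have key : ∀ (Y : Subgroup G) (hY : A.map (MulAut.conj t).toMonoidHom = Y),
      SubpairLE p M Y (conjB t (map_conj_centralizer_gen t hY) f) P e →
      SubpairLE p M (A.map (MulAut.conj t).toMonoidHom) (conjBlock A t f) P e := by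
    rintro Y rfl h
    rwa [conjBlock_eq_conjB]
  apply key A (map_conj_of_mem_normalizer htN)
  obtain ⟨h1, h2⟩ := stabilizesBlock_iff.mp hts
  have h3 : conjB t (map_conj_centralizer_gen t (map_conj_of_mem_normalizer htN)) f = f := h2
  rw [h3]
  exact h

/-- **S4686**. -/
theorem isNilpotentBlock_iff_inner (hMp : IsPModular p M) {B : Set (IrrCharacter G)} {P : Subgroup G}
    {e : Set (IrrCharacter (Subgroup.centralizer (P : Set G)))} {F : FusionSystem P}
    (hF : IsBlockFusionSystemOn p M B P e F) :
    IsNilpotentBlock p M B ↔ ∀ Q : Subgroup G, F.Hom Q = (innerFusionSystem P).Hom Q := by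
  classical
  have hmax := hF.1
  constructor
  · intro hnil Q
    ext φ
    constructor
    · intro hφ
      obtain ⟨hQP, g, hg, -, f, hf, hf'⟩ := (hF.2 Q φ).1 hφ
      obtain ⟨u, hu, hux⟩ := exists_mem_conj_of_nilpotent hMp hmax hnil g hf hf'
      exact ⟨hQP, u, hu, fun x => (hg x).trans (hux x x.2)⟩
    · rintro ⟨hQP, g, hg, hφ⟩
      have h1 : φ = conjHom Q g := MonoidHom.ext hφ
      rw [h1]
      exact F.conj_mem hQP hg
  · intro hin
    refine ⟨hmax.1.2.1, fun Q f hQf x hxN hxs hxr => ?_⟩
    obtain ⟨z, hz⟩ := exists_conj_subpairLE hMp hmax hQf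
    obtain ⟨h1, h2⟩ := stab_conj z hxN hxs
    have hAP := SubpairLE.le hz
    have hAt : (Q.map (MulAut.conj z).toMonoidHom).map (MulAut.conj (z * x * z⁻¹)).toMonoidHom =
        Q.map (MulAut.conj z).toMonoidHom := map_conj_of_mem_normalizer h1
    have hmem : conjHom (Q.map (MulAut.conj z).toMonoidHom) (z * x * z⁻¹) ∈
        F.Hom (Q.map (MulAut.conj z).toMonoidHom) :=
      (hF.2 _ _).2 ⟨hAP, z * x * z⁻¹, fun u => rfl, by rw [hAt]; exact hAP, conjBlock Q z f, hz,
        subpairLE_conj_of_stable h1 h2 hz⟩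
    rw [hin] at hmem
    obtain ⟨-, u, hu, huc⟩ := hmem
    apply mem_centralizer_of_conj (z := z)
    refine mem_centralizer_of_conj_eq hmax.1.1.1 hu ?_ h1 (fun y hy => huc ⟨y, hy⟩)
    intro hd
    apply hxr
    have h3 : orderOf (z * x * z⁻¹) = orderOf x := by
      have := orderOf_injective (MulAut.conj z).toMonoidHom (MulAut.conj z).injective x
      exact this
    rwa [h3] at hd

/-- **S4688**, second part. -/
theorem isDefectGroup_centralizer_of_nilpotent (hMp : IsPModular p M) {B : Set (IrrCharacter G)} {P Q : Subgroup G}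
    {e : Set (IrrCharacter (Subgroup.centralizer (P : Set G)))}
    {f : Set (IrrCharacter (Subgroup.centralizer (Q : Set G)))}
    (hmax : IsMaximalBrauerPair p M B P e) (hnil : IsNilpotentBlock p M B) (hle : SubpairLE p M Q f P e) :
    IsDefectGroup p M f ((P ⊓ Subgroup.centralizer (Q : Set G)).subgroupOf (Subgroup.centralizer (Q : Set G))) := by
  classical
  have hPe := hmax.1.1
  have hQP := SubpairLE.le hle
  have hf := (isBrauerPair_of_subpairLE hPe hle).2
  obtain ⟨x₀, hx₀, hx₀D⟩ := exists_conj_isDefectGroup_centralizer hMp hmax hQP hf hle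
  obtain ⟨D, hD, hW⟩ := exists_defect_le_centralizer hMp hPe hQP hf hle
  have h2 := card_defect_conjBlock hMp hf hD x₀ hx₀D
  obtain ⟨u, hu, hux⟩ := exists_mem_conj_of_nilpotent hMp hmax hnil x₀ hle hx₀
  have hQu : Q.map (MulAut.conj x₀).toMonoidHom = Q.map (MulAut.conj u).toMonoidHom := by
    ext y
    constructor
    · rintro ⟨a, ha, rfl⟩
      exact ⟨a, ha, (hux a ha).symm⟩
    · rintro ⟨a, ha, rfl⟩
      exact ⟨a, ha, hux a ha⟩
  have hcard : Nat.card (P ⊓ Subgroup.centralizer ((Q.map (MulAut.conj x₀).toMonoidHom : Subgroup G) : Set G) : Subgroup G)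
      = Nat.card (P ⊓ Subgroup.centralizer (Q : Set G) : Subgroup G) := by
    have hPu : P.map (MulAut.conj u).toMonoidHom = P :=
      map_conj_of_mem_normalizer (Subgroup.le_normalizer hu)
    rw [hQu, ← map_conj_centralizer]
    conv_lhs => rw [← hPu, ← Subgroup.map_inf _ _ _ (MulAut.conj u).injective]
    exact Nat.card_congr (Subgroup.equivMapOfInjective _ _ (MulAut.conj u).injective).toEquiv.symm
  have heq := Subgroup.eq_of_le_of_card_ge hW (by
    rw [← h2, card_subgroupOf_inf_right, card_subgroupOf_inf_right, hcard])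
  rw [heq]
  exact hD

/-- The subgroup `Q R` of `G` given by a subgroup `R` of `C_G(Q)`. -/
def localA (Q : Subgroup G) (R' : Subgroup (Subgroup.centralizer (Q : Set G))) : Subgroup G :=
  Q ⊔ R'.map (Subgroup.centralizer (Q : Set G)).subtype

omit [Fintype G] hM [Fact p.Prime] in
lemma mem_centralizer_localA_iff (Q : Subgroup G) (R' : Subgroup (Subgroup.centralizer (Q : Set G)))
    (c : Subgroup.centralizer (Q : Set G)) :
    c ∈ Subgroup.centralizer (R' : Set (Subgroup.centralizer (Q : Set G))) ↔
      (c : G) ∈ Subgroup.centralizer (localA Q R' : Set G) := by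
  rw [mem_centralizer_map_iff R' c]
  constructor
  · intro h
    have h1 : localA Q R' ≤ Subgroup.centralizer ({(c : G)} : Set G) := by
      apply sup_le
      · intro q hq
        rw [Subgroup.mem_centralizer_singleton_iff]
        exact (Subgroup.mem_centralizer_iff.mp c.2 q hq)
      · intro r hr
        rw [Subgroup.mem_centralizer_singleton_iff]
        exact (Subgroup.mem_centralizer_iff.mp h r hr)
    rw [Subgroup.mem_centralizer_iff]
    intro a ha
    exact Subgroup.mem_centralizer_singleton_iff.mp (h1 ha)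
  · intro h
    exact Subgroup.centralizer_le (le_sup_right : _ ≤ localA Q R') h

/-- The centralizers are the same. -/
noncomputable abbrev localIso (Q : Subgroup G) (R' : Subgroup (Subgroup.centralizer (Q : Set G))) :
    Subgroup.centralizer (R' : Set (Subgroup.centralizer (Q : Set G))) ≃*
      Subgroup.centralizer (localA Q R' : Set G) :=
  cIso R' (localA Q R') (Subgroup.centralizer_le (le_sup_left : Q ≤ localA Q R')) (mem_centralizer_localA_iff Q R')

omit hM [Fact p.Prime] in
lemma map_local_le_normalizer (Q : Subgroup G) (R' : Subgroup (Subgroup.centralizer (Q : Set G))) :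
    R'.map (Subgroup.centralizer (Q : Set G)).subtype ≤ Subgroup.normalizer (Q : Set G) :=
  (Subgroup.map_subtype_le _).trans (Cfsg.Agent.Lib.Blocks.FirstMain.centralizer_le_normalizer' Q)

omit hM in
lemma isPGroup_localA {Q : Subgroup G} {R' : Subgroup (Subgroup.centralizer (Q : Set G))}
    (hQp : IsPGroup p Q) (hR'p : IsPGroup p R') : IsPGroup p (localA Q R') := by
  have h1 : IsPGroup p (R'.map (Subgroup.centralizer (Q : Set G)).subtype) := hR'p.map _
  have h2 := h1.to_sup_of_normal_right' hQp (map_local_le_normalizer Q R')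
  unfold localA
  rwa [sup_comm]

/-- Brauer pairs of `f` in `C_G(Q)` give normal overpairs of `(Q, f)` in `G`. -/
theorem isNormalSubpair_local {Q : Subgroup G}
    {f : Set (IrrCharacter (Subgroup.centralizer (Q : Set G)))} (hQf : IsBrauerPair p M Q f)
    {R' : Subgroup (Subgroup.centralizer (Q : Set G))}
    {g' : Set (IrrCharacter (Subgroup.centralizer (R' : Set (Subgroup.centralizer (Q : Set G)))))}
    (hRg' : IsBrauerPairOf p M f R' g') :
    IsNormalSubpair p M Q f (localA Q R') (blockMap (localIso Q R').symm g') := by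
  classical
  refine ⟨hQf, ⟨isPGroup_localA hQf.1 hRg'.1.1, isPBlock_blockMap _ hRg'.1.2⟩, le_sup_left,
    sup_le Subgroup.le_normalizer (map_local_le_normalizer Q R'), ?_, ?_⟩
  · intro x hx
    have h1 : localA Q R' ≤ blockStabilizer (Subgroup.centralizer (Q : Set G)) f := by
      unfold localA
      rw [sup_comm]
      exact le_blockStabilizer_of_sup (Subgroup.map_subtype_le _) f
    exact h1 hx
  · intro ξ hξ
    rw [mem_blockMap_iff] at hξ
    have h3 := hRg'.2.2 _ hξ
    have h4 : brauerOmega R' (blockCoeff f)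
        (fun z => (ξ : Subgroup.centralizer (localA Q R' : Set G) → ℂ) (localIso Q R' z)) =
        brauerOmega (localA Q R') (subgroupBlockCoeff (Subgroup.centralizer (Q : Set G)) f)
          (ξ : Subgroup.centralizer (localA Q R' : Set G) → ℂ) :=
      brauerOmega_cIso (Subgroup.centralizer_le (le_sup_left : Q ≤ localA Q R')) (mem_centralizer_localA_iff Q R')
        (fun t => (subgroupBlockCoeff_coe _ _).symm) _
    rw [← h4]
    exact h3

/-- **S4688**, first part. -/
theorem isNilpotentBlock_local (hMp : IsPModular p M) {B : Set (IrrCharacter G)} {Q : Subgroup G}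
    {f : Set (IrrCharacter (Subgroup.centralizer (Q : Set G)))}
    (hnil : IsNilpotentBlock p M B) (hQf : IsBrauerPairOf p M B Q f) : IsNilpotentBlock p M f := by
  classical
  refine ⟨hQf.1.2, fun R' g' hRg' x hxN hxs hxr => ?_⟩
  have hn := isNormalSubpair_local hQf.1 hRg'
  have hAb := isBrauerPairOf_up hMp hQf hn
  have hxA : (x : G) ∈ Subgroup.normalizer (localA Q R' : Set G) := by
    apply mem_normalizer_of_map_conj
    unfold localA
    rw [Subgroup.map_sup]
    have h1 : Q.map (MulAut.conj (x : G)).toMonoidHom = Q :=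
      map_conj_of_mem_normalizer (Cfsg.Agent.Lib.Blocks.FirstMain.centralizer_le_normalizer' Q x.2)
    have h2 := map_subtype_le_normalizer (le_refl (Subgroup.normalizer (R' : Set (Subgroup.centralizer (Q : Set G)))))
    have h3 : (R'.map (Subgroup.centralizer (Q : Set G)).subtype).map (MulAut.conj (x : G)).toMonoidHom =
        R'.map (Subgroup.centralizer (Q : Set G)).subtype :=
      map_conj_of_mem_normalizer (h2 ⟨x, hxN, rfl⟩)
    rw [h1, h3]
  have hxs' : StabilizesBlock (Subgroup.centralizer (localA Q R' : Set G))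
      (blockMap (localIso Q R').symm g') (x : G) := by
    refine ⟨normalizer_le_normalizer_centralizer _ hxA, ?_⟩
    rintro χ hχ
    rw [mem_blockMap_iff] at hχ
    obtain ⟨χ', hχ', hc⟩ := hxs.2 _ hχ
    refine ⟨irrComap (localIso Q R').symm χ', irrComap_mem_blockMap _ hχ', ?_⟩
    intro k k' hk
    have hk2 := hc ((localIso Q R').symm k) ((localIso Q R').symm k') (by
      apply Subtype.ext
      show (k' : G) = (x : G) * (k : G) * (x : G)⁻¹
      exact hk)
    show (χ' : _ → ℂ) ((localIso Q R').symm k') = _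
    rw [hk2]
    show (χ : _ → ℂ) ((localIso Q R') ((localIso Q R').symm k)) = _
    rw [MulEquiv.apply_symm_apply]
  have hxr' : IsPRegular p (x : G) := by
    intro h
    apply hxr
    rwa [Subgroup.orderOf_coe] at h
  have h5 := hnil.2 _ _ hAb (x : G) hxA hxs' hxr'
  exact (mem_centralizer_localA_iff Q R' x).mpr h5

end NilpotentFusion

end Cfsg.Agent.Lib.Blocks.Pairs
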