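/-
Nilpotent blocks: the double counting of pairs.
-/
import Mathlib
import Cfsg.Agent.Lib.Blocks.NilpSec
import Cfsg.Agent.Lib.Blocks.Pairs19

set_option autoImplicit false

namespace Cfsg.Agent.Lib.Blocks.Nilp

open Cfsg Cfsg.Agent.Lib.Blocks.Local Cfsg.Agent.Lib.Blocks.Central Cfsg.Agent.Lib.Blocks.Osima
open Cfsg.Agent.Lib.Blocks.Covering Cfsg.Agent.Lib.Blocks.BlockHom Cfsg.Agent.Lib.Blocks.Pairs
open Cfsg.Agent.Lib.Blocks.Twisted Cfsg.Agent.Lib.Blocks.Necklace Cfsg.Agent.Lib.Blocks.Sections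
open Cfsg.Agent.Lib.Blocks.Regular Cfsg.Agent.Lib.Blocks.BlockCount
open scoped ComplexConjugate

universe u

section Pair

variable {G : Type u} [Group G] [Fintype G] {M : Ideal AlgInt} [hM : M.IsPrime]
variable {p : ℕ} [hp : Fact p.Prime]

omit [Fintype G] hM in
lemma zpowers_map_conj (x v : G) :
    (Subgroup.zpowers v).map (MulAut.conj x).toMonoidHom = Subgroup.zpowers (x * v * x⁻¹) := by
  rw [MonoidHom.map_zpowers]
  rfl

omit [Fintype G] hM in
lemma orderOf_conj' (x c : G) : orderOf (x * c * x⁻¹) = orderOf c :=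
  (MulAut.conj x).orderOf_eq c

omit [Fintype G] hM in
lemma conj_inj' {x a b : G} (h : x * a * x⁻¹ = x * b * x⁻¹) : a = b := by
  simpa using h

lemma cj_cj (x y : G) (a : MonoidAlgebra ℂ G) : cj (x * y) a = cj x (cj y a) := by
  apply ext_coeff
  intro g
  simp only [coeff_cj]
  congr 1
  group

lemma cj_one' (a : MonoidAlgebra ℂ G) : cj (1 : G) a = a := by
  apply ext_coeff
  intro g
  simp only [coeff_cj]
  congr 1
  group

lemma cj_EE_conjB {x : G} {K K' : Subgroup G} (h : K.map (MulAut.conj x).toMonoidHom = K')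
    (f : Set (IrrCharacter K)) : cj x (EE K f) = EE K' (conjB x h f) := by
  apply ext_coeff
  intro g
  rw [coeff_cj, ← coeff_EE_conjB h f]
  congr 2
  group

lemma EE_ne_zero (K : Subgroup G) {f : Set (IrrCharacter K)} (hf : IsPBlock M f) : EE K f ≠ 0 := by
  classical
  letI : Fintype K := Fintype.ofFinite _
  intro h
  obtain ⟨ξ, hξ⟩ := isPBlock_nonempty hf
  have h1 := res_EE K f
  rw [h] at h1
  have h2 : res K (0 : MonoidAlgebra ℂ G) = 0 := by
    ext n
    simp
  rw [h2] at h1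
  have h3 := omega_blockElt_of_mem hξ
  rw [← h1, omega_zero] at h3
  exact zero_ne_one h3

lemma twTrace_conj {t : G → ℂ} (ht : IsClassFunction G t) (x h : G) (E : MonoidAlgebra ℂ G) :
    twTrace t (x * h * x⁻¹) (cj x E) = twTrace t h E := by
  simp only [twTrace]
  refine Fintype.sum_equiv (MulAut.conj x⁻¹).toEquiv _ _ fun g => ?_
  simp only [MulEquiv.toEquiv_eq_coe, MulEquiv.coe_toEquiv, MulAut.conj_apply, inv_inv, coeff_cj]
  congr 1
  rw [← ht (g * (x * h * x⁻¹)) x⁻¹]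
  congr 1
  group

lemma secF_conj {t₁ t₂ : G → ℂ} (h₁ : IsClassFunction G t₁) (h₂ : IsClassFunction G t₂) (x v : G)
    (E : MonoidAlgebra ℂ G) : secF p t₁ t₂ (x * v * x⁻¹) (cj x E) = secF p t₁ t₂ v E := by
  classical
  simp only [secF]
  symm
  refine Finset.sum_bij (fun c _ => x * c * x⁻¹) ?_ ?_ ?_ ?_
  · intro c hc
    obtain ⟨h3, h4⟩ := mem_regC.mp hc
    refine mem_regC.mpr ⟨?_, ?_⟩
    · have h5 : (x * c * x⁻¹) * (x * v * x⁻¹) = (x * v * x⁻¹) * (x * c * x⁻¹) := by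
        have h6 := mem_centralizer_zpowers_iff.mp h3
        calc (x * c * x⁻¹) * (x * v * x⁻¹) = x * (c * v) * x⁻¹ := by group
          _ = x * (v * c) * x⁻¹ := by rw [h6]
          _ = _ := by group
      exact mem_centralizer_zpowers_iff.mpr h5
    · rw [orderOf_conj' x c]
      exact h4
  · intro a _ b _ hab
    exact conj_inj' hab
  · intro c hc
    obtain ⟨h3, h4⟩ := mem_regC.mp hc
    refine ⟨x⁻¹ * c * x, ?_, by group⟩
    refine mem_regC.mpr ⟨?_, ?_⟩
    · have h6 := mem_centralizer_zpowers_iff.mp h3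
      refine mem_centralizer_zpowers_iff.mpr ?_
      have h7 : x * ((x⁻¹ * c * x) * v) * x⁻¹ = x * (v * (x⁻¹ * c * x)) * x⁻¹ := by
        calc x * ((x⁻¹ * c * x) * v) * x⁻¹ = c * (x * v * x⁻¹) := by group
          _ = (x * v * x⁻¹) * c := h6
          _ = _ := by group
      exact conj_inj' h7
    · have := orderOf_conj' x (x⁻¹ * c * x)
      have h8 : x * (x⁻¹ * c * x) * x⁻¹ = c := by group
      rw [h8] at this
      rw [← this]
      exact h4
  · intro c _
    have e1 : (x * v * x⁻¹) * (x * c * x⁻¹) = x * (v * c) * x⁻¹ := by group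
    rw [e1, twTrace_conj h₁, twTrace_conj h₂]

lemma eq_of_EE_eq {K : Subgroup G} {f f' : Set (IrrCharacter K)} (hf : IsPBlock M f) (hf' : IsPBlock M f')
    (h : EE K f = EE K f') : f = f' := by
  by_contra hne
  have h0 := Pairs.disjoint_of_isPBlock hf hf' hne
  have h1 := EE_mul K f f'
  rw [h0, EE_empty, ← h, EE_mul_self] at h1
  exact EE_ne_zero K hf h1

section Ev

variable (p M) (P : Subgroup G) (e : Set (IrrCharacter (Subgroup.centralizer (P : Set G))))

open Classical in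
/-- The block of the centralizer of `v` below the pair `(P, e)`. -/
noncomputable def eBlk (v : G) : Set (IrrCharacter (Kz v)) :=
  if h : ∃ f : Set (IrrCharacter (Kz v)), SubpairLE p M (Subgroup.zpowers v) f P e then h.choose else ∅

/-- The idempotent of the block below `(P, e)`. -/
noncomputable def Ev (v : G) : MonoidAlgebra ℂ G := EE (Kz v) (eBlk M p P e v)

variable {p M P e}

lemma eBlk_spec (hMp : IsPModular p M) (hPe : IsBrauerPair p M P e) {v : G} (hv : v ∈ P) :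
    SubpairLE p M (Subgroup.zpowers v) (eBlk M p P e v) P e := by
  have h : ∃ f : Set (IrrCharacter (Kz v)), SubpairLE p M (Subgroup.zpowers v) f P e := by
    obtain ⟨f, -, hf⟩ := exists_subpairLE hMp hPe ((Subgroup.zpowers_le).mpr hv)
    exact ⟨f, hf⟩
  unfold eBlk
  rw [dif_pos h]
  exact h.choose_spec

lemma isPBlock_eBlk (hMp : IsPModular p M) (hPe : IsBrauerPair p M P e) {v : G} (hv : v ∈ P) :
    IsPBlock M (eBlk M p P e v) :=
  (isBrauerPair_of_subpairLE hPe (eBlk_spec hMp hPe hv)).2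

lemma eq_eBlk (hMp : IsPModular p M) (hPe : IsBrauerPair p M P e) {v : G} {f : Set (IrrCharacter (Kz v))}
    (h : SubpairLE p M (Subgroup.zpowers v) f P e) : f = eBlk M p P e v :=
  eq_of_subpairLE hMp hPe h (eBlk_spec hMp hPe (SubpairLE.le h (Subgroup.mem_zpowers v)))

/-- A conjugate of a pair below `(P, e)`, in the centralizer of the conjugate. -/
lemma hmapK (x v : G) : (Kz v).map (MulAut.conj x).toMonoidHom = Kz (x * v * x⁻¹) :=
  map_conj_centralizer_gen x (zpowers_map_conj x v)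

lemma cj_Ev_of_mem (hMp : IsPModular p M) (hPe : IsBrauerPair p M P e) {v a : G} (hv : v ∈ P) (ha : a ∈ P) :
    cj a (Ev M p P e v) = Ev M p P e (a * v * a⁻¹) := by
  have hPa : P.map (MulAut.conj a).toMonoidHom = P := by
    ext y
    simp only [Subgroup.mem_map, MulEquiv.coe_toMonoidHom, MulAut.conj_apply]
    constructor
    · rintro ⟨z, hz, rfl⟩
      exact P.mul_mem (P.mul_mem ha hz) (P.inv_mem ha)
    · intro hy
      exact ⟨a⁻¹ * y * a, P.mul_mem (P.mul_mem (P.inv_mem ha) hy) ha, by group⟩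
  have h5 := subpairLE_conj_gen a (zpowers_map_conj a v) hPa (hmapK a v)
    (map_conj_centralizer_gen a hPa) (eBlk_spec hMp hPe hv)
  have he : conjB a (map_conj_centralizer_gen a hPa) e = e := by
    obtain ⟨h7, h6⟩ := stabilizesBlock_iff.mp (stabilizesBlock_of_mem_self ha e)
    exact h6
  rw [he] at h5
  unfold Ev
  rw [cj_EE_conjB (hmapK a v)]
  rw [eq_eBlk hMp hPe h5]

/-- The elements carrying `(v, E_v)` to `(v₀, E_{v₀})`. -/
noncomputable def setX (M : Ideal AlgInt) (p : ℕ) (P : Subgroup G) (e : Set (IrrCharacter (Subgroup.centralizer (P : Set G))))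
    (v v₀ : G) : Finset G := by
  classical
  exact Finset.univ.filter (fun x : G => x * v * x⁻¹ = v₀ ∧ cj x (Ev M p P e v) = Ev M p P e v₀)

/-- The elements of `P` carrying `v` to `v₀`. -/
noncomputable def setY (P : Subgroup G) (v v₀ : G) : Finset G := by
  classical
  exact Finset.univ.filter (fun a : G => a ∈ P ∧ a * v * a⁻¹ = v₀)

/-- The centralizer of `v`, as a finite set. -/
noncomputable def setZ (v : G) : Finset G := by
  classical
  exact Finset.univ.filter (fun x : G => x * v * x⁻¹ = v)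

/-- The weight `|C_P(v)| / |C_G(v)|`. -/
noncomputable def wt (P : Subgroup G) (v : G) : ℂ := ((setY P v v).card : ℂ) / ((setZ v).card : ℂ)

/-- The elements of `P`, as a finite set. -/
noncomputable def Pf (P : Subgroup G) : Finset G := by
  classical
  exact Finset.univ.filter (fun a : G => a ∈ P)

omit hM in
lemma mem_Pf {P : Subgroup G} {a : G} : a ∈ Pf P ↔ a ∈ P := by
  classical
  simp [Pf]

omit hM in
lemma mem_setY {P : Subgroup G} {v v₀ a : G} : a ∈ setY P v v₀ ↔ a ∈ P ∧ a * v * a⁻¹ = v₀ := by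
  classical
  simp [setY]

omit hM in
lemma mem_setZ {v a : G} : a ∈ setZ v ↔ a * v * a⁻¹ = v := by
  classical
  simp [setZ]

lemma mem_setX {v v₀ x : G} : x ∈ setX M p P e v v₀ ↔ x * v * x⁻¹ = v₀ ∧ cj x (Ev M p P e v) = Ev M p P e v₀ := by
  classical
  simp [setX]

omit hM in
lemma mem_Kz_of_mem_setZ {v a : G} (h : a ∈ setZ v) : a ∈ Kz v := by
  refine mem_centralizer_zpowers_iff.mpr ?_
  have := mem_setZ.mp h
  calc a * v = (a * v * a⁻¹) * a := by group
    _ = v * a := by rw [this]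

lemma cj_Ev_of_mem_setZ {v a : G} (h : a ∈ setZ v) : cj a (Ev M p P e v) = Ev M p P e v :=
  cj_eq_of_invBy (invBy_EE_self _ _) (mem_Kz_of_mem_setZ h)

omit hM in
lemma setZ_pos (v : G) : 0 < (setZ v).card :=
  Finset.card_pos.mpr ⟨1, mem_setZ.mpr (by group)⟩

/-- `|X(v,v₀)| = |C_G(v)|` when `v` and `v₀` are `P`-conjugate. -/
lemma card_setX (hMp : IsPModular p M) (hPe : IsBrauerPair p M P e) {v v₀ a : G} (hv : v ∈ P) (ha : a ∈ setY P v v₀) :
    (setX M p P e v v₀).card = (setZ v).card := by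
  obtain ⟨haP, hav⟩ := mem_setY.mp ha
  have hcj : cj a (Ev M p P e v) = Ev M p P e v₀ := by
    rw [cj_Ev_of_mem hMp hPe hv haP, hav]
  symm
  refine Finset.card_bij (fun z _ => a * z) ?_ ?_ ?_
  · intro z hz
    refine mem_setX.mpr ⟨?_, ?_⟩
    · have := mem_setZ.mp hz
      calc a * z * v * (a * z)⁻¹ = a * (z * v * z⁻¹) * a⁻¹ := by group
        _ = v₀ := by rw [this, hav]
    · rw [cj_cj, cj_Ev_of_mem_setZ hz, hcj]
  · intro z _ z' _ h
    exact mul_left_cancel h
  · intro x hx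
    obtain ⟨h1, h2⟩ := mem_setX.mp hx
    refine ⟨a⁻¹ * x, mem_setZ.mpr ?_, by group⟩
    have : a⁻¹ * x * v * (a⁻¹ * x)⁻¹ = a⁻¹ * (x * v * x⁻¹) * a := by group
    rw [this, h1, ← hav]
    group

omit hM in
lemma card_setY {v v₀ a : G} (ha : a ∈ setY P v v₀) : (setY P v v₀).card = (setY P v v).card := by
  obtain ⟨haP, hav⟩ := mem_setY.mp ha
  symm
  refine Finset.card_bij (fun z _ => a * z) ?_ ?_ ?_
  · intro z hz
    obtain ⟨h1, h2⟩ := mem_setY.mp hz
    refine mem_setY.mpr ⟨P.mul_mem haP h1, ?_⟩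
    calc a * z * v * (a * z)⁻¹ = a * (z * v * z⁻¹) * a⁻¹ := by group
      _ = v₀ := by rw [h2, hav]
  · intro z _ z' _ h
    exact mul_left_cancel h
  · intro x hx
    obtain ⟨h1, h2⟩ := mem_setY.mp hx
    refine ⟨a⁻¹ * x, mem_setY.mpr ⟨P.mul_mem (P.inv_mem haP) h1, ?_⟩, by group⟩
    have : a⁻¹ * x * v * (a⁻¹ * x)⁻¹ = a⁻¹ * (x * v * x⁻¹) * a := by group
    rw [this, h2, ← hav]
    group

/-- Fusion for the pairs below `(P, e)`. -/
lemma exists_setY_of_setX (hMp : IsPModular p M) {B : Set (IrrCharacter G)} (hmax : IsMaximalBrauerPair p M B P e)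
    (hnil : IsNilpotentBlock p M B) {v v₀ x : G} (hv : v ∈ P) (hv₀ : v₀ ∈ P) (hx : x ∈ setX M p P e v v₀) :
    ∃ a, a ∈ setY P v v₀ := by
  have hPe := hmax.1.1
  obtain ⟨h1, h2⟩ := mem_setX.mp hx
  have hle := eBlk_spec hMp hPe hv
  have hb : eBlk M p P e (x * v * x⁻¹) = conjB x (hmapK x v) (eBlk M p P e v) := by
    subst h1
    apply eq_of_EE_eq (isPBlock_eBlk hMp hPe hv₀) (isPBlock_conjB (isPBlock_eBlk hMp hPe hv))
    rw [← cj_EE_conjB]
    exact h2.symm
  have hle' : SubpairLE p M ((Subgroup.zpowers v).map (MulAut.conj x).toMonoidHom)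
      (conjBlock (Subgroup.zpowers v) x (eBlk M p P e v)) P e := by
    have key : ∀ (Y : Subgroup G) (hY : (Subgroup.zpowers v).map (MulAut.conj x).toMonoidHom = Y),
        SubpairLE p M Y (conjB x (map_conj_centralizer_gen x hY) (eBlk M p P e v)) P e →
        SubpairLE p M ((Subgroup.zpowers v).map (MulAut.conj x).toMonoidHom)
          (conjBlock (Subgroup.zpowers v) x (eBlk M p P e v)) P e := by
      rintro Y rfl h
      rwa [conjBlock_eq_conjB]
    apply key _ (zpowers_map_conj x v)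
    have h3 := eBlk_spec hMp hPe (show x * v * x⁻¹ ∈ P by rwa [h1])
    rwa [hb] at h3
  obtain ⟨a, haP, ha⟩ := exists_mem_conj_of_nilpotent hMp hmax hnil x hle hle'
  refine ⟨a, mem_setY.mpr ⟨haP, ?_⟩⟩
  rw [← ha v (Subgroup.mem_zpowers v), h1]

/-- The weighted count. -/
lemma wt_mul_card_setX (hMp : IsPModular p M) {B : Set (IrrCharacter G)} (hmax : IsMaximalBrauerPair p M B P e)
    (hnil : IsNilpotentBlock p M B) {v v₀ : G} (hv : v ∈ P) (hv₀ : v₀ ∈ P) :
    wt P v * ((setX M p P e v v₀).card : ℂ) = ((setY P v v₀).card : ℂ) := by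
  classical
  by_cases h : ∃ a, a ∈ setY P v v₀
  · obtain ⟨a, ha⟩ := h
    rw [card_setX hMp hmax.1.1 hv ha, card_setY ha, wt]
    have : ((setZ v).card : ℂ) ≠ 0 := by
      exact_mod_cast (setZ_pos v).ne'
    field_simp
  · have h1 : setY P v v₀ = ∅ := Finset.not_nonempty_iff_eq_empty.mp (fun ⟨a, ha⟩ => h ⟨a, ha⟩)
    have h2 : setX M p P e v v₀ = ∅ := by
      apply Finset.not_nonempty_iff_eq_empty.mp
      rintro ⟨x, hx⟩
      exact h (exists_setY_of_setX hMp hmax hnil hv hv₀ hx)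
    rw [h1, h2]
    simp

omit hM in
/-- The count over `P`. -/
lemma sum_card_setY {v₀ : G} (hv₀ : v₀ ∈ P) :
    ∑ v ∈ Pf P, ((setY P v v₀).card : ℂ) = ((Pf P).card : ℂ) := by
  classical
  have h1 : ∀ v : G, ((setY P v v₀).card : ℂ) = ∑ a ∈ Pf P, if a * v * a⁻¹ = v₀ then (1 : ℂ) else 0 := by
    intro v
    rw [Finset.sum_ite, Finset.sum_const_zero, add_zero, Finset.sum_const, nsmul_eq_mul, mul_one]
    congr 2
    ext a
    simp [mem_setY, mem_Pf]
  simp only [h1]
  rw [Finset.sum_comm, Finset.card_eq_sum_ones, Nat.cast_sum]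
  refine Finset.sum_congr rfl fun a ha => ?_
  have haP := mem_Pf.mp ha
  rw [Finset.sum_eq_single (a⁻¹ * v₀ * a)]
  · rw [if_pos (by group)]
    simp
  · intro b _ hb
    rw [if_neg]
    rintro rfl
    apply hb
    group
  · intro hb
    exact absurd (mem_Pf.mpr (P.mul_mem (P.mul_mem (P.inv_mem haP) hv₀) haP)) hb

omit hM in
lemma cj_inj {x : G} {a b : MonoidAlgebra ℂ G} (h : cj x a = cj x b) : a = b := by
  apply ext_coeff
  intro g
  have := congrArg (fun c => MonoidAlgebra.coeff c (x * g * x⁻¹)) h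
  simp only [coeff_cj] at this
  have e1 : x⁻¹ * (x * g * x⁻¹) * x = g := by group
  rwa [e1] at this

open Classical in
/-- The total weight at a pair of the block. -/
lemma sum_weight_of_pair (hMp : IsPModular p M) {B : Set (IrrCharacter G)} (hmax : IsMaximalBrauerPair p M B P e)
    (hnil : IsNilpotentBlock p M B) {u : G} {f : Set (IrrCharacter (Kz u))}
    (hQf : IsBrauerPairOf p M B (Subgroup.zpowers u) f) :
    ∑ x : G, ∑ v ∈ Pf P, wt P v * (if x * v * x⁻¹ = u ∧ cj x (Ev M p P e v) = EE (Kz u) f then (1 : ℂ) else 0) =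
      ((Pf P).card : ℂ) := by
  classical
  have hPe := hmax.1.1
  obtain ⟨x₀, hx₀⟩ := exists_conj_subpairLE hMp hmax hQf
  have hf := hQf.1.2
  have h1 := transport_pair x₀ (zpowers_map_conj x₀ u) f (fun A a => SubpairLE p M A a P e) hx₀
  have hv₀ : x₀ * u * x₀⁻¹ ∈ P := SubpairLE.le h1 (Subgroup.mem_zpowers _)
  have h2 := eq_eBlk hMp hPe h1
  have hE : cj x₀ (EE (Kz u) f) = Ev M p P e (x₀ * u * x₀⁻¹) := by
    rw [cj_EE_conjB (map_conj_centralizer_gen x₀ (zpowers_map_conj x₀ u)), Ev, h2]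
  rw [Finset.sum_comm]
  have h3 : ∀ v ∈ Pf P, ∑ x : G, wt P v * (if x * v * x⁻¹ = u ∧ cj x (Ev M p P e v) = EE (Kz u) f then (1 : ℂ) else 0) =
      ((setY P v (x₀ * u * x₀⁻¹)).card : ℂ) := by
    intro v hv
    rw [← wt_mul_card_setX hMp hmax hnil (mem_Pf.mp hv) hv₀, ← Finset.mul_sum]
    congr 1
    rw [Finset.sum_ite, Finset.sum_const_zero, add_zero, Finset.sum_const, nsmul_eq_mul, mul_one]
    congr 1
    refine Finset.card_bij (fun x _ => x₀ * x) ?_ ?_ ?_
    · intro x hx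
      obtain ⟨-, h4, h5⟩ := Finset.mem_filter.mp hx
      refine mem_setX.mpr ⟨?_, ?_⟩
      · calc x₀ * x * v * (x₀ * x)⁻¹ = x₀ * (x * v * x⁻¹) * x₀⁻¹ := by group
          _ = _ := by rw [h4]
      · rw [cj_cj, h5, hE]
    · intro a _ b _ h
      exact mul_left_cancel h
    · intro y hy
      obtain ⟨h4, h5⟩ := mem_setX.mp hy
      refine ⟨x₀⁻¹ * y, Finset.mem_filter.mpr ⟨Finset.mem_univ _, ?_, ?_⟩, by group⟩
      · have : x₀⁻¹ * y * v * (x₀⁻¹ * y)⁻¹ = x₀⁻¹ * (y * v * y⁻¹) * x₀ := by group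
        rw [this, h4]
        group
      · apply cj_inj (x := x₀)
        rw [← cj_cj, hE, ← h5]
        congr 1
        group
  rw [Finset.sum_congr rfl h3, sum_card_setY hv₀]

/-- **The double counting.** -/
theorem sum_wt_secF (hMp : IsPModular p M) {B : Set (IrrCharacter G)} (hmax : IsMaximalBrauerPair p M B P e)
    (hnil : IsNilpotentBlock p M B) {χ : IrrCharacter G} (hχ : χ ∈ B) {t₂ : G → ℂ} (h₂ : IsClassFunction G t₂) :
    ((Fintype.card G : ℕ) : ℂ) * ∑ v ∈ Pf P, wt P v * secF p (χ : G → ℂ) t₂ v (Ev M p P e v) =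
      ((Pf P).card : ℂ) * ∑ g : G, (χ : G → ℂ) g * conj (t₂ g) := by
  classical
  have hPe := hmax.1.1
  have hB := hmax.1.2.1
  have h₁ : IsClassFunction G (χ : G → ℂ) := isClassFunction_of_irr χ.2
  set F : G → MonoidAlgebra ℂ G → ℂ := fun u E => secF p (χ : G → ℂ) t₂ u E with hF
  have h1 : ∑ x : G, ∑ v ∈ Pf P, wt P v * F (x * v * x⁻¹) (cj x (Ev M p P e v)) =
      ((Fintype.card G : ℕ) : ℂ) * ∑ v ∈ Pf P, wt P v * F v (Ev M p P e v) := by
    simp only [hF, secF_conj h₁ h₂]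
    rw [Finset.sum_const, Finset.card_univ, nsmul_eq_mul]
  rw [← h1, hF]
  clear h1
  have h2 : ∀ (x : G), ∀ v ∈ Pf P, F (x * v * x⁻¹) (cj x (Ev M p P e v)) =
      ∑ u ∈ pElts (G := G) p, ∑ f : Blk M (Kz u),
        (if x * v * x⁻¹ = u ∧ cj x (Ev M p P e v) = EE (Kz u) f.1 then (1 : ℂ) else 0) * F u (EE (Kz u) f.1) := by
    intro x v hv
    have hvP := mem_Pf.mp hv
    have hpe : x * v * x⁻¹ ∈ pElts (G := G) p := by
      rw [mem_pElts, orderOf_conj']
      obtain ⟨k, hk⟩ := hPe.1 ⟨v, hvP⟩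
      have h3 : v ^ (p ^ k) = 1 := by
        have := congrArg Subtype.val hk
        simpa using this
      obtain ⟨j, -, hj⟩ := (Nat.dvd_prime_pow hp.out).mp (orderOf_dvd_of_pow_eq_one h3)
      exact ⟨j, hj⟩
    rw [Finset.sum_eq_single (x * v * x⁻¹)]
    · rw [Finset.sum_eq_single (⟨conjB x (hmapK x v) (eBlk M p P e v),
        isPBlock_conjB (isPBlock_eBlk hMp hPe hvP)⟩ : Blk M (Kz (x * v * x⁻¹)))]
      · have h4 : cj x (Ev M p P e v) = EE (Kz (x * v * x⁻¹)) (conjB x (hmapK x v) (eBlk M p P e v)) :=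
          cj_EE_conjB (hmapK x v) _
        rw [if_pos ⟨rfl, h4⟩, one_mul, h4]
      · intro f _ hne
        rw [if_neg, zero_mul]
        rintro ⟨-, h5⟩
        apply hne
        apply Subtype.ext
        have h6 := h5.symm.trans (cj_EE_conjB (hmapK x v) _)
        exact eq_of_EE_eq f.2 (isPBlock_conjB (isPBlock_eBlk hMp hPe hvP)) h6
      · intro h
        exact absurd (Finset.mem_univ _) h
    · intro u _ hne
      apply Finset.sum_eq_zero
      intro f _
      rw [if_neg, zero_mul]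
      rintro ⟨h5, -⟩
      exact hne h5.symm
    · intro h
      exact absurd hpe h
  have h3 : ∑ x : G, ∑ v ∈ Pf P, wt P v * F (x * v * x⁻¹) (cj x (Ev M p P e v)) =
      ∑ u ∈ pElts (G := G) p, ∑ f : Blk M (Kz u), F u (EE (Kz u) f.1) *
        ∑ x : G, ∑ v ∈ Pf P, wt P v *
          (if x * v * x⁻¹ = u ∧ cj x (Ev M p P e v) = EE (Kz u) f.1 then (1 : ℂ) else 0) := by
    calc ∑ x : G, ∑ v ∈ Pf P, wt P v * F (x * v * x⁻¹) (cj x (Ev M p P e v))
        = ∑ x : G, ∑ v ∈ Pf P, ∑ u ∈ pElts (G := G) p, ∑ f : Blk M (Kz u), F u (EE (Kz u) f.1) * (wt P v *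
          (if x * v * x⁻¹ = u ∧ cj x (Ev M p P e v) = EE (Kz u) f.1 then (1 : ℂ) else 0)) := by
          refine Finset.sum_congr rfl fun x _ => Finset.sum_congr rfl fun v hv => ?_
          rw [h2 x v hv, Finset.mul_sum]
          refine Finset.sum_congr rfl fun u _ => ?_
          rw [Finset.mul_sum]
          refine Finset.sum_congr rfl fun f _ => ?_
          ring
      _ = ∑ x : G, ∑ u ∈ pElts (G := G) p, ∑ v ∈ Pf P, ∑ f : Blk M (Kz u), F u (EE (Kz u) f.1) * (wt P v *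
          (if x * v * x⁻¹ = u ∧ cj x (Ev M p P e v) = EE (Kz u) f.1 then (1 : ℂ) else 0)) :=
          Finset.sum_congr rfl fun x _ => Finset.sum_comm
      _ = ∑ u ∈ pElts (G := G) p, ∑ x : G, ∑ f : Blk M (Kz u), ∑ v ∈ Pf P, F u (EE (Kz u) f.1) * (wt P v *
          (if x * v * x⁻¹ = u ∧ cj x (Ev M p P e v) = EE (Kz u) f.1 then (1 : ℂ) else 0)) := by
          rw [Finset.sum_comm]
          refine Finset.sum_congr rfl fun u _ => Finset.sum_congr rfl fun x _ => ?_
          exact Finset.sum_comm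
      _ = ∑ u ∈ pElts (G := G) p, ∑ f : Blk M (Kz u), F u (EE (Kz u) f.1) *
        ∑ x : G, ∑ v ∈ Pf P, wt P v *
          (if x * v * x⁻¹ = u ∧ cj x (Ev M p P e v) = EE (Kz u) f.1 then (1 : ℂ) else 0) := by
          refine Finset.sum_congr rfl fun u _ => ?_
          simp only [Finset.mul_sum]
          rw [Finset.sum_comm]
  rw [h3]
  have h4 : ∀ u ∈ pElts (G := G) p, ∀ f : Blk M (Kz u), F u (EE (Kz u) f.1) *
        ∑ x : G, ∑ v ∈ Pf P, wt P v *
          (if x * v * x⁻¹ = u ∧ cj x (Ev M p P e v) = EE (Kz u) f.1 then (1 : ℂ) else 0) =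
      ((Pf P).card : ℂ) * F u (EE (Kz u) f.1) := by
    intro u hu f
    by_cases hpair : IsBrauerPairOf p M B (Subgroup.zpowers u) f.1
    · rw [sum_weight_of_pair hMp hmax hnil hpair, mul_comm]
    · have h5 : F u (EE (Kz u) f.1) = 0 := by
        simp only [hF, secF]
        apply Finset.sum_eq_zero
        intro c hc
        obtain ⟨k, hk⟩ := mem_pElts.mp hu
        rw [twTrace_EE_eq_zero_of_not_pair hMp hB hχ (by rw [← hk]; exact pow_orderOf_eq_one u) f.2 hpair hc,
          zero_mul]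
      rw [h5]
      ring
  have h6 : ∑ u ∈ pElts (G := G) p, ∑ f : Blk M (Kz u), F u (EE (Kz u) f.1) *
        ∑ x : G, ∑ v ∈ Pf P, wt P v *
          (if x * v * x⁻¹ = u ∧ cj x (Ev M p P e v) = EE (Kz u) f.1 then (1 : ℂ) else 0) =
      ∑ u ∈ pElts (G := G) p, ∑ f : Blk M (Kz u), ((Pf P).card : ℂ) * F u (EE (Kz u) f.1) :=
    Finset.sum_congr rfl fun u hu => Finset.sum_congr rfl fun f _ => h4 u hu f
  rw [h6]
  rw [sum_eq_sum_secF hMp h₁ h₂, Finset.mul_sum]
  refine Finset.sum_congr rfl fun u _ => ?_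
  rw [Finset.mul_sum]

end Ev

end Pair

end Cfsg.Agent.Lib.Blocks.Nilp
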