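/-
Nilpotent blocks: the value of a section, under the inductive hypothesis.
-/
import Mathlib
import Cfsg.Agent.Lib.Blocks.NilpPair
import Cfsg.Agent.Lib.Blocks.CycloSums
import Cfsg.Agent.Lib.Blocks.SecondMain

set_option autoImplicit false

namespace Cfsg.Agent.Lib.Blocks.Nilp

open Cfsg Cfsg.Agent.Lib.Blocks.Local Cfsg.Agent.Lib.Blocks.Central Cfsg.Agent.Lib.Blocks.Osima
open Cfsg.Agent.Lib.Blocks.Covering Cfsg.Agent.Lib.Blocks.BlockHom Cfsg.Agent.Lib.Blocks.Pairs
open Cfsg.Agent.Lib.Blocks.Twisted Cfsg.Agent.Lib.Blocks.Necklace Cfsg.Agent.Lib.Blocks.Sections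
open Cfsg.Agent.Lib.Blocks.Regular Cfsg.Agent.Lib.Blocks.BlockCount
open scoped ComplexConjugate

universe u

/-- The conclusion of the theorem of Broué and Puig, with the norm of the Brauer character. -/
def BPConcl (p : ℕ) (M : Ideal AlgInt) (H : Type u) [Group H] [Fintype H] (f : Set (IrrCharacter H)) : Prop :=
  ∃ ξ₀ ∈ f, (∀ ξ ∈ f, ∃ d : ℕ, ∀ g : H, ¬ p ∣ orderOf g → (ξ : H → ℂ) g = (d : ℂ) * (ξ₀ : H → ℂ) g) ∧
    ∀ D : Subgroup H, IsDefectGroup p M f D →
      (Nat.card D : ℂ) * ∑ g : H, reg p (ξ₀ : H → ℂ) g * conj ((ξ₀ : H → ℂ) g) = (Nat.card H : ℂ)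

section Shift

variable {K : Type u} [Group K] [Fintype K]

lemma exists_central_shift (ξ : IrrCharacter K) {w : K} (hw : ∀ k, w * k = k * w) :
    ∃ ζ : ℂ, ζ ^ (orderOf w) = 1 ∧ ∀ k, (ξ : K → ℂ) (w * k) = ζ * (ξ : K → ℂ) k := by
  classical
  set a : MonoidAlgebra ℂ K := MonoidAlgebra.single w 1 with ha
  have hcl : IsClassFunction K a.coeff := by
    intro g x
    rw [ha]
    simp only [MonoidAlgebra.coeff_single, Finsupp.single_apply]
    have : (w = x * g * x⁻¹) ↔ (w = g) := by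
      constructor
      · intro h
        have h2 : x⁻¹ * w * x = g := by rw [h]; group
        have h3 : x⁻¹ * w * x = w := by
          rw [mul_assoc, hw, ← mul_assoc, inv_mul_cancel, one_mul]
        rw [← h2, h3]
      · intro h
        rw [← h, ← hw x, mul_assoc, mul_inv_cancel, mul_one]
    simp only [this]
  set ζ := omega (ξ : K → ℂ) a with hζ
  have h1 : ∀ k, (ξ : K → ℂ) (w * k) = ζ * (ξ : K → ℂ) k := by
    intro k
    have h2 := SecondMain.twTrace_central_mul ξ.2 1 hcl (MonoidAlgebra.single k 1)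
    rw [ha, MonoidAlgebra.single_mul_single, twTrace_single, twTrace_single] at h2
    simpa using h2
  refine ⟨ζ, ?_, h1⟩
  have h3 : ∀ n : ℕ, ∀ k, (ξ : K → ℂ) (w ^ n * k) = ζ ^ n * (ξ : K → ℂ) k := by
    intro n
    induction n with
    | zero => intro k; simp
    | succ n ih =>
      intro k
      rw [pow_succ', mul_assoc, h1, ih, pow_succ']
      ring
  have h4 := h3 (orderOf w) 1
  rw [pow_orderOf_eq_one, mul_one] at h4
  have h5 := Cfsg.Agent.Lib.Char.Ortho.irr_apply_one_ne_zero ξ.2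
  exact (mul_right_cancel₀ h5 (by rw [one_mul]; exact h4)).symm

lemma classInner_shift (t : K → ℂ) (ξ : IrrCharacter K) {w : K} (hw : ∀ k, w * k = k * w) :
    ∃ ζ : ℂ, ζ ^ (orderOf w) = 1 ∧ classInner (fun k => t (w * k)) (ξ : K → ℂ) = ζ * classInner t (ξ : K → ℂ) := by
  have hw' : ∀ k, w⁻¹ * k = k * w⁻¹ := by
    intro k
    have := hw k⁻¹
    have h2 : (w * k⁻¹)⁻¹ = (k⁻¹ * w)⁻¹ := by rw [this]
    simpa using h2.symm
  obtain ⟨ζ, hζ, h1⟩ := exists_central_shift ξ hw'
  refine ⟨conj ζ, ?_, ?_⟩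
  · rw [orderOf_inv] at hζ
    rw [← map_pow, hζ, map_one]
  · rw [classInner, classInner, mul_left_comm, Finset.mul_sum (a := conj ζ)]
    congr 1
    refine Fintype.sum_equiv (Equiv.mulLeft w) _ _ fun k => ?_
    simp only [Equiv.coe_mulLeft]
    have e1 := h1 (w * k)
    rw [inv_mul_cancel_left] at e1
    rw [e1, map_mul]
    ring

end Shift

section Sec

variable {G : Type u} [Group G] [Fintype G] {M : Ideal AlgInt} [hM : M.IsPrime]
variable {p : ℕ} [hp : Fact p.Prime]

open Cfsg.Agent.Lib.Blocks.CycloSums in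
/-- The coefficient of a section is a sum of roots of unity. -/
lemma classInner_section_mem (χ : IrrCharacter G) {K : Subgroup G} [Fintype K] {v : G} (hvK : v ∈ K)
    (hK : ∀ k ∈ K, k * v = v * k) (ξ : IrrCharacter K) :
    classInner (fun k : K => (χ : G → ℂ) (v * k)) (ξ : K → ℂ) ∈ rootRing (Fintype.card G) := by
  classical
  have hw : ∀ k : K, (⟨v, hvK⟩ : K) * k = k * ⟨v, hvK⟩ := by
    intro k
    apply Subtype.ext
    exact (hK k k.2).symm
  obtain ⟨ζ, hζ, h1⟩ := classInner_shift (fun k : K => (χ : G → ℂ) k) ξ hw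
  have h2 : classInner (fun k : K => (χ : G → ℂ) (v * k)) (ξ : K → ℂ) =
      classInner (fun k : K => (fun k : K => (χ : G → ℂ) k) (⟨v, hvK⟩ * k)) (ξ : K → ℂ) := rfl
  rw [h2, h1]
  have h3 : IsCharacter K (fun k : K => (χ : G → ℂ) k) :=
    Cfsg.Agent.Lib.Char.Basic.isCharacter_restrict (Cfsg.Agent.Lib.Char.Values.IsIrrCharacter.isCharacter χ.2) K
  obtain ⟨m, hm⟩ := Cfsg.Agent.Lib.Char.Ortho.exists_nat_classInner h3 ξ
  rw [hm]
  refine (rootRing _).mul_mem (root_mem_rootRing ?_) (natCast_mem _ m)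
  have h4 : orderOf (⟨v, hvK⟩ : K) ∣ Fintype.card G := by
    have h5 := orderOf_dvd_card (G := K) (x := ⟨v, hvK⟩)
    have h6 : Fintype.card K ∣ Fintype.card G := by
      rw [← Nat.card_eq_fintype_card, ← Nat.card_eq_fintype_card]
      exact Subgroup.card_subgroup_dvd_card K
    exact h5.trans h6
  obtain ⟨s, hs⟩ := h4
  rw [hs, pow_mul, hζ, one_pow]

omit hM in
lemma card_Kz (v : G) : Nat.card (Kz v) = (setZ v).card := by
  classical
  rw [Nat.card_eq_fintype_card]
  have : Fintype.card (Kz v) = (Finset.univ.filter (· ∈ Kz v)).card := by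
    rw [Fintype.card_subtype]
  rw [this]
  congr 1
  ext a
  simp only [Finset.mem_filter, Finset.mem_univ, true_and]
  rw [mem_setZ, mem_centralizer_zpowers_iff]
  constructor
  · intro h
    rw [h, mul_inv_cancel_right]
  · intro h
    calc a * v = (a * v * a⁻¹) * a := by group
      _ = v * a := by rw [h]

omit hM in
lemma card_subgroupOf_Kz (P : Subgroup G) (v : G) :
    Nat.card ((P ⊓ Kz v).subgroupOf (Kz v)) = (setY P v v).card := by
  classical
  have h1 : Nat.card ((P ⊓ Kz v).subgroupOf (Kz v)) = Nat.card (P ⊓ Kz v : Subgroup G) := by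
    apply Nat.card_congr
    exact (Subgroup.subgroupOfEquivOfLe inf_le_right).toEquiv
  rw [h1, Nat.card_eq_fintype_card]
  have : Fintype.card (P ⊓ Kz v : Subgroup G) = (Finset.univ.filter (· ∈ (P ⊓ Kz v : Subgroup G))).card := by
    rw [Fintype.card_subtype]
  rw [this]
  congr 1
  ext a
  simp only [Finset.mem_filter, Finset.mem_univ, true_and]
  rw [mem_setY, Subgroup.mem_inf, mem_centralizer_zpowers_iff]
  constructor
  · rintro ⟨h0, h⟩
    refine ⟨h0, ?_⟩
    rw [h, mul_inv_cancel_right]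
  · rintro ⟨h0, h⟩
    refine ⟨h0, ?_⟩
    calc a * v = (a * v * a⁻¹) * a := by group
      _ = v * a := by rw [h]

open Cfsg.Agent.Lib.Blocks.CycloSums in
/-- The section at `v` is a multiple of a fixed function of known norm. -/
theorem exists_sec_data {P : Subgroup G} {e : Set (IrrCharacter (Subgroup.centralizer (P : Set G)))}
    (hMp : IsPModular p M) {B : Set (IrrCharacter G)} (hmax : IsMaximalBrauerPair p M B P e)
    (hnil : IsNilpotentBlock p M B) {v : G} (hv : v ∈ P) [Fintype (Kz v)]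
    (hIH : BPConcl p M (Kz v) (eBlk M p P e v)) :
    ∃ φ : G → ℂ, wt P v * ∑ c ∈ regC p v, φ c * conj (φ c) = 1 ∧
      ∀ χ : IrrCharacter G, ∃ a ∈ rootRing (Fintype.card G), ∀ c ∈ regC p v,
        twTrace (χ : G → ℂ) (v * c) (Ev M p P e v) = a * φ c := by
  classical
  have hPe := hmax.1.1
  obtain ⟨ξ₀, hξ₀, hd, hnorm⟩ := hIH
  choose! d hd using hd
  have hle := eBlk_spec hMp hPe hv
  have hD := isDefectGroup_centralizer_of_nilpotent hMp hmax hnil hle
  have hn := hnorm _ hD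
  have hvK : v ∈ Kz v := mem_centralizer_zpowers_iff.mpr rfl
  have hK : ∀ k ∈ Kz v, k * v = v * k := fun k hk => mem_centralizer_zpowers_iff.mp hk
  refine ⟨fun c => if h : c ∈ Kz v then (ξ₀ : Kz v → ℂ) ⟨c, h⟩ else 0, ?_, fun χ => ?_⟩
  · have h1 : ∑ c ∈ regC p v, (fun c => if h : c ∈ Kz v then (ξ₀ : Kz v → ℂ) ⟨c, h⟩ else 0) c *
        conj ((fun c => if h : c ∈ Kz v then (ξ₀ : Kz v → ℂ) ⟨c, h⟩ else 0) c) =
        ∑ g : Kz v, reg p (ξ₀ : Kz v → ℂ) g * conj ((ξ₀ : Kz v → ℂ) g) := by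
      have h2 : ∀ g : Kz v, reg p (ξ₀ : Kz v → ℂ) g * conj ((ξ₀ : Kz v → ℂ) g) =
          if ¬ p ∣ orderOf g then (ξ₀ : Kz v → ℂ) g * conj ((ξ₀ : Kz v → ℂ) g) else 0 := by
        intro g
        by_cases hg : p ∣ orderOf g
        · rw [reg_of_dvd _ hg, if_neg (not_not.mpr hg), zero_mul]
        · rw [reg_of_not_dvd _ hg, if_pos hg]
      simp only [h2]
      rw [← Finset.sum_filter]
      symm
      refine Finset.sum_bij (fun g _ => (g : G)) ?_ ?_ ?_ ?_
      · intro g hg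
        have hg' := (Finset.mem_filter.mp hg).2
        refine mem_regC.mpr ⟨g.2, ?_⟩
        rwa [Subgroup.orderOf_coe]
      · intro a _ b _ h
        exact Subtype.ext h
      · intro c hc
        obtain ⟨h3, h4⟩ := mem_regC.mp hc
        refine ⟨⟨c, h3⟩, Finset.mem_filter.mpr ⟨Finset.mem_univ _, ?_⟩, rfl⟩
        rw [← Subgroup.orderOf_coe]
        exact h4
      · intro g _
        simp only [g.2, dite_true]
    rw [h1, wt]
    rw [card_subgroupOf_Kz] at hn
    rw [card_Kz] at hn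
    have h5 : ((setZ v).card : ℂ) ≠ 0 := by exact_mod_cast (setZ_pos v).ne'
    field_simp
    rw [hn]
  · refine ⟨∑ ξ ∈ Finset.univ.filter (· ∈ eBlk M p P e v),
      classInner (fun k : Kz v => (χ : G → ℂ) (v * k)) (ξ : Kz v → ℂ) * (d ξ : ℂ), ?_, ?_⟩
    · refine (rootRing _).sum_mem fun ξ _ => (rootRing _).mul_mem ?_ (natCast_mem _ _)
      exact classInner_section_mem χ hvK hK ξ
    · intro c hc
      obtain ⟨h3, h4⟩ := mem_regC.mp hc
      have h5 := twTrace_EE_eq_blockPart (isClassFunction_of_irr χ.2) hK (eBlk M p P e v) ⟨c, h3⟩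
      simp only [Ev]
      rw [h5, blockPart_eq_sum, Finset.sum_mul]
      refine Finset.sum_congr rfl fun ξ hξ => ?_
      have hξ' := (Finset.mem_filter.mp hξ).2
      have h6 : ¬ p ∣ orderOf (⟨c, h3⟩ : Kz v) := by
        rw [← Subgroup.orderOf_coe]
        exact h4
      rw [hd ξ hξ' ⟨c, h3⟩ h6]
      simp only [h3, dite_true]
      ring

end Sec

end Cfsg.Agent.Lib.Blocks.Nilp
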