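/-
Nilpotent blocks: the source idempotent attached to a character.
-/
import Mathlib
import Cfsg.Agent.Lib.Blocks.NilpData
import Cfsg.Agent.Lib.Blocks.HeightZero

set_option autoImplicit false

namespace Cfsg.Agent.Lib.Blocks.Nilp

open Cfsg Cfsg.Agent.Lib.Blocks.Local Cfsg.Agent.Lib.Blocks.Central Cfsg.Agent.Lib.Blocks.Osima
open Cfsg.Agent.Lib.Blocks.Covering Cfsg.Agent.Lib.Blocks.BlockHom Cfsg.Agent.Lib.Blocks.Pairs
open Cfsg.Agent.Lib.Blocks.Twisted Cfsg.Agent.Lib.Blocks.Necklace Cfsg.Agent.Lib.Blocks.Sections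
open Cfsg.Agent.Lib.Blocks.Regular Cfsg.Agent.Lib.Blocks.BlockCount
open scoped ComplexConjugate

universe u

section Y

variable {G : Type u} [Group G] [Fintype G] {M : Ideal AlgInt} [hM : M.IsPrime]
variable {p : ℕ} [hp : Fact p.Prime]

/-- The trace of a character is symmetric. -/
lemma twTrace_one_comm {χ : G → ℂ} (hχ : IsCharacter G χ) (a b : MonoidAlgebra ℂ G) :
    twTrace χ 1 (a * b) = twTrace χ 1 (b * a) := by
  obtain ⟨n, ρ, rfl⟩ := hχ
  rw [← trace_asAlgebraHom, ← trace_asAlgebraHom, map_mul ρ.asAlgebraHom, map_mul ρ.asAlgebraHom,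
    LinearMap.trace_mul_comm]

/-- The truncation at a `p`-group does not change a trace modulo the ideal. -/
lemma twTrace_sub_tr_mem (hMp : IsPModular p M) {P : Subgroup G} (hP : IsPGroup p P)
    {y : MonoidAlgebra ℂ G} (hy : LocCoeff M y) (hyi : InvBy P y) {t : G → ℂ} (htl : ∀ g, MemLocalRing M (t g))
    (ht : IsClassFunction G t) :
    MemLocalIdeal M (twTrace t 1 y - twTrace t 1 (tr (Subgroup.centralizer (P : Set G)) y)) := by
  classical
  letI : Fintype (Subgroup.centralizer (P : Set G)) := Fintype.ofFinite _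
  set b : MonoidAlgebra ℂ G := ofFun (fun g => t g⁻¹) with hb
  have hbc : ∀ g, b.coeff g = t g⁻¹ := fun g => coeff_ofFun _ _
  have hbl : LocCoeff M b := fun g => by
    rw [hbc]
    exact htl _
  have hbi : InvBy P b := fun g u _ => by
    rw [hbc, hbc]
    have := ht g⁻¹ u
    rw [← this]
    congr 1
    group
  have h1 := res_mul_sub_coeff hMp hP hy hyi hbl hbi (1 : Subgroup.centralizer (P : Set G))
  have e1 : twTrace t 1 y = (y * b).coeff 1 := by
    rw [coeff_mul_eq_sum]
    simp only [twTrace, mul_one, hbc]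
    refine Finset.sum_congr rfl fun g _ => ?_
    congr 2
    group
  have e2 : twTrace t 1 (tr (Subgroup.centralizer (P : Set G)) y) =
      (res (Subgroup.centralizer (P : Set G)) y * res (Subgroup.centralizer (P : Set G)) b).coeff 1 := by
    rw [coeff_mul_eq_sum]
    simp only [twTrace, mul_one, coeff_res, hbc]
    rw [← Finset.sum_subset (Finset.subset_univ (Finset.univ.filter (· ∈ Subgroup.centralizer (P : Set G))))]
    · symm
      refine Finset.sum_bij (fun c _ => (c : G)) ?_ ?_ ?_ ?_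
      · intro c _
        exact Finset.mem_filter.mpr ⟨Finset.mem_univ _, c.2⟩
      · intro a _ b _ h
        exact Subtype.ext h
      · intro g hg
        exact ⟨⟨g, (Finset.mem_filter.mp hg).2⟩, Finset.mem_univ _, rfl⟩
      · intro c _
        rw [coeff_tr_of_mem _ c.2]
        congr 2
        simp
    · intro g _ hg
      rw [coeff_tr_of_notMem, zero_mul]
      simpa using hg
  rw [MonoidAlgebra.coeff_sub, Finsupp.sub_apply, coeff_res, OneMemClass.coe_one] at h1
  rw [e1, e2]
  exact h1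

lemma memLocalIdeal_twTrace {a : MonoidAlgebra ℂ G} (ha : CoeffIn (localIdeal M) a) {t : G → ℂ}
    (htl : ∀ g, MemLocalRing M (t g)) (h : G) : MemLocalIdeal M (twTrace t h a) := by
  rw [coeffIn_localIdeal_iff] at ha
  exact memLocalIdeal_sum _ _ fun g _ => memLocalIdeal_mul_right (ha g) (htl _)

lemma twTrace_algebraMap_mul (t : G → ℂ) (h : G) (l : localRing M) (y : MonoidAlgebra ℂ G) :
    twTrace t h (algebraMap (localRing M) (MonoidAlgebra ℂ G) l * y) = (l : ℂ) * twTrace t h y := by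
  classical
  rw [algebraMap_local_eq, ← Algebra.smul_def]
  simp only [twTrace, Finset.mul_sum]
  refine Finset.sum_congr rfl fun g _ => ?_
  simp only [MonoidAlgebra.coeff_smul, Finsupp.smul_apply, smul_eq_mul]
  ring

/-- The source idempotent attached to a character of the block. -/
theorem exists_source (hMp : IsPModular p M) {B : Set (IrrCharacter G)} (hB : IsPBlock M B) {P : Subgroup G}
    (hP : IsPGroup p P) {χ₀ : IrrCharacter G} (hχ₀ : χ₀ ∈ B) {c₀ : MonoidAlgebra ℂ G} (hc₀ : LocCoeff M c₀)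
    (hc₀i : InvBy P c₀) (hT : ¬ MemLocalIdeal M (twTrace (χ₀ : G → ℂ) 1 c₀)) :
    ∃ (y : MonoidAlgebra ℂ G) (e : Set (IrrCharacter (Subgroup.centralizer (P : Set G)))),
      IsPrimIdem M P y ∧ ¬ MemLocalIdeal M (twTrace (χ₀ : G → ℂ) 1 y) ∧
      ¬ CoeffIn (localIdeal M) (tr (Subgroup.centralizer (P : Set G)) y) ∧
      IsBrauerPairOf p M B P e ∧
      CoeffIn (localIdeal M) (tr (Subgroup.centralizer (P : Set G)) y * (1 - EE (Subgroup.centralizer (P : Set G)) e)) := by
  classical
  letI : Fintype (Subgroup.centralizer (P : Set G)) := Fintype.ofFinite _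
  have hchar : IsCharacter G (χ₀ : G → ℂ) := Cfsg.Agent.Lib.Char.Values.IsIrrCharacter.isCharacter χ₀.2
  have htl : ∀ g, MemLocalRing M ((χ₀ : G → ℂ) g) := fun g => memLocalRing_of_isIntegral (isIntegral_irr χ₀.2 g)
  obtain ⟨y, c, hy, hc, hci, hTy⟩ := exists_primIdem (fun a => twTrace (χ₀ : G → ℂ) 1 a) (twTrace_add _ _)
    (twTrace_one_comm hchar) hc₀ hc₀i hT
  have hT1 : ¬ MemLocalIdeal M (twTrace (χ₀ : G → ℂ) 1 y) := by
    intro h
    apply hTy
    obtain ⟨l, hl⟩ := hy.exists_specI hc hci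
    have h1 := hl.trace_mem hchar
    rw [twTrace_sub, twTrace_algebraMap_mul] at h1
    have h2 := memLocalIdeal_add h1 (memLocalIdeal_mul_left l.2 h)
    rwa [sub_add_cancel] at h2
  have hne : ¬ CoeffIn (localIdeal M) (tr (Subgroup.centralizer (P : Set G)) y) := by
    intro h
    apply hT1
    have h1 := twTrace_sub_tr_mem hMp hP hy.loc hy.inv htl (isClassFunction_of_irr χ₀.2)
    have h2 := memLocalIdeal_add h1 (memLocalIdeal_twTrace h htl 1)
    rwa [sub_add_cancel] at h2
  obtain ⟨e, he, he1, he2⟩ := exists_block_of_primIdem hMp hP hy hne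
  refine ⟨y, e, hy, hT1, hne, ?_, he2⟩
  -- the idempotent lies in the block
  set ε := blockElt B with hε
  have hεd : BrDom M P ε := brDom_blockElt hB
  have hεε : ε * ε = ε := blockElt_mul_self B
  have hεc : ∀ a : MonoidAlgebra ℂ G, Commute a ε := fun a =>
    commute_of_suppOn (K := ⊤) (fun g hg => absurd (Subgroup.mem_top g) hg)
      (fun g x _ => isClassFunction_blockElt B g x)
  have hεl1 : LocCoeff M (1 - ε) := locCoeff_one.sub hεd.loc
  have hεi1 : InvBy P (1 - ε) := (invBy_one _).sub hεd.invP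
  have hyy := hy.idem
  have h11 : (y * ε) * (y * ε) = y * ε := by
    calc (y * ε) * (y * ε) = y * (ε * y) * ε := by noncomm_ring
      _ = y * (y * ε) * ε := by rw [(hεc y).eq]
      _ = (y * y) * (ε * ε) := by noncomm_ring
      _ = y * ε := by rw [hyy, hεε]
  have h22 : (y * (1 - ε)) * (y * (1 - ε)) = y * (1 - ε) := by
    rw [mul_sub, mul_one, sub_mul, mul_sub, mul_sub, h11, hyy]
    have e1 : y * (y * ε) = y * ε := by rw [← mul_assoc, hyy]
    have e2 : y * ε * y = y * ε := by
      rw [mul_assoc, ← (hεc y).eq, ← mul_assoc, hyy]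
    rw [e1, e2]
    abel
  have h12 : (y * ε) * (y * (1 - ε)) = 0 := by
    have e2 : y * ε * y = y * ε := by
      rw [mul_assoc, ← (hεc y).eq, ← mul_assoc, hyy]
    rw [mul_sub, mul_one, mul_sub, e2, h11, sub_self]
  have h21 : (y * (1 - ε)) * (y * ε) = 0 := by
    have e1 : y * (y * ε) = y * ε := by rw [← mul_assoc, hyy]
    rw [mul_sub, mul_one, sub_mul, e1, h11, sub_self]
  have hsum : y * ε + y * (1 - ε) = y := by
    rw [mul_sub, mul_one]
    abel
  have hpr := hy.prim _ _ (hy.loc.mul hεd.loc) (hy.inv.mul hεd.invP) (hy.loc.mul hεl1) (hy.inv.mul hεi1)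
    h11 h22 h12 h21 hsum
  have hyε : y * ε = y := by
    rcases hpr with h0 | h0
    · exfalso
      apply hT1
      have h3 := twTrace_blockElt_mul B hχ₀ 1 y
      rw [← (hεc y).eq, h0] at h3
      rw [← h3]
      have : twTrace (χ₀ : G → ℂ) 1 (0 : MonoidAlgebra ℂ G) = 0 := by
        simp [twTrace]
      rw [this]
      exact memLocalIdeal_zero
    · rw [h0, add_zero] at hsum
      exact hsum
  rw [isBrauerPairOf_iff]
  refine ⟨⟨hP, he⟩, hB, bv_sub_one_of_not_coeffIn hMp hP (brDom_blockElt hB) (blockElt_mul_self B) he ?_⟩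
  intro hcon
  apply he1
  have h4 := (tr_mul_eqI hMp hP hy.loc hy.inv hεd.loc hεd.invP).mul_right
    (locCoeff_EE (K := Subgroup.centralizer (P : Set G)) he)
  rw [hyε] at h4
  refine coeffIn_of_eqI h4 ?_
  rw [mul_assoc]
  exact coeffIn_loc_mul (locCoeff_tr _ hy.loc) hcon

/-- The coherence of the source idempotent with the block below the pair. -/
theorem coeffIn_tr_mul_one_sub_Ev (hMp : IsPModular p M) {P : Subgroup G} (hP : IsPGroup p P)
    {y : MonoidAlgebra ℂ G} (hy : IsPrimIdem M P y) (hne : ¬ CoeffIn (localIdeal M) (tr (Subgroup.centralizer (P : Set G)) y))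
    {e : Set (IrrCharacter (Subgroup.centralizer (P : Set G)))} (hPe : IsBrauerPair p M P e)
    (h1 : CoeffIn (localIdeal M) (tr (Subgroup.centralizer (P : Set G)) y * (1 - EE (Subgroup.centralizer (P : Set G)) e)))
    {v : G} (hv : v ∈ P) :
    CoeffIn (localIdeal M) (tr (Kz v) y * (1 - Ev M p P e v)) := by
  classical
  letI : Fintype (Kz v) := Fintype.ofFinite _
  have hb := isPBlock_eBlk hMp hPe hv
  have h2 : (1 : MonoidAlgebra ℂ G) - Ev M p P e v =
      ∑ f ∈ Finset.univ.filter (fun f : Blk M (Kz v) => f.1 ≠ eBlk M p P e v), EE (Kz v) f.1 := by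
    have h3 := sum_EE_eq_one (M := M) (Kz v)
    rw [← Finset.sum_filter_add_sum_filter_not Finset.univ (fun f : Blk M (Kz v) => f.1 = eBlk M p P e v)] at h3
    have h4 : ∑ f ∈ Finset.univ.filter (fun f : Blk M (Kz v) => f.1 = eBlk M p P e v), EE (Kz v) f.1 = Ev M p P e v := by
      rw [Finset.sum_eq_single (⟨eBlk M p P e v, hb⟩ : Blk M (Kz v))]
      · rfl
      · intro f hf hne'
        exact absurd (Subtype.ext (Finset.mem_filter.mp hf).2) hne'
      · intro h5
        exact absurd (by simp) h5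
    rw [h4] at h3
    rw [← h3, add_sub_cancel_left]
  rw [h2, Finset.mul_sum]
  refine coeffIn_localIdeal_iff.mpr fun g => ?_
  rw [MonoidAlgebra.coeff_sum, Finsupp.finset_sum_apply]
  refine memLocalIdeal_sum _ _ fun f hf => ?_
  have hf' := (Finset.mem_filter.mp hf).2
  have h5 : CoeffIn (localIdeal M) (tr (Kz v) y * EE (Kz v) f.1) := by
    by_contra hcon
    exact hf' (eq_eBlk hMp hPe (coherence hMp hP hy hne hPe.2 h1 _ (Subgroup.zpowers v) rfl
      ((Subgroup.zpowers_le).mpr hv) f.1 f.2 hcon))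
  exact coeffIn_localIdeal_iff.mp h5 g

end Y

end Cfsg.Agent.Lib.Blocks.Nilp
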