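/-
Nilpotent blocks: inverting a character with unit values.
-/
import Mathlib
import Cfsg.Agent.Lib.Blocks.NilpY
import Cfsg.Agent.Lib.Char.Galois
import Cfsg.Agent.Lib.Char.Virtual
import Cfsg.Agent.Lib.Char.Complete
import Cfsg.Agent.Lib.Blocks.CycloSums

set_option autoImplicit false

namespace Cfsg.Agent.Lib.Blocks.Nilp

open Cfsg Cfsg.Agent.Lib.Blocks.Local Cfsg.Agent.Lib.Blocks.Central
open Cfsg.Agent.Lib.Blocks.BlockHom
open scoped ComplexConjugate
open Polynomial

universe u

section Inv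

variable {Q : Type u} [Group Q] [Fintype Q] {M : Ideal AlgInt} [hM : M.IsPrime]
variable {p : ℕ} [hp : Fact p.Prime]

open Cfsg.Agent.Lib.Char.Virtual Cfsg.Agent.Lib.Char.Galois Cfsg.Agent.Lib.Char.Basic in
/-- A character with unit values is invertible, up to an integer prime to `p`, among the
generalized characters. -/
theorem exists_inverse_gen (hMp : IsPModular p M) {ν : Q → ℂ} (hν : IsCharacter Q ν)
    (hu : ∀ a, ¬ MemLocalIdeal M (ν a)) :
    ∃ (κ : Q → ℂ) (m : ℤ), IsGeneralizedCharacter Q κ ∧ ¬ (p : ℤ) ∣ m ∧ ∀ a, κ a * ν a = m := by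
  classical
  set n := Nat.card Q with hn
  have hnpos : 0 < n := Nat.card_pos
  haveI : NeZero n := ⟨hnpos.ne'⟩
  have hval : ∀ (a : Q), a ^ ((1 : (ZMod n)ˣ) : ZMod n).val = a := by
    intro a
    have h1 : a ^ n = 1 := pow_card_eq_one'
    rw [Units.val_one, ZMod.val_one_eq_one_mod, ← pow_eq_pow_mod 1 h1, pow_one]
  have hchar : ∀ u : (ZMod n)ˣ, IsCharacter Q (fun a => ν (a ^ (u : ZMod n).val)) := fun u =>
    isCharacter_pow_of_coprime hν (ZMod.val_coe_unit_coprime u)
  -- the product of the conjugates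
  set F' : Q → ℂ := fun a => ∏ u ∈ Finset.univ.erase (1 : (ZMod n)ˣ), ν (a ^ (u : ZMod n).val) with hF'
  have hprodchar : ∀ s : Finset (ZMod n)ˣ, IsCharacter Q (fun a => ∏ u ∈ s, ν (a ^ (u : ZMod n).val)) := by
    intro s
    induction s using Finset.induction_on with
    | empty =>
      have h0 := isCharacter_one (G := Q)
      simpa [Pi.one_def] using h0
    | insert u s hus ih =>
      have h1 := isCharacter_mul (hchar u) ih
      have h2 : ((fun a => ν (a ^ (u : ZMod n).val)) * fun a => ∏ u ∈ s, ν (a ^ (u : ZMod n).val)) =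
          (fun a => ∏ u ∈ insert u s, ν (a ^ (u : ZMod n).val)) := by
        funext a
        rw [Finset.prod_insert hus]
        rfl
      rwa [h2] at h1
  have hF'c : IsCharacter Q F' := hprodchar _
  set F : Q → ℂ := fun a => ν a * F' a with hF
  have hFc : IsCharacter Q F := isCharacter_mul hν hF'c
  have hFprod : ∀ a, F a = ∏ u : (ZMod n)ˣ, ν (a ^ (u : ZMod n).val) := by
    intro a
    rw [← Finset.mul_prod_erase Finset.univ _ (Finset.mem_univ (1 : (ZMod n)ˣ)), hval]
  have hFint : ∀ a, ∃ r : ℤ, F a = r := by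
    intro a
    obtain ⟨m, ρ, rfl⟩ := hν
    obtain ⟨ι, hι, z, h1, h2⟩ := character_eigen ρ a hnpos pow_card_eq_one'
    obtain ⟨r, hr⟩ := prod_int (n := n) z h1
    refine ⟨r, ?_⟩
    rw [hFprod, ← hr]
    exact Finset.prod_congr rfl fun u _ => h2 _
  choose r hr using hFint
  have hloc : ∀ a, MemLocalRing M (ν a) := fun a => by
    obtain ⟨m, ρ, rfl⟩ := hν
    exact memLocalRing_of_isIntegral (Cfsg.Agent.Lib.Char.Values.isIntegral_character ρ a)
  have hFu : ∀ a, ¬ (p : ℤ) ∣ r a := by
    intro a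
    rw [← memLocalIdeal_intCast_iff hMp, ← hr, hFprod]
    have hs : ∀ s : Finset (ZMod n)ˣ, MemLocalRing M (∏ u ∈ s, ν (a ^ (u : ZMod n).val)) ∧
        ¬ MemLocalIdeal M (∏ u ∈ s, ν (a ^ (u : ZMod n).val)) := by
      intro s
      induction s using Finset.induction_on with
      | empty =>
        simpa using ⟨memLocalRing_one, not_memLocalIdeal_one⟩
      | insert u s hus ih =>
        rw [Finset.prod_insert hus]
        exact ⟨memLocalRing_mul (hloc _) ih.1, not_memLocalIdeal_mul (hloc _) ih.1 (hu _) ih.2⟩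
    exact (hs _).2
  -- the polynomial
  set q : ℤ[X] := ∏ a : Q, (X - C (r a)) with hq
  have hq0 : q.coeff 0 = ∏ a : Q, (- r a) := by
    rw [hq, Polynomial.coeff_zero_eq_eval_zero, Polynomial.eval_prod]
    simp
  have hqe : ∀ a, eval (r a) q = 0 := by
    intro a
    rw [hq, Polynomial.eval_prod]
    exact Finset.prod_eq_zero (Finset.mem_univ a) (by simp)
  refine ⟨fun a => ∑ i ∈ Finset.range (q.divX.natDegree + 1), (q.divX.coeff i : ℂ) * (F a ^ i * F' a),
    - q.coeff 0, ?_, ?_, ?_⟩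
  · have hpow : ∀ i : ℕ, IsCharacter Q (fun a => F a ^ i * F' a) := by
      intro i
      induction i with
      | zero => simpa using hF'c
      | succ i ih =>
        have h1 := isCharacter_mul hFc ih
        have h2 : (F * fun a => F a ^ i * F' a) = (fun a => F a ^ (i + 1) * F' a) := by
          funext a
          simp only [Pi.mul_apply]
          ring
        rwa [h2] at h1
    have h3 : (fun a => ∑ i ∈ Finset.range (q.divX.natDegree + 1), (q.divX.coeff i : ℂ) * (F a ^ i * F' a)) =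
        ∑ i ∈ Finset.range (q.divX.natDegree + 1), ((q.divX.coeff i : ℤ) : ℂ) • (fun a => F a ^ i * F' a) := by
      funext a
      simp only [Finset.sum_apply, Pi.smul_apply, smul_eq_mul]
    rw [h3]
    exact isGeneralized_finset_sum _ fun i _ =>
      isGeneralized_intCast_smul (isGeneralized_of_isCharacter (hpow i)) _
  · rw [hq0]
    intro h
    have hpp : Prime (p : ℤ) := Nat.prime_iff_prime_int.mp hp.out
    rw [dvd_neg, hpp.dvd_finset_prod_iff] at h
    obtain ⟨a, -, ha⟩ := h
    exact hFu a (by simpa using ha)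
  · intro a
    have h1 := congrArg (Polynomial.eval (r a)) (Polynomial.divX_mul_X_add q)
    rw [Polynomial.eval_add, Polynomial.eval_mul, Polynomial.eval_X, Polynomial.eval_C, hqe,
      Polynomial.eval_eq_sum_range] at h1
    have h2 : ∑ i ∈ Finset.range (q.divX.natDegree + 1), (q.divX.coeff i : ℂ) * (F a ^ i * F' a) * ν a =
        ((∑ i ∈ Finset.range (q.divX.natDegree + 1), q.divX.coeff i * r a ^ i) * r a : ℤ) := by
      push_cast
      rw [Finset.sum_mul]
      refine Finset.sum_congr rfl fun i _ => ?_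
      rw [← hr a]
      simp only [hF]
      ring
    have h3 : (∑ i ∈ Finset.range (q.divX.natDegree + 1), (q.divX.coeff i : ℂ) * (F a ^ i * F' a)) * ν a =
        ((- q.coeff 0 : ℤ) : ℂ) := by
      rw [Finset.sum_mul, h2]
      congr 1
      linarith
    exact h3

end Inv

section Arith

variable {p : ℕ} [hp : Fact p.Prime]

/-- An integrality criterion. -/
lemma exists_int_of_mul {x : ℂ} {m z : ℤ} (hm : ¬ (p : ℤ) ∣ m) (hz : (m : ℂ) * x = z) {k : ℕ}
    (hi : IsIntegral ℤ ((p : ℂ) ^ k * x)) : ∃ w : ℤ, x = w := by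
  have hm0 : m ≠ 0 := by
    rintro rfl
    exact hm (dvd_zero _)
  have hmc : (m : ℂ) ≠ 0 := by exact_mod_cast hm0
  have hx : x = (((z : ℚ) / (m : ℚ) : ℚ) : ℂ) := by
    push_cast
    field_simp
    rw [← hz]
    ring
  set y : ℚ := (p : ℚ) ^ k * ((z : ℚ) / (m : ℚ)) with hy
  have hyc : (p : ℂ) ^ k * x = algebraMap ℚ ℂ y := by
    rw [hx, hy]
    push_cast
    rfl
  rw [hyc, isIntegral_algebraMap_iff (algebraMap ℚ ℂ).injective] at hi
  obtain ⟨w, hw⟩ := IsIntegrallyClosed.isIntegral_iff.mp hi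
  have hw' : (w : ℚ) = y := by simpa using hw
  have h1 : (m : ℤ) ∣ (p : ℤ) ^ k * z := by
    refine ⟨w, ?_⟩
    have h2 : ((p : ℚ) ^ k * (z : ℚ) : ℚ) = (m : ℚ) * (w : ℚ) := by
      rw [hw', hy]
      have hmq : (m : ℚ) ≠ 0 := by exact_mod_cast hm0
      field_simp
    exact_mod_cast h2
  have hcop : IsCoprime m ((p : ℤ) ^ k) := by
    apply IsCoprime.pow_right
    have hpp : Prime (p : ℤ) := Nat.prime_iff_prime_int.mp hp.out
    exact ((Prime.coprime_iff_not_dvd hpp).mpr hm).symm
  obtain ⟨w', hw''⟩ := hcop.dvd_of_dvd_mul_left h1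
  refine ⟨w', ?_⟩
  have h3 : (m : ℂ) * x = (m : ℂ) * (w' : ℂ) := by
    rw [hz, hw'']
    push_cast
    ring
  exact mul_left_cancel₀ hmc h3

open Cfsg.Agent.Lib.Blocks.CycloSums in
lemma tau_one_eq {n : ℕ} [NeZero n] {x : ℂ} (hx : x ∈ rootRing n) : tau n 1 x = x := by
  have hx' : x ∈ Cfsg.Agent.Lib.Blocks.GaloisAvg.rootSums n := hx
  have hone : ((1 : (ZMod (2 * n))ˣ) : ZMod (2 * n)).val = 1 := by
    rw [Units.val_one]
    apply ZMod.val_one''
    have := NeZero.ne n
    omega
  induction hx' using AddSubgroup.closure_induction with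
  | mem b hb =>
    have hb' : b ^ n = 1 := hb
    rw [tau_root' n 1 hb', hone, pow_one]
  | zero => rw [map_zero]
  | add s t hs' ht' hs ht =>
    rw [map_add, hs hs', ht ht']
  | neg s hs' hs =>
    rw [map_neg, hs hs']

open Cfsg.Agent.Lib.Blocks.CycloSums in
/-- The equality case of the inequality between the means. -/
theorem mul_conj_eq_one_of_nAvg_eq_one {n : ℕ} [NeZero n] {x : ℂ} (hx : x ∈ rootRing n) (h0 : x ≠ 0)
    (h : nAvg n x = 1) : x * conj x = 1 := by
  classical
  set s : (ZMod (2 * n))ˣ → ℝ := fun u => ‖tau n u x‖ ^ 2 with hs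
  have hne : ∀ u, tau n u x ≠ 0 := fun u => (map_ne_zero (tau n u)).mpr h0
  have hspos : ∀ u, 0 < s u := fun u => by
    have := norm_pos_iff.mpr (hne u)
    positivity
  have hsum : ∑ u, s u = Fintype.card (ZMod (2 * n))ˣ := by
    have h1 := h
    rw [nAvg, inv_mul_eq_div, div_eq_one_iff_eq (card_units_pos (n := n)).ne'] at h1
    exact h1
  have hprod : 1 ≤ ∏ u, s u := by
    simp only [hs]
    rw [Finset.prod_pow]
    exact one_le_pow₀ (one_le_prod_norm_tau hx h0)
  have hlog : 0 ≤ ∑ u, Real.log (s u) := by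
    rw [← Real.log_prod (fun u _ => (hspos u).ne')]
    exact Real.log_nonneg hprod
  have hle : ∀ u, 0 ≤ s u - 1 - Real.log (s u) := fun u => by
    have := Real.log_le_sub_one_of_pos (hspos u)
    linarith
  have hzero : ∑ u, (s u - 1 - Real.log (s u)) ≤ 0 := by
    rw [Finset.sum_sub_distrib, Finset.sum_sub_distrib, hsum]
    simp only [Finset.sum_const, Finset.card_univ, nsmul_eq_mul, mul_one]
    linarith
  have hz : ∀ u ∈ Finset.univ, s u - 1 - Real.log (s u) = 0 :=
    (Finset.sum_eq_zero_iff_of_nonneg fun u _ => hle u).mp (le_antisymm hzero (Finset.sum_nonneg fun u _ => hle u))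
  have h1 : s 1 = 1 := by
    by_contra hne1
    have h2 := Real.log_lt_sub_one_of_pos (hspos 1) hne1
    have h3 := hz 1 (Finset.mem_univ _)
    linarith
  simp only [hs, tau_one_eq hx] at h1
  rw [Complex.mul_conj, Complex.normSq_eq_norm_sq, h1]
  simp

end Arith

section Norm

variable {Q : Type u} [Group Q] [Fintype Q]

/-- A class function with integral inner products has integral norm. -/
theorem exists_nat_classInner_self {t : Q → ℂ} (ht : IsClassFunction Q t)
    (hint : ∀ l : IrrCharacter Q, ∃ n : ℤ, classInner t (l : Q → ℂ) = n) :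
    ∃ n : ℕ, classInner t t = n := by
  classical
  haveI : Fintype (IrrCharacter Q) := Fintype.ofFinite _
  choose c hc using hint
  have h1 := Cfsg.Agent.Lib.Char.Complete.eq_sum_classInner t ht
  refine ⟨∑ l, (c l).natAbs ^ 2, ?_⟩
  have h2 : classInner t t = ∑ l : IrrCharacter Q, classInner t (l : Q → ℂ) * classInner (l : Q → ℂ) t := by
    conv_lhs => rw [h1]
    rw [Cfsg.Agent.Lib.Char.Virtual.classInner_finset_sum_left]
    refine Finset.sum_congr rfl fun l _ => ?_
    rw [Cfsg.Agent.Lib.Char.Virtual.classInner_smul_left, ← h1]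
  rw [h2]
  push_cast
  refine Finset.sum_congr rfl fun l _ => ?_
  rw [← Cfsg.Agent.Lib.Char.Virtual.classInner_conj_symm t (l : Q → ℂ), hc l, map_intCast]
  have h3 : ((c l).natAbs : ℤ) ^ 2 = (c l) ^ 2 := Int.natAbs_sq _
  have h4 : (((c l).natAbs : ℂ)) ^ 2 = ((c l) : ℂ) ^ 2 := by
    have h5 := congrArg (Int.cast (R := ℂ)) h3
    rw [Int.cast_pow, Int.cast_pow, Int.cast_natCast] at h5
    exact h5
  rw [h4]
  ring

end Norm

end Cfsg.Agent.Lib.Blocks.Nilp
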