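/-
Nilpotent blocks: the norm computations.
-/
import Mathlib
import Cfsg.Agent.Lib.Blocks.NilpInv

set_option autoImplicit false

namespace Cfsg.Agent.Lib.Blocks.Nilp

open Cfsg Cfsg.Agent.Lib.Blocks.Local Cfsg.Agent.Lib.Blocks.Central Cfsg.Agent.Lib.Blocks.Osima
open Cfsg.Agent.Lib.Blocks.Covering Cfsg.Agent.Lib.Blocks.BlockHom Cfsg.Agent.Lib.Blocks.Pairs
open Cfsg.Agent.Lib.Blocks.Twisted Cfsg.Agent.Lib.Blocks.Necklace Cfsg.Agent.Lib.Blocks.Sections
open Cfsg.Agent.Lib.Blocks.Regular Cfsg.Agent.Lib.Blocks.BlockCount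
open Cfsg.Agent.Lib.Blocks.CycloSums
open scoped ComplexConjugate

universe u

section Core

variable {G : Type u} [Group G] [Fintype G] {M : Ideal AlgInt} [hM : M.IsPrime]
variable {p : ℕ} [hp : Fact p.Prime]
variable {P : Subgroup G} {e : Set (IrrCharacter (Subgroup.centralizer (P : Set G)))}

/-- The element is central. -/
def IsCen (v : G) : Prop := ∀ g, g * v = v * g

open Classical in
/-- The noncentral elements of `P`. -/
noncomputable def Pnc (P : Subgroup G) : Finset G := (Pf P).filter (fun v => ¬ IsCen v)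

open Classical in
/-- The central elements of `P`. -/
noncomputable def Pce (P : Subgroup G) : Finset G := (Pf P).filter (fun v => IsCen v)

omit hM in
lemma mem_Pnc {P : Subgroup G} {v : G} : v ∈ Pnc P ↔ v ∈ P ∧ ¬ IsCen v := by
  classical
  simp [Pnc, mem_Pf]

omit hM in
lemma mem_Pce {P : Subgroup G} {v : G} : v ∈ Pce P ↔ v ∈ P ∧ IsCen v := by
  classical
  simp [Pce, mem_Pf]

omit hM in
lemma card_Pnc_add_Pce (P : Subgroup G) : (Pnc P).card + (Pce P).card = (Pf P).card := by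
  classical
  rw [add_comm]
  exact Finset.card_filter_add_card_filter_not _

omit hM in
lemma sum_Pf_eq (P : Subgroup G) (f : G → ℂ) : ∑ v ∈ Pf P, f v = ∑ v ∈ Pnc P, f v + ∑ v ∈ Pce P, f v := by
  classical
  rw [add_comm]
  exact (Finset.sum_filter_add_sum_filter_not _ _ _).symm

omit hM in
lemma one_mem_Pce (P : Subgroup G) : (1 : G) ∈ Pce P := mem_Pce.mpr ⟨P.one_mem, fun g => by simp⟩

omit hM in
lemma card_Pce_pos (P : Subgroup G) : 0 < (Pce P).card := Finset.card_pos.mpr ⟨1, one_mem_Pce P⟩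

/-- The function is trivial on the central elements of `P`. -/
def KerZ (P : Subgroup G) (χ : G → ℂ) : Prop := ∀ z ∈ P, IsCen z → ∀ g, χ (z * g) = χ g

/-- The norm form on the regular elements, scaled by the order of `P`. -/
noncomputable def RR (p : ℕ) (P : Subgroup G) (χ ψ : G → ℂ) : ℂ :=
  ((Pf P).card : ℂ) * classInner (reg p χ) ψ

lemma eq_eBlk_of_central (hMp : IsPModular p M) {B : Set (IrrCharacter G)} (hmax : IsMaximalBrauerPair p M B P e)
    {z : G} (hz : z ∈ P) (hc : IsCen z) {f : Set (IrrCharacter (Kz z))}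
    (hQf : IsBrauerPairOf p M B (Subgroup.zpowers z) f) : f = eBlk M p P e z := by
  classical
  have hPe := hmax.1.1
  obtain ⟨x₀, hx₀⟩ := exists_conj_subpairLE hMp hmax hQf
  have hf := hQf.1.2
  have h1 := transport_pair x₀ (zpowers_map_conj x₀ z) f (fun A a => SubpairLE p M A a P e) hx₀
  have h2 := eq_eBlk hMp hPe h1
  have hE : cj x₀ (EE (Kz z) f) = Ev M p P e (x₀ * z * x₀⁻¹) := by
    rw [cj_EE_conjB (map_conj_centralizer_gen x₀ (zpowers_map_conj x₀ z)), Ev, h2]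
  have hx : x₀ * z * x₀⁻¹ = z := by
    rw [hc x₀, mul_inv_cancel_right]
  rw [hx, cj_eq_of_invBy (invBy_EE_self _ _) (mem_centralizer_zpowers_iff.mpr (hc x₀))] at hE
  exact eq_of_EE_eq hf (isPBlock_eBlk hMp hPe hz) hE

lemma mem_regC_of_cen {z c : G} (hc : IsCen z) : c ∈ regC p z ↔ ¬ p ∣ orderOf c := by
  rw [mem_regC]
  constructor
  · exact fun h => h.2
  · exact fun h => ⟨mem_centralizer_zpowers_iff.mpr (hc c), h⟩

lemma twTrace_Ev_central (hMp : IsPModular p M) {B : Set (IrrCharacter G)} (hmax : IsMaximalBrauerPair p M B P e)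
    {χ : IrrCharacter G} (hχ : χ ∈ B) {z c : G} (hz : z ∈ P) (hzc : IsCen z) (hc : ¬ p ∣ orderOf c) :
    twTrace (χ : G → ℂ) (z * c) (Ev M p P e z) = (χ : G → ℂ) (z * c) := by
  classical
  have hPe := hmax.1.1
  rw [sum_twTrace_EE (M := M) (Kz z) (χ : G → ℂ) (z * c)]
  have hb := isPBlock_eBlk hMp hPe hz
  rw [Finset.sum_eq_single (⟨eBlk M p P e z, hb⟩ : Blk M (Kz z))]
  · rfl
  · intro f _ hne
    obtain ⟨k, hk⟩ := hPe.1 ⟨z, hz⟩
    have hzk : z ^ (p ^ k) = 1 := by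
      have := congrArg Subtype.val hk
      simpa using this
    refine twTrace_EE_eq_zero_of_not_pair hMp hmax.1.2.1 hχ hzk f.2 (fun hpair => hne (Subtype.ext ?_))
      ((mem_regC_of_cen hzc).mpr hc)
    exact eq_eBlk_of_central hMp hmax hz hzc hpair
  · intro h
    exact absurd (Finset.mem_univ _) h

omit hM in
lemma wt_central {z : G} (hz : z ∈ P) (hc : IsCen z) :
    wt P z = ((Pf P).card : ℂ) / (Nat.card G : ℂ) := by
  classical
  rw [wt]
  congr 2
  · congr 1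
    ext a
    rw [mem_setY, mem_Pf]
    constructor
    · exact fun h => h.1
    · intro h
      refine ⟨h, ?_⟩
      rw [hc a, mul_inv_cancel_right]
  · rw [Nat.card_eq_fintype_card, ← Finset.card_univ]
    congr 1
    ext a
    simp only [Finset.mem_univ, iff_true]
    rw [mem_setZ, hc a, mul_inv_cancel_right]

lemma theta_cen (hMp : IsPModular p M) {B : Set (IrrCharacter G)} (hmax : IsMaximalBrauerPair p M B P e)
    {χ ψ : IrrCharacter G} (hχ : χ ∈ B) (hψ : ψ ∈ B) (hχk : KerZ P (χ : G → ℂ)) (hψk : KerZ P (ψ : G → ℂ))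
    {z : G} (hz : z ∈ P) (hzc : IsCen z) :
    wt P z * secF p (χ : G → ℂ) (ψ : G → ℂ) z (Ev M p P e z) = RR p P (χ : G → ℂ) (ψ : G → ℂ) := by
  classical
  rw [wt_central hz hzc, RR, classInner, secF, div_eq_mul_inv, mul_assoc]
  congr 2
  rw [← Finset.sum_filter_add_sum_filter_not Finset.univ (fun g : G => ¬ p ∣ orderOf g)]
  have h0 : ∑ g ∈ Finset.univ.filter (fun g : G => ¬ ¬ p ∣ orderOf g), reg p (χ : G → ℂ) g * conj ((ψ : G → ℂ) g) = 0 := by
    apply Finset.sum_eq_zero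
    intro g hg
    rw [reg_of_dvd _ (not_not.mp (Finset.mem_filter.mp hg).2), zero_mul]
  rw [h0, add_zero]
  refine Finset.sum_congr ?_ fun c hc => ?_
  · ext c
    rw [mem_regC_of_cen hzc]
    simp
  · have hc' : ¬ p ∣ orderOf c := by simpa using hc
    rw [twTrace_Ev_central hMp hmax hχ hz hzc hc', twTrace_Ev_central hMp hmax hψ hz hzc hc', hχk z hz hzc,
      hψk z hz hzc, reg_of_not_dvd _ hc']

/-- The data of the sections at the noncentral elements of `P`. -/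
structure SecD (M : Ideal AlgInt) [M.IsPrime] (p : ℕ) (P : Subgroup G)
    (e : Set (IrrCharacter (Subgroup.centralizer (P : Set G)))) (φ : G → G → ℂ)
    (a : IrrCharacter G → G → ℂ) : Prop where
  norm : ∀ v ∈ Pnc P, wt P v * ∑ c ∈ regC p v, φ v c * conj (φ v c) = 1
  mem : ∀ v ∈ Pnc P, ∀ χ, a χ v ∈ rootRing (Fintype.card G)
  sec : ∀ v ∈ Pnc P, ∀ χ : IrrCharacter G, ∀ c ∈ regC p v,
    twTrace (χ : G → ℂ) (v * c) (Ev M p P e v) = a χ v * φ v c

/-- The data exists under the inductive hypothesis. -/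
theorem exists_secD (hMp : IsPModular p M) {B : Set (IrrCharacter G)} (hmax : IsMaximalBrauerPair p M B P e)
    (hnil : IsNilpotentBlock p M B)
    (hIH : ∀ v ∈ Pnc P, @BPConcl p M (Kz v) _ (Fintype.ofFinite _) (eBlk M p P e v)) :
    ∃ (φ : G → G → ℂ) (a : IrrCharacter G → G → ℂ), SecD M p P e φ a := by
  classical
  have h : ∀ v : G, ∃ φ : G → ℂ, v ∈ Pnc P → (wt P v * ∑ c ∈ regC p v, φ c * conj (φ c) = 1 ∧
      ∀ χ : IrrCharacter G, ∃ a ∈ rootRing (Fintype.card G), ∀ c ∈ regC p v,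
        twTrace (χ : G → ℂ) (v * c) (Ev M p P e v) = a * φ c) := by
    intro v
    by_cases hv : v ∈ Pnc P
    · letI : Fintype (Kz v) := Fintype.ofFinite _
      obtain ⟨φ, h1, h2⟩ := exists_sec_data hMp hmax hnil (mem_Pnc.mp hv).1 (hIH v hv)
      exact ⟨φ, fun _ => ⟨h1, h2⟩⟩
    · exact ⟨0, fun h => absurd h hv⟩
  choose φ hφ using h
  have h2 : ∀ (χ : IrrCharacter G) (v : G), ∃ a : ℂ, v ∈ Pnc P → (a ∈ rootRing (Fintype.card G) ∧ ∀ c ∈ regC p v,
        twTrace (χ : G → ℂ) (v * c) (Ev M p P e v) = a * φ v c) := by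
    intro χ v
    by_cases hv : v ∈ Pnc P
    · obtain ⟨a, ha, ha'⟩ := (hφ v hv).2 χ
      exact ⟨a, fun _ => ⟨ha, ha'⟩⟩
    · exact ⟨0, fun h => absurd h hv⟩
  choose a ha using h2
  exact ⟨φ, a, ⟨fun v hv => (hφ v hv).1, fun v hv χ => (ha χ v hv).1, fun v hv χ => (ha χ v hv).2⟩⟩

variable {φ : G → G → ℂ} {a : IrrCharacter G → G → ℂ}

lemma theta_nc (hD : SecD M p P e φ a) {v : G} (hv : v ∈ Pnc P) (χ ψ : IrrCharacter G) :
    wt P v * secF p (χ : G → ℂ) (ψ : G → ℂ) v (Ev M p P e v) = a χ v * conj (a ψ v) := by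
  have h1 : secF p (χ : G → ℂ) (ψ : G → ℂ) v (Ev M p P e v) =
      a χ v * conj (a ψ v) * ∑ c ∈ regC p v, φ v c * conj (φ v c) := by
    rw [secF, Finset.mul_sum]
    refine Finset.sum_congr rfl fun c hc => ?_
    rw [hD.sec v hv χ c hc, hD.sec v hv ψ c hc, map_mul]
    ring
  rw [h1, mul_comm, mul_assoc, mul_comm (∑ c ∈ regC p v, φ v c * conj (φ v c)), hD.norm v hv, mul_one]

/-- **The norm formula.** -/
theorem star (hMp : IsPModular p M) {B : Set (IrrCharacter G)} (hmax : IsMaximalBrauerPair p M B P e)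
    (hnil : IsNilpotentBlock p M B) (hD : SecD M p P e φ a)
    {χ ψ : IrrCharacter G} (hχ : χ ∈ B) (hψ : ψ ∈ B) (hχk : KerZ P (χ : G → ℂ)) (hψk : KerZ P (ψ : G → ℂ)) :
    ∑ v ∈ Pnc P, a χ v * conj (a ψ v) + ((Pce P).card : ℂ) * RR p P (χ : G → ℂ) (ψ : G → ℂ) =
      ((Pf P).card : ℂ) * classInner (χ : G → ℂ) (ψ : G → ℂ) := by
  classical
  have h1 := sum_wt_secF hMp hmax hnil hχ (isClassFunction_of_irr ψ.2)
  rw [sum_Pf_eq] at h1
  have h2 : ∑ v ∈ Pnc P, wt P v * secF p (χ : G → ℂ) (ψ : G → ℂ) v (Ev M p P e v) =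
      ∑ v ∈ Pnc P, a χ v * conj (a ψ v) := Finset.sum_congr rfl fun v hv => theta_nc hD hv χ ψ
  have h3 : ∑ v ∈ Pce P, wt P v * secF p (χ : G → ℂ) (ψ : G → ℂ) v (Ev M p P e v) =
      ((Pce P).card : ℂ) * RR p P (χ : G → ℂ) (ψ : G → ℂ) := by
    rw [Finset.sum_congr rfl fun v hv => theta_cen hMp hmax hχ hψ hχk hψk (mem_Pce.mp hv).1 (mem_Pce.mp hv).2,
      Finset.sum_const, nsmul_eq_mul]
  rw [h2, h3] at h1
  have hG : ((Fintype.card G : ℕ) : ℂ) ≠ 0 := by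
    exact_mod_cast Fintype.card_ne_zero
  apply mul_left_cancel₀ hG
  rw [h1, classInner, Nat.card_eq_fintype_card]
  field_simp

/-- **The inequality of the means.** -/
theorem core_norm (hMp : IsPModular p M) {B : Set (IrrCharacter G)} (hmax : IsMaximalBrauerPair p M B P e)
    (hnil : IsNilpotentBlock p M B) (hD : SecD M p P e φ a)
    {χ₀ : IrrCharacter G} (hχ₀ : χ₀ ∈ B) (hk : KerZ P (χ₀ : G → ℂ)) (hne : ∀ v ∈ Pnc P, a χ₀ v ≠ 0)
    {n₀ : ℕ} (hn₀ : RR p P (χ₀ : G → ℂ) (χ₀ : G → ℂ) = n₀) (hn1 : 1 ≤ n₀) :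
    n₀ = 1 ∧ ∀ v ∈ Pnc P, a χ₀ v * conj (a χ₀ v) = 1 := by
  classical
  haveI : NeZero (Fintype.card G) := ⟨Fintype.card_ne_zero⟩
  have h1 := star hMp hmax hnil hD hχ₀ hχ₀ hk hk
  rw [hn₀, Cfsg.Agent.Lib.Char.Ortho.classInner_irr_self χ₀.2, mul_one] at h1
  have h2 := congrArg (avg (Fintype.card G)) h1
  rw [avg_add, avg_sum, avg_natCast, ← Nat.cast_mul, avg_natCast] at h2
  have h3 : ∀ v ∈ Pnc P, avg (Fintype.card G) (a χ₀ v * conj (a χ₀ v)) = (nAvg (Fintype.card G) (a χ₀ v) : ℂ) :=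
    fun v hv => avg_mul_conj (hD.mem v hv χ₀)
  rw [Finset.sum_congr rfl h3] at h2
  have h4 : ∑ v ∈ Pnc P, nAvg (Fintype.card G) (a χ₀ v) + (((Pce P).card * n₀ : ℕ) : ℝ) = ((Pf P).card : ℝ) := by
    exact_mod_cast h2
  rw [← card_Pnc_add_Pce P] at h4
  push_cast at h4
  have h5 : ∀ v ∈ Pnc P, 1 ≤ nAvg (Fintype.card G) (a χ₀ v) := fun v hv =>
    one_le_nAvg (hD.mem v hv χ₀) (hne v hv)
  have h6 : ((Pnc P).card : ℝ) ≤ ∑ v ∈ Pnc P, nAvg (Fintype.card G) (a χ₀ v) := by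
    have := Finset.card_nsmul_le_sum (Pnc P) _ 1 h5
    simpa using this
  have hpos : (0 : ℝ) < ((Pce P).card : ℝ) := by exact_mod_cast card_Pce_pos P
  have hn1' : (1 : ℝ) ≤ (n₀ : ℝ) := by exact_mod_cast hn1
  have h7 : (n₀ : ℝ) = 1 := by
    nlinarith
  have h8 : ∑ v ∈ Pnc P, nAvg (Fintype.card G) (a χ₀ v) = ((Pnc P).card : ℝ) := by
    rw [h7] at h4
    linarith
  refine ⟨by exact_mod_cast h7, fun v hv => ?_⟩
  refine mul_conj_eq_one_of_nAvg_eq_one (hD.mem v hv χ₀) (hne v hv) ?_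
  have h9 : ∑ w ∈ Pnc P, (nAvg (Fintype.card G) (a χ₀ w) - 1) = 0 := by
    rw [Finset.sum_sub_distrib, h8]
    simp
  have h10 := (Finset.sum_eq_zero_iff_of_nonneg (fun w hw => sub_nonneg.mpr (h5 w hw))).mp h9 v hv
  linarith

end Core

end Cfsg.Agent.Lib.Blocks.Nilp
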