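/-
Nilpotent blocks: the dichotomy on the regular elements.
-/
import Mathlib
import Cfsg.Agent.Lib.Blocks.NilpCore
import Cfsg.Agent.Lib.Blocks.Cartan
import Cfsg.Agent.Lib.Char.Burnside2
import Cfsg.Agent.S0908

set_option autoImplicit false

namespace Cfsg.Agent.Lib.Blocks.Nilp

open Cfsg Cfsg.Agent.Lib.Blocks.Local Cfsg.Agent.Lib.Blocks.Central Cfsg.Agent.Lib.Blocks.Osima
open Cfsg.Agent.Lib.Blocks.Covering Cfsg.Agent.Lib.Blocks.BlockHom Cfsg.Agent.Lib.Blocks.Pairs
open Cfsg.Agent.Lib.Blocks.Twisted Cfsg.Agent.Lib.Blocks.Necklace Cfsg.Agent.Lib.Blocks.Sections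
open Cfsg.Agent.Lib.Blocks.Regular Cfsg.Agent.Lib.Blocks.BlockCount
open Cfsg.Agent.Lib.Blocks.CycloSums
open scoped ComplexConjugate

universe u

section Dich

variable {G : Type u} [Group G] [Fintype G] {M : Ideal AlgInt} [hM : M.IsPrime]
variable {p : ℕ} [hp : Fact p.Prime]
variable {P : Subgroup G} {e : Set (IrrCharacter (Subgroup.centralizer (P : Set G)))}

lemma isIntegral_of_mem_rootRing {n : ℕ} (hn : 0 < n) {x : ℂ} (hx : x ∈ rootRing n) : IsIntegral ℤ x := by
  have hx' : x ∈ Cfsg.Agent.Lib.Blocks.GaloisAvg.rootSums n := hx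
  induction hx' using AddSubgroup.closure_induction with
  | mem b hb =>
    have hb' : b ^ n = 1 := hb
    exact IsIntegral.of_pow hn (by rw [hb']; exact isIntegral_one)
  | zero => exact isIntegral_zero
  | add s t hs' ht' hs ht => exact (hs hs').add (ht ht')
  | neg s hs' hs => exact (hs hs').neg

omit hM hp in
lemma coeff_single_one_mul (a : G) (y : MonoidAlgebra ℂ G) (g : G) :
    (MonoidAlgebra.single a (1 : ℂ) * y).coeff g = y.coeff (a⁻¹ * g) := by
  classical
  rw [coeff_mul_eq_sum, Finset.sum_eq_single a]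
  · simp [MonoidAlgebra.coeff_single, Finsupp.single_apply]
  · intro b _ hb
    simp [MonoidAlgebra.coeff_single, Finsupp.single_apply, hb.symm]
  · intro h
    exact absurd (Finset.mem_univ _) h

omit hM hp in
lemma twTrace_single_mul {t : G → ℂ} (ht : IsClassFunction G t) (a : G) (y : MonoidAlgebra ℂ G) :
    twTrace t 1 (MonoidAlgebra.single a (1 : ℂ) * y) = twTrace t a y := by
  classical
  simp only [twTrace, mul_one]
  refine Fintype.sum_equiv (Equiv.mulLeft a⁻¹) _ _ fun g => ?_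
  simp only [Equiv.coe_mulLeft]
  rw [coeff_single_one_mul]
  congr 1
  have := ht (a⁻¹ * g * a) a
  rw [← this]
  congr 1
  group

omit hp in
lemma isCharacter_nu {t : G → ℂ} (ht : IsCharacter G t) {y : MonoidAlgebra ℂ G} (hy : y * y = y)
    (hinv : InvBy P y) : IsCharacter P (fun b : P => twTrace t (b : G) y) := by
  have h1 := isCharacter_twTrace_idem ht hy P hinv
  have hcl : IsClassFunction G t := Cfsg.Agent.Lib.Char.Basic.isClassFunction_of_isCharacter ht
  have h2 : (fun b : P => twTrace t 1 (MonoidAlgebra.single (b : G) (1 : ℂ) * y)) =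
      (fun b : P => twTrace t (b : G) y) := by
    funext b
    exact twTrace_single_mul hcl _ _
  rwa [h2] at h1

/-- A trace of a source idempotent at a `p`-element is a unit if it is one at the identity. -/
lemma not_mem_nu (hMp : IsPModular p M) (hP : IsPGroup p P) {t : G → ℂ} (ht : IsCharacter G t)
    (htl : ∀ g, MemLocalRing M (t g)) {y : MonoidAlgebra ℂ G} (hyl : LocCoeff M y) (hy : y * y = y)
    (hinv : InvBy P y) (hT : ¬ MemLocalIdeal M (twTrace t 1 y)) {b : G} (hb : b ∈ P) :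
    ¬ MemLocalIdeal M (twTrace t b y) := by
  intro h
  apply hT
  have hloc : ∀ c : P, MemLocalRing M ((fun b : P => twTrace t (b : G) y) c) := fun c =>
    (localRing M).sum_mem fun g _ => memLocalRing_mul (hyl g) (htl _)
  obtain ⟨k, hk⟩ := hP ⟨b, hb⟩
  have h1 := HeightZero.memLocalIdeal_character_mul_sub hMp (isCharacter_nu (P := P) ht hy hinv) hloc
    (Commute.one_right (⟨b, hb⟩ : P)) hk
  simp only [mul_one, OneMemClass.coe_one] at h1
  have h2 := memLocalIdeal_sub h h1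
  rwa [sub_sub_cancel] at h2

/-- **Exactness**: a trace of the source idempotent vanishes if the section vanishes. -/
lemma twTrace_y_eq_zero_of_section (hMp : IsPModular p M) (hP : IsPGroup p P) {y : MonoidAlgebra ℂ G}
    (hy : IsPrimIdem M P y) (hne : ¬ CoeffIn (localIdeal M) (tr (Subgroup.centralizer (P : Set G)) y))
    (hPe : IsBrauerPair p M P e)
    (h1 : CoeffIn (localIdeal M) (tr (Subgroup.centralizer (P : Set G)) y * (1 - EE (Subgroup.centralizer (P : Set G)) e)))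
    {v : G} (hv : v ∈ P) {t : G → ℂ} (htl : ∀ g, MemLocalRing M (t g)) (ht : IsClassFunction G t)
    (hs : ∀ c ∈ regC p v, twTrace t (v * c) (Ev M p P e v) = 0) : twTrace t v y = 0 := by
  obtain ⟨k, hk⟩ := hP ⟨v, hv⟩
  have hvk : v ^ (p ^ k) = 1 := by
    have := congrArg Subtype.val hk
    simpa using this
  refine twTrace_eq_zero_of_section hMp hvk hy.idem hy.loc (fun g => hy.inv g v hv) htl ht
    (EE_mul_self _ _) (locCoeff_EE (isPBlock_eBlk hMp hPe hv)) (invBy_EE_self _ _)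
    (fun c hc hc' => hs c (mem_regC.mpr ⟨hc, hc'⟩)) (coeffIn_tr_mul_one_sub_Ev hMp hP hy hne hPe h1 hv)

lemma twTrace_sub_smul (t₁ t₂ : G → ℂ) (r : ℂ) (h : G) (E : MonoidAlgebra ℂ G) :
    twTrace (fun g => t₁ g - r * t₂ g) h E = twTrace t₁ h E - r * twTrace t₂ h E := by
  simp only [twTrace, Finset.mul_sum, ← Finset.sum_sub_distrib]
  refine Finset.sum_congr rfl fun g _ => ?_
  ring

/-- The integrality of the form on the regular elements. -/
lemma exists_int_RR (hMp : IsPModular p M) {B : Set (IrrCharacter G)} (hmax : IsMaximalBrauerPair p M B P e)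
    (χ : IrrCharacter G) {ψ : IrrCharacter G} (hψ : ψ ∈ B) :
    ∃ n : ℤ, RR p P (χ : G → ℂ) (ψ : G → ℂ) = n := by
  have hdp := isDefectGroup_of_maximal hMp hmax
  have hc := Cfsg.Agent.S0908.result p M hMp B hmax.1.2.1 P hdp
  obtain ⟨n, hn⟩ := Cartan.exists_int_pow_defect_mul hMp (B := B) χ hψ
  refine ⟨n, ?_⟩
  rw [RR, ← hn]
  congr 1
  have h2 : (Pf P).card = Nat.card P := by
    classical
    rw [Nat.card_eq_fintype_card, Fintype.card_subtype]
    rfl
  rw [h2, hc]
  push_cast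
  rfl

omit hM hp in
lemma classInner_reg_reg (f g : G → ℂ) : classInner (reg p f) (reg p g) = classInner (reg p f) g := by
  classical
  rw [classInner, classInner]
  congr 1
  refine Finset.sum_congr rfl fun x _ => ?_
  by_cases hx : p ∣ orderOf x
  · rw [reg_of_dvd _ hx, zero_mul, zero_mul]
  · rw [reg_of_not_dvd f hx, reg_of_not_dvd g hx]

omit hM in
lemma classInner_reg_self_pos (χ : IrrCharacter G) :
    ∃ r : ℝ, 0 < r ∧ classInner (reg p (χ : G → ℂ)) (χ : G → ℂ) = r := by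
  classical
  rw [← classInner_reg_reg (p := p), Cfsg.Agent.Lib.Char.Ortho.classInner_self_eq]
  refine ⟨_, ?_, rfl⟩
  apply mul_pos
  · exact inv_pos.mpr (by exact_mod_cast Nat.card_pos)
  · have h1 : reg p (χ : G → ℂ) 1 ≠ 0 := by
      rw [reg_of_not_dvd]
      · exact Cfsg.Agent.Lib.Char.Ortho.irr_apply_one_ne_zero χ.2
      · rw [orderOf_one]
        exact hp.out.one_lt.ne' ∘ Nat.dvd_one.mp
    have h2 : 0 < ‖reg p (χ : G → ℂ) 1‖ ^ 2 := by
      have := norm_pos_iff.mpr h1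
      positivity
    refine lt_of_lt_of_le h2 ?_
    exact Finset.single_le_sum (f := fun g => ‖reg p (χ : G → ℂ) g‖ ^ 2) (fun g _ => by positivity)
      (Finset.mem_univ (1 : G))

section Source

variable {φ : G → G → ℂ} {a : IrrCharacter G → G → ℂ} {y : MonoidAlgebra ℂ G} {χ₀ : IrrCharacter G}

lemma a_ne_zero (hMp : IsPModular p M) (hPe : IsBrauerPair p M P e) (hD : SecD M p P e φ a)
    (hy : IsPrimIdem M P y) (hne : ¬ CoeffIn (localIdeal M) (tr (Subgroup.centralizer (P : Set G)) y))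
    (h1 : CoeffIn (localIdeal M) (tr (Subgroup.centralizer (P : Set G)) y * (1 - EE (Subgroup.centralizer (P : Set G)) e)))
    (hT : ¬ MemLocalIdeal M (twTrace (χ₀ : G → ℂ) 1 y)) {v : G} (hv : v ∈ Pnc P) : a χ₀ v ≠ 0 := by
  intro h0
  have hvP := (mem_Pnc.mp hv).1
  have htl : ∀ g, MemLocalRing M ((χ₀ : G → ℂ) g) := fun g => memLocalRing_of_isIntegral (isIntegral_irr χ₀.2 g)
  have h2 := twTrace_y_eq_zero_of_section hMp hPe.1 hy hne hPe h1 hvP htl (isClassFunction_of_irr χ₀.2)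
    (fun c hc => by rw [hD.sec v hv χ₀ c hc, h0, zero_mul])
  refine not_mem_nu hMp hPe.1 (Cfsg.Agent.Lib.Char.Values.IsIrrCharacter.isCharacter χ₀.2) htl hy.loc hy.idem hy.inv hT
    hvP ?_
  rw [h2]
  exact memLocalIdeal_zero

/-- The Brauer character of `χ₀` has the norm of a principal indecomposable of the block. -/
theorem core_of_source (hMp : IsPModular p M) {B : Set (IrrCharacter G)} (hmax : IsMaximalBrauerPair p M B P e)
    (hnil : IsNilpotentBlock p M B) (hD : SecD M p P e φ a)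
    (hy : IsPrimIdem M P y) (hne : ¬ CoeffIn (localIdeal M) (tr (Subgroup.centralizer (P : Set G)) y))
    (h1 : CoeffIn (localIdeal M) (tr (Subgroup.centralizer (P : Set G)) y * (1 - EE (Subgroup.centralizer (P : Set G)) e)))
    (hχ₀ : χ₀ ∈ B) (hk : KerZ P (χ₀ : G → ℂ)) (hT : ¬ MemLocalIdeal M (twTrace (χ₀ : G → ℂ) 1 y)) :
    RR p P (χ₀ : G → ℂ) (χ₀ : G → ℂ) = 1 ∧ ∀ v ∈ Pnc P, a χ₀ v * conj (a χ₀ v) = 1 := by
  obtain ⟨n, hn⟩ := exists_int_RR hMp hmax χ₀ hχ₀
  obtain ⟨r, hr, hr'⟩ := classInner_reg_self_pos (p := p) χ₀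
  have hPpos : (0 : ℝ) < ((Pf P).card : ℝ) := by
    exact_mod_cast Finset.card_pos.mpr ⟨1, mem_Pf.mpr P.one_mem⟩
  have hnr : (n : ℝ) = ((Pf P).card : ℝ) * r := by
    have h2 : ((n : ℝ) : ℂ) = (((Pf P).card : ℝ) * r : ℝ) := by
      push_cast
      rw [← hr', ← RR, hn]
    exact_mod_cast h2
  have hn0 : 0 < n := by
    have : (0 : ℝ) < (n : ℝ) := by
      rw [hnr]
      exact mul_pos hPpos hr
    exact_mod_cast this
  obtain ⟨m, rfl⟩ := Int.eq_ofNat_of_zero_le hn0.le
  have hm1 : 1 ≤ m := by omega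
  have hnat : RR p P (χ₀ : G → ℂ) (χ₀ : G → ℂ) = (m : ℕ) := by
    rw [hn]
    push_cast
    rfl
  obtain ⟨h3, h4⟩ := core_norm hMp hmax hnil hD hχ₀ hk
    (fun v hv => a_ne_zero hMp hmax.1.1 hD hy hne h1 hT hv) hnat hm1
  refine ⟨?_, h4⟩
  rw [hnat, h3]
  simp

end Source

end Dich

end Cfsg.Agent.Lib.Blocks.Nilp
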