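/-
Nilpotent blocks: the dichotomy on the regular elements (continued).
-/
import Mathlib
import Cfsg.Agent.Lib.Blocks.NilpDich

set_option autoImplicit false

namespace Cfsg.Agent.Lib.Blocks.Nilp

open Cfsg Cfsg.Agent.Lib.Blocks.Local Cfsg.Agent.Lib.Blocks.Central Cfsg.Agent.Lib.Blocks.Osima
open Cfsg.Agent.Lib.Blocks.Covering Cfsg.Agent.Lib.Blocks.BlockHom Cfsg.Agent.Lib.Blocks.Pairs
open Cfsg.Agent.Lib.Blocks.Twisted Cfsg.Agent.Lib.Blocks.Necklace Cfsg.Agent.Lib.Blocks.Sections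
open Cfsg.Agent.Lib.Blocks.Regular Cfsg.Agent.Lib.Blocks.BlockCount
open Cfsg.Agent.Lib.Blocks.CycloSums
open scoped ComplexConjugate

universe u

section IntLemma

variable {Q : Type u} [Group Q] [Fintype Q] {p : ℕ} [hp : Fact p.Prime]

open Classical in
/-- An integrality criterion for the inner products of a class function on a `p`-group. -/
theorem int_classInner_of_eq {k : ℕ} (hQ : Nat.card Q = p ^ k) {t : Q → ℂ} (htI : ∀ b, IsIntegral ℤ (t b))
    {G₁ : Q → ℂ} (hG : IsGeneralizedCharacter Q G₁) {m : ℤ} (hm : ¬ (p : ℤ) ∣ m) (Z : Subgroup Q) (C : ℂ)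
    (heq : ∀ b, (m : ℂ) * t b = G₁ b - (if b ∈ Z then C else 0))
    (h1 : ∃ n : ℤ, classInner t (fun _ => (1 : ℂ)) = n) (l : IrrCharacter Q) :
    ∃ n : ℤ, classInner t (l : Q → ℂ) = n := by
  letI : Fintype Z := Fintype.ofFinite _
  have hQ0 : (Nat.card Q : ℂ) ≠ 0 := by exact_mod_cast Nat.card_pos.ne'
  have hZ0 : (Nat.card Z : ℂ) ≠ 0 := by exact_mod_cast Nat.card_pos.ne'
  -- the form of the inner product
  have hform : ∀ (w : IrrCharacter Q), (m : ℂ) * classInner t (w : Q → ℂ) =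
      classInner G₁ (w : Q → ℂ) - C * ((Nat.card Z : ℂ) / (Nat.card Q : ℂ)) *
        conj (classInner (fun z : Z => (w : Q → ℂ) z) (fun _ => (1 : ℂ))) := by
    intro w
    have hsum : ∑ z : Z, conj ((w : Q → ℂ) z) = (Nat.card Z : ℂ) *
        conj (classInner (fun z : Z => (w : Q → ℂ) z) (fun _ => (1 : ℂ))) := by
      rw [classInner]
      simp only [map_one, mul_one, map_mul, map_inv₀, Complex.conj_natCast, map_sum]
      field_simp
    have h4 : ∑ b : Q, (if b ∈ Z then C else 0) * conj ((w : Q → ℂ) b) = C * ∑ z : Z, conj ((w : Q → ℂ) z) := by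
      rw [Finset.mul_sum]
      have h5 : ∀ b : Q, (if b ∈ Z then C else 0) * conj ((w : Q → ℂ) b) =
          if b ∈ Z then C * conj ((w : Q → ℂ) b) else 0 := by
        intro b
        split_ifs <;> simp
      simp only [h5]
      rw [← Finset.sum_filter]
      symm
      refine Finset.sum_bij (fun z _ => (z : Q)) ?_ ?_ ?_ ?_
      · intro z _
        exact Finset.mem_filter.mpr ⟨Finset.mem_univ _, z.2⟩
      · intro a _ b _ h
        exact Subtype.ext h
      · intro b hb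
        exact ⟨⟨b, (Finset.mem_filter.mp hb).2⟩, Finset.mem_univ _, rfl⟩
      · intro z _
        rfl
    rw [classInner, classInner, mul_left_comm, Finset.mul_sum]
    simp only [← mul_assoc, heq, sub_mul]
    rw [Finset.sum_sub_distrib, h4, hsum, mul_sub]
    congr 1
    field_simp
  -- the trivial character
  obtain ⟨n₁, hn₁⟩ := h1
  let oneQ : IrrCharacter Q := ⟨fun _ => 1, Cfsg.Agent.Lib.Char.Burnside2.isIrrCharacter_one⟩
  have h10 := hform oneQ
  have h11 : classInner (fun _ : Z => (1 : ℂ)) (fun _ => (1 : ℂ)) = 1 :=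
    Cfsg.Agent.Lib.Char.Ortho.classInner_irr_self (Cfsg.Agent.Lib.Char.Burnside2.isIrrCharacter_one (G := Z))
  have h12 : (fun z : Z => (oneQ : Q → ℂ) z) = (fun _ => (1 : ℂ)) := rfl
  rw [h12, h11, map_one, mul_one] at h10
  have h13 : classInner t (oneQ : Q → ℂ) = n₁ := hn₁
  rw [h13] at h10
  obtain ⟨g₁, hg₁⟩ := Cfsg.Agent.Lib.Char.Virtual.exists_int_classInner hG
    (Cfsg.Agent.Lib.Char.Virtual.isGeneralized_of_isIrr oneQ.2)
  have hC : ∃ c : ℤ, C * ((Nat.card Z : ℂ) / (Nat.card Q : ℂ)) = c := by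
    refine ⟨g₁ - m * n₁, ?_⟩
    rw [hg₁] at h10
    push_cast
    rw [h10]
    ring
  obtain ⟨c, hc⟩ := hC
  -- now the general case
  have h20 := hform l
  have hres : IsCharacter Z (fun z : Z => (l : Q → ℂ) z) :=
    Cfsg.Agent.Lib.Char.Basic.isCharacter_restrict (Cfsg.Agent.Lib.Char.Values.IsIrrCharacter.isCharacter l.2) Z
  obtain ⟨kw, hkw⟩ := Cfsg.Agent.Lib.Char.Ortho.exists_nat_classInner hres
    (⟨fun _ => 1, Cfsg.Agent.Lib.Char.Burnside2.isIrrCharacter_one⟩ : IrrCharacter Z)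
  have hkw' : classInner (fun z : Z => (l : Q → ℂ) z) (fun _ => (1 : ℂ)) = kw := hkw
  rw [hkw', Complex.conj_natCast, hc] at h20
  obtain ⟨g₂, hg₂⟩ := Cfsg.Agent.Lib.Char.Virtual.exists_int_classInner hG
    (Cfsg.Agent.Lib.Char.Virtual.isGeneralized_of_isIrr l.2)
  rw [hg₂] at h20
  have h21 : (m : ℂ) * classInner t (l : Q → ℂ) = ((g₂ - c * kw : ℤ) : ℂ) := by
    rw [h20]
    push_cast
    ring
  refine exists_int_of_mul hm h21 (k := k) ?_
  have h22 : (p : ℂ) ^ k * classInner t (l : Q → ℂ) = ∑ b : Q, t b * conj ((l : Q → ℂ) b) := by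
    rw [classInner, hQ]
    push_cast
    have : ((p : ℂ) ^ k) ≠ 0 := by
      apply pow_ne_zero
      exact_mod_cast hp.out.ne_zero
    field_simp
  rw [h22]
  refine IsIntegral.sum _ fun b _ => (htI b).mul ?_
  rw [Cfsg.Agent.Lib.Char.Ortho.conj_of_isCharacter (Cfsg.Agent.Lib.Char.Values.IsIrrCharacter.isCharacter l.2)]
  exact isIntegral_irr l.2 _

end IntLemma

section Dich

variable {G : Type u} [Group G] [Fintype G] {M : Ideal AlgInt} [hM : M.IsPrime]
variable {p : ℕ} [hp : Fact p.Prime]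
variable {P : Subgroup G} {e : Set (IrrCharacter (Subgroup.centralizer (P : Set G)))}

open Classical in
/-- The quotient of the sections at the elements of `P`. -/
noncomputable def tt (p : ℕ) (P : Subgroup G) (a : IrrCharacter G → G → ℂ) (χ₀ χ : IrrCharacter G) (v : G) : ℂ :=
  if IsCen v then RR p P (χ : G → ℂ) (χ₀ : G → ℂ) else a χ v * conj (a χ₀ v)

/-- The central elements of `P`, as a subgroup of `P`. -/
def ZsP (P : Subgroup G) : Subgroup P where
  carrier := {b | IsCen (b : G)}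
  mul_mem' := by
    intro a b ha hb g
    show g * ((a : G) * b) = ((a : G) * b) * g
    rw [← mul_assoc, ha g, mul_assoc, hb g, mul_assoc]
  one_mem' := fun g => by simp
  inv_mem' := by
    intro a ha g
    have h := ha g⁻¹
    have h2 : (g⁻¹ * (a : G))⁻¹ = ((a : G) * g⁻¹)⁻¹ := by rw [h]
    simpa using h2.symm

omit hM in
lemma isCen_conj_iff {x b : G} : IsCen (x * b * x⁻¹) ↔ IsCen b := by
  have key : ∀ (x b : G), IsCen b → IsCen (x * b * x⁻¹) := by
    intro x b hb g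
    rw [hb x, mul_inv_cancel_right, hb g]
  constructor
  · intro h
    have := key x⁻¹ _ h
    simpa [mul_assoc] using this
  · exact key x b

omit hM in
lemma sum_subgroup_eq_Pf [Fintype P] (f : G → ℂ) : ∑ b : P, f b = ∑ v ∈ Pf P, f v := by
  classical
  refine Finset.sum_bij (fun b _ => (b : G)) ?_ ?_ ?_ ?_
  · intro b _
    exact mem_Pf.mpr b.2
  · intro a _ b _ h
    exact Subtype.ext h
  · intro v hv
    exact ⟨⟨v, mem_Pf.mp hv⟩, Finset.mem_univ _, rfl⟩
  · intro b _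
    rfl

variable {φ : G → G → ℂ} {a : IrrCharacter G → G → ℂ} {y : MonoidAlgebra ℂ G} {χ₀ : IrrCharacter G}

/-- The trace of the source idempotent at a noncentral element. -/
lemma nu_eq_nc (hMp : IsPModular p M) (hPe : IsBrauerPair p M P e) (hD : SecD M p P e φ a)
    (hy : IsPrimIdem M P y) (hne : ¬ CoeffIn (localIdeal M) (tr (Subgroup.centralizer (P : Set G)) y))
    (h1 : CoeffIn (localIdeal M) (tr (Subgroup.centralizer (P : Set G)) y * (1 - EE (Subgroup.centralizer (P : Set G)) e)))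
    {v : G} (hv : v ∈ Pnc P) (ha : a χ₀ v * conj (a χ₀ v) = 1) (χ : IrrCharacter G) :
    twTrace (χ : G → ℂ) v y = a χ v * conj (a χ₀ v) * twTrace (χ₀ : G → ℂ) v y := by
  have hvP := (mem_Pnc.mp hv).1
  have hCard : 0 < Fintype.card G := Fintype.card_pos
  have hr : a χ v * conj (a χ₀ v) ∈ rootRing (Fintype.card G) :=
    (rootRing _).mul_mem (hD.mem v hv χ) (conj_mem_rootRing (hD.mem v hv χ₀))
  have h2 := twTrace_y_eq_zero_of_section hMp hPe.1 hy hne hPe h1 hvP
    (t := fun g => (χ : G → ℂ) g - (a χ v * conj (a χ₀ v)) * (χ₀ : G → ℂ) g)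
    (fun g => memLocalRing_sub (memLocalRing_of_isIntegral (isIntegral_irr χ.2 g))
      (memLocalRing_mul (memLocalRing_of_mem_rootRing hCard hr) (memLocalRing_of_isIntegral (isIntegral_irr χ₀.2 g))))
    (fun g x => by
      simp only
      rw [isClassFunction_of_irr χ.2 g x, isClassFunction_of_irr χ₀.2 g x])
    (fun c hc => by
      rw [twTrace_sub_smul, hD.sec v hv χ c hc, hD.sec v hv χ₀ c hc]
      calc a χ v * φ v c - a χ v * conj (a χ₀ v) * (a χ₀ v * φ v c)
          = a χ v * φ v c * (1 - a χ₀ v * conj (a χ₀ v)) := by ring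
        _ = 0 := by rw [ha, sub_self, mul_zero])
  rw [twTrace_sub_smul] at h2
  exact sub_eq_zero.mp h2

omit hp in
lemma nu_central {χ : G → ℂ} (hcl : IsClassFunction G χ) (hk : KerZ P χ) {z : G} (hz : z ∈ P) (hc : IsCen z)
    (y : MonoidAlgebra ℂ G) : twTrace χ z y = twTrace χ 1 y := by
  simp only [twTrace, mul_one]
  refine Finset.sum_congr rfl fun g _ => ?_
  rw [hc g, hk z hz hc]

/-- **The dichotomy.** -/
theorem dichotomy (hMp : IsPModular p M) {B : Set (IrrCharacter G)} (hmax : IsMaximalBrauerPair p M B P e)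
    (hnil : IsNilpotentBlock p M B) (hD : SecD M p P e φ a)
    (hy : IsPrimIdem M P y) (hne : ¬ CoeffIn (localIdeal M) (tr (Subgroup.centralizer (P : Set G)) y))
    (h1 : CoeffIn (localIdeal M) (tr (Subgroup.centralizer (P : Set G)) y * (1 - EE (Subgroup.centralizer (P : Set G)) e)))
    (hχ₀ : χ₀ ∈ B) (hk : KerZ P (χ₀ : G → ℂ)) (hT : ¬ MemLocalIdeal M (twTrace (χ₀ : G → ℂ) 1 y))
    {χ : IrrCharacter G} (hχ : χ ∈ B) (hχk : KerZ P (χ : G → ℂ)) :
    (∃ r : ℂ, reg p (χ : G → ℂ) = r • reg p (χ₀ : G → ℂ)) ∨ RR p P (χ : G → ℂ) (χ₀ : G → ℂ) = 0 := by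
  classical
  letI : Fintype P := Fintype.ofFinite _
  have hPe := hmax.1.1
  have hP := hPe.1
  obtain ⟨hR, ha⟩ := core_of_source hMp hmax hnil hD hy hne h1 hχ₀ hk hT
  have hχc : IsCharacter G (χ : G → ℂ) := Cfsg.Agent.Lib.Char.Values.IsIrrCharacter.isCharacter χ.2
  have hχ₀c : IsCharacter G (χ₀ : G → ℂ) := Cfsg.Agent.Lib.Char.Values.IsIrrCharacter.isCharacter χ₀.2
  have htl : ∀ g, MemLocalRing M ((χ₀ : G → ℂ) g) := fun g => memLocalRing_of_isIntegral (isIntegral_irr χ₀.2 g)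
  set t : P → ℂ := fun b => tt p P a χ₀ χ b with ht
  set r := RR p P (χ : G → ℂ) (χ₀ : G → ℂ) with hr
  have hν : IsCharacter P (fun b : P => twTrace (χ : G → ℂ) (b : G) y) := isCharacter_nu hχc hy.idem hy.inv
  have hν₀ : IsCharacter P (fun b : P => twTrace (χ₀ : G → ℂ) (b : G) y) := isCharacter_nu hχ₀c hy.idem hy.inv
  have hu : ∀ b : P, ¬ MemLocalIdeal M (twTrace (χ₀ : G → ℂ) (b : G) y) := fun b =>
    not_mem_nu hMp hP hχ₀c htl hy.loc hy.idem hy.inv hT b.2
  obtain ⟨κ, m, hκ, hm, hκm⟩ := exists_inverse_gen hMp hν₀ hu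
  have hnc : ∀ b : P, ¬ IsCen (b : G) → twTrace (χ : G → ℂ) (b : G) y = t b * twTrace (χ₀ : G → ℂ) (b : G) y := by
    intro b hb
    have hb' : (b : G) ∈ Pnc P := mem_Pnc.mpr ⟨b.2, hb⟩
    rw [nu_eq_nc hMp hPe hD hy hne h1 hb' (ha _ hb') χ]
    simp only [ht, tt, if_neg hb]
  have hcc1 : ∀ b : P, IsCen (b : G) → twTrace (χ : G → ℂ) (b : G) y = twTrace (χ : G → ℂ) 1 y := fun b hb =>
    nu_central (isClassFunction_of_irr χ.2) hχk b.2 hb y
  have hcc2 : ∀ b : P, IsCen (b : G) → twTrace (χ₀ : G → ℂ) (b : G) y = twTrace (χ₀ : G → ℂ) 1 y := fun b hb =>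
    nu_central (isClassFunction_of_irr χ₀.2) hk b.2 hb y
  have hcc3 : ∀ b : P, IsCen (b : G) → t b = r := fun b hb => by
    simp only [ht, tt, if_pos hb]
    rfl
  have hν₀1 : twTrace (χ₀ : G → ℂ) 1 y ≠ 0 := ne_zero_of_not_memLocalIdeal hT
  have hκc : ∀ b : P, IsCen (b : G) → κ b = κ 1 := by
    intro b hb
    have h2 := hκm b
    have h3 := hκm 1
    simp only [OneMemClass.coe_one] at h3
    simp only [hcc2 b hb] at h2
    exact mul_right_cancel₀ hν₀1 (h2.trans h3.symm)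
  set C := κ 1 * twTrace (χ : G → ℂ) 1 y - (m : ℂ) * r with hC
  have heq : ∀ b : P, (m : ℂ) * t b = (fun b : P => κ b * twTrace (χ : G → ℂ) (b : G) y) b -
      (if b ∈ ZsP P then C else 0) := by
    intro b
    by_cases hb : IsCen (b : G)
    · have hbm : b ∈ ZsP P := hb
      simp only [if_pos hbm]
      rw [hcc3 b hb, hcc1 b hb, hκc b hb, hC]
      ring
    · have hbm : b ∉ ZsP P := hb
      simp only [if_neg hbm]
      rw [hnc b hb, sub_zero, ← hκm b]
      ring
  have hG : IsGeneralizedCharacter P (fun b : P => κ b * twTrace (χ : G → ℂ) (b : G) y) := by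
    obtain ⟨χ₁, χ₂, h₁, h₂, rfl⟩ := hκ
    refine ⟨_, _, Cfsg.Agent.Lib.Char.Basic.isCharacter_mul h₁ hν, Cfsg.Agent.Lib.Char.Basic.isCharacter_mul h₂ hν, ?_⟩
    funext b
    simp only [Pi.sub_apply, Pi.mul_apply]
    ring
  obtain ⟨k, hQ⟩ := IsPGroup.iff_card.mp hP
  have hPcard : ((Pf P).card : ℂ) = (Nat.card P : ℂ) := by
    rw [Nat.card_eq_fintype_card, Fintype.card_subtype]
    rfl
  have hP0 : ((Pf P).card : ℂ) ≠ 0 := by
    rw [hPcard]
    exact_mod_cast Nat.card_pos.ne'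
  have hCard : 0 < Fintype.card G := Fintype.card_pos
  have htI : ∀ b, IsIntegral ℤ (t b) := by
    intro b
    by_cases hb : IsCen (b : G)
    · rw [hcc3 b hb]
      obtain ⟨n, hn⟩ := exists_int_RR hMp hmax χ hχ₀
      rw [hr, hn]
      exact isIntegral_algebraMap (R := ℤ) (A := ℂ) (x := n)
    · simp only [ht, tt, if_neg hb]
      have hb' : (b : G) ∈ Pnc P := mem_Pnc.mpr ⟨b.2, hb⟩
      exact isIntegral_of_mem_rootRing hCard ((rootRing _).mul_mem (hD.mem _ hb' χ)
        (conj_mem_rootRing (hD.mem _ hb' χ₀)))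
  have hsumt : ∑ b : P, t b = ∑ v ∈ Pnc P, a χ v * conj (a χ₀ v) + ((Pce P).card : ℂ) * r := by
    have h2 := sum_subgroup_eq_Pf (P := P) (fun v => tt p P a χ₀ χ v)
    rw [h2, sum_Pf_eq]
    congr 1
    · refine Finset.sum_congr rfl fun v hv => ?_
      simp only [tt, if_neg (mem_Pnc.mp hv).2]
    · rw [Finset.sum_congr rfl (g := fun _ => r) (fun v hv => by simp only [tt, if_pos (mem_Pce.mp hv).2]; rfl),
        Finset.sum_const, nsmul_eq_mul]
  have hone : ∃ n : ℤ, classInner t (fun _ => (1 : ℂ)) = n := by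
    have h2 := star hMp hmax hnil hD hχ hχ₀ hχk hk
    have h3 : classInner t (fun _ => (1 : ℂ)) = classInner (χ : G → ℂ) (χ₀ : G → ℂ) := by
      rw [classInner]
      simp only [map_one, mul_one]
      rw [hsumt, h2, ← hPcard]
      field_simp
    rw [h3, Cfsg.Agent.Lib.Char.Ortho.classInner_irr χ.2 χ₀.2]
    split_ifs
    · exact ⟨1, by simp⟩
    · exact ⟨0, by simp⟩
  have hint := int_classInner_of_eq hQ htI hG hm (ZsP P) C heq hone
  have hcl : IsClassFunction P t := by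
    intro b x
    by_cases hb : IsCen (b : G)
    · have h2 : x * b * x⁻¹ = b := by
        apply Subtype.ext
        simp only [Subgroup.coe_mul, InvMemClass.coe_inv]
        rw [hb x, mul_inv_cancel_right]
      rw [h2]
    · have hb2 : ¬ IsCen ((x * b * x⁻¹ : P) : G) := by
        simp only [Subgroup.coe_mul, InvMemClass.coe_inv]
        exact fun h => hb (isCen_conj_iff.mp h)
      have h2 := hnc _ hb2
      have h3 := hnc b hb
      have h4 := Cfsg.Agent.Lib.Char.Basic.isClassFunction_of_isCharacter hν b x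
      have h5 := Cfsg.Agent.Lib.Char.Basic.isClassFunction_of_isCharacter hν₀ b x
      rw [h4, h5, h3] at h2
      exact (mul_right_cancel₀ (ne_zero_of_not_memLocalIdeal (hu b)) h2).symm
  obtain ⟨n, hn⟩ := exists_nat_classInner_self hcl hint
  -- the norm
  have hS : ∑ b : P, t b * conj (t b) = ∑ v ∈ Pnc P, a χ v * conj (a χ v) + ((Pce P).card : ℂ) * (r * conj r) := by
    have h2 := sum_subgroup_eq_Pf (P := P) (fun v => tt p P a χ₀ χ v * conj (tt p P a χ₀ χ v))
    rw [h2, sum_Pf_eq]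
    congr 1
    · refine Finset.sum_congr rfl fun v hv => ?_
      simp only [tt, if_neg (mem_Pnc.mp hv).2, map_mul, Complex.conj_conj]
      have := ha v hv
      calc a χ v * conj (a χ₀ v) * (conj (a χ v) * a χ₀ v) = a χ v * conj (a χ v) * (a χ₀ v * conj (a χ₀ v)) := by ring
        _ = _ := by rw [this, mul_one]
    · rw [Finset.sum_congr rfl (g := fun _ => r * conj r)
        (fun v hv => by simp only [tt, if_pos (mem_Pce.mp hv).2]; rfl), Finset.sum_const, nsmul_eq_mul]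
  have hStar := star hMp hmax hnil hD hχ hχ hχk hχk
  rw [Cfsg.Agent.Lib.Char.Ortho.classInner_irr_self χ.2, mul_one] at hStar
  set d : G → ℂ := reg p (χ : G → ℂ) - r • reg p (χ₀ : G → ℂ) with hd
  set Dd := classInner d d with hDd
  have hin1 : ((Pf P).card : ℂ) * classInner (reg p (χ₀ : G → ℂ)) (reg p (χ₀ : G → ℂ)) = 1 := by
    rw [classInner_reg_reg, ← hR, RR]
  have hin2 : ((Pf P).card : ℂ) * classInner (reg p (χ : G → ℂ)) (reg p (χ₀ : G → ℂ)) = r := by
    rw [classInner_reg_reg, hr, RR]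
  have hin3 : ((Pf P).card : ℂ) * classInner (reg p (χ₀ : G → ℂ)) (reg p (χ : G → ℂ)) = conj r := by
    rw [← Cfsg.Agent.Lib.Char.Ortho.classInner_conj_symm, ← hin2, map_mul, Complex.conj_natCast]
  have hin4 : ((Pf P).card : ℂ) * classInner (reg p (χ : G → ℂ)) (reg p (χ : G → ℂ)) = RR p P (χ : G → ℂ) (χ : G → ℂ) := by
    rw [classInner_reg_reg, RR]
  have hdd : ((Pf P).card : ℂ) * Dd = RR p P (χ : G → ℂ) (χ : G → ℂ) - r * conj r := by
    rw [hDd, hd, Cfsg.Agent.Lib.Char.Ortho.classInner_sub_left, Cfsg.Agent.Lib.Char.Ortho.classInner_sub_right,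
      Cfsg.Agent.Lib.Char.Ortho.classInner_sub_right, Cfsg.Agent.Lib.Char.Ortho.classInner_smul_left,
      Cfsg.Agent.Lib.Char.Ortho.classInner_smul_right, Cfsg.Agent.Lib.Char.Ortho.classInner_smul_right,
      Cfsg.Agent.Lib.Char.Ortho.classInner_smul_left]
    linear_combination hin4 - conj r * hin2 - r * hin3 + r * conj r * hin1
  have hPce0 : ((Pce P).card : ℂ) = ((Pce P).card : ℕ) := rfl
  have hsumn : ((Pf P).card : ℂ) * (n : ℂ) = ∑ b : P, t b * conj (t b) := by
    rw [← hn, classInner, hPcard]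
    have : (Nat.card P : ℂ) ≠ 0 := by
      rw [← hPcard]
      exact hP0
    field_simp
  have hn2 : ((Pf P).card : ℂ) * (n : ℂ) = ((Pf P).card : ℂ) * (1 - ((Pce P).card : ℂ) * Dd) := by
    rw [hsumn, hS]
    linear_combination hStar + ((Pce P).card : ℂ) * hdd
  have hn3 := mul_left_cancel₀ hP0 hn2
  have hDr : Dd = (((Nat.card G : ℝ)⁻¹ * ∑ g : G, ‖d g‖ ^ 2 : ℝ) : ℂ) :=
    Cfsg.Agent.Lib.Char.Ortho.classInner_self_eq d
  set Rd : ℝ := (Nat.card G : ℝ)⁻¹ * ∑ g : G, ‖d g‖ ^ 2 with hRd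
  have hRd0 : 0 ≤ Rd := Cfsg.Agent.Lib.Char.Ortho.classInner_self_nonneg d
  rw [hDr] at hn3
  have hn4 : (n : ℝ) = 1 - ((Pce P).card : ℝ) * Rd := by
    exact_mod_cast hn3
  have hpos : (0 : ℝ) < ((Pce P).card : ℝ) := by exact_mod_cast card_Pce_pos P
  have hnle : (n : ℝ) ≤ 1 := by
    rw [hn4]
    have : 0 ≤ ((Pce P).card : ℝ) * Rd := mul_nonneg hpos.le hRd0
    linarith
  have hnle' : n ≤ 1 := by exact_mod_cast hnle
  interval_cases n
  · right
    have h0 : t = 0 := by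
      apply Cfsg.Agent.Lib.Char.Ortho.eq_zero_of_classInner_self_eq_zero
      rw [hn]
      simp
    have h2 := congrFun h0 1
    have h3 : IsCen (((1 : P)) : G) := fun g => by simp
    rw [hcc3 1 h3] at h2
    exact h2
  · left
    refine ⟨r, ?_⟩
    have h2 : Rd = 0 := by
      have : ((Pce P).card : ℝ) * Rd = 0 := by
        push_cast at hn4
        linarith
      rcases mul_eq_zero.mp this with h | h
      · exact absurd h hpos.ne'
      · exact h
    have h3 : Dd = 0 := by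
      rw [hDr, h2]
      simp
    have h4 := Cfsg.Agent.Lib.Char.Ortho.eq_zero_of_classInner_self_eq_zero h3
    exact sub_eq_zero.mp h4

end Dich


end Cfsg.Agent.Lib.Blocks.Nilp
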