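/-
Nilpotent blocks: blocks are connected for the inner product on regular elements.
-/
import Mathlib
import Cfsg.Agent.Lib.Blocks.NilpDich2
import Cfsg.Agent.Lib.Char.CompleteCor

set_option autoImplicit false

namespace Cfsg.Agent.Lib.Blocks.Nilp

open Cfsg Cfsg.Agent.Lib.Blocks.Local Cfsg.Agent.Lib.Blocks.Central Cfsg.Agent.Lib.Blocks.Osima
open Cfsg.Agent.Lib.Blocks.Regular Cfsg.Agent.Lib.Blocks.BlockCount
open Cfsg.Agent.Lib.Char.Ortho
open scoped ComplexConjugate

universe u

section Link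

variable {H : Type u} [Group H] [Fintype H] {M : Ideal AlgInt} [hM : M.IsPrime]
variable {p : ℕ} [hp : Fact p.Prime]

open Classical in
/-- The part of a combination of characters on a set of characters. -/
noncomputable def fX (c : IrrCharacter H → ℂ) (X : Set (IrrCharacter H)) : H → ℂ :=
  ∑ χ ∈ Finset.univ.filter (· ∈ X), c χ • (χ : H → ℂ)

omit hp in
lemma reg_sum_smul {ι : Type*} (s : Finset ι) (c : ι → ℂ) (f : ι → H → ℂ) :
    reg p (∑ i ∈ s, c i • f i) = ∑ i ∈ s, c i • reg p (f i) := by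
  funext g
  by_cases hg : p ∣ orderOf g
  · rw [reg_of_dvd _ hg]
    simp [reg_of_dvd _ hg]
  · rw [reg_of_not_dvd _ hg]
    simp [reg_of_not_dvd _ hg]

omit hp in
lemma fX_add_compl (c : IrrCharacter H → ℂ) (X : Set (IrrCharacter H)) :
    fX c Set.univ = fX c X + fX c Xᶜ := by
  classical
  simp only [fX, Set.mem_univ, Finset.filter_true]
  rw [← Finset.sum_filter_add_sum_filter_not Finset.univ (· ∈ X)]
  simp only [Set.mem_compl_iff]

omit hp in
lemma classInner_reg_symm (f g : H → ℂ) : classInner (reg p f) g = conj (classInner (reg p g) f) := by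
  rw [classInner_conj_symm, classInner, classInner]
  congr 1
  refine Finset.sum_congr rfl fun x _ => ?_
  by_cases hx : p ∣ orderOf x
  · simp [reg_of_dvd _ hx]
  · simp [reg_of_not_dvd _ hx]

omit hp in
/-- The inner product of the regular part of the `X`-part with a character outside `X`. -/
lemma classInner_reg_fX_notMem {X : Set (IrrCharacter H)}
    (horth : ∀ χ ∈ X, ∀ χ' : IrrCharacter H, χ' ∉ X → classInner (reg p (χ : H → ℂ)) (χ' : H → ℂ) = 0)
    (c : IrrCharacter H → ℂ) {χ : IrrCharacter H} (hχ : χ ∉ X) :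
    classInner (reg p (fX c X)) (χ : H → ℂ) = 0 := by
  classical
  rw [fX, reg_sum_smul, classInner_sum_left]
  refine Finset.sum_eq_zero fun ξ hξ => ?_
  rw [classInner_smul_left, horth ξ (Finset.mem_filter.mp hξ).2 χ hχ, mul_zero]

omit hp in
lemma classInner_reg_fX_mem {X : Set (IrrCharacter H)}
    (horth : ∀ χ ∈ X, ∀ χ' : IrrCharacter H, χ' ∉ X → classInner (reg p (χ : H → ℂ)) (χ' : H → ℂ) = 0)
    (c : IrrCharacter H → ℂ) {χ : IrrCharacter H} (hχ : χ ∈ X) :
    classInner (reg p (fX c X)) (χ : H → ℂ) = classInner (reg p (fX c Set.univ)) (χ : H → ℂ) := by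
  classical
  have h1 : reg p (fX c Set.univ) = reg p (fX c X) + reg p (fX c Xᶜ) := by
    rw [fX_add_compl c X]
    funext g
    by_cases hg : p ∣ orderOf g
    · simp [reg_of_dvd _ hg]
    · simp [reg_of_not_dvd _ hg]
  rw [h1, classInner_add_left]
  have h2 : classInner (reg p (fX c Xᶜ)) (χ : H → ℂ) = 0 := by
    refine classInner_reg_fX_notMem (X := Xᶜ) (fun ξ hξ χ' hχ' => ?_) c (by simpa using hχ)
    have h3 : χ' ∈ X := by simpa using hχ'
    rw [classInner_reg_symm, horth χ' h3 ξ hξ, map_zero]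
  rw [h2, add_zero]

omit hp in
lemma sum_deg_mul_eq_zero [Fintype (IrrCharacter H)] {g : H} (hg : g ≠ 1) :
    ∑ χ : IrrCharacter H, (χ : H → ℂ) 1 * (χ : H → ℂ) g = 0 := by
  have h1 := Cfsg.Agent.Lib.Char.CompleteCor.column_orth_not_conj (g := g) (h := 1)
    (fun hc => hg (by simpa using hc))
  rw [← h1]
  refine Finset.sum_congr rfl fun χ _ => ?_
  rw [conj_of_isCharacter (Cfsg.Agent.Lib.Char.Values.IsIrrCharacter.isCharacter χ.2), inv_one, mul_comm]

omit hp in
lemma isClassFunction_fX (c : IrrCharacter H → ℂ) (Y : Set (IrrCharacter H)) : IsClassFunction H (fX c Y) := by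
  intro g x
  simp only [fX, Finset.sum_apply, Pi.smul_apply, smul_eq_mul, isClassFunction_of_irr (Subtype.property _) g x]

omit hp in
lemma reg_fX_eq_zero {X : Set (IrrCharacter H)}
    (horth : ∀ χ ∈ X, ∀ χ' : IrrCharacter H, χ' ∉ X → classInner (reg p (χ : H → ℂ)) (χ' : H → ℂ) = 0)
    (c : IrrCharacter H → ℂ) (h0 : reg p (fX c Set.univ) = 0) : reg p (fX c X) = 0 := by
  apply Cfsg.Agent.Lib.Char.Complete.eq_zero_of_classInner_irr_eq_zero
  · exact isClassFunction_reg (isClassFunction_fX c X)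
  · intro χ hχ
    by_cases hm : (⟨χ, hχ⟩ : IrrCharacter H) ∈ X
    · have h4 := classInner_reg_fX_mem horth c hm
      simp only at h4
      rw [h4, h0, classInner_zero_left]
    · have h4 := classInner_reg_fX_notMem horth c hm
      simp only at h4
      exact h4

omit hp in
lemma reg_fX_eq_self {X : Set (IrrCharacter H)}
    (horth : ∀ χ ∈ X, ∀ χ' : IrrCharacter H, χ' ∉ X → classInner (reg p (χ : H → ℂ)) (χ' : H → ℂ) = 0)
    (c : IrrCharacter H → ℂ) (h1 : reg p (fX c Set.univ) = fX c Set.univ) : reg p (fX c X) = fX c X := by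
  classical
  rw [← sub_eq_zero]
  apply Cfsg.Agent.Lib.Char.Complete.eq_zero_of_classInner_irr_eq_zero
  · intro g x
    simp only [Pi.sub_apply, isClassFunction_reg (isClassFunction_fX c X) g x, isClassFunction_fX c X g x]
  · intro χ hχ
    rw [classInner_sub_left]
    by_cases hm : (⟨χ, hχ⟩ : IrrCharacter H) ∈ X
    · have h4 := classInner_reg_fX_mem horth c hm
      simp only at h4
      rw [h4, h1, fX_add_compl c X, classInner_add_left, add_sub_cancel_left]
      rw [fX, classInner_sum_left]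
      refine Finset.sum_eq_zero fun ξ hξ => ?_
      rw [classInner_smul_left, classInner_irr_of_ne ξ.2 hχ, mul_zero]
      intro h5
      have h6 : ξ = ⟨χ, hχ⟩ := Subtype.ext h5
      rw [h6] at hξ
      simp only [Finset.mem_filter, Finset.mem_univ, true_and] at hξ
      exact hξ hm
    · have h4 := classInner_reg_fX_notMem horth c hm
      simp only at h4
      rw [h4, zero_sub, neg_eq_zero, fX, classInner_sum_left]
      refine Finset.sum_eq_zero fun ξ hξ => ?_
      rw [classInner_smul_left, classInner_irr_of_ne ξ.2 hχ, mul_zero]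
      intro h5
      exact hm (by
        have h6 : ξ = ⟨χ, hχ⟩ := Subtype.ext h5
        rw [← h6]
        exact (Finset.mem_filter.mp hξ).2)

lemma reg_fX_deg : reg p (fX (fun χ : IrrCharacter H => (χ : H → ℂ) 1) Set.univ) =
    fX (fun χ : IrrCharacter H => (χ : H → ℂ) 1) Set.univ := by
  classical
  funext g
  by_cases hg : p ∣ orderOf g
  · rw [reg_of_dvd _ hg]
    have hg1 : g ≠ 1 := by
      rintro rfl
      rw [orderOf_one] at hg
      exact hp.out.one_lt.ne' (Nat.dvd_one.mp hg)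
    have h3 := sum_deg_mul_eq_zero hg1
    simp only [fX, Set.mem_univ, Finset.filter_true, Finset.sum_apply, Pi.smul_apply, smul_eq_mul]
    exact h3.symm
  · rw [reg_of_not_dvd _ hg]

/-- The sum over characters of the values on a `p`-subgroup, at a regular element. -/
lemma sum_sylow_eq [Fintype (IrrCharacter H)] {S : Subgroup H} [Fintype S] (hSp : IsPGroup p S) {g : H}
    (hg : ¬ p ∣ orderOf g) :
    ∑ χ : IrrCharacter H, (∑ s : S, (χ : H → ℂ) s) * (χ : H → ℂ) g =
      ∑ χ : IrrCharacter H, (χ : H → ℂ) 1 * (χ : H → ℂ) g := by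
  classical
  have h1 : ∀ s : S, s ≠ 1 → ∑ χ : IrrCharacter H, (χ : H → ℂ) s * (χ : H → ℂ) g = 0 := by
    intro s hs
    have hnc : ¬ IsConj g ((s : H)⁻¹) := by
      intro hc
      apply hs
      obtain ⟨c, hc⟩ := isConj_iff.mp hc
      have h2 : orderOf g = orderOf s := by
        have h3 := orderOf_conj' c g
        rw [hc, orderOf_inv, Subgroup.orderOf_coe] at h3
        exact h3.symm
      obtain ⟨k, hk⟩ := hSp s
      have h4 : orderOf s ∣ p ^ k := orderOf_dvd_of_pow_eq_one hk
      obtain ⟨j, -, hj⟩ := (Nat.dvd_prime_pow hp.out).mp h4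
      rcases j with _ | j
      · exact orderOf_eq_one_iff.mp (by simpa using hj)
      · exact absurd (by rw [h2, hj, pow_succ]; exact dvd_mul_left _ _) hg
    have h3 := Cfsg.Agent.Lib.Char.CompleteCor.column_orth_not_conj hnc
    rw [← h3]
    refine Finset.sum_congr rfl fun χ _ => ?_
    rw [conj_of_isCharacter (Cfsg.Agent.Lib.Char.Values.IsIrrCharacter.isCharacter χ.2), inv_inv, mul_comm]
  simp only [Finset.sum_mul]
  rw [Finset.sum_comm, Finset.sum_eq_single (1 : S)]
  · simp
  · intro s _ hs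
    exact h1 s hs
  · intro h
    exact absurd (Finset.mem_univ _) h

/-- **Blocks are connected**: a set of characters orthogonal on the regular elements to its complement
gives a central idempotent with local coefficients. -/
theorem blockElt_mem_localCenter_of_orth (hMp : IsPModular p M) {X : Set (IrrCharacter H)}
    (horth : ∀ χ ∈ X, ∀ χ' : IrrCharacter H, χ' ∉ X → classInner (reg p (χ : H → ℂ)) (χ' : H → ℂ) = 0) :
    blockElt X ∈ localCenter H M := by
  classical
  letI : Fintype (IrrCharacter H) := Fintype.ofFinite _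
  refine ⟨isClassFunction_blockElt X, ?_⟩
  set c₁ : IrrCharacter H → ℂ := fun χ => (χ : H → ℂ) 1 with hc₁
  have hsing : reg p (fX c₁ X) = fX c₁ X := reg_fX_eq_self horth c₁ reg_fX_deg
  -- the Sylow subgroup
  set S : Subgroup H := ((default : Sylow p H) : Subgroup H) with hS
  letI : Fintype S := Fintype.ofFinite _
  have hSp : IsPGroup p S := (default : Sylow p H).isPGroup'
  have hS0 : (Nat.card S : ℂ) ≠ 0 := by exact_mod_cast Nat.card_pos.ne'
  have hnat : ∀ χ : IrrCharacter H, ∃ n : ℕ, classInner (fun s : S => (χ : H → ℂ) s) (fun _ => (1 : ℂ)) = n :=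
    fun χ => exists_nat_classInner
      (Cfsg.Agent.Lib.Char.Basic.isCharacter_restrict (Cfsg.Agent.Lib.Char.Values.IsIrrCharacter.isCharacter χ.2) S)
      (⟨fun _ => 1, Cfsg.Agent.Lib.Char.Burnside2.isIrrCharacter_one⟩ : IrrCharacter S)
  choose n hn using hnat
  have hn' : ∀ χ : IrrCharacter H, (n χ : ℂ) = (Nat.card S : ℂ)⁻¹ * ∑ s : S, (χ : H → ℂ) s := by
    intro χ
    rw [← hn χ, classInner]
    simp only [map_one, mul_one]
  set c₂ : IrrCharacter H → ℂ := fun χ => (n χ : ℂ) - (Nat.card S : ℂ)⁻¹ * (χ : H → ℂ) 1 with hc₂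
  have hreg2 : reg p (fX c₂ Set.univ) = 0 := by
    funext g
    by_cases hg : p ∣ orderOf g
    · rw [reg_of_dvd _ hg]
      rfl
    · rw [reg_of_not_dvd _ hg]
      simp only [fX, Set.mem_univ, Finset.filter_true, Finset.sum_apply, Pi.smul_apply, smul_eq_mul, hc₂, Pi.zero_apply]
      have h2 := sum_sylow_eq hSp hg
      have h3 : ∑ χ : IrrCharacter H, (n χ : ℂ) * (χ : H → ℂ) g =
          (Nat.card S : ℂ)⁻¹ * ∑ χ : IrrCharacter H, (χ : H → ℂ) 1 * (χ : H → ℂ) g := by
        rw [← h2, Finset.mul_sum]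
        refine Finset.sum_congr rfl fun χ _ => ?_
        rw [hn', mul_assoc]
      rw [show (∑ χ : IrrCharacter H, ((n χ : ℂ) - (Nat.card S : ℂ)⁻¹ * (χ : H → ℂ) 1) * (χ : H → ℂ) g) =
        ∑ χ : IrrCharacter H, (n χ : ℂ) * (χ : H → ℂ) g -
          (Nat.card S : ℂ)⁻¹ * ∑ χ : IrrCharacter H, (χ : H → ℂ) 1 * (χ : H → ℂ) g from by
          rw [Finset.mul_sum, ← Finset.sum_sub_distrib]
          refine Finset.sum_congr rfl fun χ _ => ?_
          ring, h3, sub_self]
  have hX2 : reg p (fX c₂ X) = 0 := reg_fX_eq_zero horth c₂ hreg2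
  intro g
  rw [coeff_blockElt, blockCoeff_eq_sum]
  have hb : ∑ χ ∈ Finset.univ.filter (· ∈ X), (χ : H → ℂ) 1 * conj ((χ : H → ℂ) g) = fX c₁ X g⁻¹ := by
    simp only [fX, Finset.sum_apply, Pi.smul_apply, smul_eq_mul, hc₁]
    refine Finset.sum_congr rfl fun χ _ => ?_
    rw [conj_of_isCharacter (Cfsg.Agent.Lib.Char.Values.IsIrrCharacter.isCharacter χ.2)]
  rw [hb]
  by_cases hg : p ∣ orderOf g
  · have hg' : p ∣ orderOf g⁻¹ := by rwa [orderOf_inv]
    rw [← hsing, reg_of_dvd _ hg', mul_zero]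
    exact memLocalRing_zero
  · have hg' : ¬ p ∣ orderOf g⁻¹ := by rwa [orderOf_inv]
    have h5 := congrFun hX2 g⁻¹
    rw [reg_of_not_dvd _ hg'] at h5
    have h6 : fX c₁ X g⁻¹ = (Nat.card S : ℂ) * ∑ χ ∈ Finset.univ.filter (· ∈ X), (n χ : ℂ) * (χ : H → ℂ) g⁻¹ := by
      simp only [fX, Finset.sum_apply, Pi.smul_apply, smul_eq_mul, hc₂, hc₁, Pi.zero_apply] at h5 ⊢
      rw [Finset.mul_sum]
      have h7 : ∑ χ ∈ Finset.univ.filter (· ∈ X), ((n χ : ℂ) - (Nat.card S : ℂ)⁻¹ * (χ : H → ℂ) 1) * (χ : H → ℂ) g⁻¹ = 0 := h5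
      rw [← sub_eq_zero, ← Finset.sum_sub_distrib, ← mul_zero (-(Nat.card S : ℂ)), ← h7, Finset.mul_sum]
      refine Finset.sum_congr rfl fun χ _ => ?_
      field_simp
      ring
    rw [h6, ← mul_assoc]
    have hidx : (Nat.card H : ℂ)⁻¹ * (Nat.card S : ℂ) = ((S.index : ℕ) : ℂ)⁻¹ := by
      have h8 : Nat.card H = Nat.card S * S.index := (Subgroup.card_mul_index S).symm
      rw [h8]
      push_cast
      have h9 : ((S.index : ℕ) : ℂ) ≠ 0 := by
        exact_mod_cast Subgroup.index_ne_zero_of_finite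
      field_simp
    rw [hidx]
    refine memLocalRing_mul (memLocalRing_inv_natCast hMp ((default : Sylow p H).not_dvd_index)) ?_
    refine memLocalRing_sum _ _ fun χ _ => memLocalRing_mul (memLocalRing_natCast _) ?_
    exact memLocalRing_of_isIntegral (isIntegral_irr χ.2 _)

/-- **Blocks are connected.** -/
theorem isClosed_of_orth (hMp : IsPModular p M) {X : Set (IrrCharacter H)}
    (horth : ∀ χ ∈ X, ∀ χ' : IrrCharacter H, χ' ∉ X → classInner (reg p (χ : H → ℂ)) (χ' : H → ℂ) = 0) :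
    IsClosed M X := by
  intro χ hχ ψ hψ
  by_contra hn
  have h1 := memLocalIdeal_omega_sub χ.2 ψ.2 hψ (blockElt_mem_localCenter_of_orth hMp horth)
  rw [omega_blockElt_of_mem hχ, omega_blockElt_of_notMem hn, sub_zero] at h1
  exact not_memLocalIdeal_one h1

end Link

end Cfsg.Agent.Lib.Blocks.Nilp
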