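/-
Nilpotent blocks: passage to the quotient by a central `p`-subgroup.
-/
import Mathlib
import Cfsg.Agent.Lib.Blocks.NilpLink
import Cfsg.Agent.Lib.Blocks.Dominate
import Cfsg.Agent.Lib.Blocks.Kernel

set_option autoImplicit false

namespace Cfsg.Agent.Lib.Blocks.Nilp

open Cfsg Cfsg.Agent.Lib.Blocks.Local Cfsg.Agent.Lib.Blocks.Central Cfsg.Agent.Lib.Blocks.Osima
open Cfsg.Agent.Lib.Blocks.Regular Cfsg.Agent.Lib.Blocks.BlockCount Cfsg.Agent.Lib.Blocks.Dominate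
open Cfsg.Agent.Lib.Char.Ortho
open scoped ComplexConjugate

universe u

section Lift

variable {G : Type u} [Group G] [Fintype G] {M : Ideal AlgInt} [hM : M.IsPrime]
variable {p : ℕ} [hp : Fact p.Prime]
variable (N : Subgroup G) [hNn : N.Normal]

/-- The inflation of an irreducible character. -/
noncomputable def infl (χ : IrrCharacter (G ⧸ N)) : IrrCharacter G :=
  ⟨(χ : G ⧸ N → ℂ) ∘ QuotientGroup.mk,
    Cfsg.Agent.Lib.Char.Basic.isIrrCharacter_comp_surjective χ.2 (QuotientGroup.mk' N) (QuotientGroup.mk'_surjective N)⟩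

omit [Fintype G] hNn in
@[simp] lemma coe_infl_apply [hNn : N.Normal] (χ : IrrCharacter (G ⧸ N)) (g : G) :
    (infl N χ : G → ℂ) g = (χ : G ⧸ N → ℂ) (g : G ⧸ N) := rfl

lemma infl_ker (χ : IrrCharacter (G ⧸ N)) {n : G} (hn : n ∈ N) : (infl N χ : G → ℂ) n = (infl N χ : G → ℂ) 1 := by
  rw [coe_infl_apply, coe_infl_apply, (QuotientGroup.eq_one_iff n).mpr hn, QuotientGroup.mk_one]

lemma hC_of_central {N : Subgroup G} (hcen : ∀ n ∈ N, ∀ g : G, g * n = n * g) :
    ∃ k : ℕ, (Subgroup.centralizer (N : Set G)).index = p ^ k := by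
  refine ⟨0, ?_⟩
  rw [pow_zero, Subgroup.index_eq_one, Subgroup.eq_top_iff']
  intro g
  rw [Subgroup.mem_centralizer_iff]
  intro n hn
  exact (hcen n hn g).symm

lemma sameBlock_of_mem' {B : Set (IrrCharacter G)} (hB : IsPBlock M B) {χ ψ : IrrCharacter G} (hχ : χ ∈ B)
    (hψ : ψ ∈ B) : SameBlock M (χ : G → ℂ) (ψ : G → ℂ) := by
  obtain ⟨c, rfl⟩ := hB
  exact sameBlock_trans (sameBlock_symm hχ) hψ

variable [Fintype (G ⧸ N)]

lemma sum_reg_infl (hPp : IsPGroup p N) (hC : ∃ k : ℕ, (Subgroup.centralizer (N : Set G)).index = p ^ k)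
    (χ ψ : G ⧸ N → ℂ) :
    ∑ g : G, reg p (χ ∘ QuotientGroup.mk) g * conj (ψ (g : G ⧸ N)) = ∑ c : G ⧸ N, reg p χ c * conj (ψ c) := by
  classical
  rw [← sum_regular_eq N hPp hC (fun c => reg p χ c * conj (ψ c)) (fun c hc => by rw [reg_of_dvd _ hc, zero_mul])]
  refine Finset.sum_congr rfl fun g _ => ?_
  by_cases hg : p ∣ orderOf g
  · rw [reg_of_dvd _ hg, if_pos hg, zero_mul]
  · rw [reg_of_not_dvd _ hg, if_neg hg]
    have h1 : ¬ p ∣ orderOf (g : G ⧸ N) := fun h =>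
      hg (h.trans (orderOf_map_dvd (QuotientGroup.mk' N) g))
    rw [reg_of_not_dvd _ h1]
    rfl

lemma classInner_reg_infl (hPp : IsPGroup p N) (hC : ∃ k : ℕ, (Subgroup.centralizer (N : Set G)).index = p ^ k)
    (χ ψ : IrrCharacter (G ⧸ N)) :
    classInner (reg p (χ : G ⧸ N → ℂ)) (ψ : G ⧸ N → ℂ) =
      (Nat.card N : ℂ) * classInner (reg p (infl N χ : G → ℂ)) (infl N ψ : G → ℂ) := by
  rw [classInner, classInner]
  have h1 := sum_reg_infl N hPp hC (χ : G ⧸ N → ℂ) (ψ : G ⧸ N → ℂ)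
  have h2 : ∑ g : G, reg p (infl N χ : G → ℂ) g * conj ((infl N ψ : G → ℂ) g) =
      ∑ c : G ⧸ N, reg p (χ : G ⧸ N → ℂ) c * conj ((ψ : G ⧸ N → ℂ) c) := h1
  rw [h2, ← mul_assoc]
  congr 1
  have h3 : Nat.card G = Nat.card (G ⧸ N) * Nat.card N := Subgroup.card_eq_card_quotient_mul_card_subgroup N
  rw [h3]
  push_cast
  have h4 : (Nat.card N : ℂ) ≠ 0 := by exact_mod_cast Nat.card_pos.ne'
  have h5 : (Nat.card (G ⧸ N) : ℂ) ≠ 0 := by exact_mod_cast Nat.card_pos.ne'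
  field_simp

/-- **Connectivity of the characters of a block with a central `p`-subgroup in the kernel.** -/
theorem connect (hMp : IsPModular p M) (hPp : IsPGroup p N) (hcen : ∀ n ∈ N, ∀ g : G, g * n = n * g)
    {B : Set (IrrCharacter G)} (hB : IsPBlock M B) {X : Set (IrrCharacter G)} (hXB : X ⊆ B)
    (horth : ∀ χ ∈ X, ∀ χ' ∈ B, χ' ∉ X → (∀ n ∈ N, (χ' : G → ℂ) n = (χ' : G → ℂ) 1) →
      classInner (reg p (χ : G → ℂ)) (χ' : G → ℂ) = 0)
    {χ₁ : IrrCharacter G} (hχ₁ : χ₁ ∈ X) (hχ₁k : ∀ n ∈ N, (χ₁ : G → ℂ) n = (χ₁ : G → ℂ) 1)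
    {χ : IrrCharacter G} (hχ : χ ∈ B) (hχk : ∀ n ∈ N, (χ : G → ℂ) n = (χ : G → ℂ) 1) : χ ∈ X := by
  classical
  have hC : ∃ k : ℕ, (Subgroup.centralizer (N : Set G)).index = p ^ k := hC_of_central hcen
  set Xb : Set (IrrCharacter (G ⧸ N)) := {c | infl N c ∈ X} with hXb
  have horthb : ∀ c ∈ Xb, ∀ c' : IrrCharacter (G ⧸ N), c' ∉ Xb →
      classInner (reg p (c : G ⧸ N → ℂ)) (c' : G ⧸ N → ℂ) = 0 := by
    intro c hc c' hc'
    rw [classInner_reg_infl N hPp hC]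
    by_cases hm : infl N c' ∈ B
    · rw [horth _ hc _ hm hc' (fun n hn => infl_ker N c' hn), mul_zero]
    · have h1 := classInner_reg_eq_zero_of_closed hMp (isClosed_of_isPBlock hB) hm (hXB hc)
      rw [classInner_reg_symm, h1, map_zero, mul_zero]
  have hclosed := isClosed_of_orth hMp horthb
  obtain ⟨c₁, hc₁⟩ := Cfsg.Agent.Lib.Blocks.Kernel.exists_irr_of_kernel N χ₁.2 hχ₁k
  obtain ⟨c, hc⟩ := Cfsg.Agent.Lib.Blocks.Kernel.exists_irr_of_kernel N χ.2 hχk
  have e₁ : infl N c₁ = χ₁ := Subtype.ext hc₁.symm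
  have e : infl N c = χ := Subtype.ext hc.symm
  have h2 : SameBlock M ((c₁ : G ⧸ N → ℂ) ∘ QuotientGroup.mk) ((c : G ⧸ N → ℂ) ∘ QuotientGroup.mk) := by
    rw [← hc₁, ← hc]
    exact sameBlock_of_mem' hB (hXB hχ₁) hχ
  have h3 := sameBlock_of_comp_mk N hMp hPp hC h2
  have h4 : c₁ ∈ Xb := by
    show infl N c₁ ∈ X
    rw [e₁]
    exact hχ₁
  have h5 := hclosed c₁ h4 h3
  have h6 : infl N c ∈ X := h5
  rwa [e] at h6

omit hM [Fintype G] in
lemma dvd_orderOf_mul [Finite G] {u y : G} (hcomm : Commute u y) (hy : ¬ p ∣ orderOf y) {k : ℕ} (hu : u ^ (p ^ k) = 1)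
    (hne : u ≠ 1) : p ∣ orderOf (u * y) := by
  obtain ⟨j, -, hj⟩ := (Nat.dvd_prime_pow hp.out).mp (orderOf_dvd_of_pow_eq_one hu)
  have hco : (orderOf u).Coprime (orderOf y) := by
    rw [hj]
    exact Nat.Coprime.pow_left _ ((Nat.Prime.coprime_iff_not_dvd hp.out).mpr hy)
  rw [hcomm.orderOf_mul_eq_mul_orderOf_of_coprime hco, hj]
  rcases j with _ | j
  · exact absurd (orderOf_eq_one_iff.mp (by simpa using hj)) hne
  · exact dvd_mul_of_dvd_left (dvd_pow_self p (Nat.succ_ne_zero j)) _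

omit [Fintype (G ⧸ N)] in
open Classical in
/-- The value of the idempotent of a block at a regular element. -/
lemma blockCoeff_eq_kernel (hMp : IsPModular p M) (hPp : IsPGroup p N) (hcen : ∀ n ∈ N, ∀ g : G, g * n = n * g)
    {B : Set (IrrCharacter G)} (hB : IsPBlock M B) {y : G} (hy : ¬ p ∣ orderOf y) :
    blockCoeff B y = (Nat.card G : ℂ)⁻¹ * (Nat.card N : ℂ) * ∑ χ ∈ Finset.univ.filter (fun χ : IrrCharacter G => χ ∈ B ∧
        ∀ n ∈ N, (χ : G → ℂ) n = (χ : G → ℂ) 1), (χ : G → ℂ) 1 * conj ((χ : G → ℂ) y) := by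
  classical
  letI : Fintype N := Fintype.ofFinite _
  have h1 : ∑ u : N, blockCoeff B ((u : G) * y) = blockCoeff B y := by
    rw [Finset.sum_eq_single (1 : N)]
    · simp
    · intro u _ hu
      obtain ⟨k, hk⟩ := hPp u
      have hk' : (u : G) ^ (p ^ k) = 1 := by
        have := congrArg Subtype.val hk
        simpa using this
      apply Cfsg.Agent.Lib.Blocks.Covering.blockCoeff_eq_zero_of_dvd hMp hB
      exact dvd_orderOf_mul (hcen u u.2 y).symm hy hk' (fun h => hu (Subtype.ext h))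
    · intro h
      exact absurd (Finset.mem_univ _) h
  have hsum : ∀ χ : IrrCharacter G, ∑ u : N, (χ : G → ℂ) ((u : G) * y) =
      if ∀ n ∈ N, (χ : G → ℂ) n = (χ : G → ℂ) 1 then (Nat.card N : ℂ) * (χ : G → ℂ) y else 0 := by
    intro χ
    have h0 := Cfsg.Agent.Lib.Char.Ortho.irr_apply_one_ne_zero χ.2
    have h2 : ∀ u : N, (χ : G → ℂ) ((u : G) * y) = (χ : G → ℂ) u * ((χ : G → ℂ) y / (χ : G → ℂ) 1) := by
      intro u
      obtain ⟨ζ, -, hζ⟩ := exists_central_shift χ (w := (u : G)) (fun k => (hcen u u.2 k).symm)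
      have h3 := hζ 1
      rw [mul_one] at h3
      rw [hζ y, h3]
      field_simp
    simp only [h2]
    rw [← Finset.sum_mul, sum_irr_normal N χ.2]
    split_ifs
    · field_simp
    · simp
  have h2 : ∑ u : N, blockCoeff B ((u : G) * y) = (Nat.card G : ℂ)⁻¹ * ∑ χ ∈ Finset.univ.filter (· ∈ B),
      (χ : G → ℂ) 1 * conj (∑ u : N, (χ : G → ℂ) ((u : G) * y)) := by
    simp only [blockCoeff_eq_sum]
    rw [← Finset.mul_sum, Finset.sum_comm]
    congr 1
    refine Finset.sum_congr rfl fun χ _ => ?_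
    rw [map_sum, Finset.mul_sum]
  rw [← h1, h2, mul_assoc]
  congr 1
  rw [Finset.sum_filter, Finset.sum_filter, Finset.mul_sum]
  refine Finset.sum_congr rfl fun χ _ => ?_
  rw [hsum χ]
  by_cases hχ : χ ∈ B
  · by_cases hk : ∀ n ∈ N, (χ : G → ℂ) n = (χ : G → ℂ) 1
    · rw [if_pos hχ, if_pos hk, if_pos ⟨hχ, hk⟩, map_mul, map_natCast]
      ring
    · rw [if_pos hχ, if_neg hk, if_neg (fun h => hk h.2), map_zero]
      ring
  · rw [if_neg hχ, if_neg (fun h => hχ h.1), mul_zero]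

/-- The value of the idempotent of the dominated block. -/
lemma blockCoeff_quot (hMp : IsPModular p M) (hPp : IsPGroup p N) (hcen : ∀ n ∈ N, ∀ g : G, g * n = n * g)
    {B : Set (IrrCharacter G)} (hB : IsPBlock M B) {c₁ : IrrCharacter (G ⧸ N)} (hc₁ : infl N c₁ ∈ B)
    {y : G} (hy : ¬ p ∣ orderOf y) :
    blockCoeff (blockOf M (c₁ : G ⧸ N → ℂ)) (y : G ⧸ N) = blockCoeff B y := by
  classical
  have hC : ∃ k : ℕ, (Subgroup.centralizer (N : Set G)).index = p ^ k := hC_of_central hcen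
  rw [blockCoeff_eq_kernel N hMp hPp hcen hB hy, blockCoeff_eq_sum]
  have h3 : Nat.card G = Nat.card (G ⧸ N) * Nat.card N := Subgroup.card_eq_card_quotient_mul_card_subgroup N
  have h4 : (Nat.card N : ℂ) ≠ 0 := by exact_mod_cast Nat.card_pos.ne'
  have h5 : (Nat.card (G ⧸ N) : ℂ) ≠ 0 := by exact_mod_cast Nat.card_pos.ne'
  have h6 : (Nat.card G : ℂ)⁻¹ * (Nat.card N : ℂ) = (Nat.card (G ⧸ N) : ℂ)⁻¹ := by
    rw [h3]
    push_cast
    field_simp
  rw [h6]
  congr 1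
  refine Finset.sum_bij (fun c _ => infl N c) ?_ ?_ ?_ ?_
  · intro c hc
    have hc' : SameBlock M (c₁ : G ⧸ N → ℂ) (c : G ⧸ N → ℂ) := (Finset.mem_filter.mp hc).2
    refine Finset.mem_filter.mpr ⟨Finset.mem_univ _, ?_, fun n hn => infl_ker N c hn⟩
    have h7 := sameBlock_comp_mk (N := N) c₁.2 c.2 hc'
    obtain ⟨b, rfl⟩ := hB
    exact sameBlock_trans hc₁ h7
  · intro a _ b _ hab
    apply Subtype.ext
    funext x
    obtain ⟨g, rfl⟩ := QuotientGroup.mk_surjective x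
    have := congrFun (congrArg Subtype.val hab) g
    exact this
  · intro χ hχ
    obtain ⟨-, hχB, hχk⟩ := Finset.mem_filter.mp hχ
    obtain ⟨c, hc⟩ := Cfsg.Agent.Lib.Blocks.Kernel.exists_irr_of_kernel N χ.2 hχk
    have e : infl N c = χ := Subtype.ext hc.symm
    refine ⟨c, Finset.mem_filter.mpr ⟨Finset.mem_univ _, ?_⟩, e⟩
    have h2 : SameBlock M ((c₁ : G ⧸ N → ℂ) ∘ QuotientGroup.mk) ((c : G ⧸ N → ℂ) ∘ QuotientGroup.mk) := by
      rw [← hc]
      exact sameBlock_of_mem' hB hc₁ hχB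
    exact sameBlock_of_comp_mk N hMp hPp hC h2
  · intro c _
    rw [coe_infl_apply, coe_infl_apply]
    rfl

/-- The index of the centralizer of a regular element does not change in the quotient. -/
lemma index_centralizer_quot (hPp : IsPGroup p N) (hcen : ∀ n ∈ N, ∀ g : G, g * n = n * g) {y : G}
    (hy : ¬ p ∣ orderOf y) :
    (Subgroup.centralizer ({(y : G ⧸ N)} : Set (G ⧸ N))).index = (Subgroup.centralizer ({y} : Set G)).index := by
  have h1 : (Subgroup.centralizer ({(y : G ⧸ N)} : Set (G ⧸ N))).comap (QuotientGroup.mk' N) =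
      Subgroup.centralizer ({y} : Set G) := by
    ext x
    rw [Subgroup.mem_comap, Subgroup.mem_centralizer_singleton_iff, Subgroup.mem_centralizer_singleton_iff]
    constructor
    · intro h
      have h2 : ((x * y * x⁻¹ : G) : G ⧸ N) = (y : G ⧸ N) := by
        rw [QuotientGroup.mk_mul, QuotientGroup.mk_mul, QuotientGroup.mk_inv]
        have h3 : ((x : G ⧸ N)) * (y : G ⧸ N) = (y : G ⧸ N) * (x : G ⧸ N) := h
        rw [h3, mul_inv_cancel_right]
      have h3 : (x * y * x⁻¹) * y⁻¹ ∈ N := by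
        have := (QuotientGroup.eq_iff_div_mem).mp h2
        simpa [div_eq_mul_inv] using this
      set n := (x * y * x⁻¹) * y⁻¹ with hn
      have h4 : x * y * x⁻¹ = n * y := by
        rw [hn, inv_mul_cancel_right]
      by_cases hn1 : n = 1
      · rw [hn1, one_mul] at h4
        calc x * y = (x * y * x⁻¹) * x := by group
          _ = y * x := by rw [h4]
      · exfalso
        obtain ⟨k, hk⟩ := hPp ⟨n, h3⟩
        have hk' : n ^ (p ^ k) = 1 := by
          have := congrArg Subtype.val hk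
          simpa using this
        have h5 := dvd_orderOf_mul (hcen n h3 y).symm hy hk' hn1
        rw [← h4, orderOf_conj'] at h5
        exact hy h5
    · intro h
      show ((x : G ⧸ N)) * (y : G ⧸ N) = (y : G ⧸ N) * (x : G ⧸ N)
      rw [← QuotientGroup.mk_mul, ← QuotientGroup.mk_mul, h]
  rw [← h1, Subgroup.index_comap_of_surjective _ (QuotientGroup.mk'_surjective N)]

/-- **A character of the block trivial on the central subgroup with a unit value on a defect class.** -/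
theorem exists_chi0 (hMp : IsPModular p M) (hPp : IsPGroup p N) (hcen : ∀ n ∈ N, ∀ g : G, g * n = n * g)
    {B : Set (IrrCharacter G)} (hB : IsPBlock M B) {y : G} (hy : IsDefectClass M B y) :
    ∃ χ₀ ∈ B, (∀ n ∈ N, (χ₀ : G → ℂ) n = (χ₀ : G → ℂ) 1) ∧ ¬ MemLocalIdeal M ((χ₀ : G → ℂ) y) := by
  classical
  have hyr := HeightZero.isPRegular_of_isDefectClass hMp hB hy
  obtain ⟨χ₁, hχ₁, hχ₁k⟩ := exists_mem_kernel N hMp hPp hB
  obtain ⟨c₁, hc₁⟩ := Cfsg.Agent.Lib.Blocks.Kernel.exists_irr_of_kernel N χ₁.2 hχ₁k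
  have e₁ : infl N c₁ = χ₁ := Subtype.ext hc₁.symm
  have hc₁B : infl N c₁ ∈ B := by rw [e₁]; exact hχ₁
  have hBb : IsPBlock M (blockOf M (c₁ : G ⧸ N → ℂ)) := ⟨c₁, rfl⟩
  have hmemB : ∀ c ∈ blockOf M (c₁ : G ⧸ N → ℂ), infl N c ∈ B := by
    intro c hc
    have h7 := sameBlock_comp_mk (N := N) c₁.2 c.2 hc
    obtain ⟨b, rfl⟩ := hB
    exact sameBlock_trans hc₁B h7
  have hbc := blockCoeff_quot N hMp hPp hcen hB hc₁B hyr
  have hdc : IsDefectClass M (blockOf M (c₁ : G ⧸ N → ℂ)) (y : G ⧸ N) := by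
    refine ⟨?_, ?_, ?_⟩
    · rw [hbc]
      exact hy.1
    · rw [hbc]
      exact hy.2.1
    · intro c hc
      have h8 := hy.2.2 _ (hmemB c hc)
      have h9 : centralChar (c : G ⧸ N → ℂ) (y : G ⧸ N) = centralChar (infl N c : G → ℂ) y := by
        rw [centralChar, centralChar, index_centralizer_quot N hPp hcen hyr, coe_infl_apply, coe_infl_apply]
        rfl
      rwa [h9]
  obtain ⟨c₀, hc₀, h0⟩ := HeightZero.exists_height_zero (p := p) (B := blockOf M (c₁ : G ⧸ N → ℂ)) ⟨c₁, mem_blockOf_self c₁⟩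
  have h1 := HeightZero.not_memLocalIdeal_of_defect_class (k := 0) hMp hBb hdc hc₀ h0
    (Commute.one_left (y : G ⧸ N)) (by simp)
  rw [one_mul] at h1
  exact ⟨infl N c₀, hmemB c₀ hc₀, fun n hn => infl_ker N c₀ hn, h1⟩

end Lift

end Cfsg.Agent.Lib.Blocks.Nilp
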