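/-
Nilpotent blocks: rank one.
-/
import Mathlib
import Cfsg.Agent.Lib.Blocks.NilpLift

set_option autoImplicit false

namespace Cfsg.Agent.Lib.Blocks.Nilp

open Cfsg Cfsg.Agent.Lib.Blocks.Local Cfsg.Agent.Lib.Blocks.Central Cfsg.Agent.Lib.Blocks.Osima
open Cfsg.Agent.Lib.Blocks.Covering Cfsg.Agent.Lib.Blocks.BlockHom Cfsg.Agent.Lib.Blocks.Pairs
open Cfsg.Agent.Lib.Blocks.Twisted Cfsg.Agent.Lib.Blocks.Necklace Cfsg.Agent.Lib.Blocks.Sections
open Cfsg.Agent.Lib.Blocks.Regular Cfsg.Agent.Lib.Blocks.BlockCount Cfsg.Agent.Lib.Blocks.Dominate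
open Cfsg.Agent.Lib.Char.Ortho
open scoped ComplexConjugate

universe u

section Main

variable {G : Type u} [Group G] [Fintype G] {M : Ideal AlgInt} [hM : M.IsPrime]
variable {p : ℕ} [hp : Fact p.Prime]
variable {P : Subgroup G} {e : Set (IrrCharacter (Subgroup.centralizer (P : Set G)))}

/-- The central elements of `P`, as a subgroup of `G`. -/
def ZP (P : Subgroup G) : Subgroup G where
  carrier := {v | v ∈ P ∧ IsCen v}
  mul_mem' := by
    intro a b ha hb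
    refine ⟨P.mul_mem ha.1 hb.1, fun g => ?_⟩
    rw [← mul_assoc, ha.2 g, mul_assoc, hb.2 g, mul_assoc]
  one_mem' := ⟨P.one_mem, fun g => by simp⟩
  inv_mem' := by
    intro a ha
    refine ⟨P.inv_mem ha.1, fun g => ?_⟩
    have h := ha.2 g⁻¹
    have h2 : (g⁻¹ * a)⁻¹ = (a * g⁻¹)⁻¹ := by rw [h]
    simpa using h2.symm

omit hM hp in
lemma mem_ZP {v : G} : v ∈ ZP P ↔ v ∈ P ∧ IsCen v := Iff.rfl

instance ZP_normal : (ZP P).Normal where
  conj_mem := by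
    intro n hn g
    have h : g * n * g⁻¹ = n := by rw [hn.2 g, mul_inv_cancel_right]
    rw [h]
    exact hn

lemma central_mul {χ : IrrCharacter G} {u : G} (hu : IsCen u) (y : G) :
    (χ : G → ℂ) (u * y) = (χ : G → ℂ) u * ((χ : G → ℂ) y / (χ : G → ℂ) 1) := by
  have h0 := Cfsg.Agent.Lib.Char.Ortho.irr_apply_one_ne_zero χ.2
  obtain ⟨ζ, -, hζ⟩ := exists_central_shift χ (w := u) (fun k => (hu k).symm)
  have h3 := hζ 1
  rw [mul_one] at h3
  rw [hζ y, h3]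
  field_simp

lemma kerZ_iff {χ : IrrCharacter G} : KerZ P (χ : G → ℂ) ↔ ∀ n ∈ ZP P, (χ : G → ℂ) n = (χ : G → ℂ) 1 := by
  have h0 := Cfsg.Agent.Lib.Char.Ortho.irr_apply_one_ne_zero χ.2
  constructor
  · intro h n hn
    have := h n hn.1 hn.2 1
    rwa [mul_one] at this
  · intro h z hz hc g
    rw [central_mul hc, h z ⟨hz, hc⟩]
    field_simp

open Classical in
lemma sum_central_mul [Fintype (ZP P)] (χ : IrrCharacter G) (y : G) :
    ∑ u : ZP P, (χ : G → ℂ) ((u : G) * y) =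
      if ∀ n ∈ ZP P, (χ : G → ℂ) n = (χ : G → ℂ) 1 then (Nat.card (ZP P) : ℂ) * (χ : G → ℂ) y else 0 := by
  have h0 := Cfsg.Agent.Lib.Char.Ortho.irr_apply_one_ne_zero χ.2
  have h2 : ∀ u : ZP P, (χ : G → ℂ) ((u : G) * y) = (χ : G → ℂ) u * ((χ : G → ℂ) y / (χ : G → ℂ) 1) := fun u =>
    central_mul u.2.2 y
  simp only [h2]
  rw [← Finset.sum_mul, sum_irr_normal (ZP P) χ.2]
  split_ifs
  · field_simp
  · simp

omit hM in
lemma isPGroup_ZP (hP : IsPGroup p P) : IsPGroup p (ZP P) := fun u => by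
  obtain ⟨k, hk⟩ := hP ⟨u, u.2.1⟩
  refine ⟨k, Subtype.ext ?_⟩
  have := congrArg Subtype.val hk
  simpa using this

/-- The regular part of a character of the block, from the characters trivial on the center. -/
theorem exists_reg_eq (hMp : IsPModular p M) {B : Set (IrrCharacter G)} (hB : IsPBlock M B) (hP : IsPGroup p P)
    {χ₀ : IrrCharacter G} (hrk : ∀ τ ∈ B, (∀ n ∈ ZP P, (τ : G → ℂ) n = (τ : G → ℂ) 1) →
      ∃ r : ℂ, reg p (τ : G → ℂ) = r • reg p (χ₀ : G → ℂ)) {χ : IrrCharacter G} (hχ : χ ∈ B) :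
    ∃ s : ℂ, reg p (χ : G → ℂ) = s • reg p (χ₀ : G → ℂ) := by
  classical
  letI : Fintype (ZP P) := Fintype.ofFinite _
  have hZp := isPGroup_ZP (p := p) hP
  choose! r hr using hrk
  refine ⟨(Nat.card (ZP P) : ℂ) * ∑ τ ∈ Finset.univ.filter (· ∈ B),
    classInner (reg p (χ : G → ℂ)) (τ : G → ℂ) *
      (if ∀ n ∈ ZP P, (τ : G → ℂ) n = (τ : G → ℂ) 1 then r τ else 0), ?_⟩
  funext g
  by_cases hg : p ∣ orderOf g
  · simp [reg_of_dvd _ hg]
  have h1 : ∑ u : ZP P, reg p (χ : G → ℂ) ((u : G) * g) = reg p (χ : G → ℂ) g := by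
    rw [Finset.sum_eq_single (1 : ZP P)]
    · simp
    · intro u _ hu
      obtain ⟨k, hk⟩ := hZp u
      have hk' : (u : G) ^ (p ^ k) = 1 := by
        have := congrArg Subtype.val hk
        simpa using this
      apply reg_of_dvd
      exact dvd_orderOf_mul (u.2.2 g).symm hg hk' (fun h => hu (Subtype.ext h))
    · intro h
      exact absurd (Finset.mem_univ _) h
  rw [← h1]
  have h2 : ∀ u : ZP P, reg p (χ : G → ℂ) ((u : G) * g) = ∑ τ ∈ Finset.univ.filter (· ∈ B),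
      classInner (reg p (χ : G → ℂ)) (τ : G → ℂ) * (τ : G → ℂ) ((u : G) * g) := fun u =>
    Cartan.reg_eq_sum_block hMp hB hχ _
  simp only [h2]
  rw [Finset.sum_comm]
  simp only [← Finset.mul_sum, sum_central_mul]
  simp only [Pi.smul_apply, smul_eq_mul]
  rw [reg_of_not_dvd _ hg, Finset.mul_sum, Finset.sum_mul]
  refine Finset.sum_congr rfl fun τ hτ => ?_
  have hτB := (Finset.mem_filter.mp hτ).2
  by_cases hk : ∀ n ∈ ZP P, (τ : G → ℂ) n = (τ : G → ℂ) 1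
  · rw [if_pos hk, if_pos hk]
    have h3 := congrFun (hr τ hτB hk) g
    simp only [Pi.smul_apply, smul_eq_mul] at h3
    rw [reg_of_not_dvd _ hg, reg_of_not_dvd _ hg] at h3
    rw [h3]
    ring
  · rw [if_neg hk, if_neg hk]
    ring

variable {φ : G → G → ℂ} {a : IrrCharacter G → G → ℂ} {y : MonoidAlgebra ℂ G} {χ₀ : IrrCharacter G}

/-- **Rank one.** -/
theorem rank_one_core (hMp : IsPModular p M) {B : Set (IrrCharacter G)} (hmax : IsMaximalBrauerPair p M B P e)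
    (hnil : IsNilpotentBlock p M B) (hD : SecD M p P e φ a)
    (hy : IsPrimIdem M P y) (hne : ¬ CoeffIn (localIdeal M) (tr (Subgroup.centralizer (P : Set G)) y))
    (h1 : CoeffIn (localIdeal M) (tr (Subgroup.centralizer (P : Set G)) y * (1 - EE (Subgroup.centralizer (P : Set G)) e)))
    (hχ₀ : χ₀ ∈ B) (hk : KerZ P (χ₀ : G → ℂ)) (hT : ¬ MemLocalIdeal M (twTrace (χ₀ : G → ℂ) 1 y))
    {χ : IrrCharacter G} (hχ : χ ∈ B) :
    ∃ d : ℕ, reg p (χ : G → ℂ) = (d : ℂ) • reg p (χ₀ : G → ℂ) ∧ (d : ℂ) = RR p P (χ : G → ℂ) (χ₀ : G → ℂ) := by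
  classical
  have hPe := hmax.1.1
  have hP := hPe.1
  have hB := hmax.1.2.1
  obtain ⟨hR, ha⟩ := core_of_source hMp hmax hnil hD hy hne h1 hχ₀ hk hT
  have hZp := isPGroup_ZP (p := p) hP
  have hP0 : ((Pf P).card : ℂ) ≠ 0 := by
    exact_mod_cast (Finset.card_pos.mpr ⟨1, mem_Pf.mpr P.one_mem⟩).ne'
  set X : Set (IrrCharacter G) := {τ | τ ∈ B ∧ (∀ n ∈ ZP P, (τ : G → ℂ) n = (τ : G → ℂ) 1) ∧
    ∃ r : ℂ, reg p (τ : G → ℂ) = r • reg p (χ₀ : G → ℂ)} with hX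
  have hχ₀X : χ₀ ∈ X := ⟨hχ₀, kerZ_iff.mp hk, 1, by simp⟩
  have horth : ∀ τ ∈ X, ∀ τ' ∈ B, τ' ∉ X → (∀ n ∈ ZP P, (τ' : G → ℂ) n = (τ' : G → ℂ) 1) →
      classInner (reg p (τ : G → ℂ)) (τ' : G → ℂ) = 0 := by
    intro τ hτ τ' hτ' hn hk'
    obtain ⟨-, -, r, hr⟩ := hτ
    rcases dichotomy hMp hmax hnil hD hy hne h1 hχ₀ hk hT hτ' (kerZ_iff.mpr hk') with ⟨r', hr'⟩ | h0
    · exact absurd ⟨hτ', hk', r', hr'⟩ hn
    · rw [hr, classInner_smul_left, classInner_reg_symm]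
      rw [RR] at h0
      rw [(mul_eq_zero.mp h0).resolve_left hP0, map_zero, mul_zero]
  have hconn : ∀ τ ∈ B, (∀ n ∈ ZP P, (τ : G → ℂ) n = (τ : G → ℂ) 1) → τ ∈ X := fun τ hτ hτk =>
    letI : Fintype (G ⧸ ZP P) := Fintype.ofFinite _
    connect (ZP P) hMp hZp (fun n hn g => hn.2 g) hB (fun _ h => h.1) horth hχ₀X (kerZ_iff.mp hk) hτ hτk
  obtain ⟨s, hs⟩ := exists_reg_eq hMp hB hP (χ₀ := χ₀) (fun τ hτ hτk => (hconn τ hτ hτk).2.2) hχ
  have hsR : s = RR p P (χ : G → ℂ) (χ₀ : G → ℂ) := by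
    rw [RR, hs, classInner_smul_left, mul_left_comm]
    have : ((Pf P).card : ℂ) * classInner (reg p (χ₀ : G → ℂ)) (χ₀ : G → ℂ) = 1 := hR
    rw [this, mul_one]
  obtain ⟨n, hn⟩ := exists_int_RR hMp hmax χ hχ₀
  have h2 := congrFun hs 1
  have hone : ¬ p ∣ orderOf (1 : G) := by
    rw [orderOf_one]
    exact fun h => hp.out.one_lt.ne' (Nat.dvd_one.mp h)
  simp only [Pi.smul_apply, smul_eq_mul] at h2
  rw [reg_of_not_dvd _ hone, reg_of_not_dvd _ hone,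
    ← Cfsg.Agent.Lib.Char.Values.IsCharacter.charDegree_cast (Cfsg.Agent.Lib.Char.Values.IsIrrCharacter.isCharacter χ.2),
    ← Cfsg.Agent.Lib.Char.Values.IsCharacter.charDegree_cast (Cfsg.Agent.Lib.Char.Values.IsIrrCharacter.isCharacter χ₀.2),
    hsR, hn] at h2
  have hd0 : 0 < charDegree (χ : G → ℂ) := by
    have h3 := Cfsg.Agent.Lib.Char.Ortho.irr_apply_one_ne_zero χ.2
    rw [← Cfsg.Agent.Lib.Char.Values.IsCharacter.charDegree_cast
      (Cfsg.Agent.Lib.Char.Values.IsIrrCharacter.isCharacter χ.2)] at h3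
    exact Nat.pos_of_ne_zero (by exact_mod_cast h3)
  have hd1 : 0 < charDegree (χ₀ : G → ℂ) := by
    have h3 := Cfsg.Agent.Lib.Char.Ortho.irr_apply_one_ne_zero χ₀.2
    rw [← Cfsg.Agent.Lib.Char.Values.IsCharacter.charDegree_cast
      (Cfsg.Agent.Lib.Char.Values.IsIrrCharacter.isCharacter χ₀.2)] at h3
    exact Nat.pos_of_ne_zero (by exact_mod_cast h3)
  have h4 : ((charDegree (χ : G → ℂ) : ℕ) : ℤ) = n * (charDegree (χ₀ : G → ℂ) : ℕ) := by
    exact_mod_cast h2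
  have hn0 : 0 < n := by
    by_contra hcon
    have h5 : n * ((charDegree (χ₀ : G → ℂ) : ℕ) : ℤ) ≤ 0 :=
      mul_nonpos_of_nonpos_of_nonneg (not_lt.mp hcon) (by positivity)
    have h6 : (0 : ℤ) < ((charDegree (χ : G → ℂ) : ℕ) : ℤ) := by exact_mod_cast hd0
    linarith
  obtain ⟨d, rfl⟩ := Int.eq_ofNat_of_zero_le hn0.le
  refine ⟨d, ?_, ?_⟩
  · rw [hs, hsR, hn]
    push_cast
    rfl
  · rw [hn]
    push_cast
    rfl

end Main

end Cfsg.Agent.Lib.Blocks.Nilp
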