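/-
Nilpotent blocks: the theorem of Broué and Puig.
-/
import Mathlib
import Cfsg.Agent.Lib.Blocks.NilpMain

set_option autoImplicit false

namespace Cfsg.Agent.Lib.Blocks.Nilp

open Cfsg Cfsg.Agent.Lib.Blocks.Local Cfsg.Agent.Lib.Blocks.Central Cfsg.Agent.Lib.Blocks.Osima
open Cfsg.Agent.Lib.Blocks.Covering Cfsg.Agent.Lib.Blocks.BlockHom Cfsg.Agent.Lib.Blocks.Pairs
open Cfsg.Agent.Lib.Blocks.Twisted Cfsg.Agent.Lib.Blocks.Necklace Cfsg.Agent.Lib.Blocks.Sections
open Cfsg.Agent.Lib.Blocks.Regular Cfsg.Agent.Lib.Blocks.BlockCount Cfsg.Agent.Lib.Blocks.Dominate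
open Cfsg.Agent.Lib.Char.Ortho
open scoped ComplexConjugate

universe u

section Final

variable {G : Type u} [Group G] [Fintype G] {M : Ideal AlgInt} [hM : M.IsPrime]
variable {p : ℕ} [hp : Fact p.Prime]

/-- The source idempotent of a nilpotent block with a given defect group. -/
theorem exists_setup (hMp : IsPModular p M) {B : Set (IrrCharacter G)} (hB : IsPBlock M B) {P : Subgroup G}
    (hP : IsDefectGroup p M B P) :
    ∃ (χ₀ : IrrCharacter G) (y : MonoidAlgebra ℂ G) (e : Set (IrrCharacter (Subgroup.centralizer (P : Set G)))),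
      χ₀ ∈ B ∧ KerZ P (χ₀ : G → ℂ) ∧ IsPrimIdem M P y ∧ ¬ MemLocalIdeal M (twTrace (χ₀ : G → ℂ) 1 y) ∧
      ¬ CoeffIn (localIdeal M) (tr (Subgroup.centralizer (P : Set G)) y) ∧ IsMaximalBrauerPair p M B P e ∧
      CoeffIn (localIdeal M) (tr (Subgroup.centralizer (P : Set G)) y * (1 - EE (Subgroup.centralizer (P : Set G)) e)) := by
  classical
  obtain ⟨y₁, hdc, S, hS⟩ := id hP
  have hPp : IsPGroup p P := by
    rw [hS]
    exact S.isPGroup'.map _
  have hPc : ∀ a ∈ P, a * y₁ = y₁ * a := by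
    intro a ha
    rw [hS] at ha
    obtain ⟨c, -, rfl⟩ := ha
    exact Subgroup.mem_centralizer_singleton_iff.mp c.2
  letI : Fintype (G ⧸ ZP P) := Fintype.ofFinite _
  obtain ⟨χ₀, hχ₀, hk, hu⟩ := exists_chi0 (ZP P) hMp (isPGroup_ZP hPp) (fun n hn g => hn.2 g) hB hdc
  have hc₀ : LocCoeff M (MonoidAlgebra.single y₁ (1 : ℂ)) := by
    intro g
    rw [MonoidAlgebra.coeff_single, Finsupp.single_apply]
    split_ifs
    · exact memLocalRing_one
    · exact memLocalRing_zero
  have hc₀i : InvBy P (MonoidAlgebra.single y₁ (1 : ℂ)) := by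
    intro g a ha
    rw [MonoidAlgebra.coeff_single, Finsupp.single_apply, Finsupp.single_apply]
    have : (y₁ = a * g * a⁻¹) ↔ (y₁ = g) := by
      constructor
      · intro h
        have h2 : a⁻¹ * y₁ * a = g := by rw [h]; group
        have h3 : a⁻¹ * y₁ * a = y₁ := by
          rw [mul_assoc, ← hPc a ha, ← mul_assoc, inv_mul_cancel, one_mul]
        rw [← h2, h3]
      · intro h
        rw [← h, hPc a ha, mul_inv_cancel_right]
    simp only [this]
  have hT : ¬ MemLocalIdeal M (twTrace (χ₀ : G → ℂ) 1 (MonoidAlgebra.single y₁ (1 : ℂ))) := by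
    rw [twTrace_single, one_mul, mul_one]
    exact hu
  obtain ⟨y, e, hy, hT1, hne, hpair, h1⟩ := exists_source hMp hB hPp hχ₀ hc₀ hc₀i hT
  exact ⟨χ₀, y, e, hχ₀, kerZ_iff.mpr hk, hy, hT1, hne, isMaximal_of_isDefectGroup hMp hpair hP, h1⟩

omit hM in
lemma not_isCen_card_lt {v : G} (hv : ¬ IsCen v) : Nat.card (Kz v) < Nat.card G := by
  refine lt_of_le_of_ne (Subgroup.card_le_card_group _) fun h => hv ?_
  have h1 := Subgroup.eq_top_of_card_eq _ h
  intro g
  have h2 : g ∈ Kz v := by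
    rw [h1]
    exact Subgroup.mem_top g
  exact mem_centralizer_zpowers_iff.mp h2

/-- The local blocks are nilpotent. -/
lemma isNilpotentBlock_eBlk (hMp : IsPModular p M) {B : Set (IrrCharacter G)} {P : Subgroup G}
    {e : Set (IrrCharacter (Subgroup.centralizer (P : Set G)))} (hmax : IsMaximalBrauerPair p M B P e)
    (hnil : IsNilpotentBlock p M B) {v : G} (hv : v ∈ P) : IsNilpotentBlock p M (eBlk M p P e v) := by
  have hPe := hmax.1.1
  have hle := eBlk_spec hMp hPe hv
  have hQf := (isBrauerPairOf_iff_of_subpairLE hMp (isBrauerPair_of_subpairLE hPe hle) hle).mp hmax.1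
  exact isNilpotentBlock_local hMp hnil hQf

/-- The conclusion for the block, from the data. -/
theorem bpConcl_of_core (hMp : IsPModular p M) {B : Set (IrrCharacter G)} (hnil : IsNilpotentBlock p M B) {P : Subgroup G}
    (hP : IsDefectGroup p M B P)
    (hIH : ∀ (v : G) (f : Set (IrrCharacter (Kz v))), v ∈ P → ¬ IsCen v → IsNilpotentBlock p M f →
      @BPConcl p M (Kz v) _ (Fintype.ofFinite _) f) : BPConcl p M G B := by
  classical
  have hB := hnil.1
  obtain ⟨χ₀, y, e, hχ₀, hk, hy, hT, hne, hmax, h1⟩ := exists_setup hMp hB hP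
  obtain ⟨φ, a, hD⟩ := exists_secD hMp hmax hnil (fun v hv => hIH v _ (mem_Pnc.mp hv).1 (mem_Pnc.mp hv).2
    (isNilpotentBlock_eBlk hMp hmax hnil (mem_Pnc.mp hv).1))
  obtain ⟨hR, -⟩ := core_of_source hMp hmax hnil hD hy hne h1 hχ₀ hk hT
  refine ⟨χ₀, hχ₀, fun ξ hξ => ?_, fun D hDd => ?_⟩
  · obtain ⟨d, hd, -⟩ := rank_one_core hMp hmax hnil hD hy hne h1 hχ₀ hk hT hξ
    refine ⟨d, fun g hg => ?_⟩
    have h2 := congrFun hd g
    simp only [Pi.smul_apply, smul_eq_mul] at h2
    rwa [reg_of_not_dvd _ hg, reg_of_not_dvd _ hg] at h2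
  · have hc₁ := Cfsg.Agent.S0908.result p M hMp B hB D hDd
    have hc₂ := Cfsg.Agent.S0908.result p M hMp B hB P hP
    have h2 : Nat.card D = (Pf P).card := by
      rw [hc₁, ← hc₂, Nat.card_eq_fintype_card, Fintype.card_subtype]
      rfl
    rw [h2]
    rw [RR, classInner] at hR
    have h3 : (Nat.card G : ℂ) ≠ 0 := by exact_mod_cast Nat.card_pos.ne'
    field_simp at hR
    exact hR

end Final

/-- **The theorem of Broué and Puig**, in the strong form. -/
theorem bpConcl_all {M : Ideal AlgInt} {p : ℕ} [hp : Fact p.Prime] (hMp : IsPModular p M) :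
    ∀ (n : ℕ) (G : Type u) [Group G] [Fintype G] (B : Set (IrrCharacter G)), Nat.card G = n →
      IsNilpotentBlock p M B → BPConcl p M G B := by
  haveI : M.IsPrime := isPrime_of_isPModular hMp
  intro n
  induction n using Nat.strong_induction_on with
  | _ n ih =>
    intro G _ _ B hn hnil
    obtain ⟨x, S, -, hP⟩ := exists_isDefectGroup hMp hnil.1
    refine bpConcl_of_core hMp hnil hP fun v f _ hv hf => ?_
    letI : Fintype (Kz v) := Fintype.ofFinite _
    exact ih _ (by rw [← hn]; exact not_isCen_card_lt hv) (Kz v) f rfl hf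

end Cfsg.Agent.Lib.Blocks.Nilp
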