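/-
Nilpotent blocks: the bijection with the irreducible characters of the defect group.
-/
import Mathlib
import Cfsg.Agent.Lib.Blocks.NilpFinal

set_option autoImplicit false

namespace Cfsg.Agent.Lib.Blocks.Nilp

open Cfsg Cfsg.Agent.Lib.Blocks.Local Cfsg.Agent.Lib.Blocks.Central Cfsg.Agent.Lib.Blocks.Osima
open Cfsg.Agent.Lib.Blocks.Covering Cfsg.Agent.Lib.Blocks.BlockHom Cfsg.Agent.Lib.Blocks.Pairs
open Cfsg.Agent.Lib.Blocks.Twisted Cfsg.Agent.Lib.Blocks.Necklace Cfsg.Agent.Lib.Blocks.Sections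
open Cfsg.Agent.Lib.Blocks.Regular Cfsg.Agent.Lib.Blocks.BlockCount Cfsg.Agent.Lib.Blocks.Dominate
open Cfsg.Agent.Lib.Blocks.CycloSums
open Cfsg.Agent.Lib.Char.Ortho
open scoped ComplexConjugate

universe u

section IntLemma0

variable {Q : Type u} [Group Q] [Fintype Q] {p : ℕ} [hp : Fact p.Prime]

/-- An integrality criterion for the inner products of a class function on a `p`-group. -/
theorem int_classInner_of_eq0 {k : ℕ} (hQ : Nat.card Q = p ^ k) {t : Q → ℂ} (htI : ∀ b, IsIntegral ℤ (t b))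
    {G₁ : Q → ℂ} (hG : IsGeneralizedCharacter Q G₁) {m : ℤ} (hm : ¬ (p : ℤ) ∣ m)
    (heq : ∀ b, (m : ℂ) * t b = G₁ b) (l : IrrCharacter Q) :
    ∃ n : ℤ, classInner t (l : Q → ℂ) = n := by
  obtain ⟨g₂, hg₂⟩ := Cfsg.Agent.Lib.Char.Virtual.exists_int_classInner hG
    (Cfsg.Agent.Lib.Char.Virtual.isGeneralized_of_isIrr l.2)
  have h21 : (m : ℂ) * classInner t (l : Q → ℂ) = (g₂ : ℂ) := by
    rw [← hg₂, classInner, classInner, mul_left_comm, Finset.mul_sum]
    simp only [← mul_assoc, heq]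
  refine exists_int_of_mul hm h21 (k := k) ?_
  have h22 : (p : ℂ) ^ k * classInner t (l : Q → ℂ) = ∑ b : Q, t b * conj ((l : Q → ℂ) b) := by
    rw [classInner, hQ]
    push_cast
    have : ((p : ℂ) ^ k) ≠ 0 := by
      apply pow_ne_zero
      exact_mod_cast hp.out.ne_zero
    field_simp
  rw [h22]
  refine IsIntegral.sum _ fun b _ => (htI b).mul ?_
  rw [Cfsg.Agent.Lib.Char.Ortho.conj_of_isCharacter (Cfsg.Agent.Lib.Char.Values.IsIrrCharacter.isCharacter l.2)]
  exact isIntegral_irr l.2 _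

/-- A class function with integral inner products, of norm one and positive degree is an irreducible character. -/
theorem exists_irr_of_int_norm_one {t : Q → ℂ} (ht : IsClassFunction Q t)
    (hint : ∀ l : IrrCharacter Q, ∃ n : ℤ, classInner t (l : Q → ℂ) = n) (hn : classInner t t = 1)
    {d : ℕ} (hd : t 1 = d) (hd0 : 0 < d) : ∃ l : IrrCharacter Q, t = (l : Q → ℂ) := by
  classical
  haveI : Fintype (IrrCharacter Q) := Fintype.ofFinite _
  have h1 := Cfsg.Agent.Lib.Char.Complete.eq_sum_classInner t ht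
  have hG : IsGeneralizedCharacter Q t := by
    rw [h1]
    refine Cfsg.Agent.Lib.Char.Virtual.isGeneralized_finset_sum _ fun l _ => ?_
    obtain ⟨c, hc⟩ := hint l
    rw [hc]
    exact Cfsg.Agent.Lib.Char.Virtual.isGeneralized_intCast_smul
      (Cfsg.Agent.Lib.Char.Virtual.isGeneralized_of_isIrr l.2) c
  rcases Cfsg.Agent.Lib.Char.Virtual.isSignedIrr_of_norm_one hG hn with h | h
  · exact ⟨⟨t, h⟩, rfl⟩
  · exfalso
    have h2 := Cfsg.Agent.Lib.Char.Values.IsCharacter.charDegree_cast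
      (Cfsg.Agent.Lib.Char.Values.IsIrrCharacter.isCharacter h)
    rw [Pi.neg_apply, hd] at h2
    have h3 : ((charDegree (-t) : ℕ) : ℤ) = -(d : ℤ) := by
      have h4 : (((charDegree (-t) : ℕ) : ℤ) : ℂ) = ((-(d : ℤ) : ℤ) : ℂ) := by
        push_cast
        exact h2
      exact_mod_cast h4
    have h5 : (0 : ℤ) ≤ ((charDegree (-t) : ℕ) : ℤ) := by positivity
    have h6 : (0 : ℤ) < (d : ℤ) := by exact_mod_cast hd0
    linarith

end IntLemma0

section Bij

variable {G : Type u} [Group G] [Fintype G] {M : Ideal AlgInt} [hM : M.IsPrime]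
variable {p : ℕ} [hp : Fact p.Prime]
variable {P : Subgroup G} {e : Set (IrrCharacter (Subgroup.centralizer (P : Set G)))}

/-- The data of a nilpotent block. -/
structure BPData (M : Ideal AlgInt) [M.IsPrime] (p : ℕ) [Fact p.Prime] (B : Set (IrrCharacter G)) (P : Subgroup G)
    (e : Set (IrrCharacter (Subgroup.centralizer (P : Set G)))) (φ : G → G → ℂ) (a : IrrCharacter G → G → ℂ)
    (y : MonoidAlgebra ℂ G) (χ₀ : IrrCharacter G) (d : IrrCharacter G → ℕ) : Prop where
  hMp : IsPModular p M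
  hmax : IsMaximalBrauerPair p M B P e
  hnil : IsNilpotentBlock p M B
  hD : SecD M p P e φ a
  hy : IsPrimIdem M P y
  hne : ¬ CoeffIn (localIdeal M) (tr (Subgroup.centralizer (P : Set G)) y)
  h1 : CoeffIn (localIdeal M) (tr (Subgroup.centralizer (P : Set G)) y * (1 - EE (Subgroup.centralizer (P : Set G)) e))
  hχ₀ : χ₀ ∈ B
  hk : KerZ P (χ₀ : G → ℂ)
  hT : ¬ MemLocalIdeal M (twTrace (χ₀ : G → ℂ) 1 y)
  hR : RR p P (χ₀ : G → ℂ) (χ₀ : G → ℂ) = 1
  ha : ∀ v ∈ Pnc P, a χ₀ v * conj (a χ₀ v) = 1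
  hd : ∀ χ ∈ B, reg p (χ : G → ℂ) = (d χ : ℂ) • reg p (χ₀ : G → ℂ)

open Classical in
/-- The character of `P` attached to a character of the block. -/
noncomputable def TT (a : IrrCharacter G → G → ℂ) (χ₀ : IrrCharacter G) (d : IrrCharacter G → ℕ) (χ : IrrCharacter G)
    (v : G) : ℂ :=
  if IsCen v then ((χ : G → ℂ) v / (χ : G → ℂ) 1) * (d χ : ℂ) else a χ v * conj (a χ₀ v)

variable {B : Set (IrrCharacter G)} {φ : G → G → ℂ} {a : IrrCharacter G → G → ℂ}
  {y : MonoidAlgebra ℂ G} {χ₀ : IrrCharacter G} {d : IrrCharacter G → ℕ}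

lemma BPData.twTrace_one_eq (h : BPData M p B P e φ a y χ₀ d) {χ : IrrCharacter G} (hχ : χ ∈ B) :
    twTrace (χ : G → ℂ) 1 y = (d χ : ℂ) * twTrace (χ₀ : G → ℂ) 1 y := by
  have hMp := h.hMp
  have hPe := h.hmax.1.1
  have hone : IsCen (1 : G) := fun g => by simp
  have h2 := twTrace_y_eq_zero_of_section hMp hPe.1 h.hy h.hne hPe h.h1 P.one_mem
    (t := fun g => (χ : G → ℂ) g - (d χ : ℂ) * (χ₀ : G → ℂ) g)
    (fun g => memLocalRing_sub (memLocalRing_of_isIntegral (isIntegral_irr χ.2 g))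
      (memLocalRing_mul (memLocalRing_natCast _) (memLocalRing_of_isIntegral (isIntegral_irr χ₀.2 g))))
    (fun g x => by
      simp only
      rw [isClassFunction_of_irr χ.2 g x, isClassFunction_of_irr χ₀.2 g x])
    (fun c hc => by
      have hc' := (mem_regC_of_cen hone).mp hc
      rw [twTrace_sub_smul, twTrace_Ev_central hMp h.hmax hχ P.one_mem hone hc',
        twTrace_Ev_central hMp h.hmax h.hχ₀ P.one_mem hone hc', one_mul]
      have h3 := congrFun (h.hd χ hχ) c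
      simp only [Pi.smul_apply, smul_eq_mul] at h3
      rw [reg_of_not_dvd _ hc', reg_of_not_dvd _ hc'] at h3
      rw [h3, sub_self])
  rw [twTrace_sub_smul] at h2
  exact sub_eq_zero.mp h2

lemma BPData.TT_spec (h : BPData M p B P e φ a y χ₀ d) {χ : IrrCharacter G} (hχ : χ ∈ B) {b : G} (hb : b ∈ P) :
    twTrace (χ : G → ℂ) b y = TT a χ₀ d χ b * twTrace (χ₀ : G → ℂ) b y := by
  classical
  have hMp := h.hMp
  have hPe := h.hmax.1.1
  by_cases hc : IsCen b
  · simp only [TT, if_pos hc]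
    rw [nu_central (isClassFunction_of_irr χ₀.2) h.hk hb hc y]
    have h2 : twTrace (χ : G → ℂ) b y = ((χ : G → ℂ) b / (χ : G → ℂ) 1) * twTrace (χ : G → ℂ) 1 y := by
      simp only [twTrace, mul_one, Finset.mul_sum]
      refine Finset.sum_congr rfl fun g _ => ?_
      rw [hc g, central_mul hc]
      ring
    rw [h2, h.twTrace_one_eq hχ]
    ring
  · simp only [TT, if_neg hc]
    have hb' : b ∈ Pnc P := mem_Pnc.mpr ⟨hb, hc⟩
    exact nu_eq_nc hMp hPe h.hD h.hy h.hne h.h1 hb' (h.ha b hb') χ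

lemma BPData.TT_integral (h : BPData M p B P e φ a y χ₀ d) (χ : IrrCharacter G) {b : G} (hb : b ∈ P) :
    IsIntegral ℤ (TT a χ₀ d χ b) := by
  classical
  by_cases hc : IsCen b
  · simp only [TT, if_pos hc]
    have hd : IsIntegral ℤ ((d χ : ℕ) : ℂ) := by
      have := isIntegral_algebraMap (R := ℤ) (A := ℂ) (x := ((d χ : ℕ) : ℤ))
      simpa using this
    refine IsIntegral.mul ?_ hd
    obtain ⟨ζ, hζ, hζ'⟩ := exists_central_shift χ (w := b) (fun k => (hc k).symm)
    have h3 := hζ' 1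
    rw [mul_one] at h3
    have h0 := Cfsg.Agent.Lib.Char.Ortho.irr_apply_one_ne_zero χ.2
    rw [h3, mul_div_assoc, div_self h0, mul_one]
    exact IsIntegral.of_pow (orderOf_pos b) (by rw [hζ]; exact isIntegral_one)
  · simp only [TT, if_neg hc]
    have hb' : b ∈ Pnc P := mem_Pnc.mpr ⟨hb, hc⟩
    exact isIntegral_of_mem_rootRing Fintype.card_pos ((rootRing _).mul_mem (h.hD.mem _ hb' χ)
      (conj_mem_rootRing (h.hD.mem _ hb' χ₀)))

lemma BPData.RR_eq (h : BPData M p B P e φ a y χ₀ d) {χ ψ : IrrCharacter G} (hχ : χ ∈ B) (hψ : ψ ∈ B) :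
    RR p P (χ : G → ℂ) (ψ : G → ℂ) = (d χ : ℂ) * (d ψ : ℂ) := by
  have h0 := h.hR
  rw [RR, ← classInner_reg_reg] at h0 ⊢
  rw [h.hd χ hχ, h.hd ψ hψ, classInner_smul_left, classInner_smul_right, Complex.conj_natCast]
  calc _ = (d χ : ℂ) * (d ψ : ℂ) *
        (((Pf P).card : ℂ) * classInner (reg p (χ₀ : G → ℂ)) (reg p (χ₀ : G → ℂ))) := by ring
    _ = _ := by rw [h0, mul_one]

lemma BPData.theta (h : BPData M p B P e φ a y χ₀ d) {χ ψ : IrrCharacter G} (hχ : χ ∈ B) (hψ : ψ ∈ B)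
    {v : G} (hv : v ∈ Pf P) :
    wt P v * secF p (χ : G → ℂ) (ψ : G → ℂ) v (Ev M p P e v) = TT a χ₀ d χ v * conj (TT a χ₀ d ψ v) := by
  classical
  have hMp := h.hMp
  have hvP := mem_Pf.mp hv
  by_cases hc : IsCen v
  · simp only [TT, if_pos hc]
    have h2 : secF p (χ : G → ℂ) (ψ : G → ℂ) v (Ev M p P e v) =
        ((χ : G → ℂ) v / (χ : G → ℂ) 1) * conj ((ψ : G → ℂ) v / (ψ : G → ℂ) 1) *
          ∑ g : G, reg p (χ : G → ℂ) g * conj ((ψ : G → ℂ) g) := by
      rw [← Finset.sum_filter_add_sum_filter_not Finset.univ (fun g : G => ¬ p ∣ orderOf g)]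
      have h0 : ∑ g ∈ Finset.univ.filter (fun g : G => ¬ ¬ p ∣ orderOf g),
          reg p (χ : G → ℂ) g * conj ((ψ : G → ℂ) g) = 0 := by
        apply Finset.sum_eq_zero
        intro g hg
        rw [reg_of_dvd _ (not_not.mp (Finset.mem_filter.mp hg).2), zero_mul]
      rw [h0, add_zero, secF, Finset.mul_sum]
      refine Finset.sum_congr ?_ fun c hc' => ?_
      · ext c
        rw [mem_regC_of_cen hc]
        simp
      · have hc'' : ¬ p ∣ orderOf c := by simpa using hc'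
        rw [twTrace_Ev_central hMp h.hmax hχ hvP hc hc'', twTrace_Ev_central hMp h.hmax hψ hvP hc hc'',
          reg_of_not_dvd _ hc'', central_mul hc, central_mul hc]
        simp only [map_mul, map_div₀]
        ring
    have h3 : (wt P v) * ∑ g : G, reg p (χ : G → ℂ) g * conj ((ψ : G → ℂ) g) = (d χ : ℂ) * (d ψ : ℂ) := by
      rw [wt_central hvP hc, ← h.RR_eq hχ hψ, RR, classInner, div_eq_mul_inv, mul_assoc]
    rw [h2, map_mul, Complex.conj_natCast]
    calc _ = ((χ : G → ℂ) v / (χ : G → ℂ) 1) * conj ((ψ : G → ℂ) v / (ψ : G → ℂ) 1) *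
          ((wt P v) * ∑ g : G, reg p (χ : G → ℂ) g * conj ((ψ : G → ℂ) g)) := by ring
      _ = _ := by rw [h3]; ring
  · simp only [TT, if_neg hc]
    have hv' : v ∈ Pnc P := mem_Pnc.mpr ⟨hvP, hc⟩
    rw [theta_nc h.hD hv' χ ψ, map_mul, Complex.conj_conj]
    calc _ = a χ v * conj (a ψ v) * (a χ₀ v * conj (a χ₀ v)) := by rw [h.ha v hv', mul_one]
      _ = _ := by ring

/-- The inner product formula for the characters of the block. -/
theorem BPData.inner_formula (h : BPData M p B P e φ a y χ₀ d) {χ ψ : IrrCharacter G} (hχ : χ ∈ B) (hψ : ψ ∈ B) :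
    ∑ v ∈ Pf P, TT a χ₀ d χ v * conj (TT a χ₀ d ψ v) =
      ((Pf P).card : ℂ) * classInner (χ : G → ℂ) (ψ : G → ℂ) := by
  classical
  have h1 := sum_wt_secF h.hMp h.hmax h.hnil hχ (isClassFunction_of_irr ψ.2)
  rw [Finset.sum_congr rfl fun v hv => h.theta hχ hψ hv] at h1
  have hG : ((Fintype.card G : ℕ) : ℂ) ≠ 0 := by
    exact_mod_cast Fintype.card_ne_zero
  apply mul_left_cancel₀ hG
  rw [h1, classInner, Nat.card_eq_fintype_card]
  field_simp

lemma BPData.value_one (h : BPData M p B P e φ a y χ₀ d) {χ : IrrCharacter G} (hχ : χ ∈ B) :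
    (χ : G → ℂ) 1 = (d χ : ℂ) * (χ₀ : G → ℂ) 1 := by
  have h2 := congrFun (h.hd χ hχ) 1
  have hone : ¬ p ∣ orderOf (1 : G) := by
    rw [orderOf_one]
    exact fun h => hp.out.one_lt.ne' (Nat.dvd_one.mp h)
  simp only [Pi.smul_apply, smul_eq_mul] at h2
  rwa [reg_of_not_dvd _ hone, reg_of_not_dvd _ hone] at h2

lemma BPData.d_pos (h : BPData M p B P e φ a y χ₀ d) {χ : IrrCharacter G} (hχ : χ ∈ B) : 0 < d χ := by
  have h3 := Cfsg.Agent.Lib.Char.Ortho.irr_apply_one_ne_zero χ.2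
  rw [h.value_one hχ] at h3
  refine Nat.pos_of_ne_zero fun h0 => h3 ?_
  rw [h0]
  simp

lemma BPData.charDegree_eq (h : BPData M p B P e φ a y χ₀ d) {χ : IrrCharacter G} (hχ : χ ∈ B) :
    charDegree (χ : G → ℂ) = d χ * charDegree (χ₀ : G → ℂ) := by
  have h2 := h.value_one hχ
  rw [← Cfsg.Agent.Lib.Char.Values.IsCharacter.charDegree_cast (Cfsg.Agent.Lib.Char.Values.IsIrrCharacter.isCharacter χ.2),
    ← Cfsg.Agent.Lib.Char.Values.IsCharacter.charDegree_cast (Cfsg.Agent.Lib.Char.Values.IsIrrCharacter.isCharacter χ₀.2)] at h2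
  exact_mod_cast h2

lemma BPData.TT_one (h : BPData M p B P e φ a y χ₀ d) (χ : IrrCharacter G) :
    TT a χ₀ d χ 1 = (d χ : ℂ) := by
  classical
  have hone : IsCen (1 : G) := fun g => by simp
  simp only [TT, if_pos hone]
  rw [div_self (Cfsg.Agent.Lib.Char.Ortho.irr_apply_one_ne_zero χ.2), one_mul]

/-- The character of the defect group attached to a character of the block. -/
theorem BPData.exists_lam (h : BPData M p B P e φ a y χ₀ d) {χ : IrrCharacter G} (hχ : χ ∈ B) :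
    ∃ l : IrrCharacter P, ∀ b : P, TT a χ₀ d χ (b : G) = (l : P → ℂ) b := by
  classical
  letI : Fintype P := Fintype.ofFinite _
  have hMp := h.hMp
  have hPe := h.hmax.1.1
  have hP := hPe.1
  have hy := h.hy
  have hχc : IsCharacter G (χ : G → ℂ) := Cfsg.Agent.Lib.Char.Values.IsIrrCharacter.isCharacter χ.2
  have hχ₀c : IsCharacter G (χ₀ : G → ℂ) := Cfsg.Agent.Lib.Char.Values.IsIrrCharacter.isCharacter χ₀.2
  have htl : ∀ g, MemLocalRing M ((χ₀ : G → ℂ) g) := fun g => memLocalRing_of_isIntegral (isIntegral_irr χ₀.2 g)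
  set t : P → ℂ := fun b => TT a χ₀ d χ (b : G) with ht
  have hν : IsCharacter P (fun b : P => twTrace (χ : G → ℂ) (b : G) y) := isCharacter_nu hχc hy.idem hy.inv
  have hν₀ : IsCharacter P (fun b : P => twTrace (χ₀ : G → ℂ) (b : G) y) := isCharacter_nu hχ₀c hy.idem hy.inv
  have hu : ∀ b : P, ¬ MemLocalIdeal M (twTrace (χ₀ : G → ℂ) (b : G) y) := fun b =>
    not_mem_nu hMp hP hχ₀c htl hy.loc hy.idem hy.inv h.hT b.2
  obtain ⟨κ, m, hκ, hm, hκm⟩ := exists_inverse_gen hMp hν₀ hu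
  have hspec : ∀ b : P, twTrace (χ : G → ℂ) (b : G) y = t b * twTrace (χ₀ : G → ℂ) (b : G) y := fun b =>
    h.TT_spec hχ b.2
  have heq : ∀ b : P, (m : ℂ) * t b = (fun b : P => κ b * twTrace (χ : G → ℂ) (b : G) y) b := by
    intro b
    simp only
    rw [hspec b, ← hκm b]
    ring
  have hG : IsGeneralizedCharacter P (fun b : P => κ b * twTrace (χ : G → ℂ) (b : G) y) := by
    obtain ⟨χ₁, χ₂, h₁, h₂, rfl⟩ := hκ
    refine ⟨_, _, Cfsg.Agent.Lib.Char.Basic.isCharacter_mul h₁ hν, Cfsg.Agent.Lib.Char.Basic.isCharacter_mul h₂ hν, ?_⟩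
    funext b
    simp only [Pi.sub_apply, Pi.mul_apply]
    ring
  obtain ⟨k, hQ⟩ := IsPGroup.iff_card.mp hP
  have htI : ∀ b, IsIntegral ℤ (t b) := fun b => h.TT_integral χ b.2
  have hint := int_classInner_of_eq0 hQ htI hG hm heq
  have hcl : IsClassFunction P t := by
    intro b x
    by_cases hb : IsCen (b : G)
    · have h2 : x * b * x⁻¹ = b := by
        apply Subtype.ext
        simp only [Subgroup.coe_mul, InvMemClass.coe_inv]
        rw [hb x, mul_inv_cancel_right]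
      rw [h2]
    · have h2 := hspec (x * b * x⁻¹)
      have h3 := hspec b
      have h4 := Cfsg.Agent.Lib.Char.Basic.isClassFunction_of_isCharacter hν b x
      have h5 := Cfsg.Agent.Lib.Char.Basic.isClassFunction_of_isCharacter hν₀ b x
      rw [h4, h5, h3] at h2
      exact (mul_right_cancel₀ (ne_zero_of_not_memLocalIdeal (hu b)) h2).symm
  have hPcard : ((Pf P).card : ℂ) = (Nat.card P : ℂ) := by
    rw [Nat.card_eq_fintype_card, Fintype.card_subtype]
    rfl
  have hP0 : ((Pf P).card : ℂ) ≠ 0 := by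
    rw [hPcard]
    exact_mod_cast Nat.card_pos.ne'
  have hn : classInner t t = 1 := by
    have h2 := h.inner_formula hχ hχ
    rw [Cfsg.Agent.Lib.Char.Ortho.classInner_irr_self χ.2, mul_one,
      ← sum_subgroup_eq_Pf (P := P) (fun v => TT a χ₀ d χ v * conj (TT a χ₀ d χ v))] at h2
    rw [classInner]
    simp only [ht]
    rw [h2, ← hPcard]
    field_simp
  obtain ⟨l, hl⟩ := exists_irr_of_int_norm_one hcl hint hn (d := d χ) (by
    simp only [ht, OneMemClass.coe_one]
    exact h.TT_one χ) (h.d_pos hχ)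
  exact ⟨l, fun b => congrFun hl b⟩

open Classical in
/-- The sum of the squares of the multiplicities. -/
theorem BPData.sum_sq (h : BPData M p B P e φ a y χ₀ d) :
    ∑ χ ∈ Finset.univ.filter (· ∈ B), ((d χ : ℂ)) ^ 2 = ((Pf P).card : ℂ) := by
  classical
  have hMp := h.hMp
  have hB := h.hmax.1.2.1
  set Φ : G → ℂ := fX (fun χ => (χ : G → ℂ) 1) B with hΦ
  have hreg : reg p Φ = Φ := by
    funext g
    by_cases hg : p ∣ orderOf g
    · rw [reg_of_dvd _ hg]
      have h2 := blockCoeff_eq_zero_of_dvd hMp hB hg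
      rw [blockCoeff_eq_sum] at h2
      have h3 := (mul_eq_zero.mp h2).resolve_left (inv_ne_zero (by exact_mod_cast Nat.card_pos.ne'))
      have h4 := congrArg conj h3
      rw [map_sum, map_zero] at h4
      have h5 : Φ g = ∑ χ ∈ Finset.univ.filter (· ∈ B),
          conj ((χ : G → ℂ) 1 * conj ((χ : G → ℂ) g)) := by
        rw [hΦ, fX, Finset.sum_apply]
        refine Finset.sum_congr rfl fun χ _ => ?_
        rw [map_mul, Complex.conj_conj, Pi.smul_apply, smul_eq_mul,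
          ← Cfsg.Agent.Lib.Char.Values.IsCharacter.charDegree_cast (Cfsg.Agent.Lib.Char.Values.IsIrrCharacter.isCharacter χ.2),
          Complex.conj_natCast]
      rw [h5, h4]
    · rw [reg_of_not_dvd _ hg]
  have h1 : classInner Φ (χ₀ : G → ℂ) = (χ₀ : G → ℂ) 1 := by
    rw [hΦ, fX, classInner_sum_left]
    rw [Finset.sum_eq_single χ₀]
    · rw [classInner_smul_left, Cfsg.Agent.Lib.Char.Ortho.classInner_irr_self χ₀.2, mul_one]
    · intro χ _ hne
      rw [classInner_smul_left, Cfsg.Agent.Lib.Char.Ortho.classInner_irr_of_ne χ.2 χ₀.2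
        (fun hh => hne (Subtype.ext hh)), mul_zero]
    · intro hh
      exact absurd (Finset.mem_filter.mpr ⟨Finset.mem_univ _, h.hχ₀⟩) hh
  have h2 : classInner Φ (χ₀ : G → ℂ) = (∑ χ ∈ Finset.univ.filter (· ∈ B), ((d χ : ℂ)) ^ 2) *
      ((χ₀ : G → ℂ) 1 * classInner (reg p (χ₀ : G → ℂ)) (χ₀ : G → ℂ)) := by
    rw [← hreg, hΦ, fX, reg_sum_smul, classInner_sum_left, Finset.sum_mul]
    refine Finset.sum_congr rfl fun χ hχ => ?_
    have hχB := (Finset.mem_filter.mp hχ).2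
    rw [classInner_smul_left, h.hd χ hχB, classInner_smul_left, h.value_one hχB]
    ring
  have h3 := h.hR
  rw [RR] at h3
  have hP0 : ((Pf P).card : ℂ) ≠ 0 := by
    intro h0
    rw [h0, zero_mul] at h3
    exact zero_ne_one h3
  have h0 := Cfsg.Agent.Lib.Char.Ortho.irr_apply_one_ne_zero χ₀.2
  rw [h1] at h2
  have h4 : (χ₀ : G → ℂ) 1 * ((Pf P).card : ℂ) = (χ₀ : G → ℂ) 1 *
      (∑ χ ∈ Finset.univ.filter (· ∈ B), ((d χ : ℂ)) ^ 2) := by
    calc _ = ((∑ χ ∈ Finset.univ.filter (· ∈ B), ((d χ : ℂ)) ^ 2) *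
          ((χ₀ : G → ℂ) 1 * classInner (reg p (χ₀ : G → ℂ)) (χ₀ : G → ℂ))) * ((Pf P).card : ℂ) := by rw [← h2]
      _ = (χ₀ : G → ℂ) 1 * (∑ χ ∈ Finset.univ.filter (· ∈ B), ((d χ : ℂ)) ^ 2) *
          (((Pf P).card : ℂ) * classInner (reg p (χ₀ : G → ℂ)) (χ₀ : G → ℂ)) := by ring
      _ = _ := by rw [h3, mul_one]
  exact (mul_left_cancel₀ h0 h4).symm

/-- **The bijection.** -/
theorem BPData.bijection (h : BPData M p B P e φ a y χ₀ d) :
    ∃ Φ : B ≃ IrrCharacter P, ∀ χ : B, blockHeight p B ((χ : IrrCharacter G) : G → ℂ) =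
      (charDegree ((Φ χ : IrrCharacter P) : P → ℂ)).factorization p := by
  classical
  letI : Fintype P := Fintype.ofFinite _
  letI : Fintype (IrrCharacter P) := Fintype.ofFinite _
  letI : Fintype B := Fintype.ofFinite _
  choose L hL using fun χ : B => h.exists_lam χ.2
  have hdeg : ∀ χ : B, charDegree ((L χ : IrrCharacter P) : P → ℂ) = d χ := by
    intro χ
    have h1 := Cfsg.Agent.Lib.Char.Values.IsCharacter.charDegree_cast
      (Cfsg.Agent.Lib.Char.Values.IsIrrCharacter.isCharacter (L χ).2)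
    rw [← hL χ 1] at h1
    simp only [OneMemClass.coe_one] at h1
    rw [h.TT_one] at h1
    exact_mod_cast h1
  have hPcard : (Pf P).card = Nat.card P := by
    rw [Nat.card_eq_fintype_card, Fintype.card_subtype]
    rfl
  have hP0 : ((Pf P).card : ℂ) ≠ 0 := by
    rw [hPcard]
    exact_mod_cast Nat.card_pos.ne'
  have hinj : Function.Injective L := by
    intro χ ψ hLe
    have hT : ∀ v ∈ Pf P, TT a χ₀ d χ v = TT a χ₀ d ψ v := by
      intro v hv
      have h1 := hL χ ⟨v, mem_Pf.mp hv⟩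
      have h2 := hL ψ ⟨v, mem_Pf.mp hv⟩
      rw [hLe] at h1
      exact h1.trans h2.symm
    have h1 := h.inner_formula χ.2 ψ.2
    have h2 := h.inner_formula ψ.2 ψ.2
    rw [Finset.sum_congr rfl (fun v hv => by rw [hT v hv]), h2,
      Cfsg.Agent.Lib.Char.Ortho.classInner_irr_self (ψ : IrrCharacter G).2, mul_one] at h1
    have h3 : classInner ((χ : IrrCharacter G) : G → ℂ) ((ψ : IrrCharacter G) : G → ℂ) = 1 := by
      apply mul_left_cancel₀ hP0
      rw [← h1, mul_one]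
    rw [Cfsg.Agent.Lib.Char.Ortho.classInner_irr (χ : IrrCharacter G).2 (ψ : IrrCharacter G).2] at h3
    split_ifs at h3 with hh
    · exact Subtype.ext (Subtype.ext hh)
    · exact absurd h3 zero_ne_one
  have hsurj : Function.Surjective L := by
    have h1 : ∑ l : IrrCharacter P, (charDegree (l : P → ℂ)) ^ 2 = Nat.card P := by
      have h2 := Cfsg.Agent.Lib.Char.CompleteCor.sum_sq_degrees (G := P)
      rw [← Nat.cast_inj (R := ℂ), ← h2]
      push_cast
      refine Finset.sum_congr rfl fun l _ => ?_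
      rw [Cfsg.Agent.Lib.Char.Values.IsCharacter.charDegree_cast
        (Cfsg.Agent.Lib.Char.Values.IsIrrCharacter.isCharacter l.2)]
    have h2 : ∑ χ : B, (d χ) ^ 2 = Nat.card P := by
      have h3 := h.sum_sq
      rw [← hPcard, ← Nat.cast_inj (R := ℂ), ← h3]
      push_cast
      rw [Finset.sum_subtype (Finset.univ.filter (· ∈ B)) (p := (· ∈ B)) (by simp)
        (f := fun χ : IrrCharacter G => ((d χ : ℂ)) ^ 2)]
    by_contra hns
    simp only [Function.Surjective, not_forall, not_exists] at hns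
    obtain ⟨l₀, hl₀⟩ := hns
    have h3 : ∑ l ∈ Finset.univ.image L, (charDegree (l : P → ℂ)) ^ 2 = ∑ χ : B, (d χ) ^ 2 := by
      rw [Finset.sum_image (fun x _ y _ hxy => hinj hxy)]
      exact Finset.sum_congr rfl fun χ _ => by rw [hdeg]
    have hpos : 0 < (charDegree (l₀ : P → ℂ)) ^ 2 := by
      have h4 := Cfsg.Agent.Lib.Char.Ortho.irr_apply_one_ne_zero l₀.2
      rw [← Cfsg.Agent.Lib.Char.Values.IsCharacter.charDegree_cast
        (Cfsg.Agent.Lib.Char.Values.IsIrrCharacter.isCharacter l₀.2)] at h4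
      exact pow_pos (Nat.pos_of_ne_zero (by exact_mod_cast h4)) 2
    have h4 : ∑ l ∈ Finset.univ.image L, (charDegree (l : P → ℂ)) ^ 2 < ∑ l : IrrCharacter P, (charDegree (l : P → ℂ)) ^ 2 :=
      Finset.sum_lt_sum_of_subset (Finset.subset_univ (Finset.univ.image L)) (Finset.mem_univ l₀)
      (by
        simp only [Finset.mem_image, Finset.mem_univ, true_and, not_exists]
        exact hl₀) hpos (fun _ _ _ => Nat.zero_le _)
    omega
  have hd₀ : charDegree (χ₀ : G → ℂ) ≠ 0 := by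
    have h4 := Cfsg.Agent.Lib.Char.Ortho.irr_apply_one_ne_zero χ₀.2
    rw [← Cfsg.Agent.Lib.Char.Values.IsCharacter.charDegree_cast
      (Cfsg.Agent.Lib.Char.Values.IsIrrCharacter.isCharacter χ₀.2)] at h4
    exact_mod_cast h4
  have hs : sInf ((fun ψ : IrrCharacter G => (charDegree (ψ : G → ℂ)).factorization p) '' B) =
      (charDegree (χ₀ : G → ℂ)).factorization p := by
    apply le_antisymm
    · exact Nat.sInf_le ⟨χ₀, h.hχ₀, rfl⟩
    · refine le_csInf ⟨_, χ₀, h.hχ₀, rfl⟩ ?_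
      rintro _ ⟨ψ, hψ, rfl⟩
      simp only
      rw [h.charDegree_eq hψ, Nat.factorization_mul (h.d_pos hψ).ne' hd₀]
      simp
  refine ⟨Equiv.ofBijective L ⟨hinj, hsurj⟩, fun χ => ?_⟩
  change blockHeight p B _ = (charDegree ((L χ : IrrCharacter P) : P → ℂ)).factorization p
  rw [hdeg, blockHeight, hs, h.charDegree_eq χ.2, Nat.factorization_mul (h.d_pos χ.2).ne' hd₀]
  simp

end Bij

/-- **Nilpotent blocks**: the bijection with the characters of the defect group, preserving heights. -/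
theorem nilpotent_bijection {G : Type u} [Group G] [Fintype G] {p : ℕ} [hp : Fact p.Prime] {M : Ideal AlgInt}
    (hMp : IsPModular p M) {B : Set (IrrCharacter G)} (hnil : IsNilpotentBlock p M B) {P : Subgroup G}
    (hP : IsDefectGroup p M B P) :
    ∃ Φ : B ≃ IrrCharacter P, ∀ χ : B, blockHeight p B ((χ : IrrCharacter G) : G → ℂ) =
      (charDegree ((Φ χ : IrrCharacter P) : P → ℂ)).factorization p := by
  classical
  haveI : M.IsPrime := isPrime_of_isPModular hMp
  obtain ⟨χ₀, y, e, hχ₀, hk, hy, hT, hne, hmax, h1⟩ := exists_setup hMp hnil.1 hP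
  obtain ⟨φ, a, hD⟩ := exists_secD hMp hmax hnil (fun v hv =>
    letI : Fintype (Kz v) := Fintype.ofFinite _
    bpConcl_all hMp _ (Kz v) _ rfl (isNilpotentBlock_eBlk hMp hmax hnil (mem_Pnc.mp hv).1))
  obtain ⟨hR, ha⟩ := core_of_source hMp hmax hnil hD hy hne h1 hχ₀ hk hT
  have hex : ∀ χ : IrrCharacter G, ∃ n : ℕ, χ ∈ B → reg p (χ : G → ℂ) = (n : ℂ) • reg p (χ₀ : G → ℂ) := by
    intro χ
    by_cases hχ : χ ∈ B
    · obtain ⟨d, hd, -⟩ := rank_one_core hMp hmax hnil hD hy hne h1 hχ₀ hk hT hχ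
      exact ⟨d, fun _ => hd⟩
    · exact ⟨0, fun hh => absurd hh hχ⟩
  choose d hd using hex
  exact BPData.bijection ⟨hMp, hmax, hnil, hD, hy, hne, h1, hχ₀, hk, hT, hR, ha, hd⟩

end Cfsg.Agent.Lib.Blocks.Nilp
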