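/-
Abelian `p`-groups: functions with values of absolute value one off a subgroup.
-/
import Mathlib
import Cfsg.Agent.Lib.Blocks.NilpBij
import Cfsg.Agent.Lib.Blocks.Parseval
import Cfsg.Agent.Lib.Blocks.RegInt
import Cfsg.Agent.Lib.Char.FrobPair

set_option autoImplicit false
set_option linter.style.haveILetI false

namespace Cfsg.Agent.Lib.Blocks.AbFree

open Cfsg Cfsg.Agent.Lib.Blocks.Local Cfsg.Agent.Lib.Blocks.Central Cfsg.Agent.Lib.Blocks.Nilp
open Cfsg.Agent.Lib.Char.Virtual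
open scoped ComplexConjugate

universe u

section Arith

/-- The square root of one modulo a power of a prime, with the exceptional case of the prime `2`. -/
theorem exists_sign_of_dvd_sq {p : ℕ} (hp : p.Prime) {a : ℕ} (ha : 1 ≤ a) {N m : ℤ} (hm : ¬ (p : ℤ) ∣ m)
    (h : ((p : ℤ) ^ a) ∣ N ^ 2 - m ^ 2) :
    (∃ σ : ℤ, (σ = 1 ∨ σ = -1) ∧ ((p : ℤ) ^ a) ∣ N - σ * m) ∨
      (p = 2 ∧ 3 ≤ a ∧ ∃ (σ u : ℤ), (σ = 1 ∨ σ = -1) ∧ ¬ (2 : ℤ) ∣ u ∧ N - σ * m = 2 ^ (a - 1) * u) := by
  have hpp : Prime (p : ℤ) := Nat.prime_iff_prime_int.mp hp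
  have hfac : N ^ 2 - m ^ 2 = (N - m) * (N + m) := by ring
  rw [hfac] at h
  by_cases h2 : p = 2
  · subst h2
    have hm2 : ¬ (2 : ℤ) ∣ m := by simpa using hm
    have hN2 : ¬ (2 : ℤ) ∣ N := by
      intro hN
      have h3 : (2 : ℤ) ∣ (N - m) * (N + m) :=
        dvd_trans (dvd_pow_self (2 : ℤ) (n := a) (by omega)) (by simpa using h)
      rcases (Int.prime_two.dvd_or_dvd h3) with h4 | h4 <;> apply hm2 <;> omega
    obtain ⟨σ, hσ, h4⟩ : ∃ σ : ℤ, (σ = 1 ∨ σ = -1) ∧ (4 : ℤ) ∣ N - σ * m := by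
      have : (N - m) % 4 = 0 ∨ (N + m) % 4 = 0 := by omega
      rcases this with h5 | h5
      · exact ⟨1, Or.inl rfl, by simp only [one_mul]; omega⟩
      · exact ⟨-1, Or.inr rfl, by simp only [neg_mul, one_mul, sub_neg_eq_add]; omega⟩
    have hprod : (((2 : ℕ) : ℤ) ^ a) ∣ (N - σ * m) * (N + σ * m) := by
      rcases hσ with rfl | rfl
      · simpa using h
      · have : (N - (-1) * m) * (N + (-1) * m) = (N - m) * (N + m) := by ring
        rw [this]
        exact h
    obtain ⟨v, hv⟩ : ∃ v : ℤ, N + σ * m = 2 * v ∧ ¬ (2 : ℤ) ∣ v := by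
      obtain ⟨c, hc⟩ := h4
      refine ⟨(N + σ * m) / 2, ?_, ?_⟩ <;> rcases hσ with rfl | rfl <;> omega
    obtain ⟨hv1, hv2⟩ := hv
    obtain ⟨a', rfl⟩ : ∃ a', a = a' + 1 := ⟨a - 1, by omega⟩
    have hd : ((2 : ℤ) ^ a') ∣ (N - σ * m) * v := by
      rw [hv1] at hprod
      have h6 : ((2 : ℕ) : ℤ) ^ (a' + 1) = 2 * 2 ^ a' := by
        push_cast
        ring
      rw [h6] at hprod
      have h7 : (N - σ * m) * (2 * v) = 2 * ((N - σ * m) * v) := by ring
      rw [h7] at hprod
      exact (mul_dvd_mul_iff_left (by norm_num : (2 : ℤ) ≠ 0)).mp hprod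
    have hcop : IsCoprime ((2 : ℤ) ^ a') v := by
      apply IsCoprime.pow_left
      exact (Prime.coprime_iff_not_dvd Int.prime_two).mpr hv2
    obtain ⟨u, hu⟩ := hcop.dvd_of_dvd_mul_right hd
    by_cases hu2 : (2 : ℤ) ∣ u
    · left
      obtain ⟨c, rfl⟩ := hu2
      refine ⟨σ, hσ, c, ?_⟩
      rw [hu]
      push_cast
      ring
    · by_cases ha3 : 3 ≤ a' + 1
      · right
        refine ⟨rfl, ha3, σ, u, hσ, hu2, ?_⟩
        rw [hu]
        simp
      · exfalso
        have ha' : a' = 0 ∨ a' = 1 := by omega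
        rcases ha' with rfl | rfl
        · simp only [pow_zero, one_mul] at hu
          omega
        · simp only [pow_one] at hu
          omega
  · left
    have hodd : (p : ℤ) ∣ 2 → False := by
      intro hd
      have : p ∣ 2 := by exact_mod_cast hd
      exact h2 ((Nat.prime_dvd_prime_iff_eq hp Nat.prime_two).mp this)
    by_cases h3 : (p : ℤ) ∣ N + m
    · have h4 : ¬ (p : ℤ) ∣ N - m := by
        intro h5
        have h6 : (p : ℤ) ∣ 2 * m := by
          have := dvd_sub h3 h5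
          have e : N + m - (N - m) = 2 * m := by ring
          rwa [e] at this
        rcases hpp.dvd_or_dvd h6 with h7 | h7
        · exact hodd h7
        · exact hm h7
      refine ⟨-1, Or.inr rfl, ?_⟩
      have hcop : IsCoprime ((p : ℤ) ^ a) (N - m) :=
        IsCoprime.pow_left ((Prime.coprime_iff_not_dvd hpp).mpr h4)
      have h5 := hcop.dvd_of_dvd_mul_left h
      have e : N - (-1) * m = N + m := by ring
      rwa [e]
    · refine ⟨1, Or.inl rfl, ?_⟩
      have hcop : IsCoprime ((p : ℤ) ^ a) (N + m) :=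
        IsCoprime.pow_left ((Prime.coprime_iff_not_dvd hpp).mpr h3)
      have h5 := hcop.dvd_of_dvd_mul_right h
      rwa [one_mul]

end Arith

section Key

variable {A : Type u} [Group A] [Fintype A] {p : ℕ} [hp : Fact p.Prime] {M : Ideal AlgInt} [hM : M.IsPrime]

omit [Fintype A] in
lemma isCF (hc : ∀ a b : A, a * b = b * a) (f : A → ℂ) : IsClassFunction A f := by
  intro g h
  rw [hc h g, mul_inv_cancel_right]

omit [Fintype A] in
lemma normal_of_comm (hc : ∀ a b : A, a * b = b * a) (Q : Subgroup A) : Q.Normal :=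
  ⟨fun n hn g => by rw [hc g n, mul_inv_cancel_right]; exact hn⟩

/-- The permutation character on the cosets of `Q`. -/
noncomputable def piQ (Q : Subgroup A) : A → ℂ := by
  classical
  exact fun a => if a ∈ Q then (Q.index : ℂ) else 0

omit [Fintype A] in
lemma piQ_mem {Q : Subgroup A} {a : A} (h : a ∈ Q) : piQ Q a = Q.index := by
  classical
  simp [piQ, h]

omit [Fintype A] in
lemma piQ_notMem {Q : Subgroup A} {a : A} (h : a ∉ Q) : piQ Q a = 0 := by
  classical
  simp [piQ, h]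

lemma card_mul_index_cast (Q : Subgroup A) : ((Nat.card Q : ℕ) : ℂ) * (Q.index : ℂ) = (Nat.card A : ℂ) := by
  rw [← Nat.cast_mul, Subgroup.card_mul_index]

lemma sum_piQ_mul (Q : Subgroup A) [Fintype Q] (f : A → ℂ) :
    ∑ a : A, piQ Q a * f a = (Q.index : ℂ) * ∑ q : Q, f q := by
  classical
  rw [Finset.mul_sum, ← Finset.sum_subset (Finset.subset_univ (Finset.univ.filter (· ∈ Q)))]
  · symm
    refine Finset.sum_bij' (fun q _ => (q : A)) (fun x hx => ⟨x, (Finset.mem_filter.mp hx).2⟩)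
      (fun q _ => Finset.mem_filter.mpr ⟨Finset.mem_univ _, q.2⟩) (fun _ _ => Finset.mem_univ _)
      (fun _ _ => rfl) (fun _ _ => rfl) (fun q _ => ?_)
    rw [piQ_mem q.2]
  · intro x _ hx
    have : x ∉ Q := by simpa using hx
    rw [piQ_notMem this, zero_mul]

lemma classInner_piQ (hc : ∀ a b : A, a * b = b * a) (Q : Subgroup A) (l : IrrCharacter A) :
    classInner (piQ Q) (l : A → ℂ) = by
      classical
      exact if ∀ q ∈ Q, (l : A → ℂ) q = 1 then 1 else 0 := by
  classical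
  letI := Fintype.ofFinite Q
  haveI := normal_of_comm hc Q
  have hl1 : (l : A → ℂ) 1 = 1 := Cfsg.Agent.Lib.Char.FrobPair.degree_eq_one_of_comm hc l.2
  have h1 := Cfsg.Agent.Lib.Blocks.Dominate.sum_irr_normal Q l.2
  have hcard : (Nat.card A : ℂ) ≠ 0 := by exact_mod_cast Nat.card_pos.ne'
  rw [classInner, sum_piQ_mul]
  have h2 : ∑ q : Q, conj ((l : A → ℂ) q) = conj (∑ q : Q, (l : A → ℂ) q) := by
    rw [map_sum]
  rw [h2, h1]
  by_cases hk : ∀ q ∈ Q, (l : A → ℂ) q = 1
  · have hk' : ∀ n ∈ Q, (l : A → ℂ) n = (l : A → ℂ) 1 := fun n hn => by rw [hk n hn, hl1]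
    rw [if_pos hk', if_pos hk, hl1, mul_one, map_natCast, mul_comm (Q.index : ℂ), card_mul_index_cast]
    field_simp
  · have hk' : ¬ ∀ n ∈ Q, (l : A → ℂ) n = (l : A → ℂ) 1 := fun h => hk fun q hq => by rw [h q hq, hl1]
    rw [if_neg hk', if_neg hk]
    simp

/-- The permutation character is a generalized character. -/
lemma isGeneralized_piQ (hc : ∀ a b : A, a * b = b * a) (Q : Subgroup A) : IsGeneralizedCharacter A (piQ Q) := by
  classical
  refine Cfsg.Agent.Lib.Blocks.RegInt.isGeneralized_of_forall_int (isCF hc _) fun ξ => ?_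
  rw [classInner_piQ hc]
  by_cases hk : ∀ q ∈ Q, (ξ : A → ℂ) q = 1
  · exact ⟨1, by rw [if_pos hk]; simp⟩
  · exact ⟨0, by rw [if_neg hk]; simp⟩

/-- A generalized character has an integer value at the identity. -/
lemma exists_int_apply_one {T : A → ℂ} (hT : IsGeneralizedCharacter A T) : ∃ N : ℤ, T 1 = N := by
  obtain ⟨χ, ψ, hχ, hψ, rfl⟩ := hT
  refine ⟨(Cfsg.charDegree χ : ℤ) - (Cfsg.charDegree ψ : ℤ), ?_⟩
  simp only [Pi.sub_apply]
  rw [← Cfsg.Agent.Lib.Char.Values.IsCharacter.charDegree_cast hχ,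
    ← Cfsg.Agent.Lib.Char.Values.IsCharacter.charDegree_cast hψ]
  push_cast
  rfl

/-- A generalized character is integral. -/
lemma isIntegral_gen {T : A → ℂ} (hT : IsGeneralizedCharacter A T) (a : A) : IsIntegral ℤ (T a) := by
  obtain ⟨χ, ψ, ⟨n, ρ, rfl⟩, ⟨n', ρ', rfl⟩, rfl⟩ := hT
  exact (Cfsg.Agent.Lib.Char.Values.isIntegral_character ρ a).sub (Cfsg.Agent.Lib.Char.Values.isIntegral_character ρ' a)

/-- Congruence of a generalized character at a `p`-element. -/
lemma memLocalIdeal_gen_sub (hMp : IsPModular p M) {T : A → ℂ} (hT : IsGeneralizedCharacter A T)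
    (hpg : IsPGroup p A) (a b : A) (hc : Commute a b) : MemLocalIdeal M (T (a * b) - T b) := by
  obtain ⟨k, hk⟩ := hpg a
  obtain ⟨χ, ψ, hχ, hψ, rfl⟩ := hT
  have hl : ∀ {θ : A → ℂ}, IsCharacter A θ → ∀ g, MemLocalRing M (θ g) := by
    intro θ hθ g
    obtain ⟨n, ρ, rfl⟩ := hθ
    exact memLocalRing_of_isIntegral (Cfsg.Agent.Lib.Char.Values.isIntegral_character ρ g)
  have h1 := Cfsg.Agent.Lib.Blocks.HeightZero.memLocalIdeal_character_mul_sub hMp hχ (hl hχ) hc hk
  have h2 := Cfsg.Agent.Lib.Blocks.HeightZero.memLocalIdeal_character_mul_sub hMp hψ (hl hψ) hc hk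
  have h3 := memLocalIdeal_sub h1 h2
  have e : (χ - ψ) (a * b) - (χ - ψ) b = χ (a * b) - χ b - (ψ (a * b) - ψ b) := by
    simp only [Pi.sub_apply]
    ring
  rw [e]
  exact h3

lemma apply_conj_eq_one_cases {a : ℂ} (h : a = 1 ∨ a = -1) : a * conj a = 1 := by
  rcases h with rfl | rfl <;> simp


lemma sum_piQ_one (Q : Subgroup A) : ∑ a : A, piQ Q a = (Nat.card A : ℂ) := by
  letI := Fintype.ofFinite Q
  have h := sum_piQ_mul Q (fun _ => 1)
  simp only [mul_one, Finset.sum_const, Finset.card_univ, nsmul_eq_mul] at h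
  rw [h, ← Nat.card_eq_fintype_card, mul_comm, card_mul_index_cast]

/-- The characters trivial on `Q`. -/
lemma card_filter_trivial (hc : ∀ a b : A, a * b = b * a) (Q : Subgroup A) [Fintype (IrrCharacter A)] [DecidablePred fun l : IrrCharacter A => ∀ q ∈ Q, (l : A → ℂ) q = 1] :
    ((Finset.univ.filter (fun l : IrrCharacter A => ∀ q ∈ Q, (l : A → ℂ) q = 1)).card : ℂ) = Q.index := by
  classical
  letI := Fintype.ofFinite Q
  have h1 := Cfsg.Agent.Lib.Blocks.Parseval.classInner_eq_sum_irr (isCF hc (piQ Q)) (piQ Q)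
  have h2 : classInner (piQ Q) (piQ Q) = (Q.index : ℂ) := by
    rw [classInner, sum_piQ_mul]
    have h3 : ∑ q : Q, conj (piQ Q (q : A)) = (Nat.card Q : ℂ) * (Q.index : ℂ) := by
      rw [Finset.sum_congr rfl fun q _ => by rw [piQ_mem q.2, map_natCast], Finset.sum_const, Finset.card_univ,
        nsmul_eq_mul, Nat.card_eq_fintype_card]
    rw [h3, card_mul_index_cast]
    have hcard : (Nat.card A : ℂ) ≠ 0 := by exact_mod_cast Nat.card_pos.ne'
    field_simp
  rw [h2] at h1
  rw [h1, Finset.card_filter]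
  push_cast
  refine Finset.sum_congr rfl fun l _ => ?_
  rw [← classInner_conj_symm (piQ Q) (l : A → ℂ), classInner_piQ hc]
  by_cases hk : ∀ q ∈ Q, (l : A → ℂ) q = 1
  · rw [if_pos hk, if_pos hk]
    simp
  · rw [if_neg hk, if_neg hk]
    simp

/-- **The key lemma.** A generalized character of an abelian `p`-group, with constant values on the cosets of `Q`
and with values of absolute value `m` off `Q`, is `± m λ` off `Q`, for a linear character `λ`. -/
theorem key_lemma (hc : ∀ a b : A, a * b = b * a) (hpg : IsPGroup p A) (Q : Subgroup A) {T : A → ℂ}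
    (hT : IsGeneralizedCharacter A T) {m : ℤ} (hm : ¬ (p : ℤ) ∣ m) (hper : ∀ q ∈ Q, ∀ a, T (q * a) = T a)
    (hval : ∀ w, w ∉ Q → ∃ ζ : ℂ, IsIntegral ℤ ζ ∧ ζ * conj ζ = 1 ∧ T w = m * ζ) :
    ∃ (ε : ℤ) (l : IrrCharacter A), (ε = 1 ∨ ε = -1) ∧ (∀ q ∈ Q, (l : A → ℂ) q = 1) ∧
      ∀ w, w ∉ Q → T w = m * ε * (l : A → ℂ) w := by
  classical
  by_cases hQ : Q = ⊤
  · refine ⟨1, ⟨fun _ => 1, Cfsg.Agent.Lib.Char.Burnside2.isIrrCharacter_one⟩, Or.inl rfl, fun _ _ => rfl, ?_⟩
    intro w hw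
    exact absurd (hQ ▸ Subgroup.mem_top w) hw
  haveI : Fintype (IrrCharacter A) := Fintype.ofFinite _
  obtain ⟨k, hk⟩ := IsPGroup.iff_card.mp hpg
  have hindex : Q.index ∣ p ^ k := hk ▸ Subgroup.index_dvd_card Q
  obtain ⟨a, -, ha⟩ := (Nat.dvd_prime_pow hp.out).mp hindex
  have ha1 : 1 ≤ a := by
    by_contra hcon
    have h0 : a = 0 := by omega
    rw [h0, pow_zero] at ha
    exact hQ (Subgroup.index_eq_one.mp ha)
  obtain ⟨N, hN⟩ := exists_int_apply_one hT
  have hTq : ∀ q ∈ Q, T q = N := fun q hq => by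
    have := hper q hq 1
    rw [mul_one] at this
    rw [this, hN]
  have hm0 : m ≠ 0 := by
    rintro rfl
    exact hm (dvd_zero _)
  have hmC : (m : ℂ) ≠ 0 := by exact_mod_cast hm0
  have hnC : (Q.index : ℂ) ≠ 0 := by
    rw [ha]
    push_cast
    exact pow_ne_zero _ (by exact_mod_cast hp.out.ne_zero)
  have hcardC : (Nat.card A : ℂ) ≠ 0 := by exact_mod_cast Nat.card_pos.ne'
  -- the norm of `T`
  have hnormT : ∀ b, T b * conj (T b) = (m : ℂ) ^ 2 + ((N : ℂ) ^ 2 - (m : ℂ) ^ 2) / (Q.index : ℂ) * piQ Q b := by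
    intro b
    by_cases hb : b ∈ Q
    · rw [hTq b hb, piQ_mem hb, map_intCast]
      field_simp
      ring
    · obtain ⟨ζ, -, hζ, hw⟩ := hval b hb
      rw [piQ_notMem hb, hw, map_mul, map_intCast]
      calc (m : ℂ) * ζ * ((m : ℂ) * conj ζ) = (m : ℂ) ^ 2 * (ζ * conj ζ) := by ring
        _ = _ := by rw [hζ]; ring
  have hinnerT : classInner T T = (m : ℂ) ^ 2 + ((N : ℂ) ^ 2 - (m : ℂ) ^ 2) / (Q.index : ℂ) := by
    rw [classInner, Finset.sum_congr rfl fun b _ => hnormT b, Finset.sum_add_distrib, ← Finset.mul_sum, sum_piQ_one,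
      Finset.sum_const, Finset.card_univ, nsmul_eq_mul, ← Nat.card_eq_fintype_card]
    field_simp
  obtain ⟨z, hz⟩ := exists_int_classInner hT hT
  have hdvd : ((p : ℤ) ^ a) ∣ N ^ 2 - m ^ 2 := by
    refine ⟨z - m ^ 2, ?_⟩
    have h1 : ((N : ℂ) ^ 2 - (m : ℂ) ^ 2) = (Q.index : ℂ) * ((z : ℂ) - (m : ℂ) ^ 2) := by
      rw [← hz, hinnerT]
      field_simp
      ring
    have h2 : ((N ^ 2 - m ^ 2 : ℤ) : ℂ) = (((p : ℤ) ^ a * (z - m ^ 2) : ℤ) : ℂ) := by
      push_cast
      rw [h1, ha]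
      push_cast
      ring
    exact_mod_cast h2
  -- the normalised function
  have hsetup : ∀ (σ : ℤ) (c : ℂ), (σ = 1 ∨ σ = -1) → c * (Q.index : ℂ) = (N : ℂ) - σ * m →
      (∀ b, IsIntegral ℤ ((T b - c * piQ Q b) / m)) ∧
      (∀ b, (T b - c * piQ Q b) / m * conj ((T b - c * piQ Q b) / m) = 1) ∧
      (∀ q ∈ Q, (T q - c * piQ Q q) / m = σ) ∧ (∀ w, w ∉ Q → T w = m * ((T w - c * piQ Q w) / m)) := by
    intro σ c hσ hc'
    have hq : ∀ q ∈ Q, (T q - c * piQ Q q) / m = σ := by
      intro q hq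
      rw [hTq q hq, piQ_mem hq, hc']
      field_simp
      ring
    have hw : ∀ w, w ∉ Q → (T w - c * piQ Q w) / m = T w / m := by
      intro w hw
      rw [piQ_notMem hw, mul_zero, sub_zero]
    have hσ2 : ((σ : ℂ)) * conj (σ : ℂ) = 1 := by
      rcases hσ with rfl | rfl <;> simp
    refine ⟨fun b => ?_, fun b => ?_, hq, fun w hw' => ?_⟩
    · by_cases hb : b ∈ Q
      · rw [hq b hb]
        simpa using isIntegral_algebraMap (R := ℤ) (A := ℂ) (x := σ)
      · rw [hw b hb]
        obtain ⟨ζ, hζ, -, hw2⟩ := hval b hb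
        rw [hw2, mul_div_cancel_left₀ _ hmC]
        exact hζ
    · by_cases hb : b ∈ Q
      · rw [hq b hb]
        exact hσ2
      · rw [hw b hb]
        obtain ⟨ζ, -, hζ, hw2⟩ := hval b hb
        rw [hw2, mul_div_cancel_left₀ _ hmC]
        exact hζ
    · rw [hw w hw']
      field_simp
  rcases exists_sign_of_dvd_sq hp.out ha1 hm hdvd with ⟨σ, hσ, H, hH⟩ | ⟨hp2, ha3, σ, u, hσ, hu, huE⟩
  · -- the integral case
    have hcH : (H : ℂ) * (Q.index : ℂ) = (N : ℂ) - σ * m := by
      have h2 : ((N - σ * m : ℤ) : ℂ) = (((p : ℤ) ^ a * H : ℤ) : ℂ) := by rw [hH]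
      push_cast at h2
      rw [h2, ha]
      push_cast
      ring
    obtain ⟨ht1, ht2, ht3, ht4⟩ := hsetup σ (H : ℂ) hσ hcH
    set t : A → ℂ := fun b => (T b - (H : ℂ) * piQ Q b) / m with ht
    have hFgen : IsGeneralizedCharacter A (T - (H : ℂ) • piQ Q) :=
      isGeneralized_sub hT (isGeneralized_intCast_smul (isGeneralized_piQ hc Q) H)
    have hint : ∀ l : IrrCharacter A, ∃ n : ℤ, classInner t (l : A → ℂ) = n :=
      Cfsg.Agent.Lib.Blocks.Nilp.int_classInner_of_eq0 hk ht1 hFgen hm (fun b => by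
        simp only [ht, Pi.sub_apply, Pi.smul_apply, smul_eq_mul]
        field_simp)
    have htgen : IsGeneralizedCharacter A t :=
      Cfsg.Agent.Lib.Blocks.RegInt.isGeneralized_of_forall_int (isCF hc t) hint
    have htnorm : classInner t t = 1 := by
      rw [classInner, Finset.sum_congr rfl fun b _ => ht2 b, Finset.sum_const, Finset.card_univ, nsmul_eq_mul,
        ← Nat.card_eq_fintype_card]
      field_simp
    obtain ⟨ε', χ', hε', hχ', htε⟩ := (isSignedIrr_of_norm_one htgen htnorm).exists_sign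
    have hl1 : χ' 1 = 1 := Cfsg.Agent.Lib.Char.FrobPair.degree_eq_one_of_comm hc hχ'
    have hσε : (σ : ℂ) = ε' := by
      have h1 := ht3 1 Q.one_mem
      have h2 := congrFun htε 1
      simp only [Pi.smul_apply, smul_eq_mul, hl1, mul_one] at h2
      rw [← h1]
      exact h2
    have hε0 : ε' ≠ 0 := by
      rcases hε' with rfl | rfl <;> norm_num
    refine ⟨σ, ⟨χ', hχ'⟩, hσ, fun q hq => ?_, fun w hw => ?_⟩
    · have h1 := ht3 q hq
      have h2 := congrFun htε q
      simp only [Pi.smul_apply, smul_eq_mul] at h2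
      change (T q - (H : ℂ) * piQ Q q) / m = _ at h2
      rw [h1, hσε] at h2
      exact mul_left_cancel₀ hε0 (h2.symm.trans (mul_one (ε' : ℂ)).symm)
    · have h2 := congrFun htε w
      simp only [Pi.smul_apply, smul_eq_mul] at h2
      rw [ht4 w hw]
      change (m : ℂ) * ((T w - (H : ℂ) * piQ Q w) / m) = _
      change (T w - (H : ℂ) * piQ Q w) / m = _ at h2
      rw [h2, hσε]
      ring
  · -- the half-integral case cannot occur
    exfalso
    subst hp2
    have hcH : ((u : ℂ) / 2) * (Q.index : ℂ) = (N : ℂ) - σ * m := by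
      have h2 : ((N - σ * m : ℤ) : ℂ) = ((2 ^ (a - 1) * u : ℤ) : ℂ) := by rw [huE]
      push_cast at h2
      rw [h2, ha]
      obtain ⟨a', rfl⟩ : ∃ a', a = a' + 1 := ⟨a - 1, by omega⟩
      simp only [Nat.add_sub_cancel]
      push_cast
      ring
    obtain ⟨ht1, ht2, ht3, ht4⟩ := hsetup σ ((u : ℂ) / 2) hσ hcH
    set t : A → ℂ := fun b => (T b - ((u : ℂ) / 2) * piQ Q b) / m with ht
    have htnorm : classInner t t = 1 := by
      rw [classInner, Finset.sum_congr rfl fun b _ => ht2 b, Finset.sum_const, Finset.card_univ, nsmul_eq_mul,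
        ← Nat.card_eq_fintype_card]
      field_simp
    have hclass : ∀ l : IrrCharacter A, (∀ q ∈ Q, (l : A → ℂ) q = 1) →
        1 ≤ 4 * Complex.normSq (classInner t (l : A → ℂ)) := by
      intro l hl
      obtain ⟨g, hg⟩ := exists_int_classInner hT (isGeneralized_of_isIrr l.2)
      have e1 : t = ((m : ℂ)⁻¹) • (T - ((u : ℂ) / 2) • piQ Q) := by
        funext b
        simp only [ht, Pi.smul_apply, Pi.sub_apply, smul_eq_mul]
        field_simp
      have e2 : classInner t (l : A → ℂ) = (m : ℂ)⁻¹ * ((g : ℂ) - (u : ℂ) / 2) := by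
        rw [e1, classInner_smul_left, classInner_sub_left, classInner_smul_left, hg, classInner_piQ hc, if_pos hl, mul_one]
      set x : ℂ := 2 * classInner t (l : A → ℂ) with hx
      have hmx : (m : ℂ) * x = ((2 * g - u : ℤ) : ℂ) := by
        rw [hx, e2]
        push_cast
        field_simp
      have hxI : IsIntegral ℤ (((2 : ℕ) : ℂ) ^ k * x) := by
        have e3 : ((2 : ℕ) : ℂ) ^ k * x = 2 * ∑ b : A, t b * conj ((l : A → ℂ) b) := by
          rw [hx, classInner, hk]
          push_cast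
          field_simp
        rw [e3]
        refine IsIntegral.mul (by simpa using isIntegral_algebraMap (R := ℤ) (A := ℂ) (x := (2 : ℤ))) ?_
        refine IsIntegral.sum _ fun b _ => (ht1 b).mul ?_
        rw [Cfsg.Agent.Lib.Char.Ortho.conj_of_isCharacter (Cfsg.Agent.Lib.Char.Values.IsIrrCharacter.isCharacter l.2)]
        exact isIntegral_irr l.2 _
      obtain ⟨w, hw⟩ := Cfsg.Agent.Lib.Blocks.Nilp.exists_int_of_mul (p := 2) hm hmx hxI
      have hw0 : w ≠ 0 := by
        rintro rfl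
        rw [hw] at hmx
        simp only [Int.cast_zero, mul_zero] at hmx
        have h5 : (2 * g - u : ℤ) = 0 := by exact_mod_cast hmx.symm
        apply hu
        omega
      have e4 : classInner t (l : A → ℂ) = ((w : ℝ) / 2 : ℝ) := by
        have h6 : 2 * classInner t (l : A → ℂ) = (w : ℂ) := hw
        push_cast
        linear_combination h6 / 2
      rw [e4, Complex.normSq_ofReal]
      have h7 : (1 : ℝ) ≤ (w : ℝ) ^ 2 := by
        have : (1 : ℤ) ≤ w ^ 2 := by
          have := sq_pos_of_ne_zero (a := w) hw0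
          omega
        exact_mod_cast this
      nlinarith
    have hpars := Cfsg.Agent.Lib.Blocks.Parseval.classInner_eq_sum_irr (isCF hc t) t
    rw [htnorm] at hpars
    have hpars' : (1 : ℝ) = ∑ l : IrrCharacter A, Complex.normSq (classInner t (l : A → ℂ)) := by
      have h8 : ((1 : ℝ) : ℂ) = ((∑ l : IrrCharacter A, Complex.normSq (classInner t (l : A → ℂ)) : ℝ) : ℂ) := by
        push_cast
        rw [hpars]
        refine Finset.sum_congr rfl fun l _ => ?_
        rw [← classInner_conj_symm t (l : A → ℂ), Complex.mul_conj]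
      exact_mod_cast h8
    set S := Finset.univ.filter (fun l : IrrCharacter A => ∀ q ∈ Q, (l : A → ℂ) q = 1) with hS
    have hcardS : (S.card : ℂ) = Q.index := card_filter_trivial hc Q
    have h9 : (S.card : ℝ) * (1 / 4) ≤ ∑ l ∈ S, Complex.normSq (classInner t (l : A → ℂ)) := by
      have := Finset.card_nsmul_le_sum S (fun l => Complex.normSq (classInner t (l : A → ℂ))) (1 / 4) (fun l hl => by
        have := hclass l (Finset.mem_filter.mp hl).2
        linarith)
      simpa using this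
    have h10 : ∑ l ∈ S, Complex.normSq (classInner t (l : A → ℂ)) ≤
        ∑ l : IrrCharacter A, Complex.normSq (classInner t (l : A → ℂ)) :=
      Finset.sum_le_sum_of_subset_of_nonneg (Finset.subset_univ _) fun _ _ _ => Complex.normSq_nonneg _
    have h11 : (S.card : ℝ) ≤ 4 := by
      rw [← hpars'] at h10
      linarith
    have h12 : S.card = Q.index := by exact_mod_cast hcardS
    have h13 : (8 : ℕ) ≤ S.card := by
      rw [h12, ha]
      calc 8 = 2 ^ 3 := by norm_num
        _ ≤ 2 ^ a := Nat.pow_le_pow_right (by norm_num) ha3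
    have h14 : (8 : ℝ) ≤ (S.card : ℝ) := by exact_mod_cast h13
    linarith

end Key

end Cfsg.Agent.Lib.Blocks.AbFree
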