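/-
Abelian defect: fixing the signs of the glued generalized character.
-/
import Mathlib
import Cfsg.Agent.Lib.Blocks.AbFree8

set_option autoImplicit false
set_option linter.style.haveILetI false

namespace Cfsg.Agent.Lib.Blocks.AbFree

open Cfsg Cfsg.Agent.Lib.Blocks.Local Cfsg.Agent.Lib.Blocks.Central Cfsg.Agent.Lib.Blocks.Nilp
open Cfsg.Agent.Lib.Char.Virtual
open ComplexConjugate

universe u

section Sign

variable {A : Type u} [Group A] [Fintype A] {p : ℕ} [hp : Fact p.Prime] {M : Ideal AlgInt} [hM : M.IsPrime]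

omit [Fintype A] hp in
lemma memLocalRing_gen {T : A → ℂ} [Finite A] (hT : IsGeneralizedCharacter A T) (a : A) : MemLocalRing M (T a) := by
  obtain ⟨χ, ψ, ⟨n, ρ, rfl⟩, ⟨n', ρ', rfl⟩, rfl⟩ := hT
  exact memLocalRing_sub (memLocalRing_of_isIntegral (Cfsg.Agent.Lib.Char.Values.isIntegral_character ρ a))
    (memLocalRing_of_isIntegral (Cfsg.Agent.Lib.Char.Values.isIntegral_character ρ' a))

omit hM hp in
lemma isGeneralized_comp_equiv {T : A → ℂ} (hT : IsGeneralizedCharacter A T) (σ : A ≃* A) :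
    IsGeneralizedCharacter A (fun a => T (σ a)) := by
  obtain ⟨χ, ψ, hχ, hψ, rfl⟩ := hT
  exact ⟨_, _, Cfsg.Agent.Lib.Char.Basic.isCharacter_comp_hom hχ σ.toMonoidHom,
    Cfsg.Agent.Lib.Char.Basic.isCharacter_comp_hom hψ σ.toMonoidHom, rfl⟩

omit hM hp in
lemma isGeneralized_prod {ι : Type*} (S : Finset ι) {T : ι → A → ℂ} (hT : ∀ i ∈ S, IsGeneralizedCharacter A (T i)) :
    IsGeneralizedCharacter A (fun a => ∏ i ∈ S, T i a) := by
  classical
  induction S using Finset.induction_on with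
  | empty =>
    simp only [Finset.prod_empty]
    exact isGeneralized_of_isCharacter Cfsg.Agent.Lib.Char.Basic.isCharacter_one
  | insert i S hi ih =>
    have h1 := isGeneralized_mul (hT i (Finset.mem_insert_self i S)) (ih fun j hj => hT j (Finset.mem_insert_of_mem hj))
    convert h1 using 1
    funext a
    rw [Finset.prod_insert hi]

/-- **Fixing the signs.** -/
theorem sign_fix (hMp : IsPModular p M) (hc : ∀ a b : A, a * b = b * a) (hpg : IsPGroup p A) (hne : ∃ v : A, v ≠ 1)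
    (E : Subgroup (MulAut A)) [Fintype E] (hodd : p = 2 → Odd (Fintype.card E))
    {μ ν₀ : A → ℂ} (hμ : IsGeneralizedCharacter A μ) (hν₀ : IsGeneralizedCharacter A ν₀)
    (hν₀u : ∀ a, ¬ MemLocalIdeal M (ν₀ a)) {s : A → ℤ} {κ : A → ℕ} (hs : ∀ v, s v = 1 ∨ s v = -1)
    (hκ : ∀ v, v ≠ 1 → ¬ p ∣ κ v) (hμv : ∀ v, v ≠ 1 → μ v = s v * κ v) {a₀ : A → ℂ}
    (ha₀ : ∀ v, v ≠ 1 → ν₀ v = a₀ v * κ v) (ha₀E : ∀ σ ∈ E, ∀ v, v ≠ 1 → a₀ (σ v) = a₀ v) :
    ∃ (ι : A → ℂ) (m : ℤ) (s' : A → ℤ), IsGeneralizedCharacter A ι ∧ ¬ (p : ℤ) ∣ m ∧ (∀ v, s' v = 1 ∨ s' v = -1) ∧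
      (∀ σ ∈ E, ∀ v, v ≠ 1 → s' (σ v) = s' v) ∧ ∀ v, v ≠ 1 → ι v * κ v = m * s' v := by
  classical
  have hs2 : ∀ v, (s v : ℂ) * (s v : ℂ) = 1 := by
    intro v
    rcases hs v with h | h <;> rw [h] <;> simp
  -- the units
  have hμu : ∀ a, ¬ MemLocalIdeal M (μ a) := by
    have h1 : ∀ a, a ≠ 1 → ¬ MemLocalIdeal M (μ a) := by
      intro a ha h
      rw [hμv a ha] at h
      have h2 := memLocalIdeal_mul_left (memLocalRing_intCast (s a)) h
      rw [← mul_assoc, hs2, one_mul] at h2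
      exact hκ a ha ((memLocalIdeal_natCast_iff hMp).mp h2)
    intro a
    by_cases ha : a = 1
    · subst ha
      obtain ⟨v, hv⟩ := hne
      intro h
      have h2 := memLocalIdeal_gen_sub hMp hμ hpg v 1 (Commute.one_right v)
      rw [mul_one] at h2
      have h3 := memLocalIdeal_add h2 h
      rw [sub_add_cancel] at h3
      exact h1 v hv h3
    · exact h1 a ha
  obtain ⟨ι₁, m₁, hι₁, hm₁, hι₁μ⟩ := exists_inverse_of_gen hMp hc hμ hμu
  have hm₁u : ¬ MemLocalIdeal M (m₁ : ℂ) := fun h => hm₁ ((memLocalIdeal_intCast_iff hMp).mp h)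
  have hι₁u : ∀ a, ¬ MemLocalIdeal M (ι₁ a) := by
    intro a h
    apply hm₁u
    rw [← hι₁μ a]
    exact memLocalIdeal_mul_right h (memLocalRing_gen hμ a)
  have hι₁κ : ∀ v, v ≠ 1 → ι₁ v * κ v = m₁ * s v := by
    intro v hv
    have h1 := hι₁μ v
    rw [hμv v hv] at h1
    rw [← h1]
    calc ι₁ v * κ v = ι₁ v * κ v * ((s v : ℂ) * (s v : ℂ)) := by rw [hs2, mul_one]
      _ = _ := by ring
  -- the product
  set R₀ : A → ℂ := fun a => ν₀ a * ι₁ a with hR₀
  have hR₀g : IsGeneralizedCharacter A R₀ := isGeneralized_mul hν₀ hι₁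
  have hR₀u : ∀ a, ¬ MemLocalIdeal M (R₀ a) := fun a =>
    not_memLocalIdeal_mul (memLocalRing_gen hν₀ a) (memLocalRing_gen hι₁ a) (hν₀u a) (hι₁u a)
  have hR₀v : ∀ v, v ≠ 1 → R₀ v = m₁ * s v * a₀ v := by
    intro v hv
    simp only [hR₀]
    rw [ha₀ v hv]
    calc a₀ v * κ v * ι₁ v = a₀ v * (ι₁ v * κ v) := by ring
      _ = _ := by rw [hι₁κ v hv]; ring
  obtain ⟨ρ, m₂, hρ, hm₂, hρR⟩ := exists_inverse_of_gen hMp hc hR₀g hR₀u
  have hm₂u : ¬ MemLocalIdeal M (m₂ : ℂ) := fun h => hm₂ ((memLocalIdeal_intCast_iff hMp).mp h)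
  have hρv : ∀ v, v ≠ 1 → (m₁ : ℂ) * a₀ v * ρ v = m₂ * s v := by
    intro v hv
    have h1 := hρR v
    rw [hR₀v v hv] at h1
    rw [← h1]
    calc (m₁ : ℂ) * a₀ v * ρ v = m₁ * a₀ v * ρ v * ((s v : ℂ) * (s v : ℂ)) := by rw [hs2, mul_one]
      _ = _ := by ring
  -- the twisted functions
  have hσne : ∀ σ : MulAut A, ∀ v : A, v ≠ 1 → σ v ≠ 1 := by
    intro σ v hv h
    exact hv (by simpa using h)
  let Gσ : MulAut A → A → ℂ := fun σ a => R₀ (σ a) * ρ a
  have hGg : ∀ σ : MulAut A, IsGeneralizedCharacter A (Gσ σ) := fun σ =>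
    isGeneralized_mul (isGeneralized_comp_equiv hR₀g σ) hρ
  have hGv : ∀ σ ∈ E, ∀ v, v ≠ 1 → Gσ σ v = m₂ * ((s (σ v) * s v : ℤ) : ℂ) := by
    intro σ hσ v hv
    simp only [Gσ]
    rw [hR₀v _ (hσne σ v hv), ha₀E σ hσ v hv]
    push_cast
    calc (m₁ : ℂ) * (s (σ v)) * a₀ v * ρ v = (s (σ v)) * ((m₁ : ℂ) * a₀ v * ρ v) := by ring
      _ = _ := by rw [hρv v hv]; ring
  have hG1 : ∀ σ : MulAut A, Gσ σ 1 = m₂ := by
    intro σ
    simp only [Gσ]
    rw [map_one]
    exact (mul_comm _ _).trans (hρR 1)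
  have hsig : ∀ v w, (s v * s w = 1) ∨ (s v * s w = -1) := by
    intro v w
    rcases hs v with h | h <;> rcases hs w with h' | h' <;> rw [h, h'] <;> simp
  by_cases hp2 : p = 2
  · -- the case of the prime two
    have hE : ∀ σ : MulAut A, ∃ (ε : ℤ) (l : A → ℂ), (ε = 1 ∨ ε = -1) ∧ IsGeneralizedCharacter A l ∧
        (σ ∈ E → ∀ w, w ≠ 1 → ((s (σ w) * s w : ℤ) : ℂ) = ε * l w) := by
      intro σ
      by_cases hσ : σ ∈ E
      · obtain ⟨ε, l, hε, -, hl⟩ := key_lemma hc hpg (⊥ : Subgroup A) (hGg σ) hm₂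
          (fun q hq a => by rw [Subgroup.mem_bot.mp hq, one_mul]) (fun w hw => by
            have hw1 : w ≠ 1 := fun h => hw (h ▸ Subgroup.one_mem _)
            refine ⟨((s (σ w) * s w : ℤ) : ℂ), ?_, ?_, hGv σ hσ w hw1⟩
            · exact isIntegral_algebraMap (R := ℤ) (A := ℂ) (x := s (σ w) * s w)
            · rw [map_intCast, ← Int.cast_mul]
              rcases hsig (σ w) w with h | h <;> rw [h] <;> simp)
        refine ⟨ε, l, hε, isGeneralized_of_isIrr l.2, fun _ w hw => ?_⟩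
        have hw' : w ∉ (⊥ : Subgroup A) := fun h => hw (Subgroup.mem_bot.mp h)
        have h1 := hl w hw'
        rw [hGv σ hσ w hw] at h1
        have hm₂0 : (m₂ : ℂ) ≠ 0 := by
          intro h
          apply hm₂u
          rw [h]
          exact memLocalIdeal_zero
        apply mul_left_cancel₀ hm₂0
        rw [h1]
        ring
      · exact ⟨1, fun _ => 1, Or.inl rfl, isGeneralized_of_isCharacter Cfsg.Agent.Lib.Char.Basic.isCharacter_one,
          fun h => absurd h hσ⟩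
    choose ε l hε hl hsl using hE
    -- the product of signs
    let s' : A → ℤ := fun v => ∏ σ : E, s ((σ : MulAut A) v)
    let ε₀ : ℤ := ∏ σ : E, ε (σ : MulAut A)
    let L : A → ℂ := fun a => ∏ σ : E, l (σ : MulAut A) a
    have hε₀ : ε₀ = 1 ∨ ε₀ = -1 := by
      have key : ∀ S : Finset E, (∏ σ ∈ S, ε (σ : MulAut A)) = 1 ∨ (∏ σ ∈ S, ε (σ : MulAut A)) = -1 := by
        intro S
        induction S using Finset.induction_on with
        | empty => simp
        | insert i S hi ih =>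
          rw [Finset.prod_insert hi]
          rcases hε (i : MulAut A) with h | h <;> rcases ih with h' | h' <;> rw [h, h'] <;> simp
      exact key _
    have hLg : IsGeneralizedCharacter A L := isGeneralized_prod _ fun σ _ => hl _
    have hs'1 : ∀ v, s' v = 1 ∨ s' v = -1 := by
      intro v
      have key : ∀ S : Finset E, (∏ σ ∈ S, s ((σ : MulAut A) v)) = 1 ∨ (∏ σ ∈ S, s ((σ : MulAut A) v)) = -1 := by
        intro S
        induction S using Finset.induction_on with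
        | empty => simp
        | insert i S hi ih =>
          rw [Finset.prod_insert hi]
          rcases hs ((i : MulAut A) v) with h | h <;> rcases ih with h' | h' <;> rw [h, h'] <;> simp
      exact key _
    have hs'E : ∀ σ ∈ E, ∀ v, v ≠ 1 → s' (σ v) = s' v := by
      intro σ hσ v _
      simp only [s']
      refine Fintype.prod_equiv (Equiv.mulRight (⟨σ, hσ⟩ : E)) _ _ fun τ => ?_
      rfl
    have hs'v : ∀ v, v ≠ 1 → ((s' v : ℤ) : ℂ) = s v * (ε₀ * L v) := by
      intro v hv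
      have h1 : ∀ σ : E, ((s ((σ : MulAut A) v) : ℤ) : ℂ) = s v * (ε (σ : MulAut A) * l (σ : MulAut A) v) := by
        intro σ
        have h2 := hsl (σ : MulAut A) σ.2 v hv
        calc ((s ((σ : MulAut A) v) : ℤ) : ℂ) = ((s ((σ : MulAut A) v) * s v : ℤ) : ℂ) * s v := by
              push_cast
              rw [mul_assoc, hs2, mul_one]
          _ = _ := by rw [h2]; ring
      simp only [s', ε₀, L]
      push_cast
      rw [Finset.prod_congr rfl fun σ _ => h1 σ, Finset.prod_mul_distrib, Finset.prod_mul_distrib]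
      congr 1
      rw [Finset.prod_const, Finset.card_univ]
      obtain ⟨k, hk⟩ := hodd hp2
      rw [hk, pow_succ, pow_mul, pow_two, hs2, one_pow, one_mul]
    refine ⟨fun a => (ε₀ : ℂ) * L a * ι₁ a, m₁, s', ?_, hm₁, hs'1, hs'E, fun v hv => ?_⟩
    · have h1 := isGeneralized_mul (isGeneralized_intCast_smul hLg ε₀) hι₁
      convert h1 using 1
      funext a
      simp
    · rw [hs'v v hv]
      calc (ε₀ : ℂ) * L v * ι₁ v * κ v = (ε₀ : ℂ) * L v * (ι₁ v * κ v) := by ring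
        _ = _ := by rw [hι₁κ v hv]; ring
  · -- the odd case
    refine ⟨ι₁, m₁, s, hι₁, hm₁, hs, fun σ hσ v hv => ?_, hι₁κ⟩
    have h1 := memLocalIdeal_gen_sub hMp (hGg σ) hpg v 1 (Commute.one_right v)
    rw [mul_one, hGv σ hσ v hv, hG1] at h1
    rcases hsig (σ v) v with h | h
    · rcases hs (σ v) with h2 | h2 <;> rcases hs v with h3 | h3 <;> rw [h2, h3] at h ⊢ <;> simp at h ⊢
    · exfalso
      rw [h] at h1
      have h2 : MemLocalIdeal M (((-2 : ℤ) * m₂ : ℤ) : ℂ) := by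
        convert h1 using 1
        push_cast
        ring
      have h3 := (memLocalIdeal_intCast_iff hMp).mp h2
      have hpp : Prime (p : ℤ) := Nat.prime_iff_prime_int.mp hp.out
      rcases hpp.dvd_or_dvd h3 with h4 | h4
      · apply hp2
        have h5 : (p : ℤ) ∣ 2 := by simpa using h4
        have h6 : p ∣ 2 := by exact_mod_cast h5
        exact (Nat.prime_dvd_prime_iff_eq hp.out Nat.prime_two).mp h6
      · exact hm₂ h4

end Sign

end Cfsg.Agent.Lib.Blocks.AbFree
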