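import Mathlib
import Cfsg.Prelude.Def_Blocks
import Cfsg.Agent.Lib.Blocks.PrincipalCen
import Cfsg.Agent.Lib.Transfer.Basic
import Cfsg.Agent.Lib.Char.FrobPair

set_option autoImplicit false

namespace Cfsg.Agent.Lib.Blocks.AbFrob

open Cfsg Cfsg.Agent.Lib.Blocks.Sections Cfsg.Agent.Lib.Blocks.PrincipalCen
open scoped ComplexConjugate

section Group

variable {G : Type*} [Group G] {p : ℕ} [hp : Fact p.Prime]

/-- The normalizer of a Sylow subgroup. -/
abbrev NN (P : Sylow p G) : Subgroup G := Subgroup.normalizer ((P : Subgroup G) : Set G)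

/-- The centralizer of a Sylow subgroup. -/
abbrev CC (P : Sylow p G) : Subgroup G := Subgroup.centralizer ((P : Subgroup G) : Set G)

/-- The hypothesis: `P` abelian Sylow, `|N(P):C(P)| = m`, `N(P)/C(P)` acts semi-regularly on `P#`. -/
structure Hyp (P : Sylow p G) (m : ℕ) : Prop where
  hab : IsMulCommutative P
  hCN : (CC P).relIndex (NN P) = m
  hfrob : ∀ y : G, y ∈ (P : Subgroup G) → y ≠ 1 →
    Subgroup.centralizer ({y} : Set G) ⊓ NN P = CC P

variable {P : Sylow p G} {m : ℕ}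

omit hp in
theorem mem_NN_iff {n : G} : n ∈ NN P ↔ ∀ w : G, w ∈ (P : Subgroup G) ↔ n * w * n⁻¹ ∈ (P : Subgroup G) := by
  rw [Subgroup.mem_normalizer_iff]

omit hp in
theorem CC_le_NN : CC P ≤ NN P := Subgroup.centralizer_le_normalizer ..

omit hp in
theorem mem_CC_iff {c : G} : c ∈ CC P ↔ ∀ w ∈ (P : Subgroup G), c * w * c⁻¹ = w := by
  rw [Subgroup.mem_centralizer_iff]
  constructor
  · intro h w hw
    rw [← h w hw]
    group
  · intro h w hw
    have := h w hw
    calc w * c = (c * w * c⁻¹) * c := by rw [this]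
      _ = c * w := by group

omit hp in
theorem mem_cen_iff {c y : G} : c ∈ Cen y ↔ c * y * c⁻¹ = y := by
  rw [Subgroup.mem_centralizer_singleton_iff]
  constructor
  · intro h
    rw [h]
    group
  · intro h
    calc c * y = (c * y * c⁻¹) * c := by group
      _ = y * c := by rw [h]

omit hp in
theorem Hyp.comm (H : Hyp P m) {a b : G} (ha : a ∈ (P : Subgroup G)) (hb : b ∈ (P : Subgroup G)) :
    a * b = b * a := by
  have := H.hab.is_comm.comm ⟨a, ha⟩ ⟨b, hb⟩
  exact congrArg Subtype.val this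

omit hp in
theorem Hyp.le_cen (H : Hyp P m) {y : G} (hy : y ∈ (P : Subgroup G)) : (P : Subgroup G) ≤ Cen y := by
  intro a ha
  rw [Subgroup.mem_centralizer_singleton_iff]
  exact H.comm ha hy

variable [Finite G]

/-- Burnside fusion. -/
theorem Hyp.fusion (H : Hyp P m) {y x : G} (hy : y ∈ (P : Subgroup G))
    (hx : x * y * x⁻¹ ∈ (P : Subgroup G)) : ∃ n ∈ NN P, n * y * n⁻¹ = x * y * x⁻¹ := by
  haveI := H.hab
  obtain ⟨n, hn, e⟩ := P.conj_eq_normalizer_conj_of_mem y x⁻¹ hy (by rw [inv_inv]; exact hx)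
  refine ⟨n⁻¹, inv_mem hn, ?_⟩
  simpa using e.symm

/-- `C_G(y)` has a normal `p`-complement for `y ∈ P#`, with complement the `p'`-core. -/
theorem Hyp.core_index (H : Hyp P m) {y : G} (hy : y ∈ (P : Subgroup G)) (hy1 : y ≠ 1) :
    (pPrimeCore p (Cen y)).index = Nat.card P := by
  have hle := H.le_cen hy
  let Q : Sylow p (Cen y) := P.subtype hle
  have hN : Subgroup.normalizer ((Q : Subgroup (Cen y)) : Set (Cen y)) ≤
      Subgroup.centralizer ((Q : Subgroup (Cen y)) : Set (Cen y)) := by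
    intro a ha
    have hQ : ∀ w : Cen y, w ∈ (Q : Subgroup (Cen y)) ↔ (w : G) ∈ (P : Subgroup G) := fun w => by
      rw [Sylow.coe_subtype, Subgroup.mem_subgroupOf]
    have ha1 : (a : G) ∈ NN P := by
      rw [mem_NN_iff]
      intro w
      rw [Subgroup.mem_normalizer_iff] at ha
      constructor
      · intro hw
        have := (ha ⟨w, hle hw⟩).1 ((hQ _).2 hw)
        exact (hQ _).1 this
      · intro hw
        have h2 : (a : G) * w * (a : G)⁻¹ ∈ Cen y := hle hw
        have h3 : w ∈ Cen y := by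
          have : w = (a : G)⁻¹ * ((a : G) * w * (a : G)⁻¹) * (a : G) := by group
          rw [this]
          exact mul_mem (mul_mem (inv_mem a.2) h2) a.2
        have := (ha ⟨w, h3⟩).2 ((hQ _).2 hw)
        exact (hQ _).1 this
    have ha2 : (a : G) ∈ CC P := by
      rw [← H.hfrob y hy hy1]
      exact ⟨a.2, ha1⟩
    rw [Subgroup.mem_centralizer_iff]
    intro w hw
    apply Subtype.ext
    have hw' : (w : G) ∈ (P : Subgroup G) := (hQ w).1 hw
    exact (Subgroup.mem_centralizer_iff.1 ha2) w hw'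
  have hcomp := MonoidHom.ker_transferSylow_isComplement' Q hN
  have hnp : ¬ p ∣ Nat.card (MonoidHom.transferSylow Q hN).ker := MonoidHom.not_dvd_card_ker_transferSylow Q hN
  set K := (MonoidHom.transferSylow Q hN).ker with hK
  haveI hKn : K.Normal := MonoidHom.normal_ker _
  have hcard : Nat.card K * Nat.card (Q : Subgroup (Cen y)) = Nat.card (Cen y) := hcomp.card_mul_card
  have hQcard : Nat.card (Q : Subgroup (Cen y)) = Nat.card P := by
    rw [Sylow.coe_subtype]
    exact Nat.card_congr (Subgroup.subgroupOfEquivOfLe hle).toEquiv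
  have hKcop : (Nat.card K).Coprime p := ((Nat.Prime.coprime_iff_not_dvd hp.out).2 hnp).symm
  have hle2 : K ≤ pPrimeCore p (Cen y) := Cfsg.Agent.Lib.Solvable.Carter.le_pPrimeCore ‹_› hKcop
  have hcop2 := Cfsg.Agent.Lib.Solvable.Carter.card_pPrimeCore_coprime (G := Cen y) p
  -- `|core| = |K|`
  have h4 : Nat.card (pPrimeCore p (Cen y)) = Nat.card K := by
    have h5 : Nat.card K ∣ Nat.card (pPrimeCore p (Cen y)) := Subgroup.card_dvd_of_le hle2
    have h6 : Nat.card (pPrimeCore p (Cen y)) ∣ Nat.card K * Nat.card P := by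
      rw [← hQcard, hcard]
      exact Subgroup.card_subgroup_dvd_card _
    obtain ⟨k, hk⟩ := IsPGroup.iff_card.1 Q.isPGroup'
    have h7 : (Nat.card (pPrimeCore p (Cen y))).Coprime (Nat.card P) := by
      rw [← hQcard, hk]
      exact Nat.Coprime.pow_right _ hcop2
    exact Nat.dvd_antisymm (h7.dvd_of_dvd_mul_right h6) h5
  have h8 := Subgroup.card_mul_index (pPrimeCore p (Cen y))
  rw [h4, ← hcard, hQcard] at h8
  exact Nat.eq_of_mul_eq_mul_left Nat.card_pos h8

end Group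

section Count

variable {G : Type*} [Group G]

/-- Orbit-stabilizer in the form used below. -/
theorem card_range_eq_relIndex {H K : Subgroup G} {β : Type*} (f : ↥H → β)
    (hf : ∀ a b : ↥H, f a = f b ↔ (a⁻¹ * b : ↥H) ∈ K.subgroupOf H) :
    Nat.card (Set.range f) = K.relIndex H := by
  let g : (↥H ⧸ K.subgroupOf H) → Set.range f := fun q =>
    Quotient.liftOn' q (fun a => ⟨f a, a, rfl⟩)
      (fun a b hab => Subtype.ext ((hf a b).2 (QuotientGroup.leftRel_apply.1 hab)))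
  have hg : Function.Bijective g := by
    constructor
    · intro q q'
      induction q using QuotientGroup.induction_on with
      | H a =>
        induction q' using QuotientGroup.induction_on with
        | H b =>
          intro h
          apply QuotientGroup.eq.2
          exact (hf _ _).1 (congrArg Subtype.val h)
    · rintro ⟨_, a, rfl⟩
      exact ⟨(a : ↥H ⧸ K.subgroupOf H), rfl⟩
  rw [Subgroup.relIndex, Subgroup.index]
  exact (Nat.card_congr (Equiv.ofBijective g hg)).symm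

end Count

section Blocks

variable {G : Type*} [Group G] {p : ℕ} {P : Sylow p G} {m : ℕ}

theorem Hyp.conj_mem (_H : Hyp P m) {n y : G} (hn : n ∈ NN P) (hy : y ∈ (P : Subgroup G)) :
    n * y * n⁻¹ ∈ (P : Subgroup G) := (mem_NN_iff.1 hn y).1 hy

/-- `N`-invariance of a function on `P`. -/
def Inv (f : ↥(P : Subgroup G) → ℂ) : Prop :=
  ∀ n ∈ NN P, ∀ w w' : ↥(P : Subgroup G), (w' : G) = n * w * n⁻¹ → f w' = f w

variable [hp : Fact p.Prime] [Finite G]

/-- The `N`-orbit of `y ∈ P#` has `m` elements. -/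
theorem Hyp.card_conj (H : Hyp P m) {y : G} (hy : y ∈ (P : Subgroup G)) (hy1 : y ≠ 1) :
    Nat.card {y' : ↥(P : Subgroup G) // IsConj (y' : G) y} = m := by
  let f : ↥(NN P) → ↥(P : Subgroup G) := fun n => ⟨n * y * (n : G)⁻¹, H.conj_mem n.2 hy⟩
  have hf : ∀ a b : ↥(NN P), f a = f b ↔ (a⁻¹ * b : ↥(NN P)) ∈ (CC P).subgroupOf (NN P) := by
    intro a b
    rw [Subgroup.mem_subgroupOf, ← H.hfrob y hy hy1]
    constructor
    · intro h
      have h1 : (a : G) * y * (a : G)⁻¹ = (b : G) * y * (b : G)⁻¹ := congrArg Subtype.val h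
      refine ⟨?_, (a⁻¹ * b : ↥(NN P)).2⟩
      show ((a⁻¹ * b : ↥(NN P)) : G) ∈ Cen y
      rw [mem_cen_iff]
      simp only [Subgroup.coe_mul, Subgroup.coe_inv]
      calc (a : G)⁻¹ * b * y * ((a : G)⁻¹ * b)⁻¹ = (a : G)⁻¹ * ((b : G) * y * (b : G)⁻¹) * a := by group
        _ = (a : G)⁻¹ * ((a : G) * y * (a : G)⁻¹) * a := by rw [h1]
        _ = y := by group
    · rintro ⟨h, -⟩
      replace h : ((a⁻¹ * b : ↥(NN P)) : G) ∈ Cen y := h
      rw [mem_cen_iff] at h
      simp only [Subgroup.coe_mul, Subgroup.coe_inv] at h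
      apply Subtype.ext
      show (a : G) * y * (a : G)⁻¹ = (b : G) * y * (b : G)⁻¹
      calc (a : G) * y * (a : G)⁻¹ = (a : G) * ((a : G)⁻¹ * b * y * ((a : G)⁻¹ * b)⁻¹) * (a : G)⁻¹ := by rw [h]
        _ = (b : G) * y * (b : G)⁻¹ := by group
  have h1 := card_range_eq_relIndex f hf
  rw [H.hCN] at h1
  rw [← h1]
  apply Nat.card_congr
  apply Equiv.subtypeEquivRight
  intro y'
  constructor
  · intro hc
    obtain ⟨c, hc⟩ := isConj_iff.1 hc
    have e : c⁻¹ * y * c⁻¹⁻¹ = y' := by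
      rw [← hc]
      group
    obtain ⟨n, hn, e2⟩ := H.fusion (x := c⁻¹) hy (by rw [e]; exact y'.2)
    refine ⟨⟨n, hn⟩, Subtype.ext ?_⟩
    show n * y * n⁻¹ = y'
    rw [e2, e]
  · rintro ⟨n, rfl⟩
    exact isConj_iff.2 ⟨(n : G)⁻¹, by
      show (n : G)⁻¹ * ((n : G) * y * (n : G)⁻¹) * (n : G)⁻¹⁻¹ = y
      group⟩

theorem Inv.of_isConj (H : Hyp P m) {f : ↥(P : Subgroup G) → ℂ} (hf : Inv f) {a b : ↥(P : Subgroup G)}
    (h : IsConj (a : G) (b : G)) : f a = f b := by
  obtain ⟨c, hc⟩ := isConj_iff.1 h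
  obtain ⟨n, hn, e⟩ := H.fusion (x := c) a.2 (by rw [hc]; exact b.2)
  exact (hf n hn a b (by rw [e, hc])).symm

end Blocks

section Blocks2

variable {G : Type*} [Group G] [Fintype G] {p : ℕ} [hp : Fact p.Prime] {P : Sylow p G} {m : ℕ}
  {M : Ideal AlgInt} [hMp : M.IsPrime]

theorem orderOf_of_mem (P : Sylow p G) {y : G} (hy : y ∈ (P : Subgroup G)) : ∃ k : ℕ, orderOf y = p ^ k := by
  obtain ⟨k, hk⟩ := IsPGroup.iff_orderOf.1 P.isPGroup' ⟨y, hy⟩
  exact ⟨k, by rw [← hk, Subgroup.orderOf_mk]⟩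

theorem isPPart_self_of_mem (P : Sylow p G) {y : G} (hy : y ∈ (P : Subgroup G)) : IsPPart p y y := by
  refine ⟨1, mul_one y, Commute.one_right y, orderOf_of_mem P hy, ?_⟩
  rw [orderOf_one]
  exact hp.out.one_lt.ne' ∘ Nat.dvd_one.mp

/-- Regular elements of `C(y)` lie in the core. -/
theorem Hyp.mem_core (H : Hyp P m) {y : G} (hy : y ∈ (P : Subgroup G)) (hy1 : y ≠ 1) (v : Cen y)
    (hv : ¬ p ∣ orderOf v) : v ∈ pPrimeCore p (Cen y) := by
  have hidx := H.core_index hy hy1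
  obtain ⟨k, hk⟩ := IsPGroup.iff_card.1 P.isPGroup'
  have hcop : (Nat.card (pPrimeCore p (Cen y))).Coprime p :=
    Cfsg.Agent.Lib.Solvable.Carter.card_pPrimeCore_coprime (G := Cen y) p
  have hPq : IsPGroup p ((Cen y) ⧸ pPrimeCore p (Cen y)) := by
    rw [IsPGroup.iff_card]
    exact ⟨k, by rw [← hk]; exact hidx⟩
  rw [Cfsg.Agent.Lib.Transfer.Basic.mem_iff_coprime_of_normal _ hcop hPq v, Nat.coprime_comm,
      Nat.Prime.coprime_iff_not_dvd hp.out]
  exact hv

/-- Characters in the principal block only see the `p`-part. -/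
theorem Hyp.apply_of_isPPart (hM : IsPModular p M) (H : Hyp P m) {u y : G} (h : IsPPart p u y)
    (hy : y ∈ (P : Subgroup G)) (hy1 : y ≠ 1) {χ : IrrCharacter G} (hχ : χ ∈ principalBlock M G) :
    (χ : G → ℂ) u = (χ : G → ℂ) y := by
  letI : Fintype (Cen y) := Fintype.ofFinite _
  obtain ⟨v, rfl, hc, ⟨k, hk⟩, hv⟩ := h
  have hvC : v ∈ Cen y := Subgroup.mem_centralizer_singleton_iff.2 hc.symm.eq
  have hvo : ¬ p ∣ orderOf (⟨v, hvC⟩ : Cen y) := by
    rwa [Subgroup.orderOf_mk]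
  exact apply_mul_core hM hk (v := ⟨v, hvC⟩) (H.mem_core hy hy1 _ hvo) hχ

open Classical in
/-- The principal block as a finset. -/
noncomputable def B0 (M : Ideal AlgInt) (G : Type*) [Group G] [Fintype G] : Finset (IrrCharacter G) :=
  Finset.univ.filter (· ∈ principalBlock M G)

omit hMp hp in
@[simp] theorem mem_B0 {χ : IrrCharacter G} : χ ∈ B0 M G ↔ χ ∈ principalBlock M G := by
  simp [B0]

theorem Hyp.sum_self (hM : IsPModular p M) (H : Hyp P m) {y : G} (hy : y ∈ (P : Subgroup G))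
    (hy1 : y ≠ 1) :
    ∑ χ ∈ B0 M G, (χ : G → ℂ) y * conj ((χ : G → ℂ) y) = (Nat.card (P : Subgroup G) : ℂ) := by
  classical
  obtain ⟨k, hk⟩ := orderOf_of_mem P hy
  obtain ⟨j, hj⟩ := IsPGroup.iff_card.1 P.isPGroup'
  have hidx := H.core_index hy hy1
  rw [hj] at hidx
  have h1 := sum_principal_eq hM hk (1 : Cen y) (by
    rw [orderOf_one]
    exact hp.out.one_lt.ne' ∘ Nat.dvd_one.mp)
  simp only [Subgroup.coe_one, mul_one] at h1
  have h2 := sum_principal_eq_index (G := Cen y) hM hidx (y := 1) (by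
    rw [orderOf_one]
    exact hp.out.one_lt.ne' ∘ Nat.dvd_one.mp)
  have h3 : ∑ χ ∈ B0 M G, (χ : G → ℂ) y * conj ((χ : G → ℂ) y) =
      ∑ ζ ∈ Finset.univ.filter (· ∈ principalBlock M G), (ζ : G → ℂ) y * conj ((ζ : G → ℂ) y) := by
    rw [B0]
  rw [h3, h1]
  refine Eq.trans ?_ (h2.trans ?_)
  · refine Finset.sum_congr (by congr!) fun _ _ => rfl
  · rw [hj]

theorem sum_B0_eq_zero (hM : IsPModular p M) {g h x y : G} (hgx : IsPPart p g x) (hhy : IsPPart p h y)
    (hnc : ¬ IsConj x y) : ∑ χ ∈ B0 M G, (χ : G → ℂ) g * conj ((χ : G → ℂ) h) = 0 := by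
  classical
  have h1 := block_orthogonality hM hgx hhy hnc
    (Cfsg.Agent.Lib.Blocks.Principal.isPBlock_principalBlock (G := G) M)
  rw [Cfsg.Agent.Lib.Blocks.Osima.finsum_mem_eq_sum_filter] at h1
  rw [← h1, B0]
  refine Finset.sum_congr (by congr!) fun χ _ => ?_
  rw [Cfsg.Agent.Lib.Char.Complete.isIrr_inv χ.2]

open Classical in
/-- Block orthogonality on `P#`. -/
theorem Hyp.sum_pair (hM : IsPModular p M) (H : Hyp P m) {y y' : G} (hy : y ∈ (P : Subgroup G))
    (hy1 : y ≠ 1) (hy' : y' ∈ (P : Subgroup G)) :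
    ∑ χ ∈ B0 M G, (χ : G → ℂ) y * conj ((χ : G → ℂ) y') =
      if IsConj y' y then (Nat.card (P : Subgroup G) : ℂ) else 0 := by
  classical
  split_ifs with h
  · have h2 : ∀ χ : IrrCharacter G, (χ : G → ℂ) y' = (χ : G → ℂ) y := fun χ =>
      Cfsg.Agent.Lib.Char.CompleteCor.irr_apply_of_isConj h χ
    simp only [h2]
    exact H.sum_self hM hy hy1
  · exact sum_B0_eq_zero hM (isPPart_self_of_mem P hy) (isPPart_self_of_mem P hy') (fun hc => h hc.symm)

/-- A regular element: the `p`-part is trivial. -/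
theorem isPPart_one_of_reg {g : G} (hg : ¬ p ∣ orderOf g) : IsPPart p g 1 :=
  ⟨g, one_mul g, Commute.one_left g, ⟨0, by simp⟩, hg⟩

theorem sum_reg (hM : IsPModular p M) {g y' : G} (hg : ¬ p ∣ orderOf g)
    (hy' : y' ∈ (P : Subgroup G)) (hy1 : y' ≠ 1) :
    ∑ χ ∈ B0 M G, (χ : G → ℂ) g * conj ((χ : G → ℂ) y') = 0 :=
  sum_B0_eq_zero hM (isPPart_one_of_reg hg) (isPPart_self_of_mem P hy') (fun hc => hy1 (isConj_one_right.1 hc))

variable (P m) [Fintype (P : Subgroup G)]

open Classical in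
/-- The coefficient of `χ` in the section map. -/
noncomputable def coef (f : ↥(P : Subgroup G) → ℂ) (χ : IrrCharacter G) : ℂ :=
  ((m : ℂ) * (Nat.card (P : Subgroup G) : ℂ))⁻¹ *
    ∑ y ∈ (Finset.univ.erase 1 : Finset ↥(P : Subgroup G)), f y * conj ((χ : G → ℂ) y)

/-- The section map. -/
noncomputable def secMap (M : Ideal AlgInt) (f : ↥(P : Subgroup G) → ℂ) : G → ℂ :=
  fun g => ∑ χ ∈ B0 M G, coef P m f χ * (χ : G → ℂ) g

variable {P m}

omit hMp hp in
open Classical in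
theorem secMap_eq (f : ↥(P : Subgroup G) → ℂ) (g : G) :
    secMap P m M f g = ((m : ℂ) * (Nat.card (P : Subgroup G) : ℂ))⁻¹ *
      ∑ y ∈ (Finset.univ.erase 1 : Finset ↥(P : Subgroup G)), f y *
        ∑ χ ∈ B0 M G, (χ : G → ℂ) g * conj ((χ : G → ℂ) y) := by
  simp only [secMap, coef, Finset.mul_sum, Finset.sum_mul]
  rw [Finset.sum_comm]
  refine Finset.sum_congr rfl fun y _ => Finset.sum_congr rfl fun χ _ => ?_
  ring

theorem secMap_reg (hM : IsPModular p M) (f : ↥(P : Subgroup G) → ℂ) {g : G} (hg : ¬ p ∣ orderOf g) :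
    secMap P m M f g = 0 := by
  classical
  rw [secMap_eq]
  apply mul_eq_zero_of_right
  refine Finset.sum_eq_zero fun y hy => ?_
  rw [sum_reg hM hg y.2 (fun h => (Finset.ne_of_mem_erase hy) (Subtype.ext h)), mul_zero]

theorem secMap_apply (hM : IsPModular p M) (H : Hyp P m) (hm : m ≠ 0) {f : ↥(P : Subgroup G) → ℂ}
    (hf : Inv f) (y : ↥(P : Subgroup G)) (hy : y ≠ 1) :
    secMap P m M f y = f y := by
  classical
  have hy1 : (y : G) ≠ 1 := fun h => hy (Subtype.ext h)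
  rw [secMap_eq]
  have h1 : ∀ y' ∈ (Finset.univ.erase 1 : Finset ↥(P : Subgroup G)),
      f y' * ∑ χ ∈ B0 M G, (χ : G → ℂ) y * conj ((χ : G → ℂ) y') =
      if IsConj (y' : G) (y : G) then f y * (Nat.card (P : Subgroup G) : ℂ) else 0 := by
    intro y' _
    rw [H.sum_pair hM y.2 hy1 y'.2]
    split_ifs with h
    · rw [Inv.of_isConj H hf h]
    · rw [mul_zero]
  rw [Finset.sum_congr rfl h1, Finset.sum_ite, Finset.sum_const_zero, add_zero, Finset.sum_const, nsmul_eq_mul]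
  have h2 : (Finset.filter (fun y' : ↥(P : Subgroup G) => IsConj (y' : G) (y : G))
      (Finset.univ.erase 1)).card = m := by
    rw [← H.card_conj y.2 hy1, Nat.card_eq_fintype_card, Fintype.card_subtype]
    congr 1
    ext y'
    simp only [Finset.mem_filter, Finset.mem_erase, Finset.mem_univ, and_true, true_and]
    constructor
    · exact fun h => h.2
    · intro h
      refine ⟨?_, h⟩
      rintro rfl
      exact hy1 (isConj_one_right.1 h)
  rw [h2]
  have hm' : (m : ℂ) ≠ 0 := Nat.cast_ne_zero.2 hm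
  have hP' : (Nat.card (P : Subgroup G) : ℂ) ≠ 0 := Nat.cast_ne_zero.2 Nat.card_pos.ne'
  field_simp

theorem secMap_section (hM : IsPModular p M) (H : Hyp P m) (f : ↥(P : Subgroup G) → ℂ) {u y : G}
    (h : IsPPart p u y) (hy : y ∈ (P : Subgroup G)) (hy1 : y ≠ 1) :
    secMap P m M f u = secMap P m M f y := by
  refine Finset.sum_congr rfl fun χ hχ => ?_
  rw [H.apply_of_isPPart hM h hy hy1 (mem_B0.1 hχ)]

end Blocks2

end Cfsg.Agent.Lib.Blocks.AbFrob
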