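import Mathlib
import Cfsg.Agent.Lib.Blocks.AbFrob

set_option autoImplicit false

namespace Cfsg.Agent.Lib.Blocks.AbFrob

open Cfsg Cfsg.Agent.Lib.Blocks.Sections Cfsg.Agent.Lib.Blocks.PrincipalCen
open scoped ComplexConjugate

section Inner

variable {G : Type*} [Group G] [Fintype G] {p : ℕ} [hp : Fact p.Prime] {P : Sylow p G} {m : ℕ}
  {M : Ideal AlgInt} [hMp : M.IsPrime] [Fintype (P : Subgroup G)]

open Cfsg.Agent.Lib.Char.Virtual

omit hp hMp in
theorem secMap_eq_sum (f : ↥(P : Subgroup G) → ℂ) :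
    secMap P m M f = ∑ χ ∈ B0 M G, coef P m f χ • (χ : G → ℂ) := by
  funext g
  simp [secMap, Finset.sum_apply]

omit hp hMp in
open Classical in
theorem classInner_secMap (f : ↥(P : Subgroup G) → ℂ) (χ : IrrCharacter G) :
    classInner (secMap P m M f) (χ : G → ℂ) = if χ ∈ B0 M G then coef P m f χ else 0 := by
  rw [secMap_eq_sum, classInner_finset_sum_left]
  have h1 : ∀ η ∈ B0 M G, classInner (coef P m f η • (η : G → ℂ)) (χ : G → ℂ) =
      if η = χ then coef P m f η else 0 := by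
    intro η _
    rw [classInner_smul_left, Cfsg.Agent.Lib.Char.Ortho.classInner_irr η.2 χ.2]
    by_cases h : η = χ
    · rw [if_pos h, if_pos (by rw [h]), mul_one]
    · rw [if_neg h, if_neg (fun h' => h (Subtype.ext h')), mul_zero]
  rw [Finset.sum_congr rfl h1, Finset.sum_ite_eq']

open Classical in
/-- The isometry formula. -/
theorem classInner_secMap_secMap (hM : IsPModular p M) (H : Hyp P m) (hm : m ≠ 0)
    {f : ↥(P : Subgroup G) → ℂ} (hf : Inv f) (h : ↥(P : Subgroup G) → ℂ) :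
    classInner (secMap P m M f) (secMap P m M h) =
      ((m : ℂ) * (Nat.card (P : Subgroup G) : ℂ))⁻¹ *
        ∑ y ∈ (Finset.univ.erase 1 : Finset ↥(P : Subgroup G)), f y * conj (h y) := by
  classical
  rw [secMap_eq_sum (f := h), classInner_finset_sum_right]
  have h1 : ∀ η ∈ B0 M G, classInner (secMap P m M f) (coef P m h η • (η : G → ℂ)) =
      conj (coef P m h η) * coef P m f η := by
    intro η hη
    rw [classInner_smul_right, classInner_secMap, if_pos hη]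
  rw [Finset.sum_congr rfl h1]
  have h2 : ∀ y ∈ (Finset.univ.erase 1 : Finset ↥(P : Subgroup G)),
      f y * conj (h y) = conj (h y) * secMap P m M f y := by
    intro y hy
    rw [secMap_apply hM H hm hf y (Finset.ne_of_mem_erase hy), mul_comm]
  rw [Finset.sum_congr rfl h2]
  have h3 : ∀ y ∈ (Finset.univ.erase 1 : Finset ↥(P : Subgroup G)),
      conj (h y) * secMap P m M f y = ∑ η ∈ B0 M G, conj (h y) * (coef P m f η * (η : G → ℂ) y) := by
    intro y _
    rw [secMap, Finset.mul_sum]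
  rw [Finset.sum_congr rfl h3, Finset.sum_comm, Finset.mul_sum]
  refine Finset.sum_congr rfl fun η _ => ?_
  have hconj : conj (coef P m h η) = ((m : ℂ) * (Nat.card (P : Subgroup G) : ℂ))⁻¹ *
      ∑ y ∈ (Finset.univ.erase 1 : Finset ↥(P : Subgroup G)), conj (h y) * (η : G → ℂ) y := by
    simp only [coef, map_mul, map_inv₀, map_sum, Complex.conj_conj, Complex.conj_natCast]
  rw [hconj, mul_assoc, Finset.sum_mul]
  congr 1
  refine Finset.sum_congr rfl fun y _ => ?_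
  ring

omit hp hMp in
theorem isGeneralized_secMap {f : ↥(P : Subgroup G) → ℂ}
    (hc : ∀ χ ∈ B0 M G, ∃ n : ℤ, coef P m f χ = n) : IsGeneralizedCharacter G (secMap P m M f) := by
  rw [secMap_eq_sum]
  apply isGeneralized_finset_sum
  intro χ hχ
  obtain ⟨n, hn⟩ := hc χ hχ
  rw [hn]
  exact isGeneralized_intCast_smul (isGeneralized_of_isIrr χ.2) n

end Inner

section Dual

variable {A : Type*} [Group A]

theorem finite_dual [Finite A] (hA : ∀ a b : A, a * b = b * a) : Finite (A →* ℂˣ) := by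
  letI : CommGroup A := { ‹Group A› with mul_comm := hA }
  have hexp : NeZero ((Monoid.exponent A : ℕ) : ℂ) :=
    ⟨Nat.cast_ne_zero.2 Monoid.exponent_ne_zero_of_finite⟩
  have hroots : HasEnoughRootsOfUnity ℂ (Monoid.exponent A) := inferInstance
  obtain ⟨e⟩ := CommGroup.monoidHom_mulEquiv_of_hasEnoughRootsOfUnity A ℂ
  exact Finite.of_equiv _ e.symm.toEquiv

theorem card_dual [Finite A] (hA : ∀ a b : A, a * b = b * a) : Nat.card (A →* ℂˣ) = Nat.card A := by
  letI : CommGroup A := { ‹Group A› with mul_comm := hA }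
  have hexp : NeZero ((Monoid.exponent A : ℕ) : ℂ) :=
    ⟨Nat.cast_ne_zero.2 Monoid.exponent_ne_zero_of_finite⟩
  have hroots : HasEnoughRootsOfUnity ℂ (Monoid.exponent A) := inferInstance
  exact CommGroup.card_monoidHom_of_hasEnoughRootsOfUnity A ℂ

theorem exists_dual_ne [Finite A] (hA : ∀ a b : A, a * b = b * a) {a : A} (ha : a ≠ 1) :
    ∃ φ : A →* ℂˣ, φ a ≠ 1 := by
  letI : CommGroup A := { ‹Group A› with mul_comm := hA }
  have hexp : NeZero ((Monoid.exponent A : ℕ) : ℂ) :=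
    ⟨Nat.cast_ne_zero.2 Monoid.exponent_ne_zero_of_finite⟩
  have hroots : HasEnoughRootsOfUnity ℂ (Monoid.exponent A) := inferInstance
  exact CommGroup.exists_apply_ne_one_of_hasEnoughRootsOfUnity A ℂ ha

variable [Fintype A] [Fintype (A →* ℂˣ)]

open Classical in
theorem sum_dual (hA : ∀ a b : A, a * b = b * a) (a : A) :
    ∑ φ : A →* ℂˣ, ((φ a : ℂˣ) : ℂ) = if a = 1 then (Nat.card A : ℂ) else 0 := by
  split_ifs with ha
  · subst ha
    simp only [map_one, Units.val_one, Finset.sum_const, Finset.card_univ, nsmul_eq_mul, mul_one]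
    rw [← Nat.card_eq_fintype_card, card_dual hA]
  · obtain ⟨φ₀, h0⟩ := exists_dual_ne hA ha
    have hmul : ((φ₀ a : ℂˣ) : ℂ) * ∑ φ : A →* ℂˣ, ((φ a : ℂˣ) : ℂ) = ∑ φ : A →* ℂˣ, ((φ a : ℂˣ) : ℂ) := by
      rw [Finset.mul_sum]
      refine Eq.trans ?_ (Equiv.sum_comp (Equiv.mulLeft φ₀) (fun φ : A →* ℂˣ => ((φ a : ℂˣ) : ℂ)))
      refine Finset.sum_congr rfl fun φ _ => ?_
      simp
    have hne : ((φ₀ a : ℂˣ) : ℂ) ≠ 1 := fun h => h0 (Units.ext h)
    have : (((φ₀ a : ℂˣ) : ℂ) - 1) * ∑ φ : A →* ℂˣ, ((φ a : ℂˣ) : ℂ) = 0 := by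
      rw [sub_mul, hmul, one_mul, sub_self]
    exact (mul_eq_zero.1 this).resolve_left (sub_ne_zero.2 hne)

theorem conj_dual (φ : A →* ℂˣ) (a : A) : conj ((φ a : ℂˣ) : ℂ) = ((φ a⁻¹ : ℂˣ) : ℂ) :=
  (Cfsg.Agent.Lib.Char.Complete.isIrr_inv (Cfsg.Agent.Lib.Char.LinearChars.isIrr_of_hom φ) a).symm

/-- Fourier inversion. -/
theorem inversion (hA : ∀ a b : A, a * b = b * a) (w : A → ℂ) (a : A) :
    w a = ∑ φ : A →* ℂˣ, classInner w (fun b => ((φ b : ℂˣ) : ℂ)) * ((φ a : ℂˣ) : ℂ) := by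
  classical
  simp only [classInner, conj_dual]
  have h1 : ∀ φ : A →* ℂˣ, (Nat.card A : ℂ)⁻¹ * (∑ b, w b * ((φ b⁻¹ : ℂˣ) : ℂ)) * ((φ a : ℂˣ) : ℂ) =
      (Nat.card A : ℂ)⁻¹ * ∑ b, w b * ((φ (a * b⁻¹) : ℂˣ) : ℂ) := by
    intro φ
    rw [mul_assoc, Finset.sum_mul]
    congr 1
    refine Finset.sum_congr rfl fun b _ => ?_
    rw [map_mul, Units.val_mul]
    ring
  simp only [h1]
  rw [← Finset.mul_sum, Finset.sum_comm]
  have h2 : ∀ b : A, ∑ φ : A →* ℂˣ, w b * ((φ (a * b⁻¹) : ℂˣ) : ℂ) =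
      if b = a then w a * (Nat.card A : ℂ) else 0 := by
    intro b
    rw [← Finset.mul_sum, sum_dual hA]
    by_cases h : b = a
    · subst h
      simp
    · rw [if_neg h, if_neg, mul_zero]
      intro h3
      exact h (mul_inv_eq_one.1 h3).symm
  simp only [h2]
  rw [Finset.sum_ite_eq' Finset.univ a, if_pos (Finset.mem_univ _)]
  have hne : (Nat.card A : ℂ) ≠ 0 := by
    haveI : Finite A := Finite.of_fintype A
    exact Nat.cast_ne_zero.2 Nat.card_pos.ne'
  field_simp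

open Classical in
/-- The sum of the nontrivial characters at a nonidentity element. -/
theorem sum_erase_dual (hA : ∀ a b : A, a * b = b * a) {a : A} (ha : a ≠ 1) :
    ∑ φ ∈ (Finset.univ.erase 1 : Finset (A →* ℂˣ)), ((φ a : ℂˣ) : ℂ) = -1 := by
  have h := sum_dual hA a
  rw [if_neg ha, ← Finset.add_sum_erase _ _ (Finset.mem_univ (1 : A →* ℂˣ))] at h
  simp only [MonoidHom.one_apply, Units.val_one] at h
  linear_combination h

end Dual

section Orbit

variable {G : Type*} [Group G] {p : ℕ} {P : Sylow p G} {m : ℕ}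

/-- Conjugation on `P` by an element of the normalizer. -/
def conjP (n : ↥(NN P)) : ↥(P : Subgroup G) →* ↥(P : Subgroup G) where
  toFun w := ⟨n * w * (n : G)⁻¹, (mem_NN_iff.1 n.2 w).1 w.2⟩
  map_one' := by
    apply Subtype.ext
    simp
  map_mul' a b := by
    apply Subtype.ext
    simp only [Subgroup.coe_mul]
    group

@[simp] theorem coe_conjP (n : ↥(NN P)) (w : ↥(P : Subgroup G)) :
    (conjP n w : G) = n * w * (n : G)⁻¹ := rfl

theorem conjP_mul (a b : ↥(NN P)) (w : ↥(P : Subgroup G)) : conjP (a * b) w = conjP a (conjP b w) := by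
  apply Subtype.ext
  simp only [coe_conjP, Subgroup.coe_mul]
  group

theorem conjP_one (w : ↥(P : Subgroup G)) : conjP (1 : ↥(NN P)) w = w := by
  apply Subtype.ext
  simp

/-- `conjP` as a bijection. -/
def conjPEquiv (n : ↥(NN P)) : ↥(P : Subgroup G) ≃ ↥(P : Subgroup G) where
  toFun := conjP n
  invFun := conjP n⁻¹
  left_inv w := by
    rw [← conjP_mul, inv_mul_cancel, conjP_one]
  right_inv w := by
    rw [← conjP_mul, mul_inv_cancel, conjP_one]

/-- The action on the dual. -/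
def twist (n : ↥(NN P)) (ψ : ↥(P : Subgroup G) →* ℂˣ) : ↥(P : Subgroup G) →* ℂˣ :=
  ψ.comp (conjP n⁻¹)

theorem twist_apply (n : ↥(NN P)) (ψ : ↥(P : Subgroup G) →* ℂˣ) (w : ↥(P : Subgroup G)) :
    twist n ψ w = ψ (conjP n⁻¹ w) := rfl

theorem twist_mul (a b : ↥(NN P)) (ψ : ↥(P : Subgroup G) →* ℂˣ) : twist (a * b) ψ = twist a (twist b ψ) := by
  ext w
  simp only [twist_apply, mul_inv_rev, conjP_mul]

theorem twist_one (ψ : ↥(P : Subgroup G) →* ℂˣ) : twist (1 : ↥(NN P)) ψ = ψ := by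
  ext w
  simp only [twist_apply, inv_one, conjP_one]

theorem twist_one_right (n : ↥(NN P)) : twist n (1 : ↥(P : Subgroup G) →* ℂˣ) = 1 := rfl

/-- `twist n` as a bijection. -/
def twistEquiv (n : ↥(NN P)) : (↥(P : Subgroup G) →* ℂˣ) ≃ (↥(P : Subgroup G) →* ℂˣ) where
  toFun := twist n
  invFun := twist n⁻¹
  left_inv ψ := by rw [← twist_mul, inv_mul_cancel, twist_one]
  right_inv ψ := by rw [← twist_mul, mul_inv_cancel, twist_one]

/-- The set of `N`-conjugates of a linear character, as in the statements. -/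
def orb (ψ : ↥(P : Subgroup G) →* ℂˣ) : Set (↥(P : Subgroup G) →* ℂˣ) :=
  {ψ' | ∃ n : G, n ∈ NN P ∧ ∀ w w' : ↥(P : Subgroup G), (w' : G) = n * w * n⁻¹ → ψ' w' = ψ w}

theorem mem_orb_iff {ψ ψ' : ↥(P : Subgroup G) →* ℂˣ} : ψ' ∈ orb ψ ↔ ∃ n : ↥(NN P), ψ' = twist n ψ := by
  constructor
  · rintro ⟨n, hn, h⟩
    refine ⟨⟨n, hn⟩, ?_⟩
    ext w'
    rw [twist_apply, h (conjP (⟨n, hn⟩ : ↥(NN P))⁻¹ w') w' (by
      simp only [coe_conjP, Subgroup.coe_inv]
      group)]
  · rintro ⟨n, rfl⟩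
    refine ⟨n, n.2, fun w w' e => ?_⟩
    rw [twist_apply]
    congr 1
    apply Subtype.ext
    simp only [coe_conjP, e, Subgroup.coe_inv]
    group

theorem mem_orb_self (ψ : ↥(P : Subgroup G) →* ℂˣ) : ψ ∈ orb ψ :=
  mem_orb_iff.2 ⟨1, (twist_one ψ).symm⟩

theorem orb_eq_of_mem {ψ ψ' : ↥(P : Subgroup G) →* ℂˣ} (h : ψ' ∈ orb ψ) : orb ψ' = orb ψ := by
  obtain ⟨n, rfl⟩ := mem_orb_iff.1 h
  ext φ
  rw [mem_orb_iff, mem_orb_iff]
  constructor
  · rintro ⟨k, rfl⟩
    exact ⟨k * n, (twist_mul _ _ _).symm⟩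
  · rintro ⟨k, rfl⟩
    refine ⟨k * n⁻¹, ?_⟩
    rw [← twist_mul]
    simp

theorem ne_one_of_mem_orb {ψ ψ' : ↥(P : Subgroup G) →* ℂˣ} (h : ψ' ∈ orb ψ) (hψ : ψ ≠ 1) : ψ' ≠ 1 := by
  rintro rfl
  obtain ⟨n, hn⟩ := mem_orb_iff.1 h
  apply hψ
  have := congrArg (twist n⁻¹) hn
  rw [← twist_mul, inv_mul_cancel, twist_one] at this
  rw [← this]
  rfl

variable [Finite G]

/-- A nontrivial character is moved by every element of `N - C`. -/
theorem Hyp.stab (H : Hyp P m) {n : ↥(NN P)} {ψ : ↥(P : Subgroup G) →* ℂˣ} (hψ : ψ ≠ 1)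
    (h : twist n ψ = ψ) : (n : G) ∈ CC P := by
  by_contra hn
  have hcomm : ∀ a b : ↥(P : Subgroup G), a * b = b * a := fun a b =>
    Subtype.ext (H.comm a.2 b.2)
  let c : ↥(P : Subgroup G) → ↥(P : Subgroup G) := fun v => conjP n v * v⁻¹
  have hinj : Function.Injective c := by
    intro v v' hc
    by_contra hne
    have hy : v * v'⁻¹ ≠ 1 := fun h1 => hne (mul_inv_eq_one.1 h1)
    have hy' : ((v * v'⁻¹ : ↥(P : Subgroup G)) : G) ≠ 1 := fun h1 => hy (Subtype.ext h1)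
    apply hn
    rw [← H.hfrob _ (v * v'⁻¹ : ↥(P : Subgroup G)).2 hy']
    refine ⟨?_, n.2⟩
    show (n : G) ∈ Cen _
    rw [mem_cen_iff]
    have h1 : conjP n (v * v'⁻¹) = v * v'⁻¹ := by
      rw [map_mul, map_inv]
      have h2 : conjP n v = conjP n v' * v'⁻¹ * v := by
        have : conjP n v * v⁻¹ = conjP n v' * v'⁻¹ := hc
        rw [← this]
        group
      rw [h2]
      calc conjP n v' * v'⁻¹ * v * (conjP n v')⁻¹ = conjP n v' * (v'⁻¹ * v) * (conjP n v')⁻¹ := by group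
        _ = (v'⁻¹ * v) * conjP n v' * (conjP n v')⁻¹ := by rw [hcomm (conjP n v')]
        _ = v'⁻¹ * v := by group
        _ = v * v'⁻¹ := hcomm _ _
    exact congrArg Subtype.val h1
  have hsurj : Function.Surjective c := Finite.injective_iff_surjective.1 hinj
  apply hψ
  ext w
  obtain ⟨v, rfl⟩ := hsurj w
  simp only [c, map_mul, map_inv, MonoidHom.one_apply]
  have h2 : ψ (conjP n v) = ψ v := by
    have h3 := DFunLike.congr_fun h (conjP n v)
    rw [twist_apply, ← conjP_mul, inv_mul_cancel, conjP_one] at h3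
    exact h3.symm
  rw [h2]
  simp

variable [Fintype (↥(P : Subgroup G) →* ℂˣ)]

open Classical in
/-- The orbit as a finset. -/
noncomputable def orbF (ψ : ↥(P : Subgroup G) →* ℂˣ) : Finset (↥(P : Subgroup G) →* ℂˣ) :=
  Finset.univ.filter (· ∈ orb ψ)

omit [Finite G] in
@[simp] theorem mem_orbF {ψ φ : ↥(P : Subgroup G) →* ℂˣ} : φ ∈ orbF ψ ↔ φ ∈ orb ψ := by
  simp [orbF]

/-- The `N`-orbit of a nontrivial `ψ` has `m` elements. -/
theorem Hyp.card_orbF (H : Hyp P m) {ψ : ↥(P : Subgroup G) →* ℂˣ} (hψ : ψ ≠ 1) : (orbF ψ).card = m := by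
  classical
  have hf : ∀ a b : ↥(NN P), (fun n => twist n ψ) a = (fun n => twist n ψ) b ↔
      (a⁻¹ * b : ↥(NN P)) ∈ (CC P).subgroupOf (NN P) := by
    intro a b
    rw [Subgroup.mem_subgroupOf]
    constructor
    · intro h
      apply H.stab hψ
      show twist (a⁻¹ * b) ψ = ψ
      rw [twist_mul]
      have h' : twist a ψ = twist b ψ := h
      rw [← h', ← twist_mul, inv_mul_cancel, twist_one]
    · intro h
      show twist a ψ = twist b ψ
      ext w
      rw [twist_apply, twist_apply]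
      congr 2
      apply Subtype.ext
      simp only [coe_conjP, Subgroup.coe_inv, inv_inv]
      have h1 := (mem_CC_iff.1 h) _ (conjP b⁻¹ w).2
      simp only [coe_conjP, Subgroup.coe_mul, Subgroup.coe_inv, inv_inv] at h1
      rw [← h1]
      group
  have h1 := card_range_eq_relIndex _ hf
  rw [H.hCN] at h1
  rw [← h1, Nat.card_eq_fintype_card, ← Set.toFinset_card]
  congr 1
  ext φ
  simp only [mem_orbF, Set.mem_toFinset, Set.mem_range, mem_orb_iff]
  constructor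
  · rintro ⟨n, rfl⟩
    exact ⟨n, rfl⟩
  · rintro ⟨n, rfl⟩
    exact ⟨n, rfl⟩

/-- The orbit sum. -/
noncomputable def theta (ψ : ↥(P : Subgroup G) →* ℂˣ) : ↥(P : Subgroup G) → ℂ :=
  fun y => ∑ ψ' ∈ orbF ψ, ((ψ' y : ℂˣ) : ℂ)

theorem theta_one (H : Hyp P m) {ψ : ↥(P : Subgroup G) →* ℂˣ} (hψ : ψ ≠ 1) : theta ψ 1 = m := by
  simp only [theta, map_one, Units.val_one, Finset.sum_const, nsmul_eq_mul, mul_one, H.card_orbF hψ]

omit [Finite G] in
theorem theta_eq_of_mem {ψ ψ' : ↥(P : Subgroup G) →* ℂˣ} (h : ψ' ∈ orb ψ) : theta ψ' = theta ψ := by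
  have : orbF ψ' = orbF ψ := by
    ext φ
    rw [mem_orbF, mem_orbF, orb_eq_of_mem h]
  funext y
  simp only [theta, this]

omit [Finite G] in
theorem theta_inv (ψ : ↥(P : Subgroup G) →* ℂˣ) : Inv (theta ψ) := by
  intro n hn w w' e
  let k : ↥(NN P) := ⟨n, hn⟩
  have hw' : w' = conjP k w := Subtype.ext e
  subst hw'
  simp only [theta]
  refine Finset.sum_equiv (twistEquiv k⁻¹) ?_ ?_
  · intro φ
    simp only [mem_orbF, mem_orb_iff]
    constructor
    · rintro ⟨a, rfl⟩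
      exact ⟨k⁻¹ * a, (twist_mul _ _ _).symm⟩
    · rintro ⟨a, ha⟩
      refine ⟨k * a, ?_⟩
      have := congrArg (twist k) ha
      rw [twist_mul, ← this]
      show φ = twist k (twist k⁻¹ φ)
      rw [← twist_mul, mul_inv_cancel, twist_one]
  · intro φ _
    show ((φ (conjP k w) : ℂˣ) : ℂ) = (((twist k⁻¹ φ) w : ℂˣ) : ℂ)
    rw [twist_apply, inv_inv]

end Orbit

section Forms

variable {G : Type*} [Group G] [Finite G] {p : ℕ} {P : Sylow p G} {m : ℕ}
  [Fintype (P : Subgroup G)] [Fintype (↥(P : Subgroup G) →* ℂˣ)]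

open Cfsg.Agent.Lib.Char.Virtual

/-- A linear character as a function. -/
def chi (ψ : ↥(P : Subgroup G) →* ℂˣ) : ↥(P : Subgroup G) → ℂ := fun y => ((ψ y : ℂˣ) : ℂ)

omit [Finite G] [Fintype (↥(P : Subgroup G) →* ℂˣ)] in
theorem chi_injective : Function.Injective (chi (P := P)) := by
  intro a b h
  ext y
  exact congrFun h y

omit [Finite G] [Fintype (↥(P : Subgroup G) →* ℂˣ)] in
theorem chi_isIrr (ψ : ↥(P : Subgroup G) →* ℂˣ) : IsIrrCharacter ↥(P : Subgroup G) (chi ψ) :=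
  Cfsg.Agent.Lib.Char.LinearChars.isIrr_of_hom ψ

omit [Finite G] [Fintype (↥(P : Subgroup G) →* ℂˣ)] in
open Classical in
theorem classInner_chi (ψ φ : ↥(P : Subgroup G) →* ℂˣ) :
    classInner (chi ψ) (chi φ) = if ψ = φ then 1 else 0 := by
  rw [Cfsg.Agent.Lib.Char.Ortho.classInner_irr (chi_isIrr ψ) (chi_isIrr φ)]
  by_cases h : ψ = φ
  · rw [if_pos h, if_pos (by rw [h])]
  · rw [if_neg h, if_neg (fun h' => h (chi_injective h'))]

omit [Finite G] in
theorem theta_eq_sum (ψ : ↥(P : Subgroup G) →* ℂˣ) : theta ψ = ∑ ψ' ∈ orbF ψ, chi ψ' := by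
  funext y
  simp [theta, chi, Finset.sum_apply]

omit [Finite G] in
open Classical in
theorem classInner_theta_chi (ψ φ : ↥(P : Subgroup G) →* ℂˣ) :
    classInner (theta ψ) (chi φ) = if φ ∈ orb ψ then 1 else 0 := by
  rw [theta_eq_sum, classInner_finset_sum_left]
  simp only [classInner_chi]
  rw [Finset.sum_ite_eq']
  simp

omit [Finite G] [Fintype (↥(P : Subgroup G) →* ℂˣ)] in
/-- Twisting does not change the inner product with an invariant function. -/
theorem classInner_twist (n : ↥(NN P)) (ψ : ↥(P : Subgroup G) →* ℂˣ) {g : ↥(P : Subgroup G) → ℂ} (hg : Inv g) :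
    classInner (chi (twist n ψ)) g = classInner (chi ψ) g := by
  simp only [classInner]
  congr 1
  rw [← Equiv.sum_comp (conjPEquiv n)]
  refine Finset.sum_congr rfl fun w _ => ?_
  have h1 : g (conjPEquiv n w) = g w := hg n n.2 w _ rfl
  rw [h1]
  show ((twist n ψ (conjP n w) : ℂˣ) : ℂ) * _ = _
  rw [twist_apply, ← conjP_mul, inv_mul_cancel, conjP_one]
  rfl

/-- The inner product of an orbit sum with an invariant function. -/
theorem classInner_theta_inv (H : Hyp P m) {ψ : ↥(P : Subgroup G) →* ℂˣ} (hψ : ψ ≠ 1)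
    {g : ↥(P : Subgroup G) → ℂ} (hg : Inv g) :
    classInner (theta ψ) g = m * classInner (chi ψ) g := by
  rw [theta_eq_sum, classInner_finset_sum_left]
  have h1 : ∀ ψ' ∈ orbF ψ, classInner (chi ψ') g = classInner (chi ψ) g := by
    intro ψ' h
    obtain ⟨n, rfl⟩ := mem_orb_iff.1 (mem_orbF.1 h)
    exact classInner_twist n ψ hg
  rw [Finset.sum_congr rfl h1, Finset.sum_const, H.card_orbF hψ, nsmul_eq_mul]

omit [Finite G] in
theorem theta_eq_iff {ψ φ : ↥(P : Subgroup G) →* ℂˣ} : theta ψ = theta φ ↔ ψ ∈ orb φ := by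
  classical
  constructor
  · intro h
    have h1 := classInner_theta_chi ψ ψ
    rw [if_pos (mem_orb_self ψ), h, classInner_theta_chi, ] at h1
    by_contra hc
    rw [if_neg hc] at h1
    exact zero_ne_one h1
  · exact theta_eq_of_mem

/-- The function `m - t`. -/
def beta (m : ℕ) (t : ↥(P : Subgroup G) → ℂ) : ↥(P : Subgroup G) → ℂ := fun y => (m : ℂ) - t y

omit [Fintype (P : Subgroup G)] [Finite G] [Fintype (↥(P : Subgroup G) →* ℂˣ)] in
theorem beta_inv {t : ↥(P : Subgroup G) → ℂ} (ht : Inv t) : Inv (beta m t) := by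
  intro n hn w w' e
  simp only [beta, ht n hn w w' e]

omit [Fintype (P : Subgroup G)] [Finite G] [Fintype (↥(P : Subgroup G) →* ℂˣ)] in
theorem chi_one_eq : chi (1 : ↥(P : Subgroup G) →* ℂˣ) = fun _ => 1 := rfl

omit [Finite G] [Fintype (↥(P : Subgroup G) →* ℂˣ)] in
theorem beta_eq (t : ↥(P : Subgroup G) → ℂ) : beta m t = (m : ℂ) • chi (1 : ↥(P : Subgroup G) →* ℂˣ) - t := by
  funext y
  simp [beta, chi_one_eq]

omit [Finite G] [Fintype (↥(P : Subgroup G) →* ℂˣ)] in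
theorem classInner_beta_left (t g : ↥(P : Subgroup G) → ℂ) :
    classInner (beta m t) g = m * classInner (chi (1 : ↥(P : Subgroup G) →* ℂˣ)) g - classInner t g := by
  rw [beta_eq, classInner_sub_left, classInner_smul_left]

omit [Finite G] [Fintype (↥(P : Subgroup G) →* ℂˣ)] in
theorem classInner_beta_right (t g : ↥(P : Subgroup G) → ℂ) :
    classInner g (beta m t) = m * classInner g (chi (1 : ↥(P : Subgroup G) →* ℂˣ)) - classInner g t := by
  rw [beta_eq, classInner_sub_right, classInner_smul_right, Complex.conj_natCast]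

theorem beta_theta_one (H : Hyp P m) {ψ : ↥(P : Subgroup G) →* ℂˣ} (hψ : ψ ≠ 1) : beta m (theta ψ) 1 = 0 := by
  rw [beta, theta_one H hψ, sub_self]

omit [Finite G] in
theorem classInner_theta_one {ψ : ↥(P : Subgroup G) →* ℂˣ} (hψ : ψ ≠ 1) :
    classInner (theta ψ) (chi (1 : ↥(P : Subgroup G) →* ℂˣ)) = 0 := by
  classical
  rw [classInner_theta_chi, if_neg]
  intro h
  exact ne_one_of_mem_orb h hψ rfl

/-- The inner products of the `β`. -/
theorem classInner_beta_beta (H : Hyp P m) {ψ φ : ↥(P : Subgroup G) →* ℂˣ} (hψ : ψ ≠ 1) (hφ : φ ≠ 1) :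
    classInner (beta m (theta ψ)) (beta m (theta φ)) =
      m * (m + if theta ψ = theta φ then 1 else 0) := by
  classical
  rw [classInner_beta_left, classInner_beta_right, classInner_beta_right]
  have h1 : classInner (chi (1 : ↥(P : Subgroup G) →* ℂˣ)) (chi (1 : ↥(P : Subgroup G) →* ℂˣ)) = 1 := by
    rw [classInner_chi, if_pos rfl]
  have h2 : classInner (chi (1 : ↥(P : Subgroup G) →* ℂˣ)) (theta φ) = 0 := by
    rw [← classInner_conj_symm, classInner_theta_one hφ, map_zero]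
  have h3 := classInner_theta_one hψ
  have h4 : classInner (theta ψ) (theta φ) = m * (if theta ψ = theta φ then 1 else 0) := by
    rw [classInner_theta_inv H hψ (theta_inv φ), ← classInner_conj_symm, classInner_theta_chi]
    by_cases h : theta ψ = theta φ
    · rw [if_pos h, if_pos (theta_eq_iff.1 h), map_one]
    · rw [if_neg h, if_neg (fun h' => h (theta_eq_iff.2 h')), map_zero]
  rw [h1, h2, h3, h4]
  ring

end Forms

section Coef

variable {G : Type*} [Group G] [Fintype G] {p : ℕ} {P : Sylow p G} {m : ℕ}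
  [Fintype (P : Subgroup G)] [Fintype (↥(P : Subgroup G) →* ℂˣ)]
  {M : Ideal AlgInt}

open Cfsg.Agent.Lib.Char.Virtual

/-- Restriction to `P`. -/
def resP (P : Sylow p G) (χ : G → ℂ) : ↥(P : Subgroup G) → ℂ := fun y => χ y

omit [Fintype G] [Fintype (P : Subgroup G)] [Fintype (↥(P : Subgroup G) →* ℂˣ)] in
theorem resP_inv {χ : G → ℂ} (hχ : IsClassFunction G χ) : Inv (resP P χ) := by
  intro n _ w w' e
  simp only [resP, e]
  exact hχ _ _

omit [Fintype G] [Fintype (↥(P : Subgroup G) →* ℂˣ)] in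
open Classical in
theorem sum_erase_eq {f : ↥(P : Subgroup G) → ℂ} (hf : f 1 = 0) (h : ↥(P : Subgroup G) → ℂ) :
    ((m : ℂ) * (Nat.card (P : Subgroup G) : ℂ))⁻¹ *
        ∑ y ∈ (Finset.univ.erase 1 : Finset ↥(P : Subgroup G)), f y * conj (h y) =
      (m : ℂ)⁻¹ * classInner f h := by
  rw [Finset.sum_erase _ (by rw [hf, zero_mul]), classInner, mul_inv, mul_assoc]

omit [Fintype (↥(P : Subgroup G) →* ℂˣ)] in
theorem coef_eq {f : ↥(P : Subgroup G) → ℂ} (hf : f 1 = 0) (χ : IrrCharacter G) :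
    coef P m f χ = (m : ℂ)⁻¹ * classInner f (resP P χ) :=
  sum_erase_eq hf _

theorem Hyp.coef_beta (H : Hyp P m) (hm : m ≠ 0) {ψ : ↥(P : Subgroup G) →* ℂˣ} (hψ : ψ ≠ 1) (χ : IrrCharacter G) :
    coef P m (beta m (theta ψ)) χ = classInner (chi (1 : ↥(P : Subgroup G) →* ℂˣ)) (resP P χ) -
      classInner (chi ψ) (resP P χ) := by
  have hm' : (m : ℂ) ≠ 0 := Nat.cast_ne_zero.2 hm
  rw [coef_eq (beta_theta_one H hψ), classInner_beta_left,
    classInner_theta_inv H hψ (resP_inv (Cfsg.Agent.Lib.Char.Basic.isClassFunction_of_isCharacter (Cfsg.Agent.Lib.Char.Basic.isCharacter_of_isIrrCharacter χ.2)))]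
  field_simp

omit [Fintype (↥(P : Subgroup G) →* ℂˣ)] in
theorem exists_int_chi (ψ : ↥(P : Subgroup G) →* ℂˣ) (χ : IrrCharacter G) :
    ∃ n : ℤ, classInner (chi ψ) (resP P χ) = n :=
  exists_int_classInner (isGeneralized_of_isIrr (chi_isIrr ψ))
    (isGeneralized_of_isCharacter (Cfsg.Agent.Lib.Char.Basic.isCharacter_restrict
      (Cfsg.Agent.Lib.Char.Basic.isCharacter_of_isIrrCharacter χ.2) _))

theorem Hyp.exists_int_coef (H : Hyp P m) (hm : m ≠ 0) {ψ : ↥(P : Subgroup G) →* ℂˣ} (hψ : ψ ≠ 1) (χ : IrrCharacter G) :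
    ∃ n : ℤ, coef P m (beta m (theta ψ)) χ = n := by
  obtain ⟨a, ha⟩ := exists_int_chi (1 : ↥(P : Subgroup G) →* ℂˣ) χ
  obtain ⟨b, hb⟩ := exists_int_chi ψ χ
  refine ⟨a - b, ?_⟩
  rw [H.coef_beta hm hψ, ha, hb]
  push_cast
  ring

open Classical in
/-- The values on `P#` from the coefficients. -/
theorem Hyp.value_formula (H : Hyp P m) (hm : m ≠ 0) (χ : IrrCharacter G)
    (e : (↥(P : Subgroup G) →* ℂˣ) → ℂ) (he : ∀ ψ, ψ ≠ 1 → coef P m (beta m (theta ψ)) χ = e ψ)
    {y : ↥(P : Subgroup G)} (hy : y ≠ 1) :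
    (χ : G → ℂ) y = - ∑ φ ∈ (Finset.univ.erase 1 : Finset (↥(P : Subgroup G) →* ℂˣ)), e φ * ((φ y : ℂˣ) : ℂ) := by
  have hA : ∀ a b : ↥(P : Subgroup G), a * b = b * a := fun a b => Subtype.ext (H.comm a.2 b.2)
  have h1 := inversion hA (resP P χ) y
  have h2 : ∀ φ : ↥(P : Subgroup G) →* ℂˣ, classInner (resP P χ) (fun b => ((φ b : ℂˣ) : ℂ)) =
      classInner (chi φ) (resP P χ) := by
    intro φ
    obtain ⟨n, hn⟩ := exists_int_chi φ χ
    have h3 := classInner_conj_symm (chi φ) (resP P χ)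
    rw [hn, map_intCast, ← hn] at h3
    exact h3.symm
  simp only [h2] at h1
  rw [← Finset.add_sum_erase _ _ (Finset.mem_univ (1 : ↥(P : Subgroup G) →* ℂˣ))] at h1
  set c₁ := classInner (chi (1 : ↥(P : Subgroup G) →* ℂˣ)) (resP P χ) with hc₁
  have h4 : ∀ φ ∈ (Finset.univ.erase 1 : Finset (↥(P : Subgroup G) →* ℂˣ)),
      classInner (chi φ) (resP P χ) * ((φ y : ℂˣ) : ℂ) = c₁ * ((φ y : ℂˣ) : ℂ) - e φ * ((φ y : ℂˣ) : ℂ) := by
    intro φ hφ
    have h5 := H.coef_beta hm (Finset.ne_of_mem_erase hφ) χ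
    rw [he φ (Finset.ne_of_mem_erase hφ)] at h5
    rw [h5]
    ring
  rw [Finset.sum_congr rfl h4, Finset.sum_sub_distrib, ← Finset.mul_sum, sum_erase_dual hA hy] at h1
  have h6 : (χ : G → ℂ) y = resP P χ y := rfl
  rw [h6, h1]
  simp only [MonoidHom.one_apply, Units.val_one, mul_one]
  ring

end Coef

end Cfsg.Agent.Lib.Blocks.AbFrob
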