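/-
Abelian defect: the abstract lattice attached to a free action on an abelian `p`-group.
-/
import Mathlib
import Cfsg.Agent.Lib.Blocks.AbFree9
import Cfsg.Agent.Lib.Blocks.AbFrob2

set_option autoImplicit false
set_option linter.style.haveILetI false

namespace Cfsg.Agent.Lib.Blocks.AbFree

open Cfsg Cfsg.Agent.Lib.Blocks.Local Cfsg.Agent.Lib.Blocks.Central Cfsg.Agent.Lib.Blocks.Nilp
open Cfsg.Agent.Lib.Char.Virtual
open ComplexConjugate

universe u

section Reps

/-- Representatives of the orbits of a free action on an invariant finite set. -/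
theorem exists_reps {X E : Type*} [Group E] [Fintype E] (act : E → X → X) (h1 : ∀ x, act 1 x = x)
    (hm : ∀ σ τ x, act (σ * τ) x = act σ (act τ x)) (Y : Finset X) (hY : ∀ σ, ∀ x ∈ Y, act σ x ∈ Y)
    (hfree : ∀ σ, ∀ x ∈ Y, act σ x = x → σ = 1) :
    ∃ R : Finset X, R ⊆ Y ∧ (∀ x ∈ Y, ∃! r, r ∈ R ∧ ∃ σ, act σ x = r) ∧ R.card * Fintype.card E = Y.card := by
  classical
  let s : Setoid X :=
    { r := fun x y => ∃ σ, act σ x = y
      iseqv := ⟨fun x => ⟨1, h1 x⟩, fun {x y} ⟨σ, hσ⟩ => ⟨σ⁻¹, by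
        rw [← hσ, ← hm, inv_mul_cancel, h1]⟩, fun {x y z} ⟨σ, hσ⟩ ⟨τ, hτ⟩ => ⟨τ * σ, by
        rw [hm, hσ, hτ]⟩⟩ }
  let mk : X → Quotient s := Quotient.mk s
  have hmk : ∀ x y, mk x = mk y ↔ ∃ σ, act σ x = y := fun x y => Quotient.eq (r := s)
  have hout : ∀ ω : Quotient s, mk (Quotient.out ω) = ω := fun ω => Quotient.out_eq ω
  let Ω : Finset (Quotient s) := Y.image mk
  have houtY : ∀ ω ∈ Ω, Quotient.out ω ∈ Y := by
    intro ω hω
    obtain ⟨x, hx, rfl⟩ := Finset.mem_image.mp hω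
    obtain ⟨σ, hσ⟩ := (hmk x (Quotient.out (mk x))).mp (hout (mk x)).symm
    rw [← hσ]
    exact hY σ x hx
  refine ⟨Ω.image Quotient.out, ?_, ?_, ?_⟩
  · intro r hr
    obtain ⟨ω, hω, rfl⟩ := Finset.mem_image.mp hr
    exact houtY ω hω
  · intro x hx
    refine ⟨Quotient.out (mk x), ⟨Finset.mem_image.mpr ⟨mk x, Finset.mem_image.mpr ⟨x, hx, rfl⟩, rfl⟩, ?_⟩, ?_⟩
    · exact (hmk x (Quotient.out (mk x))).mp (hout (mk x)).symm
    · rintro r ⟨hr, σ, hσ⟩
      obtain ⟨ω, -, rfl⟩ := Finset.mem_image.mp hr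
      have h2 : mk x = mk (Quotient.out ω) := (hmk _ _).mpr ⟨σ, hσ⟩
      rw [h2, hout]
  · rw [Finset.card_image_of_injective _ Quotient.out_injective]
    have h2 := Finset.card_eq_sum_card_image mk Y
    have h3 : ∀ ω ∈ Y.image mk, (Y.filter (fun x => mk x = ω)).card = Fintype.card E := by
      intro ω hω
      obtain ⟨x₀, hx₀, rfl⟩ := Finset.mem_image.mp hω
      have h4 : Y.filter (fun x => mk x = mk x₀) = Finset.univ.image (fun σ : E => act σ x₀) := by
        ext x
        simp only [Finset.mem_filter, Finset.mem_image, Finset.mem_univ, true_and]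
        constructor
        · rintro ⟨-, h⟩
          exact (hmk x₀ x).mp h.symm
        · rintro ⟨σ, rfl⟩
          exact ⟨hY σ x₀ hx₀, ((hmk x₀ _).mpr ⟨σ, rfl⟩).symm⟩
      rw [h4, Finset.card_image_of_injective, Finset.card_univ]
      intro σ τ h
      have h5 : act (τ⁻¹ * σ) x₀ = x₀ := by
        rw [hm]
        show act τ⁻¹ (act σ x₀) = x₀
        have h6 : act σ x₀ = act τ x₀ := h
        rw [h6, ← hm, inv_mul_cancel, h1]
      have h7 := hfree _ x₀ hx₀ h5
      exact (inv_mul_eq_one.mp h7).symm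
    rw [Finset.sum_congr rfl h3, Finset.sum_const, smul_eq_mul] at h2
    exact h2.symm

end Reps

section Dual

variable {A : Type u} [Group A] [Fintype A]

omit [Fintype A] in
lemma comm_aux (hc : ∀ a b : A, a * b = b * a) (x y z w : A) (h : x * y⁻¹ = z * w⁻¹) : x * z⁻¹ = y * w⁻¹ := by
  letI : CommGroup A := { ‹Group A› with mul_comm := hc }
  have h1 : x / y = z / w := by simpa only [div_eq_mul_inv] using h
  have h2 := div_eq_div_iff_mul_eq_mul.mp h1
  have h3 : x / z = y / w := div_eq_div_iff_mul_eq_mul.mpr (by rw [h2, mul_comm])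
  simpa only [div_eq_mul_inv] using h3

/-- An automorphism without nontrivial fixed points acts without fixed points on the nontrivial characters. -/
theorem eq_one_of_comp_eq (hc : ∀ a b : A, a * b = b * a) {σ : MulAut A}
    (hσ : σ ≠ 1 → ∀ v : A, σ v = v → v = 1) {φ : A →* ℂˣ} (hφ : φ ≠ 1)
    (h : φ.comp σ.toMonoidHom = φ) : σ = 1 := by
  by_contra hne
  apply hφ
  have hinj : Function.Injective (fun a : A => σ a * a⁻¹) := by
    intro a b hab
    have h1 : σ (a * b⁻¹) = a * b⁻¹ := by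
      rw [map_mul, map_inv]
      exact comm_aux hc _ _ _ _ hab
    have h3 := hσ hne _ h1
    exact mul_inv_eq_one.mp h3
  have hsurj := Finite.injective_iff_surjective.mp hinj
  ext a
  obtain ⟨b, rfl⟩ := hsurj a
  have h1 : φ (σ b) = φ b := by
    have := congrArg (fun f : A →* ℂˣ => f b) h
    simpa using this
  simp only [map_mul, map_inv, h1, MonoidHom.one_apply, mul_inv_cancel]

end Dual

section Lat

variable {G : Type u} [Group G] [Fintype G] {A : Type u} [Group A] [Fintype A]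

/-- The coefficient of a character of the group in the image of `φ - 1`. -/
noncomputable def cc (F : IrrCharacter G → A → ℂ) (χ : IrrCharacter G) (φ : A →* ℂˣ) : ℂ := by
  classical
  exact (Nat.card A : ℂ)⁻¹ * ∑ v ∈ (Finset.univ.erase 1 : Finset A), (((φ v : ℂˣ) : ℂ) - 1) * conj (F χ v)

open Classical in
lemma cc_def (F : IrrCharacter G → A → ℂ) (χ : IrrCharacter G) (φ : A →* ℂˣ) :
    cc F χ φ = (Nat.card A : ℂ)⁻¹ * ∑ v ∈ (Finset.univ.erase 1 : Finset A), (((φ v : ℂˣ) : ℂ) - 1) * conj (F χ v) := by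
  unfold cc
  congr!

open Classical in
/-- The hypotheses of the lattice. -/
structure LatHyp (p : ℕ) (S : Finset (IrrCharacter G)) (F : IrrCharacter G → A → ℂ) (E : Subgroup (MulAut A)) : Prop where
  hc : ∀ a b : A, a * b = b * a
  hpg : IsPGroup p A
  hfree : ∀ σ ∈ E, ∀ v, v ≠ 1 → σ v = v → σ = 1
  gen : ∃ m' : ℤ, ¬ (p : ℤ) ∣ m' ∧ ∀ χ ∈ S, ∃ R : A → ℂ, IsGeneralizedCharacter A R ∧ ∀ v, v ≠ 1 → R v = m' * F χ v
  inv : ∀ χ ∈ S, ∀ σ ∈ E, ∀ v, v ≠ 1 → F χ (σ v) = F χ v
  orth : ∀ u v, u ≠ 1 → v ≠ 1 → ∑ χ ∈ S, F χ u * conj (F χ v) = if ∃ σ ∈ E, σ u = v then (Nat.card A : ℂ) else 0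
  one : ∀ v, v ≠ 1 → ∑ χ ∈ S, (χ : G → ℂ) 1 * conj (F χ v) = 0
  int : ∀ χ ∈ S, ∀ v, v ≠ 1 → IsIntegral ℤ (F χ v)
  nz : ∀ χ ∈ S, ∃ v, v ≠ 1 ∧ F χ v ≠ 0

variable {p : ℕ} [hp : Fact p.Prime] {S : Finset (IrrCharacter G)} {F : IrrCharacter G → A → ℂ} {E : Subgroup (MulAut A)}

omit [Fintype G] in
lemma isIntegral_dual (φ : A →* ℂˣ) (v : A) : IsIntegral ℤ (((φ v : ℂˣ) : ℂ)) := by
  have h1 : ((φ v : ℂˣ) : ℂ) ^ (orderOf v) = 1 := by
    rw [← Units.val_pow_eq_pow_val, ← map_pow, pow_orderOf_eq_one, map_one, Units.val_one]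
  exact IsIntegral.of_pow (orderOf_pos v) (h1 ▸ isIntegral_one)

/-- The coefficients are integers. -/
theorem LatHyp.cc_int (H : LatHyp p S F E) {χ : IrrCharacter G} (hχ : χ ∈ S) (φ : A →* ℂˣ) :
    ∃ n : ℤ, cc F χ φ = n := by
  classical
  obtain ⟨m', hm', hR⟩ := H.gen
  obtain ⟨R, hRg, hRv⟩ := hR χ hχ
  have hφ : IsGeneralizedCharacter A (fun b => ((φ b : ℂˣ) : ℂ)) :=
    isGeneralized_of_isIrr (Cfsg.Agent.Lib.Char.LinearChars.isIrr_of_hom φ)
  have h1' : IsGeneralizedCharacter A (fun b => (((1 : A →* ℂˣ) b : ℂˣ) : ℂ)) :=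
    isGeneralized_of_isIrr (Cfsg.Agent.Lib.Char.LinearChars.isIrr_of_hom 1)
  obtain ⟨n₁, hn₁⟩ := exists_int_classInner hφ hRg
  obtain ⟨n₂, hn₂⟩ := exists_int_classInner h1' hRg
  have h2 : (m' : ℂ) * cc F χ φ = ((n₁ - n₂ : ℤ) : ℂ) := by
    push_cast
    rw [← hn₁, ← hn₂, cc_def, mul_left_comm]
    simp only [classInner]
    rw [← mul_sub, ← Finset.sum_sub_distrib, ← Finset.add_sum_erase _ _ (Finset.mem_univ (1 : A))]
    simp only [map_one, MonoidHom.one_apply, Units.val_one, sub_self, add_zero, zero_add]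
    congr 1
    rw [Finset.mul_sum]
    refine Finset.sum_congr rfl fun v hv => ?_
    rw [hRv v (Finset.ne_of_mem_erase hv), map_mul, map_intCast]
    ring_nf
  obtain ⟨k, hk⟩ := IsPGroup.iff_card.mp H.hpg
  obtain ⟨w, hw⟩ := exists_int_of_mul (p := p) (k := k) hm' h2 (by
    rw [cc_def, ← Nat.cast_pow, ← hk, mul_inv_cancel_left₀ (Nat.cast_ne_zero.mpr Nat.card_pos.ne')]
    refine IsIntegral.sum _ fun v hv => IsIntegral.mul (IsIntegral.sub (isIntegral_dual φ v) isIntegral_one) ?_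
    exact (H.int χ hχ v (Finset.ne_of_mem_erase hv)).map (RingHom.toIntAlgHom (starRingEnd ℂ)))
  exact ⟨w, hw⟩

/-- Invariance of the coefficients. -/
theorem LatHyp.cc_comp (H : LatHyp p S F E) {χ : IrrCharacter G} (hχ : χ ∈ S) {σ : MulAut A} (hσ : σ ∈ E)
    (φ : A →* ℂˣ) : cc F χ (φ.comp σ.toMonoidHom) = cc F χ φ := by
  classical
  rw [cc_def, cc_def]
  congr 1
  refine Finset.sum_equiv σ.toEquiv ?_ ?_
  · intro v
    simp only [Finset.mem_erase, Finset.mem_univ, and_true]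
    simp
  · intro v hv
    have h1 := H.inv χ hχ σ hσ v (Finset.ne_of_mem_erase hv)
    simp only [MonoidHom.comp_apply]
    rw [← h1]
    rfl

/-- The norm of the difference of two nontrivial characters and the trivial one. -/
lemma inner_sub_one {φ ψ : A →* ℂˣ} (hφ : φ ≠ 1) (hψ : ψ ≠ 1) [DecidableEq A] :
    (Nat.card A : ℂ)⁻¹ * ∑ u ∈ (Finset.univ.erase 1 : Finset A),
      (((φ u : ℂˣ) : ℂ) - 1) * conj (((ψ u : ℂˣ) : ℂ) - 1) = 1 + if φ = ψ then 1 else 0 := by
  classical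
  let ch : (A →* ℂˣ) → A → ℂ := fun θ b => ((θ b : ℂˣ) : ℂ)
  have hirr : ∀ θ, IsIrrCharacter A (ch θ) := fun θ => Cfsg.Agent.Lib.Char.LinearChars.isIrr_of_hom θ
  have hinj : ∀ θ θ' : A →* ℂˣ, ch θ = ch θ' → θ = θ' := by
    intro θ θ' h
    ext b
    exact congrFun h b
  have hin : ∀ θ θ' : A →* ℂˣ, classInner (ch θ) (ch θ') = if θ = θ' then 1 else 0 := by
    intro θ θ'
    rw [Cfsg.Agent.Lib.Char.Ortho.classInner_irr (hirr θ) (hirr θ')]
    by_cases h : θ = θ'
    · rw [if_pos h, if_pos (by rw [h])]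
    · rw [if_neg h, if_neg (fun h' => h (hinj _ _ h'))]
  have h1 : classInner (ch φ - ch 1) (ch ψ - ch 1) = 1 + if φ = ψ then 1 else 0 := by
    rw [classInner_sub_left, classInner_sub_right, classInner_sub_right, hin, hin, hin, hin, if_neg hφ, if_neg hψ.symm,
      if_pos rfl]
    ring
  rw [← h1, classInner, ← Finset.add_sum_erase _ _ (Finset.mem_univ (1 : A))]
  simp only [Pi.sub_apply, ch, map_one, MonoidHom.one_apply, Units.val_one, sub_self, zero_mul, zero_add]

/-- **The bilinear form on the coefficients.** -/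
theorem LatHyp.cc_bil (H : LatHyp p S F E) [Fintype E] {φ ψ : A →* ℂˣ} (hφ : φ ≠ 1) (hψ : ψ ≠ 1) :
    ∑ χ ∈ S, cc F χ φ * conj (cc F χ ψ) =
      ∑ σ : E, (1 + if φ = ψ.comp (σ : MulAut A).toMonoidHom then (1 : ℂ) else 0) := by
  classical
  have hW : (Nat.card A : ℂ) ≠ 0 := Nat.cast_ne_zero.mpr Nat.card_pos.ne'
  have h1 : ∀ χ : IrrCharacter G, cc F χ φ * conj (cc F χ ψ) = (Nat.card A : ℂ)⁻¹ * (Nat.card A : ℂ)⁻¹ *
      ∑ u ∈ (Finset.univ.erase 1 : Finset A), ∑ v ∈ (Finset.univ.erase 1 : Finset A),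
        ((((φ u : ℂˣ) : ℂ) - 1) * conj (((ψ v : ℂˣ) : ℂ) - 1)) * conj (F χ u * conj (F χ v)) := by
    intro χ
    rw [cc_def, cc_def]
    simp only [map_mul, map_sum, map_inv₀, map_natCast, Complex.conj_conj]
    rw [mul_mul_mul_comm, Finset.sum_mul_sum]
    congr 1
    refine Finset.sum_congr rfl fun u _ => Finset.sum_congr rfl fun v _ => ?_
    ring
  rw [Finset.sum_congr rfl fun χ _ => h1 χ, ← Finset.mul_sum, Finset.sum_comm]
  have h2 : ∀ u ∈ (Finset.univ.erase 1 : Finset A), ∑ χ ∈ S, ∑ v ∈ (Finset.univ.erase 1 : Finset A),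
      ((((φ u : ℂˣ) : ℂ) - 1) * conj (((ψ v : ℂˣ) : ℂ) - 1)) * conj (F χ u * conj (F χ v)) =
      (Nat.card A : ℂ) * ∑ σ : E, (((φ u : ℂˣ) : ℂ) - 1) * conj (((ψ ((σ : MulAut A) u) : ℂˣ) : ℂ) - 1) := by
    intro u hu
    have hu1 : u ≠ 1 := Finset.ne_of_mem_erase hu
    rw [Finset.sum_comm]
    have h3 : ∀ v ∈ (Finset.univ.erase 1 : Finset A), ∑ χ ∈ S,
        ((((φ u : ℂˣ) : ℂ) - 1) * conj (((ψ v : ℂˣ) : ℂ) - 1)) * conj (F χ u * conj (F χ v)) =
        ((((φ u : ℂˣ) : ℂ) - 1) * conj (((ψ v : ℂˣ) : ℂ) - 1)) * (if ∃ σ ∈ E, σ u = v then (Nat.card A : ℂ) else 0) := by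
      intro v hv
      rw [← Finset.mul_sum, ← map_sum, H.orth u v hu1 (Finset.ne_of_mem_erase hv)]
      congr 1
      split_ifs <;> simp
    rw [Finset.sum_congr rfl h3]
    have h4 : (Finset.univ.image (fun σ : E => (σ : MulAut A) u)) =
        (Finset.univ.erase 1 : Finset A).filter (fun v => ∃ σ ∈ E, σ u = v) := by
      ext v
      simp only [Finset.mem_image, Finset.mem_univ, true_and, Finset.mem_filter, Finset.mem_erase, and_true, Subtype.exists,
        exists_prop]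
      constructor
      · rintro ⟨σ, hσ, rfl⟩
        refine ⟨?_, σ, hσ, rfl⟩
        intro h
        apply hu1
        simpa using h
      · rintro ⟨-, σ, hσ, rfl⟩
        exact ⟨σ, hσ, rfl⟩
    have hinj : Function.Injective (fun σ : E => (σ : MulAut A) u) := by
      intro σ τ h
      have h5 : ((τ⁻¹ * σ : E) : MulAut A) u = u := by
        show (τ : MulAut A)⁻¹ ((σ : MulAut A) u) = u
        have h6 : (σ : MulAut A) u = (τ : MulAut A) u := h
        rw [h6]
        simp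
      have h7 := H.hfree _ (τ⁻¹ * σ : E).2 u hu1 h5
      have h8 : τ⁻¹ * σ = 1 := Subtype.ext h7
      exact (inv_mul_eq_one.mp h8).symm
    simp only [mul_ite, mul_zero]
    rw [← Finset.sum_filter, ← h4, Finset.sum_image (fun a _ b _ h => hinj h), Finset.mul_sum]
    refine Finset.sum_congr rfl fun σ _ => ?_
    ring
  rw [Finset.sum_congr rfl h2, ← Finset.mul_sum, Finset.sum_comm, mul_assoc, inv_mul_cancel_left₀ hW]
  rw [Finset.mul_sum]
  refine Finset.sum_congr rfl fun σ _ => ?_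
  have hψσ : ψ.comp (σ : MulAut A).toMonoidHom ≠ 1 := by
    intro h
    apply hψ
    ext a
    have h5 := congrArg (fun f : A →* ℂˣ => f ((σ : MulAut A)⁻¹ a)) h
    simpa using h5
  have h6 := inner_sub_one hφ hψσ
  rw [← h6]
  simp only [MonoidHom.comp_apply]
  rfl

/-- The images have degree zero. -/
theorem LatHyp.cc_one (H : LatHyp p S F E) (φ : A →* ℂˣ) : ∑ χ ∈ S, cc F χ φ * (χ : G → ℂ) 1 = 0 := by
  classical
  have h1 : ∀ χ : IrrCharacter G, cc F χ φ * (χ : G → ℂ) 1 = (Nat.card A : ℂ)⁻¹ *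
      ∑ v ∈ (Finset.univ.erase 1 : Finset A), (((φ v : ℂˣ) : ℂ) - 1) * ((χ : G → ℂ) 1 * conj (F χ v)) := by
    intro χ
    rw [cc_def, mul_assoc, Finset.sum_mul]
    congr 1
    refine Finset.sum_congr rfl fun v _ => ?_
    ring
  rw [Finset.sum_congr rfl fun χ _ => h1 χ, ← Finset.mul_sum, Finset.sum_comm]
  apply mul_eq_zero_of_right
  refine Finset.sum_eq_zero fun v hv => ?_
  rw [← Finset.mul_sum, H.one v (Finset.ne_of_mem_erase hv), mul_zero]

/-- A member of the family has a nonzero coefficient at a nontrivial character. -/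
theorem LatHyp.cc_nz (H : LatHyp p S F E) {χ : IrrCharacter G} (hχ : χ ∈ S) : ∃ φ : A →* ℂˣ, φ ≠ 1 ∧ cc F χ φ ≠ 0 := by
  classical
  by_contra hcon
  push Not at hcon
  haveI : Finite (A →* ℂˣ) := Cfsg.Agent.Lib.Blocks.AbFrob.finite_dual H.hc
  letI : Fintype (A →* ℂˣ) := Fintype.ofFinite _
  obtain ⟨v₀, hv₀, hne⟩ := H.nz χ hχ
  let Φ : A → ℂ := fun v => if v = 1 then 0 else F χ v
  obtain ⟨C, hC⟩ : ∃ C : ℂ, C = (Nat.card A : ℂ)⁻¹ * ∑ u ∈ (Finset.univ.erase 1 : Finset A), conj (F χ u) := ⟨_, rfl⟩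
  have h1 : ∀ φ : A →* ℂˣ, conj (classInner Φ (fun b => ((φ b : ℂˣ) : ℂ))) = cc F χ φ + C := by
    intro φ
    rw [classInner, cc_def, hC, ← mul_add, ← Finset.sum_add_distrib, ← Finset.add_sum_erase _ _ (Finset.mem_univ (1 : A))]
    simp only [Φ, if_true, zero_mul, zero_add, map_mul, map_inv₀, map_natCast, map_sum, Complex.conj_conj]
    congr 1
    refine Finset.sum_congr rfl fun u hu => ?_
    rw [if_neg (Finset.ne_of_mem_erase hu)]
    ring
  have h2 : ∀ φ : A →* ℂˣ, conj (classInner Φ (fun b => ((φ b : ℂˣ) : ℂ))) = C := by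
    intro φ
    rw [h1]
    by_cases hφ : φ = 1
    · subst hφ
      rw [cc_def]
      simp
    · rw [hcon φ hφ, zero_add]
  have h3 : ∀ φ : A →* ℂˣ, classInner Φ (fun b => ((φ b : ℂˣ) : ℂ)) = conj C := by
    intro φ
    rw [← h2 φ, Complex.conj_conj]
  have h4 := Cfsg.Agent.Lib.Blocks.AbFrob.inversion H.hc Φ v₀
  simp only [h3] at h4
  rw [← Finset.mul_sum, Cfsg.Agent.Lib.Blocks.AbFrob.sum_dual H.hc, if_neg hv₀, mul_zero] at h4
  apply hne
  simpa only [Φ, if_neg hv₀] using h4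

omit [Fintype A] in
/-- **The standard form of the lattice.** -/
theorem lattice_std {T : Type*} [Fintype T] [DecidableEq T] (S : Finset (IrrCharacter G)) (n : IrrCharacter G → T → ℤ)
    (e : ℕ) (hgram : ∀ s t, ∑ χ ∈ S, n χ s * n χ t = if s = t then (e : ℤ) + 1 else e)
    (hone : ∀ t, ∑ χ ∈ S, (n χ t : ℂ) * (χ : G → ℂ) 1 = 0) (hT : 2 ≤ Fintype.card T) :
    ∃ (D : ℤ) (f : T → IrrCharacter G) (a : IrrCharacter G → ℤ), Function.Injective f ∧ (∀ t, f t ∈ S) ∧
      (∀ t, ∀ χ ∈ S, χ ∉ Set.range f → n χ t = a χ) ∧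
      ∑ χ ∈ S.filter (· ∉ Set.range f), a χ ^ 2 = (e : ℤ) - (Fintype.card T : ℤ) * D ^ 2 + 2 * D := by
  classical
  let α : T → G → ℂ := fun t => ∑ χ ∈ S, (n χ t : ℂ) • (χ : G → ℂ)
  have hαi : ∀ (t : T) (χ : IrrCharacter G), classInner (α t) (χ : G → ℂ) = if χ ∈ S then (n χ t : ℂ) else 0 := by
    intro t χ
    simp only [α]
    rw [classInner_finset_sum_left]
    have h1 : ∀ η ∈ S, classInner ((n η t : ℂ) • (η : G → ℂ)) (χ : G → ℂ) = if η = χ then (n η t : ℂ) else 0 := by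
      intro η _
      rw [classInner_smul_left, Cfsg.Agent.Lib.Char.Ortho.classInner_irr η.2 χ.2]
      by_cases h : η = χ
      · rw [if_pos h, if_pos (by rw [h]), mul_one]
      · rw [if_neg h, if_neg (fun h' => h (Subtype.ext h')), mul_zero]
    rw [Finset.sum_congr rfl h1, Finset.sum_ite_eq']
  have hgen : ∀ s : T, IsGeneralizedCharacter G (α s) := fun s =>
    isGeneralized_finset_sum _ fun χ _ => isGeneralized_intCast_smul (isGeneralized_of_isIrr χ.2) _
  have hinner : ∀ s t : T, classInner (α s) (α t) = if s = t then (e : ℂ) + 1 else e := by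
    intro s t
    have h1 : classInner (α s) (α t) = ((∑ χ ∈ S, n χ s * n χ t : ℤ) : ℂ) := by
      conv_lhs => rw [show α t = ∑ χ ∈ S, (n χ t : ℂ) • (χ : G → ℂ) from rfl]
      rw [classInner_finset_sum_right]
      push_cast
      refine Finset.sum_congr rfl fun χ hχ => ?_
      rw [classInner_smul_right, hαi, if_pos hχ, map_intCast]
      ring
    rw [h1, hgram]
    split_ifs <;> simp
  have hα1 : ∀ t, α t 1 = 0 := by
    intro t
    simp only [α, Finset.sum_apply, Pi.smul_apply, smul_eq_mul]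
    exact hone t
  obtain ⟨ε', f, hε', hinj, hD⟩ := Cfsg.Agent.Lib.Char.FrobPair.exists_signed_injection (G := G) (T := T)
    (fun s t => α t - α s)
    (fun s t u => by abel)
    (fun s t => isGeneralized_sub (hgen t) (hgen s))
    (fun s t => by
      simp only [Pi.sub_apply, hα1, sub_self])
    (fun s t u hst hsu => by
      rw [classInner_sub_left, classInner_sub_right, classInner_sub_right, hinner, hinner, hinner, hinner,
        if_neg hst.symm, if_neg hsu, if_pos rfl]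
      split_ifs <;> ring)
  have hε2 : ε' * ε' = 1 := by
    rcases hε' with h | h <;> rw [h] <;> ring
  have hε0 : ε' ≠ 0 := by
    rcases hε' with h | h <;> rw [h] <;> norm_num
  have hεconj : conj ε' = ε' := by
    rcases hε' with h | h <;> rw [h] <;> simp
  have hff : ∀ s t : T, classInner (f s : G → ℂ) (f t : G → ℂ) = if s = t then 1 else 0 := by
    intro s t
    rw [Cfsg.Agent.Lib.Char.Ortho.classInner_irr (f s).2 (f t).2]
    by_cases h : s = t
    · rw [if_pos h, if_pos (by rw [h])]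
    · rw [if_neg h, if_neg (fun h' => h (hinj (Subtype.ext h')))]
  have hdiff : ∀ (s t : T) (χ : IrrCharacter G), classInner (α t) (χ : G → ℂ) - classInner (α s) (χ : G → ℂ) =
      ε' * (classInner (f s : G → ℂ) (χ : G → ℂ) - classInner (f t : G → ℂ) (χ : G → ℂ)) := by
    intro s t χ
    rw [← classInner_sub_left, hD s t, classInner_smul_left, classInner_sub_left]
  let dd : T → ℂ := fun t => classInner (α t) (f t : G → ℂ) + ε'
  have hdd : ∀ s t : T, s ≠ t → classInner (α s) (f t : G → ℂ) = dd t := by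
    intro s t hne
    have h1 := hdiff t s (f t)
    rw [hff, hff, if_pos rfl, if_neg hne] at h1
    simp only [dd]
    linear_combination h1
  have hconst : ∀ s t : T, dd s = dd t := by
    intro s t
    by_cases hne : s = t
    · rw [hne]
    have h1 : classInner (α s) (α s - α t) = 1 := by
      rw [classInner_sub_right, hinner, hinner, if_pos rfl, if_neg hne]
      ring
    have h2 : α s - α t = ε' • ((f t : G → ℂ) - (f s : G → ℂ)) := hD t s
    rw [h2, classInner_smul_right, hεconj, classInner_sub_right, hdd s t hne] at h1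
    have h3 : classInner (α s) (f s : G → ℂ) = dd s - ε' := by
      simp only [dd]
      ring
    rw [h3] at h1
    have h4 : ε' * (dd s - dd t) = 0 := by
      linear_combination hε2 - h1
    have := (mul_eq_zero.1 h4).resolve_left hε0
    exact sub_eq_zero.1 this
  obtain ⟨ε, hε⟩ : ∃ ε : ℤ, (ε : ℂ) = ε' ∧ (ε = 1 ∨ ε = -1) := by
    rcases hε' with h | h
    · exact ⟨1, by rw [h]; simp, Or.inl rfl⟩
    · exact ⟨-1, by rw [h]; simp, Or.inr rfl⟩
  obtain ⟨s₀, t₀, hst⟩ : ∃ s₀ t₀ : T, s₀ ≠ t₀ := by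
    have : Nontrivial T := Fintype.one_lt_card_iff_nontrivial.mp hT
    exact exists_pair_ne T
  -- the membership
  have hfS : ∀ t, f t ∈ S := by
    intro t
    obtain ⟨s, hs⟩ : ∃ s : T, s ≠ t := by
      by_cases h : s₀ = t
      · exact ⟨t₀, fun h' => hst (h.trans h'.symm)⟩
      · exact ⟨s₀, h⟩
    by_contra hn
    have h1 := hdiff t s (f t)
    rw [hff, hff, if_pos rfl, if_neg hs, hαi, hαi, if_neg hn, if_neg hn] at h1
    apply hε0
    linear_combination -h1
  have hval : ∀ s t : T, classInner (α s) (f t : G → ℂ) = (n (f t) s : ℂ) := by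
    intro s t
    rw [hαi, if_pos (hfS t)]
  -- the integer `d`
  obtain ⟨d, hd⟩ : ∃ d : ℤ, (d : ℂ) = dd s₀ := ⟨n (f s₀) s₀ + ε, by
    simp only [dd]
    rw [hval, ← hε.1]
    push_cast
    rfl⟩
  have hnY : ∀ s t : T, n (f t) s = d - ε * if s = t then 1 else 0 := by
    intro s t
    have h1 : ((n (f t) s : ℤ) : ℂ) = ((d - ε * (if s = t then 1 else 0) : ℤ) : ℂ) := by
      rw [← hval]
      push_cast
      rw [hd, hconst s₀ t]
      by_cases h : s = t
      · subst h
        rw [if_pos rfl, hε.1]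
        simp only [dd]
        ring
      · rw [if_neg h, hdd s t h]
        ring
    exact Int.cast_injective h1
  have hnX : ∀ s t : T, ∀ χ ∈ S, χ ∉ Set.range f → n χ s = n χ t := by
    intro s t χ hχS hχ
    have h1 := hdiff t s χ
    have h2 : ∀ u : T, classInner (f u : G → ℂ) (χ : G → ℂ) = 0 := by
      intro u
      apply Cfsg.Agent.Lib.Char.Ortho.classInner_irr_of_ne (f u).2 χ.2
      intro h
      exact hχ ⟨u, Subtype.ext h⟩
    rw [h2, h2, hαi, hαi, if_pos hχS, if_pos hχS] at h1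
    simp only [sub_self, mul_zero] at h1
    have h3 : ((n χ s : ℤ) : ℂ) = ((n χ t : ℤ) : ℂ) := sub_eq_zero.mp h1
    exact Int.cast_injective h3
  refine ⟨d * ε, f, fun χ => n χ s₀, hinj, hfS, fun t χ hχS hχ => hnX t s₀ χ hχS hχ, ?_⟩
  -- the norm
  have hsum : ∀ (R : Type) [AddCommMonoid R] (h : IrrCharacter G → R), ∑ χ ∈ S, h χ =
      ∑ χ ∈ S.filter (· ∉ Set.range f), h χ + ∑ t : T, h (f t) := by
    intro R _ h
    rw [← Finset.sum_filter_add_sum_filter_not S (· ∉ Set.range f)]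
    congr 1
    simp only [not_not]
    have h1 : S.filter (· ∈ Set.range f) = Finset.univ.image f := by
      ext χ
      simp only [Finset.mem_filter, Set.mem_range, Finset.mem_image, Finset.mem_univ, true_and]
      constructor
      · exact fun h => h.2
      · rintro ⟨t, rfl⟩
        exact ⟨hfS t, t, rfl⟩
    rw [h1, Finset.sum_image (fun x _ y _ h => hinj h)]
  have h0 := hgram s₀ s₀
  rw [if_pos rfl, hsum ℤ] at h0
  have h5 : ∑ t : T, n (f t) s₀ * n (f t) s₀ = (d - ε) ^ 2 + ((Fintype.card T : ℤ) - 1) * d ^ 2 := by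
    rw [← Finset.add_sum_erase _ _ (Finset.mem_univ s₀), hnY s₀ s₀, if_pos rfl, mul_one]
    congr 1
    · ring
    · have h6 : ∀ t ∈ (Finset.univ.erase s₀ : Finset T), n (f t) s₀ * n (f t) s₀ = d ^ 2 := by
        intro t ht
        rw [hnY s₀ t, if_neg (Finset.ne_of_mem_erase ht).symm]
        ring
      rw [Finset.sum_congr rfl h6, Finset.sum_const, Finset.card_erase_of_mem (Finset.mem_univ _), Finset.card_univ,
        nsmul_eq_mul]
      have h7 : 1 ≤ Fintype.card T := by omega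
      push_cast [h7]
      ring
  rw [h5] at h0
  have hε1 : ε * ε = 1 := by
    rcases hε.2 with h | h <;> rw [h] <;> ring
  have h8 : ∑ χ ∈ S.filter (· ∉ Set.range f), n χ s₀ ^ 2 = ∑ χ ∈ S.filter (· ∉ Set.range f), n χ s₀ * n χ s₀ :=
    Finset.sum_congr rfl fun χ _ => by ring
  rw [h8]
  have h9 : (d * ε) ^ 2 = d ^ 2 := by
    calc (d * ε) ^ 2 = d ^ 2 * (ε * ε) := by ring
      _ = d ^ 2 := by rw [hε1, mul_one]
  rw [h9]
  have h10 : (d - ε) ^ 2 = d ^ 2 - 2 * (d * ε) + 1 := by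
    calc (d - ε) ^ 2 = d ^ 2 - 2 * (d * ε) + ε * ε := by ring
      _ = _ := by rw [hε1]
  rw [h10] at h0
  linarith

/-- **The output of the lattice.** -/
theorem LatHyp.main (H : LatHyp p S F E) [Fintype E] :
    ∃ m : ℕ, m * Fintype.card E = Nat.card A - 1 ∧
      (m = 1 → ∃ a : IrrCharacter G → ℤ, (∀ χ ∈ S, a χ ≠ 0) ∧ ∑ χ ∈ S, a χ ^ 2 = (Fintype.card E : ℤ) + 1) ∧
      (2 ≤ m → ∃ (D : ℤ) (X : Finset (IrrCharacter G)) (a : IrrCharacter G → ℤ), X ⊆ S ∧ S.card = X.card + m ∧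
        (∀ χ ∈ X, a χ ≠ 0) ∧ ∑ χ ∈ X, a χ ^ 2 = (Fintype.card E : ℤ) - (m : ℤ) * D ^ 2 + 2 * D) := by
  classical
  haveI : Finite (A →* ℂˣ) := Cfsg.Agent.Lib.Blocks.AbFrob.finite_dual H.hc
  letI : Fintype (A →* ℂˣ) := Fintype.ofFinite _
  have hcardD : Fintype.card (A →* ℂˣ) = Nat.card A := by
    rw [← Nat.card_eq_fintype_card]
    exact Cfsg.Agent.Lib.Blocks.AbFrob.card_dual H.hc
  -- the action on the dual group
  let act : E → (A →* ℂˣ) → (A →* ℂˣ) := fun σ φ => φ.comp ((σ : MulAut A)⁻¹).toMonoidHom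
  have hact1 : ∀ φ, act 1 φ = φ := by
    intro φ
    ext a
    simp [act]
  have hactm : ∀ σ τ φ, act (σ * τ) φ = act σ (act τ φ) := by
    intro σ τ φ
    ext a
    simp [act, mul_inv_rev]
  have hactne : ∀ σ : E, ∀ φ : A →* ℂˣ, φ ≠ 1 → act σ φ ≠ 1 := by
    intro σ φ hφ h
    apply hφ
    ext a
    have h5 := congrArg (fun f : A →* ℂˣ => f ((σ : MulAut A) a)) h
    simpa [act] using h5
  have hfix : ∀ σ : MulAut A, σ ∈ E → σ ≠ 1 → ∀ v : A, σ v = v → v = 1 := by
    intro σ hσ hne v hv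
    by_contra hv1
    exact hne (H.hfree σ hσ v hv1 hv)
  obtain ⟨R, hRY, hRu, hRc⟩ := exists_reps act hact1 hactm (Finset.univ.erase (1 : A →* ℂˣ))
    (fun σ φ hφ => Finset.mem_erase.mpr ⟨hactne σ φ (Finset.ne_of_mem_erase hφ), Finset.mem_univ _⟩)
    (fun σ φ hφ h => by
      have h1 : (σ : MulAut A)⁻¹ = 1 := eq_one_of_comp_eq H.hc (hfix _ (E.inv_mem σ.2)) (Finset.ne_of_mem_erase hφ) h
      apply Subtype.ext
      simpa using h1)
  have hRne : ∀ r ∈ R, r ≠ 1 := fun r hr => Finset.ne_of_mem_erase (hRY hr)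
  refine ⟨R.card, ?_, ?_, ?_⟩
  · rw [hRc, Finset.card_erase_of_mem (Finset.mem_univ _), Finset.card_univ, hcardD]
  -- the integers
  all_goals
    have hn : ∀ (χ : IrrCharacter G) (φ : A →* ℂˣ), ∃ n : ℤ, χ ∈ S → cc F χ φ = n := by
      intro χ φ
      by_cases hχ : χ ∈ S
      · obtain ⟨n, hn⟩ := H.cc_int hχ φ
        exact ⟨n, fun _ => hn⟩
      · exact ⟨0, fun h => absurd h hχ⟩
    choose n hn using hn
    have hgram : ∀ s t : A →* ℂˣ, s ∈ R → t ∈ R → ∑ χ ∈ S, n χ s * n χ t = if s = t then (Fintype.card E : ℤ) + 1 else Fintype.card E := by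
      intro s t hs ht
      have h1 : ((∑ χ ∈ S, n χ s * n χ t : ℤ) : ℂ) = ∑ σ : E, (1 + if s = t.comp (σ : MulAut A).toMonoidHom then (1 : ℂ) else 0) := by
        rw [← H.cc_bil (hRne s hs) (hRne t ht)]
        push_cast
        refine Finset.sum_congr rfl fun χ hχ => ?_
        rw [hn χ s hχ, hn χ t hχ, map_intCast]
      have h2 : ∑ σ : E, (1 + if s = t.comp (σ : MulAut A).toMonoidHom then (1 : ℂ) else 0) =
          ((if s = t then (Fintype.card E : ℤ) + 1 else (Fintype.card E : ℤ) : ℤ) : ℂ) := by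
        rw [Finset.sum_add_distrib, Finset.sum_const, Finset.card_univ, nsmul_eq_mul, mul_one]
        by_cases hst : s = t
        · subst hst
          rw [if_pos rfl]
          push_cast
          congr 1
          rw [Finset.sum_eq_single (1 : E)]
          · rw [if_pos]
            ext a
            simp
          · intro σ _ hσ
            rw [if_neg]
            intro h
            apply hσ
            apply Subtype.ext
            exact eq_one_of_comp_eq H.hc (hfix _ σ.2) (hRne s hs) h.symm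
          · simp
        · rw [if_neg hst]
          have h3 : ∀ σ : E, (if s = t.comp (σ : MulAut A).toMonoidHom then (1 : ℂ) else 0) = 0 := by
            intro σ
            rw [if_neg]
            intro h
            apply hst
            obtain ⟨r, -, hr⟩ := hRu t (hRY ht)
            have e1 := hr t ⟨ht, 1, hact1 t⟩
            have e2 := hr s ⟨hs, σ⁻¹, by
              rw [h]
              ext a
              simp [act]⟩
            rw [e2, e1]
          simp only [h3, Finset.sum_const_zero, add_zero, Int.cast_natCast]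
      rw [h2] at h1
      exact Int.cast_injective h1
    have hone : ∀ t : A →* ℂˣ, ∑ χ ∈ S, (n χ t : ℂ) * (χ : G → ℂ) 1 = 0 := by
      intro t
      rw [← H.cc_one t]
      refine Finset.sum_congr rfl fun χ hχ => ?_
      rw [hn χ t hχ]
    have hzero : ∀ χ ∈ S, ∃ r ∈ R, n χ r ≠ 0 := by
      intro χ hχ
      obtain ⟨φ, hφ, hne⟩ := H.cc_nz hχ
      obtain ⟨r, ⟨hr, σ, hσ⟩, -⟩ := hRu φ (Finset.mem_erase.mpr ⟨hφ, Finset.mem_univ _⟩)
      refine ⟨r, hr, ?_⟩
      intro h0
      apply hne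
      have h1 : cc F χ r = cc F χ φ := by
        rw [← hσ]
        exact H.cc_comp hχ (E.inv_mem σ.2) φ
      rw [← h1, hn χ r hχ, h0]
      simp
  · intro hm
    obtain ⟨r, hr⟩ := Finset.card_eq_one.mp hm
    have hrR : r ∈ R := by
      rw [hr]
      exact Finset.mem_singleton_self r
    refine ⟨fun χ => n χ r, fun χ hχ => ?_, ?_⟩
    · obtain ⟨r', hr', hne⟩ := hzero χ hχ
      rw [hr, Finset.mem_singleton] at hr'
      rw [← hr']
      exact hne
    · have h1 := hgram r r hrR hrR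
      rw [if_pos rfl] at h1
      rw [← h1]
      exact Finset.sum_congr rfl fun χ _ => by ring
  · intro hm
    let T := {r // r ∈ R}
    have hcT : Fintype.card T = R.card := Fintype.card_coe R
    obtain ⟨D, f, a, hinj, hfS, hXa, hnorm⟩ := lattice_std (T := T) S (fun χ t => n χ t.1) (Fintype.card E)
      (fun s t => by
        rw [hgram s.1 t.1 s.2 t.2]
        by_cases h : s = t
        · subst h
          rw [if_pos rfl, if_pos rfl]
        · rw [if_neg h, if_neg (fun h' => h (Subtype.ext h'))])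
      (fun t => hone t.1) (by rw [hcT]; exact hm)
    rw [hcT] at hnorm
    refine ⟨D, S.filter (· ∉ Set.range f), a, Finset.filter_subset _ _, ?_, ?_, hnorm⟩
    · have h1 := Finset.card_filter_add_card_filter_not (s := S) (· ∉ Set.range f)
      have h2 : S.filter (fun χ => ¬ χ ∉ Set.range f) = Finset.univ.image f := by
        ext χ
        simp only [not_not, Finset.mem_filter, Set.mem_range, Finset.mem_image, Finset.mem_univ, true_and]
        constructor
        · exact fun h => h.2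
        · rintro ⟨t, rfl⟩
          exact ⟨hfS t, t, rfl⟩
      rw [h2, Finset.card_image_of_injective _ hinj, Finset.card_univ, hcT] at h1
      exact h1.symm
    · intro χ hχ h0
      obtain ⟨hχS, hχr⟩ := Finset.mem_filter.mp hχ
      obtain ⟨r, hr, hne⟩ := hzero χ hχS
      apply hne
      have h1 := hXa ⟨r, hr⟩ χ hχS hχr
      rw [h1, h0]

end Lat

end Cfsg.Agent.Lib.Blocks.AbFree
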