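/-
Abelian defect, free inertial action: arithmetic and the image of the inertial group in `Aut(P)`.
-/
import Mathlib
import Cfsg.Agent.Lib.Blocks.AbFree10

set_option autoImplicit false
set_option linter.style.haveILetI false

namespace Cfsg.Agent.Lib.Blocks.AbFree

open Cfsg

universe u

section Arith

lemma int_sq_cases (a : ℤ) (ha : a ≠ 0) : a ^ 2 = 1 ∨ 4 ≤ a ^ 2 := by
  have h1 : 1 ≤ |a| := Int.one_le_abs ha
  have h2 : a ^ 2 = |a| ^ 2 := (sq_abs a).symm
  by_cases h3 : |a| = 1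
  · left
    rw [h2, h3]
    norm_num
  · right
    have h4 : 2 ≤ |a| := by omega
    rw [h2]
    nlinarith

lemma arith_D (e m D : ℤ) (hm : 2 ≤ m) :
    e - m * D ^ 2 + 2 * D = e ∨ e - m * D ^ 2 + 2 * D = e - m + 2 ∨ e - m * D ^ 2 + 2 * D ≤ e - 4 := by
  by_cases h0 : D = 0
  · subst h0
    left
    ring
  by_cases h1 : D = 1
  · subst h1
    right
    left
    ring
  right
  right
  have h2 : 0 ≤ (m - 2) * D ^ 2 := mul_nonneg (by linarith) (sq_nonneg D)
  have h3 : 2 ≤ D ∨ D ≤ -1 := by omega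
  rcases h3 with h3 | h3
  · nlinarith
  · nlinarith

lemma card_le_sum_sq {ι : Type*} (X : Finset ι) (a : ι → ℤ) (ha : ∀ x ∈ X, a x ≠ 0) :
    (X.card : ℤ) ≤ ∑ x ∈ X, a x ^ 2 := by
  calc (X.card : ℤ) = ∑ _x ∈ X, (1 : ℤ) := by simp
    _ ≤ _ := Finset.sum_le_sum fun x hx => by
      rcases int_sq_cases _ (ha x hx) with h | h <;> linarith

/-- The case of at least two orbits. -/
lemma arith_m2 {ι : Type*} (X : Finset ι) (a : ι → ℤ) (e m : ℕ) (D : ℤ) (hm : 2 ≤ m) (ha : ∀ x ∈ X, a x ≠ 0)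
    (hs : ∑ x ∈ X, a x ^ 2 = (e : ℤ) - (m : ℤ) * D ^ 2 + 2 * D) :
    X.card ≤ e ∧ (e = 2 → X.card = 1 → m = 3) ∧ (e = 3 → X.card = 1 → m = 4) ∧ (e = 3 → X.card = 2 → m = 3) := by
  classical
  have hge := card_le_sum_sq X a ha
  have hD := arith_D e m D (by exact_mod_cast hm)
  rw [← hs] at hD
  refine ⟨?_, ?_, ?_, ?_⟩
  · have hm' : (2 : ℤ) ≤ m := by exact_mod_cast hm
    omega
  · intro he hc
    obtain ⟨x, rfl⟩ := Finset.card_eq_one.mp hc
    rw [Finset.sum_singleton] at hD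
    have hx := int_sq_cases (a x) (ha x (Finset.mem_singleton_self x))
    omega
  · intro he hc
    obtain ⟨x, rfl⟩ := Finset.card_eq_one.mp hc
    rw [Finset.sum_singleton] at hD
    have hx := int_sq_cases (a x) (ha x (Finset.mem_singleton_self x))
    omega
  · intro he hc
    obtain ⟨x, y, hxy, rfl⟩ := Finset.card_eq_two.mp hc
    rw [Finset.sum_pair hxy] at hD
    have hx := int_sq_cases (a x) (ha x (by simp))
    have hy := int_sq_cases (a y) (ha y (by simp))
    omega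

/-- The case of one orbit. -/
lemma arith_m1 {ι : Type*} (S : Finset ι) (a : ι → ℤ) (e : ℕ) (ha : ∀ x ∈ S, a x ≠ 0)
    (hs : ∑ x ∈ S, a x ^ 2 = (e : ℤ) + 1) (hk : 2 ≤ S.card) : S.card ≤ e + 1 ∧ (e ≤ 3 → S.card = e + 1) := by
  classical
  have hge := card_le_sum_sq S a ha
  have h1 : S.card ≤ e + 1 := by omega
  refine ⟨h1, fun he => ?_⟩
  by_contra hne
  have hc : S.card = 2 ∨ S.card = 3 := by omega
  rcases hc with hc | hc
  · obtain ⟨x, y, hxy, rfl⟩ := Finset.card_eq_two.mp hc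
    rw [Finset.sum_pair hxy] at hs
    have hx := int_sq_cases (a x) (ha x (by simp))
    have hy := int_sq_cases (a y) (ha y (by simp))
    omega
  · obtain ⟨x, y, z, hxy, hxz, hyz, rfl⟩ := Finset.card_eq_three.mp hc
    rw [Finset.sum_insert (by simp [hxy, hxz]), Finset.sum_pair hyz] at hs
    have hx := int_sq_cases (a x) (ha x (by simp))
    have hy := int_sq_cases (a y) (ha y (by simp))
    have hz := int_sq_cases (a z) (ha z (by simp))
    omega

/-- The final arithmetic. -/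
lemma arith_final {ι : Type*} (S : Finset ι) (e m l : ℕ) (hm : 1 ≤ m) (hl : 1 ≤ l) (hk : S.card = l + m)
    (h1 : m = 1 → ∃ a : ι → ℤ, (∀ χ ∈ S, a χ ≠ 0) ∧ ∑ χ ∈ S, a χ ^ 2 = (e : ℤ) + 1)
    (h2 : 2 ≤ m → ∃ (D : ℤ) (X : Finset ι) (a : ι → ℤ), X ⊆ S ∧ S.card = X.card + m ∧
        (∀ χ ∈ X, a χ ≠ 0) ∧ ∑ χ ∈ X, a χ ^ 2 = (e : ℤ) - (m : ℤ) * D ^ 2 + 2 * D)
    (h10 : 1 + m * e ≠ 10) (hex : l = 1 → (1 + m * e = 7 ∨ 1 + m * e = 13) → e = 1) :
    l ≤ e ∧ (e ≤ 3 → l = e) := by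
  by_cases hm1 : m = 1
  · obtain ⟨a, ha, hs⟩ := h1 hm1
    obtain ⟨h3, h4⟩ := arith_m1 S a e ha hs (by omega)
    refine ⟨by omega, fun he => ?_⟩
    have := h4 he
    omega
  · obtain ⟨D, X, a, -, hc, ha, hs⟩ := h2 (by omega)
    have hXl : X.card = l := by omega
    rw [hXl.symm] at hex hl
    obtain ⟨h3, h4, h5, h6⟩ := arith_m2 X a e m D (by omega) ha hs
    refine ⟨by omega, fun he => ?_⟩
    by_contra hne
    have hcases : (e = 2 ∧ l = 1) ∨ (e = 3 ∧ l = 1) ∨ (e = 3 ∧ l = 2) := by omega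
    rcases hcases with ⟨e2, l1⟩ | ⟨e3, l1⟩ | ⟨e3, l2⟩
    · have hm3 := h4 e2 (by omega)
      have := hex (by omega) (by left; subst hm3; subst e2; rfl)
      omega
    · have hm4 := h5 e3 (by omega)
      have := hex (by omega) (by right; subst hm4; subst e3; rfl)
      omega
    · have hm3 := h6 e3 (by omega)
      apply h10
      subst hm3
      subst e3
      rfl

lemma not_pow_eq_ten {p n : ℕ} (hp : p.Prime) : p ^ n ≠ 10 := by
  intro h
  have hn : n ≠ 0 := by
    rintro rfl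
    simp at h
  have hd : p ∣ 10 := by
    rw [← h]
    exact dvd_pow_self p hn
  have hle : p ≤ 10 := Nat.le_of_dvd (by norm_num) hd
  have h2 : 2 ≤ p := hp.two_le
  have hnle : n ≤ 3 := by
    by_contra hc
    have h3 : 4 ≤ n := by omega
    have h4 : 2 ^ 4 ≤ p ^ n := (Nat.pow_le_pow_left h2 4).trans (Nat.pow_le_pow_right (by omega) h3)
    omega
  interval_cases p <;> interval_cases n <;> simp_all (config := { decide := true })

end Arith

section Img

variable {G : Type u} [Group G]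

/-- The image of the inertial group in the automorphism group. -/
theorem exists_E {P T : Subgroup G} (hTN : T ≤ Subgroup.normalizer (P : Set G)) :
    ∃ E : Subgroup (MulAut P), (∀ σ ∈ E, ∃ t ∈ T, ∀ v : P, (σ v : G) = t * v * t⁻¹) ∧
      (∀ t ∈ T, ∃ σ ∈ E, ∀ v : P, (σ v : G) = t * v * t⁻¹) ∧
      Nat.card E = (Subgroup.centralizer (P : Set G)).relIndex T := by
  let φ : T →* MulAut P := (P.normalizerMonoidHom).comp (Subgroup.inclusion hTN)
  have hφ : ∀ (t : T) (v : P), ((φ t v : P) : G) = t * v * (t : G)⁻¹ := fun t v => rfl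
  refine ⟨φ.range, ?_, ?_, ?_⟩
  · rintro σ ⟨t, rfl⟩
    exact ⟨t, t.2, hφ t⟩
  · intro t ht
    exact ⟨φ ⟨t, ht⟩, ⟨⟨t, ht⟩, rfl⟩, hφ ⟨t, ht⟩⟩
  · have hk : φ.ker = (Subgroup.centralizer (P : Set G)).subgroupOf T := by
      ext t
      rw [MonoidHom.mem_ker, Subgroup.mem_subgroupOf, Subgroup.mem_centralizer_iff]
      constructor
      · intro h v hv
        have h1 : ((φ t ⟨v, hv⟩ : P) : G) = v := by
          rw [h]
          rfl
        rw [hφ] at h1
        calc v * (t : G) = ((t : G) * v * (t : G)⁻¹) * t := by rw [h1]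
          _ = (t : G) * v := by group
      · intro h
        ext v
        show (t : G) * v * (t : G)⁻¹ = v
        rw [← h v v.2]
        group
    rw [Subgroup.relIndex, ← hk, Subgroup.index_ker]

end Img

end Cfsg.Agent.Lib.Blocks.AbFree
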