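import Mathlib

/-!
# A finiteness argument for representations relatively projective over a cyclic `p`-subgroup

`exists_chain_basis`, `exists_zero_one_form`: nilpotent operators have chain bases (Jordan bases), so there are only
finitely many similarity types of nilpotent matrices of a given size.

`finite_of_family`: let `R i` be a family of representations of `G` of the same dimension that agree on a subgroup `D`,
`g₀` an element centralizing `D`.  If the transfers `W i i = ∑_{q ∈ G/D} R i (q g₀ q⁻¹)` have nonzero square and the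
compositions of intertwiners between different members of the family vanish, then the family is finite.  (A direct summand
argument for the module induced from `D`, without the Krull-Schmidt theorem.)
-/

set_option autoImplicit false
set_option linter.unusedSectionVars false

namespace Cfsg.Agent.Lib.Blocks.RepFin

open Module

section Jordan

variable {k V : Type*} [Field k] [AddCommGroup V] [Module k V] [FiniteDimensional k V]

/-- Chain bases for a nilpotent operator on an invariant subspace. -/
theorem exists_chain_basis (K : V →ₗ[k] V) (hK : IsNilpotent K) (U : Submodule k V)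
    (hU : ∀ x ∈ U, K x ∈ U) : ∃ s : Set V, s ⊆ U ∧ LinearIndepOn k id s ∧ Submodule.span k s = U ∧
      (∀ v ∈ s, K v = 0 ∨ K v ∈ s) ∧ (∀ v ∈ s, ∀ w ∈ s, K v ≠ 0 → K v = K w → v = w) := by
  classical
  induction' hn : finrank k U using Nat.strong_induction_on with n ih generalizing U
  by_cases hU0 : U = ⊥
  · subst hU0
    exact ⟨∅, by simp, linearIndepOn_empty _ _, by simp, by simp, by simp⟩
  set U' : Submodule k V := U.map K with hU'
  have hU'le : U' ≤ U := by
    rintro _ ⟨x, hx, rfl⟩
    exact hU x hx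
  have hlt : U' < U := by
    refine lt_of_le_of_ne hU'le fun heq => hU0 ?_
    obtain ⟨m, hm⟩ := hK
    have hpow : ∀ j : ℕ, U.map (K ^ j) = U := by
      intro j
      induction j with
      | zero => simp [Module.End.one_eq_id]
      | succ j ih2 =>
        rw [pow_succ', Module.End.mul_eq_comp, Submodule.map_comp, ih2, ← hU', heq]
    have h1 := hpow m
    rw [hm] at h1
    rw [← h1]
    simp
  have hfr : finrank k U' < n := hn ▸ Submodule.finrank_lt_finrank_of_lt hlt
  obtain ⟨s', hs'U, hs'i, hs'span, hs'K, hs'inj⟩ :=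
    ih _ hfr U' (fun x hx => Submodule.mem_map_of_mem (hU'le hx)) rfl
  have hex : ∀ v ∈ s', ∃ w ∈ U, K w = v := by
    intro v hv
    obtain ⟨w, hw, hKw⟩ := hs'U hv
    exact ⟨w, hw, hKw⟩
  choose! w hwU hKw using hex
  set H : Set V := s' \ (K '' s') with hH
  have hHs : H ⊆ s' := Set.sdiff_subset
  set A : Set V := w '' H with hA
  have hinjH : Set.InjOn w H := fun a ha b hb hab => by
    rw [← hKw a (hHs ha), ← hKw b (hHs hb), hab]
  have hKw' : LinearIndepOn k (K ∘ w) H := by
    refine (hs'i.mono hHs).congr ?_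
    intro a ha
    exact (hKw a (hHs ha)).symm
  have hAi : LinearIndepOn k id A := (linearIndepOn_iff_image hinjH).mp (LinearIndepOn.of_comp K hKw')
  -- images of `s'` stay away from the heads
  have hKs' : ∀ v ∈ s', K v ∈ Submodule.span k (s' \ H) := by
    intro v hv
    rcases hs'K v hv with h | h
    · rw [h]; exact Submodule.zero_mem _
    · exact Submodule.subset_span ⟨h, fun h2 => h2.2 ⟨v, hv, rfl⟩⟩
  have hdisjH : Disjoint (Submodule.span k H) (Submodule.span k (s' \ H)) := by
    have h1 : H ∪ (s' \ H) = s' := Set.union_sdiff_cancel hHs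
    have h2 : LinearIndepOn k id (H ∪ (s' \ H)) := by rw [h1]; exact hs'i
    exact ((linearIndepOn_id_union_iff Set.disjoint_sdiff_right).mp h2).2.2
  have hdisjA : Disjoint (Submodule.span k s') (Submodule.span k A) := by
    rw [Submodule.disjoint_def]
    intro x hx1 hx2
    have h1 : K x ∈ Submodule.span k (s' \ H) := by
      have : Submodule.span k s' ≤ (Submodule.span k (s' \ H)).comap K :=
        Submodule.span_le.mpr fun v hv => hKs' v hv
      exact this hx1
    obtain ⟨l, hl, rfl⟩ := (Finsupp.mem_span_image_iff_linearCombination k).mp hx2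
    have h2 : K (Finsupp.linearCombination k w l) ∈ Submodule.span k H := by
      rw [Finsupp.apply_linearCombination]
      refine Submodule.sum_mem _ fun a ha => ?_
      refine Submodule.smul_mem _ _ ?_
      have ha' : a ∈ H := hl ha
      show K (w a) ∈ _
      rw [hKw a (hHs ha')]
      exact Submodule.subset_span ha'
    have h3 : K (Finsupp.linearCombination k w l) = 0 :=
      (Submodule.disjoint_def.mp hdisjH) _ h2 h1
    have h4 : Finsupp.linearCombination k (K ∘ w) l = 0 := by
      rw [← h3, Finsupp.apply_linearCombination]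
    have h5 : l = 0 := linearIndepOn_iff.mp hKw' l hl h4
    rw [h5, map_zero]
  have hS₀i : LinearIndepOn k id (s' ∪ A) := hs'i.id_union hAi hdisjA
  set t : Set V := (s' ∪ A) ∪ ((U ⊓ LinearMap.ker K : Submodule k V) : Set V) with ht
  have hst : s' ∪ A ⊆ t := Set.subset_union_left
  have hbt := hS₀i.extend_subset hst
  have hsb := hS₀i.subset_extend hst
  have htb := hS₀i.subset_span_extend hst
  have hbi := hS₀i.linearIndepOn_extend hst
  set b := hS₀i.extend hst with hb
  have hs'Uu : s' ⊆ U := fun v hv => hU'le (hs'U hv)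
  have hAU : A ⊆ U := by
    rintro _ ⟨h, hh, rfl⟩
    exact hwU h (hHs hh)
  have hbU : b ⊆ U := by
    intro v hv
    rcases hbt hv with (h | h) | h
    · exact hs'Uu h
    · exact hAU h
    · exact h.1
  have hS₀b : ∀ v ∈ b, K v ≠ 0 → v ∈ s' ∪ A := by
    intro v hv hv0
    rcases hbt hv with h | h
    · exact h
    · exact absurd h.2 hv0
  refine ⟨b, hbU, hbi, ?_, ?_, ?_⟩
  · apply le_antisymm (Submodule.span_le.mpr hbU)
    intro x hx
    have h1 : U' ≤ (Submodule.span k (s' ∪ A)).map K := by
      rw [← hs'span, Submodule.span_le]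
      intro v hv
      by_cases hvH : v ∈ K '' s'
      · obtain ⟨v', hv', rfl⟩ := hvH
        exact ⟨v', Submodule.subset_span (Or.inl hv'), rfl⟩
      · exact ⟨w v, Submodule.subset_span (Or.inr ⟨v, ⟨hv, hvH⟩, rfl⟩), hKw v hv⟩
    obtain ⟨x', hx', hKx'⟩ := h1 (Submodule.mem_map_of_mem hx : K x ∈ U')
    have hx'b : x' ∈ Submodule.span k b := Submodule.span_mono hsb hx'
    have hx'U : x' ∈ U := (Submodule.span_le.mpr (Set.union_subset hs'Uu hAU)) hx'
    have h2 : x - x' ∈ Submodule.span k b := by
      apply htb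
      refine Or.inr ⟨U.sub_mem hx hx'U, ?_⟩
      rw [SetLike.mem_coe, LinearMap.mem_ker, map_sub, hKx', sub_self]
    have h3 := Submodule.add_mem _ h2 hx'b
    simpa using h3
  · intro v hv
    rcases hbt hv with (h | h) | h
    · rcases hs'K v h with h1 | h1
      · exact Or.inl h1
      · exact Or.inr (hsb (Or.inl h1))
    · obtain ⟨a, ha, rfl⟩ := h
      right
      rw [hKw a (hHs ha)]
      exact hsb (Or.inl (hHs ha))
    · exact Or.inl h.2
  · intro v hv v' hv' hv0 heq
    have hv'0 : K v' ≠ 0 := heq ▸ hv0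
    rcases hS₀b v hv hv0 with h | h <;> rcases hS₀b v' hv' hv'0 with h' | h'
    · exact hs'inj v h v' h' hv0 heq
    · obtain ⟨a, ha, rfl⟩ := h'
      rw [hKw a (hHs ha)] at heq
      exact absurd ⟨v, h, heq⟩ ha.2
    · obtain ⟨a, ha, rfl⟩ := h
      rw [hKw a (hHs ha)] at heq
      exact absurd ⟨v', h', heq.symm⟩ ha.2
    · obtain ⟨a, ha, rfl⟩ := h
      obtain ⟨a', ha', rfl⟩ := h'
      rw [hKw a (hHs ha), hKw a' (hHs ha')] at heq
      rw [heq]

/-- The matrix of a partial function: column `j` is the basis vector `φ j` (or zero). -/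
noncomputable def jM {X : Type*} [Fintype X] [DecidableEq X] (k : Type*) [Field k] (φ : X → Option X) : Matrix X X k :=
  Matrix.of fun i j => if φ j = some i then 1 else 0

/-- **Jordan form**: every nilpotent matrix is similar to a matrix `jM φ`. -/
theorem exists_zero_one_form {X : Type*} [Fintype X] [DecidableEq X] {k : Type*} [Field k] (K : Matrix X X k)
    (hK : IsNilpotent K) : ∃ (φ : X → Option X) (c : (Matrix X X k)ˣ), K * (c : Matrix X X k) = c * jM k φ := by
  classical
  have hL : IsNilpotent (Matrix.toLin' K) := by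
    obtain ⟨m, hm⟩ := hK
    refine ⟨m, ?_⟩
    rw [← Matrix.toLin'_pow, hm, map_zero]
  obtain ⟨s, -, hsi, hss, hsK, -⟩ := exists_chain_basis (Matrix.toLin' K) hL ⊤ (fun _ _ => trivial)
  let Bs := Module.Basis.mk hsi (by
    have h0 : Set.range (fun x : s => id (x : X → k)) = s := by simp
    rw [h0, hss])
  haveI : Fintype s := FiniteDimensional.fintypeBasisIndex Bs
  have hcard : Fintype.card s = Fintype.card X := by
    rw [← Module.finrank_eq_card_basis Bs, Module.finrank_fintype_fun_eq_card]
  let e : X ≃ s := (Fintype.equivOfCardEq hcard).symm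
  let B : X → (X → k) := fun i => (e i : X → k)
  have hKB : ∀ j, Matrix.toLin' K (B j) = 0 ∨ ∃ l, Matrix.toLin' K (B j) = B l := by
    intro j
    rcases hsK (e j).1 (e j).2 with h | h
    · exact Or.inl h
    · refine Or.inr ⟨e.symm ⟨_, h⟩, ?_⟩
      simp [B]
  have hφ : ∀ j, ∃ o : Option X, Matrix.toLin' K (B j) = o.elim 0 B := by
    intro j
    rcases hKB j with h | ⟨l, h⟩
    · exact ⟨none, h⟩
    · exact ⟨some l, h⟩
  choose φ hφ using hφ
  let cc : Matrix X X k := Matrix.of fun i j => B j i
  have hli : LinearIndependent k cc.col := by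
    have h1 : LinearIndependent k B := by
      have h2 : LinearIndependent k (fun x : s => (x : X → k)) := hsi
      exact h2.comp e e.injective
    have h3 : cc.col = B := by
      ext j i
      rfl
    rw [h3]
    exact h1
  have hu : IsUnit cc := Matrix.linearIndependent_cols_iff_isUnit.mp hli
  obtain ⟨c, hc⟩ := hu
  refine ⟨φ, c, ?_⟩
  rw [hc]
  ext i j
  have h1 : (K * cc) i j = Matrix.toLin' K (B j) i := by
    simp [Matrix.mul_apply, Matrix.toLin'_apply, Matrix.mulVec, dotProduct, cc]
  have h2 : (cc * jM k φ) i j = (φ j).elim 0 B i := by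
    simp only [Matrix.mul_apply, jM, Matrix.of_apply, cc]
    rcases hj : φ j with _ | l
    · simp
    · simp only [Option.some.injEq, mul_ite, mul_one, mul_zero, Option.elim_some]
      rw [Finset.sum_ite_eq]
      simp
  rw [h1, h2, hφ]

end Jordan

section Transfer

variable {G : Type*} [Group G] (D : Subgroup G) [Fintype (G ⧸ D)] {T : Type*} [Ring T]

/-- The transfer from `D` of `g₀`, between two representations agreeing on `D`. -/
noncomputable def transferW (r₁ r₂ : G →* T) (g₀ : G) : T :=
  ∑ q : G ⧸ D, r₂ (q.out * g₀) * r₁ (q.out)⁻¹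

lemma transfer_term (r₁ r₂ : G →* T) {g₀ : G} (hD : ∀ d ∈ D, r₁ d = r₂ d) (hg₀ : ∀ d ∈ D, d * g₀ = g₀ * d)
    (g : G) : r₂ ((g : G ⧸ D).out * g₀) * r₁ ((g : G ⧸ D).out)⁻¹ = r₂ (g * g₀) * r₁ g⁻¹ := by
  set o := (g : G ⧸ D).out with ho
  have h1 : o⁻¹ * g ∈ D := QuotientGroup.eq.mp (QuotientGroup.out_eq' _)
  obtain ⟨d, hd, hgd⟩ : ∃ d ∈ D, g = o * d := ⟨o⁻¹ * g, h1, by group⟩
  have h2 : r₂ d * r₂ d⁻¹ = 1 := by rw [← map_mul, mul_inv_cancel, map_one]
  rw [hgd, mul_assoc, hg₀ d hd, ← mul_assoc, map_mul r₂ (o * g₀) d, mul_inv_rev, map_mul r₁ d⁻¹,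
    hD d⁻¹ (D.inv_mem hd)]
  calc r₂ (o * g₀) * r₁ o⁻¹ = r₂ (o * g₀) * (r₂ d * r₂ d⁻¹) * r₁ o⁻¹ := by rw [h2, mul_one]
    _ = _ := by noncomm_ring

/-- The transfer intertwines. -/
theorem transferW_comm (r₁ r₂ : G →* T) {g₀ : G} (hD : ∀ d ∈ D, r₁ d = r₂ d) (hg₀ : ∀ d ∈ D, d * g₀ = g₀ * d)
    (h : G) : r₂ h * transferW D r₁ r₂ g₀ = transferW D r₁ r₂ g₀ * r₁ h := by
  unfold transferW
  rw [Finset.mul_sum, Finset.sum_mul]
  have key : ∀ q : G ⧸ D, r₂ h * (r₂ (q.out * g₀) * r₁ (q.out)⁻¹) =
      (r₂ ((h • q).out * g₀) * r₁ ((h • q).out)⁻¹) * r₁ h := by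
    intro q
    have h1 : h • q = ((h * q.out : G) : G ⧸ D) := by
      conv_lhs => rw [← QuotientGroup.out_eq' q]
      rfl
    rw [h1, transfer_term D r₁ r₂ hD hg₀]
    have h3 : r₁ (h * q.out)⁻¹ * r₁ h = r₁ (q.out)⁻¹ := by
      rw [← map_mul]
      congr 1
      group
    rw [mul_assoc (r₂ (h * q.out * g₀)), h3, mul_assoc h, map_mul r₂ h, mul_assoc]
  rw [Finset.sum_congr rfl (fun q _ => key q)]
  exact Equiv.sum_comp (MulAction.toPerm h) (fun q : G ⧸ D => (r₂ (q.out * g₀) * r₁ (q.out)⁻¹) * r₁ h)

variable [Finite G] {k X ι : Type*} [Field k] [Fintype X] [DecidableEq X]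

/-- **The finiteness of a family of representations agreeing on `D`.** -/
theorem finite_of_family (R : ι → G →* Matrix X X k) (g₀ : G) (hD : ∀ i j, ∀ d ∈ D, R i d = R j d)
    (hg₀ : ∀ d ∈ D, d * g₀ = g₀ * d)
    (h1 : ∀ i, transferW D (R i) (R i) g₀ * transferW D (R i) (R i) g₀ ≠ 0)
    (h2 : ∀ i j, i ≠ j → ∀ A B : Matrix X X k, (∀ g, R j g * A = A * R i g) → (∀ g, R i g * B = B * R j g) →
      B * A = 0) : Finite ι := by
  classical
  cases nonempty_fintype G
  let v : ι → (G → Matrix X X k) := fun j s => R j (s * g₀)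
  have hli : LinearIndependent k v := by
    rw [linearIndependent_iff']
    intro S c hc i hi
    obtain ⟨a, b, hab⟩ : ∃ a b, (transferW D (R i) (R i) g₀ * transferW D (R i) (R i) g₀) a b ≠ 0 := by
      by_contra h
      push Not at h
      exact h1 i (Matrix.ext h)
    let Λ : (G → Matrix X X k) →ₗ[k] k :=
      { toFun := fun w => ∑ q' : G ⧸ D, ∑ q : G ⧸ D,
          (R i (q'.out * g₀) * w ((q'.out)⁻¹ * q.out) * R i (q.out)⁻¹) a b
        map_add' := by
          intro x y
          simp [Matrix.mul_add, Matrix.add_mul, Finset.sum_add_distrib]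
        map_smul' := by
          intro c x
          simp [Finset.mul_sum, Matrix.mul_smul, Matrix.smul_mul] }
    have hΛ : ∀ j, Λ (v j) = (transferW D (R j) (R i) g₀ * transferW D (R i) (R j) g₀) a b := by
      intro j
      change ∑ q' : G ⧸ D, ∑ q : G ⧸ D, _ = _
      unfold transferW
      rw [Finset.sum_mul_sum, Matrix.sum_apply]
      refine Finset.sum_congr rfl fun q' _ => ?_
      rw [Matrix.sum_apply]
      refine Finset.sum_congr rfl fun q _ => ?_
      have h3 : R j ((q'.out)⁻¹ * q.out * g₀) = R j (q'.out)⁻¹ * R j (q.out * g₀) := by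
        rw [← map_mul, mul_assoc]
      simp only [v]
      rw [h3]
      simp only [Matrix.mul_assoc]
    have hzero : ∀ j, j ≠ i → Λ (v j) = 0 := by
      intro j hj
      rw [hΛ, h2 i j hj.symm _ _
        (fun g => transferW_comm D (R i) (R j) (hD i j) hg₀ g)
        (fun g => transferW_comm D (R j) (R i) (hD j i) hg₀ g)]
      rfl
    have h3 := congrArg Λ hc
    rw [map_sum, map_zero, Finset.sum_eq_single i] at h3
    · rw [map_smul, hΛ, smul_eq_mul] at h3
      exact (mul_eq_zero.mp h3).resolve_right hab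
    · intro j _ hj
      rw [map_smul, hzero j hj, smul_zero]
    · intro h
      exact absurd hi h
  haveI : FiniteDimensional k (G → Matrix X X k) := inferInstance
  exact hli.finite_of_isNoetherian

end Transfer

end Cfsg.Agent.Lib.Blocks.RepFin
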