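import Mathlib

/-!
# Symmetric algebras whose centre has dimension two

`R` is a finite-dimensional algebra over an algebraically closed field with a nondegenerate symmetric linear form,
`dim Z(R) ≤ 2` and `J(R) ≠ 0`.  Then `R ≅ M_n(k[x]/(x²))`: there are `n² ` elements which, together with their
products with a central element `z`, span `R`, and `dim R ≥ 2 n²`.
-/

set_option autoImplicit false
set_option linter.unusedSectionVars false
set_option linter.style.haveILetI false

namespace Cfsg.Agent.Lib.Blocks.SymLocal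

open Module

section Nil

variable {R : Type*} [Ring R]

theorem matrix_eq_zero_of_idem {n : ℕ} {J : Ideal R} [J.IsTwoSided] (hJ : IsNilpotent J)
    {N : Matrix (Fin n) (Fin n) R} (hN : ∀ i j, N i j ∈ J) (hidem : N * N = N) : N = 0 := by
  obtain ⟨s, hs⟩ := hJ
  have key : ∀ m : ℕ, ∀ i j, (N ^ (m + 1)) i j ∈ J ^ (m + 1) := by
    intro m
    induction m with
    | zero =>
      intro i j
      rw [Submodule.pow_one]
      simpa using hN i j
    | succ m ih =>
      intro i j
      rw [pow_succ' N (m + 1), Matrix.mul_apply, Ideal.IsTwoSided.pow_succ]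
      exact Ideal.sum_mem _ fun l _ => Ideal.mul_mem_mul (hN i l) (ih l j)
  have hpow : ∀ m : ℕ, N ^ (m + 1) = N := by
    intro m
    induction m with
    | zero => simp
    | succ m ih => rw [pow_succ, ih, hidem]
  ext i j
  have h1 := key s i j
  rw [hpow] at h1
  have h2 : J ^ (s + 1) ≤ J ^ s := Ideal.pow_le_pow_right (Nat.le_succ s)
  rw [hs] at h2
  have h3 := h2 h1
  simpa using h3

theorem isNilpotent_of_mem {J : Ideal R} (hJ : IsNilpotent J) {x : R} (hx : x ∈ J) : IsNilpotent x := by
  obtain ⟨s, hs⟩ := hJ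
  refine ⟨s, ?_⟩
  have := Ideal.pow_mem_pow hx s
  rw [hs] at this
  simpa using this

end Nil

section Units

variable {k R : Type*} [Field k] [Ring R] [Algebra k R]

/-- Lifting a full system of matrix units along a surjection with nilpotent kernel. -/
theorem exists_matrix_units {n : ℕ} [NeZero n] (f : R →ₐ[k] Matrix (Fin n) (Fin n) k)
    (hf : Function.Surjective f) {J : Ideal R} [J.IsTwoSided] (hJ : IsNilpotent J)
    (hker : ∀ x, f x = 0 ↔ x ∈ J) :
    ∃ (ε : R) (u v : Fin n → R), IsIdempotentElem ε ∧ (∀ i, u i * ε = u i) ∧ (∀ i, ε * v i = v i) ∧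
      (∑ i, u i * v i = 1) ∧ (∀ i j, v i * u j = if i = j then ε else 0) ∧
      f ε = Matrix.single 0 0 (1 : k) := by
  classical
  have nil : ∀ x ∈ RingHom.ker (f : R →+* Matrix (Fin n) (Fin n) k), IsNilpotent x := fun x hx =>
    isNilpotent_of_mem hJ ((hker x).1 hx)
  have hE : ∀ i j l m : Fin n, Matrix.single i j (1 : k) * Matrix.single l m (1 : k) =
      if j = l then Matrix.single i m (1 : k) else 0 := by
    intro i j l m
    split_ifs with h
    · subst h
      simp
    · exact Matrix.single_mul_single_of_ne _ _ _ _ h _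
  obtain ⟨ε, hε, hfε⟩ := exists_isIdempotentElem_eq_of_ker_isNilpotent
    (f : R →+* Matrix (Fin n) (Fin n) k) nil (Matrix.single 0 0 (1 : k))
    (RingHom.mem_range.2 (hf _)) (by
      show Matrix.single 0 0 (1 : k) * Matrix.single 0 0 (1 : k) = _
      rw [hE, if_pos rfl])
  have hfε' : f ε = Matrix.single 0 0 (1 : k) := hfε
  choose r hr using fun i : Fin n => hf (Matrix.single i 0 (1 : k))
  choose s hs using fun i : Fin n => hf (Matrix.single 0 i (1 : k))
  set w : R := ∑ i, (r i * ε) * (ε * s i) with hw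
  have hfw : f w = 1 := by
    rw [hw, map_sum]
    have : ∀ i, f ((r i * ε) * (ε * s i)) = Matrix.single i i (1 : k) := by
      intro i
      rw [map_mul, map_mul, map_mul, hr, hs, hfε', hE, if_pos rfl, hE, if_pos rfl, hE, if_pos rfl]
    simp only [this]
    ext a b
    rw [Matrix.sum_apply, Matrix.one_apply]
    by_cases hab : a = b
    · subst hab
      rw [if_pos rfl, Finset.sum_eq_single a]
      · simp
      · intro c _ hc
        rw [Matrix.single_apply_of_ne]
        simp [hc]
      · simp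
    · rw [if_neg hab]
      refine Finset.sum_eq_zero fun c _ => ?_
      rw [Matrix.single_apply_of_ne]
      rintro ⟨rfl, rfl⟩
      exact hab rfl
  have hwu : IsUnit w := by
    have h1 : (1 - w) ∈ J := by
      rw [← hker, map_sub, map_one, hfw, sub_self]
    have h2 := (isNilpotent_of_mem hJ h1).isUnit_one_sub
    simpa using h2
  obtain ⟨W, hW⟩ := hwu
  have hfWi : f (↑W⁻¹ : R) = 1 := by
    have h1 : f (W : R) * f (↑W⁻¹ : R) = 1 := by
      rw [← map_mul, Units.mul_inv, map_one]
    rw [hW, hfw, one_mul] at h1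
    exact h1
  set u : Fin n → R := fun i => r i * ε with hu
  set v : Fin n → R := fun i => ε * s i * ↑W⁻¹ with hv
  have huε : ∀ i, u i * ε = u i := fun i => by
    simp only [hu, mul_assoc, hε.eq]
  have hvε : ∀ i, ε * v i = v i := fun i => by
    simp only [hv, ← mul_assoc, hε.eq]
  have hsum : ∑ i, u i * v i = 1 := by
    have : ∀ i, u i * v i = (r i * ε) * (ε * s i) * ↑W⁻¹ := fun i => by
      simp only [hu, hv, mul_assoc]
    simp only [this]
    rw [← Finset.sum_mul, ← hw, ← hW, Units.mul_inv]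
  have hfu : ∀ i, f (u i) = Matrix.single i 0 (1 : k) := fun i => by
    simp only [hu, map_mul, hr, hfε', hE, if_pos]
  have hfv : ∀ i, f (v i) = Matrix.single 0 i (1 : k) := fun i => by
    simp only [hv, map_mul, hs, hfε', hfWi, hE, if_pos, mul_one]
  set D : Matrix (Fin n) (Fin n) R := Matrix.diagonal (fun _ => ε) with hD
  set Q : Matrix (Fin n) (Fin n) R := Matrix.of (fun i j => v i * u j) with hQ
  have hDD : D * D = D := by
    rw [hD, Matrix.diagonal_mul_diagonal]
    simp [hε.eq]
  have hDQ : D * Q = Q := by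
    ext i j
    rw [hD, Matrix.diagonal_mul, hQ]
    simp only [Matrix.of_apply, ← mul_assoc, hvε]
  have hQD : Q * D = Q := by
    ext i j
    rw [hD, Matrix.mul_diagonal, hQ]
    simp only [Matrix.of_apply, mul_assoc, huε]
  have hQQ : Q * Q = Q := by
    ext i j
    rw [Matrix.mul_apply, hQ]
    simp only [Matrix.of_apply]
    have : ∑ l, v i * u l * (v l * u j) = v i * (∑ l, u l * v l) * u j := by
      rw [Finset.mul_sum, Finset.sum_mul]
      refine Finset.sum_congr rfl fun l _ => ?_
      noncomm_ring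
    rw [this, hsum, mul_one]
  have hN : D - Q = 0 := by
    apply matrix_eq_zero_of_idem hJ
    · intro i j
      rw [← hker]
      rw [Matrix.sub_apply, map_sub, hQ, Matrix.of_apply, map_mul, hfv, hfu, hE]
      by_cases hij : i = j
      · subst hij
        simp [hD, hfε']
      · simp [hD, hij, Matrix.diagonal_apply_ne]
    · rw [sub_mul, mul_sub, mul_sub, hDD, hDQ, hQD, hQQ]
      abel
  refine ⟨ε, u, v, hε, huε, hvε, hsum, fun i j => ?_, hfε'⟩
  have h1 := congrFun (congrFun hN i) j
  rw [Matrix.sub_apply, hQ, Matrix.of_apply, Matrix.zero_apply, sub_eq_zero] at h1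
  rw [← h1, hD]
  by_cases hij : i = j
  · subst hij
    simp
  · simp [hij, Matrix.diagonal_apply_ne]

end Units

section Core

variable (k : Type*) {R : Type*} [Field k] [Ring R] [Algebra k R]

/-- The corner `ε R ε`. -/
def corner (ε : R) : Submodule k R where
  carrier := {a | ε * a = a ∧ a * ε = a}
  add_mem' := by
    rintro a b ⟨h1, h2⟩ ⟨h3, h4⟩
    exact ⟨by rw [mul_add, h1, h3], by rw [add_mul, h2, h4]⟩
  zero_mem' := by simp
  smul_mem' := by
    rintro c a ⟨h1, h2⟩
    exact ⟨by rw [mul_smul_comm, h1], by rw [smul_mul_assoc, h2]⟩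

variable (R) in
/-- The span of the additive commutators. -/
def commSpan : Submodule k R := Submodule.span k {x | ∃ a b : R, x = a * b - b * a}

variable {k}
variable {n : ℕ} [NeZero n]

/-- The structure of `R`, given matrix units. -/
theorem core (f : R →ₐ[k] Matrix (Fin n) (Fin n) k) {J : Ideal R} [J.IsTwoSided] (hJ : IsNilpotent J)
    (hker : ∀ x, f x = 0 ↔ x ∈ J) (hJ0 : J ≠ ⊥)
    (hdep : ∀ a₁ a₂ a₃ : R, ∃ c₁ c₂ c₃ : k, (c₁ ≠ 0 ∨ c₂ ≠ 0 ∨ c₃ ≠ 0) ∧
      c₁ • a₁ + c₂ • a₂ + c₃ • a₃ ∈ commSpan k R)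
    {ε : R} {u v : Fin n → R} (hε : IsIdempotentElem ε) (huε : ∀ i, u i * ε = u i) (hvε : ∀ i, ε * v i = v i)
    (hsum : ∑ i, u i * v i = 1) (hvu : ∀ i j, v i * u j = if i = j then ε else 0)
    (hfε : f ε = Matrix.single 0 0 (1 : k)) :
    ∃ (a : Fin n → Fin n → R) (z : R), (∀ x, z * x = x * z) ∧
      (∀ r, r ∈ Submodule.span k (Set.range (fun ij : Fin n × Fin n => a ij.1 ij.2) ∪
        Set.range (fun ij : Fin n × Fin n => z * a ij.1 ij.2))) ∧
      LinearIndependent k (fun x : Fin n × Fin n × Bool =>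
        if x.2.2 then z * a x.1 x.2.1 else a x.1 x.2.1) := by
  classical
  set A : Submodule k R := corner k ε with hA
  have hεA : ε ∈ A := ⟨hε.eq, hε.eq⟩
  have hAmul : ∀ a ∈ A, ∀ b ∈ A, a * b ∈ A := by
    rintro a ⟨h1, h2⟩ b ⟨h3, h4⟩
    exact ⟨by rw [← mul_assoc, h1], by rw [mul_assoc, h4]⟩
  have hvAu : ∀ (r : R) i j, v i * r * u j ∈ A := fun r i j =>
    ⟨by rw [← mul_assoc, ← mul_assoc, hvε], by rw [mul_assoc, huε]⟩
  set JK : Submodule k R := Submodule.restrictScalars k J with hJK
  set I : Submodule k R := A ⊓ JK with hI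
  have hIA : ∀ x ∈ I, x ∈ A := fun x hx => hx.1
  have hIJ : ∀ x ∈ I, x ∈ J := fun x hx => hx.2
  have hfE : ∀ M : Matrix (Fin n) (Fin n) k,
      Matrix.single 0 0 (1 : k) * M * Matrix.single 0 0 (1 : k) = M 0 0 • Matrix.single 0 0 (1 : k) := by
    intro M
    ext i j
    by_cases hi : i = 0
    · subst hi
      by_cases hj : j = 0
      · subst hj
        simp [Matrix.mul_apply, Matrix.single_apply]
      · simp [Matrix.mul_apply, Matrix.single_apply, Ne.symm hj]
    · simp [Matrix.mul_apply, Matrix.single_apply, Ne.symm hi]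
  have hdecomp : ∀ a ∈ A, ∃ c : k, a - c • ε ∈ I := by
    intro a ha
    refine ⟨f a 0 0, A.sub_mem ha (A.smul_mem _ hεA), ?_⟩
    show a - f a 0 0 • ε ∈ J
    rw [← hker, map_sub, map_smul, hfε]
    have h1 : f a = f ε * f a * f ε := by
      rw [← map_mul, ← map_mul, ha.1, ha.2]
    rw [hfε, hfE] at h1
    conv_lhs => rw [h1]
    simp
  -- the transfer from `R` to the corner
  let T : R →ₗ[k] R := ∑ i, (LinearMap.mulLeft k (v i)) ∘ₗ (LinearMap.mulRight k (u i))
  have hT : ∀ x, T x = ∑ i, v i * (x * u i) := by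
    intro x
    simp [T, LinearMap.sum_apply]
  set S : Submodule k R := Submodule.span k {x | ∃ a ∈ A, ∃ b ∈ A, x = a * b - b * a} with hS
  have hTmul : ∀ c d : R, T (c * d) = ∑ i, ∑ j, (v i * c * u j) * (v j * d * u i) := by
    intro c d
    rw [hT]
    refine Finset.sum_congr rfl fun i _ => ?_
    calc v i * (c * d * u i) = v i * c * 1 * d * u i := by noncomm_ring
      _ = v i * c * (∑ j, u j * v j) * d * u i := by rw [hsum]
      _ = ∑ j, (v i * c * u j) * (v j * d * u i) := by
        simp only [Finset.mul_sum, Finset.sum_mul]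
        refine Finset.sum_congr rfl fun j _ => ?_
        noncomm_ring
  have hTcomm : commSpan k R ≤ S.comap T := by
    apply Submodule.span_le.2
    rintro _ ⟨a, b, rfl⟩
    show T (a * b - b * a) ∈ S
    rw [map_sub, hTmul, hTmul]
    have h1 : ∑ i, ∑ j, (v i * b * u j) * (v j * a * u i) =
        ∑ i, ∑ j, (v j * b * u i) * (v i * a * u j) := Finset.sum_comm
    rw [h1, ← Finset.sum_sub_distrib]
    refine S.sum_mem fun i _ => ?_
    rw [← Finset.sum_sub_distrib]
    refine S.sum_mem fun j _ => ?_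
    exact Submodule.subset_span ⟨_, hvAu a i j, _, hvAu b j i, rfl⟩
  have hTA : ∀ a ∈ A, T a - a ∈ S := by
    intro a ha
    have h1 : a = ∑ i, (a * u i) * (v i * ε) := by
      have : ∑ i, (a * u i) * (v i * ε) = a * (∑ i, u i * v i) * ε := by
        simp only [Finset.mul_sum, Finset.sum_mul]
        refine Finset.sum_congr rfl fun i _ => ?_
        noncomm_ring
      rw [this, hsum, mul_one, ha.2]
    have h2 : T a = ∑ i, (v i * ε) * (a * u i) := by
      rw [hT]
      refine Finset.sum_congr rfl fun i _ => ?_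
      rw [mul_assoc (v i) ε, ← mul_assoc ε, ha.1]
    have h3 : T a - a = ∑ i, ((v i * ε) * (a * u i) - (a * u i) * (v i * ε)) := by
      rw [Finset.sum_sub_distrib, ← h1, ← h2]
    rw [h3]
    refine S.sum_mem fun i _ => Submodule.subset_span ⟨_, ?_, _, ?_, rfl⟩
    · exact ⟨by rw [← mul_assoc, hvε], by rw [mul_assoc, hε.eq]⟩
    · exact ⟨by rw [← mul_assoc, ha.1], by rw [mul_assoc, huε]⟩
  have hcommA : ∀ a ∈ A, a ∈ commSpan k R → a ∈ S := by
    intro a ha hac
    have h1 : T a ∈ S := hTcomm hac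
    have h2 := S.sub_mem h1 (hTA a ha)
    simpa using h2
  have hcomp : ∀ a ∈ A, ∀ b ∈ A, ∀ c d : k, a - c • ε ∈ I → b - d • ε ∈ I →
      a * b - b * a = (a - c • ε) * (b - d • ε) - (b - d • ε) * (a - c • ε) := by
    intro a ha b hb c d _ _
    simp only [mul_sub, sub_mul, smul_mul_assoc, mul_smul_comm, ha.1, ha.2, hb.1, hb.2, hε.eq, smul_sub, smul_smul]
    rw [mul_comm d c]
    abel
  have hSI : S ≤ I * I := by
    apply Submodule.span_le.2
    rintro _ ⟨a, ha, b, hb, rfl⟩
    obtain ⟨c, hc⟩ := hdecomp a ha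
    obtain ⟨d, hd⟩ := hdecomp b hb
    show a * b - b * a ∈ I * I
    rw [hcomp a ha b hb c d hc hd]
    exact (I * I).sub_mem (Submodule.mul_mem_mul hc hd) (Submodule.mul_mem_mul hd hc)
  have hII : I * I ≤ I := by
    rw [Submodule.mul_le]
    intro a ha b hb
    exact ⟨hAmul a ha.1 b hb.1, J.mul_mem_left a hb.2⟩
  -- nilpotency of `I`
  have hIpow : ∀ s : ℕ, ∀ x ∈ I ^ (s + 1), x ∈ J ^ (s + 1) := by
    intro s
    induction s with
    | zero =>
      intro x hx
      rw [pow_one] at hx
      rw [Submodule.pow_one]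
      exact hIJ x hx
    | succ s ih =>
      intro x hx
      rw [pow_succ'] at hx
      rw [Ideal.IsTwoSided.pow_succ]
      refine Submodule.mul_induction_on hx (fun a ha b hb => ?_) (fun a b h1 h2 => Ideal.add_mem _ h1 h2)
      exact Ideal.mul_mem_mul (hIJ a ha) (ih b hb)
  obtain ⟨s₀, hs₀⟩ := hJ
  have hInil : I ^ (s₀ + 1) = ⊥ := by
    rw [eq_bot_iff]
    intro x hx
    have h1 := hIpow s₀ x hx
    have h2 : J ^ (s₀ + 1) ≤ J ^ s₀ := Ideal.pow_le_pow_right (Nat.le_succ s₀)
    rw [hs₀] at h2
    exact h2 h1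
  have hexp : ∀ r : R, r = ∑ i, ∑ j, u i * (v i * r * u j) * v j := by
    intro r
    calc r = 1 * r * 1 := by simp
      _ = (∑ i, u i * v i) * r * (∑ j, u j * v j) := by rw [hsum]
      _ = _ := by
        simp only [Finset.mul_sum, Finset.sum_mul]
        rw [Finset.sum_comm]
        refine Finset.sum_congr rfl fun i _ => Finset.sum_congr rfl fun j _ => ?_
        noncomm_ring
  have hI0 : I ≠ ⊥ := by
    intro h0
    apply hJ0
    rw [eq_bot_iff]
    intro x hx
    have h1 : ∀ i j, v i * x * u j = 0 := by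
      intro i j
      have h2 : v i * x * u j ∈ I :=
        ⟨hvAu x i j, J.mul_mem_right _ (J.mul_mem_left _ hx)⟩
      rw [h0] at h2
      simpa using h2
    rw [hexp x]
    simp [h1]
  have hlt : I * I < I := by
    refine lt_of_le_of_ne hII fun h => hI0 ?_
    have h1 : ∀ m : ℕ, I ^ (m + 1) = I := by
      intro m
      induction m with
      | zero => simp
      | succ m ih => rw [pow_succ, ih, h]
    rw [← h1 s₀, hInil]
  obtain ⟨w, hwI, hwn⟩ := SetLike.exists_of_lt hlt
  have hw0 : w ≠ 0 := fun h => hwn (by rw [h]; exact (I * I).zero_mem)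
  have hfI : ∀ x ∈ I, f x = 0 := fun x hx => (hker x).2 (hIJ x hx)
  have hεw : ∀ c d : k, c • ε + d • w ∈ I → c = 0 := by
    intro c d h
    have h1 := hfI _ h
    rw [map_add, map_smul, map_smul, hfI w hwI, hfε, smul_zero, add_zero] at h1
    have h2 := congrFun (congrFun h1 0) 0
    simpa using h2
  have hdep' : ∀ w' ∈ I, ∃ c : k, w' - c • w ∈ I * I := by
    intro w' hw'
    obtain ⟨c₁, c₂, c₃, hc, hmem⟩ := hdep ε w w'
    have hyA : c₁ • ε + c₂ • w + c₃ • w' ∈ A :=
      A.add_mem (A.add_mem (A.smul_mem _ hεA) (A.smul_mem _ (hIA w hwI))) (A.smul_mem _ (hIA w' hw'))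
    have hyI : c₁ • ε + c₂ • w + c₃ • w' ∈ I * I := hSI (hcommA _ hyA hmem)
    have hc1 : c₁ = 0 := by
      have h1 := hII hyI
      have h2 : c₁ • ε + c₂ • w ∈ I := by
        have := I.sub_mem h1 (I.smul_mem c₃ hw')
        simpa using this
      exact hεw c₁ c₂ h2
    subst hc1
    rw [zero_smul, zero_add] at hyI
    by_cases hc3 : c₃ = 0
    · subst hc3
      rw [zero_smul, add_zero] at hyI
      have hc2 : c₂ ≠ 0 := by
        rcases hc with h | h | h
        · exact absurd rfl h
        · exact h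
        · exact absurd rfl h
      exfalso
      apply hwn
      have := (I * I).smul_mem c₂⁻¹ hyI
      rwa [smul_smul, inv_mul_cancel₀ hc2, one_smul] at this
    · refine ⟨-(c₃⁻¹ * c₂), ?_⟩
      have h1 := (I * I).smul_mem c₃⁻¹ hyI
      have h2 : c₃⁻¹ • (c₂ • w + c₃ • w') = w' - -(c₃⁻¹ * c₂) • w := by
        rw [smul_add, smul_smul, smul_smul, inv_mul_cancel₀ hc3, one_smul, neg_smul, sub_neg_eq_add, add_comm]
      rwa [h2] at h1
  -- `I` is generated by `w`
  set N : Submodule k R := Submodule.span k {w} with hN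
  have hNI : N ≤ I := by
    rw [hN, Submodule.span_le]
    simpa using hwI
  have hIN : I ≤ N ⊔ I * I := by
    intro w' hw'
    obtain ⟨c, hc⟩ := hdep' w' hw'
    rw [Submodule.mem_sup]
    exact ⟨c • w, N.smul_mem _ (Submodule.mem_span_singleton_self w), _, hc, by abel⟩
  have hstep : ∀ m : ℕ, I ^ (m + 1) ≤ N ^ (m + 1) ⊔ I ^ (m + 2) := by
    intro m
    induction m with
    | zero =>
      rw [zero_add, pow_one, pow_one, pow_two]
      exact hIN
    | succ m ih =>
      have h1 : I ^ (m + 1 + 1) = I ^ (m + 1) * I := pow_succ _ _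
      have h2 : I ^ (m + 1) * I ≤ (N ^ (m + 1) ⊔ I ^ (m + 2)) * (N ⊔ I * I) :=
        mul_le_mul' ih hIN
      have h3 : (N ^ (m + 1) ⊔ I ^ (m + 2)) * (N ⊔ I * I) ≤ N ^ (m + 1 + 1) ⊔ I ^ (m + 1 + 2) := by
        rw [Submodule.sup_mul, Submodule.mul_sup, Submodule.mul_sup]
        have hNp : N ^ (m + 1) ≤ I ^ (m + 1) := pow_le_pow_left' hNI _
        refine sup_le (sup_le ?_ ?_) (sup_le ?_ ?_)
        · rw [pow_succ N (m + 1)]
          exact le_sup_left
        · refine le_trans ?_ le_sup_right
          have : I ^ (m + 1 + 2) = I ^ (m + 1) * (I * I) := by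
            rw [pow_add, pow_two]
          rw [this]
          exact mul_le_mul' hNp le_rfl
        · refine le_trans ?_ le_sup_right
          have : I ^ (m + 1 + 2) = I ^ (m + 2) * I := by
            rw [show m + 1 + 2 = m + 2 + 1 by ring, pow_succ]
          rw [this]
          exact mul_le_mul' le_rfl hNI
        · refine le_trans ?_ le_sup_right
          have : I ^ (m + 1 + 2) = I ^ (m + 2) * I := by
            rw [show m + 1 + 2 = m + 2 + 1 by ring, pow_succ]
          rw [this]
          exact mul_le_mul' le_rfl hII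
      rw [h1]
      exact h2.trans h3
  set W : Submodule k R := Subalgebra.toSubmodule (Algebra.adjoin k {w}) with hW
  have hNW : N ≤ W := by
    rw [hN, Submodule.span_le]
    intro x hx
    rw [Set.mem_singleton_iff] at hx
    subst hx
    exact Algebra.subset_adjoin (Set.mem_singleton _)
  have hNpow : ∀ m : ℕ, N ^ (m + 1) ≤ W := by
    intro m
    induction m with
    | zero => simp only [zero_add, pow_one]; exact hNW
    | succ m ih =>
      rw [pow_succ]
      refine (mul_le_mul' ih hNW).trans ?_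
      rw [Submodule.mul_le]
      intro a ha b hb
      exact Subalgebra.mul_mem _ ha hb
  have hIWm : ∀ m : ℕ, I ≤ W ⊔ I ^ (m + 1) := by
    intro m
    induction m with
    | zero => simp
    | succ m ih =>
      refine ih.trans (sup_le le_sup_left ((hstep m).trans (sup_le ((hNpow m).trans le_sup_left) le_sup_right)))
  have hIW : I ≤ W := by
    have := hIWm s₀
    rwa [hInil, sup_bot_eq] at this
  have hcommW : ∀ x ∈ W, ∀ y ∈ W, x * y = y * x := by
    intro x hx y hy
    letI : CommRing (Algebra.adjoin k ({w} : Set R)) := Algebra.adjoinCommRingOfComm k (by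
      intro a ha b hb
      rw [Set.mem_singleton_iff] at ha hb
      rw [ha, hb])
    have := mul_comm (⟨x, hx⟩ : Algebra.adjoin k ({w} : Set R)) ⟨y, hy⟩
    exact congrArg Subtype.val this
  have hcommA' : ∀ a ∈ A, ∀ b ∈ A, a * b = b * a := by
    intro a ha b hb
    obtain ⟨c, hc⟩ := hdecomp a ha
    obtain ⟨d, hd⟩ := hdecomp b hb
    have := hcomp a ha b hb c d hc hd
    rw [hcommW _ (hIW hc) _ (hIW hd), sub_self] at this
    exact sub_eq_zero.1 this
  have hS0 : S = ⊥ := by
    rw [eq_bot_iff]
    apply Submodule.span_le.2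
    rintro _ ⟨a, ha, b, hb, rfl⟩
    show _ ∈ (⊥ : Submodule k R)
    rw [hcommA' a ha b hb, sub_self]
    exact Submodule.zero_mem _
  have hA2 : ∀ a ∈ A, ∃ c d : k, a = c • ε + d • w := by
    intro a ha
    obtain ⟨c₁, c₂, c₃, hc, hmem⟩ := hdep ε w a
    have hyA : c₁ • ε + c₂ • w + c₃ • a ∈ A :=
      A.add_mem (A.add_mem (A.smul_mem _ hεA) (A.smul_mem _ (hIA w hwI))) (A.smul_mem _ ha)
    have hy0 := hcommA _ hyA hmem
    rw [hS0, Submodule.mem_bot] at hy0
    by_cases hc3 : c₃ = 0
    · exfalso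
      subst hc3
      rw [zero_smul, add_zero] at hy0
      have hc1 : c₁ = 0 := hεw c₁ c₂ (by rw [hy0]; exact I.zero_mem)
      subst hc1
      rw [zero_smul, zero_add] at hy0
      have hc2 : c₂ = 0 := by
        rcases smul_eq_zero.1 hy0 with h | h
        · exact h
        · exact absurd h hw0
      subst hc2
      rcases hc with h | h | h <;> exact h rfl
    · refine ⟨-(c₃⁻¹ * c₁), -(c₃⁻¹ * c₂), ?_⟩
      have h1 : c₃ • a = -(c₁ • ε + c₂ • w) := eq_neg_of_add_eq_zero_right hy0
      have h2 : a = c₃⁻¹ • (c₃ • a) := by rw [smul_smul, inv_mul_cancel₀ hc3, one_smul]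
      rw [h2, h1, smul_neg, smul_add, smul_smul, smul_smul, neg_add, neg_smul, neg_smul]
  -- the central element
  set z : R := ∑ i, u i * w * v i with hz
  have hwε : w * ε = w := (hIA w hwI).2
  have hεw' : ε * w = w := (hIA w hwI).1
  have hzc : ∀ x, z * x = x * z := by
    intro x
    have h1 : z * x = ∑ j, ∑ i, u j * (w * (v j * x * u i)) * v i := by
      calc z * x = z * x * (∑ i, u i * v i) := by rw [hsum, mul_one]
        _ = _ := by
          rw [hz]
          simp only [Finset.mul_sum, Finset.sum_mul]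
          rw [Finset.sum_comm]
          refine Finset.sum_congr rfl fun j _ => Finset.sum_congr rfl fun i _ => ?_
          noncomm_ring
    have h2 : x * z = ∑ j, ∑ i, u j * ((v j * x * u i) * w) * v i := by
      calc x * z = (∑ j, u j * v j) * x * z := by rw [hsum, one_mul]
        _ = _ := by
          rw [hz]
          simp only [Finset.mul_sum, Finset.sum_mul]
          rw [Finset.sum_comm]
          refine Finset.sum_congr rfl fun j _ => Finset.sum_congr rfl fun i _ => ?_
          noncomm_ring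
    rw [h1, h2]
    refine Finset.sum_congr rfl fun j _ => Finset.sum_congr rfl fun i _ => ?_
    rw [hcommA' w (hIA w hwI) _ (hvAu x j i)]
  have hzu : ∀ i, z * u i = u i * w := by
    intro i
    rw [hz, Finset.sum_mul]
    have : ∀ l, u l * w * v l * u i = if l = i then u i * w else 0 := by
      intro l
      rw [mul_assoc (u l * w), hvu]
      split_ifs with h
      · subst h
        rw [mul_assoc, hwε]
      · simp
    simp only [this]
    simp
  refine ⟨fun i j => u i * v j, z, hzc, ?_, ?_⟩
  · intro r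
    rw [hexp r]
    refine Submodule.sum_mem _ fun i _ => Submodule.sum_mem _ fun j _ => ?_
    obtain ⟨c, d, hcd⟩ := hA2 _ (hvAu r i j)
    rw [hcd]
    have h1 : u i * (c • ε + d • w) * v j = c • (u i * v j) + d • (z * (u i * v j)) := by
      rw [← mul_assoc z, hzu, mul_add, add_mul, mul_smul_comm, mul_smul_comm, smul_mul_assoc, smul_mul_assoc, huε]
    rw [h1]
    refine Submodule.add_mem _ (Submodule.smul_mem _ _ (Submodule.subset_span (Or.inl ⟨(i, j), rfl⟩)))
      (Submodule.smul_mem _ _ (Submodule.subset_span (Or.inr ⟨(i, j), rfl⟩)))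
  · rw [Fintype.linearIndependent_iff]
    intro c hc x
    simp only [Fintype.sum_prod_type, Fintype.sum_bool, if_true, Bool.false_eq_true, if_false] at hc
    obtain ⟨i₀, j₀, b⟩ := x
    have h1 : ∀ i j, v i₀ * (u i * v j) * u j₀ = if i = i₀ ∧ j = j₀ then ε else 0 := by
      intro i j
      rw [mul_assoc, mul_assoc, hvu, ← mul_assoc, hvu]
      by_cases hi : i₀ = i
      · subst hi
        by_cases hj : j = j₀
        · subst hj
          simp [hε.eq]
        · simp [hj]
      · simp [hi, Ne.symm hi]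
    have h2 : ∀ i j, v i₀ * (z * (u i * v j)) * u j₀ = if i = i₀ ∧ j = j₀ then w else 0 := by
      intro i j
      rw [← mul_assoc z, hzu]
      have : v i₀ * (u i * w * v j) * u j₀ = (v i₀ * u i) * w * (v j * u j₀) := by noncomm_ring
      rw [this, hvu, hvu]
      by_cases hi : i₀ = i
      · subst hi
        by_cases hj : j = j₀
        · subst hj
          simp [hεw', hwε]
        · simp [hj]
      · simp [hi, Ne.symm hi]
    have h3 := congrArg (fun y => v i₀ * y * u j₀) hc
    simp only [Finset.mul_sum, Finset.sum_mul, mul_zero, zero_mul, mul_add, add_mul, mul_smul_comm,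
      smul_mul_assoc, h1, h2] at h3
    rw [Finset.sum_eq_single i₀, Finset.sum_eq_single j₀] at h3
    · simp only [and_self, if_true] at h3
      have h4 : c (i₀, j₀, true) = 0 ∧ c (i₀, j₀, false) = 0 := by
        have h5 : c (i₀, j₀, false) = 0 := by
          refine hεw _ (c (i₀, j₀, true)) ?_
          rw [add_comm] at h3
          rw [h3]
          exact I.zero_mem
        rw [h5, zero_smul, add_zero] at h3
        refine ⟨?_, h5⟩
        rcases smul_eq_zero.1 h3 with h | h
        · exact h
        · exact absurd h hw0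
      cases b
      · exact h4.2
      · exact h4.1
    · intro j _ hj
      simp [hj]
    · simp
    · intro i _ hi
      simp [hi]
    · simp

end Core

section Main

variable {k R : Type*} [Field k] [IsAlgClosed k] [Ring R] [Algebra k R] [FiniteDimensional k R]

/-- The dependence of any three elements modulo commutators. -/
theorem dep_of_center (t : R →ₗ[k] k) (ht : ∀ x y, t (x * y) = t (y * x))
    (hnd : ∀ x, (∀ y, t (x * y) = 0) → x = 0) (hZ : finrank k (Subalgebra.center k R) ≤ 2)
    (a₁ a₂ a₃ : R) : ∃ c₁ c₂ c₃ : k, (c₁ ≠ 0 ∨ c₂ ≠ 0 ∨ c₃ ≠ 0) ∧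
      c₁ • a₁ + c₂ • a₂ + c₃ • a₃ ∈ commSpan k R := by
  classical
  let B : LinearMap.BilinForm k R := LinearMap.mk₂ k (fun x y => t (x * y))
    (fun x y z => by rw [add_mul, map_add]) (fun c x y => by rw [smul_mul_assoc, map_smul])
    (fun x y z => by rw [mul_add, map_add]) (fun c x y => by rw [mul_smul_comm, map_smul])
  have hB : ∀ x y, B x y = t (x * y) := fun x y => rfl
  have hBn : B.Nondegenerate := by
    constructor
    · intro x hx
      exact hnd x (fun y => hx y)
    · intro x hx
      refine hnd x (fun y => ?_)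
      rw [ht]
      exact hx y
  set W := commSpan k R with hW
  have h1 := LinearMap.BilinForm.finrank_orthogonal hBn W
  have h2 : B.orthogonal W ≤ Subalgebra.toSubmodule (Subalgebra.center k R) := by
    intro x hx
    rw [Subalgebra.mem_toSubmodule, Subalgebra.mem_center_iff]
    intro a
    rw [← sub_eq_zero]
    apply hnd
    intro b
    have h3 : B (b * a - a * b) x = 0 := by
      apply hx
      exact Submodule.subset_span ⟨_, _, rfl⟩
    rw [hB] at h3
    have h4 : t ((a * x - x * a) * b) = t ((b * a - a * b) * x) := by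
      simp only [sub_mul, map_sub, mul_assoc]
      rw [ht a (x * b), ht x (a * b), mul_assoc x b a, ht x (b * a)]
      rw [sub_eq_sub_iff_add_eq_add]
      simp only [mul_assoc]
    rw [h4, h3]
  have h5 : finrank k (B.orthogonal W) ≤ 2 :=
    (Submodule.finrank_mono h2).trans hZ
  have h6 := Submodule.finrank_quotient_add_finrank W
  have h7 : finrank k W ≤ finrank k R := Submodule.finrank_le W
  have h8 : finrank k (R ⧸ W) ≤ 2 := by omega
  let b : Fin 3 → R ⧸ W := ![Submodule.Quotient.mk a₁, Submodule.Quotient.mk a₂, Submodule.Quotient.mk a₃]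
  have h9 : ¬ LinearIndependent k b := by
    intro hb
    have := hb.fintype_card_le_finrank
    simp only [Fintype.card_fin] at this
    omega
  rw [Fintype.not_linearIndependent_iff] at h9
  obtain ⟨g, hg, i, hi⟩ := h9
  refine ⟨g 0, g 1, g 2, ?_, ?_⟩
  · by_contra hall
    push_neg at hall
    obtain ⟨h01, h02, h03⟩ := hall
    apply hi
    fin_cases i
    · exact h01
    · exact h02
    · exact h03
  · rw [Fin.sum_univ_three] at hg
    have : (Submodule.Quotient.mk (g 0 • a₁ + g 1 • a₂ + g 2 • a₃) : R ⧸ W) = 0 := by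
      simpa [b, Submodule.Quotient.mk_add, Submodule.Quotient.mk_smul] using hg
    exact (Submodule.Quotient.mk_eq_zero W).1 this

/-- **Structure theorem**: `R ≅ M_n(k[x]/(x²))`, in the form used below. -/
theorem exists_structure (t : R →ₗ[k] k) (ht : ∀ x y, t (x * y) = t (y * x))
    (hnd : ∀ x, (∀ y, t (x * y) = 0) → x = 0) (hZ : finrank k (Subalgebra.center k R) ≤ 2)
    (hJ0 : Ring.jacobson R ≠ ⊥) :
    ∃ (n : ℕ) (a : Fin n → Fin n → R) (z : R), 0 < n ∧ (∀ x, z * x = x * z) ∧
      (∀ r, r ∈ Submodule.span k (Set.range (fun ij : Fin n × Fin n => a ij.1 ij.2) ∪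
        Set.range (fun ij : Fin n × Fin n => z * a ij.1 ij.2))) ∧
      2 * (n * n) ≤ finrank k R := by
  classical
  haveI : IsArtinianRing R := IsArtinianRing.of_finite k R
  set J := Ring.jacobson R with hJdef
  have hn : IsNilpotent J := IsSemiprimaryRing.isNilpotent
  let q : R →ₐ[k] R ⧸ J := Ideal.Quotient.mkₐ k J
  have hqs : Function.Surjective q := Ideal.Quotient.mk_surjective
  haveI : FiniteDimensional k (R ⧸ J) := Module.Finite.of_surjective q.toLinearMap hqs
  obtain ⟨m, d, hd, ⟨e⟩⟩ := IsSemisimpleRing.exists_algEquiv_pi_matrix_of_isAlgClosed (F := k) (R := R ⧸ J)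
  let f : R →ₐ[k] (Π i, Matrix (Fin (d i)) (Fin (d i)) k) := (e : (R ⧸ J) →ₐ[k] _).comp q
  have hfs : Function.Surjective f := e.surjective.comp hqs
  have hfk : ∀ x, f x = 0 ↔ x ∈ J := by
    intro x
    show e (q x) = 0 ↔ _
    rw [EmbeddingLike.map_eq_zero_iff]
    exact Ideal.Quotient.eq_zero_iff_mem
  have hdep := dep_of_center t ht hnd hZ
  obtain ⟨j₀, hj₀, hj₀n⟩ : ∃ j ∈ J, j ≠ 0 := by
    by_contra hno
    push_neg at hno
    apply hJ0
    rw [eq_bot_iff]
    intro x hx
    exact hno x hx
  obtain ⟨y₀, hy₀⟩ : ∃ y, t (j₀ * y) ≠ 0 := by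
    by_contra hno
    push_neg at hno
    exact hj₀n (hnd j₀ hno)
  have ha₃ : j₀ * y₀ ∈ J := J.mul_mem_right _ hj₀
  haveI : Nontrivial R := ⟨⟨j₀, 0, hj₀n⟩⟩
  have hm0 : m ≠ 0 := by
    rintro rfl
    have h1 : (1 : R) ∈ J := by
      rw [← hfk]
      exact Subsingleton.elim _ _
    have h2 := Ring.jacobson_lt_top R
    exact h2.ne ((Ideal.eq_top_iff_one J).2 h1)
  have hm1 : m = 1 := by
    by_contra hm
    have hm2 : 2 ≤ m := by omega
    let i₀ : Fin m := ⟨0, by omega⟩
    let i₁ : Fin m := ⟨1, by omega⟩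
    have h01 : i₀ ≠ i₁ := by simp [i₀, i₁, Fin.ext_iff]
    haveI := hd i₀
    haveI := hd i₁
    obtain ⟨a₁, ha₁⟩ := hfs (Pi.single i₀ (Matrix.single 0 0 (1 : k)))
    obtain ⟨a₂, ha₂⟩ := hfs (Pi.single i₁ (Matrix.single 0 0 (1 : k)))
    obtain ⟨c₁, c₂, c₃, hc, hmem⟩ := hdep a₁ a₂ (j₀ * y₀)
    have hτ : ∀ i, ∀ x ∈ commSpan k R, Matrix.trace (f x i) = 0 := by
      intro i x hx
      refine Submodule.span_induction (p := fun x _ => Matrix.trace (f x i) = 0) ?_ ?_ ?_ ?_ hx
      · rintro _ ⟨a, b, rfl⟩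
        simp only [map_sub, map_mul, Pi.sub_apply, Pi.mul_apply, Matrix.trace_sub]
        rw [Matrix.trace_mul_comm, sub_self]
      · simp
      · intro x y _ _ h1 h2
        simp only [map_add, Pi.add_apply, Matrix.trace_add, h1, h2, add_zero]
      · intro c x _ h1
        simp only [map_smul, Pi.smul_apply, Matrix.trace_smul, h1, smul_zero]
    have hJ3 : f (j₀ * y₀) = 0 := (hfk _).2 ha₃
    have h1 := hτ i₀ _ hmem
    have h2 := hτ i₁ _ hmem
    simp only [map_add, map_smul, ha₁, ha₂, hJ3, smul_zero, add_zero, Pi.add_apply, Pi.smul_apply,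
      Matrix.trace_add, Matrix.trace_smul, Pi.single_eq_same, Pi.single_eq_of_ne h01,
      Pi.single_eq_of_ne h01.symm, Matrix.trace_single_eq_same, Matrix.trace_zero, smul_eq_mul, mul_one,
      mul_zero] at h1 h2
    have hc₁ : c₁ = 0 := by simpa using h1
    have hc₂ : c₂ = 0 := by simpa using h2
    subst hc₁ hc₂
    have h3 : t (c₃ • (j₀ * y₀)) = 0 := by
      have hmem' : c₃ • (j₀ * y₀) ∈ commSpan k R := by simpa using hmem
      refine Submodule.span_induction (p := fun x _ => t x = 0) ?_ ?_ ?_ ?_ hmem'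
      · rintro _ ⟨a, b, rfl⟩
        rw [map_sub, ht, sub_self]
      · simp
      · intro x y _ _ h1 h2
        rw [map_add, h1, h2, add_zero]
      · intro c x _ h1
        rw [map_smul, h1, smul_zero]
    rw [map_smul, smul_eq_mul] at h3
    have hc₃ : c₃ = 0 := by
      rcases mul_eq_zero.1 h3 with h | h
      · exact h
      · exact absurd h hy₀
    subst hc₃
    simp at hc
  subst hm1
  haveI := hd 0
  let g : R →ₐ[k] Matrix (Fin (d 0)) (Fin (d 0)) k := (Pi.evalAlgHom k _ (0 : Fin 1)).comp f
  have hgs : Function.Surjective g := by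
    intro M
    obtain ⟨x, hx⟩ := hfs (Pi.single (0 : Fin 1) M)
    refine ⟨x, ?_⟩
    show f x 0 = M
    rw [hx, Pi.single_eq_same]
  have hgk : ∀ x, g x = 0 ↔ x ∈ J := by
    intro x
    rw [← hfk]
    constructor
    · intro h
      funext i
      have : i = 0 := Subsingleton.elim _ _
      subst this
      exact h
    · intro h
      show f x 0 = 0
      rw [h]
      rfl
  obtain ⟨ε, u, v, hε, huε, hvε, hsum, hvu, hfε⟩ := exists_matrix_units g hgs hn hgk
  obtain ⟨a, z, hz, hspan, hind⟩ := core g hn hgk hJ0 hdep hε huε hvε hsum hvu hfε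
  refine ⟨d 0, a, z, Nat.pos_of_ne_zero (NeZero.ne _), hz, hspan, ?_⟩
  have := hind.fintype_card_le_finrank
  simp only [Fintype.card_prod, Fintype.card_fin, Fintype.card_bool] at this
  calc 2 * (d 0 * d 0) = d 0 * (d 0 * 2) := by ring
    _ ≤ _ := this

end Main

theorem jacobson_ne_bot_of_nilpotent {R : Type*} [Ring R] {w : R} (hw : ∀ y, w * y = y * w)
    (h0 : w ≠ 0) (hn : IsNilpotent w) : Ring.jacobson R ≠ ⊥ := by
  intro hJ
  have hmem : w ∈ Ideal.jacobson (⊥ : Ideal R) := by
    rw [Ideal.mem_jacobson_iff]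
    intro y
    have hnil : IsNilpotent (y * w) := by
      have hc : Commute y w := (hw y).symm
      exact hc.isNilpotent_mul_left hn
    obtain ⟨u, hu⟩ := (hnil.isUnit_one_add)
    refine ⟨(↑u⁻¹ : R), ?_⟩
    have h1 : (↑u⁻¹ : R) * (1 + y * w) = 1 := by
      rw [← hu]; exact u.inv_mul
    have : (↑u⁻¹ : R) * y * w + ↑u⁻¹ - 1 = 0 := by
      rw [mul_add, mul_one] at h1
      rw [mul_assoc, add_comm, h1, sub_self]
    rw [this]; exact Ideal.zero_mem _
  rw [Ideal.jacobson_bot, hJ] at hmem
  exact h0 (by simpa using hmem)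

section Cut

variable (k : Type*) {A : Type*} [Field k] [Ring A] [Algebra k A]

/-- The ideal `eA` as a subspace. -/
def cut (e : A) : Submodule k A where
  carrier := {x | e * x = x}
  add_mem' := by
    intro a b ha hb
    show e * (a + b) = a + b
    have ha' : e * a = a := ha
    have hb' : e * b = b := hb
    rw [mul_add, ha', hb']
  zero_mem' := by
    show e * 0 = 0
    simp
  smul_mem' := by
    intro c x hx
    show e * (c • x) = c • x
    have hx' : e * x = x := hx
    rw [mul_smul_comm, hx']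

variable {k}

lemma mem_cut {e x : A} : x ∈ cut k e ↔ e * x = x := Iff.rfl

variable (e : A)

/-- The ring structure on `eA` for a central idempotent `e`. -/
@[reducible] def cutRing (he : e * e = e) (hc : ∀ x, e * x = x * e) : Ring (cut k e) :=
  { (inferInstance : AddCommGroup (cut k e)) with
    mul := fun x y => ⟨x.1 * y.1, by
      show e * (x.1 * y.1) = x.1 * y.1
      rw [← mul_assoc, show e * x.1 = x.1 from x.2]⟩
    one := ⟨e, he⟩
    mul_assoc := fun x y z => Subtype.ext (mul_assoc x.1 y.1 z.1)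
    one_mul := fun x => Subtype.ext x.2
    mul_one := fun x => Subtype.ext (by
      show x.1 * e = x.1
      rw [← hc]; exact x.2)
    left_distrib := fun x y z => Subtype.ext (mul_add x.1 y.1 z.1)
    right_distrib := fun x y z => Subtype.ext (add_mul x.1 y.1 z.1)
    zero_mul := fun x => Subtype.ext (zero_mul x.1)
    mul_zero := fun x => Subtype.ext (mul_zero x.1) }

variable [IsAlgClosed k] [FiniteDimensional k A]

/-- The structure theorem, for the direct factor `eA`. -/
theorem exists_structure_cut (he : e * e = e) (hc : ∀ x, e * x = x * e) (t : A →ₗ[k] k) (ht : ∀ x y, t (x * y) = t (y * x))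
    (hnd : ∀ x, (∀ y, t (x * y) = 0) → x = 0)
    (Zs : Submodule k A) (hZs : finrank k Zs ≤ 2)
    (hZ : ∀ x, e * x = x → (∀ y, x * y = y * x) → x ∈ Zs)
    {w : A} (hwe : e * w = w) (hwc : ∀ y, w * y = y * w) (hw0 : w ≠ 0) (hwn : IsNilpotent w) :
    ∃ (n : ℕ) (a : Fin n → Fin n → A) (z : A), 0 < n ∧ (∀ i j, e * a i j = a i j) ∧ e * z = z ∧
      (∀ x, z * x = x * z) ∧
      (∀ r, e * r = r → r ∈ Submodule.span k (Set.range (fun ij : Fin n × Fin n => a ij.1 ij.2) ∪
        Set.range (fun ij : Fin n × Fin n => z * a ij.1 ij.2))) ∧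
      2 * (n * n) ≤ finrank k (cut k e) := by
  classical
  letI iR : Ring (cut k e) := cutRing e he hc
  have hmul : ∀ x y : cut k e, ((x * y : cut k e) : A) = x.1 * y.1 := fun _ _ => rfl
  have hone : ((1 : cut k e) : A) = e := rfl
  letI iA : Algebra k (cut k e) := Algebra.ofModule
    (fun c x y => Subtype.ext (by
      show (c • x.1) * y.1 = c • (x.1 * y.1)
      rw [smul_mul_assoc]))
    (fun c x y => Subtype.ext (by
      show x.1 * (c • y.1) = c • (x.1 * y.1)
      rw [mul_smul_comm]))
  have hcut : ∀ x : cut k e, e * x.1 = x.1 := fun x => x.2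
  -- the form
  let t' : cut k e →ₗ[k] k := t ∘ₗ (cut k e).subtype
  have ht' : ∀ x y : cut k e, t' (x * y) = t' (y * x) := fun x y => ht x.1 y.1
  have hnd' : ∀ x : cut k e, (∀ y, t' (x * y) = 0) → x = 0 := by
    intro x hx
    apply Subtype.ext
    apply hnd
    intro y
    have h1 : e * y ∈ cut k e := by
      show e * (e * y) = e * y
      rw [← mul_assoc, he]
    have h2 := hx ⟨e * y, h1⟩
    have h3 : x.1 * (e * y) = x.1 * y := by
      rw [← mul_assoc, ← hc, hcut]
    have h4 : t' (x * ⟨e * y, h1⟩) = t (x.1 * (e * y)) := rfl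
    rw [h4, h3] at h2
    exact h2
  -- the centre
  have hcen : finrank k (Subalgebra.center k (cut k e)) ≤ 2 := by
    let f : Subalgebra.center k (cut k e) →ₗ[k] Zs :=
      { toFun := fun x => ⟨x.1.1, by
          apply hZ
          · exact x.1.2
          · intro y
            have h1 : e * y ∈ cut k e := by
              show e * (e * y) = e * y
              rw [← mul_assoc, he]
            have h2 : (x : cut k e) * ⟨e * y, h1⟩ = ⟨e * y, h1⟩ * (x : cut k e) :=
              (Subalgebra.mem_center_iff.1 x.2 ⟨e * y, h1⟩).symm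
            have h3 : x.1.1 * (e * y) = (e * y) * x.1.1 := congrArg Subtype.val h2
            calc x.1.1 * y = x.1.1 * (e * y) := by rw [← mul_assoc, ← hc, hcut]
              _ = (e * y) * x.1.1 := h3
              _ = y * x.1.1 := by rw [hc y, mul_assoc, hcut]⟩
        map_add' := fun _ _ => rfl
        map_smul' := fun _ _ => rfl }
    have hf : Function.Injective f := by
      intro x y h
      have h1 := congrArg (fun u : Zs => u.1) h
      exact Subtype.ext (Subtype.ext h1)
    exact (LinearMap.finrank_le_finrank_of_injective hf).trans hZs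
  have hJ : Ring.jacobson (cut k e) ≠ ⊥ := by
    have hw1 : (⟨w, hwe⟩ : cut k e) ≠ 0 := fun h => hw0 (congrArg Subtype.val h)
    refine jacobson_ne_bot_of_nilpotent (w := (⟨w, hwe⟩ : cut k e)) ?_ hw1 ?_
    · intro y
      exact Subtype.ext (hwc y.1)
    · obtain ⟨m, hm⟩ := hwn
      refine ⟨m + 1, ?_⟩
      have hpow : ∀ m : ℕ, ((⟨w, hwe⟩ : cut k e) ^ (m + 1)).1 = w ^ (m + 1) := by
        intro m
        induction m with
        | zero => rw [zero_add, pow_one, pow_one]
        | succ m ih =>
          rw [pow_succ _ (m + 1), hmul, ih, pow_succ w (m + 1)]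
      apply Subtype.ext
      rw [hpow, pow_succ, hm, zero_mul]
      rfl
  obtain ⟨n, a, z, hn, hz, hspan, hdim⟩ := exists_structure t' ht' hnd' hcen hJ
  refine ⟨n, fun i j => (a i j).1, z.1, hn, fun i j => hcut _, hcut _, ?_, ?_, hdim⟩
  · intro x
    have h1 : e * x ∈ cut k e := by
      show e * (e * x) = e * x
      rw [← mul_assoc, he]
    have h2 : z.1 * (e * x) = (e * x) * z.1 := congrArg Subtype.val (hz ⟨e * x, h1⟩)
    calc z.1 * x = z.1 * (e * x) := by rw [← mul_assoc, ← hc, hcut]
      _ = (e * x) * z.1 := h2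
      _ = x * z.1 := by rw [hc x, mul_assoc, hcut]
  · intro r hr
    have h1 := hspan ⟨r, hr⟩
    have h2 := Submodule.mem_map_of_mem (f := (cut k e).subtype) h1
    rw [Submodule.map_span, Set.image_union, ← Set.range_comp, ← Set.range_comp] at h2
    exact h2

end Cut

end Cfsg.Agent.Lib.Blocks.SymLocal
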