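import Mathlib
import Cfsg.Agent.Lib.Blocks.RepFin
import Cfsg.Agent.Lib.Blocks.SymLocal

/-!
# Length two modules over an algebra with a matrix quotient

`R` is an algebra with a homomorphism `f` to `M_n(k)` and a lift `ε, u, v` of the matrix units, so that the corner
`ε R ε` has `k ε` as a complement of `ker f`.  A linear form `ξ` killing `ε` and products of elements of the radical of
the corner gives a representation `Rep ξ` of `R` of dimension `2 n`: the self extension of the simple module with class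
`ξ`.  Intertwiners between `Rep ξ` and `Rep ξ'` are of a very special form if `ξ` and `ξ'` are independent.
-/

set_option autoImplicit false
set_option linter.unusedSectionVars false

namespace Cfsg.Agent.Lib.Blocks.RepFin

open Module Cfsg.Agent.Lib.Blocks.SymLocal

section Rep

variable {k R : Type*} [Field k] [Ring R] [Algebra k R] {n : ℕ} [NeZero n]

/-- The matrix unit data. -/
structure MU (f : R →ₐ[k] Matrix (Fin n) (Fin n) k) (ε : R) (u v : Fin n → R) : Prop where
  hε : IsIdempotentElem ε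
  huε : ∀ i, u i * ε = u i
  hvε : ∀ i, ε * v i = v i
  hsum : ∑ i, u i * v i = 1
  hvu : ∀ i j, v i * u j = if i = j then ε else 0
  hfε : f ε = Matrix.single 0 0 (1 : k)

variable {f : R →ₐ[k] Matrix (Fin n) (Fin n) k} {ε : R} {u v : Fin n → R}

lemma MU.vxu_mem (h : MU f ε u v) (x : R) (i j : Fin n) : v i * x * u j ∈ corner k ε :=
  ⟨by rw [← mul_assoc, ← mul_assoc, h.hvε], by rw [mul_assoc, h.huε]⟩

lemma single_mul_mul_single (M : Matrix (Fin n) (Fin n) k) :
    Matrix.single 0 0 (1 : k) * M * Matrix.single 0 0 (1 : k) = M 0 0 • Matrix.single 0 0 (1 : k) := by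
  ext i j
  by_cases hi : i = 0
  · subst hi
    by_cases hj : j = 0
    · subst hj
      simp [Matrix.mul_apply, Matrix.single_apply]
    · simp [Matrix.mul_apply, Matrix.single_apply, Ne.symm hj]
  · simp [Matrix.mul_apply, Matrix.single_apply, Ne.symm hi]

lemma MU.f_corner (h : MU f ε u v) {a : R} (ha : a ∈ corner k ε) : f a = f a 0 0 • Matrix.single 0 0 (1 : k) := by
  have h1 : f a = f ε * f a * f ε := by
    rw [← map_mul, ← map_mul, ha.1, ha.2]
  rw [h.hfε, single_mul_mul_single] at h1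
  exact h1

lemma MU.f_mul (h : MU f ε u v) {a b : R} (ha : a ∈ corner k ε) (hb : b ∈ corner k ε) :
    f (a * b) 0 0 = f a 0 0 * f b 0 0 := by
  rw [map_mul, h.f_corner ha, h.f_corner hb]
  simp [Matrix.mul_apply, Matrix.single_apply]

lemma MU.f_ε (h : MU f ε u v) : f ε 0 0 = 1 := by
  rw [h.hfε]
  simp [Matrix.single_apply]

lemma MU.ε_mem (h : MU f ε u v) : ε ∈ corner k ε := ⟨h.hε.eq, h.hε.eq⟩

lemma MU.rad_sub (h : MU f ε u v) {a : R} (ha : a ∈ corner k ε) :
    a - f a 0 0 • ε ∈ corner k ε ∧ f (a - f a 0 0 • ε) = 0 := by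
  refine ⟨(corner k ε).sub_mem ha ((corner k ε).smul_mem _ h.ε_mem), ?_⟩
  rw [map_sub, map_smul, h.hfε, ← h.f_corner ha, sub_self]

/-- The linear forms on the corner defining a self extension. -/
structure Der (f : R →ₐ[k] Matrix (Fin n) (Fin n) k) (ε : R) (ξ : R →ₗ[k] k) : Prop where
  zero : ξ ε = 0
  mul : ∀ a ∈ corner k ε, ∀ b ∈ corner k ε, f a = 0 → f b = 0 → ξ (a * b) = 0

variable {ξ ξ' : R →ₗ[k] k}

lemma Der.add {ξ₁ ξ₂ : R →ₗ[k] k} (h₁ : Der f ε ξ₁) (h₂ : Der f ε ξ₂) (c : k) : Der f ε (ξ₁ + c • ξ₂) :=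
  ⟨by simp [h₁.zero, h₂.zero], fun a ha b hb hfa hfb => by
    simp [h₁.mul a ha b hb hfa hfb, h₂.mul a ha b hb hfa hfb]⟩

lemma Der.mul_corner (h : MU f ε u v) (hξ : Der f ε ξ) {a b : R} (ha : a ∈ corner k ε) (hb : b ∈ corner k ε) :
    ξ (a * b) = f a 0 0 * ξ b + ξ a * f b 0 0 := by
  obtain ⟨hj1, hj2⟩ := h.rad_sub ha
  obtain ⟨hj3, hj4⟩ := h.rad_sub hb
  set s := f a 0 0
  set s' := f b 0 0
  set ja := a - s • ε with hja
  set jb := b - s' • ε with hjb
  have ea : a = s • ε + ja := by rw [hja]; abel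
  have eb : b = s' • ε + jb := by rw [hjb]; abel
  have hab : a * b = (s * s') • ε + s • jb + s' • ja + ja * jb := by
    calc a * b = (s • ε + ja) * (s' • ε + jb) := by rw [← ea, ← eb]
      _ = _ := by
        simp only [add_mul, mul_add, smul_mul_assoc, mul_smul_comm, h.hε.eq, hj3.1, hj1.2]
        module
  rw [hab, map_add, map_add, map_add, map_smul, map_smul, map_smul, hξ.zero, hξ.mul ja hj1 jb hj3 hj2 hj4]
  have e1 : ξ a = ξ ja := by
    rw [hja, map_sub, map_smul, hξ.zero, smul_zero, sub_zero]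
  have e2 : ξ b = ξ jb := by
    rw [hjb, map_sub, map_smul, hξ.zero, smul_zero, sub_zero]
  rw [e1, e2]
  simp only [smul_eq_mul, mul_zero, zero_add, add_zero]
  ring

/-- The action on the simple module. -/
def SS (f : R →ₐ[k] Matrix (Fin n) (Fin n) k) (u v : Fin n → R) (x : R) : Matrix (Fin n) (Fin n) k :=
  Matrix.of fun i j => f (v i * x * u j) 0 0

/-- The extension part. -/
def XX (u v : Fin n → R) (ξ : R →ₗ[k] k) (x : R) : Matrix (Fin n) (Fin n) k :=
  Matrix.of fun i j => ξ (v i * x * u j)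

lemma MU.sandwich (h : MU f ε u v) (x y : R) (i j : Fin n) :
    v i * (x * y) * u j = ∑ l, (v i * x * u l) * (v l * y * u j) := by
  calc v i * (x * y) * u j = v i * x * 1 * y * u j := by noncomm_ring
    _ = v i * x * (∑ l, u l * v l) * y * u j := by rw [h.hsum]
    _ = _ := by
      simp only [Finset.mul_sum, Finset.sum_mul]
      refine Finset.sum_congr rfl fun l _ => ?_
      noncomm_ring

lemma MU.SS_mul (h : MU f ε u v) (x y : R) : SS f u v (x * y) = SS f u v x * SS f u v y := by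
  ext i j
  simp only [SS, Matrix.of_apply, Matrix.mul_apply]
  rw [h.sandwich, map_sum, Matrix.sum_apply]
  refine Finset.sum_congr rfl fun l _ => ?_
  exact h.f_mul (h.vxu_mem x i l) (h.vxu_mem y l j)

lemma MU.XX_mul (h : MU f ε u v) (hξ : Der f ε ξ) (x y : R) :
    XX u v ξ (x * y) = SS f u v x * XX u v ξ y + XX u v ξ x * SS f u v y := by
  ext i j
  simp only [SS, XX, Matrix.of_apply, Matrix.mul_apply, Matrix.add_apply]
  rw [h.sandwich, map_sum, ← Finset.sum_add_distrib]
  refine Finset.sum_congr rfl fun l _ => ?_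
  exact hξ.mul_corner h (h.vxu_mem x i l) (h.vxu_mem y l j)

lemma MU.SS_one (h : MU f ε u v) : SS f u v 1 = 1 := by
  ext i j
  simp only [SS, Matrix.of_apply, mul_one, h.hvu, Matrix.one_apply]
  by_cases hij : i = j
  · simp [hij, h.f_ε]
  · simp [hij]

lemma MU.XX_one (h : MU f ε u v) (hξ : Der f ε ξ) : XX u v ξ 1 = 0 := by
  ext i j
  simp only [XX, Matrix.of_apply, mul_one, h.hvu, Matrix.zero_apply]
  by_cases hij : i = j
  · simp [hij, hξ.zero]
  · simp [hij]

lemma SS_add (x y : R) : SS f u v (x + y) = SS f u v x + SS f u v y := by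
  ext i j
  simp [SS, mul_add, add_mul]

lemma XX_add (x y : R) : XX u v ξ (x + y) = XX u v ξ x + XX u v ξ y := by
  ext i j
  simp [XX, mul_add, add_mul]

lemma SS_smul (c : k) (x : R) : SS f u v (c • x) = c • SS f u v x := by
  ext i j
  simp [SS]

lemma XX_smul (c : k) (x : R) : XX u v ξ (c • x) = c • XX u v ξ x := by
  ext i j
  simp [XX]

/-- The representation on the self extension. -/
def Rep (f : R →ₐ[k] Matrix (Fin n) (Fin n) k) (u v : Fin n → R) (ξ : R →ₗ[k] k) (x : R) :
    Matrix (Fin n ⊕ Fin n) (Fin n ⊕ Fin n) k :=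
  Matrix.fromBlocks (SS f u v x) (XX u v ξ x) 0 (SS f u v x)

lemma MU.Rep_mul (h : MU f ε u v) (hξ : Der f ε ξ) (x y : R) : Rep f u v ξ (x * y) = Rep f u v ξ x * Rep f u v ξ y := by
  simp only [Rep, Matrix.fromBlocks_multiply, h.SS_mul, h.XX_mul hξ]
  simp

lemma MU.Rep_one (h : MU f ε u v) (hξ : Der f ε ξ) : Rep f u v ξ 1 = 1 := by
  simp only [Rep, h.SS_one, h.XX_one hξ]
  simp

lemma Rep_add (x y : R) : Rep f u v ξ (x + y) = Rep f u v ξ x + Rep f u v ξ y := by
  simp only [Rep, SS_add, XX_add, Matrix.fromBlocks_add]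
  simp

lemma Rep_smul (c : k) (x : R) : Rep f u v ξ (c • x) = c • Rep f u v ξ x := by
  simp only [Rep, SS_smul, XX_smul, Matrix.fromBlocks_smul]
  simp

lemma Rep_sum {ι : Type*} (S : Finset ι) (x : ι → R) :
    Rep f u v ξ (∑ i ∈ S, x i) = ∑ i ∈ S, Rep f u v ξ (x i) := by
  classical
  induction S using Finset.induction_on with
  | empty =>
    have h0 : Rep f u v ξ (0 : R) = 0 := by
      have := Rep_smul (f := f) (u := u) (v := v) (ξ := ξ) (0 : k) (0 : R)
      simpa using this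
    simpa using h0
  | insert a S ha ih => rw [Finset.sum_insert ha, Finset.sum_insert ha, Rep_add, ih]

/-- The monoid homomorphism. -/
def MU.repHom (h : MU f ε u v) (hξ : Der f ε ξ) : R →* Matrix (Fin n ⊕ Fin n) (Fin n ⊕ Fin n) k where
  toFun := Rep f u v ξ
  map_one' := h.Rep_one hξ
  map_mul' := h.Rep_mul hξ

lemma MU.SS_unit (h : MU f ε u v) (i j : Fin n) : SS f u v (u i * v j) = Matrix.single i j (1 : k) := by
  ext a b
  simp only [SS, Matrix.of_apply]
  have e : v a * (u i * v j) * u b = (v a * u i) * (v j * u b) := by noncomm_ring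
  rw [e, h.hvu, h.hvu]
  by_cases h1 : a = i
  · by_cases h2 : j = b
    · subst h1 h2
      simp [h.hε.eq, h.f_ε]
    · simp [h1, h2, Matrix.single_apply, Ne.symm h2]
  · simp [h1, Ne.symm h1, Matrix.single_apply]

lemma MU.XX_unit (h : MU f ε u v) (hξ : Der f ε ξ) (i j : Fin n) : XX u v ξ (u i * v j) = 0 := by
  ext a b
  simp only [XX, Matrix.of_apply, Matrix.zero_apply]
  have e : v a * (u i * v j) * u b = (v a * u i) * (v j * u b) := by noncomm_ring
  rw [e, h.hvu, h.hvu]
  by_cases h1 : a = i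
  · by_cases h2 : j = b
    · subst h1 h2
      simp [h.hε.eq, hξ.zero]
    · simp [h1, h2]
  · simp [h1]

lemma MU.conj_unit (h : MU f ε u v) {a : R} (ha : a ∈ corner k ε) (i : Fin n) (l m : Fin n) :
    v l * (u i * a * v i) * u m = if l = i ∧ m = i then a else 0 := by
  have e : v l * (u i * a * v i) * u m = (v l * u i) * a * (v i * u m) := by noncomm_ring
  rw [e, h.hvu, h.hvu]
  by_cases h1 : l = i
  · by_cases h2 : m = i
    · subst h1 h2
      simp [ha.1, ha.2]
    · simp [h1, h2, Ne.symm h2]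
  · simp [h1]

lemma MU.SS_rad (h : MU f ε u v) {a : R} (ha : a ∈ corner k ε) (hfa : f a = 0) : SS f u v (u 0 * a * v 0) = 0 := by
  ext l m
  simp only [SS, Matrix.of_apply, Matrix.zero_apply, h.conj_unit ha]
  split_ifs
  · simp [hfa]
  · simp

lemma MU.XX_rad (h : MU f ε u v) {a : R} (ha : a ∈ corner k ε) :
    XX u v ξ (u 0 * a * v 0) = ξ a • Matrix.single 0 0 (1 : k) := by
  ext l m
  simp only [XX, Matrix.of_apply, h.conj_unit ha, Matrix.smul_apply, Matrix.single_apply, smul_eq_mul]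
  by_cases h1 : l = 0
  · by_cases h2 : m = 0
    · simp [h1, h2]
    · simp [h1, h2, Ne.symm h2]
  · simp [h1, Ne.symm h1]

/-- A matrix commuting with the matrix units is scalar. -/
lemma exists_scalar_of_commute {A : Matrix (Fin n) (Fin n) k}
    (hA : ∀ i j, A * Matrix.single i j (1 : k) = Matrix.single i j (1 : k) * A) : ∃ c : k, A = c • 1 := by
  obtain ⟨c, hc⟩ := Matrix.mem_range_scalar_of_commute_single (M := A)
    (fun i j _ => (hA i j).symm)
  refine ⟨c, ?_⟩
  rw [← hc]
  ext i j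
  simp [Matrix.scalar_apply, Matrix.diagonal_apply, Matrix.one_apply]

/-- **The form of an intertwiner** between two independent self extensions. -/
theorem MU.inter_form (h : MU f ε u v) (hξ : Der f ε ξ) (hξ' : Der f ε ξ')
    {A : Matrix (Fin n ⊕ Fin n) (Fin n ⊕ Fin n) k} (hA : ∀ x, A * Rep f u v ξ x = Rep f u v ξ' x * A)
    {j₁ j₂ : R} (h₁ : j₁ ∈ corner k ε) (h₂ : j₂ ∈ corner k ε) (hf₁ : f j₁ = 0) (hf₂ : f j₂ = 0)
    (h11 : ξ j₁ = 1) (h12 : ξ' j₁ = 0) (h21 : ξ j₂ = 0) (h22 : ξ' j₂ = 1) :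
    ∃ b : k, A = Matrix.fromBlocks 0 (b • 1) 0 0 := by
  classical
  obtain ⟨A₁, A₂, A₃, A₄, rfl⟩ : ∃ A₁ A₂ A₃ A₄, A = Matrix.fromBlocks A₁ A₂ A₃ A₄ :=
    ⟨_, _, _, _, (Matrix.fromBlocks_toBlocks A).symm⟩
  -- commuting with the matrix units
  have hcomm : ∀ i j, Matrix.fromBlocks (A₁ * Matrix.single i j (1 : k)) (A₂ * Matrix.single i j (1 : k))
      (A₃ * Matrix.single i j (1 : k)) (A₄ * Matrix.single i j (1 : k)) =
      Matrix.fromBlocks (Matrix.single i j (1 : k) * A₁) (Matrix.single i j (1 : k) * A₂)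
        (Matrix.single i j (1 : k) * A₃) (Matrix.single i j (1 : k) * A₄) := by
    intro i j
    have h1 := hA (u i * v j)
    simp only [Rep, h.SS_unit, h.XX_unit hξ, h.XX_unit hξ', Matrix.fromBlocks_multiply] at h1
    simpa using h1
  obtain ⟨a₁, rfl⟩ := exists_scalar_of_commute (A := A₁) (fun i j =>
    (Matrix.fromBlocks_inj.mp (hcomm i j)).1)
  obtain ⟨a₂, rfl⟩ := exists_scalar_of_commute (A := A₂) (fun i j =>
    (Matrix.fromBlocks_inj.mp (hcomm i j)).2.1)
  obtain ⟨a₃, rfl⟩ := exists_scalar_of_commute (A := A₃) (fun i j =>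
    (Matrix.fromBlocks_inj.mp (hcomm i j)).2.2.1)
  obtain ⟨a₄, rfl⟩ := exists_scalar_of_commute (A := A₄) (fun i j =>
    (Matrix.fromBlocks_inj.mp (hcomm i j)).2.2.2)
  have hrad : ∀ j ∈ corner k ε, f j = 0 → (a₁ * ξ j = ξ' j * a₄ ∧ a₃ * ξ j = 0) := by
    intro j hj hfj
    have h1 := hA (u 0 * j * v 0)
    simp only [Rep, h.SS_rad hj hfj, h.XX_rad hj, Matrix.fromBlocks_multiply] at h1
    obtain ⟨-, h2, -, h4⟩ := Matrix.fromBlocks_inj.mp h1
    have e2 := congrFun (congrFun h2 0) 0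
    have e4 := congrFun (congrFun h4 0) 0
    simp [Matrix.mul_apply, Matrix.single_apply, Matrix.smul_apply, Matrix.one_apply] at e2 e4
    exact ⟨by simpa [mul_comm] using e2, by simpa [mul_comm] using e4⟩
  obtain ⟨e1, e2⟩ := hrad j₁ h₁ hf₁
  obtain ⟨e3, -⟩ := hrad j₂ h₂ hf₂
  rw [h11, h12, mul_one, zero_mul] at e1
  rw [h11, mul_one] at e2
  rw [h21, h22, mul_zero, one_mul] at e3
  refine ⟨a₂, ?_⟩
  rw [e1, e2, ← e3]
  simp

/-- Compositions of intertwiners vanish. -/
theorem MU.inter_mul_eq_zero (h : MU f ε u v) (hξ : Der f ε ξ) (hξ' : Der f ε ξ')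
    {A B : Matrix (Fin n ⊕ Fin n) (Fin n ⊕ Fin n) k} (hA : ∀ x, A * Rep f u v ξ x = Rep f u v ξ' x * A)
    (hB : ∀ x, B * Rep f u v ξ' x = Rep f u v ξ x * B)
    {j₁ j₂ : R} (h₁ : j₁ ∈ corner k ε) (h₂ : j₂ ∈ corner k ε) (hf₁ : f j₁ = 0) (hf₂ : f j₂ = 0)
    (h11 : ξ j₁ = 1) (h12 : ξ' j₁ = 0) (h21 : ξ j₂ = 0) (h22 : ξ' j₂ = 1) : B * A = 0 := by
  obtain ⟨b, rfl⟩ := h.inter_form hξ hξ' hA h₁ h₂ hf₁ hf₂ h11 h12 h21 h22
  obtain ⟨b', rfl⟩ := h.inter_form hξ' hξ hB h₂ h₁ hf₂ hf₁ h22 h21 h12 h11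
  simp [Matrix.fromBlocks_multiply]

end Rep

section Main

variable {k R G : Type*} [Field k] [Ring R] [Algebra k R] {n : ℕ} [NeZero n] [Group G] [Finite G]
variable {f : R →ₐ[k] Matrix (Fin n) (Fin n) k} {ε : R} {u v : Fin n → R}

lemma Rep_zero {ξ : R →ₗ[k] k} : Rep f u v ξ (0 : R) = 0 := by
  have := Rep_smul (f := f) (u := u) (v := v) (ξ := ξ) (0 : k) (0 : R)
  simpa using this

lemma inter_of_span {ξ ξ' : R →ₗ[k] k} {ρ : G →* R} (hρ : Submodule.span k (Set.range ρ) = ⊤)
    {A : Matrix (Fin n ⊕ Fin n) (Fin n ⊕ Fin n) k}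
    (hA : ∀ g, A * Rep f u v ξ (ρ g) = Rep f u v ξ' (ρ g) * A) (x : R) :
    A * Rep f u v ξ x = Rep f u v ξ' x * A := by
  have hx : x ∈ Submodule.span k (Set.range ρ) := by rw [hρ]; trivial
  induction hx using Submodule.span_induction with
  | mem x hx =>
    obtain ⟨g, rfl⟩ := hx
    exact hA g
  | zero => rw [Rep_zero, Rep_zero, mul_zero, zero_mul]
  | add x y _ _ hx hy => rw [Rep_add, Rep_add, mul_add, add_mul, hx, hy]
  | smul c x _ hx => rw [Rep_smul, Rep_smul, Matrix.mul_smul, Matrix.smul_mul, hx]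

/-- The central transfer acts as a nonzero scalar on the simple module. -/
lemma MU.SS_central (h : MU f ε u v) {z : R} (hz : ∀ x, z * x = x * z) (hz0 : f z ≠ 0) :
    ∃ c : k, c ≠ 0 ∧ SS f u v z = c • 1 := by
  have hzε : z * ε ∈ corner k ε := by
    refine ⟨?_, by rw [mul_assoc, h.hε.eq]⟩
    rw [← mul_assoc, ← hz, mul_assoc, h.hε.eq]
  refine ⟨f (z * ε) 0 0, ?_, ?_⟩
  · intro h0
    apply hz0
    have h1 : f (z * ε) = 0 := by rw [h.f_corner hzε, h0, zero_smul]
    have h2 : z = ∑ i, u i * (z * ε) * v i := by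
      calc z = z * (∑ i, u i * v i) := by rw [h.hsum, mul_one]
        _ = _ := by
          rw [Finset.mul_sum]
          refine Finset.sum_congr rfl fun i _ => ?_
          calc z * (u i * v i) = (z * u i) * v i := by rw [mul_assoc]
            _ = u i * z * v i := by rw [hz]
            _ = u i * z * (ε * v i) := by rw [h.hvε]
            _ = _ := by noncomm_ring
    rw [h2, map_sum]
    refine Finset.sum_eq_zero fun i _ => ?_
    rw [map_mul, map_mul, h1, mul_zero, zero_mul]
  · ext i j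
    simp only [SS, Matrix.of_apply, Matrix.smul_apply, Matrix.one_apply, smul_eq_mul]
    have e : v i * z * u j = z * (v i * u j) := by
      rw [← hz, mul_assoc]
    rw [e, h.hvu]
    by_cases hij : i = j
    · simp [hij]
    · simp [hij]

/-- **No two independent self extensions** for a simple module in a block with cyclic defect group. -/
theorem no_two_functionals [Infinite k] {p : ℕ} [hp : Fact p.Prime] (hpk : (p : k) = 0)
    (h : MU f ε u v) (ρ : G →* R) (hρ : Submodule.span k (Set.range ρ) = ⊤)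
    {y : G} {m : ℕ} (hy : y ^ p ^ m = 1) {g₀ : G} (hg₀ : y * g₀ = g₀ * y)
    {D : Subgroup G} (hDy : ∀ d ∈ D, ∃ l : ℕ, y ^ l = d) [Fintype (G ⧸ D)]
    (hz : f (transferW D ρ ρ g₀) ≠ 0)
    {ξ₁ ξ₂ : R →ₗ[k] k} (h₁ : Der f ε ξ₁) (h₂ : Der f ε ξ₂)
    {j₁ j₂ : R} (hj₁ : j₁ ∈ corner k ε) (hj₂ : j₂ ∈ corner k ε) (hf₁ : f j₁ = 0) (hf₂ : f j₂ = 0)
    (h11 : ξ₁ j₁ = 1) (h12 : ξ₂ j₁ = 0) (h21 : ξ₁ j₂ = 0) (h22 : ξ₂ j₂ = 1) : False := by
  classical
  let X := Fin n ⊕ Fin n
  let ξ : k → (R →ₗ[k] k) := fun a => ξ₁ + a • ξ₂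
  have hDer : ∀ a, Der f ε (ξ a) := fun a => h₁.add h₂ a
  let r : k → (G →* Matrix X X k) := fun a => (h.repHom (hDer a)).comp ρ
  have hr : ∀ a g, r a g = Rep f u v (ξ a) (ρ g) := fun _ _ => rfl
  haveI : CharP k p := (CharP.charP_iff_prime_eq_zero hp.out).2 hpk
  haveI : Nonempty X := ⟨Sum.inl 0⟩
  haveI : ExpChar (Matrix X X k) p := ExpChar.prime hp.out
  have hnil : ∀ a, IsNilpotent (r a y - 1) := by
    intro a
    refine ⟨p ^ m, ?_⟩
    rw [sub_pow_expChar_pow_of_commute p m (Commute.one_right _), ← map_pow, hy, map_one, one_pow, sub_self]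
  choose φ c hc using fun a => exists_zero_one_form (r a y - 1) (hnil a)
  obtain ⟨φ₀, hφ₀⟩ := Finite.exists_infinite_fiber φ
  let ι := φ ⁻¹' {φ₀}
  let Rr : ι → (G →* Matrix X X k) := fun i =>
    { toFun := fun g => ((c i)⁻¹ : (Matrix X X k)ˣ) * r i g * (c i : Matrix X X k)
      map_one' := by simp
      map_mul' := by
        intro a b
        have h1 : (c i : Matrix X X k) * ((c i)⁻¹ : (Matrix X X k)ˣ) = 1 := Units.mul_inv _
        calc ((c i)⁻¹ : (Matrix X X k)ˣ) * r i (a * b) * (c i : Matrix X X k)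
            = ((c i)⁻¹ : (Matrix X X k)ˣ) * r i a * 1 * r i b * (c i : Matrix X X k) := by
              rw [map_mul]
              simp only [mul_assoc, one_mul]
          _ = _ := by
              rw [← h1]
              simp only [mul_assoc] }
  have hRr : ∀ i g, Rr i g = ((c i)⁻¹ : (Matrix X X k)ˣ) * r i g * (c i : Matrix X X k) := fun _ _ => rfl
  have hinv1 : ∀ i : ι, ((c i)⁻¹ : (Matrix X X k)ˣ) * (c i : Matrix X X k) = 1 := fun i => Units.inv_mul _
  have hinv2 : ∀ i : ι, (c i : Matrix X X k) * ((c i)⁻¹ : (Matrix X X k)ˣ) = 1 := fun i => Units.mul_inv _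
  have hRy : ∀ i : ι, Rr i y = 1 + jM k φ₀ := by
    intro i
    have h1 := hc i
    have h2 : φ i = φ₀ := i.2
    rw [h2] at h1
    have h3 : r i y * (c i : Matrix X X k) = (c i : Matrix X X k) * (1 + jM k φ₀) := by
      rw [mul_add, mul_one, ← h1, sub_mul, one_mul]
      abel
    rw [hRr, mul_assoc, h3, ← mul_assoc, hinv1, one_mul]
  have hD : ∀ i j, ∀ d ∈ D, Rr i d = Rr j d := by
    intro i j d hd
    obtain ⟨l, rfl⟩ := hDy d hd
    rw [map_pow, map_pow, hRy, hRy]
  have hg₀' : ∀ d ∈ D, d * g₀ = g₀ * d := by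
    intro d hd
    obtain ⟨l, rfl⟩ := hDy d hd
    exact (Commute.pow_left hg₀ l)
  set z := transferW D ρ ρ g₀ with hzdef
  have hzc : ∀ x, z * x = x * z := by
    intro x
    have hx : x ∈ Submodule.span k (Set.range ρ) := by rw [hρ]; trivial
    induction hx using Submodule.span_induction with
    | mem x hx =>
      obtain ⟨g, rfl⟩ := hx
      exact (transferW_comm D ρ ρ (fun _ _ => rfl) hg₀' g).symm
    | zero => simp
    | add x y _ _ hx hy => rw [mul_add, add_mul, hx, hy]
    | smul c x _ hx => rw [mul_smul_comm, smul_mul_assoc, hx]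
  obtain ⟨ω, hω, hSS⟩ := h.SS_central hzc hz
  have hfin : Finite ι := by
    refine finite_of_family D Rr g₀ hD hg₀' ?_ ?_
    · -- the square is nonzero
      intro i h0
      have h1 : transferW D (Rr i) (Rr i) g₀ =
          ((c i)⁻¹ : (Matrix X X k)ˣ) * Rep f u v (ξ i) z * (c i : Matrix X X k) := by
        rw [hzdef]
        unfold transferW
        rw [Rep_sum, Finset.mul_sum, Finset.sum_mul]
        refine Finset.sum_congr rfl fun q _ => ?_
        rw [hRr, hRr, (h.Rep_mul (hDer i)), ← hr, ← hr]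
        calc _ = ((c i)⁻¹ : (Matrix X X k)ˣ) * r i (q.out * g₀) *
              ((c i : Matrix X X k) * ((c i)⁻¹ : (Matrix X X k)ˣ)) * r i (q.out)⁻¹ * (c i : Matrix X X k) := by
                noncomm_ring
          _ = _ := by rw [hinv2, mul_one]; noncomm_ring
      rw [h1] at h0
      have h2 : ((c i)⁻¹ : (Matrix X X k)ˣ) * (Rep f u v (ξ i) z * Rep f u v (ξ i) z) * (c i : Matrix X X k) = 0 := by
        calc _ = ((c i)⁻¹ : (Matrix X X k)ˣ) * Rep f u v (ξ i) z * 1 * Rep f u v (ξ i) z * (c i : Matrix X X k) := by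
              noncomm_ring
          _ = _ := by
              rw [← hinv2 i]
              rw [← h0]
              noncomm_ring
      have h3 : Rep f u v (ξ i) z * Rep f u v (ξ i) z = 0 := by
        calc _ = (c i : Matrix X X k) * (((c i)⁻¹ : (Matrix X X k)ˣ) * (Rep f u v (ξ i) z * Rep f u v (ξ i) z) *
              (c i : Matrix X X k)) * ((c i)⁻¹ : (Matrix X X k)ˣ) := by
                simp only [mul_assoc]
                rw [hinv2, mul_one, ← mul_assoc, hinv2, one_mul]
          _ = 0 := by rw [h2, mul_zero, zero_mul]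
      rw [← h.Rep_mul (hDer i)] at h3
      have h4 : SS f u v (z * z) = 0 := by
        have h5 := congrArg Matrix.toBlocks₁₁ h3
        have h6 : Matrix.toBlocks₁₁ (0 : Matrix X X k) = 0 := by
          ext
          rfl
        rw [h6] at h5
        simpa [Rep] using h5
      rw [h.SS_mul, hSS] at h4
      have h5 := congrFun (congrFun h4 0) 0
      simp [Matrix.mul_apply, Matrix.smul_apply, Matrix.one_apply] at h5
      exact hω h5
    · -- the intertwiners
      intro i j hij A B hA hB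
      have hne : (i : k) ≠ j := fun h0 => hij (Subtype.ext h0)
      set a : k := (i : k) with ha
      set b : k := (j : k) with hb
      have hab : a - b ≠ 0 := sub_ne_zero.mpr hne
      have hba : b - a ≠ 0 := sub_ne_zero.mpr hne.symm
      have hξa : ∀ x, ξ a x = ξ₁ x + a * ξ₂ x := fun x => rfl
      have hξb : ∀ x, ξ b x = ξ₁ x + b * ξ₂ x := fun x => rfl
      have hAi : ∀ x, ((c j : Matrix X X k) * A * ((c i)⁻¹ : (Matrix X X k)ˣ)) * Rep f u v (ξ a) x =
          Rep f u v (ξ b) x * ((c j : Matrix X X k) * A * ((c i)⁻¹ : (Matrix X X k)ˣ)) := by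
        refine inter_of_span hρ fun g => ?_
        have e1 : ((c i)⁻¹ : (Matrix X X k)ˣ) * r a g = Rr i g * ((c i)⁻¹ : (Matrix X X k)ˣ) := by
          rw [hRr, mul_assoc, hinv2, mul_one]
        have e2 : (c j : Matrix X X k) * Rr j g = r b g * (c j : Matrix X X k) := by
          rw [hRr, ← mul_assoc, ← mul_assoc, hinv2, one_mul]
        rw [← hr, ← hr]
        calc _ = (c j : Matrix X X k) * A * (((c i)⁻¹ : (Matrix X X k)ˣ) * r a g) := by simp only [mul_assoc]
          _ = (c j : Matrix X X k) * (A * Rr i g) * ((c i)⁻¹ : (Matrix X X k)ˣ) := by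
              rw [e1]
              simp only [mul_assoc]
          _ = ((c j : Matrix X X k) * Rr j g) * A * ((c i)⁻¹ : (Matrix X X k)ˣ) := by
              rw [← hA]
              simp only [mul_assoc]
          _ = _ := by
              rw [e2]
              simp only [mul_assoc]
      have hBi : ∀ x, ((c i : Matrix X X k) * B * ((c j)⁻¹ : (Matrix X X k)ˣ)) * Rep f u v (ξ b) x =
          Rep f u v (ξ a) x * ((c i : Matrix X X k) * B * ((c j)⁻¹ : (Matrix X X k)ˣ)) := by
        refine inter_of_span hρ fun g => ?_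
        have e1 : ((c j)⁻¹ : (Matrix X X k)ˣ) * r b g = Rr j g * ((c j)⁻¹ : (Matrix X X k)ˣ) := by
          rw [hRr, mul_assoc, hinv2, mul_one]
        have e2 : (c i : Matrix X X k) * Rr i g = r a g * (c i : Matrix X X k) := by
          rw [hRr, ← mul_assoc, ← mul_assoc, hinv2, one_mul]
        rw [← hr, ← hr]
        calc _ = (c i : Matrix X X k) * B * (((c j)⁻¹ : (Matrix X X k)ˣ) * r b g) := by simp only [mul_assoc]
          _ = (c i : Matrix X X k) * (B * Rr j g) * ((c j)⁻¹ : (Matrix X X k)ˣ) := by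
              rw [e1]
              simp only [mul_assoc]
          _ = ((c i : Matrix X X k) * Rr i g) * B * ((c j)⁻¹ : (Matrix X X k)ˣ) := by
              rw [← hB]
              simp only [mul_assoc]
          _ = _ := by
              rw [e2]
              simp only [mul_assoc]
      have hmem : ∀ s t : k, s • (j₂ - t • j₁) ∈ corner k ε := fun s t =>
        (corner k ε).smul_mem _ ((corner k ε).sub_mem hj₂ ((corner k ε).smul_mem _ hj₁))
      have hfm : ∀ s t : k, f (s • (j₂ - t • j₁)) = 0 := fun s t => by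
        simp [hf₁, hf₂]
      have hval : ∀ (w s t : k), ξ w (s • (j₂ - t • j₁)) = s * (w - t) := by
        intro w s t
        change (ξ₁ + w • ξ₂) _ = _
        have e : (ξ₁ + w • ξ₂) (s • (j₂ - t • j₁)) = s * (ξ₁ j₂ - t * ξ₁ j₁ + w * (ξ₂ j₂ - t * ξ₂ j₁)) := by
          simp only [LinearMap.add_apply, LinearMap.smul_apply, map_smul, map_sub, smul_eq_mul]
          ring
        rw [e, h11, h12, h21, h22]
        ring
      have h0 := h.inter_mul_eq_zero (hDer a) (hDer b) hAi hBi (hmem (a - b)⁻¹ b) (hmem (b - a)⁻¹ a) (hfm _ _) (hfm _ _)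
        (by rw [hval]; exact inv_mul_cancel₀ hab) (by rw [hval, sub_self, mul_zero])
        (by rw [hval, sub_self, mul_zero]) (by rw [hval]; exact inv_mul_cancel₀ hba)
      have h1 : (c i : Matrix X X k) * (B * A) * ((c i)⁻¹ : (Matrix X X k)ˣ) = 0 := by
        rw [← h0]
        calc _ = (c i : Matrix X X k) * B * 1 * A * ((c i)⁻¹ : (Matrix X X k)ˣ) := by
              simp only [mul_assoc, one_mul]
          _ = _ := by
              rw [← hinv1 j]
              simp only [mul_assoc]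
      calc B * A = ((c i)⁻¹ : (Matrix X X k)ˣ) * ((c i : Matrix X X k) * (B * A) * ((c i)⁻¹ : (Matrix X X k)ˣ)) *
            (c i : Matrix X X k) := by
              simp only [mul_assoc]
              rw [hinv1, mul_one, ← mul_assoc, hinv1, one_mul]
        _ = 0 := by rw [h1, mul_zero, zero_mul]
  exact not_finite ι

end Main

end Cfsg.Agent.Lib.Blocks.RepFin
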