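import Mathlib
import Cfsg.Agent.Lib.Blocks.SymLocal

/-!
# Symmetric local algebras with a centre of dimension at most four are commutative

`A` is a finite-dimensional algebra over a field with a nondegenerate symmetric linear form `t`, `I` a nilpotent
subspace with `I * I ≤ I` and `A = k ⊕ I`.  If any five elements of `A` are dependent modulo the commutators
(`dim Z(A) ≤ 4`), then `A` is commutative.  The proof only needs the products in `I / I⁴`.
-/

set_option autoImplicit false
set_option linter.unusedSectionVars false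
set_option linter.style.haveILetI false

namespace Cfsg.Agent.Lib.Blocks.SymCom

open Module Cfsg.Agent.Lib.Blocks.SymLocal

section Solve

variable {k V : Type*} [Field k] [AddCommGroup V] [Module k V]

lemma eq_zero_of_smul {c : k} (hc : c ≠ 0) {X : V} (h : c • X = 0) : X = 0 :=
  (smul_eq_zero.1 h).resolve_left hc

/-- The eight associativity relations in `I³/I⁴`. -/
lemma solve8 {p q r s : k} (hqr : q - r = 1) {X Y X' Y' : V} (h1 : p • X' = p • X) (h2 : p • Y' = q • X)
    (h3 : q • X' = r • X) (h4 : q • Y' = s • X) (h5 : r • X' = p • Y) (h6 : r • Y' = q • Y)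
    (h7 : s • X' = r • Y) (h8 : s • Y' = s • Y) : X = 0 ∧ Y = 0 ∧ X' = 0 ∧ Y' = 0 := by
  have hsub : ∀ (a b : k) (U W : V), a • U = a • W → U = W ∨ a = 0 := by
    intro a b U W h
    by_cases ha : a = 0
    · exact Or.inr ha
    · left
      have := congrArg (fun v => a⁻¹ • v) h
      simpa [smul_smul, inv_mul_cancel₀ ha] using this
  have hq : q = r + 1 := by
    rw [← hqr]; ring
  by_cases hp : p = 0
  · subst hp
    simp only [zero_smul] at h1 h2 h5
    by_cases hs : s = 0
    · subst hs
      simp only [zero_smul] at h4 h7 h8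
      by_cases hq0 : q = 0
      · have hr : r ≠ 0 := by
          intro hr
          rw [hq0, hr] at hqr
          simp at hqr
        rw [hq0] at h3 h6
        simp only [zero_smul] at h3 h6
        have hX' := eq_zero_of_smul hr h5.symm.symm
        have hY := eq_zero_of_smul hr h7.symm
        have hX := eq_zero_of_smul hr h3.symm
        have hY' := eq_zero_of_smul hr h6
        exact ⟨hX, hY, hX', hY'⟩
      · have hX := eq_zero_of_smul hq0 h2.symm
        have hY' := eq_zero_of_smul hq0 h4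
        rw [hX, smul_zero] at h3
        have hX' := eq_zero_of_smul hq0 h3
        rw [hY', smul_zero] at h6
        have hY := eq_zero_of_smul hq0 h6.symm
        exact ⟨hX, hY, hX', hY'⟩
    · have hYY : Y' = Y := (hsub s 0 _ _ h8).resolve_right hs
      rw [hYY] at h6
      have h9 : (q - r) • Y = 0 := by
        rw [sub_smul, ← h6, sub_self]
      rw [hqr, one_smul] at h9
      rw [h9, smul_zero] at h7
      have hX' := eq_zero_of_smul hs h7
      rw [hYY, h9, smul_zero] at h4
      have hX := eq_zero_of_smul hs h4.symm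
      exact ⟨hX, h9, hX', by rw [hYY, h9]⟩
  · have hXX : X' = X := (hsub p 0 _ _ h1).resolve_right hp
    rw [hXX] at h3
    have h9 : (q - r) • X = 0 := by
      rw [sub_smul, h3, sub_self]
    rw [hqr, one_smul] at h9
    rw [hXX, h9, smul_zero] at h5
    have hY := eq_zero_of_smul hp h5.symm
    rw [h9, smul_zero] at h2
    have hY' := eq_zero_of_smul hp h2
    exact ⟨h9, hY, by rw [hXX, h9], hY'⟩

end Solve

section Local

variable {k A : Type*} [Field k] [Ring A] [Algebra k A]

/-- The data of a symmetric local algebra. -/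
structure LocSym (t : A →ₗ[k] k) (I : Submodule k A) : Prop where
  sym : ∀ x y, t (x * y) = t (y * x)
  nd : ∀ x, (∀ y, t (x * y) = 0) → x = 0
  II : I * I ≤ I
  dec : ∀ a : A, ∃ c : k, a - c • (1 : A) ∈ I
  one : (1 : A) ∉ I
  nil : ∃ N : ℕ, I ^ N = ⊥

variable {t : A →ₗ[k] k} {I : Submodule k A}

lemma LocSym.mem_left (h : LocSym t I) (a : A) {x : A} (hx : x ∈ I) : a * x ∈ I := by
  obtain ⟨c, hc⟩ := h.dec a
  have h1 : a * x = c • x + (a - c • (1 : A)) * x := by
    simp [sub_mul]
  rw [h1]
  exact I.add_mem (I.smul_mem _ hx) (h.II (Submodule.mul_mem_mul hc hx))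

lemma LocSym.mem_right (h : LocSym t I) (a : A) {x : A} (hx : x ∈ I) : x * a ∈ I := by
  obtain ⟨c, hc⟩ := h.dec a
  have h1 : x * a = c • x + x * (a - c • (1 : A)) := by
    simp [mul_sub]
  rw [h1]
  exact I.add_mem (I.smul_mem _ hx) (h.II (Submodule.mul_mem_mul hx hc))

/-- Stable under left multiplication. -/
def StL (W : Submodule k A) : Prop := ∀ (a : A), ∀ x ∈ W, a * x ∈ W

/-- Stable under right multiplication. -/
def StR (W : Submodule k A) : Prop := ∀ (a : A), ∀ x ∈ W, x * a ∈ W

lemma StL.mul {W : Submodule k A} (h : StL W) (V : Submodule k A) : StL (W * V) := by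
  intro a x hx
  refine Submodule.mul_induction_on hx (fun u hu v hv => ?_) (fun u v hu hv => ?_)
  · rw [← mul_assoc]
    exact Submodule.mul_mem_mul (h a u hu) hv
  · rw [mul_add]
    exact Submodule.add_mem _ hu hv

lemma StR.mul {W : Submodule k A} (h : StR W) (V : Submodule k A) : StR (V * W) := by
  intro a x hx
  refine Submodule.mul_induction_on hx (fun u hu v hv => ?_) (fun u v hu hv => ?_)
  · rw [mul_assoc]
    exact Submodule.mul_mem_mul hu (h a v hv)
  · rw [add_mul]
    exact Submodule.add_mem _ hu hv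

lemma LocSym.eq_bot_of_le_mul (h : LocSym t I) {W : Submodule k A} (hW : W ≤ W * I) : W = ⊥ := by
  obtain ⟨N, hN⟩ := h.nil
  have key : ∀ m : ℕ, W ≤ W * I ^ m := by
    intro m
    induction m with
    | zero => simp
    | succ m ih =>
      calc W ≤ W * I := hW
        _ ≤ (W * I ^ m) * I := mul_le_mul' ih le_rfl
        _ = W * I ^ (m + 1) := by rw [mul_assoc, pow_succ]
  have := key N
  rw [hN, Submodule.mul_bot] at this
  exact le_bot_iff.1 this

lemma LocSym.exists_t_ne (h : LocSym t I) {W : Submodule k A} (hW : StR W) (h0 : W ≠ ⊥) : ∃ w ∈ W, t w ≠ 0 := by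
  obtain ⟨v, hv, hv0⟩ := (Submodule.ne_bot_iff W).1 h0
  by_contra hno
  push Not at hno
  apply hv0
  apply h.nd
  intro y
  exact hno _ (hW y v hv)

lemma LocSym.t_comm (h : LocSym t I) {x : A} (hx : x ∈ commSpan k A) : t x = 0 := by
  refine Submodule.span_induction (p := fun x _ => t x = 0) ?_ ?_ ?_ ?_ hx
  · rintro _ ⟨a, b, rfl⟩
    rw [map_sub, h.sym, sub_self]
  · simp
  · intro x y _ _ h1 h2
    rw [map_add, h1, h2, add_zero]
  · intro c x _ h1
    rw [map_smul, h1, smul_zero]

lemma LocSym.comm_le (h : LocSym t I) : commSpan k A ≤ I * I := by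
  apply Submodule.span_le.2
  rintro _ ⟨a, b, rfl⟩
  obtain ⟨c, hc⟩ := h.dec a
  obtain ⟨d, hd⟩ := h.dec b
  have h1 : a * b - b * a = (a - c • 1) * (b - d • 1) - (b - d • 1) * (a - c • 1) := by
    simp only [mul_sub, sub_mul, smul_mul_assoc, mul_smul_comm, smul_smul, mul_one, one_mul, smul_sub]
    rw [mul_comm d c]
    abel
  change a * b - b * a ∈ I * I
  rw [h1]
  exact (I * I).sub_mem (Submodule.mul_mem_mul hc hd) (Submodule.mul_mem_mul hd hc)

/-- One generator: the subspace is commutative. -/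
lemma LocSym.comm_of_one_gen (h : LocSym t I) {w : A} (hwI : w ∈ I)
    (hgen : ∀ u ∈ I, ∃ c : k, u - c • w ∈ I * I) : ∀ x ∈ I, ∀ y ∈ I, x * y = y * x := by
  obtain ⟨s₀, hs₀⟩ := h.nil
  have hII := h.II
  set N : Submodule k A := Submodule.span k {w} with hN
  have hNI : N ≤ I := by
    rw [hN, Submodule.span_le]
    simpa using hwI
  have hIN : I ≤ N ⊔ I * I := by
    intro w' hw'
    obtain ⟨c, hc⟩ := hgen w' hw'
    rw [Submodule.mem_sup]
    exact ⟨c • w, N.smul_mem _ (Submodule.mem_span_singleton_self w), _, hc, by abel⟩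
  have hstep : ∀ m : ℕ, I ^ (m + 1) ≤ N ^ (m + 1) ⊔ I ^ (m + 2) := by
    intro m
    induction m with
    | zero =>
      rw [zero_add, pow_one, pow_one, pow_two]
      exact hIN
    | succ m ih =>
      have h1 : I ^ (m + 1 + 1) = I ^ (m + 1) * I := pow_succ _ _
      have h2 : I ^ (m + 1) * I ≤ (N ^ (m + 1) ⊔ I ^ (m + 2)) * (N ⊔ I * I) :=
        mul_le_mul' ih hIN
      have h3 : (N ^ (m + 1) ⊔ I ^ (m + 2)) * (N ⊔ I * I) ≤ N ^ (m + 1 + 1) ⊔ I ^ (m + 1 + 2) := by
        rw [Submodule.sup_mul, Submodule.mul_sup, Submodule.mul_sup]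
        have hNp : N ^ (m + 1) ≤ I ^ (m + 1) := pow_le_pow_left' hNI _
        refine sup_le (sup_le ?_ ?_) (sup_le ?_ ?_)
        · rw [pow_succ N (m + 1)]
          exact le_sup_left
        · refine le_trans ?_ le_sup_right
          have : I ^ (m + 1 + 2) = I ^ (m + 1) * (I * I) := by
            rw [pow_add, pow_two]
          rw [this]
          exact mul_le_mul' hNp le_rfl
        · refine le_trans ?_ le_sup_right
          have : I ^ (m + 1 + 2) = I ^ (m + 2) * I := by
            rw [show m + 1 + 2 = m + 2 + 1 by ring, pow_succ]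
          rw [this]
          exact mul_le_mul' le_rfl hNI
        · refine le_trans ?_ le_sup_right
          have : I ^ (m + 1 + 2) = I ^ (m + 2) * I := by
            rw [show m + 1 + 2 = m + 2 + 1 by ring, pow_succ]
          rw [this]
          exact mul_le_mul' le_rfl hII
      rw [h1]
      exact h2.trans h3
  set W : Submodule k A := Subalgebra.toSubmodule (Algebra.adjoin k {w}) with hW
  have hNW : N ≤ W := by
    rw [hN, Submodule.span_le]
    intro x hx
    rw [Set.mem_singleton_iff] at hx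
    subst hx
    exact Algebra.subset_adjoin (Set.mem_singleton _)
  have hNpow : ∀ m : ℕ, N ^ (m + 1) ≤ W := by
    intro m
    induction m with
    | zero => simp only [zero_add, pow_one]; exact hNW
    | succ m ih =>
      rw [pow_succ]
      refine (mul_le_mul' ih hNW).trans ?_
      rw [Submodule.mul_le]
      intro a ha b hb
      exact Subalgebra.mul_mem _ ha hb
  have hIWm : ∀ m : ℕ, I ≤ W ⊔ I ^ (m + 1) := by
    intro m
    induction m with
    | zero => simp
    | succ m ih =>
      refine ih.trans (sup_le le_sup_left ((hstep m).trans (sup_le ((hNpow m).trans le_sup_left) le_sup_right)))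
  have hIW : I ≤ W := by
    have h1 := hIWm s₀
    have h2 : I ^ (s₀ + 1) = ⊥ := by rw [pow_succ, hs₀, Submodule.bot_mul]
    rwa [h2, sup_bot_eq] at h1
  intro x hx y hy
  haveI : IsMulCommutative (Algebra.adjoin k ({w} : Set A)) := Algebra.isMulCommutative_adjoin k (by
    intro a ha b hb
    rw [Set.mem_singleton_iff] at ha hb
    rw [ha, hb])
  have := mul_comm' (⟨x, hIW hx⟩ : Algebra.adjoin k ({w} : Set A)) ⟨y, hIW hy⟩
  exact congrArg Subtype.val this

/-- **The main theorem**: if any five elements are dependent modulo commutators, the algebra is commutative. -/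
theorem LocSym.comm (h : LocSym t I)
    (hdep : ∀ v : Fin 5 → A, ∃ c : Fin 5 → k, c ≠ 0 ∧ ∑ i, c i • v i ∈ commSpan k A) (a b : A) : a * b = b * a := by
  classical
  by_contra hne
  set S := commSpan k A with hS
  have hSmem : a * b - b * a ∈ S := Submodule.subset_span ⟨a, b, rfl⟩
  have hab0 : a * b - b * a ≠ 0 := sub_ne_zero.2 hne
  have hS2 : S ≤ I * I := h.comm_le
  have hII := h.II
  have hLI : StL I := fun a x hx => h.mem_left a hx
  have hRI : StR I := fun a x hx => h.mem_right a hx
  have hI2R : StR (I * I) := hRI.mul I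
  have hI2ne : I * I ≠ ⊥ := by
    intro h0
    have := hS2 hSmem
    rw [h0] at this
    exact hab0 (by simpa using this)
  obtain ⟨w, hwI, hw⟩ := h.exists_t_ne hI2R hI2ne
  -- the expansion of five elements
  have hone : ∀ c : k, ∀ u ∈ I, c • (1 : A) + u ∈ I → c = 0 := by
    intro c u hu hmem
    by_contra hc
    apply h.one
    have h1 : c • (1 : A) ∈ I := by
      have := I.sub_mem hmem hu
      simpa using this
    have := I.smul_mem c⁻¹ h1
    rwa [smul_smul, inv_mul_cancel₀ hc, one_smul] at this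
  have hzero : ∀ x ∈ S, t x = 0 := fun x hx => h.t_comm hx
  -- three elements of `I` are dependent modulo `I * I`
  have hdep3 : ∀ x₁ ∈ I, ∀ x₂ ∈ I, ∀ x₃ ∈ I, ∃ c₁ c₂ c₃ : k, (c₁ ≠ 0 ∨ c₂ ≠ 0 ∨ c₃ ≠ 0) ∧
      c₁ • x₁ + c₂ • x₂ + c₃ • x₃ ∈ I * I := by
    intro x₁ h₁ x₂ h₂ x₃ h₃
    obtain ⟨c, hc, hmem⟩ := hdep ![1, x₁, x₂, x₃, w]
    simp only [Fin.sum_univ_five, Matrix.cons_val_zero, Matrix.cons_val_one, Matrix.cons_val] at hmem
    have hc0 : c 0 = 0 := by
      apply hone (c 0) (c 1 • x₁ + c 2 • x₂ + c 3 • x₃ + c 4 • w)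
      · exact I.add_mem (I.add_mem (I.add_mem (I.smul_mem _ h₁) (I.smul_mem _ h₂)) (I.smul_mem _ h₃))
          (I.smul_mem _ (hII hwI))
      · have := hII (hS2 hmem)
        convert this using 1
        abel
    rw [hc0, zero_smul, zero_add] at hmem
    refine ⟨c 1, c 2, c 3, ?_, ?_⟩
    · by_contra hall
      push Not at hall
      obtain ⟨h1, h2, h3⟩ := hall
      rw [h1, h2, h3] at hmem
      simp only [zero_smul, zero_add] at hmem
      have h4 := hzero _ hmem
      rw [map_smul, smul_eq_mul] at h4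
      have h5 : c 4 = 0 := (mul_eq_zero.1 h4).resolve_right hw
      apply hc
      funext i
      fin_cases i
      · exact hc0
      · exact h1
      · exact h2
      · exact h3
      · exact h5
    · have := (I * I).sub_mem (hS2 hmem) ((I * I).smul_mem (c 4) hwI)
      simpa using this
  -- the generators
  have hIne : ∃ x ∈ I, x ∉ I * I := by
    by_contra hno
    push Not at hno
    have h1 : I ≤ I * I := hno
    have h2 : I = ⊥ := h.eq_bot_of_le_mul h1
    apply hI2ne
    rw [h2]
    simp
  obtain ⟨x, hxI, hxn⟩ := hIne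
  have hy : ∃ y ∈ I, ∀ c : k, y - c • x ∉ I * I := by
    by_contra hno
    push Not at hno
    have hcomm := h.comm_of_one_gen hxI hno
    apply hab0
    obtain ⟨c, hc⟩ := h.dec a
    obtain ⟨d, hd⟩ := h.dec b
    have h1 : a * b - b * a = (a - c • 1) * (b - d • 1) - (b - d • 1) * (a - c • 1) := by
      simp only [mul_sub, sub_mul, smul_mul_assoc, mul_smul_comm, smul_smul, mul_one, one_mul, smul_sub]
      rw [mul_comm d c]
      abel
    rw [h1, hcomm _ hc _ hd, sub_self]
  obtain ⟨y, hyI, hyn⟩ := hy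
  have hind : ∀ c₁ c₂ : k, c₁ • x + c₂ • y ∈ I * I → c₁ = 0 ∧ c₂ = 0 := by
    intro c₁ c₂ hmem
    have hc₂ : c₂ = 0 := by
      by_contra hc
      apply hyn (-(c₂⁻¹ * c₁))
      have := (I * I).smul_mem c₂⁻¹ hmem
      convert this using 1
      rw [smul_add, smul_smul, smul_smul, inv_mul_cancel₀ hc, one_smul, neg_smul, sub_neg_eq_add, add_comm]
    subst hc₂
    refine ⟨?_, rfl⟩
    by_contra hc
    apply hxn
    have := (I * I).smul_mem c₁⁻¹ hmem
    simpa [smul_smul, inv_mul_cancel₀ hc] using this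
  have hgen : ∀ u ∈ I, ∃ α β : k, u - α • x - β • y ∈ I * I := by
    intro u hu
    obtain ⟨c₁, c₂, c₃, hc, hmem⟩ := hdep3 x hxI y hyI u hu
    by_cases hc₃ : c₃ = 0
    · subst hc₃
      rw [zero_smul, add_zero] at hmem
      obtain ⟨h1, h2⟩ := hind _ _ hmem
      simp [h1, h2] at hc
    · refine ⟨-(c₃⁻¹ * c₁), -(c₃⁻¹ * c₂), ?_⟩
      have := (I * I).smul_mem c₃⁻¹ hmem
      convert this using 1
      rw [smul_add, smul_add, smul_smul, smul_smul, smul_smul, inv_mul_cancel₀ hc₃, one_smul, neg_smul, neg_smul]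
      abel
  -- the kernel of `t` on `I * I` consists of commutators
  have hH : ∀ w' ∈ I * I, t w' = 0 → w' ∈ S := by
    intro w' hw' ht0
    obtain ⟨c, hc, hmem⟩ := hdep ![1, x, y, w, w']
    simp only [Fin.sum_univ_five, Matrix.cons_val_zero, Matrix.cons_val_one, Matrix.cons_val] at hmem
    have hc0 : c 0 = 0 := by
      apply hone (c 0) (c 1 • x + c 2 • y + c 3 • w + c 4 • w')
      · exact I.add_mem (I.add_mem (I.add_mem (I.smul_mem _ hxI) (I.smul_mem _ hyI)) (I.smul_mem _ (hII hwI)))
          (I.smul_mem _ (hII hw'))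
      · have := hII (hS2 hmem)
        convert this using 1
        abel
    rw [hc0, zero_smul, zero_add] at hmem
    have h12 : c 1 = 0 ∧ c 2 = 0 := by
      apply hind
      have := (I * I).sub_mem (hS2 hmem) ((I * I).add_mem ((I * I).smul_mem (c 3) hwI) ((I * I).smul_mem (c 4) hw'))
      convert this using 1
      abel
    rw [h12.1, h12.2, zero_smul, zero_smul, zero_add, zero_add] at hmem
    have hc3 : c 3 = 0 := by
      have h4 := hzero _ hmem
      rw [map_add, map_smul, map_smul, ht0, smul_zero, add_zero, smul_eq_mul] at h4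
      exact (mul_eq_zero.1 h4).resolve_right hw
    rw [hc3, zero_smul, zero_add] at hmem
    have hc4 : c 4 ≠ 0 := by
      intro hc4
      apply hc
      funext i
      fin_cases i
      · exact hc0
      · exact h12.1
      · exact h12.2
      · exact hc3
      · exact hc4
    have := S.smul_mem (c 4)⁻¹ hmem
    rwa [smul_smul, inv_mul_cancel₀ hc4, one_smul] at this
  -- the submodules
  set I3 : Submodule k A := I * I * I with hI3
  have hI3' : I3 = I * (I * I) := mul_assoc _ _ _
  have hI3R : StR I3 := hRI.mul (I * I)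
  set z : A := x * y - y * x with hz
  have hzS : z ∈ S := Submodule.subset_span ⟨x, y, rfl⟩
  have hzI2 : z ∈ I * I := hS2 hzS
  have hmemI3 : ∀ u ∈ I, ∀ v ∈ I * I, u * v ∈ I3 ∧ v * u ∈ I3 := by
    intro u hu v hv
    refine ⟨?_, Submodule.mul_mem_mul hv hu⟩
    rw [hI3']
    exact Submodule.mul_mem_mul hu hv
  -- commutators modulo `I3`
  have hSz : S ≤ Submodule.span k {z} ⊔ I3 := by
    apply Submodule.span_le.2
    rintro _ ⟨a, b, rfl⟩
    obtain ⟨c, hc⟩ := h.dec a
    obtain ⟨d, hd⟩ := h.dec b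
    obtain ⟨α, β, hab⟩ := hgen _ hc
    obtain ⟨γ, δ, hcd⟩ := hgen _ hd
    set j := a - c • 1 - α • x - β • y with hj
    set j' := b - d • 1 - γ • x - δ • y with hj'
    have ha : a = c • 1 + α • x + β • y + j := by rw [hj]; abel
    have hb : b = d • 1 + γ • x + δ • y + j' := by rw [hj']; abel
    have ha₁ : α • x + β • y ∈ I := I.add_mem (I.smul_mem _ hxI) (I.smul_mem _ hyI)
    have hb₁ : γ • x + δ • y ∈ I := I.add_mem (I.smul_mem _ hxI) (I.smul_mem _ hyI)
    have e : a * b - b * a = (α * δ - β * γ) • z +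
        (((α • x + β • y) * j' - j' * (α • x + β • y)) + (j * (γ • x + δ • y) - (γ • x + δ • y) * j) + (j * j' - j' * j)) := by
      rw [ha, hb, hz]
      simp only [add_mul, mul_add, smul_mul_assoc, mul_smul_comm, smul_add, smul_sub, mul_one, one_mul, smul_smul, mul_sub, sub_mul]
      module
    change a * b - b * a ∈ _
    rw [e]
    refine Submodule.add_mem_sup (Submodule.smul_mem _ _ (Submodule.mem_span_singleton_self z)) ?_
    refine I3.add_mem (I3.add_mem (I3.sub_mem (hmemI3 _ ha₁ _ hcd).1 (hmemI3 _ ha₁ _ hcd).2)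
      (I3.sub_mem (hmemI3 _ hb₁ _ hab).2 (hmemI3 _ hb₁ _ hab).1)) ?_
    exact I3.sub_mem (hmemI3 _ (hII hab) _ hcd).1 (hmemI3 _ (hII hab) _ hcd).2
  -- the case `I3 = 0`
  by_cases hI30 : I3 = ⊥
  · apply hab0
    have hm := hS2 hSmem
    apply h.nd
    intro v
    obtain ⟨c, hc⟩ := h.dec v
    have h1 : (a * b - b * a) * v = c • (a * b - b * a) + (a * b - b * a) * (v - c • 1) := by
      simp [mul_sub]
    have h2 : (a * b - b * a) * (v - c • 1) = 0 := by
      have : (a * b - b * a) * (v - c • 1) ∈ I3 := Submodule.mul_mem_mul hm hc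
      rw [hI30] at this
      simpa using this
    rw [h1, h2, add_zero, map_smul, hzero _ hSmem, smul_zero]
  -- the case `I3 ≠ 0`
  obtain ⟨w₃, hw₃, htw₃⟩ := h.exists_t_ne hI3R hI30
  have hstar : ∀ u ∈ I * I, u ∈ Submodule.span k {z} ⊔ I3 := by
    intro u hu
    have h1 : u - (t u / t w₃) • w₃ ∈ S := by
      apply hH
      · have h2 : I3 ≤ I * I := mul_le_mul' hII le_rfl
        exact (I * I).sub_mem hu ((I * I).smul_mem _ (h2 hw₃))
      · rw [map_sub, map_smul, smul_eq_mul, div_mul_cancel₀ _ htw₃, sub_self]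
    have h2 := hSz h1
    have h3 : u = (u - (t u / t w₃) • w₃) + (t u / t w₃) • w₃ := by abel
    rw [h3]
    exact Submodule.add_mem _ h2 (Submodule.mem_sup_right (I3.smul_mem _ hw₃))
  have hprod : ∀ u ∈ I, ∀ v ∈ I, ∃ (c : k) (j : A), j ∈ I3 ∧ u * v = c • z + j := by
    intro u hu v hv
    obtain ⟨e, he, j, hj, hej⟩ := Submodule.mem_sup.1 (hstar _ (Submodule.mul_mem_mul hu hv))
    obtain ⟨c, rfl⟩ := Submodule.mem_span_singleton.1 he
    exact ⟨c, j, hj, hej.symm⟩
  obtain ⟨p, j₁, hj₁, hp⟩ := hprod x hxI x hxI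
  obtain ⟨q, j₂, hj₂, hq⟩ := hprod x hxI y hyI
  obtain ⟨r, j₃, hj₃, hr⟩ := hprod y hyI x hxI
  obtain ⟨s, j₄, hj₄, hs⟩ := hprod y hyI y hyI
  -- `q - r = 1`
  have hqr : q - r = 1 := by
    by_contra hne1
    have h1 : (1 - (q - r)) • z ∈ I3 := by
      have h2 : (1 - (q - r)) • z = j₂ - j₃ := by
        have h3 : z = (q - r) • z + (j₂ - j₃) := by
          conv_lhs => rw [hz, hq, hr]
          module
        have h4 : (1 - (q - r)) • z = z - (q - r) • z := by module
        rw [h4]
        nth_rw 1 [h3]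
        abel
      rw [h2]
      exact I3.sub_mem hj₂ hj₃
    have hne2 : 1 - (q - r) ≠ 0 := fun h0 => hne1 (by linear_combination -h0)
    have h2 : z ∈ I3 := by
      have := I3.smul_mem (1 - (q - r))⁻¹ h1
      rwa [smul_smul, inv_mul_cancel₀ hne2, one_smul] at this
    have h3 : I * I ≤ I * I * I := by
      intro u hu
      have h4 := hstar u hu
      have h5 : Submodule.span k {z} ≤ I3 := by
        rw [Submodule.span_le]
        simpa using h2
      exact (sup_le h5 le_rfl) h4
    exact hI2ne (h.eq_bot_of_le_mul h3)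
  -- the relations modulo `I4`
  set I4 : Submodule k A := I3 * I with hI4
  have hI4' : I4 = I * I3 := by
    rw [hI4, hI3]
    simp only [mul_assoc]
  have hI22 : I4 = I * I * (I * I) := by
    rw [hI4, hI3]
    simp only [mul_assoc]
  have hrel : ∀ {u v w' : A} {β γ : k} {j j' : A}, u ∈ I → w' ∈ I → j ∈ I3 → j' ∈ I3 →
      u * v = β • z + j → v * w' = γ • z + j' → β • I4.mkQ (z * w') = γ • I4.mkQ (u * z) := by
    intro u v w' β γ j j' hu hw' hj hj' h1 h2
    have h3 : (u * v) * w' = u * (v * w') := mul_assoc _ _ _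
    rw [h1, h2] at h3
    simp only [add_mul, mul_add, smul_mul_assoc, mul_smul_comm] at h3
    have h4 : j * w' ∈ I4 := Submodule.mul_mem_mul hj hw'
    have h5 : u * j' ∈ I4 := by
      rw [hI4']
      exact Submodule.mul_mem_mul hu hj'
    have h6 : I4.mkQ (j * w') = 0 := by
      simpa using h4
    have h7 : I4.mkQ (u * j') = 0 := by
      simpa using h5
    have h8 := congrArg I4.mkQ h3
    simp only [map_add, map_smul, h6, h7, add_zero] at h8
    exact h8
  obtain ⟨hX, hY, -, -⟩ := solve8 (V := A ⧸ I4) (X := I4.mkQ (x * z)) (Y := I4.mkQ (y * z))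
    (X' := I4.mkQ (z * x)) (Y' := I4.mkQ (z * y)) hqr
    (hrel hxI hxI hj₁ hj₁ hp hp) (hrel hxI hyI hj₁ hj₂ hp hq) (hrel hxI hxI hj₂ hj₃ hq hr)
    (hrel hxI hyI hj₂ hj₄ hq hs) (hrel hyI hxI hj₃ hj₁ hr hp) (hrel hyI hyI hj₃ hj₂ hr hq)
    (hrel hyI hxI hj₄ hj₃ hs hr) (hrel hyI hyI hj₄ hj₄ hs hs)
  have hxz : x * z ∈ I4 := by simpa using hX
  have hyz : y * z ∈ I4 := by simpa using hY
  have hle : I3 ≤ I3 * I := by
    rw [hI3']
    nth_rw 1 [Submodule.mul_le]
    intro u hu v hv
    obtain ⟨α, β, hab⟩ := hgen u hu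
    obtain ⟨e, he, j₅, hj₅, hej⟩ := Submodule.mem_sup.1 (hstar v hv)
    obtain ⟨γ, rfl⟩ := Submodule.mem_span_singleton.1 he
    set j := u - α • x - β • y with hj
    have hu' : u = α • x + β • y + j := by rw [hj]; abel
    have e1 : u * v = (α * γ) • (x * z) + (β * γ) • (y * z) + γ • (j * z) + u * j₅ := by
      calc u * v = u * (γ • z) + u * j₅ := by rw [← hej, mul_add]
        _ = (α • x + β • y + j) * (γ • z) + u * j₅ := by rw [← hu']
        _ = _ := by
          simp only [add_mul, smul_mul_assoc, mul_smul_comm, smul_add, smul_smul]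
          module
    rw [← hI3', ← hI4, e1]
    refine I4.add_mem (I4.add_mem (I4.add_mem (I4.smul_mem _ hxz) (I4.smul_mem _ hyz)) (I4.smul_mem _ ?_)) ?_
    · rw [hI22]
      exact Submodule.mul_mem_mul hab hzI2
    · rw [hI4', hI3']
      exact Submodule.mul_mem_mul hu (by rw [← hI3']; exact hj₅)
  exact hI30 (h.eq_bot_of_le_mul hle)

end Local

end Cfsg.Agent.Lib.Blocks.SymCom
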