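import Mathlib
import Cfsg.Agent.Lib.Blocks.SymCom

/-!
# Symmetric algebras with simple head and a centre of dimension at most four

`R` is a finite-dimensional algebra over an algebraically closed field with a nondegenerate symmetric linear form and
`R / J(R) ≅ M_n(k)`.  If `dim Z(R) ≤ 4` then `R ≅ M_n(Z)` with `Z` commutative: every element is a sum of products
`z * (u i * v j)` with central `z`, and `n² dim Z(R) ≤ dim R`.
-/

set_option autoImplicit false
set_option linter.unusedSectionVars false
set_option linter.style.haveILetI false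

namespace Cfsg.Agent.Lib.Blocks.SymCom

open Module Cfsg.Agent.Lib.Blocks.SymLocal

section Dep

variable {k R : Type*} [Field k] [Ring R] [Algebra k R] [FiniteDimensional k R]

/-- The dependence of any five elements modulo commutators. -/
theorem dep5_of_center (t : R →ₗ[k] k) (ht : ∀ x y, t (x * y) = t (y * x))
    (hnd : ∀ x, (∀ y, t (x * y) = 0) → x = 0) (hZ : finrank k (Subalgebra.center k R) ≤ 4)
    (v : Fin 5 → R) : ∃ c : Fin 5 → k, c ≠ 0 ∧ ∑ i, c i • v i ∈ commSpan k R := by
  classical
  let B : LinearMap.BilinForm k R := LinearMap.mk₂ k (fun x y => t (x * y))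
    (fun x y z => by rw [add_mul, map_add]) (fun c x y => by rw [smul_mul_assoc, map_smul])
    (fun x y z => by rw [mul_add, map_add]) (fun c x y => by rw [mul_smul_comm, map_smul])
  have hB : ∀ x y, B x y = t (x * y) := fun x y => rfl
  have hBn : B.Nondegenerate := by
    constructor
    · intro x hx
      exact hnd x (fun y => hx y)
    · intro x hx
      refine hnd x (fun y => ?_)
      rw [ht]
      exact hx y
  set W := commSpan k R with hW
  have h1 := LinearMap.BilinForm.finrank_orthogonal hBn W
  have h2 : B.orthogonal W ≤ Subalgebra.toSubmodule (Subalgebra.center k R) := by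
    intro x hx
    rw [Subalgebra.mem_toSubmodule, Subalgebra.mem_center_iff]
    intro a
    rw [← sub_eq_zero]
    apply hnd
    intro b
    have h3 : B (b * a - a * b) x = 0 := by
      apply hx
      exact Submodule.subset_span ⟨_, _, rfl⟩
    rw [hB] at h3
    have h4 : t ((a * x - x * a) * b) = t ((b * a - a * b) * x) := by
      simp only [sub_mul, map_sub, mul_assoc]
      rw [ht a (x * b), ht x (a * b), mul_assoc x b a, ht x (b * a)]
      rw [sub_eq_sub_iff_add_eq_add]
      simp only [mul_assoc]
    rw [h4, h3]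
  have h5 : finrank k (B.orthogonal W) ≤ 4 :=
    (Submodule.finrank_mono h2).trans hZ
  have h6 := Submodule.finrank_quotient_add_finrank W
  have h7 : finrank k W ≤ finrank k R := Submodule.finrank_le W
  have h8 : finrank k (R ⧸ W) ≤ 4 := by omega
  let b : Fin 5 → R ⧸ W := fun i => Submodule.Quotient.mk (v i)
  have h9 : ¬ LinearIndependent k b := by
    intro hb
    have := hb.fintype_card_le_finrank
    simp only [Fintype.card_fin] at this
    omega
  rw [Fintype.not_linearIndependent_iff] at h9
  obtain ⟨g, hg, i, hi⟩ := h9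
  refine ⟨g, fun h0 => hi (congrFun h0 i), ?_⟩
  have : (Submodule.Quotient.mk (∑ i, g i • v i) : R ⧸ W) = 0 := by
    have h10 : (Submodule.Quotient.mk (∑ i, g i • v i) : R ⧸ W) = ∑ i, g i • b i := by
      rw [← Submodule.mkQ_apply, map_sum]
      simp [b]
    rw [h10, hg]
  exact (Submodule.Quotient.mk_eq_zero W).1 this

end Dep

section Corner

variable (k : Type*) {R : Type*} [Field k] [Ring R] [Algebra k R]

/-- The ring structure on the corner of an idempotent. -/
@[reducible] def cornerRing {ε : R} (hε : IsIdempotentElem ε) : Ring (corner k ε) :=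
  { (inferInstance : AddCommGroup (corner k ε)) with
    mul := fun x y => ⟨x.1 * y.1, by rw [← mul_assoc, x.2.1], by rw [mul_assoc, y.2.2]⟩
    one := ⟨ε, hε.eq, hε.eq⟩
    mul_assoc := fun x y z => Subtype.ext (mul_assoc x.1 y.1 z.1)
    one_mul := fun x => Subtype.ext x.2.1
    mul_one := fun x => Subtype.ext x.2.2
    left_distrib := fun x y z => Subtype.ext (mul_add x.1 y.1 z.1)
    right_distrib := fun x y z => Subtype.ext (add_mul x.1 y.1 z.1)
    zero_mul := fun x => Subtype.ext (zero_mul x.1)
    mul_zero := fun x => Subtype.ext (mul_zero x.1) }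

end Corner

section Main

variable {k R : Type*} [Field k] [Ring R] [Algebra k R] [FiniteDimensional k R]

/-- The corner of the matrix units is commutative if the centre is small. -/
theorem corner_comm {n : ℕ} [NeZero n] (t : R →ₗ[k] k) (ht : ∀ x y, t (x * y) = t (y * x))
    (hnd : ∀ x, (∀ y, t (x * y) = 0) → x = 0) (hZ : finrank k (Subalgebra.center k R) ≤ 4)
    (f : R →ₐ[k] Matrix (Fin n) (Fin n) k) {J : Ideal R} [J.IsTwoSided] (hJ : IsNilpotent J)
    (hker : ∀ x, f x = 0 ↔ x ∈ J)
    {ε : R} {u v : Fin n → R} (hε : IsIdempotentElem ε) (huε : ∀ i, u i * ε = u i) (hvε : ∀ i, ε * v i = v i)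
    (hsum : ∑ i, u i * v i = 1) (hvu : ∀ i j, v i * u j = if i = j then ε else 0)
    (hfε : f ε = Matrix.single 0 0 (1 : k)) {a b : R} (ha : a ∈ corner k ε) (hb : b ∈ corner k ε) :
    a * b = b * a := by
  classical
  set A : Submodule k R := corner k ε with hA
  letI iR : Ring A := cornerRing k hε
  letI iA : Algebra k A := Algebra.ofModule
    (fun c x y => Subtype.ext (by
      change (c • x.1) * y.1 = c • (x.1 * y.1)
      rw [smul_mul_assoc]))
    (fun c x y => Subtype.ext (by
      change x.1 * (c • y.1) = c • (x.1 * y.1)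
      rw [mul_smul_comm]))
  have hmul : ∀ x y : A, ((x * y : A) : R) = x.1 * y.1 := fun _ _ => rfl
  have hone : ((1 : A) : R) = ε := rfl
  let t₀ : A →ₗ[k] k := t ∘ₗ A.subtype
  let I₀ : Submodule k A := (Submodule.restrictScalars k J).comap A.subtype
  have hmemI : ∀ x : A, x ∈ I₀ ↔ x.1 ∈ J := fun x => Iff.rfl
  have hεA : ε ∈ A := ⟨hε.eq, hε.eq⟩
  have hfE : ∀ M : Matrix (Fin n) (Fin n) k,
      Matrix.single 0 0 (1 : k) * M * Matrix.single 0 0 (1 : k) = M 0 0 • Matrix.single 0 0 (1 : k) := by
    intro M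
    ext i j
    by_cases hi : i = 0
    · subst hi
      by_cases hj : j = 0
      · subst hj
        simp [Matrix.mul_apply, Matrix.single_apply]
      · simp [Matrix.mul_apply, Matrix.single_apply, Ne.symm hj]
    · simp [Matrix.mul_apply, Matrix.single_apply, Ne.symm hi]
  have hloc : LocSym t₀ I₀ := by
    refine ⟨fun x y => ht x.1 y.1, ?_, ?_, ?_, ?_, ?_⟩
    · intro x hx
      apply Subtype.ext
      apply hnd
      intro r
      have hr : ε * r * ε ∈ A := ⟨by rw [← mul_assoc, ← mul_assoc, hε.eq], by rw [mul_assoc, hε.eq]⟩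
      have h1 := hx ⟨ε * r * ε, hr⟩
      have h2 : t₀ (x * ⟨ε * r * ε, hr⟩) = t (x.1 * (ε * r * ε)) := rfl
      rw [h2] at h1
      have h3 : t (x.1 * r) = t (x.1 * (ε * r * ε)) := by
        have e1 : x.1 * (ε * r * ε) = (x.1 * ε) * r * ε := by noncomm_ring
        rw [e1, x.2.2]
        calc t (x.1 * r) = t (ε * (x.1 * r)) := by rw [← mul_assoc, x.2.1]
          _ = t (x.1 * r * ε) := ht _ _
      rw [h3, h1]
    · rw [Submodule.mul_le]
      intro x hx y hy
      exact J.mul_mem_left _ hy
    · intro x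
      refine ⟨f x.1 0 0, ?_⟩
      change x.1 - f x.1 0 0 • ε ∈ J
      rw [← hker, map_sub, map_smul, hfε]
      have h1 : f x.1 = f ε * f x.1 * f ε := by
        rw [← map_mul, ← map_mul, x.2.1, x.2.2]
      rw [hfε, hfE] at h1
      conv_lhs => rw [h1]
      simp
    · intro h1
      have h2 : f ε = 0 := (hker _).2 h1
      rw [hfε] at h2
      have h3 := congrFun (congrFun h2 0) 0
      simp at h3
    · obtain ⟨s₀, hs₀⟩ := hJ
      refine ⟨s₀ + 1, ?_⟩
      have hIpow : ∀ s : ℕ, ∀ x ∈ I₀ ^ (s + 1), x.1 ∈ J ^ (s + 1) := by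
        intro s
        induction s with
        | zero =>
          intro x hx
          rw [pow_one] at hx
          rw [Submodule.pow_one]
          exact hx
        | succ s ih =>
          intro x hx
          rw [pow_succ'] at hx
          rw [Ideal.IsTwoSided.pow_succ]
          refine Submodule.mul_induction_on hx (fun a ha b hb => ?_) (fun a b h1 h2 => ?_)
          · exact Ideal.mul_mem_mul ha (ih b hb)
          · exact Ideal.add_mem _ h1 h2
      rw [eq_bot_iff]
      intro x hx
      have h1 := hIpow s₀ x hx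
      have h2 : J ^ (s₀ + 1) ≤ J ^ s₀ := Ideal.pow_le_pow_right (Nat.le_succ s₀)
      rw [hs₀] at h2
      have h3 := h2 h1
      rw [Submodule.mem_bot]
      apply Subtype.ext
      simpa using h3
  -- the transfer from `R` to the corner
  have hvAu : ∀ (r : R) i j, v i * r * u j ∈ A := fun r i j =>
    ⟨by rw [← mul_assoc, ← mul_assoc, hvε], by rw [mul_assoc, huε]⟩
  let T : R →ₗ[k] R := ∑ i, (LinearMap.mulLeft k (v i)) ∘ₗ (LinearMap.mulRight k (u i))
  have hT : ∀ x, T x = ∑ i, v i * (x * u i) := by
    intro x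
    simp [T, LinearMap.sum_apply]
  set S : Submodule k R := Submodule.span k {x | ∃ a ∈ A, ∃ b ∈ A, x = a * b - b * a} with hS
  have hTmul : ∀ c d : R, T (c * d) = ∑ i, ∑ j, (v i * c * u j) * (v j * d * u i) := by
    intro c d
    rw [hT]
    refine Finset.sum_congr rfl fun i _ => ?_
    calc v i * (c * d * u i) = v i * c * 1 * d * u i := by noncomm_ring
      _ = v i * c * (∑ j, u j * v j) * d * u i := by rw [hsum]
      _ = ∑ j, (v i * c * u j) * (v j * d * u i) := by
        simp only [Finset.mul_sum, Finset.sum_mul]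
        refine Finset.sum_congr rfl fun j _ => ?_
        noncomm_ring
  have hTcomm : commSpan k R ≤ S.comap T := by
    apply Submodule.span_le.2
    rintro _ ⟨a, b, rfl⟩
    change T (a * b - b * a) ∈ S
    rw [map_sub, hTmul, hTmul]
    have h1 : ∑ i, ∑ j, (v i * b * u j) * (v j * a * u i) =
        ∑ i, ∑ j, (v j * b * u i) * (v i * a * u j) := Finset.sum_comm
    rw [h1, ← Finset.sum_sub_distrib]
    refine S.sum_mem fun i _ => ?_
    rw [← Finset.sum_sub_distrib]
    refine S.sum_mem fun j _ => ?_
    exact Submodule.subset_span ⟨_, hvAu a i j, _, hvAu b j i, rfl⟩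
  have hTA : ∀ a ∈ A, T a - a ∈ S := by
    intro a ha
    have h1 : a = ∑ i, (a * u i) * (v i * ε) := by
      have : ∑ i, (a * u i) * (v i * ε) = a * (∑ i, u i * v i) * ε := by
        simp only [Finset.mul_sum, Finset.sum_mul]
        refine Finset.sum_congr rfl fun i _ => ?_
        noncomm_ring
      rw [this, hsum, mul_one, ha.2]
    have h2 : T a = ∑ i, (v i * ε) * (a * u i) := by
      rw [hT]
      refine Finset.sum_congr rfl fun i _ => ?_
      rw [mul_assoc (v i) ε, ← mul_assoc ε, ha.1]
    have h3 : T a - a = ∑ i, ((v i * ε) * (a * u i) - (a * u i) * (v i * ε)) := by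
      rw [Finset.sum_sub_distrib, ← h1, ← h2]
    rw [h3]
    refine S.sum_mem fun i _ => Submodule.subset_span ⟨_, ?_, _, ?_, rfl⟩
    · exact ⟨by rw [← mul_assoc, hvε], by rw [mul_assoc, hε.eq]⟩
    · exact ⟨by rw [← mul_assoc, ha.1], by rw [mul_assoc, huε]⟩
  have hcommA : ∀ a ∈ A, a ∈ commSpan k R → a ∈ S := by
    intro a ha hac
    have h1 : T a ∈ S := hTcomm hac
    have h2 := S.sub_mem h1 (hTA a ha)
    simpa using h2
  have hSmap : S ≤ (commSpan k A).map A.subtype := by
    apply Submodule.span_le.2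
    rintro _ ⟨a, ha, b, hb, rfl⟩
    exact ⟨(⟨a, ha⟩ : A) * ⟨b, hb⟩ - (⟨b, hb⟩ : A) * ⟨a, ha⟩, Submodule.subset_span ⟨_, _, rfl⟩, rfl⟩
  have hdep : ∀ w : Fin 5 → A, ∃ c : Fin 5 → k, c ≠ 0 ∧ ∑ i, c i • w i ∈ commSpan k A := by
    intro w
    obtain ⟨c, hc, hmem⟩ := dep5_of_center t ht hnd hZ (fun i => (w i).1)
    refine ⟨c, hc, ?_⟩
    set y : A := ∑ i, c i • w i with hy
    have hy1 : y.1 = ∑ i, c i • (w i).1 := by
      rw [hy]
      simp
    have h1 : y.1 ∈ S := hcommA _ y.2 (by rw [hy1]; exact hmem)
    obtain ⟨y', hy', he⟩ := hSmap h1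
    have : y' = y := Subtype.ext he
    rwa [← this]
  have h0 := hloc.comm hdep ⟨a, ha⟩ ⟨b, hb⟩
  exact congrArg Subtype.val h0

open Classical in
/-- **Structure theorem.** -/
theorem exists_structure4 [IsAlgClosed k] (t : R →ₗ[k] k) (ht : ∀ x y, t (x * y) = t (y * x))
    (hnd : ∀ x, (∀ y, t (x * y) = 0) → x = 0) (hZ : finrank k (Subalgebra.center k R) ≤ 4) [Nontrivial R]
    (hfac : ∀ (m : ℕ) (d : Fin m → ℕ) (f : R →ₐ[k] (Π i, Matrix (Fin (d i)) (Fin (d i)) k)),
      (∀ i, NeZero (d i)) → Function.Surjective f → m ≤ 1) :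
    ∃ (n : ℕ) (a : Fin n → Fin n → R), 0 < n ∧
      (∀ r, r ∈ Submodule.span k {x | ∃ z ∈ Subalgebra.center k R, ∃ i j, x = z * a i j}) ∧
      n * n * finrank k (Subalgebra.center k R) ≤ finrank k R := by
  haveI : IsArtinianRing R := IsArtinianRing.of_finite k R
  set J := Ring.jacobson R with hJdef
  have hn : IsNilpotent J := IsSemiprimaryRing.isNilpotent
  let q : R →ₐ[k] R ⧸ J := Ideal.Quotient.mkₐ k J
  have hqs : Function.Surjective q := Ideal.Quotient.mk_surjective
  haveI : FiniteDimensional k (R ⧸ J) := Module.Finite.of_surjective q.toLinearMap hqs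
  obtain ⟨m, d, hd, ⟨e⟩⟩ := IsSemisimpleRing.exists_algEquiv_pi_matrix_of_isAlgClosed (F := k) (R := R ⧸ J)
  let f : R →ₐ[k] (Π i, Matrix (Fin (d i)) (Fin (d i)) k) := (e : (R ⧸ J) →ₐ[k] _).comp q
  have hfs : Function.Surjective f := e.surjective.comp hqs
  have hfk : ∀ x, f x = 0 ↔ x ∈ J := by
    intro x
    change e (q x) = 0 ↔ _
    rw [EmbeddingLike.map_eq_zero_iff]
    exact Ideal.Quotient.eq_zero_iff_mem
  have hm0 : m ≠ 0 := by
    rintro rfl
    have h1 : (1 : R) ∈ J := by
      rw [← hfk]
      exact Subsingleton.elim _ _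
    have h2 := Ring.jacobson_lt_top R
    exact h2.ne ((Ideal.eq_top_iff_one J).2 h1)
  have hm1 : m = 1 := by
    have := hfac m d f hd hfs
    omega
  subst hm1
  haveI := hd 0
  let g : R →ₐ[k] Matrix (Fin (d 0)) (Fin (d 0)) k := (Pi.evalAlgHom k _ (0 : Fin 1)).comp f
  have hgs : Function.Surjective g := by
    intro M
    obtain ⟨x, hx⟩ := hfs (Pi.single (0 : Fin 1) M)
    refine ⟨x, ?_⟩
    change f x 0 = M
    rw [hx, Pi.single_eq_same]
  have hgk : ∀ x, g x = 0 ↔ x ∈ J := by
    intro x
    rw [← hfk]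
    constructor
    · intro h
      funext i
      have : i = 0 := Subsingleton.elim _ _
      subst this
      exact h
    · intro h
      change f x 0 = 0
      rw [h]
      rfl
  obtain ⟨ε, u, v, hε, huε, hvε, hsum, hvu, hfε⟩ := exists_matrix_units g hgs hn hgk
  have hcornerC : ∀ a ∈ corner k ε, ∀ b ∈ corner k ε, a * b = b * a := fun a ha b hb =>
    corner_comm t ht hnd hZ g hn hgk hε huε hvε hsum hvu hfε ha hb
  have hvAu : ∀ (r : R) i j, v i * r * u j ∈ corner k ε := fun r i j =>
    ⟨by rw [← mul_assoc, ← mul_assoc, hvε], by rw [mul_assoc, huε]⟩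
  have hexp : ∀ r : R, r = ∑ i, ∑ j, u i * (v i * r * u j) * v j := by
    intro r
    calc r = 1 * r * 1 := by simp
      _ = (∑ i, u i * v i) * r * (∑ j, u j * v j) := by rw [hsum]
      _ = _ := by
        simp only [Finset.mul_sum, Finset.sum_mul]
        rw [Finset.sum_comm]
        refine Finset.sum_congr rfl fun i _ => Finset.sum_congr rfl fun j _ => ?_
        noncomm_ring
  -- the central element attached to an element of the corner
  let ζ : R → R := fun w => ∑ i, u i * w * v i
  have hζc : ∀ w ∈ corner k ε, ∀ x, ζ w * x = x * ζ w := by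
    intro w hw x
    have h1 : ζ w * x = ∑ j, ∑ i, u j * (w * (v j * x * u i)) * v i := by
      calc ζ w * x = ζ w * x * (∑ i, u i * v i) := by rw [hsum, mul_one]
        _ = _ := by
          simp only [ζ, Finset.mul_sum, Finset.sum_mul]
          rw [Finset.sum_comm]
          refine Finset.sum_congr rfl fun j _ => Finset.sum_congr rfl fun i _ => ?_
          noncomm_ring
    have h2 : x * ζ w = ∑ j, ∑ i, u j * ((v j * x * u i) * w) * v i := by
      calc x * ζ w = (∑ j, u j * v j) * x * ζ w := by rw [hsum, one_mul]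
        _ = _ := by
          simp only [ζ, Finset.mul_sum, Finset.sum_mul]
          rw [Finset.sum_comm]
          refine Finset.sum_congr rfl fun j _ => Finset.sum_congr rfl fun i _ => ?_
          noncomm_ring
    rw [h1, h2]
    refine Finset.sum_congr rfl fun j _ => Finset.sum_congr rfl fun i _ => ?_
    rw [hcornerC w hw _ (hvAu x j i)]
  have hζu : ∀ w ∈ corner k ε, ∀ i, ζ w * u i = u i * w := by
    intro w hw i
    simp only [ζ]
    rw [Finset.sum_mul]
    have : ∀ l, u l * w * v l * u i = if l = i then u i * w else 0 := by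
      intro l
      rw [mul_assoc (u l * w), hvu]
      split_ifs with h
      · subst h
        rw [mul_assoc, hw.2]
      · simp
    simp only [this]
    simp
  refine ⟨d 0, fun i j => u i * v j, Nat.pos_of_ne_zero (NeZero.ne _), ?_, ?_⟩
  · intro r
    rw [hexp r]
    refine Submodule.sum_mem _ fun i _ => Submodule.sum_mem _ fun j _ => ?_
    refine Submodule.subset_span ⟨ζ (v i * r * u j), ?_, i, j, ?_⟩
    · rw [Subalgebra.mem_center_iff]
      intro x
      exact (hζc _ (hvAu r i j) x).symm
    · change u i * (v i * r * u j) * v j = ζ (v i * r * u j) * (u i * v j)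
      rw [← mul_assoc (ζ _), hζu _ (hvAu r i j)]
  · -- the dimension
    let Φ : (Fin (d 0) × Fin (d 0) → Subalgebra.center k R) →ₗ[k] R :=
      { toFun := fun c => ∑ x, (c x : R) * (u x.1 * v x.2)
        map_add' := by
          intro a b
          simp [add_mul, Finset.sum_add_distrib]
        map_smul' := by
          intro c a
          simp [Finset.smul_sum] }
    have hΦ : Function.Injective Φ := by
      rw [← LinearMap.ker_eq_bot, LinearMap.ker_eq_bot']
      intro c hc
      funext x
      obtain ⟨i₀, j₀⟩ := x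
      have h1 : ∑ x, (c x : R) * (u x.1 * v x.2) = 0 := hc
      have hz : ∀ z ∈ Subalgebra.center k R, ∀ y : R, z * y = y * z := fun z hz y =>
        (Subalgebra.mem_center_iff.1 hz y).symm
      have h2 : ∀ x : Fin (d 0) × Fin (d 0), v i₀ * ((c x : R) * (u x.1 * v x.2)) * u j₀ =
          if x = (i₀, j₀) then (c x : R) * ε else 0 := by
        rintro ⟨i, j⟩
        have e1 : v i₀ * ((c (i, j) : R) * (u i * v j)) * u j₀ =
            (c (i, j) : R) * ((v i₀ * u i) * (v j * u j₀)) := by
          rw [← mul_assoc, ← hz _ (c (i, j)).2 (v i₀)]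
          noncomm_ring
        simp only [e1, hvu]
        by_cases hi : i₀ = i
        · subst hi
          by_cases hj : j = j₀
          · subst hj
            simp [hε.eq]
          · simp [hj]
        · have : ¬ (i, j) = (i₀, j₀) := fun h => hi (congrArg Prod.fst h).symm
          simp [hi, this]
      have h3 := congrArg (fun y => v i₀ * y * u j₀) h1
      simp only [Finset.mul_sum, Finset.sum_mul, mul_zero, zero_mul, h2] at h3
      rw [Finset.sum_ite_eq' Finset.univ (i₀, j₀)] at h3
      simp only [Finset.mem_univ, if_true] at h3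
      -- so `z ε = 0`, hence `z = 0`
      set z : R := (c (i₀, j₀) : R) with hzdef
      have hzu : ∀ i, z * u i = 0 := by
        intro i
        rw [← huε i, ← mul_assoc, hz _ (c (i₀, j₀)).2 (u i), mul_assoc, h3, mul_zero]
      have h5 : z = 0 := by
        calc z = z * (∑ i, u i * v i) := by rw [hsum, mul_one]
          _ = 0 := by
            rw [Finset.mul_sum]
            refine Finset.sum_eq_zero fun i _ => ?_
            rw [← mul_assoc, hzu, zero_mul]
      exact Subtype.ext h5
    have h1 := LinearMap.finrank_le_finrank_of_injective hΦ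
    have h2 : finrank k (Fin (d 0) × Fin (d 0) → Subalgebra.center k R) =
        d 0 * d 0 * finrank k (Subalgebra.center k R) := by
      rw [Module.finrank_pi_fintype]
      simp [Finset.sum_const]
    rwa [h2] at h1

end Main

section Cut

variable {k A : Type*} [Field k] [Ring A] [Algebra k A] (e : A)

variable [IsAlgClosed k] [FiniteDimensional k A]

/-- The structure theorem, for the direct factor `eA`. -/
theorem exists_structure4_cut (he : e * e = e) (hc : ∀ x, e * x = x * e) (he0 : e ≠ 0) (t : A →ₗ[k] k)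
    (ht : ∀ x y, t (x * y) = t (y * x)) (hnd : ∀ x, (∀ y, t (x * y) = 0) → x = 0)
    (Zs : Submodule k A) (hZs : finrank k Zs ≤ 4)
    (hZ : ∀ x, e * x = x → (∀ y, x * y = y * x) → x ∈ Zs)
    (hZ' : ∀ x ∈ Zs, e * x = x ∧ ∀ y, x * y = y * x)
    (hfac : ∀ (m : ℕ) (d : Fin m → ℕ) (φ : A →ₐ[k] (Π i, Matrix (Fin (d i)) (Fin (d i)) k)),
      (∀ i, NeZero (d i)) → Function.Surjective φ → φ e = 1 → m ≤ 1) :
    ∃ (n : ℕ) (a : Fin n → Fin n → A), 0 < n ∧ (∀ i j, e * a i j = a i j) ∧
      (∀ r, e * r = r → r ∈ Submodule.span k {x | ∃ z ∈ Zs, ∃ i j, x = z * a i j}) ∧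
      n * n * finrank k Zs ≤ finrank k (cut k e) := by
  classical
  letI iR : Ring (cut k e) := cutRing e he hc
  have hmul : ∀ x y : cut k e, ((x * y : cut k e) : A) = x.1 * y.1 := fun _ _ => rfl
  have hone : ((1 : cut k e) : A) = e := rfl
  letI iA : Algebra k (cut k e) := Algebra.ofModule
    (fun c x y => Subtype.ext (by
      change (c • x.1) * y.1 = c • (x.1 * y.1)
      rw [smul_mul_assoc]))
    (fun c x y => Subtype.ext (by
      change x.1 * (c • y.1) = c • (x.1 * y.1)
      rw [mul_smul_comm]))
  have hcut : ∀ x : cut k e, e * x.1 = x.1 := fun x => x.2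
  have hmemcut : ∀ y : A, e * y ∈ cut k e := fun y => by
    change e * (e * y) = e * y
    rw [← mul_assoc, he]
  -- the form
  let t' : cut k e →ₗ[k] k := t ∘ₗ (cut k e).subtype
  have ht' : ∀ x y : cut k e, t' (x * y) = t' (y * x) := fun x y => ht x.1 y.1
  have hnd' : ∀ x : cut k e, (∀ y, t' (x * y) = 0) → x = 0 := by
    intro x hx
    apply Subtype.ext
    apply hnd
    intro y
    have h2 := hx ⟨e * y, hmemcut y⟩
    have h3 : x.1 * (e * y) = x.1 * y := by
      rw [← mul_assoc, ← hc, hcut]
    have h4 : t' (x * ⟨e * y, hmemcut y⟩) = t (x.1 * (e * y)) := rfl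
    rw [h4, h3] at h2
    exact h2
  -- the centre
  have hcentral : ∀ x : cut k e, x ∈ Subalgebra.center k (cut k e) → ∀ y, x.1 * y = y * x.1 := by
    intro x hx y
    have h2 : x * ⟨e * y, hmemcut y⟩ = ⟨e * y, hmemcut y⟩ * x :=
      (Subalgebra.mem_center_iff.1 hx ⟨e * y, hmemcut y⟩).symm
    have h3 : x.1 * (e * y) = (e * y) * x.1 := congrArg Subtype.val h2
    calc x.1 * y = x.1 * (e * y) := by rw [← mul_assoc, ← hc, hcut]
      _ = (e * y) * x.1 := h3
      _ = y * x.1 := by rw [hc y, mul_assoc, hcut]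
  have hcen : finrank k (Subalgebra.center k (cut k e)) ≤ 4 := by
    let f : Subalgebra.center k (cut k e) →ₗ[k] Zs :=
      { toFun := fun x => ⟨x.1.1, hZ _ x.1.2 (hcentral x.1 x.2)⟩
        map_add' := fun _ _ => rfl
        map_smul' := fun _ _ => rfl }
    have hf : Function.Injective f := by
      intro x y h
      have h1 := congrArg (fun u : Zs => u.1) h
      exact Subtype.ext (Subtype.ext h1)
    exact (LinearMap.finrank_le_finrank_of_injective hf).trans hZs
  have hcen' : finrank k Zs ≤ finrank k (Subalgebra.center k (cut k e)) := by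
    let f : Zs →ₗ[k] Subalgebra.center k (cut k e) :=
      { toFun := fun x => ⟨⟨x.1, (hZ' x.1 x.2).1⟩, by
          rw [Subalgebra.mem_center_iff]
          intro y
          exact Subtype.ext ((hZ' x.1 x.2).2 y.1).symm⟩
        map_add' := fun _ _ => rfl
        map_smul' := fun _ _ => rfl }
    have hf : Function.Injective f := by
      intro x y h
      have h1 := congrArg (fun u : Subalgebra.center k (cut k e) => u.1.1) h
      exact Subtype.ext h1
    exact LinearMap.finrank_le_finrank_of_injective hf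
  haveI : Nontrivial (cut k e) := ⟨⟨1, 0, fun h => he0 (congrArg Subtype.val h)⟩⟩
  -- the map from `A`
  let π : A →ₐ[k] cut k e :=
    { toFun := fun x => ⟨e * x, hmemcut x⟩
      map_one' := Subtype.ext (mul_one e)
      map_mul' := fun x y => Subtype.ext (by
        change e * (x * y) = (e * x) * (e * y)
        calc e * (x * y) = (e * e) * (x * y) := by rw [he]
          _ = e * (e * x) * y := by noncomm_ring
          _ = e * (x * e) * y := by rw [hc x]
          _ = (e * x) * (e * y) := by noncomm_ring)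
      map_zero' := Subtype.ext (mul_zero e)
      map_add' := fun x y => Subtype.ext (mul_add e x y)
      commutes' := fun c => Subtype.ext (by
        change e * algebraMap k A c = (algebraMap k (cut k e) c).1
        rw [Algebra.algebraMap_eq_smul_one, Algebra.algebraMap_eq_smul_one, mul_smul_comm, mul_one]
        rfl) }
  have hπs : Function.Surjective π := fun x => ⟨x.1, Subtype.ext (hcut x)⟩
  have hπe : π e = 1 := Subtype.ext he
  have hfac' : ∀ (m : ℕ) (d : Fin m → ℕ) (f : cut k e →ₐ[k] (Π i, Matrix (Fin (d i)) (Fin (d i)) k)),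
      (∀ i, NeZero (d i)) → Function.Surjective f → m ≤ 1 := by
    intro m d f hd hf
    refine hfac m d (f.comp π) hd (hf.comp hπs) ?_
    change f (π e) = 1
    rw [hπe, map_one]
  haveI : FiniteDimensional k (cut k e) := inferInstance
  obtain ⟨n, a, hn, hspan, hdim⟩ := exists_structure4 t' ht' hnd' hcen hfac'
  refine ⟨n, fun i j => (a i j).1, hn, fun i j => hcut _, ?_, ?_⟩
  · intro r hr
    have h1 := hspan ⟨r, hr⟩
    have h2 := Submodule.mem_map_of_mem (f := (cut k e).subtype) h1
    rw [Submodule.map_span] at h2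
    refine Submodule.span_mono ?_ h2
    rintro _ ⟨_, ⟨z, hz, i, j, rfl⟩, rfl⟩
    exact ⟨z.1, hZ _ z.2 (hcentral z hz), i, j, rfl⟩
  · calc n * n * finrank k Zs ≤ n * n * finrank k (Subalgebra.center k (cut k e)) :=
        Nat.mul_le_mul_left _ hcen'
      _ ≤ _ := hdim

end Cut

end Cfsg.Agent.Lib.Blocks.SymCom
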