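import Mathlib
import Cfsg.Agent.Lib.Blocks.RepFin2
import Cfsg.Agent.Lib.Blocks.SymCom2

/-!
# The corner algebra is commutative

If the simple module of an algebra `R` with `R / J(R) = M_n(k)` has no two independent self extensions (as for a group
algebra block with cyclic defect group), then the corner `ε R ε` is generated by one element, so it is commutative and
`R ≅ M_n(Z(R))`.
-/

set_option autoImplicit false
set_option linter.unusedSectionVars false
set_option linter.style.haveILetI false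

namespace Cfsg.Agent.Lib.Blocks.RepFin

open Module Cfsg.Agent.Lib.Blocks.SymLocal Cfsg.Agent.Lib.Blocks.SymCom

section Corner

variable {k R G : Type*} [Field k] [Ring R] [Algebra k R] [FiniteDimensional k R] [Group G] [Finite G]

/-- **The corner is commutative** for blocks with cyclic defect group. -/
theorem corner_comm_of_cyclic {n : ℕ} [NeZero n] [Infinite k] {p : ℕ} [hp : Fact p.Prime] (hpk : (p : k) = 0)
    (t : R →ₗ[k] k) (ht : ∀ x y, t (x * y) = t (y * x)) (hnd : ∀ x, (∀ y, t (x * y) = 0) → x = 0)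
    (f : R →ₐ[k] Matrix (Fin n) (Fin n) k) {J : Ideal R} [J.IsTwoSided] (hJ : IsNilpotent J)
    (hker : ∀ x, f x = 0 ↔ x ∈ J)
    {ε : R} {u v : Fin n → R} (hε : IsIdempotentElem ε) (huε : ∀ i, u i * ε = u i) (hvε : ∀ i, ε * v i = v i)
    (hsum : ∑ i, u i * v i = 1) (hvu : ∀ i j, v i * u j = if i = j then ε else 0)
    (hfε : f ε = Matrix.single 0 0 (1 : k))
    (ρ : G →* R) (hρ : Submodule.span k (Set.range ρ) = ⊤)
    {y : G} {m : ℕ} (hy : y ^ p ^ m = 1) {g₀ : G} (hg₀ : y * g₀ = g₀ * y)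
    {D : Subgroup G} (hDy : ∀ d ∈ D, ∃ l : ℕ, y ^ l = d) [Fintype (G ⧸ D)]
    (hz : f (transferW D ρ ρ g₀) ≠ 0)
    {a b : R} (ha : a ∈ corner k ε) (hb : b ∈ corner k ε) :
    a * b = b * a := by
  classical
  have hMU : MU f ε u v := ⟨hε, huε, hvε, hsum, hvu, hfε⟩
  set A : Submodule k R := corner k ε with hA
  letI iR : Ring A := cornerRing k hε
  letI iA : Algebra k A := Algebra.ofModule
    (fun c x y => Subtype.ext (by
      change (c • x.1) * y.1 = c • (x.1 * y.1)
      rw [smul_mul_assoc]))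
    (fun c x y => Subtype.ext (by
      change x.1 * (c • y.1) = c • (x.1 * y.1)
      rw [mul_smul_comm]))
  have hmul : ∀ x y : A, ((x * y : A) : R) = x.1 * y.1 := fun _ _ => rfl
  have hone : ((1 : A) : R) = ε := rfl
  let t₀ : A →ₗ[k] k := t ∘ₗ A.subtype
  let I₀ : Submodule k A := (Submodule.restrictScalars k J).comap A.subtype
  have hmemI : ∀ x : A, x ∈ I₀ ↔ x.1 ∈ J := fun x => Iff.rfl
  have hεA : ε ∈ A := ⟨hε.eq, hε.eq⟩
  have hloc : LocSym t₀ I₀ := by
    refine ⟨fun x y => ht x.1 y.1, ?_, ?_, ?_, ?_, ?_⟩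
    · intro x hx
      apply Subtype.ext
      apply hnd
      intro r
      have hr : ε * r * ε ∈ A := ⟨by rw [← mul_assoc, ← mul_assoc, hε.eq], by rw [mul_assoc, hε.eq]⟩
      have h1 := hx ⟨ε * r * ε, hr⟩
      have h2 : t₀ (x * ⟨ε * r * ε, hr⟩) = t (x.1 * (ε * r * ε)) := rfl
      rw [h2] at h1
      have h3 : t (x.1 * r) = t (x.1 * (ε * r * ε)) := by
        have e1 : x.1 * (ε * r * ε) = (x.1 * ε) * r * ε := by noncomm_ring
        rw [e1, x.2.2]
        calc t (x.1 * r) = t (ε * (x.1 * r)) := by rw [← mul_assoc, x.2.1]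
          _ = t (x.1 * r * ε) := ht _ _
      rw [h3, h1]
    · rw [Submodule.mul_le]
      intro x hx y hy
      exact J.mul_mem_left _ hy
    · intro x
      refine ⟨f x.1 0 0, ?_⟩
      change x.1 - f x.1 0 0 • ε ∈ J
      rw [← hker]
      exact (hMU.rad_sub x.2).2
    · intro h1
      have h2 : f ε = 0 := (hker _).2 h1
      rw [hfε] at h2
      have h3 := congrFun (congrFun h2 0) 0
      simp at h3
    · obtain ⟨s₀, hs₀⟩ := hJ
      refine ⟨s₀ + 1, ?_⟩
      have hIpow : ∀ s : ℕ, ∀ x ∈ I₀ ^ (s + 1), x.1 ∈ J ^ (s + 1) := by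
        intro s
        induction s with
        | zero =>
          intro x hx
          rw [pow_one] at hx
          rw [Submodule.pow_one]
          exact hx
        | succ s ih =>
          intro x hx
          rw [pow_succ'] at hx
          rw [Ideal.IsTwoSided.pow_succ]
          refine Submodule.mul_induction_on hx (fun a ha b hb => ?_) (fun a b h1 h2 => ?_)
          · exact Ideal.mul_mem_mul ha (ih b hb)
          · exact Ideal.add_mem _ h1 h2
      rw [eq_bot_iff]
      intro x hx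
      have h1 := hIpow s₀ x hx
      have h2 : J ^ (s₀ + 1) ≤ J ^ s₀ := Ideal.pow_le_pow_right (Nat.le_succ s₀)
      rw [hs₀] at h2
      have h3 := h2 h1
      rw [Submodule.mem_bot]
      apply Subtype.ext
      simpa using h3
  -- one generator
  have hgen : ∃ w ∈ I₀, ∀ x ∈ I₀, ∃ c : k, x - c • w ∈ I₀ * I₀ := by
    by_contra hcon
    push Not at hcon
    obtain ⟨j₁, hj₁, hj₁'⟩ := hcon 0 I₀.zero_mem
    have hj₁n : j₁ ∉ I₀ * I₀ := by
      have := hj₁' 0
      simpa using this
    obtain ⟨j₂, hj₂, hj₂'⟩ := hcon j₁ hj₁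
    have hf₁ : f j₁.1 = 0 := (hker _).2 hj₁
    have hf₂ : f j₂.1 = 0 := (hker _).2 hj₂
    set V : Submodule k R := (I₀ * I₀).map A.subtype ⊔ Submodule.span k {ε} with hV
    have hVmem : ∀ x ∈ V, ∃ (i : A) (c : k), i ∈ I₀ * I₀ ∧ x = i.1 + c • ε := by
      intro x hx
      obtain ⟨i', hi', s, hs, rfl⟩ := Submodule.mem_sup.mp hx
      obtain ⟨i, hi, rfl⟩ := hi'
      obtain ⟨c, rfl⟩ := Submodule.mem_span_singleton.mp hs
      exact ⟨i, c, hi, rfl⟩
    have hfI : ∀ i ∈ I₀ * I₀, f i.1 = 0 := by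
      intro i hi
      exact (hker _).2 (hloc.II hi)
    have hε0 : ∀ c : k, f (c • ε) = 0 → c = 0 := by
      intro c hc
      rw [map_smul, hfε] at hc
      have := congrFun (congrFun hc 0) 0
      simpa using this
    -- `j₁ ∉ V + k j₂`
    have hn₁ : j₁.1 ∉ V ⊔ Submodule.span k {j₂.1} := by
      intro h
      obtain ⟨x, hx, s, hs, hsum'⟩ := Submodule.mem_sup.mp h
      obtain ⟨i, c, hi, rfl⟩ := hVmem x hx
      obtain ⟨c', rfl⟩ := Submodule.mem_span_singleton.mp hs
      have h1 := congrArg f hsum'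
      simp only [map_add, hfI i hi, map_smul f c', hf₁, hf₂, zero_add, smul_zero, add_zero] at h1
      have hc0 : c = 0 := hε0 c h1
      subst hc0
      rw [zero_smul, add_zero] at hsum'
      by_cases hc' : c' = 0
      · subst hc'
        apply hj₁n
        have : j₁ = i := Subtype.ext (by rw [← hsum']; simp)
        rwa [this]
      · apply hj₂' c'⁻¹
        have h2 : j₂ - c'⁻¹ • j₁ = (-c'⁻¹) • i := by
          apply Subtype.ext
          change j₂.1 - c'⁻¹ • j₁.1 = (-c'⁻¹) • i.1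
          rw [← hsum', smul_add, smul_smul, inv_mul_cancel₀ hc', one_smul, neg_smul]
          abel
        rw [h2]
        exact (I₀ * I₀).smul_mem _ hi
    have hn₂ : j₂.1 ∉ V ⊔ Submodule.span k {j₁.1} := by
      intro h
      obtain ⟨x, hx, s, hs, hsum'⟩ := Submodule.mem_sup.mp h
      obtain ⟨i, c, hi, rfl⟩ := hVmem x hx
      obtain ⟨c', rfl⟩ := Submodule.mem_span_singleton.mp hs
      have h1 := congrArg f hsum'
      simp only [map_add, hfI i hi, map_smul f c', hf₁, hf₂, zero_add, smul_zero, add_zero] at h1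
      have hc0 : c = 0 := hε0 c h1
      subst hc0
      rw [zero_smul, add_zero] at hsum'
      apply hj₂' c'
      have h2 : j₂ - c' • j₁ = i := by
        apply Subtype.ext
        change j₂.1 - c' • j₁.1 = i.1
        rw [← hsum']
        abel
      rw [h2]
      exact hi
    obtain ⟨φ₁, hφ₁, hφ₁V⟩ := Submodule.exists_dual_map_eq_bot_of_notMem hn₁ (Module.Projective.of_free)
    obtain ⟨φ₂, hφ₂, hφ₂V⟩ := Submodule.exists_dual_map_eq_bot_of_notMem hn₂ (Module.Projective.of_free)
    have hz₁ : ∀ x ∈ V ⊔ Submodule.span k {j₂.1}, φ₁ x = 0 := fun x hx => by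
      have : φ₁ x ∈ (V ⊔ Submodule.span k {j₂.1}).map φ₁ := Submodule.mem_map_of_mem hx
      rw [hφ₁V] at this
      exact (Submodule.mem_bot k).mp this
    have hz₂ : ∀ x ∈ V ⊔ Submodule.span k {j₁.1}, φ₂ x = 0 := fun x hx => by
      have : φ₂ x ∈ (V ⊔ Submodule.span k {j₁.1}).map φ₂ := Submodule.mem_map_of_mem hx
      rw [hφ₂V] at this
      exact (Submodule.mem_bot k).mp this
    have hV₁ : V ≤ V ⊔ Submodule.span k {j₂.1} := le_sup_left
    have hV₂ : V ≤ V ⊔ Submodule.span k {j₁.1} := le_sup_left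
    have hεV : ε ∈ V := Submodule.mem_sup_right (Submodule.mem_span_singleton_self ε)
    have hprod : ∀ a' ∈ corner k ε, ∀ b' ∈ corner k ε, f a' = 0 → f b' = 0 → a' * b' ∈ V := by
      intro a' ha' b' hb' hfa hfb
      refine Submodule.mem_sup_left ⟨(⟨a', ha'⟩ : A) * ⟨b', hb'⟩, ?_, rfl⟩
      exact Submodule.mul_mem_mul ((hker _).1 hfa) ((hker _).1 hfb)
    let ξ₁ : R →ₗ[k] k := (φ₁ j₁.1)⁻¹ • φ₁
    let ξ₂ : R →ₗ[k] k := (φ₂ j₂.1)⁻¹ • φ₂
    have hD₁ : Der f ε ξ₁ := ⟨by
      change (φ₁ j₁.1)⁻¹ • φ₁ ε = 0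
      rw [hz₁ ε (hV₁ hεV), smul_zero], fun a' ha' b' hb' hfa hfb => by
      change (φ₁ j₁.1)⁻¹ • φ₁ (a' * b') = 0
      rw [hz₁ _ (hV₁ (hprod a' ha' b' hb' hfa hfb)), smul_zero]⟩
    have hD₂ : Der f ε ξ₂ := ⟨by
      change (φ₂ j₂.1)⁻¹ • φ₂ ε = 0
      rw [hz₂ ε (hV₂ hεV), smul_zero], fun a' ha' b' hb' hfa hfb => by
      change (φ₂ j₂.1)⁻¹ • φ₂ (a' * b') = 0
      rw [hz₂ _ (hV₂ (hprod a' ha' b' hb' hfa hfb)), smul_zero]⟩
    refine no_two_functionals hpk hMU ρ hρ hy hg₀ hDy hz hD₁ hD₂ j₁.2 j₂.2 hf₁ hf₂ ?_ ?_ ?_ ?_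
    · change (φ₁ j₁.1)⁻¹ • φ₁ j₁.1 = 1
      rw [smul_eq_mul, inv_mul_cancel₀ hφ₁]
    · change (φ₂ j₂.1)⁻¹ • φ₂ j₁.1 = 0
      rw [hz₂ j₁.1 (Submodule.mem_sup_right (Submodule.mem_span_singleton_self _)), smul_zero]
    · change (φ₁ j₁.1)⁻¹ • φ₁ j₂.1 = 0
      rw [hz₁ j₂.1 (Submodule.mem_sup_right (Submodule.mem_span_singleton_self _)), smul_zero]
    · change (φ₂ j₂.1)⁻¹ • φ₂ j₂.1 = 1
      rw [smul_eq_mul, inv_mul_cancel₀ hφ₂]
  obtain ⟨w, hw, hgen'⟩ := hgen
  have hcomm := hloc.comm_of_one_gen hw hgen'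
  obtain ⟨c, hc⟩ := hloc.dec ⟨a, ha⟩
  obtain ⟨d, hd⟩ := hloc.dec ⟨b, hb⟩
  have h1 := hcomm _ hc _ hd
  have h2 : (⟨a, ha⟩ : A) * ⟨b, hb⟩ = ⟨b, hb⟩ * ⟨a, ha⟩ := by
    have e : (⟨a, ha⟩ : A) = c • 1 + ((⟨a, ha⟩ : A) - c • 1) := by abel
    have e' : (⟨b, hb⟩ : A) = d • 1 + ((⟨b, hb⟩ : A) - d • 1) := by abel
    set x := (⟨a, ha⟩ : A) - c • 1 with hx
    set y' := (⟨b, hb⟩ : A) - d • 1 with hy'
    calc (⟨a, ha⟩ : A) * ⟨b, hb⟩ = (c • 1 + x) * (d • 1 + y') := by rw [← e, ← e']
      _ = (d • 1 + y') * (c • 1 + x) := by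
        simp only [add_mul, mul_add, smul_mul_assoc, mul_smul_comm, one_mul, mul_one, h1]
        module
      _ = _ := by rw [← e, ← e']
  exact congrArg Subtype.val h2

end Corner

section Main

variable {k R : Type*} [Field k] [Ring R] [Algebra k R] [FiniteDimensional k R]

open Classical in
/-- **Structure theorem**, given the commutativity of the corners. -/
theorem exists_structure_of_comm [IsAlgClosed k] [Nontrivial R]
    (hC : ∀ (n : ℕ) [NeZero n] (g : R →ₐ[k] Matrix (Fin n) (Fin n) k) (J : Ideal R) [J.IsTwoSided], IsNilpotent J →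
      (∀ x, g x = 0 ↔ x ∈ J) → ∀ {ε : R} {u v : Fin n → R}, IsIdempotentElem ε → (∀ i, u i * ε = u i) →
      (∀ i, ε * v i = v i) → (∑ i, u i * v i = 1) → (∀ i j, v i * u j = if i = j then ε else 0) →
      g ε = Matrix.single 0 0 (1 : k) → ∀ a ∈ corner k ε, ∀ b ∈ corner k ε, a * b = b * a)
    (hfac : ∀ (m : ℕ) (d : Fin m → ℕ) (f : R →ₐ[k] (Π i, Matrix (Fin (d i)) (Fin (d i)) k)),
      (∀ i, NeZero (d i)) → Function.Surjective f → m ≤ 1) :
    ∃ (n : ℕ) (a : Fin n → Fin n → R), 0 < n ∧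
      (∀ r, r ∈ Submodule.span k {x | ∃ z ∈ Subalgebra.center k R, ∃ i j, x = z * a i j}) ∧
      n * n * finrank k (Subalgebra.center k R) ≤ finrank k R := by
  haveI : IsArtinianRing R := IsArtinianRing.of_finite k R
  set J := Ring.jacobson R with hJdef
  have hn : IsNilpotent J := IsSemiprimaryRing.isNilpotent
  let q : R →ₐ[k] R ⧸ J := Ideal.Quotient.mkₐ k J
  have hqs : Function.Surjective q := Ideal.Quotient.mk_surjective
  haveI : FiniteDimensional k (R ⧸ J) := Module.Finite.of_surjective q.toLinearMap hqs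
  obtain ⟨m, d, hd, ⟨e⟩⟩ := IsSemisimpleRing.exists_algEquiv_pi_matrix_of_isAlgClosed (F := k) (R := R ⧸ J)
  let f : R →ₐ[k] (Π i, Matrix (Fin (d i)) (Fin (d i)) k) := (e : (R ⧸ J) →ₐ[k] _).comp q
  have hfs : Function.Surjective f := e.surjective.comp hqs
  have hfk : ∀ x, f x = 0 ↔ x ∈ J := by
    intro x
    change e (q x) = 0 ↔ _
    rw [EmbeddingLike.map_eq_zero_iff]
    exact Ideal.Quotient.eq_zero_iff_mem
  have hm0 : m ≠ 0 := by
    rintro rfl
    have h1 : (1 : R) ∈ J := by
      rw [← hfk]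
      exact Subsingleton.elim _ _
    have h2 := Ring.jacobson_lt_top R
    exact h2.ne ((Ideal.eq_top_iff_one J).2 h1)
  have hm1 : m = 1 := by
    have := hfac m d f hd hfs
    omega
  subst hm1
  haveI := hd 0
  let g : R →ₐ[k] Matrix (Fin (d 0)) (Fin (d 0)) k := (Pi.evalAlgHom k _ (0 : Fin 1)).comp f
  have hgs : Function.Surjective g := by
    intro M
    obtain ⟨x, hx⟩ := hfs (Pi.single (0 : Fin 1) M)
    refine ⟨x, ?_⟩
    change f x 0 = M
    rw [hx, Pi.single_eq_same]
  have hgk : ∀ x, g x = 0 ↔ x ∈ J := by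
    intro x
    rw [← hfk]
    constructor
    · intro h
      funext i
      have : i = 0 := Subsingleton.elim _ _
      subst this
      exact h
    · intro h
      change f x 0 = 0
      rw [h]
      rfl
  obtain ⟨ε, u, v, hε, huε, hvε, hsum, hvu, hfε⟩ := exists_matrix_units g hgs hn hgk
  have hcornerC : ∀ a ∈ corner k ε, ∀ b ∈ corner k ε, a * b = b * a := fun a ha b hb =>
    hC _ g J hn hgk hε huε hvε hsum hvu hfε a ha b hb
  have hvAu : ∀ (r : R) i j, v i * r * u j ∈ corner k ε := fun r i j =>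
    ⟨by rw [← mul_assoc, ← mul_assoc, hvε], by rw [mul_assoc, huε]⟩
  have hexp : ∀ r : R, r = ∑ i, ∑ j, u i * (v i * r * u j) * v j := by
    intro r
    calc r = 1 * r * 1 := by simp
      _ = (∑ i, u i * v i) * r * (∑ j, u j * v j) := by rw [hsum]
      _ = _ := by
        simp only [Finset.mul_sum, Finset.sum_mul]
        rw [Finset.sum_comm]
        refine Finset.sum_congr rfl fun i _ => Finset.sum_congr rfl fun j _ => ?_
        noncomm_ring
  -- the central element attached to an element of the corner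
  let ζ : R → R := fun w => ∑ i, u i * w * v i
  have hζc : ∀ w ∈ corner k ε, ∀ x, ζ w * x = x * ζ w := by
    intro w hw x
    have h1 : ζ w * x = ∑ j, ∑ i, u j * (w * (v j * x * u i)) * v i := by
      calc ζ w * x = ζ w * x * (∑ i, u i * v i) := by rw [hsum, mul_one]
        _ = _ := by
          simp only [ζ, Finset.mul_sum, Finset.sum_mul]
          rw [Finset.sum_comm]
          refine Finset.sum_congr rfl fun j _ => Finset.sum_congr rfl fun i _ => ?_
          noncomm_ring
    have h2 : x * ζ w = ∑ j, ∑ i, u j * ((v j * x * u i) * w) * v i := by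
      calc x * ζ w = (∑ j, u j * v j) * x * ζ w := by rw [hsum, one_mul]
        _ = _ := by
          simp only [ζ, Finset.mul_sum, Finset.sum_mul]
          rw [Finset.sum_comm]
          refine Finset.sum_congr rfl fun j _ => Finset.sum_congr rfl fun i _ => ?_
          noncomm_ring
    rw [h1, h2]
    refine Finset.sum_congr rfl fun j _ => Finset.sum_congr rfl fun i _ => ?_
    rw [hcornerC w hw _ (hvAu x j i)]
  have hζu : ∀ w ∈ corner k ε, ∀ i, ζ w * u i = u i * w := by
    intro w hw i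
    simp only [ζ]
    rw [Finset.sum_mul]
    have : ∀ l, u l * w * v l * u i = if l = i then u i * w else 0 := by
      intro l
      rw [mul_assoc (u l * w), hvu]
      split_ifs with h
      · subst h
        rw [mul_assoc, hw.2]
      · simp
    simp only [this]
    simp
  refine ⟨d 0, fun i j => u i * v j, Nat.pos_of_ne_zero (NeZero.ne _), ?_, ?_⟩
  · intro r
    rw [hexp r]
    refine Submodule.sum_mem _ fun i _ => Submodule.sum_mem _ fun j _ => ?_
    refine Submodule.subset_span ⟨ζ (v i * r * u j), ?_, i, j, ?_⟩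
    · rw [Subalgebra.mem_center_iff]
      intro x
      exact (hζc _ (hvAu r i j) x).symm
    · change u i * (v i * r * u j) * v j = ζ (v i * r * u j) * (u i * v j)
      rw [← mul_assoc (ζ _), hζu _ (hvAu r i j)]
  · -- the dimension
    let Φ : (Fin (d 0) × Fin (d 0) → Subalgebra.center k R) →ₗ[k] R :=
      { toFun := fun c => ∑ x, (c x : R) * (u x.1 * v x.2)
        map_add' := by
          intro a b
          simp [add_mul, Finset.sum_add_distrib]
        map_smul' := by
          intro c a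
          simp [Finset.smul_sum] }
    have hΦ : Function.Injective Φ := by
      rw [← LinearMap.ker_eq_bot, LinearMap.ker_eq_bot']
      intro c hc
      funext x
      obtain ⟨i₀, j₀⟩ := x
      have h1 : ∑ x, (c x : R) * (u x.1 * v x.2) = 0 := hc
      have hz : ∀ z ∈ Subalgebra.center k R, ∀ y : R, z * y = y * z := fun z hz y =>
        (Subalgebra.mem_center_iff.1 hz y).symm
      have h2 : ∀ x : Fin (d 0) × Fin (d 0), v i₀ * ((c x : R) * (u x.1 * v x.2)) * u j₀ =
          if x = (i₀, j₀) then (c x : R) * ε else 0 := by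
        rintro ⟨i, j⟩
        have e1 : v i₀ * ((c (i, j) : R) * (u i * v j)) * u j₀ =
            (c (i, j) : R) * ((v i₀ * u i) * (v j * u j₀)) := by
          rw [← mul_assoc, ← hz _ (c (i, j)).2 (v i₀)]
          noncomm_ring
        simp only [e1, hvu]
        by_cases hi : i₀ = i
        · subst hi
          by_cases hj : j = j₀
          · subst hj
            simp [hε.eq]
          · simp [hj]
        · have : ¬ (i, j) = (i₀, j₀) := fun h => hi (congrArg Prod.fst h).symm
          simp [hi, this]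
      have h3 := congrArg (fun y => v i₀ * y * u j₀) h1
      simp only [Finset.mul_sum, Finset.sum_mul, mul_zero, zero_mul, h2] at h3
      rw [Finset.sum_ite_eq' Finset.univ (i₀, j₀)] at h3
      simp only [Finset.mem_univ, if_true] at h3
      -- so `z ε = 0`, hence `z = 0`
      set z : R := (c (i₀, j₀) : R) with hzdef
      have hzu : ∀ i, z * u i = 0 := by
        intro i
        rw [← huε i, ← mul_assoc, hz _ (c (i₀, j₀)).2 (u i), mul_assoc, h3, mul_zero]
      have h5 : z = 0 := by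
        calc z = z * (∑ i, u i * v i) := by rw [hsum, mul_one]
          _ = 0 := by
            rw [Finset.mul_sum]
            refine Finset.sum_eq_zero fun i _ => ?_
            rw [← mul_assoc, hzu, zero_mul]
      exact Subtype.ext h5
    have h1 := LinearMap.finrank_le_finrank_of_injective hΦ
    have h2 : finrank k (Fin (d 0) × Fin (d 0) → Subalgebra.center k R) =
        d 0 * d 0 * finrank k (Subalgebra.center k R) := by
      rw [Module.finrank_pi_fintype]
      simp [Finset.sum_const]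
    rwa [h2] at h1


end Main

section Cut

variable {k A : Type*} [Field k] [Ring A] [Algebra k A] (e : A)

variable [IsAlgClosed k] [FiniteDimensional k A]

/-- The structure theorem, for the direct factor `eA` of the group algebra, in the cyclic case. -/
theorem exists_structure_cut_cyc (he : e * e = e) (hc : ∀ x, e * x = x * e) (he0 : e ≠ 0) (t : A →ₗ[k] k)
    (ht : ∀ x y, t (x * y) = t (y * x)) (hnd : ∀ x, (∀ y, t (x * y) = 0) → x = 0)
    (Zs : Submodule k A)
    (hZ : ∀ x, e * x = x → (∀ y, x * y = y * x) → x ∈ Zs)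
    (hZ' : ∀ x ∈ Zs, e * x = x ∧ ∀ y, x * y = y * x)
    (hfac : ∀ (m : ℕ) (d : Fin m → ℕ) (φ : A →ₐ[k] (Π i, Matrix (Fin (d i)) (Fin (d i)) k)),
      (∀ i, NeZero (d i)) → Function.Surjective φ → φ e = 1 → m ≤ 1)
    {G : Type*} [Group G] [Finite G] {p : ℕ} [hp : Fact p.Prime] (hpk : (p : k) = 0)
    (ρ₀ : G →* A) (hρ₀ : Submodule.span k (Set.range ρ₀) = ⊤)
    {y : G} {m : ℕ} (hy : y ^ p ^ m = 1) {g₀ : G} (hg₀ : y * g₀ = g₀ * y)
    {D : Subgroup G} (hDy : ∀ d ∈ D, ∃ l : ℕ, y ^ l = d) [Fintype (G ⧸ D)]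
    (hz : ¬ IsNilpotent (e * transferW D ρ₀ ρ₀ g₀)) :
    ∃ (n : ℕ) (a : Fin n → Fin n → A), 0 < n ∧ (∀ i j, e * a i j = a i j) ∧
      (∀ r, e * r = r → r ∈ Submodule.span k {x | ∃ z ∈ Zs, ∃ i j, x = z * a i j}) ∧
      n * n * finrank k Zs ≤ finrank k (cut k e) := by
  classical
  letI iR : Ring (cut k e) := cutRing e he hc
  have hmul : ∀ x y : cut k e, ((x * y : cut k e) : A) = x.1 * y.1 := fun _ _ => rfl
  have hone : ((1 : cut k e) : A) = e := rfl
  letI iA : Algebra k (cut k e) := Algebra.ofModule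
    (fun c x y => Subtype.ext (by
      change (c • x.1) * y.1 = c • (x.1 * y.1)
      rw [smul_mul_assoc]))
    (fun c x y => Subtype.ext (by
      change x.1 * (c • y.1) = c • (x.1 * y.1)
      rw [mul_smul_comm]))
  have hcut : ∀ x : cut k e, e * x.1 = x.1 := fun x => x.2
  have hmemcut : ∀ y : A, e * y ∈ cut k e := fun y => by
    change e * (e * y) = e * y
    rw [← mul_assoc, he]
  -- the form
  let t' : cut k e →ₗ[k] k := t ∘ₗ (cut k e).subtype
  have ht' : ∀ x y : cut k e, t' (x * y) = t' (y * x) := fun x y => ht x.1 y.1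
  have hnd' : ∀ x : cut k e, (∀ y, t' (x * y) = 0) → x = 0 := by
    intro x hx
    apply Subtype.ext
    apply hnd
    intro y
    have h2 := hx ⟨e * y, hmemcut y⟩
    have h3 : x.1 * (e * y) = x.1 * y := by
      rw [← mul_assoc, ← hc, hcut]
    have h4 : t' (x * ⟨e * y, hmemcut y⟩) = t (x.1 * (e * y)) := rfl
    rw [h4, h3] at h2
    exact h2
  -- the centre
  have hcentral : ∀ x : cut k e, x ∈ Subalgebra.center k (cut k e) → ∀ y, x.1 * y = y * x.1 := by
    intro x hx y
    have h2 : x * ⟨e * y, hmemcut y⟩ = ⟨e * y, hmemcut y⟩ * x :=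
      (Subalgebra.mem_center_iff.1 hx ⟨e * y, hmemcut y⟩).symm
    have h3 : x.1 * (e * y) = (e * y) * x.1 := congrArg Subtype.val h2
    calc x.1 * y = x.1 * (e * y) := by rw [← mul_assoc, ← hc, hcut]
      _ = (e * y) * x.1 := h3
      _ = y * x.1 := by rw [hc y, mul_assoc, hcut]
  have hcen' : finrank k Zs ≤ finrank k (Subalgebra.center k (cut k e)) := by
    let f : Zs →ₗ[k] Subalgebra.center k (cut k e) :=
      { toFun := fun x => ⟨⟨x.1, (hZ' x.1 x.2).1⟩, by
          rw [Subalgebra.mem_center_iff]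
          intro y
          exact Subtype.ext ((hZ' x.1 x.2).2 y.1).symm⟩
        map_add' := fun _ _ => rfl
        map_smul' := fun _ _ => rfl }
    have hf : Function.Injective f := by
      intro x y h
      have h1 := congrArg (fun u : Subalgebra.center k (cut k e) => u.1.1) h
      exact Subtype.ext h1
    exact LinearMap.finrank_le_finrank_of_injective hf
  haveI : Nontrivial (cut k e) := ⟨⟨1, 0, fun h => he0 (congrArg Subtype.val h)⟩⟩
  -- the map from `A`
  let π : A →ₐ[k] cut k e :=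
    { toFun := fun x => ⟨e * x, hmemcut x⟩
      map_one' := Subtype.ext (mul_one e)
      map_mul' := fun x y => Subtype.ext (by
        change e * (x * y) = (e * x) * (e * y)
        calc e * (x * y) = (e * e) * (x * y) := by rw [he]
          _ = e * (e * x) * y := by noncomm_ring
          _ = e * (x * e) * y := by rw [hc x]
          _ = (e * x) * (e * y) := by noncomm_ring)
      map_zero' := Subtype.ext (mul_zero e)
      map_add' := fun x y => Subtype.ext (mul_add e x y)
      commutes' := fun c => Subtype.ext (by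
        change e * algebraMap k A c = (algebraMap k (cut k e) c).1
        rw [Algebra.algebraMap_eq_smul_one, Algebra.algebraMap_eq_smul_one, mul_smul_comm, mul_one]
        rfl) }
  have hπs : Function.Surjective π := fun x => ⟨x.1, Subtype.ext (hcut x)⟩
  have hπe : π e = 1 := Subtype.ext he
  have hfac' : ∀ (m : ℕ) (d : Fin m → ℕ) (f : cut k e →ₐ[k] (Π i, Matrix (Fin (d i)) (Fin (d i)) k)),
      (∀ i, NeZero (d i)) → Function.Surjective f → m ≤ 1 := by
    intro m d f hd hf
    refine hfac m d (f.comp π) hd (hf.comp hπs) ?_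
    change f (π e) = 1
    rw [hπe, map_one]
  haveI : FiniteDimensional k (cut k e) := inferInstance
  -- the representation
  let ρ' : G →* cut k e := (π : A →* cut k e).comp ρ₀
  have hρ' : Submodule.span k (Set.range ρ') = ⊤ := by
    have h1 : Set.range ρ' = π.toLinearMap '' Set.range ρ₀ := by
      ext x
      simp [ρ']
    rw [h1, ← Submodule.map_span, hρ₀, Submodule.map_top, LinearMap.range_eq_top]
    exact hπs
  have htr : transferW D ρ' ρ' g₀ = π (transferW D ρ₀ ρ₀ g₀) := by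
    unfold transferW
    rw [map_sum]
    refine Finset.sum_congr rfl fun q _ => ?_
    exact (map_mul π _ _).symm
  have hpow : ∀ s : ℕ, ((π (transferW D ρ₀ ρ₀ g₀) ^ (s + 1) : cut k e) : A) = (e * transferW D ρ₀ ρ₀ g₀) ^ (s + 1) := by
    intro s
    induction s with
    | zero =>
      rw [zero_add, pow_one, pow_one]
      rfl
    | succ s ih =>
      rw [pow_succ, hmul, ih, pow_succ (e * transferW D ρ₀ ρ₀ g₀) (s + 1)]
      rfl
  have hC : ∀ (n : ℕ) [NeZero n] (g : cut k e →ₐ[k] Matrix (Fin n) (Fin n) k) (J : Ideal (cut k e)) [J.IsTwoSided],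
      IsNilpotent J → (∀ x, g x = 0 ↔ x ∈ J) → ∀ {ε : cut k e} {u v : Fin n → cut k e}, IsIdempotentElem ε →
      (∀ i, u i * ε = u i) → (∀ i, ε * v i = v i) → (∑ i, u i * v i = 1) →
      (∀ i j, v i * u j = if i = j then ε else 0) → g ε = Matrix.single 0 0 (1 : k) →
      ∀ a ∈ corner k ε, ∀ b ∈ corner k ε, a * b = b * a := by
    intro n _ g J _ hJ hgk ε u v hε huε hvε hsum hvu hfε a ha b hb
    refine corner_comm_of_cyclic hpk t' ht' hnd' g hJ hgk hε huε hvε hsum hvu hfε ρ' hρ' hy hg₀ hDy ?_ ha hb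
    intro h0
    apply hz
    rw [htr] at h0
    have hmem := (hgk _).1 h0
    obtain ⟨s, hs⟩ := Cfsg.Agent.Lib.Blocks.SymLocal.isNilpotent_of_mem hJ hmem
    refine ⟨s + 1, ?_⟩
    rw [← hpow, pow_succ, hs, zero_mul]
    rfl
  obtain ⟨n, a, hn, hspan, hdim⟩ := exists_structure_of_comm hC hfac'
  refine ⟨n, fun i j => (a i j).1, hn, fun i j => hcut _, ?_, ?_⟩
  · intro r hr
    have h1 := hspan ⟨r, hr⟩
    have h2 := Submodule.mem_map_of_mem (f := (cut k e).subtype) h1
    rw [Submodule.map_span] at h2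
    refine Submodule.span_mono ?_ h2
    rintro _ ⟨_, ⟨z, hz, i, j, rfl⟩, rfl⟩
    exact ⟨z.1, hZ _ z.2 (hcentral z hz), i, j, rfl⟩
  · calc n * n * finrank k Zs ≤ n * n * finrank k (Subalgebra.center k (cut k e)) :=
        Nat.mul_le_mul_left _ hcen'
      _ ≤ _ := hdim


end Cut

end Cfsg.Agent.Lib.Blocks.RepFin
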