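import Mathlib
import Cfsg.Agent.Lib.Blocks.Local

/-!
# Reduction modulo the local ideal: ranks and algebraic closure

* `linearIndependent_of_reduction`, `finrank_span_reduction_le`: a family over a commutative ring `O` whose
  reduction modulo a maximal ideal of nonunits is independent stays independent over any field receiving `O`.
* `mem_localRing_of_monic_root`: the local ring at a prime of the algebraic integers is integrally closed in `ℂ`.
* `isAlgClosed_residue`: its residue field is algebraically closed.
-/

set_option autoImplicit false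

namespace Cfsg.Agent.Lib.Blocks.ModRank

open Module Polynomial Cfsg Cfsg.Agent.Lib.Blocks.Local

section Abstract

variable {O k F : Type*} [CommRing O] [Field k] [Field F]

/-- Rows that are independent modulo a local ideal are independent over any field receiving `O`. -/
theorem linearIndependent_of_reduction {I J : Type*} [Fintype I] [Fintype J] [DecidableEq I] [DecidableEq J]
    (π : O →+* k) (hπ : Function.Surjective π) (hu : ∀ x, π x ≠ 0 → IsUnit x) (ι : O →+* F)
    (S : I → J → O) (h : LinearIndependent k (fun i j => π (S i j))) :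
    LinearIndependent F (fun i j => ι (S i j)) := by
  classical
  -- the reduced matrix
  let Sk : Matrix I J k := Matrix.of fun i j => π (S i j)
  have hinj : Function.Injective Sk.vecMulLinear := by
    have : LinearIndependent k Sk.row := h
    exact Matrix.vecMul_injective_iff.2 this
  obtain ⟨g, hg⟩ := LinearMap.exists_leftInverse_of_injective Sk.vecMulLinear
    (LinearMap.ker_eq_bot.2 hinj)
  -- a right inverse modulo the ideal
  let T : Matrix J I k := Matrix.of fun j i => g (Pi.single j 1) i
  have hST : Sk * T = 1 := by
    ext i i'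
    have h1 : g (Sk.vecMulLinear (Pi.single i 1)) = Pi.single i 1 := by
      have := congrArg (fun f => f (Pi.single i 1 : I → k)) hg
      simpa using this
    have h2 : Sk.vecMulLinear (Pi.single i 1) = ∑ j, (Sk i j) • (Pi.single j 1 : J → k) := by
      ext j
      simp [Matrix.vecMul, dotProduct, Finset.sum_apply, Pi.single_apply,
        Finset.sum_ite_eq]
    rw [h2, map_sum] at h1
    have h3 := congrFun h1 i'
    simp only [map_smul, Finset.sum_apply, Pi.smul_apply, smul_eq_mul] at h3
    rw [Matrix.mul_apply, Matrix.one_apply]
    simp only [T, Matrix.of_apply]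
    rw [h3, Pi.single_apply]
    simp [eq_comm]
  -- lift
  choose lift hlift using hπ
  let T' : Matrix J I O := Matrix.of fun j i => lift (T j i)
  let S' : Matrix I J O := Matrix.of S
  have hmap : (S' * T').map π = 1 := by
    rw [Matrix.map_mul, ← hST]
    congr 1
    · ext j i
      simp [T', hlift]
  have hdet : IsUnit (S' * T').det := by
    apply hu
    have : π (S' * T').det = ((S' * T').map π).det := RingHom.map_det π _
    rw [this, hmap, Matrix.det_one]
    exact one_ne_zero
  have hU : (S' * T') * (S' * T')⁻¹ = 1 := Matrix.mul_nonsing_inv _ hdet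
  -- map to `F`
  let SF : Matrix I J F := S'.map ι
  let V : Matrix J I F := (T' * (S' * T')⁻¹).map ι
  have hSV : SF * V = 1 := by
    have h1 : ((S' * T') * (S' * T')⁻¹).map ι = (1 : Matrix I I O).map ι := by rw [hU]
    rw [Matrix.map_one _ (map_zero ι) (map_one ι), Matrix.mul_assoc S', Matrix.map_mul] at h1
    exact h1
  have : LinearIndependent F SF.row := by
    rw [← Matrix.vecMul_injective_iff]
    intro x y hxy
    have h1 := congrArg (fun v => Matrix.vecMul v V) hxy
    simp only [Matrix.vecMul_vecMul, hSV, Matrix.vecMul_one] at h1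
    exact h1
  exact this

/-- The span of the reduction of a family has dimension at most that of the family. -/
theorem finrank_span_reduction_le {X Y Z : Type*} [AddCommGroup Y] [Module k Y]
    [AddCommGroup Z] [Module F Z] [FiniteDimensional F Z]
    {J : Type*} [Fintype J] [DecidableEq J]
    (π : O →+* k) (hπ : Function.Surjective π) (hu : ∀ x, π x ≠ 0 → IsUnit x) (ι : O →+* F)
    (x : X → J → O) (a : X → Y) (b : X → Z)
    (fa : Y →ₗ[k] (J → k)) (hfa : Function.Injective fa)
    (fb : Z →ₗ[F] (J → F))
    (ha : ∀ i j, fa (a i) j = π (x i j)) (hb : ∀ i j, fb (b i) j = ι (x i j))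
    [FiniteDimensional k Y] :
    finrank k (Submodule.span k (Set.range a)) ≤ finrank F (Submodule.span F (Set.range b)) := by
  classical
  obtain ⟨s, hs, hspan, hli⟩ := exists_linearIndependent k (Set.range a)
  have hfin : Finite s := by
    have := hli.finite
    exact this
  have := Fintype.ofFinite s
  have hchoose : ∀ y : s, ∃ i, a i = y.1 := fun y => hs y.2
  choose c hc using hchoose
  have h1 : LinearIndependent k (fun y : s => fun j => π (x (c y) j)) := by
    have h2 : (fun y : s => fun j => π (x (c y) j)) = fa ∘ (fun y : s => (y : Y)) := by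
      funext y j
      simp only [Function.comp, ← hc y, ha]
    rw [h2]
    exact hli.map' fa (LinearMap.ker_eq_bot.2 hfa)
  have h3 := linearIndependent_of_reduction π hπ hu ι (fun y : s => x (c y)) h1
  have h4 : LinearIndependent F (fun y : s => b (c y)) := by
    apply LinearIndependent.of_comp fb
    have : fb ∘ (fun y : s => b (c y)) = fun y j => ι (x (c y) j) := by
      funext y j
      simp [hb]
    rw [this]
    exact h3
  rw [← hspan, finrank_span_set_eq_card hli]
  have h5 : Submodule.span F (Set.range fun y : s => b (c y)) ≤ Submodule.span F (Set.range b) := by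
    apply Submodule.span_mono
    rintro _ ⟨y, rfl⟩
    exact ⟨c y, rfl⟩
  calc s.toFinset.card = Fintype.card s := by simp
    _ = finrank F (Submodule.span F (Set.range fun y : s => b (c y))) :=
      (finrank_span_eq_card h4).symm
    _ ≤ _ := Submodule.finrank_mono h5

end Abstract


section AlgClosed

variable {M : Ideal AlgInt} [hM : M.IsPrime]

lemma exists_common_denominator (s : Finset (localRing M)) :
    ∃ b : AlgInt, b ∉ M ∧ ∀ a ∈ s, ∃ c : AlgInt, (b : ℂ) * (a : ℂ) = c := by
  classical
  induction s using Finset.induction_on with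
  | empty =>
    refine ⟨1, ?_, by simp⟩
    intro h
    exact hM.ne_top ((Ideal.eq_top_iff_one M).2 h)
  | insert a s _ ih =>
    obtain ⟨b, hb, hs⟩ := ih
    obtain ⟨u, v, hv, huv⟩ := a.2
    refine ⟨b * v, fun h => (hM.mem_or_mem h).elim hb hv, ?_⟩
    have hv0 := coe_ne_zero_of_notMem hv
    intro x hx
    rcases Finset.mem_insert.1 hx with rfl | hx
    · refine ⟨b * u, ?_⟩
      push_cast
      rw [← huv]
      field_simp
    · obtain ⟨c, hc⟩ := hs x hx
      refine ⟨c * v, ?_⟩
      push_cast
      rw [← hc]
      ring

/-- The local ring is integrally closed in `ℂ`. -/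
theorem mem_localRing_of_monic_root {F : (localRing M)[X]} (hF : F.Monic) {x : ℂ}
    (hx : (F.map (localRing M).subtype).eval x = 0) : x ∈ localRing M := by
  classical
  obtain ⟨b, hb, hs⟩ := exists_common_denominator (M := M) (F.support.image F.coeff)
  set P : ℂ[X] := F.map (localRing M).subtype with hP
  have hPm : P.Monic := hF.map _
  have hb0 := coe_ne_zero_of_notMem hb
  have hQ : (P.scaleRoots (b : ℂ)) ∈ Polynomial.lifts (algebraMap AlgInt ℂ) := by
    rw [Polynomial.lifts_iff_coeff_lifts]
    intro i
    rw [Polynomial.coeff_scaleRoots]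
    by_cases hi : i < P.natDegree
    · have h1 : P.natDegree - i = (P.natDegree - i - 1) + 1 := by omega
      rw [h1, pow_succ, hP, Polynomial.coeff_map]
      by_cases hc : F.coeff i = 0
      · rw [hc]
        exact ⟨0, by simp⟩
      · obtain ⟨c, hc'⟩ := hs (F.coeff i) (Finset.mem_image_of_mem _ (Polynomial.mem_support_iff.2 hc))
        refine ⟨b ^ (P.natDegree - i - 1) * c, ?_⟩
        simp only [map_mul, map_pow]
        show ((b : ℂ)) ^ _ * (c : ℂ) = _
        rw [← hc']
        simp only [Subring.subtype_apply]
        ring
    · by_cases hi' : i = P.natDegree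
      · subst hi'
        rw [Nat.sub_self, pow_zero, mul_one, hPm.coeff_natDegree]
        exact ⟨1, by simp⟩
      · rw [Polynomial.coeff_eq_zero_of_natDegree_lt (by omega), zero_mul]
        exact ⟨0, by simp⟩
  obtain ⟨q, hq, -, hqm⟩ := Polynomial.lifts_and_natDegree_eq_and_monic hQ ((Polynomial.monic_scaleRoots_iff _).2 hPm)
  have h2 : IsIntegral AlgInt ((b : ℂ) * x) := by
    refine ⟨q, hqm, ?_⟩
    rw [← Polynomial.eval_map, hq, Polynomial.scaleRoots_eval_mul, hx, mul_zero]
  have h5 : IsIntegral ℤ ((b : ℂ) * x) := isIntegral_trans _ h2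
  refine ⟨⟨_, h5⟩, b, hb, ?_⟩
  show ((b : ℂ) * x) / b = x
  field_simp

/-- The residue field is algebraically closed. -/
theorem isAlgClosed_residue : IsAlgClosed (localRing M ⧸ localIdeal M) := by
  refine IsAlgClosed.of_exists_root _ ?_
  intro p hp hirr
  have hsurj : Function.Surjective (residue M) := Ideal.Quotient.mk_surjective
  have h1 : p ∈ Polynomial.lifts (residue M) := by
    rw [Polynomial.lifts_iff_coeff_lifts]
    intro n
    exact hsurj _
  obtain ⟨F, hF, hdeg, hFm⟩ := Polynomial.lifts_and_natDegree_eq_and_monic h1 hp
  have hdeg' : (F.map (localRing M).subtype).degree ≠ 0 := by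
    rw [Polynomial.degree_map_eq_of_injective (Subtype.val_injective), Polynomial.degree_eq_natDegree hFm.ne_zero, hdeg]
    have := hirr.natDegree_pos
    intro h
    have h2 : p.natDegree = 0 := by exact_mod_cast h
    omega
  obtain ⟨x, hx⟩ := IsAlgClosed.exists_root _ hdeg'
  have hxO := mem_localRing_of_monic_root hFm hx
  refine ⟨residue M ⟨x, hxO⟩, ?_⟩
  have h3 : F.eval ⟨x, hxO⟩ = 0 := by
    apply Subtype.val_injective
    have h9 : (F.map (localRing M).subtype).eval ((localRing M).subtype ⟨x, hxO⟩) =
        (localRing M).subtype (F.eval ⟨x, hxO⟩) := Polynomial.eval_map_apply _ _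
    have h10 : (localRing M).subtype ⟨x, hxO⟩ = x := rfl
    rw [h10, hx] at h9
    exact h9.symm
  rw [← hF, Polynomial.eval_map_apply, h3, map_zero]

end AlgClosed

end Cfsg.Agent.Lib.Blocks.ModRank
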