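import Mathlib
import Cfsg.Agent.Lib.Blocks.ModRank
import Cfsg.Agent.Lib.Blocks.BlockHom
import Cfsg.Agent.Lib.Blocks.Osima
import Cfsg.Agent.Lib.Blocks.SecondMain
import Cfsg.Agent.Lib.Blocks.Sections
import Cfsg.Agent.Lib.Blocks.SymLocal
import Cfsg.Agent.Lib.Blocks.RegInt
import Cfsg.Agent.Lib.Char.CompleteCor

/-!
# The block factor of the group algebra modulo the local ideal

`exists_degree_eq`: the two characters of a block with exactly two characters have the same degree.  The block
factor `ē kG` of the group algebra over the residue field is a symmetric algebra with a centre of dimension `2` and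
a nonzero central nilpotent, so it is `M_n(k[x]/(x²))`; comparing dimensions with the characteristic zero block
ideal (`finrank_cut_le`, `degree_sq_le`) gives `χ₁(1) = χ₂(1) = n`.
-/

set_option autoImplicit false
set_option linter.unusedSectionVars false
set_option linter.style.haveILetI false

namespace Cfsg.Agent.Lib.Blocks.ModBlock

open Module Cfsg Cfsg.Agent.Lib.Blocks.Local Cfsg.Agent.Lib.Blocks.Central Cfsg.Agent.Lib.Blocks.Osima
open Cfsg.Agent.Lib.Blocks.ModRank Cfsg.Agent.Lib.Blocks.BlockHom Cfsg.Agent.Lib.Blocks.SymLocal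
open scoped ComplexConjugate Cfsg.Agent.Lib.Blocks.Central

universe u

variable {G : Type u} [Group G] [Fintype G]

section Coeff

variable (R : Type*) [CommRing R]

/-- The coefficient map. -/
noncomputable def cL : MonoidAlgebra R G →ₗ[R] (G → R) where
  toFun x g := x.coeff g
  map_add' x y := by ext g; simp
  map_smul' c x := by ext g; simp

lemma cL_apply (x : MonoidAlgebra R G) (g : G) : cL R x g = x.coeff g := rfl

lemma cL_injective : Function.Injective (cL (G := G) R) := by
  intro x y h
  ext g
  exact congrFun h g

lemma eq_sum_single_smul (x : MonoidAlgebra R G) :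
    x = ∑ g, x.coeff g • MonoidAlgebra.single g (1 : R) := by
  classical
  ext g
  simp [MonoidAlgebra.coeff_sum, Finsupp.finsetSum_apply, MonoidAlgebra.coeff_single,
    Finsupp.single_apply]

/-- The linear form: the coefficient at `1`. -/
noncomputable def tr1 : MonoidAlgebra R G →ₗ[R] R := LinearMap.proj (1 : G) ∘ₗ cL R

lemma tr1_apply (x : MonoidAlgebra R G) : tr1 R x = x.coeff 1 := rfl

lemma tr1_mul (x y : MonoidAlgebra R G) : tr1 R (x * y) = ∑ g, x.coeff g * y.coeff g⁻¹ := by
  rw [tr1_apply, MonoidAlgebra.coeff_mul_apply_left, Finsupp.sum_fintype _ _ (by simp)]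
  simp

lemma tr1_comm (x y : MonoidAlgebra R G) : tr1 R (x * y) = tr1 R (y * x) := by
  rw [tr1_mul, tr1_mul, ← Equiv.sum_comp (Equiv.inv G)]
  refine Finset.sum_congr rfl fun g _ => ?_
  simp [mul_comm]

lemma tr1_nondeg (x : MonoidAlgebra R G) (h : ∀ y, tr1 R (x * y) = 0) : x = 0 := by
  ext g
  have h1 := h (MonoidAlgebra.single g⁻¹ 1)
  rw [tr1_apply, MonoidAlgebra.coeff_mul_single_apply] at h1
  simpa using h1

end Coeff

section Dim

/-- The dimension of the ideal generated by an idempotent, from its coefficient at `1`. -/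
theorem finrank_span_mul_single (w : MonoidAlgebra ℂ G) (hw : w * w = w) :
    (finrank ℂ (Submodule.span ℂ (Set.range (fun g : G => w * MonoidAlgebra.single g (1 : ℂ)))) : ℂ) =
      (Nat.card G : ℂ) * w.coeff 1 := by
  classical
  let L : MonoidAlgebra ℂ G →ₗ[ℂ] MonoidAlgebra ℂ G := LinearMap.mulLeft ℂ w
  have hL : IsIdempotentElem L := by
    apply LinearMap.ext
    intro x
    show w * (w * x) = w * x
    rw [← mul_assoc, hw]
  have hrange : LinearMap.range L =
      Submodule.span ℂ (Set.range (fun g : G => w * MonoidAlgebra.single g (1 : ℂ))) := by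
    apply le_antisymm
    · rintro _ ⟨x, rfl⟩
      show w * x ∈ _
      rw [eq_sum_single_smul ℂ x, Finset.mul_sum]
      refine Submodule.sum_mem _ fun g _ => ?_
      rw [mul_smul_comm]
      exact Submodule.smul_mem _ _ (Submodule.subset_span ⟨g, rfl⟩)
    · apply Submodule.span_le.2
      rintro _ ⟨g, rfl⟩
      exact ⟨_, rfl⟩
  have hproj := LinearMap.IsIdempotentElem.isProj_range L hL
  have htr := hproj.trace
  rw [hrange] at htr
  rw [← htr, LinearMap.trace_eq_matrix_trace ℂ (MonoidAlgebra.basis G ℂ) L, Matrix.trace]
  have h1 : ∀ g, Matrix.diag (LinearMap.toMatrix (MonoidAlgebra.basis G ℂ) (MonoidAlgebra.basis G ℂ) L) g =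
      w.coeff 1 := by
    intro g
    rw [Matrix.diag_apply, LinearMap.toMatrix_apply, MonoidAlgebra.basis_apply]
    show (w * MonoidAlgebra.single g (1 : ℂ)).coeff g = _
    rw [MonoidAlgebra.coeff_mul_single_apply]
    simp
  simp only [h1, Finset.sum_const, nsmul_eq_mul, Finset.card_univ, Nat.card_eq_fintype_card]

end Dim


section Maps

variable {M : Ideal AlgInt} [hM : M.IsPrime]

variable (M G) in
/-- The inclusion of the group algebra over the local ring in the complex group algebra. -/
noncomputable abbrev iota : MonoidAlgebra (localRing M) G →+* MonoidAlgebra ℂ G :=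
  MonoidAlgebra.mapRingHom G (localRing M).subtype

variable (M G) in
/-- The reduction modulo the local ideal. -/
noncomputable abbrev piR : MonoidAlgebra (localRing M) G →+* MonoidAlgebra (localRing M ⧸ localIdeal M) G :=
  MonoidAlgebra.mapRingHom G (residue M)

lemma coeff_iota (x : MonoidAlgebra (localRing M) G) (g : G) :
    (iota G M x).coeff g = (x.coeff g : ℂ) := by
  rw [MonoidAlgebra.coeff_mapRingHom]
  rfl

lemma coeff_piR (x : MonoidAlgebra (localRing M) G) (g : G) :
    (piR G M x).coeff g = residue M (x.coeff g) := by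
  rw [MonoidAlgebra.coeff_mapRingHom]

lemma iota_injective : Function.Injective (iota G M) := by
  intro x y h
  ext g
  rw [← coeff_iota, ← coeff_iota, h]

lemma residue_surjective : Function.Surjective (residue M) := Ideal.Quotient.mk_surjective

lemma isUnit_of_residue_ne_zero (x : localRing M) (h : residue M x ≠ 0) : IsUnit x := by
  rw [isUnit_iff_not_mem]
  intro hx
  exact h (Ideal.Quotient.eq_zero_iff_mem.2 hx)

lemma piR_surjective : Function.Surjective (piR G M) := by
  classical
  intro y
  choose lf hlf using residue_surjective (M := M)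
  refine ⟨∑ g, MonoidAlgebra.single g (lf (y.coeff g)), ?_⟩
  ext g
  rw [coeff_piR, MonoidAlgebra.coeff_sum, Finsupp.finsetSum_apply, map_sum,
    Finset.sum_eq_single g]
  · simp [hlf]
  · intro b _ hb
    simp [MonoidAlgebra.coeff_single, hb]
  · simp

lemma piR_eq_zero_iff (x : MonoidAlgebra (localRing M) G) :
    piR G M x = 0 ↔ ∀ g, MemLocalIdeal M ((x.coeff g : localRing M) : ℂ) := by
  constructor
  · intro h g
    have := congrArg (fun u => u.coeff g) h
    simp only [coeff_piR, MonoidAlgebra.coeff_zero, Finsupp.coe_zero, Pi.zero_apply] at this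
    exact residue_eq_zero_iff.1 this
  · intro h
    ext g
    rw [coeff_piR]
    simpa using residue_eq_zero_iff.2 (h g)

lemma piR_smul (c : localRing M) (x : MonoidAlgebra (localRing M) G) :
    piR G M (c • x) = residue M c • piR G M x := by
  ext g
  simp [coeff_piR]

lemma iota_smul (c : localRing M) (x : MonoidAlgebra (localRing M) G) :
    iota G M (c • x) = (c : ℂ) • iota G M x := by
  ext g
  simp [coeff_iota]

lemma piR_single (g : G) : piR G M (MonoidAlgebra.single g 1) = MonoidAlgebra.single g 1 := by
  classical
  ext x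
  rw [coeff_piR]
  simp only [MonoidAlgebra.coeff_single, Finsupp.single_apply]
  split_ifs <;> simp

lemma iota_single (g : G) : iota G M (MonoidAlgebra.single g 1) = MonoidAlgebra.single g 1 := by
  classical
  ext x
  rw [coeff_iota]
  simp only [MonoidAlgebra.coeff_single, Finsupp.single_apply]
  split_ifs <;> simp

/-- The dimension of the span of a reduced family is at most that of the family in characteristic zero. -/
theorem finrank_span_piR_le {X : Type*} (y : X → MonoidAlgebra (localRing M) G) :
    finrank (localRing M ⧸ localIdeal M)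
        (Submodule.span (localRing M ⧸ localIdeal M) (Set.range fun i => piR G M (y i))) ≤
      finrank ℂ (Submodule.span ℂ (Set.range fun i => iota G M (y i))) := by
  classical
  exact finrank_span_reduction_le (residue M) residue_surjective isUnit_of_residue_ne_zero
    (localRing M).subtype (fun i g => (y i).coeff g) (fun i => piR G M (y i)) (fun i => iota G M (y i))
    (cL _) (cL_injective _) (cL _)
    (fun i j => by rw [cL_apply, coeff_piR]) (fun i j => by rw [cL_apply, coeff_iota]; rfl)

end Maps

section Blocks

variable (C : Set (IrrCharacter G))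

lemma blockElt_singleton_mul {χ : IrrCharacter G} {a : MonoidAlgebra ℂ G} (ha : IsClassFunction G a.coeff) :
    blockElt {χ} * a = omega (χ : G → ℂ) a • blockElt {χ} := by
  classical
  apply eq_of_omega_eq'
  · exact isClassFunction_mul (isClassFunction_blockElt _) ha
  · exact isClassFunction_smul _ (isClassFunction_blockElt _)
  · intro ψ
    rw [omega_mul ψ.2 (isClassFunction_blockElt _), omega_smul]
    by_cases h : ψ = χ
    · subst h
      rw [omega_blockElt_of_mem (Set.mem_singleton _)]
      ring
    · rw [omega_blockElt_of_notMem (A := {χ}) h]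
      ring

open Classical in
lemma blockElt_mul_classFun {a : MonoidAlgebra ℂ G} (ha : IsClassFunction G a.coeff) :
    blockElt C * a = ∑ χ ∈ Finset.univ.filter (· ∈ C), omega (χ : G → ℂ) a • blockElt {χ} := by
  classical
  have hsum : IsClassFunction G (∑ χ ∈ Finset.univ.filter (· ∈ C),
      omega (χ : G → ℂ) a • blockElt {χ}).coeff := by
    intro g x
    simp only [MonoidAlgebra.coeff_sum, Finsupp.finsetSum_apply]
    refine Finset.sum_congr rfl fun χ _ => ?_
    exact isClassFunction_smul _ (isClassFunction_blockElt _) g x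
  apply eq_of_omega_eq'
  · exact isClassFunction_mul (isClassFunction_blockElt _) ha
  · exact hsum
  · intro ψ
    rw [omega_mul ψ.2 (isClassFunction_blockElt _), omega_sum]
    simp only [omega_smul]
    by_cases h : ψ ∈ C
    · rw [omega_blockElt_of_mem h, one_mul, Finset.sum_eq_single ψ]
      · rw [omega_blockElt_of_mem (Set.mem_singleton _), mul_one]
      · intro χ _ hχ
        rw [omega_blockElt_of_notMem (A := {χ}) (fun h' => hχ h'.symm), mul_zero]
      · intro h'
        exact absurd (Finset.mem_filter.2 ⟨Finset.mem_univ _, h⟩) h'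
    · rw [omega_blockElt_of_notMem h, zero_mul, Finset.sum_eq_zero]
      intro χ hχ
      have hχ' := (Finset.mem_filter.1 hχ).2
      rw [omega_blockElt_of_notMem (A := {χ}), mul_zero]
      intro h'
      have : ψ = χ := h'
      exact h (this ▸ hχ')

open Classical in
theorem finrank_span_blockElt :
    finrank ℂ (Submodule.span ℂ (Set.range (fun g : G => blockElt C * MonoidAlgebra.single g (1 : ℂ)))) =
      ∑ χ ∈ Finset.univ.filter (· ∈ C), (charDegree (χ : G → ℂ)) ^ 2 := by
  have h1 := finrank_span_mul_single (blockElt C) (blockElt_mul_self C)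
  have hG : (Nat.card G : ℂ) ≠ 0 := Cfsg.Agent.Lib.Char.OrthoBasic.natCard_ne_zero_complex
  apply Nat.cast_injective (R := ℂ)
  rw [h1, coeff_blockElt, blockCoeff_eq_sum, ← mul_assoc, mul_inv_cancel₀ hG, one_mul]
  push_cast
  refine Finset.sum_congr rfl fun χ _ => ?_
  rw [← Cfsg.Agent.Lib.Blocks.RegInt.charDegree_cast χ]
  simp [sq]

end Blocks

section Second

variable {M : Ideal AlgInt} [hM : M.IsPrime]

/-- The lift of a class sum to the local group algebra. -/
noncomputable def csL (g : G) : MonoidAlgebra (localRing M) G :=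
  liftLocal (classSum g) (classSum_mem_localCenter g).2

lemma iota_csL (g : G) : iota G M (csL g) = classSum g := mapRingHom_liftLocal _ _

/-- Lifting an element of the local centre. -/
noncomputable def lcL (a : MonoidAlgebra ℂ G) (ha : a ∈ localCenter G M) : MonoidAlgebra (localRing M) G :=
  liftLocal a ha.2

lemma iota_lcL (a : MonoidAlgebra ℂ G) (ha : a ∈ localCenter G M) : iota G M (lcL a ha) = a :=
  mapRingHom_liftLocal _ _

open Classical in
lemma coeff_piR_csL (g x : G) :
    (piR G M (csL g)).coeff x = if IsConj g x then 1 else 0 := by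
  rw [coeff_piR]
  have h1 : (((csL (M := M) g).coeff x : localRing M) : ℂ) = (classSum g).coeff x := by
    rw [← coeff_iota, iota_csL]
  split_ifs with h
  · rw [coeff_classSum_of_isConj h] at h1
    have : (csL (M := M) g).coeff x = 1 := Subtype.ext h1
    rw [this, map_one]
  · rw [coeff_classSum_of_not_isConj h] at h1
    have : (csL (M := M) g).coeff x = 0 := Subtype.ext h1
    rw [this, map_zero]

/-- Central elements of the residue group algebra are combinations of class sums. -/
lemma eq_sum_piR_csL {z : MonoidAlgebra (localRing M ⧸ localIdeal M) G} (hz : ∀ y, z * y = y * z) :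
    z = ∑ K : ConjClasses G, z.coeff K.out • piR G M (csL K.out) := by
  classical
  have hcl : ∀ g h : G, z.coeff (h * g * h⁻¹) = z.coeff g := by
    intro g h
    have h1 := congrArg (fun u => u.coeff (h * g)) (hz (MonoidAlgebra.single h 1))
    simp only [MonoidAlgebra.coeff_mul_single_apply, MonoidAlgebra.coeff_single_mul_apply, mul_one,
      one_mul, inv_mul_cancel_left] at h1
    exact h1
  ext x
  rw [MonoidAlgebra.coeff_sum, Finsupp.finsetSum_apply, Finset.sum_eq_single (ConjClasses.mk x)]
  · rw [MonoidAlgebra.coeff_smul_apply, coeff_piR_csL, if_pos (isConj_mk_out x)]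
    obtain ⟨c, hc⟩ := isConj_iff.1 (isConj_mk_out x)
    simp only [smul_eq_mul, mul_one]
    conv_lhs => rw [← hc]
    rw [hcl]
  · intro K _ hK
    rw [MonoidAlgebra.coeff_smul_apply, coeff_piR_csL, if_neg, smul_zero]
    intro h
    apply hK
    rw [← ConjClasses.mk_eq_mk_iff_isConj, mk_out] at h
    exact h
  · simp

/-- The class sums of the residue group algebra are independent. -/
lemma linearIndependent_piR_csL :
    LinearIndependent (localRing M ⧸ localIdeal M) (fun K : ConjClasses G => piR G M (csL K.out)) := by
  classical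
  rw [Fintype.linearIndependent_iff]
  intro c hc K
  have h1 := congrArg (fun u => u.coeff K.out) hc
  simp only [MonoidAlgebra.coeff_sum, Finsupp.finsetSum_apply, MonoidAlgebra.coeff_smul_apply,
    coeff_piR_csL, smul_eq_mul, MonoidAlgebra.coeff_zero, Finsupp.coe_zero, Pi.zero_apply] at h1
  rw [Finset.sum_eq_single K] at h1
  · rw [if_pos (IsConj.refl _), mul_one] at h1
    exact h1
  · intro L _ hL
    rw [if_neg, mul_zero]
    intro h
    apply hL
    rw [← ConjClasses.mk_eq_mk_iff_isConj, mk_out, mk_out] at h
    exact h
  · simp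

open Classical in
/-- The span of the reductions of the `e_C K`. -/
theorem finrank_span_mul_csL_le (C : Set (IrrCharacter G)) (a : MonoidAlgebra (localRing M) G)
    (ha : iota G M a = blockElt C) :
    finrank (localRing M ⧸ localIdeal M) (Submodule.span (localRing M ⧸ localIdeal M)
      (Set.range fun K : ConjClasses G => piR G M a * piR G M (csL K.out))) ≤
      (Finset.univ.filter (· ∈ C)).card := by
  have h1 := finrank_span_piR_le (M := M) (fun K : ConjClasses G => a * csL K.out)
  have e1 : (fun K : ConjClasses G => piR G M (a * csL K.out)) =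
      fun K : ConjClasses G => piR G M a * piR G M (csL K.out) := funext fun K => map_mul _ _ _
  have e2 : (fun K : ConjClasses G => iota G M (a * csL K.out)) =
      fun K : ConjClasses G => iota G M a * iota G M (csL K.out) := funext fun K => map_mul _ _ _
  rw [e1, e2] at h1
  refine h1.trans ?_
  have h2 : Submodule.span ℂ (Set.range fun K : ConjClasses G => iota G M a * iota G M (csL K.out)) ≤
      Submodule.span ℂ (Set.range fun χ : (Finset.univ.filter (· ∈ C) : Finset (IrrCharacter G)) =>
        blockElt ({χ.1} : Set (IrrCharacter G))) := by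
    apply Submodule.span_le.2
    rintro _ ⟨K, rfl⟩
    show iota G M a * iota G M (csL K.out) ∈ _
    rw [ha, iota_csL, blockElt_mul_classFun C (isClassFunction_classSum _)]
    refine Submodule.sum_mem _ fun χ hχ => Submodule.smul_mem _ _ (Submodule.subset_span ?_)
    exact ⟨⟨χ, hχ⟩, rfl⟩
  refine (Submodule.finrank_mono h2).trans ?_
  refine (finrank_range_le_card _).trans ?_
  simp


section Main

variable {B : Set (IrrCharacter G)} {a : MonoidAlgebra (localRing M) G}

lemma lift_mul_self (ha : iota G M a = blockElt B) : a * a = a := by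
  apply iota_injective
  rw [map_mul, ha, blockElt_mul_self]

lemma lift_comm (ha : iota G M a = blockElt B) (x : MonoidAlgebra (localRing M) G) : a * x = x * a := by
  apply iota_injective
  rw [map_mul, map_mul, ha]
  exact mul_comm_of_isClassFunction (isClassFunction_blockElt B) _

lemma piR_mul_self (ha : iota G M a = blockElt B) : piR G M a * piR G M a = piR G M a := by
  rw [← map_mul, lift_mul_self ha]

lemma piR_comm (ha : iota G M a = blockElt B) (x : MonoidAlgebra (localRing M ⧸ localIdeal M) G) :
    piR G M a * x = x * piR G M a := by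
  obtain ⟨y, rfl⟩ := piR_surjective x
  rw [← map_mul, ← map_mul, lift_comm ha]

open Classical in
/-- The dimension of the block factor modulo the local ideal is at most the sum of the squares of the degrees. -/
theorem finrank_cut_le (ha : iota G M a = blockElt B) :
    finrank (localRing M ⧸ localIdeal M) (cut (localRing M ⧸ localIdeal M) (piR G M a)) ≤
      ∑ χ ∈ Finset.univ.filter (· ∈ B), (charDegree (χ : G → ℂ)) ^ 2 := by
  have h1 : cut (localRing M ⧸ localIdeal M) (piR G M a) ≤
      Submodule.span (localRing M ⧸ localIdeal M)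
        (Set.range fun g : G => piR G M (a * MonoidAlgebra.single g 1)) := by
    intro x hx
    have hx' : piR G M a * x = x := hx
    rw [← hx', eq_sum_single_smul _ x, Finset.mul_sum]
    refine Submodule.sum_mem _ fun g _ => ?_
    rw [mul_smul_comm]
    refine Submodule.smul_mem _ _ (Submodule.subset_span ⟨g, ?_⟩)
    show piR G M (a * MonoidAlgebra.single g 1) = _
    rw [map_mul, piR_single]
  refine (Submodule.finrank_mono h1).trans ((finrank_span_piR_le _).trans ?_)
  have e : (fun g : G => iota G M (a * MonoidAlgebra.single g 1)) =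
      fun g : G => blockElt B * MonoidAlgebra.single g (1 : ℂ) := by
    funext g
    rw [map_mul, ha, iota_single]
  rw [e, finrank_span_blockElt]

open Classical in
/-- The dimension of the centre of the block factor is exactly the number of characters in the block. -/
theorem card_le_finrank_span_mul_csL (ha : iota G M a = blockElt B) :
    (Finset.univ.filter (· ∈ B)).card ≤
      finrank (localRing M ⧸ localIdeal M) (Submodule.span (localRing M ⧸ localIdeal M)
      (Set.range fun K : ConjClasses G => piR G M a * piR G M (csL K.out))) := by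
  have ha' : iota G M (1 - a) = blockElt Bᶜ := by
    rw [map_sub, map_one, ha, Cfsg.Agent.Lib.Blocks.Sections.blockElt_compl]
  have h1 := finrank_span_mul_csL_le Bᶜ (1 - a) ha'
  set Zs := Submodule.span (localRing M ⧸ localIdeal M)
      (Set.range fun K : ConjClasses G => piR G M a * piR G M (csL K.out)) with hZs
  set Zs' := Submodule.span (localRing M ⧸ localIdeal M)
      (Set.range fun K : ConjClasses G => piR G M (1 - a) * piR G M (csL K.out)) with hZs'
  have h2 : Submodule.span (localRing M ⧸ localIdeal M)
      (Set.range fun K : ConjClasses G => piR G M (csL K.out)) ≤ Zs ⊔ Zs' := by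
    apply Submodule.span_le.2
    rintro _ ⟨K, rfl⟩
    have e : piR G M (csL K.out) = piR G M a * piR G M (csL K.out) +
        piR G M (1 - a) * piR G M (csL K.out) := by
      rw [← add_mul, ← map_add, add_sub_cancel, map_one, one_mul]
    show piR G M (csL K.out) ∈ _
    rw [e]
    exact Submodule.add_mem_sup (Submodule.subset_span ⟨K, rfl⟩) (Submodule.subset_span ⟨K, rfl⟩)
  have h3 := finrank_span_eq_card (linearIndependent_piR_csL (G := G) (M := M))
  have h4 := Submodule.finrank_mono h2
  have h5 := Submodule.finrank_add_le_finrank_add_finrank Zs Zs'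
  rw [h3] at h4
  have h6 : Fintype.card (ConjClasses G) = Fintype.card (IrrCharacter G) := by
    have := Cfsg.Agent.Lib.Char.CompleteCor.card_irr_eq_card_conjClasses (G := G)
    rw [Nat.card_eq_fintype_card, Nat.card_eq_fintype_card] at this
    exact this.symm
  have h7 : (Finset.univ.filter (· ∈ B)).card + (Finset.univ.filter (fun x => ¬ x ∈ B)).card =
      Fintype.card (IrrCharacter G) := by
    rw [Finset.card_filter_add_card_filter_not]
    rfl
  have h8 : finrank (localRing M ⧸ localIdeal M) Zs' ≤ (Finset.univ.filter (fun x => ¬ x ∈ B)).card := by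
    refine h1.trans (le_of_eq ?_)
    congr 1
    ext x
    simp
  omega

end Main


section Main2

variable {B : Set (IrrCharacter G)} {a : MonoidAlgebra (localRing M) G}

lemma piR_central {x : MonoidAlgebra (localRing M) G} (hx : IsClassFunction G (iota G M x).coeff)
    (y : MonoidAlgebra (localRing M ⧸ localIdeal M) G) : piR G M x * y = y * piR G M x := by
  obtain ⟨y, rfl⟩ := piR_surjective y
  rw [← map_mul, ← map_mul]
  congr 1
  apply iota_injective
  rw [map_mul, map_mul]
  exact mul_comm_of_isClassFunction hx _

open Classical in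
/-- A nonzero central nilpotent element in the block factor modulo the local ideal. -/
theorem exists_central_nilpotent (hB : IsPBlock M B) (ha : iota G M a = blockElt B)
    (h2 : 2 ≤ (Finset.univ.filter (· ∈ B)).card) :
    ∃ w : MonoidAlgebra (localRing M ⧸ localIdeal M) G, piR G M a * w = w ∧ (∀ y, w * y = y * w) ∧
      w ≠ 0 ∧ IsNilpotent w := by
  have hne : (Finset.univ.filter (· ∈ B)).Nonempty := Finset.card_pos.1 (by omega)
  obtain ⟨χ₀, hχ₀⟩ := hne
  have hχ₀ : χ₀ ∈ B := (Finset.mem_filter.1 hχ₀).2
  let ω : ConjClasses G → localRing M := fun K =>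
    ⟨omega (χ₀ : G → ℂ) (classSum K.out), memLocalRing_omega χ₀.2 (classSum_mem_localCenter _)⟩
  let ŵ : ConjClasses G → MonoidAlgebra (localRing M) G := fun K => a * csL K.out - ω K • a
  have hŵ : ∃ K, piR G M (ŵ K) ≠ 0 := by
    by_contra hno
    push_neg at hno
    have h3 := card_le_finrank_span_mul_csL (M := M) ha
    have h4 : Submodule.span (localRing M ⧸ localIdeal M)
        (Set.range fun K : ConjClasses G => piR G M a * piR G M (csL K.out)) ≤
        Submodule.span (localRing M ⧸ localIdeal M) {piR G M a} := by
      apply Submodule.span_le.2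
      rintro _ ⟨K, rfl⟩
      have h5 := hno K
      simp only [ŵ] at h5
      rw [map_sub, map_mul, piR_smul, sub_eq_zero] at h5
      show piR G M a * piR G M (csL K.out) ∈ _
      rw [h5]
      exact Submodule.smul_mem _ _ (Submodule.subset_span rfl)
    have h6 := Submodule.finrank_mono h4
    have h7 := finrank_span_le_card (R := localRing M ⧸ localIdeal M) ({piR G M a} : Set (MonoidAlgebra (localRing M ⧸ localIdeal M) G))
    simp only [Set.toFinset_singleton, Finset.card_singleton] at h7
    omega
  obtain ⟨K, hK⟩ := hŵ
  have hiota : iota G M (ŵ K) = blockElt B * classSum K.out - (ω K : ℂ) • blockElt B := by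
    simp only [ŵ]
    rw [map_sub, map_mul, iota_smul, ha, iota_csL]
  have hcl : IsClassFunction G (iota G M (ŵ K)).coeff := by
    rw [hiota]
    intro g x
    simp only [MonoidAlgebra.coeff_sub, Finsupp.sub_apply]
    rw [isClassFunction_mul (isClassFunction_blockElt B) (isClassFunction_classSum _) g x,
      isClassFunction_smul _ (isClassFunction_blockElt B) g x]
  have hBc : blockElt B ∈ localCenter G M := blockElt_mem_localCenter hB
  have hmem : iota G M (ŵ K) ∈ localCenter G M := by
    rw [hiota]
    exact (localCenter G M).sub_mem ((localCenter G M).mul_mem hBc (classSum_mem_localCenter _))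
      (smul_mem_localCenter (ω K).2 hBc)
  refine ⟨piR G M (ŵ K), ?_, piR_central hcl, hK, ?_⟩
  · rw [← map_mul]
    congr 1
    simp only [ŵ]
    rw [mul_sub, ← mul_assoc, lift_mul_self ha, mul_smul_comm, lift_mul_self ha]
  · obtain ⟨t, -, ht⟩ := Cfsg.Agent.Lib.Blocks.SecondMain.exists_pow_coeffIn_of_omega hmem (by
      intro ξ
      rw [hiota, omega_sub, omega_mul ξ.2 (isClassFunction_blockElt B), omega_smul]
      by_cases hξ : ξ ∈ B
      · rw [omega_blockElt_of_mem hξ, one_mul, mul_one]
        obtain ⟨χ, rfl⟩ := hB
        have hsame : SameBlock M (ξ : G → ℂ) (χ₀ : G → ℂ) := sameBlock_trans (sameBlock_symm hξ) hχ₀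
        exact memLocalIdeal_omega_sub ξ.2 χ₀.2 hsame (classSum_mem_localCenter _)
      · rw [omega_blockElt_of_notMem hξ, zero_mul, mul_zero, sub_zero]
        exact memLocalIdeal_zero)
    refine ⟨t, ?_⟩
    rw [← map_pow, piR_eq_zero_iff]
    intro g
    rw [← coeff_iota, map_pow]
    exact Cfsg.Agent.Lib.Blocks.Twisted.coeffIn_localIdeal_iff.1 ht g

end Main2


section Main3

variable {B : Set (IrrCharacter G)} {a : MonoidAlgebra (localRing M) G}

/-- Elements of the span of the reductions of central elements lift to central elements. -/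
lemma exists_lift_of_mem_Zs (ha : iota G M a = blockElt B)
    {z : MonoidAlgebra (localRing M ⧸ localIdeal M) G}
    (hz : z ∈ Submodule.span (localRing M ⧸ localIdeal M)
      (Set.range fun K : ConjClasses G => piR G M a * piR G M (csL K.out))) :
    ∃ y : MonoidAlgebra (localRing M) G, piR G M y = z ∧ IsClassFunction G (iota G M y).coeff := by
  induction hz using Submodule.span_induction with
  | mem x hx =>
    obtain ⟨K, rfl⟩ := hx
    refine ⟨a * csL K.out, map_mul _ _ _, ?_⟩
    rw [map_mul, ha, iota_csL]
    exact isClassFunction_mul (isClassFunction_blockElt B) (isClassFunction_classSum _)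
  | zero =>
    refine ⟨0, map_zero _, ?_⟩
    intro g x
    simp
  | add x y _ _ hx hy =>
    obtain ⟨u, rfl, hu⟩ := hx
    obtain ⟨v, rfl, hv⟩ := hy
    refine ⟨u + v, map_add _ _ _, ?_⟩
    rw [map_add]
    exact isClassFunction_add hu hv
  | smul c x _ hx =>
    obtain ⟨u, rfl, hu⟩ := hx
    obtain ⟨d, rfl⟩ := residue_surjective c
    refine ⟨d • u, piR_smul _ _, ?_⟩
    rw [iota_smul]
    exact isClassFunction_smul _ hu

/-- Purity: an element of the block ideal with coefficients in the local ideal lies in the ideal times the block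
ideal. -/
lemma mem_smul_of_piR_eq_zero {d : MonoidAlgebra (localRing M) G} (hd : a * d = d) (h0 : piR G M d = 0) :
    d ∈ (localIdeal M) • Submodule.span (localRing M)
      (Set.range fun g : G => a * MonoidAlgebra.single g (1 : localRing M)) := by
  rw [← hd, eq_sum_single_smul _ d, Finset.mul_sum]
  refine Submodule.sum_mem _ fun g _ => ?_
  rw [mul_smul_comm]
  refine Submodule.smul_mem_smul ?_ (Submodule.subset_span ⟨g, rfl⟩)
  have := (piR_eq_zero_iff d).1 h0 g
  exact this

lemma localIdeal_le_jacobson : localIdeal M ≤ Ideal.jacobson ⊥ := by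
  rw [localIdeal_eq_maximalIdeal]
  exact IsLocalRing.maximalIdeal_le_jacobson _

/-- The degrees in the block are bounded by the number of matrix units. -/
theorem degree_sq_le (ha : iota G M a = blockElt B) {n : ℕ}
    {A : Fin n → Fin n → MonoidAlgebra (localRing M ⧸ localIdeal M) G}
    {z : MonoidAlgebra (localRing M ⧸ localIdeal M) G}
    (hAe : ∀ i j, piR G M a * A i j = A i j)
    (hzZ : z ∈ Submodule.span (localRing M ⧸ localIdeal M)
      (Set.range fun K : ConjClasses G => piR G M a * piR G M (csL K.out)))
    (hspan : ∀ r, piR G M a * r = r → r ∈ Submodule.span (localRing M ⧸ localIdeal M)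
      (Set.range (fun ij : Fin n × Fin n => A ij.1 ij.2) ∪
        Set.range (fun ij : Fin n × Fin n => z * A ij.1 ij.2)))
    {χ : IrrCharacter G} (hχ : χ ∈ B) :
    (charDegree (χ : G → ℂ)) ^ 2 ≤ n * n := by
  classical
  obtain ⟨zh, hzh, hzhc⟩ := exists_lift_of_mem_Zs ha hzZ
  choose b hb using fun ij : Fin n × Fin n => piR_surjective (A ij.1 ij.2)
  let u : Fin n × Fin n → MonoidAlgebra (localRing M) G := fun ij => a * b ij
  have hu : ∀ ij, piR G M (u ij) = A ij.1 ij.2 := by
    intro ij
    simp only [u]
    rw [map_mul, hb, hAe]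
  let N : Submodule (localRing M) (MonoidAlgebra (localRing M) G) :=
    Submodule.span (localRing M) (Set.range u ∪ Set.range fun ij => zh * u ij)
  let P : Submodule (localRing M) (MonoidAlgebra (localRing M) G) :=
    Submodule.span (localRing M) (Set.range fun g : G => a * MonoidAlgebra.single g (1 : localRing M))
  have hNa : ∀ y ∈ N, a * y = y := by
    intro y hy
    induction hy using Submodule.span_induction with
    | mem x hx =>
      rcases hx with ⟨ij, rfl⟩ | ⟨ij, rfl⟩
      · simp only [u]
        rw [← mul_assoc, lift_mul_self ha]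
      · show a * (zh * (a * b ij)) = zh * (a * b ij)
        rw [← mul_assoc, lift_comm ha, mul_assoc, ← mul_assoc a a, lift_mul_self ha]
    | zero => simp
    | add x y _ _ hx hy => rw [mul_add, hx, hy]
    | smul c x _ hx => rw [mul_smul_comm, hx]
  have hlift : ∀ r, r ∈ Submodule.span (localRing M ⧸ localIdeal M)
      (Set.range (fun ij : Fin n × Fin n => A ij.1 ij.2) ∪
        Set.range (fun ij : Fin n × Fin n => z * A ij.1 ij.2)) → ∃ y ∈ N, piR G M y = r := by
    intro r hr
    induction hr using Submodule.span_induction with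
    | mem x hx =>
      rcases hx with ⟨ij, rfl⟩ | ⟨ij, rfl⟩
      · exact ⟨u ij, Submodule.subset_span (Or.inl ⟨ij, rfl⟩), hu ij⟩
      · refine ⟨zh * u ij, Submodule.subset_span (Or.inr ⟨ij, rfl⟩), ?_⟩
        rw [map_mul, hzh, hu]
    | zero => exact ⟨0, N.zero_mem, map_zero _⟩
    | add x y _ _ hx hy =>
      obtain ⟨v, hv, rfl⟩ := hx
      obtain ⟨w, hw, rfl⟩ := hy
      exact ⟨v + w, N.add_mem hv hw, map_add _ _ _⟩
    | smul c x _ hx =>
      obtain ⟨v, hv, rfl⟩ := hx
      obtain ⟨d, rfl⟩ := residue_surjective c
      exact ⟨d • v, N.smul_mem _ hv, piR_smul _ _⟩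
  have hnak : P ≤ N := by
    refine Submodule.le_of_le_smul_of_le_jacobson_bot (I := localIdeal M) (Submodule.fg_span (Set.finite_range _))
      localIdeal_le_jacobson ?_
    apply Submodule.span_le.2
    rintro _ ⟨g, rfl⟩
    set x := a * MonoidAlgebra.single g (1 : localRing M) with hx
    have hxa : a * x = x := by
      rw [hx, ← mul_assoc, lift_mul_self ha]
    have hr : piR G M a * piR G M x = piR G M x := by
      rw [← map_mul, hxa]
    obtain ⟨y, hyN, hy⟩ := hlift _ (hspan _ hr)
    have hd : x - y ∈ (localIdeal M) • P := by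
      apply mem_smul_of_piR_eq_zero
      · rw [mul_sub, hxa, hNa y hyN]
      · rw [map_sub, hy, sub_self]
    have : x = y + (x - y) := by abel
    show x ∈ _
    rw [this]
    exact Submodule.add_mem_sup hyN hd
  -- passing to `ℂ`
  let W : Submodule ℂ (MonoidAlgebra ℂ G) :=
    Submodule.span ℂ (Set.range fun ij => blockElt {χ} * iota G M (u ij))
  have hW : ∀ y ∈ N, blockElt {χ} * iota G M y ∈ W := by
    intro y hy
    induction hy using Submodule.span_induction with
    | mem x hx =>
      rcases hx with ⟨ij, rfl⟩ | ⟨ij, rfl⟩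
      · exact Submodule.subset_span ⟨ij, rfl⟩
      · show blockElt {χ} * iota G M (zh * u ij) ∈ W
        rw [map_mul, ← mul_assoc, blockElt_singleton_mul hzhc, smul_mul_assoc]
        exact Submodule.smul_mem _ _ (Submodule.subset_span ⟨ij, rfl⟩)
    | zero => simp
    | add x y _ _ hx hy =>
      rw [map_add, mul_add]
      exact W.add_mem hx hy
    | smul c x _ hx =>
      rw [iota_smul, mul_smul_comm]
      exact W.smul_mem _ hx
  have hle : Submodule.span ℂ (Set.range (fun g : G => blockElt ({χ} : Set (IrrCharacter G)) *
      MonoidAlgebra.single g (1 : ℂ))) ≤ W := by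
    apply Submodule.span_le.2
    rintro _ ⟨g, rfl⟩
    have h1 := hW _ (hnak (Submodule.subset_span ⟨g, rfl⟩ : a * MonoidAlgebra.single g (1 : localRing M) ∈ P))
    rw [map_mul, ha, iota_single, ← mul_assoc, blockElt_mul,
      Set.inter_eq_left.2 (Set.singleton_subset_iff.2 hχ)] at h1
    exact h1
  have h1 := Submodule.finrank_mono hle
  rw [finrank_span_blockElt] at h1
  have h2 : finrank ℂ W ≤ n * n := by
    refine (finrank_range_le_card _).trans ?_
    simp
  have h3 : ∀ inst : DecidablePred (· ∈ ({χ} : Set (IrrCharacter G))),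
      (@Finset.filter _ (· ∈ ({χ} : Set (IrrCharacter G))) inst Finset.univ) = {χ} := by
    intro inst
    ext x
    simp
  rw [h3, Finset.sum_singleton] at h1
  exact h1.trans h2

end Main3


section Final

variable {B : Set (IrrCharacter G)}

open Classical in
/-- **Two characters in a block have the same degree.** -/
theorem exists_degree_eq (hB : IsPBlock M B) (h2 : (Finset.univ.filter (· ∈ B)).card = 2) :
    ∃ n : ℕ, ∀ χ ∈ B, charDegree (χ : G → ℂ) = n := by
  have hBc : blockElt B ∈ localCenter G M := blockElt_mem_localCenter hB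
  let a : MonoidAlgebra (localRing M) G := lcL (blockElt B) hBc
  have ha : iota G M a = blockElt B := iota_lcL _ _
  haveI : IsAlgClosed (localRing M ⧸ localIdeal M) := isAlgClosed_residue
  obtain ⟨w, hwe, hwc, hw0, hwn⟩ := exists_central_nilpotent hB ha h2.ge
  set Zs := Submodule.span (localRing M ⧸ localIdeal M)
      (Set.range fun K : ConjClasses G => piR G M a * piR G M (csL K.out)) with hZs
  have hZs2 : finrank (localRing M ⧸ localIdeal M) Zs ≤ 2 := by
    have := finrank_span_mul_csL_le B a ha
    rw [h2] at this
    exact this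
  have hZ : ∀ x, piR G M a * x = x → (∀ y, x * y = y * x) → x ∈ Zs := by
    intro x hx hxc
    rw [← hx, eq_sum_piR_csL hxc, Finset.mul_sum]
    refine Submodule.sum_mem _ fun K _ => ?_
    rw [mul_smul_comm]
    exact Submodule.smul_mem _ _ (Submodule.subset_span ⟨K, rfl⟩)
  obtain ⟨n, A, z, hn, hAe, hze, hzc, hspan, hdim⟩ := exists_structure_cut (piR G M a)
    (piR_mul_self ha) (piR_comm ha) (tr1 _) (tr1_comm _) (tr1_nondeg _) Zs hZs2 hZ hwe hwc hw0 hwn
  have hzZ : z ∈ Zs := hZ z hze hzc
  have hle : ∀ χ ∈ B, (charDegree (χ : G → ℂ)) ^ 2 ≤ n * n := fun χ hχ =>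
    degree_sq_le ha hAe hzZ hspan hχ
  have hcut := finrank_cut_le ha
  refine ⟨n, fun χ hχ => ?_⟩
  by_contra hne
  have hlt : (charDegree (χ : G → ℂ)) ^ 2 < n * n := by
    refine lt_of_le_of_ne (hle χ hχ) ?_
    intro h
    apply hne
    have : (charDegree (χ : G → ℂ)) ^ 2 = n ^ 2 := by rw [h, sq]
    exact (Nat.pow_left_injective (n := 2) (by norm_num)) this
  have hsum : ∑ χ ∈ Finset.univ.filter (· ∈ B), (charDegree (χ : G → ℂ)) ^ 2 <
      ∑ _χ ∈ Finset.univ.filter (· ∈ B), n * n := by
    apply Finset.sum_lt_sum
    · intro ψ hψ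
      exact hle ψ (Finset.mem_filter.1 hψ).2
    · exact ⟨χ, Finset.mem_filter.2 ⟨Finset.mem_univ _, hχ⟩, hlt⟩
  rw [Finset.sum_const, h2, smul_eq_mul] at hsum
  omega

end Final

end Second

end Cfsg.Agent.Lib.Blocks.ModBlock
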