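import Mathlib
import Cfsg.Agent.Lib.Blocks.SymCom2
import Cfsg.Agent.Lib.Blocks.ModBlock
import Cfsg.Agent.Lib.Transfer.Basic
import Cfsg.Prelude.Def_BlockRank

/-!
# Blocks with `l(B) = 1` and `k(B) ≤ 4`

`card_le_blockRank`: the number of simple factors of the block factor of the group algebra modulo the local ideal is
at most the rank `l(B)` of the restrictions to the `p`-regular elements.  (The Reynolds element of a trace form is
central; it lifts to a central element over the local ring whose regular part lies in the span of the regular parts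
of the characters in the block.)

`exists_degree_eq_of_rank_one`: all characters of a block with `l(B) = 1`, `k(B) ≤ 4` have the same degree.
-/

set_option autoImplicit false
set_option linter.unusedSectionVars false
set_option linter.style.haveILetI false

namespace Cfsg.Agent.Lib.Blocks.SymCom

open Module Cfsg Cfsg.Agent.Lib.Blocks.Local Cfsg.Agent.Lib.Blocks.Central Cfsg.Agent.Lib.Blocks.Osima
open Cfsg.Agent.Lib.Blocks.ModRank Cfsg.Agent.Lib.Blocks.BlockHom Cfsg.Agent.Lib.Blocks.SymLocal
open Cfsg.Agent.Lib.Blocks.ModBlock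
open scoped ComplexConjugate Cfsg.Agent.Lib.Blocks.Central

universe u

variable {G : Type u} [Group G] [Fintype G]

section Trace

variable {k : Type*} [Field k] {p : ℕ} [hp : Fact p.Prime]

/-- The trace of a representation in characteristic `p` only sees the `p`-regular part. -/
lemma trace_single_eq (hpk : (p : k) = 0) {d : ℕ} [NeZero d]
    (ρ : MonoidAlgebra k G →ₐ[k] Matrix (Fin d) (Fin d) k) {a b : G} (hab : Commute a b) {n : ℕ}
    (han : a ^ p ^ n = 1) :
    Matrix.trace (ρ (MonoidAlgebra.single (a * b) 1)) = Matrix.trace (ρ (MonoidAlgebra.single b 1)) := by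
  haveI : CharP k p := (CharP.charP_iff_prime_eq_zero hp.out).2 hpk
  haveI : ExpChar (Matrix (Fin d) (Fin d) k) p := ExpChar.prime hp.out
  set U := ρ (MonoidAlgebra.single a 1) with hU
  set V := ρ (MonoidAlgebra.single b 1) with hV
  have hUV : ρ (MonoidAlgebra.single (a * b) 1) = U * V := by
    rw [hU, hV, ← map_mul, MonoidAlgebra.single_mul_single, mul_one]
  have hcomm : Commute U V := by
    change U * V = V * U
    rw [hU, hV, ← map_mul, ← map_mul, MonoidAlgebra.single_mul_single, MonoidAlgebra.single_mul_single, hab.eq]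
  have hpow : U ^ p ^ n = 1 := by
    rw [hU, ← map_pow, MonoidAlgebra.single_pow, han, one_pow]
    exact map_one ρ
  have hnil : IsNilpotent (U - 1) := by
    refine ⟨p ^ n, ?_⟩
    rw [sub_pow_expChar_pow_of_commute p n (Commute.one_right U), hpow, one_pow, sub_self]
  have hN : IsNilpotent ((U - 1) * V) := by
    have hc : Commute (U - 1) V := (hcomm.sub_left (Commute.one_left V))
    exact hc.isNilpotent_mul_right hnil
  have h0 := (Matrix.isNilpotent_trace_of_isNilpotent hN).eq_zero
  rw [hUV]
  have h1 : U * V = (U - 1) * V + V := by noncomm_ring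
  rw [h1, Matrix.trace_add, h0, zero_add]

end Trace

section Reynolds

lemma blockCoeff_singleton' (θ : IrrCharacter G) (g : G) :
    blockCoeff {θ} g = (Nat.card G : ℂ)⁻¹ * ((θ : G → ℂ) 1 * conj ((θ : G → ℂ) g)) := by
  classical
  rw [blockCoeff_eq_sum]
  congr 1
  refine Finset.sum_eq_single_of_mem θ (by simp) fun a ha hne => ?_
  simp only [Finset.mem_filter, Finset.mem_univ, true_and, Set.mem_singleton_iff] at ha
  exact absurd ha hne

variable {M : Ideal AlgInt} [hM : M.IsPrime] {p : ℕ} [hp : Fact p.Prime]
variable {B : Set (IrrCharacter G)} {a : MonoidAlgebra (localRing M) G}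

local notation "kk" => (localRing M ⧸ localIdeal M)

open Classical in
/-- **The number of simple factors is at most the rank.** -/
theorem card_le_blockRank (hMp : IsPModular p M) (ha : iota G M a = blockElt B) {m : ℕ} {d : Fin m → ℕ}
    (φ : MonoidAlgebra kk G →ₐ[kk] (Π i, Matrix (Fin (d i)) (Fin (d i)) kk)) (hd : ∀ i, NeZero (d i))
    (hφ : Function.Surjective φ) (he : φ (piR G M a) = 1) : m ≤ blockRank p B := by
  set e := piR G M a with hedef
  have hpk : ((p : ℕ) : kk) = 0 := by
    have : ((p : ℕ) : kk) = residue M (p : localRing M) := (map_natCast _ _).symm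
    rw [this, residue_eq_zero_iff]
    exact_mod_cast memLocalIdeal_natCast_self hMp
  let τ : Fin m → (MonoidAlgebra kk G →ₗ[kk] kk) := fun i =>
    (Matrix.traceLinearMap (Fin (d i)) kk kk) ∘ₗ (LinearMap.proj i) ∘ₗ φ.toLinearMap
  have hτ : ∀ i x, τ i x = Matrix.trace (φ x i) := fun i x => rfl
  have hτc : ∀ i x y, τ i (x * y) = τ i (y * x) := by
    intro i x y
    rw [hτ, hτ, map_mul, map_mul, Pi.mul_apply, Pi.mul_apply, Matrix.trace_mul_comm]
  have hτe : ∀ i x, τ i (e * x) = τ i x := by
    intro i x
    rw [hτ, hτ, map_mul, he, one_mul]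
  -- the Reynolds element
  let c : Fin m → MonoidAlgebra kk G := fun i => ∑ g : G, τ i (MonoidAlgebra.single g⁻¹ 1) • MonoidAlgebra.single g 1
  have hcc : ∀ i g, (c i).coeff g = τ i (MonoidAlgebra.single g⁻¹ 1) := by
    intro i g
    simp [c, MonoidAlgebra.coeff_sum, Finsupp.finsetSum_apply, MonoidAlgebra.coeff_single, Finsupp.single_apply]
  have htr : ∀ i y, tr1 kk (c i * y) = τ i y := by
    intro i y
    rw [tr1_mul]
    simp only [hcc]
    conv_rhs => rw [eq_sum_single_smul kk y, map_sum]
    refine Fintype.sum_equiv (Equiv.inv G) _ _ fun g => ?_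
    simp only [Equiv.inv_apply, map_smul, smul_eq_mul, mul_comm]
  have hcen : ∀ i y, c i * y = y * c i := by
    intro i y
    rw [← sub_eq_zero]
    apply tr1_nondeg
    intro w
    rw [sub_mul, map_sub, mul_assoc, htr, mul_assoc, tr1_comm, mul_assoc, htr, hτc, sub_self]
  have hec : ∀ i, e * c i = c i := by
    intro i
    rw [← sub_eq_zero]
    apply tr1_nondeg
    intro w
    rw [sub_mul, map_sub, piR_comm ha (c i), mul_assoc, htr, hτe, htr, sub_self]
  -- the lifts
  set Zs := Submodule.span kk (Set.range fun K : ConjClasses G => piR G M a * piR G M (csL K.out)) with hZs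
  have hcZ : ∀ i, c i ∈ Zs := by
    intro i
    rw [← hec i, eq_sum_piR_csL (hcen i), Finset.mul_sum]
    refine Submodule.sum_mem _ fun K _ => ?_
    rw [mul_smul_comm]
    exact Submodule.smul_mem _ _ (Submodule.subset_span ⟨K, rfl⟩)
  choose y hy hyc using fun i => exists_lift_of_mem_Zs ha (hcZ i)
  let Y : Fin m → MonoidAlgebra (localRing M) G := fun i => a * y i
  have hY : ∀ i, piR G M (Y i) = c i := by
    intro i
    simp only [Y]
    rw [map_mul, hy, hec]
  -- the matrix over the local ring
  let S : Fin m → G → localRing M := fun i g => if ¬ p ∣ orderOf g then (Y i).coeff g⁻¹ else 0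
  have hred : LinearIndependent kk (fun (i : Fin m) (g : G) => residue M (S i g)) := by
    rw [Fintype.linearIndependent_iff]
    intro β hβ i₀
    have hreg : ∀ g : G, ¬ p ∣ orderOf g → ∑ i, β i * τ i (MonoidAlgebra.single g 1) = 0 := by
      intro g hg
      have h1 := congrFun hβ g
      simp only [Finset.sum_apply, Pi.smul_apply, smul_eq_mul, Pi.zero_apply] at h1
      rw [← h1]
      refine Finset.sum_congr rfl fun i _ => ?_
      congr 1
      simp only [S, if_pos hg]
      rw [← coeff_piR, hY, hcc, inv_inv]
    have hall : ∀ g : G, ∑ i, β i * τ i (MonoidAlgebra.single g 1) = 0 := by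
      intro g
      obtain ⟨u, v, rfl, hc, -, -, ⟨n, hn⟩, hv⟩ := Cfsg.Agent.Lib.Transfer.Basic.exists_pPart_decomp (p := p) g
      rw [← hreg v (fun h => by
        have := Nat.Coprime.eq_one_of_dvd hv.symm h
        exact hp.out.one_lt.ne' this)]
      refine Finset.sum_congr rfl fun i _ => ?_
      congr 1
      haveI := hd i
      let ρ : MonoidAlgebra kk G →ₐ[kk] Matrix (Fin (d i)) (Fin (d i)) kk := (Pi.evalAlgHom kk _ i).comp φ
      exact trace_single_eq hpk ρ hc (n := n) (by rw [← hn]; exact pow_orderOf_eq_one u)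
    have hsum : ∀ x : MonoidAlgebra kk G, ∑ i, β i * τ i x = 0 := by
      intro x
      conv_lhs => rw [eq_sum_single_smul kk x]
      simp only [map_sum, map_smul, smul_eq_mul, Finset.mul_sum]
      rw [Finset.sum_comm]
      refine Finset.sum_eq_zero fun g _ => ?_
      have h1 := hall g
      calc ∑ i, β i * (x.coeff g * τ i (MonoidAlgebra.single g 1))
          = x.coeff g * ∑ i, β i * τ i (MonoidAlgebra.single g 1) := by
            rw [Finset.mul_sum]
            exact Finset.sum_congr rfl fun i _ => by ring
        _ = 0 := by rw [h1, mul_zero]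
    haveI := hd i₀
    obtain ⟨x, hx⟩ := hφ (Pi.single i₀ (Matrix.single 0 0 (1 : kk)))
    have h1 := hsum x
    rw [Finset.sum_eq_single i₀] at h1
    · rw [hτ, hx, Pi.single_eq_same, Matrix.trace_single_eq_same, mul_one] at h1
      exact h1
    · intro i _ hi
      rw [hτ, hx, Pi.single_eq_of_ne hi, Matrix.trace_zero, mul_zero]
    · simp
  have hC := linearIndependent_of_reduction (residue M) residue_surjective isUnit_of_residue_ne_zero
    (localRing M).subtype S hred
  -- the functions lie in the span
  set U := Submodule.span ℂ ((fun χ : IrrCharacter G => pRegularPart p (χ : G → ℂ)) '' B) with hU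
  have hmemU : ∀ i, (fun g => (localRing M).subtype (S i g)) ∈ U := by
    intro i
    have h1 : iota G M (Y i) = ∑ χ ∈ Finset.univ.filter (· ∈ B), omega (χ : G → ℂ) (iota G M (y i)) • blockElt {χ} := by
      simp only [Y]
      rw [map_mul, ha]
      exact blockElt_mul_classFun B (hyc i)
    have h2 : (fun g => (localRing M).subtype (S i g)) = ∑ χ ∈ Finset.univ.filter (· ∈ B),
        (omega (χ : G → ℂ) (iota G M (y i)) * ((Nat.card G : ℂ)⁻¹ * (χ : G → ℂ) 1)) • pRegularPart p (χ : G → ℂ) := by
      funext g
      rw [Finset.sum_apply]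
      simp only [Pi.smul_apply, smul_eq_mul, S]
      by_cases hg : p ∣ orderOf g
      · rw [if_neg (not_not.2 hg)]
        simp [pRegularPart, IsPRegular, hg]
      · rw [if_pos hg]
        simp only [Subring.subtype_apply]
        rw [← coeff_iota, h1]
        simp only [MonoidAlgebra.coeff_sum, Finsupp.finsetSum_apply]
        refine Finset.sum_congr rfl fun χ _ => ?_
        have hχc := Cfsg.Agent.Lib.Char.Basic.isCharacter_of_isIrrCharacter χ.2
        have h3 : conj ((χ : G → ℂ) g⁻¹) = (χ : G → ℂ) g := by
          rw [Cfsg.Agent.Lib.Char.Ortho.conj_of_isCharacter hχc, inv_inv]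
        have h4 : pRegularPart p (χ : G → ℂ) g = (χ : G → ℂ) g := by
          unfold pRegularPart
          exact if_pos hg
        rw [MonoidAlgebra.coeff_smul_apply, coeff_blockElt, blockCoeff_singleton', h3, h4]
        simp only [smul_eq_mul]
        ring
    rw [h2]
    refine Submodule.sum_mem _ fun χ hχ => Submodule.smul_mem _ _ (Submodule.subset_span ⟨χ, (Finset.mem_filter.1 hχ).2, rfl⟩)
  have hle : Submodule.span ℂ (Set.range fun (i : Fin m) (g : G) => (localRing M).subtype (S i g)) ≤ U := by
    apply Submodule.span_le.2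
    rintro _ ⟨i, rfl⟩
    exact hmemU i
  have h3 := Submodule.finrank_mono hle
  rw [finrank_span_eq_card hC, Fintype.card_fin] at h3
  exact h3

/-- The degrees in the block are bounded by the number of matrix units, when the algebra is spanned by products of
central elements and these units. -/
theorem degree_sq_le' (ha : iota G M a = blockElt B) {n : ℕ}
    {A : Fin n → Fin n → MonoidAlgebra kk G}
    (hAe : ∀ i j, piR G M a * A i j = A i j)
    (hspan : ∀ r, piR G M a * r = r → r ∈ Submodule.span kk {x | ∃ z ∈ Submodule.span kk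
      (Set.range fun K : ConjClasses G => piR G M a * piR G M (csL K.out)), ∃ i j, x = z * A i j})
    {χ : IrrCharacter G} (hχ : χ ∈ B) :
    (charDegree (χ : G → ℂ)) ^ 2 ≤ n * n := by
  classical
  choose b hb using fun ij : Fin n × Fin n => piR_surjective (A ij.1 ij.2)
  let u : Fin n × Fin n → MonoidAlgebra (localRing M) G := fun ij => a * b ij
  have hu : ∀ ij, piR G M (u ij) = A ij.1 ij.2 := by
    intro ij
    simp only [u]
    rw [map_mul, hb, hAe]
  let N : Submodule (localRing M) (MonoidAlgebra (localRing M) G) :=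
    Submodule.span (localRing M) {y | ∃ zh : MonoidAlgebra (localRing M) G, IsClassFunction G (iota G M zh).coeff ∧
      ∃ ij, y = zh * u ij}
  let P : Submodule (localRing M) (MonoidAlgebra (localRing M) G) :=
    Submodule.span (localRing M) (Set.range fun g : G => a * MonoidAlgebra.single g (1 : localRing M))
  have hNa : ∀ y ∈ N, a * y = y := by
    intro y hy
    induction hy using Submodule.span_induction with
    | mem x hx =>
      obtain ⟨zh, -, ij, rfl⟩ := hx
      simp only [u]
      rw [← mul_assoc, lift_comm ha, mul_assoc, ← mul_assoc a a, lift_mul_self ha]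
    | zero => simp
    | add x y _ _ hx hy => rw [mul_add, hx, hy]
    | smul c x _ hx => rw [mul_smul_comm, hx]
  have hlift : ∀ r, r ∈ Submodule.span kk {x | ∃ z ∈ Submodule.span kk
      (Set.range fun K : ConjClasses G => piR G M a * piR G M (csL K.out)), ∃ i j, x = z * A i j} →
      ∃ y ∈ N, piR G M y = r := by
    intro r hr
    induction hr using Submodule.span_induction with
    | mem x hx =>
      obtain ⟨z, hz, i, j, rfl⟩ := hx
      obtain ⟨zh, hzh, hzhc⟩ := exists_lift_of_mem_Zs ha hz
      refine ⟨zh * u (i, j), Submodule.subset_span ⟨zh, hzhc, (i, j), rfl⟩, ?_⟩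
      rw [map_mul, hzh, hu]
    | zero => exact ⟨0, N.zero_mem, map_zero _⟩
    | add x y _ _ hx hy =>
      obtain ⟨v, hv, rfl⟩ := hx
      obtain ⟨w, hw, rfl⟩ := hy
      exact ⟨v + w, N.add_mem hv hw, map_add _ _ _⟩
    | smul c x _ hx =>
      obtain ⟨v, hv, rfl⟩ := hx
      obtain ⟨d, rfl⟩ := residue_surjective c
      exact ⟨d • v, N.smul_mem _ hv, piR_smul _ _⟩
  have hnak : P ≤ N := by
    refine Submodule.le_of_le_smul_of_le_jacobson_bot (I := localIdeal M) (Submodule.fg_span (Set.finite_range _))
      localIdeal_le_jacobson ?_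
    apply Submodule.span_le.2
    rintro _ ⟨g, rfl⟩
    set x := a * MonoidAlgebra.single g (1 : localRing M) with hx
    have hxa : a * x = x := by
      rw [hx, ← mul_assoc, lift_mul_self ha]
    have hr : piR G M a * piR G M x = piR G M x := by
      rw [← map_mul, hxa]
    obtain ⟨y, hyN, hy⟩ := hlift _ (hspan _ hr)
    have hd : x - y ∈ (localIdeal M) • P := by
      apply mem_smul_of_piR_eq_zero
      · rw [mul_sub, hxa, hNa y hyN]
      · rw [map_sub, hy, sub_self]
    have : x = y + (x - y) := by abel
    change x ∈ _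
    rw [this]
    exact Submodule.add_mem_sup hyN hd
  -- passing to `ℂ`
  let W : Submodule ℂ (MonoidAlgebra ℂ G) :=
    Submodule.span ℂ (Set.range fun ij => blockElt {χ} * iota G M (u ij))
  have hW : ∀ y ∈ N, blockElt {χ} * iota G M y ∈ W := by
    intro y hy
    induction hy using Submodule.span_induction with
    | mem x hx =>
      obtain ⟨zh, hzhc, ij, rfl⟩ := hx
      rw [map_mul, ← mul_assoc, blockElt_singleton_mul hzhc, smul_mul_assoc]
      exact Submodule.smul_mem _ _ (Submodule.subset_span ⟨ij, rfl⟩)
    | zero => simp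
    | add x y _ _ hx hy =>
      rw [map_add, mul_add]
      exact W.add_mem hx hy
    | smul c x _ hx =>
      rw [iota_smul, mul_smul_comm]
      exact W.smul_mem _ hx
  have hle : Submodule.span ℂ (Set.range (fun g : G => blockElt ({χ} : Set (IrrCharacter G)) *
      MonoidAlgebra.single g (1 : ℂ))) ≤ W := by
    apply Submodule.span_le.2
    rintro _ ⟨g, rfl⟩
    have h1 := hW _ (hnak (Submodule.subset_span ⟨g, rfl⟩ : a * MonoidAlgebra.single g (1 : localRing M) ∈ P))
    rw [map_mul, ha, iota_single, ← mul_assoc, blockElt_mul,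
      Set.inter_eq_left.2 (Set.singleton_subset_iff.2 hχ)] at h1
    exact h1
  have h1 := Submodule.finrank_mono hle
  rw [finrank_span_blockElt] at h1
  have h2 : finrank ℂ W ≤ n * n := by
    refine (finrank_range_le_card _).trans ?_
    simp
  have h3 : ∀ inst : DecidablePred (· ∈ ({χ} : Set (IrrCharacter G))),
      (@Finset.filter _ (· ∈ ({χ} : Set (IrrCharacter G))) inst Finset.univ) = {χ} := by
    intro inst
    ext x
    simp
  rw [h3, Finset.sum_singleton] at h1
  exact h1.trans h2

open Classical in
/-- **All characters of a block with `l(B) = 1` and `k(B) ≤ 4` have the same degree.** -/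
theorem exists_degree_eq_of_rank_one (hMp : IsPModular p M) (hB : IsPBlock M B) (hl : blockRank p B = 1)
    (hk : (Finset.univ.filter (· ∈ B)).card ≤ 4) : ∃ n : ℕ, ∀ χ ∈ B, charDegree (χ : G → ℂ) = n := by
  have hBc : blockElt B ∈ localCenter G M := blockElt_mem_localCenter hB
  let a : MonoidAlgebra (localRing M) G := lcL (blockElt B) hBc
  have ha : iota G M a = blockElt B := iota_lcL _ _
  haveI : IsAlgClosed kk := isAlgClosed_residue
  set Zs := Submodule.span kk (Set.range fun K : ConjClasses G => piR G M a * piR G M (csL K.out)) with hZs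
  have hZs4 : finrank kk Zs ≤ 4 := (finrank_span_mul_csL_le B a ha).trans hk
  have hkZ : (Finset.univ.filter (· ∈ B)).card ≤ finrank kk Zs := card_le_finrank_span_mul_csL ha
  have hZ : ∀ x, piR G M a * x = x → (∀ y, x * y = y * x) → x ∈ Zs := by
    intro x hx hxc
    rw [← hx, eq_sum_piR_csL hxc, Finset.mul_sum]
    refine Submodule.sum_mem _ fun K _ => ?_
    rw [mul_smul_comm]
    exact Submodule.smul_mem _ _ (Submodule.subset_span ⟨K, rfl⟩)
  have hZ' : ∀ x ∈ Zs, piR G M a * x = x ∧ ∀ y, x * y = y * x := by
    intro x hx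
    induction hx using Submodule.span_induction with
    | mem x hx =>
      obtain ⟨K, rfl⟩ := hx
      refine ⟨by rw [← mul_assoc, piR_mul_self ha], fun y => ?_⟩
      have hcl : IsClassFunction G (iota G M (csL (M := M) K.out)).coeff := by
        rw [iota_csL]
        exact isClassFunction_classSum _
      rw [mul_assoc, piR_central hcl y, ← mul_assoc, piR_comm ha, mul_assoc]
    | zero => simp
    | add x y _ _ hx hy =>
      refine ⟨by rw [mul_add, hx.1, hy.1], fun z => ?_⟩
      rw [add_mul, mul_add, hx.2, hy.2]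
    | smul c x _ hx =>
      refine ⟨by rw [mul_smul_comm, hx.1], fun z => ?_⟩
      rw [smul_mul_assoc, mul_smul_comm, hx.2]
  have hne : (Finset.univ.filter (· ∈ B)).Nonempty := by
    obtain ⟨χ₀, rfl⟩ := hB
    exact ⟨χ₀, Finset.mem_filter.2 ⟨Finset.mem_univ _, mem_blockOf_self χ₀⟩⟩
  have he0 : piR G M a ≠ 0 := by
    intro h0
    have h1 : Zs = ⊥ := by
      rw [hZs, h0]
      simp
    rw [h1, finrank_bot] at hkZ
    have := Finset.card_pos.2 hne
    omega
  obtain ⟨n, A, hn, hAe, hspan, hdim⟩ := exists_structure4_cut (piR G M a) (piR_mul_self ha) (piR_comm ha) he0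
    (tr1 _) (tr1_comm _) (tr1_nondeg _) Zs hZs4 hZ hZ' (fun m d φ hd hφ he => by
      have := card_le_blockRank hMp ha φ hd hφ he
      omega)
  have hle : ∀ χ ∈ B, (charDegree (χ : G → ℂ)) ^ 2 ≤ n * n := fun χ hχ => degree_sq_le' ha hAe hspan hχ
  have hcut := finrank_cut_le ha
  refine ⟨n, fun χ hχ => ?_⟩
  by_contra hnej
  have hlt : (charDegree (χ : G → ℂ)) ^ 2 < n * n := by
    refine lt_of_le_of_ne (hle χ hχ) ?_
    intro h
    apply hnej
    have : (charDegree (χ : G → ℂ)) ^ 2 = n ^ 2 := by rw [h, sq]
    exact (Nat.pow_left_injective (n := 2) (by norm_num)) this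
  have hsum : ∑ χ ∈ Finset.univ.filter (· ∈ B), (charDegree (χ : G → ℂ)) ^ 2 <
      ∑ _χ ∈ Finset.univ.filter (· ∈ B), n * n := by
    apply Finset.sum_lt_sum
    · intro ψ hψ
      exact hle ψ (Finset.mem_filter.1 hψ).2
    · exact ⟨χ, Finset.mem_filter.2 ⟨Finset.mem_univ _, hχ⟩, hlt⟩
  rw [Finset.sum_const, smul_eq_mul] at hsum
  have h5 : n * n * (Finset.univ.filter (· ∈ B)).card ≤ n * n * finrank kk Zs := Nat.mul_le_mul_left _ hkZ
  nlinarith

end Reynolds

end Cfsg.Agent.Lib.Blocks.SymCom
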