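import Mathlib
import Cfsg.Agent.Lib.Blocks.RepFin3
import Cfsg.Agent.Lib.Blocks.SymCom3
import Cfsg.Agent.Lib.Blocks.PiKer
import Cfsg.Agent.Lib.Blocks.BlockHom

/-!
# Blocks with one Brauer character and cyclic defect group

`exists_degree_eq_of_cyclic`: if `l(B) = 1` and the defect group is cyclic, all characters in `B` have the same degree:
the block factor of the group algebra over the residue field is a full matrix algebra over a commutative ring.
-/

set_option autoImplicit false
set_option linter.unusedSectionVars false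
set_option linter.style.haveILetI false

namespace Cfsg.Agent.Lib.Blocks.RepFin

open Module Cfsg Cfsg.Agent.Lib.Blocks.Local Cfsg.Agent.Lib.Blocks.Central Cfsg.Agent.Lib.Blocks.Osima
open Cfsg.Agent.Lib.Blocks.ModRank Cfsg.Agent.Lib.Blocks.BlockHom Cfsg.Agent.Lib.Blocks.SymLocal
open Cfsg.Agent.Lib.Blocks.ModBlock Cfsg.Agent.Lib.Blocks.SymCom
open scoped ComplexConjugate Cfsg.Agent.Lib.Blocks.Central

universe u

variable {G : Type u} [Group G] [Fintype G]

variable {M : Ideal AlgInt} [hM : M.IsPrime] {p : ℕ} [hp : Fact p.Prime]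
variable {B : Set (IrrCharacter G)} {a : MonoidAlgebra (localRing M) G}

local notation "kk" => (localRing M ⧸ localIdeal M)

/-- The group elements span the group algebra. -/
lemma span_range_of (R : Type*) [Field R] :
    Submodule.span R (Set.range (MonoidAlgebra.of R G)) = ⊤ := by
  rw [eq_top_iff]
  intro x _
  rw [eq_sum_single_smul R x]
  refine Submodule.sum_mem _ fun g _ => Submodule.smul_mem _ _ (Submodule.subset_span ⟨g, rfl⟩)

/-- The value of the central character on the transfer. -/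
lemma omega_transferW {χ : G → ℂ} (hχ : IsClassFunction G χ) (D : Subgroup G) [Fintype (G ⧸ D)] (g₀ : G) :
    omega χ (transferW D (MonoidAlgebra.of ℂ G) (MonoidAlgebra.of ℂ G) g₀) = (D.index : ℂ) * χ g₀ / χ 1 := by
  unfold transferW
  rw [omega_sum]
  have h : ∀ q : G ⧸ D, omega χ (MonoidAlgebra.of ℂ G (q.out * g₀) * MonoidAlgebra.of ℂ G (q.out)⁻¹) = χ g₀ / χ 1 := by
    intro q
    rw [← map_mul, MonoidAlgebra.of_apply, Cfsg.Agent.Lib.Blocks.PiKer.omega_single, hχ]
  rw [Finset.sum_congr rfl (fun q _ => h q), Finset.sum_const, Finset.card_univ, ← Nat.card_eq_fintype_card,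
    ← Subgroup.index_eq_card, nsmul_eq_mul]
  ring

/-- The transfer of a defect class does not act nilpotently on the block. -/
theorem not_isNilpotent_transfer (hB : IsPBlock M B) (ha : iota G M a = blockElt B) {g₀ : G}
    (hg₀ : IsDefectClass M B g₀) {D : Subgroup G} (hDC : D ≤ Subgroup.centralizer ({g₀} : Set G))
    (hrel : ¬ MemLocalIdeal M ((D.relIndex (Subgroup.centralizer ({g₀} : Set G)) : ℕ) : ℂ)) [Fintype (G ⧸ D)] :
    ¬ IsNilpotent (piR G M a * transferW D (MonoidAlgebra.of kk G) (MonoidAlgebra.of kk G) g₀) := by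
  classical
  rintro ⟨s, hs⟩
  obtain ⟨χ, hχ⟩ := Cfsg.Agent.Lib.Blocks.HeightZero.nonempty_of_isPBlock hB
  set zt := transferW D (MonoidAlgebra.of (localRing M) G) (MonoidAlgebra.of (localRing M) G) g₀ with hzt
  have hpi : piR G M zt = transferW D (MonoidAlgebra.of kk G) (MonoidAlgebra.of kk G) g₀ := by
    rw [hzt]
    unfold transferW
    rw [map_sum]
    refine Finset.sum_congr rfl fun q _ => ?_
    rw [map_mul]
    simp only [MonoidAlgebra.of_apply, piR_single]
  set b := transferW D (MonoidAlgebra.of ℂ G) (MonoidAlgebra.of ℂ G) g₀ with hb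
  have hio : iota G M zt = b := by
    rw [hzt, hb]
    unfold transferW
    rw [map_sum]
    refine Finset.sum_congr rfl fun q _ => ?_
    rw [map_mul]
    simp only [MonoidAlgebra.of_apply, iota_single]
  have hg₀D : ∀ d ∈ D, d * g₀ = g₀ * d := fun d hd => Subgroup.mem_centralizer_singleton_iff.mp (hDC hd)
  have hbcl : IsClassFunction G b.coeff := by
    refine isClassFunction_of_commute fun c => ?_
    rw [eq_sum_single_smul ℂ c, Finset.mul_sum, Finset.sum_mul]
    refine Finset.sum_congr rfl fun g _ => ?_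
    rw [mul_smul_comm, smul_mul_assoc]
    congr 1
    exact (transferW_comm D (MonoidAlgebra.of ℂ G) (MonoidAlgebra.of ℂ G) (fun _ _ => rfl) hg₀D g).symm
  have hBcl : IsClassFunction G (blockElt B).coeff := isClassFunction_blockElt B
  have hmulcl : IsClassFunction G (blockElt B * b).coeff := isClassFunction_mul hBcl hbcl
  have hpowcl : ∀ n : ℕ, IsClassFunction G ((blockElt B * b) ^ n).coeff ∧
      omega (χ : G → ℂ) ((blockElt B * b) ^ n) = (omega (χ : G → ℂ) b) ^ n := by
    intro n
    induction n with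
    | zero => exact ⟨by simpa using isClassFunction_one, by simpa using omega_one χ.2⟩
    | succ n ih =>
      refine ⟨by rw [pow_succ]; exact isClassFunction_mul ih.1 hmulcl, ?_⟩
      rw [pow_succ, omega_mul χ.2 ih.1, ih.2, omega_mul χ.2 hBcl, omega_blockElt_of_mem hχ, one_mul, pow_succ]
  have h1 : piR G M ((a * zt) ^ s) = 0 := by
    rw [map_pow, map_mul, hpi]
    exact hs
  have h2 := (piR_eq_zero_iff _).mp h1
  have hxe : iota G M ((a * zt) ^ s) = (blockElt B * b) ^ s := by
    rw [map_pow, map_mul, ha, hio]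
  have h3 : MemLocalIdeal M (omega (χ : G → ℂ) ((blockElt B * b) ^ s)) := by
    refine memLocalIdeal_omega_of_coeff χ.2 (hpowcl s).1 fun g => ?_
    rw [← hxe, coeff_iota]
    exact h2 g
  rw [(hpowcl s).2] at h3
  have hχc := isClassFunction_of_irr χ.2
  have h4 : omega (χ : G → ℂ) b =
      ((D.relIndex (Subgroup.centralizer ({g₀} : Set G)) : ℕ) : ℂ) * centralChar (χ : G → ℂ) g₀ := by
    rw [hb, omega_transferW hχc, centralChar, ← Subgroup.relIndex_mul_index hDC]
    push_cast
    ring
  have hloc : MemLocalRing M (omega (χ : G → ℂ) b) := by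
    rw [h4]
    exact memLocalRing_mul (memLocalRing_natCast _) (memLocalRing_centralChar χ.2 _)
  have h5 : ¬ MemLocalIdeal M (omega (χ : G → ℂ) b) := by
    rw [h4]
    exact not_memLocalIdeal_mul (memLocalRing_natCast _) (memLocalRing_centralChar χ.2 _) hrel (hg₀.2.2 χ hχ)
  have h6 : ∀ n : ℕ, ¬ MemLocalIdeal M ((omega (χ : G → ℂ) b) ^ n) := by
    intro n
    induction n with
    | zero => simpa using not_memLocalIdeal_one
    | succ n ih =>
      rw [pow_succ]
      exact not_memLocalIdeal_mul (memLocalRing_pow hloc n) hloc ih h5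
  exact h6 s h3

open Classical in
/-- **All characters of a block with `l(B) = 1` and cyclic defect group have the same degree.** -/
theorem exists_degree_eq_of_cyclic (hMp : IsPModular p M) (hB : IsPBlock M B) (hl : blockRank p B = 1)
    {D : Subgroup G} (hD : IsDefectGroup p M B D) (hcyc : IsCyclic D) :
    ∃ n : ℕ, ∀ χ ∈ B, charDegree (χ : G → ℂ) = n := by
  obtain ⟨g₀, hg₀, S, hS⟩ := id hD
  have hDC : D ≤ Subgroup.centralizer ({g₀} : Set G) := by
    rw [hS]
    rintro _ ⟨s, _, rfl⟩
    exact s.2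
  have hDp : IsPGroup p D := by
    rw [hS]
    exact Cfsg.Agent.Lib.Blocks.Defect.isPGroup_sylow_map S
  obtain ⟨y₀, hy₀⟩ := IsCyclic.exists_generator (α := D)
  have hDy : ∀ d ∈ D, ∃ l : ℕ, (y₀ : G) ^ l = d := by
    intro d hd
    have h1 : (⟨d, hd⟩ : D) ∈ Submonoid.powers y₀ := mem_powers_iff_mem_zpowers.mpr (hy₀ _)
    obtain ⟨l, hl'⟩ := h1
    exact ⟨l, by simpa using congrArg Subtype.val hl'⟩
  obtain ⟨m, hm⟩ := IsPGroup.iff_orderOf.mp hDp y₀
  have hy : (y₀ : G) ^ p ^ m = 1 := by
    have h1 : y₀ ^ p ^ m = 1 := by rw [← hm, pow_orderOf_eq_one]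
    simpa using congrArg Subtype.val h1
  have hg₀y : (y₀ : G) * g₀ = g₀ * y₀ := Subgroup.mem_centralizer_singleton_iff.mp (hDC y₀.2)
  have hrel : ¬ MemLocalIdeal M ((D.relIndex (Subgroup.centralizer ({g₀} : Set G)) : ℕ) : ℂ) := by
    rw [memLocalIdeal_natCast_iff hMp]
    have h1 : D.subgroupOf (Subgroup.centralizer ({g₀} : Set G)) = S := by
      rw [hS, Subgroup.subgroupOf, Subgroup.comap_map_eq_self_of_injective (Subgroup.subtype_injective _)]
    rw [Subgroup.relIndex, h1]
    exact S.not_dvd_index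
  letI : Fintype (G ⧸ D) := Fintype.ofFinite _
  have hBc : blockElt B ∈ localCenter G M := blockElt_mem_localCenter hB
  let a : MonoidAlgebra (localRing M) G := lcL (blockElt B) hBc
  have ha : iota G M a = blockElt B := iota_lcL _ _
  haveI : IsAlgClosed kk := isAlgClosed_residue
  haveI hchar : CharP kk p := charP_residue hMp
  have hpk : ((p : ℕ) : kk) = 0 := CharP.cast_eq_zero kk p
  set Zs := Submodule.span kk (Set.range fun K : ConjClasses G => piR G M a * piR G M (csL K.out)) with hZs
  have hkZ : (Finset.univ.filter (· ∈ B)).card ≤ finrank kk Zs := card_le_finrank_span_mul_csL ha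
  have hZ : ∀ x, piR G M a * x = x → (∀ y, x * y = y * x) → x ∈ Zs := by
    intro x hx hxc
    rw [← hx, eq_sum_piR_csL hxc, Finset.mul_sum]
    refine Submodule.sum_mem _ fun K _ => ?_
    rw [mul_smul_comm]
    exact Submodule.smul_mem _ _ (Submodule.subset_span ⟨K, rfl⟩)
  have hZ' : ∀ x ∈ Zs, piR G M a * x = x ∧ ∀ y, x * y = y * x := by
    intro x hx
    induction hx using Submodule.span_induction with
    | mem x hx =>
      obtain ⟨K, rfl⟩ := hx
      refine ⟨by rw [← mul_assoc, piR_mul_self ha], fun y => ?_⟩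
      have hcl : IsClassFunction G (iota G M (csL (M := M) K.out)).coeff := by
        rw [iota_csL]
        exact isClassFunction_classSum _
      rw [mul_assoc, piR_central hcl y, ← mul_assoc, piR_comm ha, mul_assoc]
    | zero => simp
    | add x y _ _ hx hy =>
      refine ⟨by rw [mul_add, hx.1, hy.1], fun z => ?_⟩
      rw [add_mul, mul_add, hx.2, hy.2]
    | smul c x _ hx =>
      refine ⟨by rw [mul_smul_comm, hx.1], fun z => ?_⟩
      rw [smul_mul_assoc, mul_smul_comm, hx.2]
  have hne : (Finset.univ.filter (· ∈ B)).Nonempty := by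
    obtain ⟨χ₀, rfl⟩ := hB
    exact ⟨χ₀, Finset.mem_filter.2 ⟨Finset.mem_univ _, mem_blockOf_self χ₀⟩⟩
  have he0 : piR G M a ≠ 0 := by
    intro h0
    have h1 : Zs = ⊥ := by
      rw [hZs, h0]
      simp
    rw [h1, finrank_bot] at hkZ
    have := Finset.card_pos.2 hne
    omega
  obtain ⟨n, A, hn, hAe, hspan, hdim⟩ := exists_structure_cut_cyc (piR G M a) (piR_mul_self ha) (piR_comm ha) he0
    (tr1 _) (tr1_comm _) (tr1_nondeg _) Zs hZ hZ' (fun m d φ hd hφ he => by
      have := card_le_blockRank hMp ha φ hd hφ he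
      omega) hpk (MonoidAlgebra.of kk G) (span_range_of kk) hy hg₀y hDy
    (not_isNilpotent_transfer hB ha hg₀ hDC hrel)
  have hle : ∀ χ ∈ B, (charDegree (χ : G → ℂ)) ^ 2 ≤ n * n := fun χ hχ => degree_sq_le' ha hAe hspan hχ
  have hcut := finrank_cut_le ha
  refine ⟨n, fun χ hχ => ?_⟩
  by_contra hnej
  have hlt : (charDegree (χ : G → ℂ)) ^ 2 < n * n := by
    refine lt_of_le_of_ne (hle χ hχ) ?_
    intro h
    apply hnej
    have : (charDegree (χ : G → ℂ)) ^ 2 = n ^ 2 := by rw [h, sq]
    exact (Nat.pow_left_injective (n := 2) (by norm_num)) this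
  have hsum : ∑ χ ∈ Finset.univ.filter (· ∈ B), (charDegree (χ : G → ℂ)) ^ 2 <
      ∑ _χ ∈ Finset.univ.filter (· ∈ B), n * n := by
    apply Finset.sum_lt_sum
    · intro ψ hψ
      exact hle ψ (Finset.mem_filter.1 hψ).2
    · exact ⟨χ, Finset.mem_filter.2 ⟨Finset.mem_univ _, hχ⟩, hlt⟩
  rw [Finset.sum_const, smul_eq_mul] at hsum
  have h5 : n * n * (Finset.univ.filter (· ∈ B)).card ≤ n * n * finrank kk Zs := Nat.mul_le_mul_left _ hkZ
  nlinarith

end Cfsg.Agent.Lib.Blocks.RepFin
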