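/-
Brauer pairs: the fusion system of a block exists and is saturated.
-/
import Mathlib
import Cfsg.Agent.Lib.Blocks.Pairs19
import Cfsg.Agent.Lib.Fusion.Basic

set_option autoImplicit false

namespace Cfsg.Agent.Lib.Blocks.Pairs

open Cfsg Cfsg.Agent.Lib.Blocks.Local Cfsg.Agent.Lib.Blocks.Central Cfsg.Agent.Lib.Blocks.Osima
open Cfsg.Agent.Lib.Blocks.Covering Cfsg.Agent.Lib.Blocks.BrauerMap Cfsg.Agent.Lib.Blocks.Transport
open Cfsg.Agent.Lib.Blocks.BlockHom Cfsg.Agent.Lib.Blocks.Twisted Cfsg.Agent.Lib.Blocks.Dominate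
open Cfsg.FusionSystem (extender)

universe u

section BlockSystem

variable {G : Type u} [Group G] [Fintype G] {M : Ideal AlgInt} [hM : M.IsPrime] {p : ℕ} [Fact p.Prime]

/-- The converse of `transport_pair`. -/
lemma transport_pair_rev {Q Y : Subgroup G} (x : G) (hY : Q.map (MulAut.conj x).toMonoidHom = Y)
    (f : Set (IrrCharacter (Subgroup.centralizer (Q : Set G))))
    (S : ∀ A : Subgroup G, Set (IrrCharacter (Subgroup.centralizer (A : Set G))) → Prop)
    (h : S Y (conjB x (map_conj_centralizer_gen x hY) f)) :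
    S (Q.map (MulAut.conj x).toMonoidHom) (conjBlock Q x f) := by
  subst hY
  rwa [conjBlock_eq_conjB]

/-- Conjugating twice is conjugating by the product. -/
lemma transport_mul (k g : G) (Q : Subgroup G) (f : Set (IrrCharacter (Subgroup.centralizer (Q : Set G))))
    (S : ∀ A : Subgroup G, Set (IrrCharacter (Subgroup.centralizer (A : Set G))) → Prop) :
    S (Q.map (MulAut.conj (k * g)).toMonoidHom) (conjBlock Q (k * g) f) ↔
      S ((Q.map (MulAut.conj g).toMonoidHom).map (MulAut.conj k).toMonoidHom)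
        (conjBlock (Q.map (MulAut.conj g).toMonoidHom) k (conjBlock Q g f)) := by
  have hb : conjB (k * g) (map_conj_centralizer_gen (k * g) (map_conj_mul k g Q)) f =
      conjBlock (Q.map (MulAut.conj g).toMonoidHom) k (conjBlock Q g f) := by
    rw [conjBlock_eq_conjB, conjBlock_eq_conjB]
    exact conjB_mul _ _ _ f
  constructor
  · intro h
    have := transport_pair (k * g) (map_conj_mul k g Q) f S h
    rwa [hb] at this
  · intro h
    rw [← hb] at h
    exact transport_pair_rev (k * g) (map_conj_mul k g Q) f S h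

/-- Conjugation by `1`. -/
lemma transport_one (Q : Subgroup G) (f : Set (IrrCharacter (Subgroup.centralizer (Q : Set G))))
    (S : ∀ A : Subgroup G, Set (IrrCharacter (Subgroup.centralizer (A : Set G))) → Prop) (h : S Q f) :
    S (Q.map (MulAut.conj (1 : G)).toMonoidHom) (conjBlock Q 1 f) := by
  have hY : Q.map (MulAut.conj (1 : G)).toMonoidHom = Q :=
    map_conj_of_mem_normalizer (Subgroup.one_mem _)
  apply transport_pair_rev 1 hY f S
  rw [conjB_of_mem (Subgroup.one_mem _)]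
  exact h

/-- An element of `P` preserves being below `(P, e)`. -/
lemma subpairLE_conj_of_mem {P Q : Subgroup G} {e : Set (IrrCharacter (Subgroup.centralizer (P : Set G)))}
    {f : Set (IrrCharacter (Subgroup.centralizer (Q : Set G)))} {g : G} (hg : g ∈ P)
    (h : SubpairLE p M Q f P e) :
    SubpairLE p M (Q.map (MulAut.conj g).toMonoidHom) (conjBlock Q g f) P e := by
  have hPg : P.map (MulAut.conj g).toMonoidHom = P := map_conj_of_mem_normalizer (Subgroup.le_normalizer hg)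
  have h1 := subpairLE_conj_gen g rfl hPg (map_conj_centralizer Q g) (map_conj_centralizer_gen g hPg) h
  have he : conjB g (map_conj_centralizer_gen g hPg) e = e := by
    obtain ⟨h7, h6⟩ := stabilizesBlock_iff.mp (stabilizesBlock_of_mem_self hg e)
    exact h6
  rwa [he, ← conjBlock_eq_conjB] at h1

/-- Composition of maps of the block fusion system. -/
lemma subpairLE_comp (hMp : IsPModular p M) {P Q R : Subgroup G}
    {e : Set (IrrCharacter (Subgroup.centralizer (P : Set G)))}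
    {f : Set (IrrCharacter (Subgroup.centralizer (Q : Set G)))}
    {f' : Set (IrrCharacter (Subgroup.centralizer (R : Set G)))} (hPe : IsBrauerPair p M P e) (g k : G)
    (h2 : SubpairLE p M (Q.map (MulAut.conj g).toMonoidHom) (conjBlock Q g f) P e)
    (h3 : SubpairLE p M R f' P e)
    (h4 : SubpairLE p M (R.map (MulAut.conj k).toMonoidHom) (conjBlock R k f') P e)
    (hle : Q.map (MulAut.conj g).toMonoidHom ≤ R) :
    SubpairLE p M (Q.map (MulAut.conj (k * g)).toMonoidHom) (conjBlock Q (k * g) f) P e := by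
  have h5 := subpairLE_of_le hMp hPe h2 h3 hle
  have h6 := (subpairLE_conj k h5).trans h4
  exact (transport_mul k g Q f (fun A a => SubpairLE p M A a P e)).mpr h6

/-- Inverses of maps of the block fusion system. -/
lemma subpairLE_inv {P Q R : Subgroup G} {e : Set (IrrCharacter (Subgroup.centralizer (P : Set G)))}
    {f : Set (IrrCharacter (Subgroup.centralizer (Q : Set G)))} (g : G)
    (hR : Q.map (MulAut.conj g).toMonoidHom = R) (h1 : SubpairLE p M Q f P e)
    (h2 : SubpairLE p M (Q.map (MulAut.conj g).toMonoidHom) (conjBlock Q g f) P e) :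
    ∃ f_R : Set (IrrCharacter (Subgroup.centralizer (R : Set G))), SubpairLE p M R f_R P e ∧
      SubpairLE p M (R.map (MulAut.conj g⁻¹).toMonoidHom) (conjBlock R g⁻¹ f_R) P e := by
  subst hR
  refine ⟨conjBlock Q g f, h2, ?_⟩
  refine (transport_mul g⁻¹ g Q f (fun A a => SubpairLE p M A a P e)).mp ?_
  rw [inv_mul_cancel]
  exact transport_one Q f (fun A a => SubpairLE p M A a P e) h1

/-- The fusion system of a block. -/
noncomputable def blockFusionSystem (hMp : IsPModular p M) {P : Subgroup G}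
    {e : Set (IrrCharacter (Subgroup.centralizer (P : Set G)))} (hPe : IsBrauerPair p M P e) :
    FusionSystem P where
  Hom Q := {φ | Q ≤ P ∧ ∃ g : G, (∀ u : Q, φ u = g * (u : G) * g⁻¹) ∧
        Q.map (MulAut.conj g).toMonoidHom ≤ P ∧
        ∃ f : Set (IrrCharacter (Subgroup.centralizer (Q : Set G))),
          SubpairLE p M Q f P e ∧
            SubpairLE p M (Q.map (MulAut.conj g).toMonoidHom) (conjBlock Q g f) P e}
  le_of_mem := by
    rintro Q φ ⟨hQ, g, hg, hP, -⟩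
    refine ⟨hQ, fun x => ?_⟩
    rw [hg]
    exact hP ⟨x, x.2, rfl⟩
  injective_of_mem := by
    rintro Q φ ⟨-, g, hg, -⟩ a b hab
    have h : g * (a : G) * g⁻¹ = g * (b : G) * g⁻¹ := ((hg a).symm.trans hab).trans (hg b)
    exact Subtype.ext (mul_left_cancel (mul_right_cancel h))
  conj_mem := by
    intro Q g hQ hg
    obtain ⟨f, -, hf⟩ := exists_subpairLE hMp hPe hQ
    have h1 := subpairLE_conj_of_mem hg hf
    exact ⟨hQ, g, fun _ => rfl, SubpairLE.le h1, f, hf, h1⟩
  comp_mem := by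
    rintro Q R φ ψ ⟨hQ, g, hg, hgP, f, hf, hf'⟩ ⟨hR, k, hk, hkP, f₁, hf₁, hf₁'⟩ h
    have hle : Q.map (MulAut.conj g).toMonoidHom ≤ R := by
      rintro _ ⟨x, hx, rfl⟩
      have := h ⟨x, hx⟩
      rw [hg] at this
      exact this
    have h1 := subpairLE_comp hMp hPe g k hf' hf₁ hf₁' hle
    refine ⟨hQ, k * g, fun x => ?_, SubpairLE.le h1, f, hf, h1⟩
    show ψ (φ.codRestrict R h x) = k * g * (x : G) * (k * g)⁻¹
    rw [hk]
    show k * φ x * k⁻¹ = _
    rw [hg, mul_inv_rev]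
    simp only [mul_assoc]
  inv_mem := by
    rintro Q φ ⟨hQ, g, hg, hgP, f, hf, hf'⟩
    have hr : Q.map (MulAut.conj g).toMonoidHom = φ.range := by
      ext y
      constructor
      · rintro ⟨x, hx, rfl⟩
        exact ⟨⟨x, hx⟩, hg _⟩
      · rintro ⟨x, rfl⟩
        exact ⟨x, x.2, (hg x).symm⟩
    obtain ⟨f_R, h1, h2⟩ := subpairLE_inv g hr hf hf'
    refine ⟨conjHom φ.range g⁻¹, ⟨?_, g⁻¹, fun y => rfl, SubpairLE.le h2, f_R, h1, h2⟩, ?_⟩
    · rw [← hr]
      exact hgP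
    · intro x
      show g⁻¹ * φ x * g⁻¹⁻¹ = x
      rw [hg, inv_inv]
      group

/-- Conjugate pair below `(P, e)` with the same subgroup: the element stabilizes the pair. -/
lemma stabilizes_of_subpairLE (hMp : IsPModular p M) {P Q : Subgroup G}
    {e : Set (IrrCharacter (Subgroup.centralizer (P : Set G)))}
    {f : Set (IrrCharacter (Subgroup.centralizer (Q : Set G)))} (hPe : IsBrauerPair p M P e) {g : G}
    (hgN : g ∈ Subgroup.normalizer (Q : Set G)) (hle : SubpairLE p M Q f P e)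
    (hle' : SubpairLE p M (Q.map (MulAut.conj g).toMonoidHom) (conjBlock Q g f) P e) :
    StabilizesBlock (Subgroup.centralizer (Q : Set G)) f g := by
  have hQg : Q.map (MulAut.conj g).toMonoidHom = Q := map_conj_of_mem_normalizer hgN
  have h1 := transport_pair g hQg f (fun A a => SubpairLE p M A a P e) hle'
  have h2 := eq_of_subpairLE hMp hPe h1 hle
  exact stabilizesBlock_iff.mpr ⟨normalizer_le_normalizer_centralizer Q hgN, h2⟩

variable {B : Set (IrrCharacter G)} {P : Subgroup G}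
  {e : Set (IrrCharacter (Subgroup.centralizer (P : Set G)))} {F : FusionSystem P}

/-- A fully normalized pair is receptive. -/
theorem isReceptive_of_FN (hMp : IsPModular p M) (hF : IsBlockFusionSystemOn p M B P e F) {Q₁ : Subgroup G}
    {f₁ : Set (IrrCharacter (Subgroup.centralizer (Q₁ : Set G)))} (hle₁ : SubpairLE p M Q₁ f₁ P e)
    (hFN : FN p M P Q₁ f₁) : F.IsReceptive Q₁ := by
  classical
  have hPe := hF.1.1.1
  refine ⟨SubpairLE.le hle₁, ?_⟩
  intro R φ hφ hr
  obtain ⟨hRP, g, hg, hgP, f, hf, hf'⟩ := (hF.2 R φ).1 hφ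
  have hRg : R.map (MulAut.conj g).toMonoidHom = Q₁ := by
    rw [← hr]
    ext y
    constructor
    · rintro ⟨x, hx, rfl⟩
      exact ⟨⟨x, hx⟩, hg _⟩
    · rintro ⟨x, rfl⟩
      exact ⟨x, x.2, (hg x).symm⟩
  subst hRg
  have hff := eq_of_subpairLE hMp hPe hle₁ hf'
  subst hff
  have hvP : ∀ x : R, φ x ∈ P := (F.le_of_mem hφ).2
  have hEP : extender P R φ ≤ P := Cfsg.Agent.Lib.Fusion.Basic.extender_le_normalizerIn.trans inf_le_left
  have hEN : extender P R φ ≤ Subgroup.normalizer (R : Set G) :=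
    Cfsg.Agent.Lib.Fusion.Basic.extender_le_normalizerIn.trans inf_le_right
  obtain ⟨hE, -, hleE⟩ := exists_subpairLE hMp hPe hEP
  have hRE : R ≤ extender P R φ := Cfsg.Agent.Lib.Fusion.Basic.le_extender hRP hvP
  have hleRE := subpairLE_of_le hMp hPe hf hleE hRE
  have hn := isNormalSubpair_of_subpairLE hMp (isBrauerPair_of_subpairLE hPe hleE) hleRE hEN
  have hcov : ∀ u ∈ extender P R φ, ∃ d ∈ P ⊓ Subgroup.normalizer ((R.map (MulAut.conj g).toMonoidHom : Subgroup G) : Set G),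
      ∃ c ∈ Subgroup.centralizer ((R.map (MulAut.conj g).toMonoidHom : Subgroup G) : Set G), g * u * g⁻¹ = d * c := by
    intro u hu
    obtain ⟨h, hh, hhx⟩ := Cfsg.Agent.Lib.Fusion.Basic.exists_of_mem_extender hu
    have hguN := (stab_conj g (hEN hu) (hn.2.2.2.2.1 u hu)).1
    have hc : h⁻¹ * (g * u * g⁻¹) ∈ Subgroup.centralizer ((R.map (MulAut.conj g).toMonoidHom : Subgroup G) : Set G) := by
      rw [Subgroup.mem_centralizer_iff]
      rintro _ ⟨x, hx, rfl⟩
      obtain ⟨hxR, hx2⟩ := hhx ⟨x, hx⟩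
      rw [hg, hg] at hx2
      have hx3 : g * (u * x * u⁻¹) * g⁻¹ = h * (g * x * g⁻¹) * h⁻¹ := by
        rw [← hx2]
      show g * x * g⁻¹ * (h⁻¹ * (g * u * g⁻¹)) = h⁻¹ * (g * u * g⁻¹) * (g * x * g⁻¹)
      have hx4 : h⁻¹ * (g * u * g⁻¹) * (g * x * g⁻¹) = h⁻¹ * (g * (u * x * u⁻¹) * g⁻¹) * (g * u * g⁻¹) := by group
      rw [hx4, hx3]
      group
    refine ⟨h, ⟨hh, ?_⟩, _, hc, by group⟩
    have hcN := Cfsg.Agent.Lib.Blocks.FirstMain.centralizer_le_normalizer' _ hc
    have h1 := Subgroup.mul_mem _ hguN (Subgroup.inv_mem _ hcN)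
    have h2 : g * u * g⁻¹ * (h⁻¹ * (g * u * g⁻¹))⁻¹ = h := by group
    rwa [h2] at h1
  obtain ⟨c, hc, hcg⟩ := exists_extension hMp hPe g hle₁ hFN hn hcov
  refine ⟨conjHom (extender P R φ) (c * g),
    (hF.2 _ _).2 ⟨hEP, c * g, fun _ => rfl, SubpairLE.le hcg, hE, hleE, hcg⟩, fun x hxP hxN => ?_⟩
  show c * g * x * (c * g)⁻¹ = φ ⟨x, hxP⟩
  rw [hg]
  have h1 : g * x * g⁻¹ ∈ R.map (MulAut.conj g).toMonoidHom := ⟨x, hxP, rfl⟩
  have h2 := Subgroup.mem_centralizer_iff.mp hc _ h1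
  show c * g * x * (c * g)⁻¹ = g * x * g⁻¹
  calc c * g * x * (c * g)⁻¹ = c * (g * x * g⁻¹) * c⁻¹ := by group
    _ = g * x * g⁻¹ := by rw [← h2]; group

/-- The action of the normalizer on `Q`. -/
noncomputable def normHom (Q : Subgroup G) : Subgroup.normalizer (Q : Set G) →* MulAut Q where
  toFun y := Cfsg.Agent.Lib.Fusion.Basic.normConj (y : G) y.2
  map_one' := by
    ext x
    simp
  map_mul' a b := by
    ext x
    show (a : G) * b * x * ((a : G) * b)⁻¹ = a * (b * x * (b : G)⁻¹) * (a : G)⁻¹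
    group

/-- A fully normalized pair is fully automized. -/
theorem isFullyAutomized_of_FN (hMp : IsPModular p M) (hF : IsBlockFusionSystemOn p M B P e F) {Q₁ : Subgroup G}
    {f₁ : Set (IrrCharacter (Subgroup.centralizer (Q₁ : Set G)))} (hle₁ : SubpairLE p M Q₁ f₁ P e)
    (hFN : FN p M P Q₁ f₁) : F.IsFullyAutomized p Q₁ := by
  classical
  have hPe := hF.1.1.1
  have hQP := SubpairLE.le hle₁
  have hQb := isBrauerPair_of_subpairLE hPe hle₁
  refine ⟨hQP, ?_⟩
  have hT : ∀ y : G, y ∈ Subgroup.normalizer (Q₁ : Set G) ⊓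
      blockStabilizer (Subgroup.centralizer (Q₁ : Set G)) f₁ ↔
      y ∈ Subgroup.normalizer (Q₁ : Set G) ∧ StabilizesBlock (Subgroup.centralizer (Q₁ : Set G)) f₁ y :=
    fun _ => Iff.rfl
  obtain ⟨F₁, hF₁, hF₁c, hF₁D⟩ := hFN _ hT
  obtain ⟨h1, h2, h3, h4, h5⟩ := stabilizer_facts hT
  haveI : Finite (MulAut Q₁) := Finite.of_injective (fun α : MulAut Q₁ => (α : Q₁ → Q₁)) DFunLike.coe_injective
  let π : ↥(Subgroup.normalizer (Q₁ : Set G) ⊓ blockStabilizer (Subgroup.centralizer (Q₁ : Set G)) f₁) →* MulAut Q₁ :=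
    (normHom Q₁).comp (Subgroup.inclusion h3)
  have hπ : ∀ (t : ↥(Subgroup.normalizer (Q₁ : Set G) ⊓ blockStabilizer (Subgroup.centralizer (Q₁ : Set G)) f₁)) (x : Q₁),
      ((π t x : Q₁) : G) = t * x * (t : G)⁻¹ := fun _ _ => rfl
  have hsurj : ∀ α ∈ F.autGroup Q₁, ∃ t, π t = α := by
    intro α hα
    have h6 := (Cfsg.Agent.Lib.Fusion.Basic.mem_autGroup_iff hQP).mp hα
    obtain ⟨g, hg, hg'⟩ := exists_of_mem_hom hMp hF hle₁ h6
    have hgN : g ∈ Subgroup.normalizer (Q₁ : Set G) :=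
      Cfsg.Agent.Lib.Fusion.Basic.mem_normalizer_of_aut (α := α) hg
    have hgs := stabilizes_of_subpairLE hMp hPe hgN hle₁ hg'
    refine ⟨⟨g, hgN, hgs⟩, ?_⟩
    ext x
    exact (hg x).symm
  have hA'le : autInducedBy P Q₁ ≤ F.autGroup Q₁ := Cfsg.Agent.Lib.Fusion.Basic.autInducedBy_le_autGroup hQP
  have hA'p := Cfsg.Agent.Lib.Fusion.Basic.isPGroup_autInducedBy hPe.1 Q₁
  have main : ∀ X' : Subgroup (MulAut Q₁), IsPGroup p X' → X' ≤ F.autGroup Q₁ → autInducedBy P Q₁ ≤ X' →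
      X' = autInducedBy P Q₁ := by
    intro X' hX'p hX'a hAX
    let Y := X'.comap π
    let K : Subgroup Y := (π.comp Y.subtype).ker
    have hq : IsPGroup p (Y ⧸ K) := by
      intro c
      obtain ⟨y, rfl⟩ := QuotientGroup.mk_surjective c
      obtain ⟨n, hn⟩ := hX'p ⟨π y, y.2⟩
      refine ⟨n, ?_⟩
      rw [← QuotientGroup.mk_pow, QuotientGroup.eq_one_iff, MonoidHom.mem_ker]
      have h6 := congrArg Subtype.val hn
      rw [map_pow]
      exact h6
    obtain ⟨S₀⟩ : Nonempty (Sylow p Y) := inferInstance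
    have hcov := Cfsg.Agent.Lib.Blocks.Pairs.sylow_cover (p := p) K hq (MonoidHom.id Y)
      (fun w => ⟨w, 1, Subgroup.one_mem _, by simp⟩) S₀
    obtain ⟨t, ht, hr⟩ := le_conj_mul_of_pgroup hMp hQb.1 hQb.2 hT hF₁ hF₁c hF₁D
      (R := ((S₀ : Subgroup Y).map Y.subtype).map (Subgroup.subtype _)) (Subgroup.map_subtype_le _)
      ((S₀.2.map _).map _)
    have hmaps : X'.map (MulAut.conj (π ⟨t, ht⟩)⁻¹).toMonoidHom ≤ autInducedBy P Q₁ := by
      rintro _ ⟨α, hα, rfl⟩
      obtain ⟨y, hy⟩ := hsurj α (hX'a hα)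
      have hyY : y ∈ Y := by
        show π y ∈ X'
        rw [hy]
        exact hα
      obtain ⟨s, hs, k, hk, hsk⟩ := hcov ⟨y, hyY⟩
      have hπs : π (s : _) = α := by
        rw [← hy]
        have h6 : y = (s : _) * (k : _) := congrArg Subtype.val hsk
        have h7 : π (k : _) = 1 := hk
        rw [h6, map_mul, h7, mul_one]
      obtain ⟨d, hd, k', hk', hsd⟩ := hr _ ⟨_, ⟨s, hs, rfl⟩, rfl⟩
      rw [Cfsg.Agent.Lib.Fusion.Basic.mem_autInducedBy_iff]
      refine ⟨d, hd.1, fun x => ?_⟩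
      have e1 : ((MulAut.conj (π ⟨t, ht⟩)⁻¹).toMonoidHom α) x = (π ⟨t, ht⟩)⁻¹ (α (π ⟨t, ht⟩ x)) := by
        show ((π ⟨t, ht⟩)⁻¹ * α * (π ⟨t, ht⟩)⁻¹⁻¹) x = _
        rw [inv_inv]
        rfl
      rw [e1, ← map_inv π, hπ, ← hπs, hπ, hπ]
      have e2 : (((⟨t, ht⟩ : ↥(Subgroup.normalizer (Q₁ : Set G) ⊓ blockStabilizer (Subgroup.centralizer (Q₁ : Set G)) f₁))⁻¹ : _) : G) = t⁻¹ := rfl
      rw [e2, inv_inv]
      have hsd' : (((s : Y) : ↥(Subgroup.normalizer (Q₁ : Set G) ⊓ blockStabilizer (Subgroup.centralizer (Q₁ : Set G)) f₁)) : G) = t * d * t⁻¹ * k' := hsd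
      rw [hsd']
      have hz : t * (x : G) * t⁻¹ ∈ Q₁ := (Subgroup.mem_normalizer_iff.mp (h3 ht) x).mp x.2
      have h8 := Subgroup.mem_centralizer_iff.mp hk' _ hz
      calc t⁻¹ * (t * d * t⁻¹ * k' * (t * (x : G) * t⁻¹) * (t * d * t⁻¹ * k')⁻¹) * t
          = t⁻¹ * (t * d * t⁻¹ * (k' * (t * (x : G) * t⁻¹)) * k'⁻¹ * t * d⁻¹ * t⁻¹) * t := by group
        _ = d * x * d⁻¹ := by rw [← h8]; group
    have hc : Nat.card X' ≤ Nat.card (autInducedBy P Q₁) := by
      have h6 := Subgroup.card_le_of_le hmaps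
      have h7 : Nat.card (X'.map (MulAut.conj (π ⟨t, ht⟩)⁻¹).toMonoidHom) = Nat.card X' :=
        Nat.card_congr (Subgroup.equivMapOfInjective _ _ (MulAut.conj (π ⟨t, ht⟩)⁻¹).injective).toEquiv.symm
      rwa [h7] at h6
    exact (Subgroup.eq_of_le_of_card_ge hAX hc).symm
  refine ⟨⟨(autInducedBy P Q₁).subgroupOf (F.autGroup Q₁), ?_, ?_⟩, rfl⟩
  · exact hA'p.comap_of_injective _ (Subgroup.subtype_injective _)
  · intro X hXp hAX
    have hX'p : IsPGroup p (X.map (F.autGroup Q₁).subtype) := hXp.map _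
    have hmain := main _ hX'p (Subgroup.map_subtype_le _) (by
      intro α hα
      exact ⟨⟨α, hA'le hα⟩, hAX (Subgroup.mem_subgroupOf.mpr hα), rfl⟩)
    ext β
    constructor
    · intro hβ
      rw [Subgroup.mem_subgroupOf, ← hmain]
      exact ⟨β, hβ, rfl⟩
    · intro hβ
      exact hAX hβ

/-- **S4677**. -/
theorem exists_saturated_block_fusion (hMp : IsPModular p M) (hmax : IsMaximalBrauerPair p M B P e) :
    ∃ F : FusionSystem P, IsBlockFusionSystemOn p M B P e F ∧ F.IsSaturated p := by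
  classical
  have hPe := hmax.1.1
  have hF : IsBlockFusionSystemOn p M B P e (blockFusionSystem hMp hPe) := ⟨hmax, fun Q φ => Iff.rfl⟩
  refine ⟨blockFusionSystem hMp hPe, hF, fun Q hQ => ?_⟩
  obtain ⟨f, hfb, hf⟩ := exists_subpairLE hMp hPe hQ
  have hT : ∀ y : G, y ∈ Subgroup.normalizer (Q : Set G) ⊓
      blockStabilizer (Subgroup.centralizer (Q : Set G)) f ↔
      y ∈ Subgroup.normalizer (Q : Set G) ∧ StabilizesBlock (Subgroup.centralizer (Q : Set G)) f y :=
    fun _ => Iff.rfl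
  obtain ⟨x₁, hx₁, hx₁D⟩ := exists_conj_isDefectGroup_normalizer hMp hmax hQ hfb hf hT
  have hFN : FN p M P (Q.map (MulAut.conj x₁).toMonoidHom) (conjBlock Q x₁ f) := hx₁D
  exact ⟨_, isConj_of_block hF hQ hf x₁ hx₁, isFullyAutomized_of_FN hMp hF hx₁ hFN,
    isReceptive_of_FN hMp hF hx₁ hFN⟩

end BlockSystem

end Cfsg.Agent.Lib.Blocks.Pairs
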