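/-
Brauer pairs: induced blocks and abelian defect groups.
-/
import Mathlib
import Cfsg.Agent.Lib.Blocks.Pairs20

set_option autoImplicit false

namespace Cfsg.Agent.Lib.Blocks.Pairs

open Cfsg Cfsg.Agent.Lib.Blocks.Local Cfsg.Agent.Lib.Blocks.Central Cfsg.Agent.Lib.Blocks.Osima
open Cfsg.Agent.Lib.Blocks.Covering Cfsg.Agent.Lib.Blocks.BrauerMap Cfsg.Agent.Lib.Blocks.Transport
open Cfsg.Agent.Lib.Blocks.BlockHom Cfsg.Agent.Lib.Blocks.Twisted Cfsg.Agent.Lib.Blocks.Dominate

universe u

section InducedPairs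

variable {G : Type u} [Group G] [Fintype G] {M : Ideal AlgInt} [hM : M.IsPrime] {p : ℕ} [Fact p.Prime]

/-- A block induced from the centralizer: a Brauer pair. -/
theorem isBrauerPairOf_of_induced {Q : Subgroup G} (hQ : IsPGroup p Q)
    {e : Set (IrrCharacter (Subgroup.centralizer (Q : Set G)))} {B : Set (IrrCharacter G)}
    (h : IsInducedBlock M (Subgroup.centralizer (Q : Set G)) e B) : IsBrauerPairOf p M B Q e := by
  classical
  rw [isBrauerPairOf_iff]
  refine ⟨⟨hQ, h.1⟩, h.2.1, fun ξ hξ => ?_⟩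
  obtain ⟨χ, hχ⟩ := isPBlock_nonempty h.2.1
  have h1 := Cfsg.Agent.Lib.Blocks.SecondMain.memLocalIdeal_omega_restr_sub (isClassFunction_of_irr χ.2)
    (blockElt_mem_localCenter h.2.1) (h.2.2 ξ hξ χ hχ)
  rw [omega_blockElt_of_mem hχ] at h1
  exact h1

/-- A Brauer pair of a block: the block is induced. -/
theorem isInducedBlock_of_brauerPair (hMp : IsPModular p M) {Q : Subgroup G}
    {e : Set (IrrCharacter (Subgroup.centralizer (Q : Set G)))} {B : Set (IrrCharacter G)}
    (hBe : IsBrauerPairOf p M B Q e) : IsInducedBlock M (Subgroup.centralizer (Q : Set G)) e B := by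
  classical
  obtain ⟨ξ, hξ⟩ := isPBlock_nonempty hBe.1.2
  obtain ⟨χ, hχ⟩ := exists_irr_of_brauer hMp hBe.1.1 (le_refl _)
    (Cfsg.Agent.Lib.Blocks.FirstMain.centralizer_le_normalizer' Q) ξ.2
  have hχ' : ∀ z : localCenter G M, MemLocalIdeal M
      (omega (ξ : _ → ℂ) (res (Subgroup.centralizer (Q : Set G)) z.1) - omega (χ : G → ℂ) z.1) := by
    intro z
    rw [← brauer_centralizer_eq_res]
    exact hχ z
  have hind := isInducedBlock_centralizer hχ'
  rw [← isPBlock_eq_blockOf hBe.1.2 hξ] at hind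
  have h2 := isBrauerPairOf_of_induced hBe.1.1 hind
  have h3 := (existsUnique_block_of_pair hMp hBe.1).unique hBe h2
  rw [h3]
  exact hind

omit hM [Fact p.Prime] in
/-- The central characters induced in `W`. -/
lemma inducedCentralChar_cD {W Q A : Subgroup G} (hCW : Subgroup.centralizer (Q : Set G) ≤ W) (hQA : Q ≤ A)
    (hAW : A ≤ W) (ξ : Subgroup.centralizer (A : Set G) → ℂ) (h : W) :
    inducedCentralChar (Subgroup.centralizer ((A.subgroupOf W : Subgroup W) : Set W))
      (fun z => ξ (cD hCW hQA hAW z)) h = inducedCentralCharIn W (Subgroup.centralizer (A : Set G)) ξ (h : G) := by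
  classical
  unfold inducedCentralChar inducedCentralCharIn
  rw [← finsum_comp_equiv (cD hCW hQA hAW).toEquiv]
  refine finsum_congr fun z => ?_
  refine finsum_congr_Prop (propext ?_) ?_
  · show IsConj h (z : W) ↔ ∃ x : W, (x : G) * (((cD hCW hQA hAW).toEquiv z : Subgroup.centralizer (A : Set G)) : G) * (x : G)⁻¹ = h
    constructor
    · rintro hc
      obtain ⟨c, hc⟩ := isConj_iff.mp hc
      refine ⟨c⁻¹, ?_⟩
      have h1 : (z : W) = c * h * c⁻¹ := hc.symm
      show (c⁻¹ : W).1 * ((z : W) : G) * ((c⁻¹ : W).1)⁻¹ = h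
      rw [h1]
      simp [mul_assoc]
    · rintro ⟨x, hx⟩
      rw [isConj_iff]
      refine ⟨x⁻¹, ?_⟩
      apply Subtype.ext
      have h1 : (x : G) * ((z : W) : G) * (x : G)⁻¹ = h := hx
      simp only [Subgroup.coe_mul, Subgroup.coe_inv]
      rw [← h1]
      group
  · intro _
    simp only [map_one]
    rfl

omit hM [Fact p.Prime] in
/-- Induced blocks in `W`, read in the group `W`. -/
lemma isInducedBlock_iff_in {W Q A : Subgroup G} (hCW : Subgroup.centralizer (Q : Set G) ≤ W) (hQA : Q ≤ A)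
    (hAW : A ≤ W) {c : Set (IrrCharacter (Subgroup.centralizer (A : Set G)))} {f : Set (IrrCharacter W)} :
    IsInducedBlock M (Subgroup.centralizer ((A.subgroupOf W : Subgroup W) : Set W))
      (blockMap (cD hCW hQA hAW) c) f ↔ IsInducedBlockIn M W (Subgroup.centralizer (A : Set G)) c f := by
  classical
  constructor
  · rintro ⟨h1, h2, h3⟩
    have hc : IsPBlock M c := by
      have := isPBlock_blockMap (cD hCW hQA hAW).symm h1
      rwa [blockMap_symm_blockMap] at this
    refine ⟨hc, h2, fun ξ hξ χ hχ g => ?_⟩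
    have h4 := h3 _ (irrComap_mem_blockMap _ hξ) χ hχ g
    have h5 := inducedCentralChar_cD hCW hQA hAW (ξ : Subgroup.centralizer (A : Set G) → ℂ) g
    have h6 : ((irrComap (cD hCW hQA hAW) ξ : IrrCharacter _) : _ → ℂ) = fun z => (ξ : _ → ℂ) (cD hCW hQA hAW z) := rfl
    rw [h6, h5] at h4
    exact h4
  · rintro ⟨h1, h2, h3⟩
    refine ⟨isPBlock_blockMap _ h1, h2, fun ξ hξ χ hχ g => ?_⟩
    rw [mem_blockMap_iff] at hξ
    have h4 := h3 _ hξ χ hχ g
    rw [← inducedCentralChar_cD hCW hQA hAW] at h4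
    convert h4 using 3
    funext z
    show _ = (ξ : _ → ℂ) ((cD hCW hQA hAW).symm (cD hCW hQA hAW z))
    rw [MulEquiv.symm_apply_apply]

/-- From the induced block to the normal subpair. -/
theorem isNormalSubpair_of_inducedIn {Q P : Subgroup G} (hQP : Q ≤ P)
    (hPK : P ≤ Subgroup.centralizer (Q : Set G)) (hPp : IsPGroup p P)
    {c : Set (IrrCharacter (Subgroup.centralizer (P : Set G)))}
    {f : Set (IrrCharacter (Subgroup.centralizer (Q : Set G)))}
    (h : IsInducedBlockIn M (Subgroup.centralizer (Q : Set G)) (Subgroup.centralizer (P : Set G)) c f) :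
    IsNormalSubpair p M Q f P c := by
  classical
  have h1 := (isInducedBlock_iff_in (le_refl _) hQP hPK).mpr h
  have hP' : IsPGroup p (P.subgroupOf (Subgroup.centralizer (Q : Set G))) :=
    hPp.comap_of_injective _ (Subgroup.subtype_injective _)
  have h2 := isBrauerPairOf_of_induced hP' h1
  refine ⟨⟨hPp.to_le hQP, h.2.1⟩, ⟨hPp, h.1⟩, hQP,
    hPK.trans (Cfsg.Agent.Lib.Blocks.FirstMain.centralizer_le_normalizer' Q), ?_, ?_⟩
  · intro x hx
    exact stabilizesBlock_of_mem (hPK hx) f
  · intro ξ hξ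
    have h3 := h2.2.2 _ (irrComap_mem_blockMap (cD (le_refl _) hQP hPK) hξ)
    have h4 : brauerOmega (P.subgroupOf (Subgroup.centralizer (Q : Set G))) (blockCoeff f)
        (fun z => (ξ : Subgroup.centralizer (P : Set G) → ℂ) (cD (le_refl _) hQP hPK z)) =
        brauerOmega P (subgroupBlockCoeff (Subgroup.centralizer (Q : Set G)) f)
          (ξ : Subgroup.centralizer (P : Set G) → ℂ) :=
      brauerOmega_cIso _ (mem_centralizer_subgroupOf_iff hPK) (fun t => (subgroupBlockCoeff_coe _ _).symm) _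
    rw [← h4]
    exact h3

/-- From the normal subpair to the induced block. -/
theorem isInducedBlockIn_of_normal (hMp : IsPModular p M) {Q P : Subgroup G} (hQP : Q ≤ P)
    (hPK : P ≤ Subgroup.centralizer (Q : Set G))
    {c : Set (IrrCharacter (Subgroup.centralizer (P : Set G)))}
    {f : Set (IrrCharacter (Subgroup.centralizer (Q : Set G)))} (hn : IsNormalSubpair p M Q f P c) :
    IsInducedBlockIn M (Subgroup.centralizer (Q : Set G)) (Subgroup.centralizer (P : Set G)) c f := by
  classical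
  have hb := isBrauerPairOf_down (le_refl (Subgroup.centralizer (Q : Set G))) hn.1.2
    (fun t => (subgroupBlockCoeff_coe _ _).symm) hQP hPK hn
  exact (isInducedBlock_iff_in (le_refl _) hQP hPK).mp (isInducedBlock_of_brauerPair hMp hb)

/-- **S4650**. -/
theorem free_iff_local_nilpotent (hMp : IsPModular p M) {B : Set (IrrCharacter G)} {P T : Subgroup G}
    (hPD : IsDefectGroup p M B P) (hab : ∀ x ∈ P, ∀ y ∈ P, x * y = y * x) (hPp : IsPGroup p P)
    {c : Set (IrrCharacter (Subgroup.centralizer (P : Set G)))}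
    (hc : IsInducedBlock M (Subgroup.centralizer (P : Set G)) c B)
    (hT : ∀ g : G, g ∈ T ↔ (g ∈ Subgroup.normalizer (P : Set G) ∧
      StabilizesBlock (Subgroup.centralizer (P : Set G)) c g)) :
    (∀ g ∈ T, ∀ x ∈ P, x ≠ 1 → g * x * g⁻¹ = x → g ∈ Subgroup.centralizer (P : Set G)) ↔
      ∀ Q : Subgroup G, Q ≤ P → Q ≠ ⊥ → ∀ f : Set (IrrCharacter (Subgroup.centralizer (Q : Set G))),
        IsInducedBlockIn M (Subgroup.centralizer (Q : Set G)) (Subgroup.centralizer (P : Set G)) c f →
        IsNilpotentBlock p M f := by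
  classical
  have hPc := isBrauerPairOf_of_induced hPp hc
  have hmax := isMaximal_of_isDefectGroup hMp hPc hPD
  have hPK : ∀ Q : Subgroup G, Q ≤ P → P ≤ Subgroup.centralizer (Q : Set G) := fun Q hQ u hu =>
    Subgroup.mem_centralizer_iff.mpr fun q hq => hab q (hQ hq) u hu
  constructor
  · intro hfree Q hQP hQ1 f hf
    have hn := isNormalSubpair_of_inducedIn hQP (hPK Q hQP) hPp hf
    have hQf : IsBrauerPairOf p M B Q f :=
      (isBrauerPairOf_iff_of_subpairLE hMp hn.1 (Relation.ReflTransGen.single hn)).mp hPc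
    refine ⟨hf.2.1, fun R' g' hRg' x hxN hxs hxr => ?_⟩
    have hn' := isNormalSubpair_local hQf.1 hRg'
    have hAb := isBrauerPairOf_up hMp hQf hn'
    have hxA : (x : G) ∈ Subgroup.normalizer (localA Q R' : Set G) := by
      apply mem_normalizer_of_map_conj
      unfold localA
      rw [Subgroup.map_sup]
      have h1 : Q.map (MulAut.conj (x : G)).toMonoidHom = Q :=
        map_conj_of_mem_normalizer (Cfsg.Agent.Lib.Blocks.FirstMain.centralizer_le_normalizer' Q x.2)
      have h2 := map_subtype_le_normalizer (le_refl (Subgroup.normalizer (R' : Set (Subgroup.centralizer (Q : Set G)))))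
      have h3 : (R'.map (Subgroup.centralizer (Q : Set G)).subtype).map (MulAut.conj (x : G)).toMonoidHom =
          R'.map (Subgroup.centralizer (Q : Set G)).subtype :=
        map_conj_of_mem_normalizer (h2 ⟨x, hxN, rfl⟩)
      rw [h1, h3]
    have hxs' : StabilizesBlock (Subgroup.centralizer (localA Q R' : Set G))
        (blockMap (localIso Q R').symm g') (x : G) := by
      refine ⟨normalizer_le_normalizer_centralizer _ hxA, ?_⟩
      rintro χ hχ
      rw [mem_blockMap_iff] at hχ
      obtain ⟨χ', hχ', hc⟩ := hxs.2 _ hχ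
      refine ⟨irrComap (localIso Q R').symm χ', irrComap_mem_blockMap _ hχ', ?_⟩
      intro k k' hk
      have hk2 := hc ((localIso Q R').symm k) ((localIso Q R').symm k') (by
        apply Subtype.ext
        show (k' : G) = (x : G) * (k : G) * (x : G)⁻¹
        exact hk)
      show (χ' : _ → ℂ) ((localIso Q R').symm k') = _
      rw [hk2]
      show (χ : _ → ℂ) ((localIso Q R') ((localIso Q R').symm k)) = _
      rw [MulEquiv.apply_symm_apply]
    obtain ⟨z, hz⟩ := exists_conj_subpairLE hMp hmax hAb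
    obtain ⟨h1, h2⟩ := stab_conj z hxA hxs'
    have hf' : IsPBlock M (conjBlock (localA Q R') z (blockMap (localIso Q R').symm g')) := by
      rw [conjBlock_eq_conjB]
      exact isPBlock_conjB hAb.1.2
    obtain ⟨y, hy1, hy2, k, hk, hxy⟩ := exists_mul_of_abelian hMp hmax hab (SubpairLE.le hz) hf' hz h1 h2
    have hAP := SubpairLE.le hz
    -- a non-identity element of `Q`
    obtain ⟨q, hqQ, hq1⟩ := (Subgroup.bot_or_exists_ne_one Q).resolve_left hQ1
    have hq'A : z * q * z⁻¹ ∈ (localA Q R').map (MulAut.conj z).toMonoidHom :=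
      ⟨q, (le_sup_left : Q ≤ localA Q R') hqQ, rfl⟩
    have hq'1 : z * q * z⁻¹ ≠ 1 := by
      intro h
      apply hq1
      have h3 : z⁻¹ * (z * q * z⁻¹) * z = q := by group
      rw [h, mul_one, inv_mul_cancel] at h3
      exact h3.symm
    have hcomm : z * (x : G) * z⁻¹ * (z * q * z⁻¹) = z * q * z⁻¹ * (z * (x : G) * z⁻¹) := by
      have h3 := Subgroup.mem_centralizer_iff.mp x.2 q hqQ
      calc z * (x : G) * z⁻¹ * (z * q * z⁻¹) = z * ((x : G) * q) * z⁻¹ := by group
        _ = z * (q * (x : G)) * z⁻¹ := by rw [h3]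
        _ = z * q * z⁻¹ * (z * (x : G) * z⁻¹) := by group
    have hyfix : y * (z * q * z⁻¹) * y⁻¹ = z * q * z⁻¹ := by
      have h3 := Subgroup.mem_centralizer_iff.mp hk _ hq'A
      rw [hxy] at hcomm
      have h4 : y * (k * (z * q * z⁻¹)) = z * q * z⁻¹ * (y * k) := by
        rw [← mul_assoc, hcomm]
      rw [← h3] at h4
      have h5 : y * (z * q * z⁻¹ * k) = (y * (z * q * z⁻¹)) * k := by group
      have h6 : z * q * z⁻¹ * (y * k) = (z * q * z⁻¹ * y) * k := by group
      rw [h5, h6] at h4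
      have h7 := mul_right_cancel h4
      rw [h7]
      group
    have hyC := hfree y ((hT y).mpr ⟨hy1, hy2⟩) _ (hAP hq'A) hq'1 hyfix
    have hxC : z * (x : G) * z⁻¹ ∈ Subgroup.centralizer (((localA Q R').map (MulAut.conj z).toMonoidHom : Subgroup G) : Set G) := by
      rw [hxy]
      exact Subgroup.mul_mem _ (Subgroup.centralizer_le hAP hyC) hk
    exact (mem_centralizer_localA_iff Q R' x).mpr (mem_centralizer_of_conj hxC)
  · intro hall g hg x hx hx1 hgx
    set Q := Subgroup.zpowers x with hQdef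
    have hQP : Q ≤ P := by
      rw [hQdef, Subgroup.zpowers_le]
      exact hx
    have hQ1 : Q ≠ ⊥ := by
      rw [hQdef, Ne, Subgroup.zpowers_eq_bot]
      exact hx1
    have hPN := (hPK Q hQP).trans (Cfsg.Agent.Lib.Blocks.FirstMain.centralizer_le_normalizer' Q)
    obtain ⟨f, hn, -⟩ := existsUnique_normal_subpair hMp ⟨hPp, hc.1⟩ hQP hPN
    have hfi := isInducedBlockIn_of_normal hMp hQP (hPK Q hQP) hn
    have hnilf := hall Q hQP hQ1 f hfi
    have hb := isBrauerPairOf_down (le_refl (Subgroup.centralizer (Q : Set G))) hn.1.2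
      (fun t => (subgroupBlockCoeff_coe _ _).symm) hQP (hPK Q hQP) hn
    have hgQ : g ∈ Subgroup.centralizer (Q : Set G) := by
      have h1 : Q ≤ Subgroup.centralizer ({g} : Set G) := by
        rw [hQdef, Subgroup.zpowers_le, Subgroup.mem_centralizer_singleton_iff]
        rw [mul_inv_eq_iff_eq_mul] at hgx
        exact hgx.symm
      rw [Subgroup.mem_centralizer_iff]
      intro q hq
      exact Subgroup.mem_centralizer_singleton_iff.mp (h1 hq)
    obtain ⟨a, b, hab'', -, ha, hb', hap, hbp⟩ := Cfsg.Agent.Lib.Transfer.Basic.exists_pPart_decomp (p := p) g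
    have hzT : Subgroup.zpowers g ≤ T ⊓ Subgroup.centralizer (Q : Set G) := by
      rw [Subgroup.zpowers_le]
      exact ⟨hg, hgQ⟩
    have haC : a ∈ Subgroup.centralizer (P : Set G) := by
      obtain ⟨h1, h2⟩ := (hT a).mp (hzT ha).1
      have h3 := mem_sup_of_isMaximal hMp hmax h1 h2 hap
      have hPP : P ≤ Subgroup.centralizer (P : Set G) := hPK P le_rfl
      rwa [sup_eq_right.mpr hPP] at h3
    obtain ⟨hbN, hbs⟩ := (hT b).mp (hzT hb').1
    have hbK : b ∈ Subgroup.centralizer (Q : Set G) := (hzT hb').2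
    have hb'N : (⟨b, hbK⟩ : Subgroup.centralizer (Q : Set G)) ∈
        Subgroup.normalizer ((P.subgroupOf (Subgroup.centralizer (Q : Set G)) : Subgroup _) :
          Set (Subgroup.centralizer (Q : Set G))) := by
      rw [Subgroup.mem_normalizer_iff]
      intro h
      rw [Subgroup.mem_subgroupOf, Subgroup.mem_subgroupOf]
      exact Subgroup.mem_normalizer_iff.mp hbN (h : G)
    have hb's : StabilizesBlock (Subgroup.centralizer ((P.subgroupOf (Subgroup.centralizer (Q : Set G)) : Subgroup _) :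
          Set (Subgroup.centralizer (Q : Set G))))
        (blockMap (cD (le_refl _) hQP (hPK Q hQP)) c) (⟨b, hbK⟩ : Subgroup.centralizer (Q : Set G)) := by
      refine ⟨normalizer_le_normalizer_centralizer _ hb'N, ?_⟩
      rintro χ hχ
      rw [mem_blockMap_iff] at hχ
      obtain ⟨χ', hχ', hcc⟩ := hbs.2 _ hχ
      refine ⟨irrComap (cD (le_refl _) hQP (hPK Q hQP)) χ', irrComap_mem_blockMap _ hχ', ?_⟩
      intro k k' hk
      have hk2 := hcc (cD (le_refl _) hQP (hPK Q hQP) k) (cD (le_refl _) hQP (hPK Q hQP) k') (by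
        have h3 := congrArg (Subtype.val : Subgroup.centralizer (Q : Set G) → G) hk
        exact h3)
      show (χ' : _ → ℂ) (cD (le_refl _) hQP (hPK Q hQP) k') = _
      rw [hk2]
      show (χ : _ → ℂ) ((cD (le_refl _) hQP (hPK Q hQP)).symm (cD (le_refl _) hQP (hPK Q hQP) k)) = _
      rw [MulEquiv.symm_apply_apply]
    have hb'r : IsPRegular p (⟨b, hbK⟩ : Subgroup.centralizer (Q : Set G)) := by
      intro hd
      rw [Subgroup.orderOf_mk] at hd
      have h1 := Nat.Coprime.eq_one_of_dvd hbp.symm hd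
      exact (Fact.out : p.Prime).one_lt.ne' h1
    have h1 := hnilf.2 _ _ hb _ hb'N hb's hb'r
    have hbC := (mem_centralizer_subgroupOf_iff (hPK Q hQP) _).mp h1
    rw [← hab'']
    exact Subgroup.mul_mem _ haC hbC

end InducedPairs

end Cfsg.Agent.Lib.Blocks.Pairs
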