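/-
Blocks with abelian defect groups: the number of irreducible characters as a sum over the orbits of the
inertial group on the defect group, `k(B) = l(B) + ∑_{y ∈ P#/T} l(f_y)`.
-/
import Mathlib
import Cfsg.Agent.Lib.Blocks.Pairs21
import Cfsg.Agent.Lib.Blocks.BlockCount

set_option autoImplicit false
set_option linter.style.haveILetI false

namespace Cfsg.Agent.Lib.Blocks.AbelianCount

open Cfsg Cfsg.Agent.Lib.Blocks.Local Cfsg.Agent.Lib.Blocks.Central Cfsg.Agent.Lib.Blocks.Osima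
  Cfsg.Agent.Lib.Blocks.Regular Cfsg.Agent.Lib.Blocks.Cartan Cfsg.Agent.Lib.Blocks.BlockCount
  Cfsg.Agent.Lib.Blocks.Sections Cfsg.Agent.Lib.Blocks.Transport Cfsg.Agent.Lib.Blocks.Pairs
  Cfsg.Agent.Lib.Blocks.Induced
open scoped ComplexConjugate

universe u

section Transfer

variable {A B : Type*} [Group A] [Group B]

/-- The rank is invariant under isomorphisms. -/
lemma blockRank_blockMap {p : ℕ} (φ : A ≃* B) (b : Set (IrrCharacter B)) :
    blockRank p (blockMap φ b) = blockRank p b := by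
  classical
  let L : (B → ℂ) ≃ₗ[ℂ] (A → ℂ) := LinearEquiv.funCongrLeft ℂ ℂ φ.toEquiv
  have hreg : ∀ χ : IrrCharacter B, pRegularPart p ((irrComap φ χ : IrrCharacter A) : A → ℂ) =
      L (pRegularPart p (χ : B → ℂ)) := by
    intro χ
    funext a
    have h1 : L (pRegularPart p (χ : B → ℂ)) a = pRegularPart p (χ : B → ℂ) (φ a) := rfl
    rw [h1]
    simp only [pRegularPart, IsPRegular, MulEquiv.orderOf_eq, coe_irrComap]
    congr
  have hspan : Submodule.span ℂ ((fun χ : IrrCharacter A => pRegularPart p (χ : A → ℂ)) '' blockMap φ b) =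
      (Submodule.span ℂ ((fun χ : IrrCharacter B => pRegularPart p (χ : B → ℂ)) '' b)).map L.toLinearMap := by
    rw [Submodule.map_span]
    congr 1
    ext f
    constructor
    · rintro ⟨_, ⟨χ, hχ, rfl⟩, rfl⟩
      exact ⟨_, ⟨χ, hχ, rfl⟩, (hreg χ).symm⟩
    · rintro ⟨_, ⟨χ, hχ, rfl⟩, rfl⟩
      exact ⟨_, ⟨χ, hχ, rfl⟩, hreg χ⟩
  rw [blockRank, blockRank, hspan]
  exact LinearEquiv.finrank_map_eq L _

end Transfer

section Conj

variable {G : Type u} [Group G]

/-- The centralizer of the cyclic group generated by an element. -/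
abbrev CZ (x : G) : Subgroup G := Subgroup.centralizer ((Subgroup.zpowers x : Subgroup G) : Set G)

lemma cz_eq_cen (x : G) : CZ x = Cen x := by
  ext g
  rw [Subgroup.mem_centralizer_iff, Subgroup.mem_centralizer_iff]
  constructor
  · intro h u hu
    rw [Set.mem_singleton_iff.mp hu]
    exact h x (Subgroup.mem_zpowers x)
  · rintro h _ ⟨n, rfl⟩
    have h1 : x * g = g * x := h x rfl
    have h2 : Commute x g := h1
    exact (h2.zpow_left n)

lemma map_conj_zpowers (g x : G) :
    (Subgroup.zpowers x).map (MulAut.conj g).toMonoidHom = Subgroup.zpowers (g * x * g⁻¹) := by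
  rw [MonoidHom.map_zpowers]
  rfl

lemma map_conj_cz (g x : G) : (CZ x).map (MulAut.conj g).toMonoidHom = CZ (g * x * g⁻¹) := by
  rw [map_conj_centralizer, map_conj_zpowers]

lemma map_conj_zpowers' {g x y : G} (h : g * x * g⁻¹ = y) :
    (Subgroup.zpowers x).map (MulAut.conj g).toMonoidHom = Subgroup.zpowers y := by
  rw [← h, map_conj_zpowers]

lemma map_conj_cz' {g x y : G} (h : g * x * g⁻¹ = y) :
    (CZ x).map (MulAut.conj g).toMonoidHom = CZ y := by
  rw [← h, map_conj_cz]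

lemma conjB_mem_iff_of_eq {g : G} {K K₁ K₂ : Subgroup G} (h₁ : K.map (MulAut.conj g).toMonoidHom = K₁)
    (h₂ : K.map (MulAut.conj g).toMonoidHom = K₂) (f : Set (IrrCharacter K)) (ξ₁ : IrrCharacter K₁)
    (ξ₂ : IrrCharacter K₂) (hξ : ∀ (u₁ : K₁) (u₂ : K₂), (u₁ : G) = u₂ → (ξ₁ : K₁ → ℂ) u₁ = (ξ₂ : K₂ → ℂ) u₂) :
    ξ₁ ∈ conjB g h₁ f ↔ ξ₂ ∈ conjB g h₂ f := by
  subst h₁
  obtain rfl : K.map (MulAut.conj g).toMonoidHom = K₂ := h₂
  have : ξ₁ = ξ₂ := by
    apply Subtype.ext
    funext u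
    exact hξ u u rfl
  rw [this]

/-- The conjugate of a block only depends on the coset modulo the target. -/
lemma conjB_eq_of_mul_mem [Finite G] {g g₀ : G} {K K' : Subgroup G} (h₁ : K.map (MulAut.conj g).toMonoidHom = K')
    (h₂ : K.map (MulAut.conj g₀).toMonoidHom = K') (hm : g * g₀⁻¹ ∈ K') (f : Set (IrrCharacter K)) :
    conjB g h₁ f = conjB g₀ h₂ f := by
  letI : Fintype K' := Fintype.ofFinite K'
  ext ξ
  rw [mem_conjB, mem_conjB]
  have : irrComap (conjEq g h₁) ξ = irrComap (conjEq g₀ h₂) ξ := by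
    apply Subtype.ext
    funext k
    show (ξ : K' → ℂ) (conjEq g h₁ k) = (ξ : K' → ℂ) (conjEq g₀ h₂ k)
    have h3 := Cfsg.Agent.Lib.Blocks.Central.isClassFunction_of_irr ξ.2 (conjEq g₀ h₂ k) ⟨g * g₀⁻¹, hm⟩
    rw [← h3]
    refine congrArg _ (Subtype.ext ?_)
    simp only [coe_conjEq, Subgroup.coe_mul, InvMemClass.coe_inv]
    group
  rw [this]

lemma conjB_one' {K K' : Subgroup G} [Finite G] (h : K.map (MulAut.conj (1 : G)).toMonoidHom = K')
    (f : Set (IrrCharacter K)) {ξ : IrrCharacter K'} {ξ' : IrrCharacter K}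
    (hξ : ∀ (u₁ : K') (u₂ : K), (u₁ : G) = u₂ → (ξ : K' → ℂ) u₁ = (ξ' : K → ℂ) u₂) :
    ξ ∈ conjB 1 h f ↔ ξ' ∈ f := by
  rw [mem_conjB]
  have : irrComap (conjEq 1 h) ξ = ξ' := by
    apply Subtype.ext
    funext k
    show (ξ : K' → ℂ) (conjEq 1 h k) = (ξ' : K → ℂ) k
    apply hξ
    simp
  rw [this]

end Conj

section Pairs

variable {G : Type u} [Group G] [Fintype G] {M : Ideal AlgInt} [hMp : M.IsPrime] {p : ℕ} [hp : Fact p.Prime]

/-- `P` is a defect group of the block below a maximal pair, when `P` is abelian. -/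
theorem isDefectGroup_of_abelian (hMpm : IsPModular p M) {B : Set (IrrCharacter G)} {P Q : Subgroup G}
    {e : Set (IrrCharacter (Subgroup.centralizer (P : Set G)))}
    {f : Set (IrrCharacter (Subgroup.centralizer (Q : Set G)))}
    (hmax : IsMaximalBrauerPair p M B P e) (hab : ∀ x ∈ P, ∀ y ∈ P, x * y = y * x) (hQP : Q ≤ P)
    (hf : IsPBlock M f) (hle : SubpairLE p M Q f P e) :
    IsDefectGroup p M f (P.subgroupOf (Subgroup.centralizer (Q : Set G))) := by
  classical
  have hPe := hmax.1.1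
  have hPK : P ≤ Subgroup.centralizer (Q : Set G) := fun u hu =>
    Subgroup.mem_centralizer_iff.mpr fun q hq => hab q (hQP hq) u hu
  obtain ⟨x₀, hx₀, hx₀D⟩ := exists_conj_isDefectGroup_centralizer hMpm hmax hQP hf hle
  obtain ⟨D, hD, hW⟩ := exists_defect_le_centralizer hMpm hPe hQP hf hle
  have h2 := card_defect_conjBlock hMpm hf hD x₀ hx₀D
  have hPK' : P ≤ Subgroup.centralizer ((Q.map (MulAut.conj x₀).toMonoidHom : Subgroup G) : Set G) := fun u hu =>
    Subgroup.mem_centralizer_iff.mpr fun q hq => hab q (SubpairLE.le hx₀ hq) u hu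
  have heq := Subgroup.eq_of_le_of_card_ge hW (by
    rw [← h2, card_subgroupOf_inf_right, card_subgroupOf_inf_right, inf_eq_left.mpr hPK', inf_eq_left.mpr hPK])
  rw [inf_eq_left.mpr hPK] at heq
  rw [heq]
  exact hD

/-- **Conjugate subpairs of a maximal pair with abelian defect group are conjugate by the inertial group.** -/
theorem exists_mul_of_conj (hMpm : IsPModular p M) {B : Set (IrrCharacter G)} {P Q Q' : Subgroup G}
    {e : Set (IrrCharacter (Subgroup.centralizer (P : Set G)))}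
    {f : Set (IrrCharacter (Subgroup.centralizer (Q : Set G)))}
    (hmax : IsMaximalBrauerPair p M B P e) (hab : ∀ x ∈ P, ∀ y ∈ P, x * y = y * x) (hQP : Q ≤ P)
    (hf : IsPBlock M f) (hle : SubpairLE p M Q f P e) {g : G} (hQ' : Q.map (MulAut.conj g).toMonoidHom = Q')
    (hcQ : (Subgroup.centralizer (Q : Set G)).map (MulAut.conj g).toMonoidHom = Subgroup.centralizer (Q' : Set G))
    (hle' : SubpairLE p M Q' (conjB g hcQ f) P e) :
    ∃ y : G, y ∈ Subgroup.normalizer (P : Set G) ∧ StabilizesBlock (Subgroup.centralizer (P : Set G)) e y ∧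
      ∃ c ∈ Subgroup.centralizer (Q : Set G), g = y * c := by
  classical
  have hPe := hmax.1.1
  have hPK : P ≤ Subgroup.centralizer (Q : Set G) := fun u hu =>
    Subgroup.mem_centralizer_iff.mpr fun q hq => hab q (hQP hq) u hu
  have hKN : Subgroup.centralizer (Q : Set G) ≤ Subgroup.normalizer (Q : Set G) :=
    Cfsg.Agent.Lib.Blocks.FirstMain.centralizer_le_normalizer' Q
  have hPdef := isDefectGroup_of_abelian hMpm hmax hab hQP hf hle
  have hn := isNormalSubpair_of_subpairLE hMpm hPe hle (hPK.trans hKN)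
  -- conjugate back by `g⁻¹`
  set x := g⁻¹ with hx
  have hQ'Q : Q'.map (MulAut.conj x).toMonoidHom = Q := by
    rw [← hQ', ← map_conj_mul, show x * g = 1 by simp [hx]]
    exact map_conj_of_mem_normalizer (Subgroup.one_mem _)
  have hcx : (Subgroup.centralizer (Q' : Set G)).map (MulAut.conj x).toMonoidHom =
      Subgroup.centralizer (Q : Set G) := by
    rw [map_conj_centralizer, hQ'Q]
  have hle₁ := subpairLE_conj_gen x hQ'Q rfl hcx (map_conj_centralizer P x) hle'
  have hff : conjB x hcx (conjB g hcQ f) = f := by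
    have hone : (Subgroup.centralizer (Q : Set G)).map (MulAut.conj (x * g)).toMonoidHom =
        Subgroup.centralizer (Q : Set G) := by
      rw [show x * g = 1 by simp [hx]]
      exact map_conj_of_mem_normalizer (Subgroup.one_mem _)
    rw [← conjB_mul hcx hcQ hone]
    refine conjB_of_mem ?_ hone f
    rw [show x * g = 1 by simp [hx]]
    exact Subgroup.one_mem _
  rw [hff] at hle₁
  have hPx : IsBrauerPair p M (P.map (MulAut.conj x).toMonoidHom) (conjB x (map_conj_centralizer P x) e) :=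
    ⟨isPGroup_map_conj x hPe.1, isPBlock_conjB hPe.2⟩
  have hQPx : Q ≤ P.map (MulAut.conj x).toMonoidHom := SubpairLE.le hle₁
  have hQ'P : Q' ≤ P := SubpairLE.le hle'
  have hPxK : P.map (MulAut.conj x).toMonoidHom ≤ Subgroup.centralizer (Q : Set G) := by
    rintro _ ⟨u, hu, rfl⟩
    rw [Subgroup.mem_centralizer_iff]
    intro q hq
    have hq' : g * q * g⁻¹ ∈ Q' := by
      rw [← hQ']
      exact ⟨q, hq, rfl⟩
    have h1 := hab _ (hQ'P hq') u hu
    show q * (x * u * x⁻¹) = (x * u * x⁻¹) * q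
    simp only [hx, inv_inv]
    calc q * (g⁻¹ * u * g) = g⁻¹ * ((g * q * g⁻¹) * u) * g := by group
      _ = g⁻¹ * (u * (g * q * g⁻¹)) * g := by rw [h1]
      _ = _ := by group
  have hn' := isNormalSubpair_of_subpairLE hMpm hPx hle₁ (hPxK.trans hKN)
  obtain ⟨w, hwK, hw⟩ := exists_conj_subpairLE_local hMpm (hQP.trans hPK)
    (le_refl _) hKN hf (fun t => (subgroupBlockCoeff_coe _ _).symm) hQP hPK hPdef hn hQPx hPxK hn'
  -- `y = w * x` lies in the stabilizer
  have hmul := map_conj_mul w x P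
  have hyP : P.map (MulAut.conj (w * x)).toMonoidHom = P := by
    apply Subgroup.eq_of_le_of_card_ge
    · rw [hmul]
      exact SubpairLE.le hw
    · exact (Nat.card_congr (Subgroup.equivMapOfInjective _ _ (MulAut.conj (w * x)).injective).toEquiv).le
  have hyN : w * x ∈ Subgroup.normalizer (P : Set G) := mem_normalizer_of_map_conj hyP
  have hyK := normalizer_le_normalizer_centralizer P hyN
  have hX : (P.map (MulAut.conj x).toMonoidHom).map (MulAut.conj w).toMonoidHom = P := by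
    rw [← hmul]
    exact hyP
  have hH : SubpairLE p M P (conjB (w * x) (map_conj_of_mem_normalizer hyK) e) P e := by
    refine subpairLE_congr hX rfl ?_ (fun ξ₁ ξ₂ hξ => ?_) hw
    · intro ξ₁ ξ₂ hξ
      have hcP := map_conj_centralizer P x
      have hcP' := map_conj_centralizer (P.map (MulAut.conj x).toMonoidHom) w
      have hxy : (Subgroup.centralizer (P : Set G)).map (MulAut.conj (w * x)).toMonoidHom =
          Subgroup.centralizer (((P.map (MulAut.conj x).toMonoidHom).map (MulAut.conj w).toMonoidHom : Subgroup G) : Set G) := by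
        rw [map_conj_mul, hcP, hcP']
      rw [conjBlock_eq_conjB, ← conjB_mul hcP' hcP hxy, mem_conjB, mem_conjB]
      have h1 : irrComap (conjEq (w * x) hxy) ξ₁ = irrComap (conjEq (w * x) (map_conj_of_mem_normalizer hyK)) ξ₂ := by
        apply Subtype.ext
        funext k
        exact hξ _ _ rfl
      rw [h1]
    · have h1 : ξ₁ = ξ₂ := by
        apply Subtype.ext
        funext k
        exact hξ _ _ rfl
      rw [h1]
  have hye := eq_of_subpairLE hMpm hPe hH Relation.ReflTransGen.refl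
  have hyS : StabilizesBlock (Subgroup.centralizer (P : Set G)) e (w * x) := stabilizesBlock_iff.mpr ⟨hyK, hye⟩
  -- the inverse
  have hyi : (w * x)⁻¹ ∈ Subgroup.normalizer (P : Set G) := Subgroup.inv_mem _ hyN
  refine ⟨(w * x)⁻¹, hyi, ?_, w, hwK, ?_⟩
  · have hyiK := normalizer_le_normalizer_centralizer P hyi
    rw [stabilizesBlock_iff]
    refine ⟨hyiK, ?_⟩
    have h1 := conjB_mul (map_conj_of_mem_normalizer hyiK) (map_conj_of_mem_normalizer hyK) (by
      rw [inv_mul_cancel]; exact map_conj_of_mem_normalizer (Subgroup.one_mem _)) e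
    rw [hye] at h1
    rw [← h1]
    exact conjB_of_mem (by rw [inv_mul_cancel]; exact Subgroup.one_mem _) _ e
  · simp [hx]

end Pairs

section Count

variable {G : Type u} [Group G] [Fintype G] {M : Ideal AlgInt} [hMp : M.IsPrime] {p : ℕ} [hp : Fact p.Prime]

open Classical in
lemma inducedCentralChar_top (ξ : IrrCharacter (⊤ : Subgroup G)) (g : G) :
    inducedCentralChar (⊤ : Subgroup G) (ξ : (⊤ : Subgroup G) → ℂ) g =
      centralChar ((irrComap (Subgroup.topEquiv (G := G)).symm ξ : IrrCharacter G) : G → ℂ) g := by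
  letI : Fintype (⊤ : Subgroup G) := Fintype.ofFinite _
  rw [inducedCentralChar_eq_omega, ← omega_classSum (isClassFunction_of_irr (irrComap _ ξ).2)]
  unfold omega
  have e1 : ((irrComap (Subgroup.topEquiv (G := G)).symm ξ : IrrCharacter G) : G → ℂ) 1 = (ξ : (⊤ : Subgroup G) → ℂ) 1 := by
    simp [irrComap]
  rw [e1]
  congr 1
  refine Fintype.sum_equiv (Subgroup.topEquiv (G := G)).toEquiv _ _ fun h => ?_
  simp only [traceClassSum, coeff_ofFun]
  have e2 : ((irrComap (Subgroup.topEquiv (G := G)).symm ξ : IrrCharacter G) : G → ℂ) ((Subgroup.topEquiv (G := G)).toEquiv h) =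
      (ξ : (⊤ : Subgroup G) → ℂ) h := by
    show (ξ : (⊤ : Subgroup G) → ℂ) ((Subgroup.topEquiv (G := G)).symm ((Subgroup.topEquiv (G := G)) h)) = _
    rw [MulEquiv.symm_apply_apply]
  rw [e2]
  by_cases hc : IsConj g (h : G)
  · rw [if_pos hc]
    have h2 : (classSum g).coeff ((Subgroup.topEquiv (G := G)).toEquiv h) = 1 := coeff_classSum_of_isConj hc
    rw [h2]
  · rw [if_neg hc]
    have h2 : (classSum g).coeff ((Subgroup.topEquiv (G := G)).toEquiv h) = 0 := coeff_classSum_of_not_isConj hc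
    rw [h2]

/-- The first term of the sum. -/
lemma blockRank_inducers_top (χ₀ : IrrCharacter G) :
    blockRank p (inducers (⊤ : Subgroup G) M (χ₀ : G → ℂ)) = blockRank p (blockOf M (χ₀ : G → ℂ)) := by
  rw [← blockRank_blockMap (Subgroup.topEquiv (G := G))]
  congr 1
  ext ξ
  rw [mem_blockMap_iff]
  constructor
  · intro h g
    have h1 := h g
    rw [inducedCentralChar_top] at h1
    have h2 := memLocalIdeal_neg h1
    convert h2 using 1
    ring
  · intro h g
    have h1 := h g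
    rw [inducedCentralChar_top]
    have h2 := memLocalIdeal_neg h1
    convert h2 using 1
    ring

lemma mul_inv_mem_cz {x y g g₀ : G} (hg : g * y * g⁻¹ = x) (hg₀ : g₀ * y * g₀⁻¹ = x) : g * g₀⁻¹ ∈ CZ x := by
  rw [cz_eq_cen, Subgroup.mem_centralizer_singleton_iff]
  calc g * g₀⁻¹ * x = g * g₀⁻¹ * (g₀ * y * g₀⁻¹) := by rw [hg₀]
    _ = (g * y * g⁻¹) * (g * g₀⁻¹) := by group
    _ = x * (g * g₀⁻¹) := by rw [hg]

omit [Fintype G] in
lemma mem_cz_of_conj {a x : G} (h : a * x * a⁻¹ = x) : a ∈ CZ x := by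
  rw [cz_eq_cen, Subgroup.mem_centralizer_singleton_iff]
  calc a * x = a * x * a⁻¹ * a := by group
    _ = x * a := by rw [h]

lemma isPGroup_zpowers_of_mem {P : Subgroup G} (hP : IsPGroup p P) {y : G} (hy : y ∈ P) :
    IsPGroup p (Subgroup.zpowers y) :=
  hP.to_le (Subgroup.zpowers_le.mpr hy)

open Classical in
/-- The contribution of one class of elements. -/
theorem blockRank_inducers_cz (hM : IsPModular p M) (χ₀ : IrrCharacter G) {P : Subgroup G}
    {e : Set (IrrCharacter (Subgroup.centralizer (P : Set G)))}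
    (hmax : IsMaximalBrauerPair p M (blockOf M (χ₀ : G → ℂ)) P e) (hab : ∀ x ∈ P, ∀ y ∈ P, x * y = y * x)
    {T : Subgroup G}
    (hT : ∀ g : G, g ∈ T ↔ g ∈ Subgroup.normalizer (P : Set G) ∧ StabilizesBlock (Subgroup.centralizer (P : Set G)) e g)
    (R : Finset G) (hR : ∀ y ∈ R, y ∈ P ∧ y ≠ 1) (hR' : ∀ y ∈ P, y ≠ 1 → ∃! r, r ∈ R ∧ ∃ t ∈ T, t * y * t⁻¹ = r)
    (F : ∀ y : G, Set (IrrCharacter (CZ y)))
    (hF : ∀ y ∈ R, IsPBlock M (F y) ∧ SubpairLE p M (Subgroup.zpowers y) (F y) P e)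
    {x : G} (hx : ∃ k : ℕ, orderOf x = p ^ k) (hx1 : x ≠ 1) :
    blockRank p (inducers (CZ x) M (χ₀ : G → ℂ)) =
      ∑ y ∈ R.filter (fun y => IsConj y x), blockRank p (F y) := by
  classical
  letI : Fintype (CZ x) := Fintype.ofFinite _
  have hPe := hmax.1.1
  set Rx := R.filter (fun y => IsConj y x) with hRx
  let gOf : G → G := fun y => if h : IsConj y x then Classical.choose (isConj_iff.mp h) else 1
  have hgOf : ∀ y ∈ Rx, gOf y * y * (gOf y)⁻¹ = x := by
    intro y hy
    have h := (Finset.mem_filter.mp hy).2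
    simp only [gOf, dif_pos h]
    exact Classical.choose_spec (isConj_iff.mp h)
  let mv : G → Set (IrrCharacter (CZ x)) := fun y =>
    if h : gOf y * y * (gOf y)⁻¹ = x then conjB (gOf y) (map_conj_cz' h) (F y) else ∅
  have hmv : ∀ y ∈ Rx, ∀ (g : G) (hg : g * y * g⁻¹ = x), mv y = conjB g (map_conj_cz' hg) (F y) := by
    intro y hy g hg
    simp only [mv, dif_pos (hgOf y hy)]
    exact conjB_eq_of_mul_mem _ _ (mul_inv_mem_cz (hgOf y hy) hg) _
  have hmvB : ∀ y ∈ Rx, IsPBlock M (mv y) := by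
    intro y hy
    rw [hmv y hy _ (hgOf y hy)]
    exact isPBlock_conjB (hF y (Finset.mem_filter.mp hy).1).1
  have hpair : ∀ y ∈ R, IsBrauerPairOf p M (blockOf M (χ₀ : G → ℂ)) (Subgroup.zpowers y) (F y) := by
    intro y hy
    have hQf : IsBrauerPair p M (Subgroup.zpowers y) (F y) :=
      ⟨isPGroup_zpowers_of_mem hPe.1 (hR y hy).1, (hF y hy).1⟩
    exact (isBrauerPairOf_iff_of_subpairLE hM hQf (hF y hy).2).mp hmax.1
  have hQx : IsPGroup p (Subgroup.zpowers x) := by
    obtain ⟨k, hk⟩ := hx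
    rw [IsPGroup.iff_card, Nat.card_zpowers]
    exact ⟨k, hk⟩
  have hunion : inducers (CZ x) M (χ₀ : G → ℂ) = ⋃ b ∈ Rx.image mv, b := by
    rw [inducers_eq_biUnion]
    ext ξ
    simp only [Set.mem_iUnion, exists_prop, Set.mem_setOf_eq, Finset.mem_image]
    constructor
    · rintro ⟨b, hb, hξ⟩
      have hbp := isBrauerPairOf_of_induced hQx hb
      obtain ⟨g, hg⟩ := exists_conj_subpairLE hM hmax hbp
      have hy₁P : g * x * g⁻¹ ∈ P := SubpairLE.le hg ⟨x, Subgroup.mem_zpowers x, rfl⟩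
      have hy₁1 : g * x * g⁻¹ ≠ 1 := by
        intro h
        apply hx1
        have : x = g⁻¹ * (g * x * g⁻¹) * g := by group
        rw [this, h]
        group
      obtain ⟨r, ⟨hrR, t, htT, htr⟩, -⟩ := hR' _ hy₁P hy₁1
      obtain ⟨htN, hts⟩ := (hT t).mp htT
      have hw : (t * g) * x * (t * g)⁻¹ = r := by
        rw [← htr]
        group
      have htK := normalizer_le_normalizer_centralizer P htN
      obtain ⟨htK', hte⟩ := stabilizesBlock_iff.mp hts
      have hQ1 : ((Subgroup.zpowers x).map (MulAut.conj g).toMonoidHom).map (MulAut.conj t).toMonoidHom =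
          Subgroup.zpowers r := by
        rw [← map_conj_mul, map_conj_zpowers' hw]
      have hc1 : (Subgroup.centralizer (((Subgroup.zpowers x).map (MulAut.conj g).toMonoidHom : Subgroup G) : Set G)).map
          (MulAut.conj t).toMonoidHom = CZ r := by
        rw [map_conj_centralizer, hQ1]
      have h1 := subpairLE_conj_gen t hQ1 (map_conj_of_mem_normalizer htN) hc1
        (map_conj_of_mem_normalizer htK) hg
      rw [hte, conjBlock_eq_conjB, ← conjB_mul hc1 (map_conj_centralizer _ g) (map_conj_cz' hw)] at h1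
      have hFr := eq_of_subpairLE hM hPe (hF r hrR).2 h1
      have hrx : IsConj r x := by
        rw [isConj_iff]
        refine ⟨(t * g)⁻¹, ?_⟩
        rw [← hw]
        group
      have hrRx : r ∈ Rx := Finset.mem_filter.mpr ⟨hrR, hrx⟩
      refine ⟨b, ⟨r, hrRx, ?_⟩, hξ⟩
      rw [hmv r hrRx _ (hgOf r hrRx), hFr]
      have hgw : (gOf r * (t * g)) * x * (gOf r * (t * g))⁻¹ = x := by
        have h2 := hgOf r hrRx
        calc (gOf r * (t * g)) * x * (gOf r * (t * g))⁻¹ = gOf r * ((t * g) * x * (t * g)⁻¹) * (gOf r)⁻¹ := by group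
          _ = x := by rw [hw, h2]
      have hmemw : gOf r * (t * g) ∈ CZ x := mem_cz_of_conj hgw
      have hmapw : (CZ x).map (MulAut.conj (gOf r * (t * g))).toMonoidHom = CZ x := map_conj_cz' hgw
      rw [← conjB_mul (map_conj_cz' (hgOf r hrRx)) (map_conj_cz' hw) hmapw]
      exact conjB_of_mem hmemw hmapw b
    · rintro ⟨b, ⟨y, hy, rfl⟩, hξ⟩
      refine ⟨mv y, ?_, hξ⟩
      rw [hmv y hy _ (hgOf y hy)]
      have h2 := isBrauerPairOf_conj (gOf y) (map_conj_zpowers' (hgOf y hy)) (map_conj_cz' (hgOf y hy))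
        (hpair y (Finset.mem_filter.mp hy).1)
      exact isInducedBlock_of_brauerPair hM h2
  have hinj : Set.InjOn mv (Rx : Set G) := by
    intro y hy y' hy' hmm
    have hyRx : y ∈ Rx := hy
    have hyRx' : y' ∈ Rx := hy'
    have hyR := (Finset.mem_filter.mp hyRx).1
    have hyR' := (Finset.mem_filter.mp hyRx').1
    have hg₀ := hgOf y hyRx
    have hg₁ := hgOf y' hyRx'
    have hg₂ : ((gOf y')⁻¹ * gOf y) * y * ((gOf y')⁻¹ * gOf y)⁻¹ = y' := by
      calc ((gOf y')⁻¹ * gOf y) * y * ((gOf y')⁻¹ * gOf y)⁻¹ = (gOf y')⁻¹ * (gOf y * y * (gOf y)⁻¹) * gOf y' := by group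
        _ = (gOf y')⁻¹ * (gOf y' * y' * (gOf y')⁻¹) * gOf y' := by rw [hg₀, hg₁]
        _ = y' := by group
    have hinv : (gOf y')⁻¹ * x * ((gOf y')⁻¹)⁻¹ = y' := by
      rw [← hg₁]
      group
    have hmul : conjB ((gOf y')⁻¹ * gOf y) (map_conj_cz' hg₂) (F y) = F y' := by
      rw [conjB_mul (map_conj_cz' hinv) (map_conj_cz' hg₀) (map_conj_cz' hg₂), ← hmv y hyRx _ hg₀, hmm,
        hmv y' hyRx' _ hg₁, ← conjB_mul (map_conj_cz' hinv) (map_conj_cz' hg₁)
          (by rw [inv_mul_cancel]; exact map_conj_of_mem_normalizer (Subgroup.one_mem _))]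
      exact conjB_of_mem (by rw [inv_mul_cancel]; exact Subgroup.one_mem _) _ _
    have hle' : SubpairLE p M (Subgroup.zpowers y') (conjB ((gOf y')⁻¹ * gOf y) (map_conj_cz' hg₂) (F y)) P e := by
      rw [hmul]
      exact (hF y' hyR').2
    obtain ⟨t, htN, hts, c, hc, hgc⟩ := exists_mul_of_conj hM hmax hab
      (Subgroup.zpowers_le.mpr (hR y hyR).1) (hF y hyR).1 (hF y hyR).2 (map_conj_zpowers' hg₂) (map_conj_cz' hg₂) hle'
    have hcy : c * y = y * c := by
      have hc' : c ∈ Cen y := by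
        rw [← cz_eq_cen]
        exact hc
      rw [Subgroup.mem_centralizer_singleton_iff] at hc'
      exact hc'
    have hty : t * y * t⁻¹ = y' := by
      rw [← hg₂, hgc]
      calc t * y * t⁻¹ = t * (y * c) * c⁻¹ * t⁻¹ := by group
        _ = t * (c * y) * c⁻¹ * t⁻¹ := by rw [hcy]
        _ = _ := by group
    obtain ⟨r, -, hruniq⟩ := hR' y (hR y hyR).1 (hR y hyR).2
    have e1 := hruniq y ⟨hyR, 1, T.one_mem, by simp⟩
    have e2 := hruniq y' ⟨hyR', t, (hT t).mpr ⟨htN, hts⟩, hty⟩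
    rw [e1, e2]
  rw [hunion, blockRank_biUnion hM _ (fun b hb => by
    obtain ⟨y, hy, rfl⟩ := Finset.mem_image.mp hb
    exact hmvB y hy), Finset.sum_image hinj]
  refine Finset.sum_congr rfl fun y hy => ?_
  rw [hmv y hy _ (hgOf y hy)]
  exact blockRank_blockMap _ _

open Classical in
/-- **The number of characters of a block with abelian defect group**: `k(B) = l(B) + ∑_{y ∈ P#/T} l(f_y)`. -/
theorem card_eq_rank_add_sum (hM : IsPModular p M) (χ₀ : IrrCharacter G) {P : Subgroup G}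
    {e : Set (IrrCharacter (Subgroup.centralizer (P : Set G)))}
    (hmax : IsMaximalBrauerPair p M (blockOf M (χ₀ : G → ℂ)) P e) (hab : ∀ x ∈ P, ∀ y ∈ P, x * y = y * x)
    {T : Subgroup G}
    (hT : ∀ g : G, g ∈ T ↔ g ∈ Subgroup.normalizer (P : Set G) ∧ StabilizesBlock (Subgroup.centralizer (P : Set G)) e g)
    (R : Finset G) (hR : ∀ y ∈ R, y ∈ P ∧ y ≠ 1) (hR' : ∀ y ∈ P, y ≠ 1 → ∃! r, r ∈ R ∧ ∃ t ∈ T, t * y * t⁻¹ = r)
    (F : ∀ y : G, Set (IrrCharacter (CZ y)))
    (hF : ∀ y ∈ R, IsPBlock M (F y) ∧ SubpairLE p M (Subgroup.zpowers y) (F y) P e) :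
    Nat.card (blockOf M (χ₀ : G → ℂ)) = blockRank p (blockOf M (χ₀ : G → ℂ)) + ∑ y ∈ R, blockRank p (F y) := by
  classical
  have hPe := hmax.1.1
  -- the representatives
  set X : Finset G := (Finset.univ.image (fun c : ConjClasses G => c.out)).filter (fun x => ∃ k : ℕ, orderOf x = p ^ k) with hXdef
  have hX : ∀ x ∈ X, ∃ k : ℕ, orderOf x = p ^ k := fun x hx => (Finset.mem_filter.mp hx).2
  have hXrep : ∀ g : G, (∃ k : ℕ, orderOf g = p ^ k) → ∃! x, x ∈ X ∧ IsConj g x := by
    intro g hg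
    have hc : IsConj g (ConjClasses.mk g).out := (isConj_mk_out g).symm
    refine ⟨(ConjClasses.mk g).out, ⟨Finset.mem_filter.mpr ⟨Finset.mem_image.mpr ⟨_, Finset.mem_univ _, rfl⟩, ?_⟩, hc⟩, ?_⟩
    · obtain ⟨k, hk⟩ := hg
      refine ⟨k, ?_⟩
      obtain ⟨c, hc'⟩ := isConj_iff.mp hc
      rw [← hc', Cfsg.Agent.Lib.Blocks.Regular.orderOf_conj', hk]
    · rintro x ⟨hx, hgx⟩
      obtain ⟨c, -, rfl⟩ := Finset.mem_image.mp (Finset.mem_filter.mp hx).1
      have h1 : ConjClasses.mk g = c := by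
        rw [← Central.mk_out c]
        exact ConjClasses.mk_eq_mk_iff_isConj.mpr hgx
      rw [h1]
  have h1 := card_eq_sum_blockRank hM χ₀ X hX hXrep
  have hcz : ∀ x : G, blockRank p (inducers (Cen x) M (χ₀ : G → ℂ)) = blockRank p (inducers (CZ x) M (χ₀ : G → ℂ)) := by
    intro x
    rw [cz_eq_cen]
  have h1X : (1 : G) ∈ X := by
    obtain ⟨x, ⟨hx, hc⟩, -⟩ := hXrep 1 ⟨0, by simp⟩
    rwa [isConj_one_right.mp hc] at hx
  rw [h1, ← Finset.add_sum_erase X _ h1X, hcz 1]
  have htop : CZ (1 : G) = ⊤ := by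
    rw [cz_eq_cen]
    simp
  have hterm : blockRank p (inducers (CZ (1 : G)) M (χ₀ : G → ℂ)) = blockRank p (blockOf M (χ₀ : G → ℂ)) := by
    rw [htop]
    exact blockRank_inducers_top χ₀
  rw [hterm]
  congr 1
  have h2 : ∀ x ∈ X.erase 1, blockRank p (inducers (Cen x) M (χ₀ : G → ℂ)) =
      ∑ y ∈ R.filter (fun y => IsConj y x), blockRank p (F y) := by
    intro x hx
    rw [hcz]
    exact blockRank_inducers_cz hM χ₀ hmax hab hT R hR hR' F hF (hX x (Finset.mem_of_mem_erase hx)) (Finset.ne_of_mem_erase hx)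
  rw [Finset.sum_congr rfl h2]
  rw [Finset.sum_comm' (s' := fun y => (X.erase 1).filter (fun x => IsConj y x)) (t' := R)]
  · refine Finset.sum_congr rfl fun y hy => ?_
    have hyP := hR y hy
    have hpy : ∃ k : ℕ, orderOf y = p ^ k := exists_orderOf_eq_of_mem hPe.1 hyP.1
    obtain ⟨x, ⟨hx, hc⟩, hu⟩ := hXrep y hpy
    have hx1 : x ≠ 1 := by
      rintro rfl
      exact hyP.2 (isConj_one_right.mp hc.symm)
    have hs : (X.erase 1).filter (fun x => IsConj y x) = {x} := by
      ext x'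
      simp only [Finset.mem_filter, Finset.mem_erase, Finset.mem_singleton]
      constructor
      · rintro ⟨⟨-, hx'⟩, hc'⟩
        exact hu x' ⟨hx', hc'⟩
      · rintro rfl
        exact ⟨⟨hx1, hx⟩, hc⟩
    rw [hs, Finset.sum_singleton]
  · intro x y
    simp only [Finset.mem_filter]
    tauto

end Count

end Cfsg.Agent.Lib.Blocks.AbelianCount
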