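/-
Blocks of `G = P C_G(P)`: the characters `χ_λ(g) = λ(g_p) θ(g_p')` for a character `θ` of `p`-defect zero of
`G/P` and `λ ∈ Irr(P)`.
-/
import Mathlib
import Cfsg.Prelude.Def_Blocks
import Cfsg.Agent.Lib.Blocks.Dominate
import Cfsg.Agent.Lib.Char.BrauerInd
import Cfsg.Agent.Lib.Char.Virtual
import Cfsg.Agent.Lib.Char.PRegular
import Cfsg.Agent.S0914
import Cfsg.Agent.S0908
import Cfsg.Agent.S0952

set_option autoImplicit false

namespace Cfsg.Agent.Lib.Blocks.CentralProd

open Cfsg Cfsg.Agent.Lib.Blocks.Local Cfsg.Agent.Lib.Blocks.Central Cfsg.Agent.Lib.Blocks.Osima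
  Cfsg.Agent.Lib.Blocks.Covering Cfsg.Agent.Lib.Blocks.Kernel Cfsg.Agent.Lib.Blocks.Dominate
  Cfsg.Agent.Lib.Char.Basic Cfsg.Agent.Lib.Char.Induced Cfsg.Agent.Lib.Char.Virtual
open scoped ComplexConjugate

universe u

section Elem

variable {E : Type*} [Group E] [Fintype E]

/-- Decomposition of an elementary group as a direct product of its `p`-part and its `p'`-part. -/
lemma exists_decomp_of_isElementary (r p : ℕ) (hr : r.Prime) [hp : Fact p.Prime] (hE : IsElementary r E) :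
    ∃ (Q L : Subgroup E) (_ : Q.Normal) (_ : L.Normal), IsPGroup p Q ∧ (∀ h : L, ¬ p ∣ orderOf (h : E)) ∧
      ∃ Φ : Q × L ≃* E, ∀ z : Q × L, Φ z = (z.1 : E) * z.2 := by
  classical
  obtain ⟨L, hLn, ⟨b, hb⟩, hLp⟩ := Cfsg.Agent.Lib.Char.PRegular.exists_normal_pComplement_of_isElementary r p hr hE
  have hnil := Cfsg.Agent.Lib.Char.BrauerInd.IsElementary.isNilpotent hr hE
  obtain ⟨Q⟩ : Nonempty (Sylow p E) := inferInstance
  have hQn : (Q : Subgroup E).Normal :=
    Sylow.normal_of_normalizerCondition (Group.normalizerCondition_of_isNilpotent) Q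
  have hLmem := Cfsg.Agent.Lib.Char.PRegular.mem_iff_not_dvd_orderOf p L b hb hLp
  have hcop : Nat.Coprime (Nat.card (Q : Subgroup E)) (Nat.card L) := by
    obtain ⟨n, hn⟩ := IsPGroup.iff_card.1 Q.2
    rw [hn]
    exact Nat.Coprime.pow_left n ((Nat.Prime.coprime_iff_not_dvd hp.out).2 hLp)
  have hdisj : (Q : Subgroup E) ⊓ L = ⊥ := disjoint_iff.1 (Subgroup.disjoint_of_coprime_natCard hcop)
  have hcomm : ∀ u ∈ (Q : Subgroup E), ∀ h ∈ L, u * h = h * u := by
    intro u hu h hh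
    exact Subgroup.commute_of_normal_of_disjoint _ _ hQn hLn (disjoint_iff.2 hdisj) u h hu hh
  refine ⟨Q, L, hQn, hLn, Q.2, fun h => (hLmem h).1 h.2, ?_⟩
  let φ : (↥(Q : Subgroup E) × ↥L) →* E := MonoidHom.noncommCoprod (Q : Subgroup E).subtype L.subtype
    (fun a b => hcomm a a.2 b b.2)
  have hφ : ∀ z, φ z = (z.1 : E) * z.2 := fun z => rfl
  have hinj : Function.Injective φ := by
    rw [injective_iff_map_eq_one]
    rintro ⟨u, h⟩ hz
    rw [hφ] at hz
    have h1 : (u : E) = (h : E)⁻¹ := eq_inv_of_mul_eq_one_left hz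
    have h2 : (u : E) ∈ (Q : Subgroup E) ⊓ L := ⟨u.2, by rw [h1]; exact L.inv_mem h.2⟩
    rw [hdisj, Subgroup.mem_bot] at h2
    have h3 : (h : E) = 1 := by
      rw [h2] at hz
      simpa using hz
    exact Prod.ext (Subtype.ext h2) (Subtype.ext h3)
  have hsurj : Function.Surjective φ := by
    intro e
    obtain ⟨z, hz⟩ := Cfsg.Agent.Lib.Blocks.SecondMain.exists_isPPart p e
    obtain ⟨y, hzy, -, ⟨k, hk⟩, hy⟩ := hz
    have hzQ : z ∈ (Q : Subgroup E) := by
      have hzp : IsPGroup p (Subgroup.zpowers z) := by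
        rw [IsPGroup.iff_card, Nat.card_zpowers, hk]
        exact ⟨k, rfl⟩
      obtain ⟨S, hS⟩ := hzp.exists_le_sylow
      haveI : Subsingleton (Sylow p E) := (Sylow.unique_of_normal Q hQn).instSubsingleton
      rw [Subsingleton.elim S Q] at hS
      exact hS (Subgroup.mem_zpowers z)
    exact ⟨(⟨z, hzQ⟩, ⟨y, (hLmem y).2 hy⟩), hzy⟩
  exact ⟨MulEquiv.ofBijective φ ⟨hinj, hsurj⟩, fun z => rfl⟩

variable {Q L : Type*} [Group Q] [Group L] [Fintype Q] [Fintype L]

/-- The product of a character of `Q` and a generalized character of `L`. -/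
lemma isGeneralized_of_prod (Φ : Q × L ≃* E) {Λ : Q → ℂ} (hΛ : IsCharacter Q Λ) {ζ : L → ℂ}
    (hζ : IsGeneralizedCharacter L ζ) :
    IsGeneralizedCharacter E (fun e => Λ (Φ.symm e).1 * ζ (Φ.symm e).2) := by
  obtain ⟨ζ₁, ζ₂, h₁, h₂, rfl⟩ := hζ
  have hfst : IsCharacter E (fun e => Λ (Φ.symm e).1) :=
    isCharacter_comp_hom hΛ ((MonoidHom.fst Q L).comp Φ.symm.toMonoidHom)
  have hsnd₁ : IsCharacter E (fun e => ζ₁ (Φ.symm e).2) :=
    isCharacter_comp_hom h₁ ((MonoidHom.snd Q L).comp Φ.symm.toMonoidHom)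
  have hsnd₂ : IsCharacter E (fun e => ζ₂ (Φ.symm e).2) :=
    isCharacter_comp_hom h₂ ((MonoidHom.snd Q L).comp Φ.symm.toMonoidHom)
  refine ⟨_, _, isCharacter_mul hfst hsnd₁, isCharacter_mul hfst hsnd₂, ?_⟩
  funext e
  simp [mul_sub]

/-- The average over `Q` of a character of `Q × L` is a generalized character of `L`. -/
lemma isGeneralized_average {τ : Q × L → ℂ} (hτ : IsCharacter (Q × L) τ) :
    IsGeneralizedCharacter L (fun h => (Nat.card Q : ℂ)⁻¹ * ∑ u : Q, τ (u, h)) := by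
  classical
  haveI : Fintype (IrrCharacter L) := Fintype.ofFinite _
  set ζ : L → ℂ := fun h => (Nat.card Q : ℂ)⁻¹ * ∑ u : Q, τ (u, h) with hζ
  have hcl : IsClassFunction L ζ := by
    intro h k
    simp only [hζ]
    congr 1
    refine Finset.sum_congr rfl fun u _ => ?_
    have hτc : IsClassFunction (Q × L) τ := by
      obtain ⟨n, ρ, rfl⟩ := hτ
      exact fun g x => Representation.char_mul_comm ρ _ _ |>.trans (by simp)
    have := hτc (u, h) ((1 : Q), k)
    simpa using this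
  rw [Cfsg.Agent.Lib.Char.Complete.eq_sum_classInner ζ hcl]
  refine isGeneralized_finset_sum _ fun η _ => ?_
  have hη : IsCharacter (Q × L) (fun z : Q × L => (η : L → ℂ) z.2) :=
    isCharacter_comp_hom (isCharacter_of_isIrrCharacter η.2) (MonoidHom.snd Q L)
  obtain ⟨n, hn⟩ := exists_int_classInner (isGeneralized_of_isCharacter hτ) (isGeneralized_of_isCharacter hη)
  have h1 : classInner ζ (η : L → ℂ) = n := by
    rw [← hn, Cfsg.Agent.Lib.Char.Induced.classInner_def, Cfsg.Agent.Lib.Char.Induced.classInner_def,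
      Fintype.sum_prod_type_right, Nat.card_prod]
    simp only [hζ]
    push_cast
    rw [mul_inv]
    simp only [Finset.mul_sum, Finset.sum_mul]
    refine Finset.sum_congr rfl fun x _ => Finset.sum_congr rfl fun u _ => ?_
    ring
  rw [h1]
  exact isGeneralized_intCast_smul (isGeneralized_of_isIrr η.2) n

end Elem

section Main

open Cfsg.Agent.Lib.Blocks.SecondMain Cfsg.Agent.Lib.Blocks.Sections

variable {G : Type u} [Group G] [Fintype G] {p : ℕ} [hp : Fact p.Prime]

/-- The `p`-part of an element. -/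
noncomputable def pp (p : ℕ) [Fact p.Prime] (g : G) : G := Classical.choose (exists_isPPart p g)

lemma pp_spec (g : G) : IsPPart p g (pp p g) := Classical.choose_spec (exists_isPPart p g)

lemma pp_eq {g z : G} (h : IsPPart p g z) : pp p g = z := isPPart_unique (pp_spec g) h

lemma pp_conj (x g : G) : pp p (x * g * x⁻¹) = x * pp p g * x⁻¹ := pp_eq (isPPart_conj (pp_spec g) x)

lemma exists_nat_irr_one {X : Type*} [Group X] [Finite X] {χ : X → ℂ} (hχ : IsIrrCharacter X χ) :
    ∃ n : ℕ, 0 < n ∧ χ 1 = n := by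
  have h0 := Cfsg.Agent.Lib.Char.Ortho.irr_apply_one_ne_zero hχ
  obtain ⟨n, ρ, -, rfl⟩ := hχ
  refine ⟨n, ?_, ?_⟩
  · rcases Nat.eq_zero_or_pos n with rfl | h
    · exact absurd (by simp [Representation.char_one]) h0
    · exact h
  · simp [Representation.char_one]

variable (P : Subgroup G) [hPn : P.Normal]

open Classical in
/-- The function `g ↦ λ(g_p)` if `g_p ∈ P`, and zero otherwise. -/
noncomputable def hatFun (p : ℕ) [Fact p.Prime] (lam : P → ℂ) (g : G) : ℂ :=
  if h : pp p g ∈ P then lam ⟨pp p g, h⟩ else 0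

/-- The product `g ↦ λ(g_p) θ(g)`. -/
noncomputable def chiFun (p : ℕ) [Fact p.Prime] (lam : P → ℂ) (θ : G → ℂ) (g : G) : ℂ :=
  hatFun P p lam g * θ g

lemma exists_decomp (hG : P ⊔ Subgroup.centralizer (P : Set G) = ⊤) (x : G) :
    ∃ a ∈ P, ∃ c ∈ Subgroup.centralizer (P : Set G), a * c = x := by
  have h1 : x ∈ ((P ⊔ Subgroup.centralizer (P : Set G) : Subgroup G) : Set G) := by
    rw [hG]; trivial
  rw [Subgroup.mul_normal] at h1
  obtain ⟨a, ha, c, hc, rfl⟩ := h1
  exact ⟨a, ha, c, hc, rfl⟩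

lemma lam_conj (hG : P ⊔ Subgroup.centralizer (P : Set G) = ⊤) {lam : P → ℂ} (hlam : IsClassFunction P lam)
    (x : G) (u : P) : lam ⟨x * u * x⁻¹, hPn.conj_mem u u.2 x⟩ = lam u := by
  obtain ⟨a, ha, c, hc, rfl⟩ := exists_decomp P hG x
  have h1 := hlam u ⟨a, ha⟩
  rw [← h1]
  congr 1
  apply Subtype.ext
  have h2 : c * (u : G) * c⁻¹ = u := by
    rw [mul_inv_eq_iff_eq_mul]
    exact ((Subgroup.mem_centralizer_iff.1 hc) u u.2).symm
  show a * c * (u : G) * (a * c)⁻¹ = a * u * a⁻¹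
  calc a * c * (u : G) * (a * c)⁻¹ = a * (c * (u : G) * c⁻¹) * a⁻¹ := by group
    _ = a * u * a⁻¹ := by rw [h2]

lemma hatFun_conj (hG : P ⊔ Subgroup.centralizer (P : Set G) = ⊤) {lam : P → ℂ} (hlam : IsClassFunction P lam)
    (x g : G) : hatFun P p lam (x * g * x⁻¹) = hatFun P p lam g := by
  classical
  unfold hatFun
  have h1 := pp_conj (p := p) x g
  by_cases hg : pp p g ∈ P
  · have h2 : pp p (x * g * x⁻¹) ∈ P := by
      rw [h1]; exact hPn.conj_mem _ hg x
    rw [dif_pos hg, dif_pos h2]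
    rw [← lam_conj P hG hlam x ⟨_, hg⟩]
    congr 2
  · have h2 : pp p (x * g * x⁻¹) ∉ P := by
      rw [h1]
      intro h
      apply hg
      have := hPn.conj_mem _ h x⁻¹
      simpa [mul_assoc] using this
    rw [dif_neg hg, dif_neg h2]

lemma isClassFunction_chiFun (hG : P ⊔ Subgroup.centralizer (P : Set G) = ⊤) {lam : P → ℂ}
    (hlam : IsClassFunction P lam) {θ : G → ℂ} (hθ : IsClassFunction G θ) :
    IsClassFunction G (chiFun P p lam θ) := by
  intro g x
  unfold chiFun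
  rw [hatFun_conj P hG hlam, hθ]

lemma index_centralizer_eq (hPp : IsPGroup p P) (hG : P ⊔ Subgroup.centralizer (P : Set G) = ⊤) :
    ∃ k : ℕ, (Subgroup.centralizer (P : Set G)).index = p ^ k := by
  have h1 := Subgroup.relIndex_sup_right P (Subgroup.centralizer (P : Set G))
  rw [hG, Subgroup.relIndex_top_right] at h1
  rw [h1]
  obtain ⟨n, hn⟩ := IsPGroup.iff_card.1 hPp
  have h2 : (Subgroup.centralizer (P : Set G)).relIndex P ∣ Nat.card P := by
    rw [Subgroup.relIndex]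
    exact Subgroup.index_dvd_card _
  rw [hn] at h2
  obtain ⟨k, -, hk⟩ := (Nat.dvd_prime_pow hp.out).1 h2
  exact ⟨k, hk⟩

variable {P}

lemma mem_centralizer_of_reg (hC : ∃ k : ℕ, (Subgroup.centralizer (P : Set G)).index = p ^ k) {y : G}
    (hy : ¬ p ∣ orderOf y) : y ∈ Subgroup.centralizer (P : Set G) := by
  classical
  by_contra h
  exact hy (dvd_orderOf_of_notMem hC h)

lemma orderOf_pgroup (hPp : IsPGroup p P) (u : P) : ∃ k, orderOf (u : G) = p ^ k := by
  obtain ⟨k, hk⟩ := (IsPGroup.iff_orderOf.1 hPp) u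
  exact ⟨k, by rw [Subgroup.orderOf_coe, hk]⟩

lemma isPPart_mul (hPp : IsPGroup p P) (hC : ∃ k : ℕ, (Subgroup.centralizer (P : Set G)).index = p ^ k) {y : G}
    (hy : ¬ p ∣ orderOf y) (u : P) : IsPPart p (y * u) (u : G) := by
  have hcomm := (Subgroup.mem_centralizer_iff.1 (mem_centralizer_of_reg hC hy)) u u.2
  exact ⟨y, hcomm, hcomm, orderOf_pgroup hPp u, hy⟩

lemma hatFun_mul (hPp : IsPGroup p P) (hC : ∃ k : ℕ, (Subgroup.centralizer (P : Set G)).index = p ^ k) {y : G}
    (hy : ¬ p ∣ orderOf y) (lam : P → ℂ) (u : P) : hatFun P p lam (y * u) = lam u := by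
  classical
  unfold hatFun
  have h1 := pp_eq (isPPart_mul hPp hC hy u)
  have h2 : pp p (y * (u : G)) ∈ P := by rw [h1]; exact u.2
  rw [dif_pos h2]
  congr 1
  exact Subtype.ext h1

lemma comp_mk_mul (η : G ⧸ P → ℂ) (y : G) {u : G} (hu : u ∈ P) :
    (η ∘ QuotientGroup.mk) (y * u) = (η ∘ QuotientGroup.mk) y := by
  simp only [Function.comp_apply, QuotientGroup.mk_mul, (QuotientGroup.eq_one_iff u).2 hu, mul_one]

lemma comp_mk_mul' (η : G ⧸ P → ℂ) (y : G) {u : G} (hu : u ∈ P) :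
    (η ∘ QuotientGroup.mk) (u * y) = (η ∘ QuotientGroup.mk) y := by
  simp only [Function.comp_apply, QuotientGroup.mk_mul, (QuotientGroup.eq_one_iff u).2 hu, one_mul]

lemma comp_mk_eq_zero [Fintype (G ⧸ P)] {η : G ⧸ P → ℂ} (hvan : ∀ c : G ⧸ P, p ∣ orderOf c → η c = 0) {g : G}
    (hg : pp p g ∉ P) : (η ∘ QuotientGroup.mk) g = 0 := by
  classical
  apply hvan
  by_contra h
  apply hg
  refine Cfsg.Agent.Lib.Blocks.Laradji.pPart_mem_of_pow_mem (D := P) (pp_spec g) h ?_
  have h3 := pow_orderOf_eq_one (g : G ⧸ P)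
  rw [← QuotientGroup.mk_pow] at h3
  exact (QuotientGroup.eq_one_iff _).1 h3

/-- Sums over `G` in terms of the `p`-regular elements and `P`. -/
lemma sum_eq_sum_reg [Fintype P] (hPp : IsPGroup p P) (hC : ∃ k : ℕ, (Subgroup.centralizer (P : Set G)).index = p ^ k)
    (F : G → ℂ) (hF : ∀ g, pp p g ∉ P → F g = 0) :
    ∑ g, F g = ∑ y ∈ Finset.univ.filter (fun y : G => ¬ p ∣ orderOf y), ∑ u : P, F (y * u) := by
  classical
  rw [← Finset.sum_product']
  have h1 : ∑ g, F g = ∑ g ∈ Finset.univ.filter (fun g : G => pp p g ∈ P), F g := by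
    rw [Finset.sum_filter]
    refine Finset.sum_congr rfl fun g _ => ?_
    by_cases hg : pp p g ∈ P
    · rw [if_pos hg]
    · rw [if_neg hg, hF g hg]
  rw [h1]
  have hinv : ∀ g : G, (pp p g)⁻¹ * g * pp p g = g := by
    intro g
    obtain ⟨y, hzy, hcomm, -, -⟩ := pp_spec (p := p) g
    have : (pp p g)⁻¹ * g = y := inv_mul_eq_of_eq_mul hzy.symm
    rw [this, ← hcomm.eq, hzy]
  refine Finset.sum_bij' (fun g hg => ((pp p g)⁻¹ * g, ⟨pp p g, (Finset.mem_filter.1 hg).2⟩))
    (fun z _ => z.1 * z.2) ?_ ?_ ?_ ?_ ?_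
  · intro g hg
    obtain ⟨y, hzy, hcomm, -, hy⟩ := pp_spec (p := p) g
    simp only [Finset.mem_product, Finset.mem_filter, Finset.mem_univ, true_and, and_true]
    have : (pp p g)⁻¹ * g = y := inv_mul_eq_of_eq_mul hzy.symm
    rw [this]
    exact hy
  · intro z hz
    simp only [Finset.mem_product, Finset.mem_filter, Finset.mem_univ, true_and, and_true] at hz
    simp only [Finset.mem_filter, Finset.mem_univ, true_and]
    rw [pp_eq (isPPart_mul hPp hC hz z.2)]
    exact z.2.2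
  · intro g _
    exact hinv g
  · rintro ⟨y, u⟩ hz
    simp only [Finset.mem_product, Finset.mem_filter, Finset.mem_univ, true_and, and_true] at hz
    have h2 := pp_eq (isPPart_mul hPp hC hz u)
    refine Prod.ext ?_ (Subtype.ext h2)
    simp only [h2]
    have hcomm := (Subgroup.mem_centralizer_iff.1 (mem_centralizer_of_reg hC hz)) u u.2
    rw [← hcomm]
    group
  · intro g _
    show F g = F ((pp p g)⁻¹ * g * pp p g)
    rw [hinv g]

variable [Fintype (G ⧸ P)] [Fintype P]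

lemma sum_reg_norm (hPp : IsPGroup p P) (hC : ∃ k : ℕ, (Subgroup.centralizer (P : Set G)).index = p ^ k)
    {η : G ⧸ P → ℂ} (hη : IsIrrCharacter (G ⧸ P) η) (hvan : ∀ c : G ⧸ P, p ∣ orderOf c → η c = 0) :
    ∑ y ∈ Finset.univ.filter (fun y : G => ¬ p ∣ orderOf y), η (y : G ⧸ P) * conj (η (y : G ⧸ P)) =
      (Nat.card (G ⧸ P) : ℂ) := by
  classical
  have hQ0 : (Nat.card (G ⧸ P) : ℂ) ≠ 0 := Nat.cast_ne_zero.2 Nat.card_pos.ne'
  have h5 := sum_regular_eq P hPp hC (fun c => η c * conj (η c)) (fun c hc => by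
    simp only [hvan c hc, zero_mul])
  have h6 : ∑ y ∈ Finset.univ.filter (fun y : G => ¬ p ∣ orderOf y), η (y : G ⧸ P) * conj (η (y : G ⧸ P)) =
      ∑ g : G, if p ∣ orderOf g then 0 else η (g : G ⧸ P) * conj (η (g : G ⧸ P)) := by
    rw [Finset.sum_filter]
    refine Finset.sum_congr rfl fun g _ => ?_
    by_cases hc : p ∣ orderOf g
    · rw [if_pos hc, if_neg (not_not.2 hc)]
    · rw [if_neg hc, if_pos hc]
  rw [h6, h5]
  have h7 := Cfsg.Agent.Lib.Char.Virtual.classInner_irr_self hη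
  rw [Cfsg.Agent.Lib.Char.Induced.classInner_def] at h7
  field_simp at h7
  exact h7

/-- The norm of `χ_λ`. -/
theorem classInner_chiFun_self (hPp : IsPGroup p P) (hC : ∃ k : ℕ, (Subgroup.centralizer (P : Set G)).index = p ^ k)
    {lam : P → ℂ} (hlam : IsIrrCharacter P lam) {η : G ⧸ P → ℂ} (hη : IsIrrCharacter (G ⧸ P) η)
    (hvan : ∀ c : G ⧸ P, p ∣ orderOf c → η c = 0) :
    classInner (chiFun P p lam (η ∘ QuotientGroup.mk)) (chiFun P p lam (η ∘ QuotientGroup.mk)) = 1 := by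
  classical
  have hG0 : (Nat.card G : ℂ) ≠ 0 := Nat.cast_ne_zero.2 Nat.card_pos.ne'
  have hP0 : (Nat.card P : ℂ) ≠ 0 := Nat.cast_ne_zero.2 Nat.card_pos.ne'
  have hQ0 : (Nat.card (G ⧸ P) : ℂ) ≠ 0 := Nat.cast_ne_zero.2 Nat.card_pos.ne'
  rw [Cfsg.Agent.Lib.Char.Induced.classInner_def]
  have h1 := sum_eq_sum_reg (p := p) hPp hC (fun g => chiFun P p lam (η ∘ QuotientGroup.mk) g *
    conj (chiFun P p lam (η ∘ QuotientGroup.mk) g)) (fun g hg => by
      simp only [chiFun, comp_mk_eq_zero hvan hg, mul_zero, map_zero, mul_zero])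
  rw [h1]
  have h2 : ∀ y ∈ Finset.univ.filter (fun y : G => ¬ p ∣ orderOf y),
      ∑ u : P, chiFun P p lam (η ∘ QuotientGroup.mk) (y * u) *
        conj (chiFun P p lam (η ∘ QuotientGroup.mk) (y * u)) =
      (η (y : G ⧸ P) * conj (η (y : G ⧸ P))) * (Nat.card P : ℂ) := by
    intro y hy
    have hy' := (Finset.mem_filter.1 hy).2
    have h3 : ∀ u : P, chiFun P p lam (η ∘ QuotientGroup.mk) (y * u) *
        conj (chiFun P p lam (η ∘ QuotientGroup.mk) (y * u)) =
        (η (y : G ⧸ P) * conj (η (y : G ⧸ P))) * (lam u * conj (lam u)) := by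
      intro u
      simp only [chiFun, hatFun_mul hPp hC hy' lam u, comp_mk_mul η y u.2, Function.comp_apply, map_mul]
      ring
    rw [Finset.sum_congr rfl fun u _ => h3 u, ← Finset.mul_sum]
    congr 1
    have h4 := Cfsg.Agent.Lib.Char.Virtual.classInner_irr_self hlam
    rw [Cfsg.Agent.Lib.Char.Induced.classInner_def] at h4
    field_simp at h4
    exact h4
  rw [Finset.sum_congr rfl h2, ← Finset.sum_mul]
  rw [sum_reg_norm hPp hC hη hvan]
  have h9 : (Nat.card G : ℂ) = (Nat.card (G ⧸ P) : ℂ) * (Nat.card P : ℂ) := by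
    rw [Subgroup.card_eq_card_quotient_mul_card_subgroup P]
    push_cast
    rfl
  rw [h9]
  field_simp

/-- The restriction of `χ_λ` to an elementary subgroup is a generalized character. -/
theorem isGeneralized_restrict (hPp : IsPGroup p P) (hG : P ⊔ Subgroup.centralizer (P : Set G) = ⊤)
    {lam : P → ℂ} (hlam : IsIrrCharacter P lam) {η : G ⧸ P → ℂ} (hη : IsIrrCharacter (G ⧸ P) η)
    (hvan : ∀ c : G ⧸ P, p ∣ orderOf c → η c = 0) (E : Subgroup G) (r : ℕ) (hr : r.Prime)
    (hE : IsElementary r E) :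
    IsGeneralizedCharacter E (fun e : E => chiFun P p lam (η ∘ QuotientGroup.mk) e) := by
  classical
  haveI : Fintype E := Fintype.ofFinite _
  obtain ⟨Q, L, hQn, hLn, hQp, hLr, Φ, hΦ⟩ := exists_decomp_of_isElementary r p hr hE
  haveI : Fintype Q := Fintype.ofFinite _
  haveI : Fintype L := Fintype.ofFinite _
  have hlamc := Cfsg.Agent.Lib.Char.Values.IsIrrCharacter.isCharacter hlam
  have hlamcl : IsClassFunction P lam := isClassFunction_of_irr hlam
  set θ : G → ℂ := η ∘ QuotientGroup.mk with hθ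
  have hθc : IsCharacter G θ := isCharacter_comp_hom (Cfsg.Agent.Lib.Char.Values.IsIrrCharacter.isCharacter hη)
    (QuotientGroup.mk' P)
  -- the subgroup `T = Q ∩ P`
  let i : Q →* G := E.subtype.comp Q.subtype
  let T : Subgroup Q := P.comap i
  haveI : Fintype T := Fintype.ofFinite _
  have hTn : T.Normal := by
    refine ⟨fun t ht x => ?_⟩
    show i (x * t * x⁻¹) ∈ P
    rw [map_mul, map_mul, map_inv]
    exact hPn.conj_mem _ ht _
  let jT : T →* P := (i.comp T.subtype).codRestrict P (fun t => t.2)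
  have hjT : ∀ t : T, ((jT t : P) : G) = i t := fun _ => rfl
  have hlamT : IsCharacter T (fun t => lam (jT t)) := isCharacter_comp_hom hlamc jT
  have hΛ : IsCharacter Q (indFun T (fun t => lam (jT t))) :=
    Cfsg.Agent.Lib.Char.IndRep.isCharacter_indFun T hlamT
  have hQ0 : (Nat.card Q : ℂ) ≠ 0 := Nat.cast_ne_zero.2 Nat.card_pos.ne'
  have hT0 : (Nat.card T : ℂ) ≠ 0 := Nat.cast_ne_zero.2 Nat.card_pos.ne'
  have hΛval : ∀ (u : Q) (hu : i u ∈ P), indFun T (fun t => lam (jT t)) u =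
      (Nat.card T : ℂ)⁻¹ * (Nat.card Q : ℂ) * lam ⟨i u, hu⟩ := by
    intro u hu
    rw [indFun_apply]
    have h1 : ∀ x : Q, extendByZero T (fun t => lam (jT t)) (x⁻¹ * u * x) = lam ⟨i u, hu⟩ := by
      intro x
      have hx : x⁻¹ * u * x ∈ T := by
        have := hTn.conj_mem u hu x⁻¹
        simpa using this
      rw [extendByZero_of_mem _ _ hx]
      have h2 := lam_conj P hG hlamcl (i x⁻¹) ⟨i u, hu⟩
      rw [← h2]
      congr 1
      apply Subtype.ext
      show i (x⁻¹ * u * x) = i x⁻¹ * i u * (i x⁻¹)⁻¹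
      simp [map_mul, map_inv]
    simp only [h1, Finset.sum_const, Finset.card_univ, nsmul_eq_mul, ← Nat.card_eq_fintype_card]
    ring
  have hΛval' : ∀ (u : Q), i u ∉ P → indFun T (fun t => lam (jT t)) u = 0 := by
    intro u hu
    rw [indFun_apply]
    have h1 : ∀ x : Q, extendByZero T (fun t => lam (jT t)) (x⁻¹ * u * x) = 0 := by
      intro x
      apply extendByZero_of_notMem
      intro hx
      apply hu
      have := hTn.conj_mem _ hx x
      have h2 : x * (x⁻¹ * u * x) * x⁻¹ = u := by group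
      rw [h2] at this
      exact this
    simp [h1]
  -- the character on `Q × L`
  let τ : Q × L → ℂ := fun z => θ (Φ z)
  have hτ : IsCharacter (Q × L) τ :=
    isCharacter_comp_hom hθc (E.subtype.comp Φ.toMonoidHom)
  have hζ := isGeneralized_average hτ
  -- `p`-parts
  have hpart : ∀ (u : Q) (h : L), IsPPart p ((Φ (u, h) : E) : G) (i u) := by
    intro u h
    have hcomm : (u : E) * h = h * u := by
      exact Subgroup.commute_of_normal_of_disjoint _ _ hQn hLn
        (disjoint_iff.2 (disjoint_iff.1 (Subgroup.disjoint_of_coprime_natCard (by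
          obtain ⟨n, hn⟩ := IsPGroup.iff_card.1 hQp
          rw [hn]
          apply Nat.Coprime.pow_left
          rw [Nat.Prime.coprime_iff_not_dvd hp.out]
          intro hd
          obtain ⟨x, hx⟩ := exists_prime_orderOf_dvd_card' p hd
          exact hLr x (by rw [Subgroup.orderOf_coe, hx])) ))) u h u.2 h.2
    refine ⟨(h : G), ?_, ?_, ?_, ?_⟩
    · rw [hΦ]
      rfl
    · exact congrArg (Subtype.val) hcomm
    · obtain ⟨k, hk⟩ := (IsPGroup.iff_orderOf.1 hQp) u
      refine ⟨k, ?_⟩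
      show orderOf ((u : E) : G) = _
      rw [Subgroup.orderOf_coe, Subgroup.orderOf_coe, hk]
    · rw [show ((h : E) : G) = ((h : E) : G) from rfl, Subgroup.orderOf_coe]
      exact hLr h
  have hθval : ∀ (u : Q) (h : L), θ ((Φ (u, h) : E) : G) = if i u ∈ P then θ ((h : E) : G) else 0 := by
    intro u h
    by_cases hu : i u ∈ P
    · rw [if_pos hu, hΦ]
      exact comp_mk_mul' η _ hu
    · rw [if_neg hu]
      apply comp_mk_eq_zero hvan
      rw [pp_eq (hpart u h)]
      exact hu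
  have hζval : ∀ h : L, (Nat.card Q : ℂ)⁻¹ * ∑ u : Q, τ (u, h) =
      (Nat.card Q : ℂ)⁻¹ * (Nat.card T : ℂ) * θ ((h : E) : G) := by
    intro h
    rw [mul_assoc]
    congr 1
    simp only [τ, hθval]
    rw [← Finset.sum_filter, Finset.sum_const, nsmul_eq_mul]
    congr 2
    rw [← Nat.card_eq_finsetCard]
    exact Nat.card_congr (Equiv.subtypeEquivRight (fun u => by simp [T, Subgroup.mem_comap]))
  have hgen := isGeneralized_of_prod Φ hΛ hζ
  convert hgen using 1
  funext e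
  obtain ⟨⟨u, h⟩, rfl⟩ := Φ.surjective e
  simp only [MulEquiv.symm_apply_apply]
  rw [hζval]
  unfold chiFun
  rw [hθval]
  by_cases hu : i u ∈ P
  · rw [if_pos hu, hΛval u hu]
    have h1 : hatFun P p lam ((Φ (u, h) : E) : G) = lam ⟨i u, hu⟩ := by
      classical
      unfold hatFun
      have h2 := pp_eq (hpart u h)
      have h3 : pp p ((Φ (u, h) : E) : G) ∈ P := by rw [h2]; exact hu
      rw [dif_pos h3]
      congr 1
      exact Subtype.ext h2
    rw [h1]
    field_simp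
  · rw [if_neg hu, hΛval' u hu]
    ring

/-- `χ_λ` is irreducible. -/
theorem isIrr_chiFun (hPp : IsPGroup p P) (hG : P ⊔ Subgroup.centralizer (P : Set G) = ⊤)
    {lam : P → ℂ} (hlam : IsIrrCharacter P lam) {η : G ⧸ P → ℂ} (hη : IsIrrCharacter (G ⧸ P) η)
    (hvan : ∀ c : G ⧸ P, p ∣ orderOf c → η c = 0) :
    IsIrrCharacter G (chiFun P p lam (η ∘ QuotientGroup.mk)) := by
  classical
  have hC := index_centralizer_eq P hPp hG
  have hcl : IsClassFunction G (chiFun P p lam (η ∘ QuotientGroup.mk)) := by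
    refine isClassFunction_chiFun P hG (isClassFunction_of_irr hlam) ?_
    exact isClassFunction_of_irr (isIrrCharacter_comp_surjective hη (QuotientGroup.mk' P)
      (QuotientGroup.mk'_surjective P))
  have hgen := Cfsg.Agent.Lib.Char.BrauerInd.isGeneralized_of_restrict hcl
    (fun E r hr hE => isGeneralized_restrict hPp hG hlam hη hvan E r hr hE)
  have hn := classInner_chiFun_self hPp hC hlam hη hvan
  rcases isSignedIrr_of_norm_one hgen hn with h | h
  · exact h
  · exfalso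
    obtain ⟨n₁, hn₁, h₁⟩ := exists_nat_irr_one h
    obtain ⟨n₂, hn₂, h₂⟩ := exists_nat_irr_one hlam
    obtain ⟨n₃, hn₃, h₃⟩ := exists_nat_irr_one hη
    have h1 : chiFun P p lam (η ∘ QuotientGroup.mk) 1 = (n₂ * n₃ : ℕ) := by
      have h4 := hatFun_mul (p := p) (P := P) hPp hC (y := 1) (by simpa using hp.out.ne_one) lam 1
      have h5 : hatFun P p lam 1 = lam 1 := by simpa using h4
      simp only [chiFun, h5, Function.comp_apply, QuotientGroup.mk_one, h₂, h₃]
      push_cast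
      rfl
    rw [Pi.neg_apply, h1] at h₁
    have h6 : ((n₁ + n₂ * n₃ : ℕ) : ℂ) = 0 := by
      push_cast
      push_cast at h₁
      linear_combination -h₁
    have h7 : n₁ + n₂ * n₃ = 0 := by exact_mod_cast h6
    omega

/-- `χ_λ` lies in the block of the inflation of `η`. -/
theorem sameBlock_chiFun {M : Ideal AlgInt} [M.IsPrime] (hM : IsPModular p M) (hPp : IsPGroup p P)
    (hG : P ⊔ Subgroup.centralizer (P : Set G) = ⊤)
    {lam : P → ℂ} (hlam : IsIrrCharacter P lam) {η : G ⧸ P → ℂ} (hη : IsIrrCharacter (G ⧸ P) η)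
    (hvan : ∀ c : G ⧸ P, p ∣ orderOf c → η c = 0) :
    SameBlock M (η ∘ QuotientGroup.mk) (chiFun P p lam (η ∘ QuotientGroup.mk)) := by
  classical
  have hC := index_centralizer_eq P hPp hG
  have hη' : IsIrrCharacter G (η ∘ QuotientGroup.mk) := isIrrCharacter_comp_surjective hη (QuotientGroup.mk' P)
      (QuotientGroup.mk'_surjective P)
  by_contra hne
  have h1 := Cfsg.Agent.S0952.result p M hM ⟨_, hη'⟩ ⟨_, isIrr_chiFun hPp hG hlam hη hvan⟩ hne
  simp only at h1
  rw [Cfsg.Agent.Lib.Blocks.Osima.finsum_mem_eq_sum_filter] at h1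
  have h2 : ∀ y ∈ Finset.univ.filter (fun y : G => ¬ p ∣ orderOf y),
      (η ∘ QuotientGroup.mk) y * conj (chiFun P p lam (η ∘ QuotientGroup.mk) y) =
      conj (lam 1) * ((η (y : G ⧸ P)) * conj (η (y : G ⧸ P))) := by
    intro y hy
    have hy' := (Finset.mem_filter.1 hy).2
    have h4 := hatFun_mul (p := p) (P := P) hPp hC hy' lam 1
    have h5 : hatFun P p lam y = lam 1 := by simpa using h4
    simp only [chiFun, h5, map_mul, Function.comp_apply]
    ring
  have h1' : ∑ y ∈ Finset.univ.filter (fun y : G => ¬ p ∣ orderOf y),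
      (η ∘ QuotientGroup.mk) y * conj (chiFun P p lam (η ∘ QuotientGroup.mk) y) = 0 := by
    rw [← h1]
    exact Finset.sum_congr (by ext x; simp) (fun _ _ => rfl)
  rw [Finset.sum_congr rfl h2, ← Finset.mul_sum, sum_reg_norm hPp hC hη hvan] at h1'
  obtain ⟨n, hn, hn'⟩ := exists_nat_irr_one hlam
  have h7 : conj (lam 1) ≠ 0 := by
    rw [hn', map_natCast]
    exact Nat.cast_ne_zero.2 hn.ne'
  exact (mul_ne_zero h7 (Nat.cast_ne_zero.2 Nat.card_pos.ne')) h1'

/-- For `G = P C_G(P)` and a character `η` of defect zero of `G/P` whose inflation is the only member of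
the block `B` with `P` in its kernel, the map `λ ↦ χ_λ` is a bijection from `Irr(P)` to `B`. -/
theorem card_block_eq {M : Ideal AlgInt} [M.IsPrime] (hM : IsPModular p M) (hPp : IsPGroup p P)
    (hG : P ⊔ Subgroup.centralizer (P : Set G) = ⊤) {η : G ⧸ P → ℂ} (hη : IsIrrCharacter (G ⧸ P) η)
    (hvan : ∀ c : G ⧸ P, p ∣ orderOf c → η c = 0) {B : Set (IrrCharacter G)} (hB : IsPBlock M B)
    {θ : IrrCharacter G} (hθB : θ ∈ B) (hθ : (θ : G → ℂ) = η ∘ QuotientGroup.mk)
    (huniq : ∀ χ ∈ B, (∀ n ∈ P, (χ : G → ℂ) n = (χ : G → ℂ) 1) → χ = θ) :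
    Nat.card B = Nat.card (ConjClasses P) := by
  classical
  have hC := index_centralizer_eq P hPp hG
  let f : IrrCharacter P → IrrCharacter G := fun lam =>
    ⟨chiFun P p (lam : P → ℂ) (η ∘ QuotientGroup.mk), isIrr_chiFun hPp hG lam.2 hη hvan⟩
  have hf : ∀ lam, (f lam : G → ℂ) = chiFun P p (lam : P → ℂ) (η ∘ QuotientGroup.mk) := fun _ => rfl
  have hmem : ∀ lam, f lam ∈ B := by
    intro lam
    obtain ⟨χ₀, rfl⟩ := id hB
    refine sameBlock_trans hθB ?_
    show SameBlock M (θ : G → ℂ) (chiFun P p (lam : P → ℂ) (η ∘ QuotientGroup.mk))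
    rw [hθ]
    exact sameBlock_chiFun hM hPp hG lam.2 hη hvan
  obtain ⟨n₀, hn₀, hn₀'⟩ := exists_nat_irr_one θ.2
  have hθ1 : (η ∘ QuotientGroup.mk) (1 : G) = n₀ := by rw [← hθ]; exact hn₀'
  have hfu : ∀ (lam : IrrCharacter P) (u : P), (f lam : G → ℂ) u = (lam : P → ℂ) u * n₀ := by
    intro lam u
    rw [hf]
    unfold chiFun
    have h1 := hatFun_mul (p := p) (P := P) hPp hC (y := 1) (by simpa using hp.out.ne_one) (lam : P → ℂ) u
    rw [one_mul] at h1
    rw [h1]
    congr 1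
    have h2 := comp_mk_mul η (1 : G) u.2
    rw [one_mul] at h2
    rw [h2, hθ1]
  have hn₀C : (n₀ : ℂ) ≠ 0 := Nat.cast_ne_zero.2 hn₀.ne'
  have hinj : Function.Injective f := by
    intro lam lam' h
    apply Subtype.ext
    funext u
    have h1 := hfu lam u
    rw [h, hfu lam' u] at h1
    exact (mul_right_cancel₀ hn₀C h1).symm
  -- the degrees
  set d : IrrCharacter G → ℂ := fun χ => (χ : G → ℂ) 1 * conj ((χ : G → ℂ) 1) with hd
  have hT := sum_deg_sq P hM hPp hB
  have hθker : ∀ n ∈ P, (θ : G → ℂ) n = (θ : G → ℂ) 1 := by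
    intro n hn
    rw [hθ]
    have h2 := comp_mk_mul η (1 : G) hn
    rwa [one_mul] at h2
  have hfil : Finset.univ.filter (fun χ : IrrCharacter G => χ ∈ B ∧
      ∀ n ∈ P, (χ : G → ℂ) n = (χ : G → ℂ) 1) = {θ} := by
    ext χ
    simp only [Finset.mem_filter, Finset.mem_univ, true_and, Finset.mem_singleton]
    constructor
    · rintro ⟨h1, h2⟩
      exact huniq χ h1 h2
    · rintro rfl
      exact ⟨hθB, hθker⟩
  rw [hfil, Finset.sum_singleton] at hT
  have hS : ∑ χ ∈ Finset.univ.image f, d χ = (Nat.card P : ℂ) * d θ := by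
    rw [Finset.sum_image (fun a _ b _ h => hinj h)]
    have h1 : ∀ lam : IrrCharacter P, d (f lam) = (lam : P → ℂ) 1 ^ 2 * d θ := by
      intro lam
      simp only [hd]
      have h2 := hfu lam 1
      have h3 : ((1 : P) : G) = 1 := rfl
      rw [h3] at h2
      rw [h2, hn₀', map_mul, Cfsg.Agent.Lib.Char.CompleteCor.conj_apply_one lam.2, map_natCast]
      ring
    rw [Finset.sum_congr rfl fun lam _ => h1 lam, ← Finset.sum_mul,
      Cfsg.Agent.Lib.Char.CompleteCor.sum_sq_degrees]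
  have hsub : Finset.univ.image f ⊆ Finset.univ.filter (· ∈ B) := by
    intro χ hχ
    obtain ⟨lam, -, rfl⟩ := Finset.mem_image.1 hχ
    exact Finset.mem_filter.2 ⟨Finset.mem_univ _, hmem lam⟩
  have hzero := Finset.sum_sdiff (f := d) hsub
  have hzero' : ∑ χ ∈ Finset.univ.filter (· ∈ B) \ Finset.univ.image f, d χ = 0 := by
    have h1 : ∑ χ ∈ Finset.univ.filter (· ∈ B), d χ = (Nat.card P : ℂ) * d θ := hT
    rw [hS, h1] at hzero
    simpa using hzero
  have hempty : Finset.univ.filter (· ∈ B) \ Finset.univ.image f = ∅ := by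
    by_contra hne
    obtain ⟨χ, hχ⟩ := Finset.nonempty_iff_ne_empty.2 hne
    have h1 : ∀ ψ : IrrCharacter G, d ψ = ((Complex.normSq ((ψ : G → ℂ) 1) : ℝ) : ℂ) := by
      intro ψ
      simp only [hd]
      rw [Complex.mul_conj]
    rw [Finset.sum_congr rfl fun ψ _ => h1 ψ, ← Complex.ofReal_sum, Complex.ofReal_eq_zero] at hzero'
    have h2 := (Finset.sum_eq_zero_iff_of_nonneg (fun ψ _ => Complex.normSq_nonneg _)).1 hzero' χ hχ
    rw [map_eq_zero] at h2
    exact Cfsg.Agent.Lib.Char.Ortho.irr_apply_one_ne_zero χ.2 h2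
  have hsurj : ∀ χ ∈ B, ∃ lam, f lam = χ := by
    intro χ hχ
    by_contra hcon
    have h1 : χ ∈ Finset.univ.filter (· ∈ B) \ Finset.univ.image f := by
      refine Finset.mem_sdiff.2 ⟨Finset.mem_filter.2 ⟨Finset.mem_univ _, hχ⟩, fun h => ?_⟩
      obtain ⟨lam, -, hl⟩ := Finset.mem_image.1 h
      exact hcon ⟨lam, hl⟩
    rw [hempty] at h1
    exact absurd h1 (Finset.notMem_empty _)
  rw [← Cfsg.Agent.Lib.Char.CompleteCor.card_irr_eq_card_conjClasses]
  symm
  refine Nat.card_eq_of_bijective (fun lam => (⟨f lam, hmem lam⟩ : B)) ⟨?_, ?_⟩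
  · intro a b h
    exact hinj (congrArg Subtype.val h)
  · rintro ⟨χ, hχ⟩
    obtain ⟨lam, hl⟩ := hsurj χ hχ
    exact ⟨lam, Subtype.ext hl⟩

end Main

end Cfsg.Agent.Lib.Blocks.CentralProd
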