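import Mathlib
import Cfsg.Prelude.Def_BlockRank
import Cfsg.Agent.Lib.Blocks.CentralProd
import Cfsg.Agent.Lib.Blocks.Cartan
import Cfsg.Agent.S0968

/-!
# Blocks of `G = P C_G(P)` with defect group `P`

`exists_structure`: the members of the block are exactly the functions `χ_λ = λ(g_p) θ(g)`, `λ ∈ Irr(P)`,
for the canonical character `θ`; `blockRank_eq_one`: such a block has rank one.
-/

set_option autoImplicit false

namespace Cfsg.Agent.Lib.Blocks.CentralProd2

open Cfsg Cfsg.Agent.Lib.Blocks.Local Cfsg.Agent.Lib.Blocks.Central Cfsg.Agent.Lib.Blocks.Osima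
  Cfsg.Agent.Lib.Blocks.Covering Cfsg.Agent.Lib.Blocks.Kernel Cfsg.Agent.Lib.Blocks.Dominate
  Cfsg.Agent.Lib.Blocks.CentralProd Cfsg.Agent.Lib.Blocks.Cartan
  Cfsg.Agent.Lib.Blocks.SecondMain Cfsg.Agent.Lib.Blocks.Sections
open scoped ComplexConjugate

universe u

variable {G : Type u} [Group G] [Fintype G] {p : ℕ} [hp : Fact p.Prime] {P : Subgroup G}

/-- The structure of a block with defect group `P`, when `G = P C_G(P)`. -/
theorem exists_structure {M : Ideal AlgInt} (hM : IsPModular p M) (hPp : IsPGroup p P)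
    (hG : P ⊔ Subgroup.centralizer (P : Set G) = ⊤) {B : Set (IrrCharacter G)} (hB : IsPBlock M B)
    (hD : IsDefectGroup p M B P) : ∃ θ : IrrCharacter G, θ ∈ B ∧ (∀ n ∈ P, (θ : G → ℂ) n = (θ : G → ℂ) 1) ∧
      (∀ χ ∈ B, (∀ n ∈ P, (χ : G → ℂ) n = (χ : G → ℂ) 1) → χ = θ) ∧
      ∃ hPn : P.Normal, (∀ χ : IrrCharacter G, χ ∈ B ↔ ∃ lam : IrrCharacter P,
        (χ : G → ℂ) = chiFun P p (lam : P → ℂ) (θ : G → ℂ)) ∧
        ∀ lam : IrrCharacter P, ∃ χ ∈ B, (χ : G → ℂ) = chiFun P p (lam : P → ℂ) (θ : G → ℂ) := by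
  classical
  haveI hMp := isPrime_of_isPModular hM
  haveI : Fintype P := Fintype.ofFinite _
  haveI hPn : P.Normal := by
    rw [← Subgroup.normalizer_eq_top_iff, eq_top_iff, ← hG]
    exact sup_le Subgroup.le_normalizer (Subgroup.centralizer_le_normalizer _)
  haveI : Fintype (G ⧸ P) := Fintype.ofFinite _
  obtain ⟨⟨θ, ⟨hθB, hθk⟩, huniq'⟩, hdeg, hcard⟩ := Cfsg.Agent.S0968.result p M hM P hPp hG B hB hD
  have huniq : ∀ χ ∈ B, (∀ n ∈ P, (χ : G → ℂ) n = (χ : G → ℂ) 1) → χ = θ :=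
    fun χ hχ hk => huniq' χ ⟨hχ, hk⟩
  refine ⟨θ, hθB, hθk, huniq, hPn, ?_⟩
  obtain ⟨η, hη⟩ := Cfsg.Agent.Lib.Blocks.Kernel.exists_irr_of_kernel P θ.2 hθk
  have hC := index_centralizer_eq P hPp hG
  have hcomp : ∀ η : G ⧸ P → ℂ, Cfsg.charDegree (η ∘ QuotientGroup.mk) = Cfsg.charDegree η := by
    intro η
    simp [Cfsg.charDegree]
  have hcardq : Nat.card (G ⧸ P) = P.index := rfl
  have hdz : Cfsg.blockOf M (η : G ⧸ P → ℂ) = {η} := by
    rw [← Cfsg.Agent.S0914.result p M hM η]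
    intro hd
    have h1 := hdeg θ hθB hθk
    rw [hη, hcomp] at h1
    have h2 := Cfsg.Agent.Lib.Blocks.HeightZero.charDegree_dvd_card η.2
    rw [hcardq] at h2 hd
    obtain ⟨c, hc⟩ := h2
    have hdne : Cfsg.charDegree (η : G ⧸ P → ℂ) ≠ 0 := by
      intro h0
      rw [h0, zero_mul] at hc
      exact Subgroup.index_ne_zero_of_finite hc
    rw [hc, Nat.mul_div_cancel_left _ (Nat.pos_of_ne_zero hdne)] at hd
    have hc0 : c ≠ 0 := by
      intro h0
      rw [h0, mul_zero] at hc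
      exact Subgroup.index_ne_zero_of_finite hc
    have h3 : P.index.factorization p = (Cfsg.charDegree (η : G ⧸ P → ℂ)).factorization p + c.factorization p := by
      rw [hc, Nat.factorization_mul hdne hc0]
      rfl
    have h4 : 1 ≤ c.factorization p :=
      (Nat.Prime.dvd_iff_one_le_factorization (Fact.out : p.Prime) hc0).1 hd
    omega
  have hvan : ∀ c : G ⧸ P, p ∣ orderOf c → (η : G ⧸ P → ℂ) c = 0 := by
    intro c hc
    have h1 := Cfsg.Agent.Lib.Blocks.Covering.blockCoeff_eq_zero_of_dvd hM (B := Cfsg.blockOf M (η : G ⧸ P → ℂ))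
      ⟨η, rfl⟩ hc
    rw [hdz, Cfsg.blockCoeff, finsum_mem_singleton] at h1
    have h2 := Cfsg.Agent.Lib.Char.Ortho.irr_apply_one_ne_zero η.2
    have hq : (Nat.card (G ⧸ P) : ℂ) ≠ 0 := Nat.cast_ne_zero.2 Nat.card_pos.ne'
    have h3 : (starRingEnd ℂ) ((η : G ⧸ P → ℂ) c) = 0 := by
      rcases mul_eq_zero.1 h1 with h3 | h3
      · exact absurd h3 (inv_ne_zero hq)
      · exact (mul_eq_zero.1 h3).resolve_left h2
    simpa using h3
  -- the injection
  let f : IrrCharacter P → IrrCharacter G := fun lam =>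
    ⟨chiFun P p (lam : P → ℂ) ((η : G ⧸ P → ℂ) ∘ QuotientGroup.mk), isIrr_chiFun hPp hG lam.2 η.2 hvan⟩
  have hf : ∀ lam, (f lam : G → ℂ) = chiFun P p (lam : P → ℂ) ((η : G ⧸ P → ℂ) ∘ QuotientGroup.mk) := fun _ => rfl
  have hmem : ∀ lam, f lam ∈ B := by
    intro lam
    obtain ⟨χ₀, rfl⟩ := id hB
    refine sameBlock_trans hθB ?_
    show SameBlock M (θ : G → ℂ) (chiFun P p (lam : P → ℂ) ((η : G ⧸ P → ℂ) ∘ QuotientGroup.mk))
    rw [hη]
    exact sameBlock_chiFun hM hPp hG lam.2 η.2 hvan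
  obtain ⟨n₀, hn₀, hn₀'⟩ := exists_nat_irr_one θ.2
  have hθ1 : ((η : G ⧸ P → ℂ) ∘ QuotientGroup.mk) (1 : G) = n₀ := by rw [← hη]; exact hn₀'
  have hfu : ∀ (lam : IrrCharacter P) (u : P), (f lam : G → ℂ) u = (lam : P → ℂ) u * n₀ := by
    intro lam u
    rw [hf]
    unfold chiFun
    have h1 := hatFun_mul (p := p) (P := P) hPp hC (y := 1) (by simpa using hp.out.ne_one) (lam : P → ℂ) u
    rw [one_mul] at h1
    rw [h1]
    congr 1
    have h2 := comp_mk_mul (η : G ⧸ P → ℂ) (1 : G) u.2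
    rw [one_mul] at h2
    rw [h2, hθ1]
  have hn₀C : (n₀ : ℂ) ≠ 0 := Nat.cast_ne_zero.2 hn₀.ne'
  have hinj : Function.Injective f := by
    intro lam lam' h
    apply Subtype.ext
    funext u
    have h1 := hfu lam u
    rw [h, hfu lam' u] at h1
    exact (mul_right_cancel₀ hn₀C h1).symm
  -- counting
  have hcard2 : Nat.card (IrrCharacter P) = Nat.card B := by
    rw [hcard, Cfsg.Agent.Lib.Char.CompleteCor.card_irr_eq_card_conjClasses]
  have hbij : Function.Bijective (fun lam => (⟨f lam, hmem lam⟩ : B)) := by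
    rw [Nat.bijective_iff_injective_and_card]
    refine ⟨fun a b h => hinj (congrArg Subtype.val h), hcard2⟩
  refine ⟨fun χ => ?_, fun lam => ⟨f lam, hmem lam, by rw [hf, hη]⟩⟩
  constructor
  · intro hχ
    obtain ⟨lam, hl⟩ := hbij.2 ⟨χ, hχ⟩
    refine ⟨lam, ?_⟩
    have := congrArg (fun w : B => ((w : IrrCharacter G) : G → ℂ)) hl
    simp only at this
    rw [← this, hf, hη]
  · rintro ⟨lam, hl⟩
    have : χ = f lam := by
      apply Subtype.ext
      rw [hl, hf, hη]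
    rw [this]
    exact hmem lam

/-- A regular element has trivial `p`-part. -/
lemma pp_of_regular {y : G} (hy : ¬ p ∣ orderOf y) : pp p y = 1 :=
  pp_eq ⟨y, one_mul y, Commute.one_left y, ⟨0, by simp⟩, hy⟩

/-- On `p`-regular elements, `χ_λ = λ(1) θ`. -/
lemma chiFun_of_regular (P : Subgroup G) {lam : P → ℂ} (θ : G → ℂ) {y : G} (hy : ¬ p ∣ orderOf y) :
    chiFun P p lam θ y = lam 1 * θ y := by
  classical
  unfold chiFun hatFun
  have h1 : pp p y ∈ P := by rw [pp_of_regular hy]; exact P.one_mem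
  rw [dif_pos h1]
  congr 2
  exact Subtype.ext (pp_of_regular hy)

/-- **A block with defect group `P`, `G = P C_G(P)`, has rank one.** -/
theorem blockRank_eq_one {M : Ideal AlgInt} (hM : IsPModular p M) (hPp : IsPGroup p P)
    (hG : P ⊔ Subgroup.centralizer (P : Set G) = ⊤) {B : Set (IrrCharacter G)} (hB : IsPBlock M B)
    (hD : IsDefectGroup p M B P) : blockRank p B = 1 := by
  classical
  obtain ⟨θ, hθB, -, -, hPn, hmem, -⟩ := exists_structure hM hPp hG hB hD
  have hspan : Submodule.span ℂ ((fun χ : IrrCharacter G => pRegularPart p (χ : G → ℂ)) '' B) =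
      Submodule.span ℂ {pRegularPart p (θ : G → ℂ)} := by
    apply le_antisymm
    · rw [Submodule.span_le]
      rintro _ ⟨χ, hχ, rfl⟩
      obtain ⟨lam, hl⟩ := (hmem χ).mp hχ
      rw [SetLike.mem_coe, Submodule.mem_span_singleton]
      refine ⟨(lam : P → ℂ) 1, ?_⟩
      funext g
      simp only [pRegularPart_eq_reg, Pi.smul_apply, smul_eq_mul]
      by_cases hg : p ∣ orderOf g
      · rw [Regular.reg_of_dvd _ hg, Regular.reg_of_dvd _ hg, mul_zero]
      · rw [Regular.reg_of_not_dvd _ hg, Regular.reg_of_not_dvd _ hg, hl, chiFun_of_regular P _ hg]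
    · apply Submodule.span_mono
      rintro _ rfl
      exact ⟨θ, hθB, rfl⟩
  rw [blockRank, hspan]
  apply finrank_span_singleton
  intro h1
  have h2 := congrFun h1 1
  rw [pRegularPart_eq_reg, Regular.reg_of_not_dvd] at h2
  · exact Cfsg.Agent.Lib.Char.Ortho.irr_apply_one_ne_zero θ.2 h2
  · simpa using (Fact.out : p.Prime).ne_one

end Cfsg.Agent.Lib.Blocks.CentralProd2
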