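/-
Brauer's first main theorem.
-/
import Mathlib
import Cfsg.Prelude.Def_Blocks
import Cfsg.Agent.S0908
import Cfsg.Agent.S0912
import Cfsg.Agent.S0916
import Cfsg.Agent.S0918
import Cfsg.Agent.Lib.Blocks.SecondMain
import Cfsg.Agent.Lib.Blocks.Defect
import Cfsg.Agent.Lib.Blocks.BrauerMap
import Cfsg.Agent.Lib.Blocks.Induced
import Cfsg.Agent.Lib.Basic.PCore

set_option autoImplicit false

namespace Cfsg.Agent.Lib.Blocks.FirstMain

open Cfsg Cfsg.Agent.Lib.Blocks.Local Cfsg.Agent.Lib.Blocks.Central Cfsg.Agent.Lib.Blocks.Osima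
open Cfsg.Agent.Lib.Blocks.BrauerMap Cfsg.Agent.Lib.Blocks.Defect Cfsg.Agent.Lib.Blocks.Twisted
open Cfsg.Agent.S0916 (exists_sylow_map_iff)

universe u

variable {G : Type u} [Group G] {p : ℕ} [Fact p.Prime]

section Classes

variable [Finite G] (D : Subgroup G)

/-- The centralizer in `N` is the intersection with `N`. -/
def centralizerEquiv (N : Subgroup G) (c : N) :
    (Subgroup.centralizer ({c} : Set N)) ≃ ↥(Subgroup.centralizer ({(c : G)} : Set G) ⊓ N) where
  toFun x := ⟨x.1.1, by
    refine ⟨?_, x.1.2⟩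
    have h := Subgroup.mem_centralizer_singleton_iff.1 x.2
    exact Subgroup.mem_centralizer_singleton_iff.2 (congrArg Subtype.val h), ⟩
  invFun x := ⟨⟨x.1, x.2.2⟩, by
    have h := Subgroup.mem_centralizer_singleton_iff.1 x.2.1
    exact Subgroup.mem_centralizer_singleton_iff.2 (Subtype.ext h)⟩
  left_inv x := rfl
  right_inv x := rfl

lemma card_centralizer_subgroup (N : Subgroup G) (c : N) :
    Nat.card (Subgroup.centralizer ({c} : Set N)) =
      Nat.card ↥(Subgroup.centralizer ({(c : G)} : Set G) ⊓ N) :=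
  Nat.card_congr (centralizerEquiv N c)

lemma le_normalizer' : D ≤ Subgroup.normalizer (D : Set G) := Subgroup.le_normalizer

lemma map_subgroupOf_normalizer :
    (D.subgroupOf (Subgroup.normalizer (D : Set G))).map (Subgroup.normalizer (D : Set G)).subtype = D :=
  Subgroup.map_subgroupOf_eq_of_le (le_normalizer' D)

lemma card_subgroupOf_normalizer :
    Nat.card (D.subgroupOf (Subgroup.normalizer (D : Set G))) = Nat.card D :=
  Nat.card_congr (Subgroup.subgroupOfEquivOfLe (le_normalizer' D)).toEquiv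

lemma centralizer_le_normalizer' : Subgroup.centralizer (D : Set G) ≤ Subgroup.normalizer (D : Set G) :=
  Subgroup.centralizer_le_normalizer _

/-- Sylow in the centralizer in `N_G(D)` implies Sylow in the centralizer in `G`. -/
theorem sylow_of_sylow_normalizer (hD : IsPGroup p D) (c : Subgroup.normalizer (D : Set G))
    (h : ∃ S : Sylow p (Subgroup.centralizer ({c} : Set (Subgroup.normalizer (D : Set G)))),
      (S : Subgroup _).map (Subgroup.centralizer ({c} : Set (Subgroup.normalizer (D : Set G)))).subtype =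
        D.subgroupOf (Subgroup.normalizer (D : Set G))) :
    D ≤ Subgroup.centralizer ({(c : G)} : Set G) ∧
      Nat.card D = p ^ (Nat.card (Subgroup.centralizer ({(c : G)} : Set G))).factorization p := by
  obtain ⟨hle, hcard⟩ := (exists_sylow_map_iff (p := p)).mp h
  rw [card_subgroupOf_normalizer, card_centralizer_subgroup] at hcard
  have hDc : D ≤ Subgroup.centralizer ({(c : G)} : Set G) := by
    intro d hd
    have h1 : (⟨d, le_normalizer' D hd⟩ : Subgroup.normalizer (D : Set G)) ∈
        D.subgroupOf (Subgroup.normalizer (D : Set G)) := by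
      simpa [Subgroup.mem_subgroupOf] using hd
    have h2 := Subgroup.mem_centralizer_singleton_iff.1 (hle h1)
    exact Subgroup.mem_centralizer_singleton_iff.2 (congrArg Subtype.val h2)
  have hcC : (c : G) ∈ Subgroup.centralizer (D : Set G) := by
    rw [Subgroup.mem_centralizer_iff]
    intro d hd
    exact (Subgroup.mem_centralizer_singleton_iff.1 (hDc hd))
  have h3 := (Cfsg.Agent.S0916.result p D hD).2 (c : G) hcC
    ((exists_sylow_map_iff (p := p)).mpr ⟨le_inf hDc (le_normalizer' D), hcard⟩)
  exact (exists_sylow_map_iff (p := p)).mp h3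

/-- Conversely, Sylow in the centralizer in `G` implies Sylow in the centralizer in `N_G(D)`. -/
theorem sylow_normalizer_of_sylow (c : Subgroup.normalizer (D : Set G))
    (hle : D ≤ Subgroup.centralizer ({(c : G)} : Set G))
    (hcard : Nat.card D = p ^ (Nat.card (Subgroup.centralizer ({(c : G)} : Set G))).factorization p) :
    ∃ S : Sylow p (Subgroup.centralizer ({c} : Set (Subgroup.normalizer (D : Set G)))),
      (S : Subgroup _).map (Subgroup.centralizer ({c} : Set (Subgroup.normalizer (D : Set G)))).subtype =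
        D.subgroupOf (Subgroup.normalizer (D : Set G)) := by
  have hpp : p.Prime := Fact.out
  refine (exists_sylow_map_iff (p := p)).mpr ⟨?_, ?_⟩
  · intro d hd
    have hd' : (d : G) ∈ D := by simpa [Subgroup.mem_subgroupOf] using hd
    have h1 := Subgroup.mem_centralizer_singleton_iff.1 (hle hd')
    exact Subgroup.mem_centralizer_singleton_iff.2 (Subtype.ext h1)
  · rw [card_subgroupOf_normalizer, card_centralizer_subgroup, hcard]
    congr 1
    set C := Subgroup.centralizer ({(c : G)} : Set G) with hC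
    set a := (Nat.card C).factorization p with ha
    have h1 : Nat.card ↥(C ⊓ Subgroup.normalizer (D : Set G)) ∣ Nat.card C :=
      Subgroup.card_dvd_of_le inf_le_left
    have h2 : Nat.card D ∣ Nat.card ↥(C ⊓ Subgroup.normalizer (D : Set G)) :=
      Subgroup.card_dvd_of_le (le_inf hle (le_normalizer' D))
    have h3 : (Nat.card ↥(C ⊓ Subgroup.normalizer (D : Set G))).factorization p ≤ a :=
      (Nat.factorization_le_iff_dvd Nat.card_pos.ne' Nat.card_pos.ne').2 h1 p
    have h4 : a ≤ (Nat.card ↥(C ⊓ Subgroup.normalizer (D : Set G))).factorization p := by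
      rw [hcard] at h2
      exact (hpp.pow_dvd_iff_le_factorization Nat.card_pos.ne').1 h2
    omega

end Classes

section Main

variable [Fintype G] {M : Ideal AlgInt} [M.IsPrime] {D : Subgroup G}
  [Fintype (Subgroup.normalizer (D : Set G))]

/-- The Brauer map takes the class sum of a class with defect group `D` to a class sum. -/
theorem brauer_classSum (hD : IsPGroup p D) (c : Subgroup.normalizer (D : Set G))
    (hle : D ≤ Subgroup.centralizer ({(c : G)} : Set G))
    (hcard : Nat.card D = p ^ (Nat.card (Subgroup.centralizer ({(c : G)} : Set G))).factorization p) :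
    brauer D (Subgroup.normalizer (D : Set G)) (classSum (c : G)) = classSum c := by
  classical
  have hcC : (c : G) ∈ Subgroup.centralizer (D : Set G) := by
    rw [Subgroup.mem_centralizer_iff]
    intro d hd
    exact (Subgroup.mem_centralizer_singleton_iff.1 (hle hd))
  obtain ⟨-, hconj⟩ := (Cfsg.Agent.S0916.result p D hD).1 (c : G)
    ((exists_sylow_map_iff (p := p)).mpr ⟨hle, hcard⟩)
  apply ext_coeff
  intro h
  rw [coeff_brauer]
  by_cases hc : IsConj c h
  · rw [coeff_classSum_of_isConj hc]
    obtain ⟨t, rfl⟩ := isConj_iff.1 hc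
    have h1 : ((t * c * t⁻¹ : Subgroup.normalizer (D : Set G)) : G) = (t : G) * c * (t : G)⁻¹ := by simp
    rw [if_pos (by rw [h1]; exact (conj_mem_centralizer_iff le_rfl t c).2 hcC), h1]
    exact coeff_classSum_of_isConj (isConj_iff.2 ⟨(t : G), rfl⟩)
  · rw [coeff_classSum_of_not_isConj hc]
    split_ifs with hh
    · apply coeff_classSum_of_not_isConj
      intro h2
      apply hc
      obtain ⟨n, hn, hn2⟩ := hconj (c : G) (h : G) (IsConj.refl _) h2 hcC hh
      exact isConj_iff.2 ⟨⟨n, hn⟩, Subtype.ext hn2⟩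
    · rfl

/-- The congruence along an induced block at a class with defect group `D`. -/
theorem centralChar_sub_of_induced {p : ℕ} [Fact p.Prime] (hM : IsPModular p M) (hD : IsPGroup p D)
    {b : Set (IrrCharacter (Subgroup.normalizer (D : Set G)))} {B : Set (IrrCharacter G)}
    (hind : IsInducedBlock M (Subgroup.normalizer (D : Set G)) b B) {ξ : IrrCharacter (Subgroup.normalizer (D : Set G))}
    (hξ : ξ ∈ b) {χ : IrrCharacter G} (hχ : χ ∈ B) (c : Subgroup.normalizer (D : Set G))
    (hle : D ≤ Subgroup.centralizer ({(c : G)} : Set G))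
    (hcard : Nat.card D = p ^ (Nat.card (Subgroup.centralizer ({(c : G)} : Set G))).factorization p) :
    MemLocalIdeal M (centralChar (ξ : _ → ℂ) c - centralChar (χ : G → ℂ) (c : G)) := by
  have h1 := hind.2.2 ξ hξ χ hχ (c : G)
  have h2 := memLocalIdeal_induced_sub_brauer hM hD (le_normalizer' D) le_rfl ξ.2 (c : G)
  rw [brauerCentralChar_eq_omega, brauer_classSum hD c hle hcard,
    omega_classSum (isClassFunction_of_irr ξ.2)] at h2
  have h3 := memLocalIdeal_sub h1 h2
  convert h3 using 1
  ring

/-- Part (i) of the first main theorem. -/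
theorem isDefectGroup_of_induced (hM : IsPModular p M) (hD : IsPGroup p D)
    {b : Set (IrrCharacter (Subgroup.normalizer (D : Set G)))} (hb : IsPBlock M b)
    {B : Set (IrrCharacter G)} (hB : IsPBlock M B)
    (hind : IsInducedBlock M (Subgroup.normalizer (D : Set G)) b B)
    (hdb : IsDefectGroup p M b (D.subgroupOf (Subgroup.normalizer (D : Set G)))) :
    IsDefectGroup p M B D := by
  obtain ⟨c, hc, S, hS⟩ := hdb
  obtain ⟨hle, hcard⟩ := sylow_of_sylow_normalizer D hD c ⟨S, hS.symm⟩
  obtain ⟨E, hE, hDE⟩ := Cfsg.Agent.Lib.Blocks.Induced.induced_block_defect_group_le hM _ b hb B hB hind _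
    ⟨c, hc, S, hS⟩
  rw [map_subgroupOf_normalizer] at hDE
  obtain ⟨ξ₀, rfl⟩ := id hb
  obtain ⟨χ₀, rfl⟩ := id hB
  have hξ : ξ₀ ∈ blockOf M (ξ₀ : _ → ℂ) := mem_blockOf_self ξ₀
  have hχ : χ₀ ∈ blockOf M (χ₀ : G → ℂ) := mem_blockOf_self χ₀
  have hnz : ¬ MemLocalIdeal M (centralChar (χ₀ : G → ℂ) (c : G)) := by
    intro h
    apply hc.2.2 ξ₀ hξ
    have := memLocalIdeal_add (centralChar_sub_of_induced hM hD hind hξ hχ c hle hcard) h
    simpa using this
  obtain ⟨g₀, hg₀, E', rfl⟩ := hE
  obtain ⟨x, Q, hQ⟩ := (min_max hM _ hB g₀ hg₀ E' (c : G)).2 ⟨χ₀, hχ, hnz⟩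
  have h1 : Nat.card ((E' : Subgroup _).map (Subgroup.centralizer ({g₀} : Set G)).subtype) ≤ Nat.card D := by
    calc Nat.card ((E' : Subgroup _).map (Subgroup.centralizer ({g₀} : Set G)).subtype)
        = Nat.card (((E' : Subgroup _).map (Subgroup.centralizer ({g₀} : Set G)).subtype).map
            (MulAut.conj x).toMonoidHom) := (Cfsg.Agent.S0916.card_map_conj x _).symm
      _ ≤ Nat.card ((Q : Subgroup _).map (Subgroup.centralizer ({(c : G)} : Set G)).subtype) :=
          Subgroup.card_le_of_le hQ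
      _ = Nat.card D := by
          rw [hcard]
          exact ((exists_sylow_map_iff (p := p)).mp ⟨Q, rfl⟩).2
  have h2 : D = (E' : Subgroup _).map (Subgroup.centralizer ({g₀} : Set G)).subtype :=
    Subgroup.eq_of_le_of_card_ge hDE h1
  rw [h2]
  exact ⟨g₀, hg₀, E', rfl⟩

lemma coeffIn_pow_sub_general {I : Ideal (localRing M)} {y : MonoidAlgebra ℂ (Subgroup.normalizer (D : Set G))}
    (hy : CoeffIn (⊤ : Ideal (localRing M)) y) (h2 : CoeffIn I (y - y * y)) (s : ℕ) :
    CoeffIn I (y ^ (s + 1) - y) := by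
  induction s with
  | zero => simpa using coeffIn_zero
  | succ s ih =>
    have : y ^ (s + 1 + 1) - y = (y ^ (s + 1) - y) * y - (y - y * y) := by
      rw [pow_succ y (s + 1)]
      noncomm_ring
    rw [this]
    exact (ih.mul_right hy).sub h2

/-- Part (ii) of the first main theorem: existence. -/
theorem exists_isInducedBlock_of_isDefectGroup (hM : IsPModular p M) (hD : IsPGroup p D)
    {B : Set (IrrCharacter G)} (hB : IsPBlock M B) (hdB : IsDefectGroup p M B D) :
    ∃ b : Set (IrrCharacter (Subgroup.normalizer (D : Set G))), IsPBlock M b ∧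
      IsDefectGroup p M b (D.subgroupOf (Subgroup.normalizer (D : Set G))) ∧
      IsInducedBlock M (Subgroup.normalizer (D : Set G)) b B := by
  classical
  have hdB' := hdB
  obtain ⟨g, hg, S, hS⟩ := hdB
  obtain ⟨hle, hcard⟩ := (exists_sylow_map_iff (p := p)).mp ⟨S, hS.symm⟩
  have hgC : g ∈ Subgroup.centralizer (D : Set G) := by
    rw [Subgroup.mem_centralizer_iff]
    intro d hd
    exact (Subgroup.mem_centralizer_singleton_iff.1 (hle hd))
  have hCH := centralizer_le_normalizer' D
  let c : Subgroup.normalizer (D : Set G) := ⟨g, hCH hgC⟩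
  set e := blockElt B with he
  have hel : e ∈ localCenter G M := blockElt_mem_localCenter hB
  set Br := brauer D (Subgroup.normalizer (D : Set G)) e with hBrdef
  have hBr : Br ∈ localCenter (Subgroup.normalizer (D : Set G)) M := brauer_mem_localCenter le_rfl hel
  have hsq : CoeffIn (localIdeal M) (Br - Br * Br) := by
    rw [coeffIn_localIdeal_iff]
    intro h
    have := brauer_mul_sub_coeff hM hD hCH hel hel h
    rw [he, blockElt_mul_self] at this
    exact this
  have hex : ∃ ξ : IrrCharacter (Subgroup.normalizer (D : Set G)),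
      ¬ MemLocalIdeal M (omega (ξ : _ → ℂ) Br) := by
    by_contra hno
    push Not at hno
    obtain ⟨t, ht0, ht⟩ := Cfsg.Agent.Lib.Blocks.SecondMain.exists_pow_coeffIn_of_omega hBr hno
    have hBrΛ : CoeffIn (⊤ : Ideal (localRing M)) Br := coeffIn_top_iff.mpr hBr.2
    have h1 := coeffIn_pow_sub_general hBrΛ hsq (t - 1)
    rw [Nat.sub_add_cancel ht0] at h1
    have h2 := ht.sub h1
    have h3 : Br ^ t - (Br ^ t - Br) = Br := by abel
    rw [h3, coeffIn_localIdeal_iff] at h2
    apply hg.2.1
    have h4 := h2 c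
    rw [hBrdef, coeff_brauer, if_pos hgC, he, coeff_blockElt] at h4
    exact h4
  obtain ⟨ξ, hξ⟩ := hex
  obtain ⟨χ, hχ⟩ := exists_irr_of_brauer hM hD hCH le_rfl ξ.2
  have hχB : χ ∈ B := by
    by_contra hno
    apply hξ
    have h1 := hχ ⟨e, hel⟩
    simp only at h1
    rw [he, omega_blockElt_of_notMem hno, sub_zero, ← he] at h1
    exact h1
  set b : Set (IrrCharacter (Subgroup.normalizer (D : Set G))) := blockOf M (ξ : _ → ℂ) with hb
  have hbb : IsPBlock M b := ⟨ξ, rfl⟩
  have hind : IsInducedBlock M (Subgroup.normalizer (D : Set G)) b B := by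
    refine ⟨hbb, hB, fun ξ' hξ' χ' hχ' x => ?_⟩
    have h1 := memLocalIdeal_induced_sub_brauer hM hD (le_normalizer' D) le_rfl ξ'.2 x
    have ha : brauer D (Subgroup.normalizer (D : Set G)) (classSum x) ∈
        localCenter (Subgroup.normalizer (D : Set G)) M :=
      brauer_mem_localCenter le_rfl (classSum_mem_localCenter x)
    have h2 := memLocalIdeal_omega_sub ξ'.2 ξ.2 (sameBlock_symm hξ') ha
    have h3 := hχ ⟨_, classSum_mem_localCenter x⟩
    simp only at h3
    rw [omega_classSum (isClassFunction_of_irr χ.2)] at h3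
    have h4 : MemLocalIdeal M (centralChar (χ : G → ℂ) x - centralChar (χ' : G → ℂ) x) := by
      obtain ⟨χ₀, rfl⟩ := id hB
      exact sameBlock_trans (M := M) (sameBlock_symm hχB) hχ' x
    rw [brauerCentralChar_eq_omega] at h1
    have h5 := memLocalIdeal_add h1 (memLocalIdeal_add h2 (memLocalIdeal_add h3 h4))
    convert h5 using 1
    ring
  refine ⟨b, hbb, ?_, hind⟩
  -- the defect group
  obtain ⟨k, hk⟩ := exists_isDefectClass (M := M) hbb
  obtain ⟨S'⟩ : Nonempty (Sylow p (Subgroup.centralizer ({k} : Set (Subgroup.normalizer (D : Set G))))) :=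
    inferInstance
  have hdb : IsDefectGroup p M b ((S' : Subgroup _).map
      (Subgroup.centralizer ({k} : Set (Subgroup.normalizer (D : Set G)))).subtype) := ⟨k, hk, S', rfl⟩
  have hcore := Cfsg.Agent.S0912.result p M hM b hbb _ hdb
  have hDn : (D.subgroupOf (Subgroup.normalizer (D : Set G))).Normal :=
    (Subgroup.normal_subgroupOf_iff_le_normalizer (le_normalizer' D)).mpr le_rfl
  have hDp : IsPGroup p (D.subgroupOf (Subgroup.normalizer (D : Set G))) :=
    hD.comap_of_injective _ (Subgroup.subtype_injective _)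
  have hDcore := Cfsg.Agent.Lib.Basic.PCore.le_pCore hDn hDp
  obtain ⟨E, hE, hDbE⟩ := Cfsg.Agent.Lib.Blocks.Induced.induced_block_defect_group_le hM _ b hbb B hB hind _ hdb
  have hcardE := Cfsg.Agent.S0908.result p M hM B hB E hE
  have hcardD := Cfsg.Agent.S0908.result p M hM B hB D hdB'
  have hle2 : Nat.card ((S' : Subgroup _).map
      (Subgroup.centralizer ({k} : Set (Subgroup.normalizer (D : Set G)))).subtype) ≤
      Nat.card (D.subgroupOf (Subgroup.normalizer (D : Set G))) := by
    rw [card_subgroupOf_normalizer, hcardD, ← hcardE]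
    refine le_trans (le_of_eq ?_) (Subgroup.card_le_of_le hDbE)
    exact Nat.card_congr (Subgroup.equivMapOfInjective _ _ (Subgroup.subtype_injective _)).toEquiv
  have heq := Subgroup.eq_of_le_of_card_ge (hDcore.trans hcore) hle2
  rw [heq]
  exact hdb

/-- Part (ii) of the first main theorem: uniqueness. -/
theorem eq_of_isInducedBlock (hM : IsPModular p M) (hD : IsPGroup p D)
    {B : Set (IrrCharacter G)} (hB : IsPBlock M B)
    {b₁ b₂ : Set (IrrCharacter (Subgroup.normalizer (D : Set G)))} (hb₁ : IsPBlock M b₁) (hb₂ : IsPBlock M b₂)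
    (hd₁ : IsDefectGroup p M b₁ (D.subgroupOf (Subgroup.normalizer (D : Set G))))
    (h₁ : IsInducedBlock M (Subgroup.normalizer (D : Set G)) b₁ B)
    (h₂ : IsInducedBlock M (Subgroup.normalizer (D : Set G)) b₂ B) : b₁ = b₂ := by
  classical
  obtain ⟨k, hk, S₁, hS₁⟩ := hd₁
  obtain ⟨ξ₁, hξ₁⟩ := id hb₁
  obtain ⟨ξ₂, hξ₂⟩ := id hb₂
  have hξ₁m : ξ₁ ∈ b₁ := by rw [hξ₁]; exact mem_blockOf_self ξ₁
  have hξ₂m : ξ₂ ∈ b₂ := by rw [hξ₂]; exact mem_blockOf_self ξ₂
  obtain ⟨χ, hχ⟩ := id hB
  have hχm : χ ∈ B := by rw [hχ]; exact mem_blockOf_self χ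
  have hDn : (D.subgroupOf (Subgroup.normalizer (D : Set G))).Normal :=
    (Subgroup.normal_subgroupOf_iff_le_normalizer (le_normalizer' D)).mpr le_rfl
  have hDp : IsPGroup p (D.subgroupOf (Subgroup.normalizer (D : Set G))) :=
    hD.comap_of_injective _ (Subgroup.subtype_injective _)
  set e := blockElt b₁ with he
  have hel : e ∈ localCenter (Subgroup.normalizer (D : Set G)) M := blockElt_mem_localCenter hb₁
  have hterm : ∀ L : ConjClasses (Subgroup.normalizer (D : Set G)),
      MemLocalIdeal M (e.coeff L.out * centralChar (ξ₁ : _ → ℂ) L.out -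
        e.coeff L.out * centralChar (ξ₂ : _ → ℂ) L.out) := by
    intro L
    rw [← mul_sub]
    set h := L.out with hh
    by_cases ha : MemLocalIdeal M (e.coeff h)
    · exact memLocalIdeal_mul_right ha (memLocalRing_sub (memLocalRing_centralChar ξ₁.2 _)
        (memLocalRing_centralChar ξ₂.2 _))
    refine memLocalIdeal_mul_left (hel.2 _) ?_
    by_cases hcent : h ∈ Subgroup.centralizer ((D.subgroupOf (Subgroup.normalizer (D : Set G))) :
        Set (Subgroup.normalizer (D : Set G)))
    · -- the class has defect group `D`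
      have ha' : ¬ MemLocalIdeal M (blockCoeff b₁ h) := by
        rwa [he, coeff_blockElt] at ha
      obtain ⟨x, Q, hQ⟩ := (min_max hM b₁ hb₁ k hk S₁ h).1 (memLocalRing_blockCoeff hb₁ h) ha'
      rw [← hS₁] at hQ
      have hfix : (D.subgroupOf (Subgroup.normalizer (D : Set G))).map (MulAut.conj x).toMonoidHom =
          D.subgroupOf (Subgroup.normalizer (D : Set G)) := Subgroup.Normal.map_conj_eq _ x
      rw [hfix] at hQ
      have hDC : D.subgroupOf (Subgroup.normalizer (D : Set G)) ≤
          Subgroup.centralizer ({h} : Set (Subgroup.normalizer (D : Set G))) := by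
        intro d hd
        exact Subgroup.mem_centralizer_singleton_iff.2 ((Subgroup.mem_centralizer_iff.1 hcent) d hd)
      have hQcard := ((exists_sylow_map_iff (p := p)).mp ⟨Q, rfl⟩).2
      have hQeq := Cfsg.Agent.S0916.eq_of_isPGroup_of_sylow hQcard hDC hDp hQ
      obtain ⟨hle, hcard⟩ := sylow_of_sylow_normalizer D hD h ⟨Q, hQeq⟩
      have h1 := centralChar_sub_of_induced hM hD h₁ hξ₁m hχm h hle hcard
      have h2 := centralChar_sub_of_induced hM hD h₂ hξ₂m hχm h hle hcard
      have h3 := memLocalIdeal_sub h1 h2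
      convert h3 using 1
      ring
    · exact memLocalIdeal_sub
        (memLocalIdeal_centralChar_of_not_centralizer hM _ hDp ξ₁.2 hcent)
        (memLocalIdeal_centralChar_of_not_centralizer hM _ hDp ξ₂.2 hcent)
  have hsum : MemLocalIdeal M (omega (ξ₁ : _ → ℂ) e - omega (ξ₂ : _ → ℂ) e) := by
    rw [omega_eq_sum_centralChar (isClassFunction_of_irr ξ₁.2) hel.1,
      omega_eq_sum_centralChar (isClassFunction_of_irr ξ₂.2) hel.1, ← Finset.sum_sub_distrib]
    exact memLocalIdeal_sum _ _ fun L _ => hterm L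
  have hin : ξ₂ ∈ b₁ := by
    by_contra hno
    rw [he, omega_blockElt_of_mem hξ₁m, omega_blockElt_of_notMem hno, sub_zero] at hsum
    exact not_memLocalIdeal_one hsum
  rw [hξ₂]
  rw [hξ₁] at hin ⊢
  exact (blockOf_eq_of_mem hin).symm

end Main

end Cfsg.Agent.Lib.Blocks.FirstMain
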