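/-
Blocks and central `p`-subgroups: the regular parts of a block are spanned by the characters with the
central `p`-subgroup in the kernel, so that the rank does not grow on passing to the quotient.
-/
import Mathlib
import Cfsg.Agent.Lib.Blocks.BlockCount
import Cfsg.Agent.Lib.Blocks.Dominate
import Cfsg.Agent.Lib.Blocks.Kernel
import Cfsg.Agent.Lib.Char.Complete
import Cfsg.Agent.Lib.Char.BlichfeldtB
import Cfsg.Agent.S4494
import Cfsg.Agent.S4733

set_option autoImplicit false
set_option linter.style.haveILetI false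

namespace Cfsg.Agent.Lib.Blocks.CentralQuot

open Cfsg Cfsg.Agent.Lib.Blocks.Local Cfsg.Agent.Lib.Blocks.Central Cfsg.Agent.Lib.Blocks.Osima
  Cfsg.Agent.Lib.Blocks.Regular Cfsg.Agent.Lib.Blocks.Cartan Cfsg.Agent.Lib.Blocks.BlockCount
  Cfsg.Agent.Lib.Blocks.Dominate
open scoped ComplexConjugate

universe u

variable {H : Type u} [Group H] [Fintype H] {M : Ideal AlgInt} [hMp : M.IsPrime] {p : ℕ} [hp : Fact p.Prime]

open Classical in
/-- The sum of an irreducible character over a coset of a central subgroup. -/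
lemma sum_mul_central (Z : Subgroup H) [hZn : Z.Normal] [Fintype Z] (hZ : ∀ z ∈ Z, ∀ g : H, g * z = z * g)
    {η : H → ℂ} (hη : IsIrrCharacter H η) (y : H) :
    ∑ z : Z, η (y * z) = if ∀ n ∈ Z, η n = η 1 then (Nat.card Z : ℂ) * η y else 0 := by
  have h0 := Cfsg.Agent.Lib.Char.Ortho.irr_apply_one_ne_zero hη
  have h1 : ∀ z : Z, η (y * z) = η z / η 1 * η y := by
    intro z
    obtain ⟨a, -, ha⟩ := Cfsg.Agent.Lib.Char.BlichfeldtB.irr_central_mul hη (z : H) (hZ z z.2)
    have h2 := ha 1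
    rw [mul_one] at h2
    rw [hZ z z.2 y, ha y, h2]
    field_simp
  simp only [h1]
  rw [← Finset.sum_mul, ← Finset.sum_div, sum_irr_normal Z hη]
  split_ifs with h
  · field_simp
  · simp

/-- The order of a product with a nontrivial central `p`-element. -/
lemma dvd_orderOf_mul {y z : H} (hc : y * z = z * y) (hy : ¬ p ∣ orderOf y) {k : ℕ} (hz : orderOf z = p ^ k)
    (hz1 : z ≠ 1) : p ∣ orderOf (y * z) := by
  have hcop : Nat.Coprime (orderOf y) (orderOf z) := by
    rw [hz]
    exact Nat.Coprime.pow_right _ ((Nat.Prime.coprime_iff_not_dvd hp.out).mpr hy).symm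
  have hc' : Commute y z := hc
  rw [hc'.orderOf_mul_eq_mul_orderOf_of_coprime hcop, hz]
  refine Dvd.dvd.mul_left (dvd_pow_self p ?_) _
  rintro rfl
  apply hz1
  simpa using hz

open Classical in
/-- **The regular part of a character `ξ` in terms of the characters with `Z` in their kernel.** -/
theorem reg_eq_sum [Fintype (IrrCharacter H)] (Z : Subgroup H) [hZn : Z.Normal] [Fintype Z]
    (hZ : ∀ z ∈ Z, ∀ g : H, g * z = z * g) (hZp : IsPGroup p Z) (ξ : IrrCharacter H) :
    reg p (ξ : H → ℂ) = ∑ η : IrrCharacter H,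
      ((if ∀ n ∈ Z, (η : H → ℂ) n = (η : H → ℂ) 1 then (Nat.card Z : ℂ) * classInner (reg p (ξ : H → ℂ)) (η : H → ℂ)
        else 0)) • reg p (η : H → ℂ) := by
  classical
  set φ : H → ℂ := fun y => ∑ z : Z, reg p (ξ : H → ℂ) (y * z) with hφ
  have hφcl : IsClassFunction H φ := by
    intro a g
    simp only [hφ]
    refine Finset.sum_bij' (fun z _ => ⟨g⁻¹ * z * g, ?_⟩) (fun z _ => ⟨g * z * g⁻¹, ?_⟩) ?_ ?_ ?_ ?_ ?_
    · have := hZn.conj_mem z z.2 g⁻¹
      simpa using this
    · exact hZn.conj_mem z z.2 g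
    · intro _ _
      exact Finset.mem_univ _
    · intro _ _
      exact Finset.mem_univ _
    · intro z _
      apply Subtype.ext
      show g * (g⁻¹ * z * g) * g⁻¹ = z
      group
    · intro z _
      apply Subtype.ext
      show g⁻¹ * (g * z * g⁻¹) * g = z
      group
    · intro z _
      have h1 := isClassFunction_reg (p := p) (isClassFunction_of_irr ξ.2) (a * (g⁻¹ * z * g)) g
      show reg p (ξ : H → ℂ) (g * a * g⁻¹ * z) = reg p (ξ : H → ℂ) (a * (g⁻¹ * z * g))
      rw [← h1]
      congr 1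
      group
  have hexp := Cfsg.Agent.Lib.Char.Complete.eq_sum_classInner φ hφcl
  have hinner : ∀ η : IrrCharacter H, classInner φ (η : H → ℂ) =
      if ∀ n ∈ Z, (η : H → ℂ) n = (η : H → ℂ) 1 then (Nat.card Z : ℂ) * classInner (reg p (ξ : H → ℂ)) (η : H → ℂ)
        else 0 := by
    intro η
    have h1 : ∑ y, φ y * conj ((η : H → ℂ) y) = ∑ y, reg p (ξ : H → ℂ) y * conj (∑ z : Z, (η : H → ℂ) (y * z)) := by
      simp only [hφ, Finset.sum_mul, map_sum, Finset.mul_sum]
      rw [Finset.sum_comm]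
      conv_rhs => rw [Finset.sum_comm]
      refine Fintype.sum_equiv (Equiv.inv Z) _ _ fun z => ?_
      refine Fintype.sum_equiv (Equiv.mulRight (z : H)) _ _ fun y => ?_
      show reg p (ξ : H → ℂ) (y * z) * conj ((η : H → ℂ) y) =
        reg p (ξ : H → ℂ) (y * z) * conj ((η : H → ℂ) (y * z * ((z⁻¹ : Z) : H)))
      congr 3
      simp
    rw [classInner, h1]
    simp only [sum_mul_central Z hZ η.2]
    split_ifs with h
    · rw [classInner, mul_left_comm]
      congr 1
      simp only [map_mul, Complex.conj_natCast]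
      rw [Finset.mul_sum]
      refine Finset.sum_congr rfl fun y _ => ?_
      ring
    · simp
  funext y
  by_cases hy : p ∣ orderOf y
  · rw [reg_of_dvd _ hy, Finset.sum_apply]
    simp [reg_of_dvd _ hy]
  · have h2 : reg p (ξ : H → ℂ) y = φ y := by
      simp only [hφ]
      rw [Finset.sum_eq_single (1 : Z)]
      · simp
      · intro z _ hz
        obtain ⟨k, hk⟩ := exists_orderOf_eq_of_mem (p := p) hZp z.2
        refine reg_of_dvd _ (dvd_orderOf_mul (hZ z z.2 y) hy hk ?_)
        intro h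
        exact hz (Subtype.ext h)
      · simp
    rw [h2, hexp, Finset.sum_apply, Finset.sum_apply]
    refine Finset.sum_congr rfl fun η _ => ?_
    simp only [Pi.smul_apply, smul_eq_mul, reg_of_not_dvd _ hy]
    rw [hinner]

/-- The span of the regular parts of `b` is generated by the characters with `Z` in the kernel. -/
theorem regSpan_le (hM : IsPModular p M) (Z : Subgroup H) [hZn : Z.Normal] [Fintype Z]
    (hZ : ∀ z ∈ Z, ∀ g : H, g * z = z * g) (hZp : IsPGroup p Z) {b : Set (IrrCharacter H)} (hb : IsPBlock M b) :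
    regSpan p b ≤ regSpan p {η | η ∈ b ∧ ∀ n ∈ Z, (η : H → ℂ) n = (η : H → ℂ) 1} := by
  classical
  letI : Fintype (IrrCharacter H) := Fintype.ofFinite _
  rw [regSpan, Submodule.span_le]
  rintro _ ⟨ξ, hξ, rfl⟩
  have h1 := reg_eq_sum (p := p) Z hZ hZp ξ
  simp only [pRegularPart_eq_reg]
  rw [h1]
  refine Submodule.sum_mem _ fun η _ => ?_
  by_cases hk : ∀ n ∈ Z, (η : H → ℂ) n = (η : H → ℂ) 1
  · rw [if_pos hk]
    by_cases hη : η ∈ b
    · refine Submodule.smul_mem _ _ (Submodule.subset_span ⟨η, ⟨hη, hk⟩, ?_⟩)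
      exact pRegularPart_eq_reg _ _
    · have h2 : ¬ SameBlock M (ξ : H → ℂ) (η : H → ℂ) := by
        intro h3
        obtain ⟨χ₀, rfl⟩ := hb
        exact hη (sameBlock_trans hξ h3)
      rw [classInner_reg_eq_zero hM h2, mul_zero, zero_smul]
      exact Submodule.zero_mem _
  · rw [if_neg hk, zero_smul]
    exact Submodule.zero_mem _

/-- Inflation of an irreducible character. -/
noncomputable def infl (Z : Subgroup H) [hZn : Z.Normal] (η : IrrCharacter (H ⧸ Z)) : IrrCharacter H :=
  ⟨(η : H ⧸ Z → ℂ) ∘ QuotientGroup.mk, Cfsg.Agent.Lib.Char.Basic.isIrrCharacter_comp_surjective η.2 (QuotientGroup.mk' Z)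
    (QuotientGroup.mk'_surjective Z)⟩

@[simp] lemma coe_infl (Z : Subgroup H) [hZn : Z.Normal] (η : IrrCharacter (H ⧸ Z)) (y : H) :
    (infl Z η : H → ℂ) y = (η : H ⧸ Z → ℂ) y := rfl

/-- The image of a block in the quotient. -/
def quotBlock (Z : Subgroup H) [hZn : Z.Normal] (b : Set (IrrCharacter H)) : Set (IrrCharacter (H ⧸ Z)) :=
  {η | infl Z η ∈ b}

/-- The image of a block in the quotient by a central `p`-subgroup is a block. -/
theorem isPBlock_quotBlock (hM : IsPModular p M) (Z : Subgroup H) [hZn : Z.Normal] [Fintype (H ⧸ Z)]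
    (hZ : ∀ z ∈ Z, ∀ g : H, g * z = z * g) (hZp : IsPGroup p Z) {b : Set (IrrCharacter H)} (hb : IsPBlock M b) :
    IsPBlock M (quotBlock Z b) := by
  classical
  obtain ⟨η₀, hη₀b, hker⟩ := exists_mem_kernel Z hM hZp hb
  obtain ⟨η₁, hη₁⟩ := Cfsg.Agent.Lib.Blocks.Kernel.exists_irr_of_kernel Z η₀.2 hker
  have hη₀ : η₀ = infl Z η₁ := Subtype.ext hη₁
  have hC : ∃ k : ℕ, (Subgroup.centralizer (Z : Set H)).index = p ^ k := by
    refine ⟨0, ?_⟩
    rw [pow_zero, Subgroup.index_eq_one]
    rw [eq_top_iff]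
    intro g _
    rw [Subgroup.mem_centralizer_iff]
    intro z hz
    exact (hZ z hz g).symm
  refine ⟨η₁, ?_⟩
  obtain ⟨χ₀, rfl⟩ := id hb
  ext η
  constructor
  · intro hη
    have h1 : SameBlock M (χ₀ : H → ℂ) ((η : H ⧸ Z → ℂ) ∘ QuotientGroup.mk) := hη
    have h2 : SameBlock M (χ₀ : H → ℂ) ((η₁ : H ⧸ Z → ℂ) ∘ QuotientGroup.mk) := by
      have : η₀ ∈ blockOf M (χ₀ : H → ℂ) := hη₀b
      rw [hη₀] at this
      exact this
    exact sameBlock_of_comp_mk Z hM hZp hC (sameBlock_trans (sameBlock_symm h2) h1)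
  · intro hη
    have h1 : SameBlock M (χ₀ : H → ℂ) ((η₁ : H ⧸ Z → ℂ) ∘ QuotientGroup.mk) := by
      have : η₀ ∈ blockOf M (χ₀ : H → ℂ) := hη₀b
      rw [hη₀] at this
      exact this
    exact sameBlock_trans h1 (sameBlock_comp_mk Z η₁.2 η.2 hη)

/-- **The rank does not grow on passing to the quotient.** -/
theorem blockRank_le_quot (hM : IsPModular p M) (Z : Subgroup H) [hZn : Z.Normal] [Fintype Z] [Fintype (H ⧸ Z)]
    (hZ : ∀ z ∈ Z, ∀ g : H, g * z = z * g) (hZp : IsPGroup p Z) {b : Set (IrrCharacter H)} (hb : IsPBlock M b) :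
    blockRank p b ≤ blockRank p (quotBlock Z b) := by
  classical
  let Φ : (H ⧸ Z → ℂ) →ₗ[ℂ] (H → ℂ) :=
    { toFun := fun g y => reg p (g ∘ QuotientGroup.mk) y
      map_add' := by
        intro f g
        funext y
        by_cases hy : p ∣ orderOf y
        · simp [reg_of_dvd _ hy]
        · simp [reg_of_not_dvd _ hy]
      map_smul' := by
        intro c f
        funext y
        by_cases hy : p ∣ orderOf y
        · simp [reg_of_dvd _ hy]
        · simp [reg_of_not_dvd _ hy] }
  have hle : regSpan p b ≤ (regSpan p (quotBlock Z b)).map Φ := by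
    refine (regSpan_le hM Z hZ hZp hb).trans ?_
    rw [regSpan, Submodule.span_le]
    rintro _ ⟨η, ⟨hη, hk⟩, rfl⟩
    obtain ⟨η₁, hη₁⟩ := Cfsg.Agent.Lib.Blocks.Kernel.exists_irr_of_kernel Z η.2 hk
    have hη₀ : η = infl Z η₁ := Subtype.ext hη₁
    refine ⟨pRegularPart p (η₁ : H ⧸ Z → ℂ), Submodule.subset_span ⟨η₁, ?_, rfl⟩, ?_⟩
    · show infl Z η₁ ∈ b
      rw [← hη₀]
      exact hη
    · funext y
      simp only [pRegularPart_eq_reg]
      by_cases hy : p ∣ orderOf y
      · show reg p _ y = _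
        rw [reg_of_dvd _ hy, reg_of_dvd _ hy]
      · show reg p _ y = _
        rw [reg_of_not_dvd _ hy, reg_of_not_dvd _ hy, hη₀]
        show reg p (η₁ : H ⧸ Z → ℂ) (y : H ⧸ Z) = _
        rw [reg_of_not_dvd]
        · rfl
        · intro h
          exact hy (h.trans (orderOf_map_dvd (QuotientGroup.mk' Z) y))
  rw [blockRank_eq, blockRank_eq]
  calc Module.finrank ℂ (regSpan p b) ≤ Module.finrank ℂ ((regSpan p (quotBlock Z b)).map Φ) :=
        Submodule.finrank_mono hle
    _ ≤ _ := Submodule.finrank_map_le _ _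

/-- The rank of a block is positive. -/
theorem blockRank_pos {b : Set (IrrCharacter H)} (hb : IsPBlock M b) : 0 < blockRank p b := by
  classical
  obtain ⟨χ, rfl⟩ := id hb
  rw [blockRank_eq, Module.finrank_pos_iff_exists_ne_zero]
  refine ⟨⟨pRegularPart p (χ : H → ℂ), Submodule.subset_span ⟨χ, mem_blockOf_self χ, rfl⟩⟩, ?_⟩
  intro h
  have h1 := congrArg Subtype.val h
  have h2 := congrFun h1 1
  simp only [pRegularPart_eq_reg] at h2
  rw [reg_of_not_dvd] at h2
  · exact Cfsg.Agent.Lib.Char.Ortho.irr_apply_one_ne_zero χ.2 h2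
  · simpa using hp.out.ne_one

/-- The degrees in the quotient block: the least `p`-exponent does not decrease. -/
lemma sInf_le_quot (Z : Subgroup H) [hZn : Z.Normal] {b : Set (IrrCharacter H)}
    (hb : (quotBlock Z b).Nonempty) :
    sInf ((fun χ : IrrCharacter H => (charDegree (χ : H → ℂ)).factorization p) '' b) ≤
      sInf ((fun χ : IrrCharacter (H ⧸ Z) => (charDegree (χ : H ⧸ Z → ℂ)).factorization p) '' quotBlock Z b) := by
  refine le_csInf (hb.image _) ?_
  rintro _ ⟨η, hη, rfl⟩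
  refine Nat.sInf_le ⟨infl Z η, hη, ?_⟩
  have : charDegree ((infl Z η : IrrCharacter H) : H → ℂ) = charDegree (η : H ⧸ Z → ℂ) := by
    simp [charDegree, infl]
  simp only [this]

/-- **A `2`-block of defect at most `2` with a central involution has rank one.** -/
theorem blockRank_eq_one_of_central_involution (hM : IsPModular 2 M) {x : H} (hx : orderOf x = 2)
    (hc : ∀ g : H, g * x = x * g) {b : Set (IrrCharacter H)} (hb : IsPBlock M b)
    (hd : blockDefect 2 b ≤ 2) : blockRank 2 b = 1 := by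
  classical
  haveI : Fact (Nat.Prime 2) := ⟨Nat.prime_two⟩
  set Z := Subgroup.zpowers x with hZ
  have hZc : ∀ z ∈ Z, ∀ g : H, g * z = z * g := by
    rintro _ ⟨n, rfl⟩ g
    exact ((Commute.zpow_right (show Commute g x from hc g) n))
  haveI hZn : Z.Normal := ⟨fun z hz g => by
    have := hZc z hz g
    rw [this]
    simpa using hz⟩
  letI : Fintype Z := Fintype.ofFinite _
  letI : Fintype (H ⧸ Z) := Fintype.ofFinite _
  have hZp : IsPGroup 2 Z := by
    intro z
    refine ⟨1, ?_⟩
    apply Subtype.ext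
    obtain ⟨n, hn⟩ := z.2
    show ((z : H)) ^ 2 ^ 1 = 1
    rw [← hn, pow_one, ← zpow_natCast, ← zpow_mul, mul_comm, zpow_mul, zpow_natCast]
    show (x ^ 2) ^ _ = 1
    rw [← hx, pow_orderOf_eq_one, one_zpow]
  have hZcard : Nat.card Z = 2 := by
    rw [hZ, Nat.card_zpowers, hx]
  have hqb := isPBlock_quotBlock hM Z hZc hZp hb
  have hle := blockRank_le_quot hM Z hZc hZp hb
  have hpos := blockRank_pos (p := 2) hb
  have hne : (quotBlock Z b).Nonempty := by
    obtain ⟨χ, hχ⟩ := id hqb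
    rw [hχ]
    exact ⟨χ, mem_blockOf_self χ⟩
  -- the defect of the quotient block
  have hcardq : Nat.card (H ⧸ Z) * 2 = Nat.card H := by
    have := Subgroup.card_eq_card_quotient_mul_card_subgroup Z
    rw [hZcard] at this
    exact this.symm
  have hval : (Nat.card (H ⧸ Z)).factorization 2 + 1 = (Nat.card H).factorization 2 := by
    rw [← hcardq, Nat.factorization_mul Nat.card_pos.ne' (by norm_num)]
    simp [Nat.prime_two.factorization_self]
  have hdq : blockDefect 2 (quotBlock Z b) ≤ 1 := by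
    have h1 := sInf_le_quot (p := 2) Z hne
    rw [blockDefect] at hd ⊢
    omega
  have hB := Cfsg.Agent.S4494.result 2 M hM _ hqb
  obtain ⟨h1, -, h3⟩ := Cfsg.Agent.S4733.result 2 M hM _ hqb
  have hk : blockRank 2 (quotBlock Z b) ≤ 1 := by
    have hd01 : blockDefect 2 (quotBlock Z b) = 0 ∨ blockDefect 2 (quotBlock Z b) = 1 := by omega
    rcases hd01 with h0 | h0
    · rw [h0] at hB
      have e2 : (2 : ℕ) ^ (2 * 0) = 1 := rfl
      rw [e2] at hB
      omega
    · rw [h0] at hB
      have e2 : (2 : ℕ) ^ (2 * 1) = 4 := rfl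
      rw [e2] at hB
      have h4 : Nat.card ↑(quotBlock Z b) ≠ blockRank 2 (quotBlock Z b) := by
        intro h5
        have := h3.mpr h5
        omega
      omega
  omega

end Cfsg.Agent.Lib.Blocks.CentralQuot
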