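import Mathlib
import Cfsg.Agent.Lib.Blocks.CycloSums

/-!
# Numerics of hermitian matrices with cyclotomic entries

A hermitian matrix `a` with entries in the ring of `n`-th cyclotomic integers, with `a² = c a` (on a finite index set).
The Galois averages of the diagonal entries are nonnegative, and the averaged row sums are `c` times them.
For `n` a power of `2` the averages of the real elements are rational integers. This gives the numerical core of the
bounds for `k(B)` from a major subsection.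
-/

set_option autoImplicit false

namespace Cfsg.Agent.Lib.Blocks.MajorNum

open Cfsg Cfsg.Agent.Lib.Blocks.Local Cfsg.Agent.Lib.Blocks.CycloSums
open scoped ComplexConjugate

variable {ι : Type*} {n : ℕ} [NeZero n]

/-- A hermitian matrix with cyclotomic entries and `a² = c a`. -/
structure Herm (s : Finset ι) (n : ℕ) (c : ℕ) (a : ι → ι → ℂ) : Prop where
  mem : ∀ i j, a i j ∈ rootRing n
  herm : ∀ i j, conj (a i j) = a j i
  row : ∀ i ∈ s, ∑ j ∈ s, a i j * conj (a i j) = (c : ℂ) * a i i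

namespace Herm

variable {s : Finset ι} {c : ℕ} {a : ι → ι → ℂ}

lemma totNonneg (H : Herm s n c a) (hc : 0 < c) {i : ι} (hi : i ∈ s) : TotNonneg n (a i i) :=
  row_totNonneg (fun j _ => H.mem i j) hc (H.row i hi)

lemma sum_nAvg (H : Herm s n c a) {i : ι} (hi : i ∈ s) :
    ∑ j ∈ s, nAvg n (a i j) = (c : ℝ) * aAvg n (a i i) :=
  sum_nAvg_eq (fun j _ => H.mem i j) (H.row i hi)

/-- Nonzero entries in a row bound the average. -/
lemma sum_le_of_subset (H : Herm s n c a) {i : ι} (hi : i ∈ s) {T : Finset ι} (hT : T ⊆ s) (w : ι → ℝ)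
    (hw : ∀ j ∈ T, w j ≤ nAvg n (a i j)) : ∑ j ∈ T, w j ≤ (c : ℝ) * aAvg n (a i i) := by
  rw [← H.sum_nAvg hi]
  calc ∑ j ∈ T, w j ≤ ∑ j ∈ T, nAvg n (a i j) := Finset.sum_le_sum hw
    _ ≤ ∑ j ∈ s, nAvg n (a i j) := Finset.sum_le_sum_of_subset_of_nonneg hT fun _ _ _ => nAvg_nonneg _

lemma card_le_of_ne (H : Herm s n c a) {i : ι} (hi : i ∈ s) {T : Finset ι} (hT : T ⊆ s)
    (h0 : ∀ j ∈ T, a i j ≠ 0) : (T.card : ℝ) ≤ (c : ℝ) * aAvg n (a i i) := by
  have h1 := H.sum_le_of_subset hi hT (fun _ => 1) (fun j hj => one_le_nAvg (H.mem i j) (h0 j hj))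
  simpa using h1

lemma aAvg_le (H : Herm s n c a) (hc : 0 < c) {i : ι} (hi : i ∈ s) : aAvg n (a i i) ≤ c := by
  have h1 := (H.totNonneg hc hi).aAvg_sq_le
  have h2 := H.sum_le_of_subset hi (Finset.singleton_subset_iff.mpr hi) (fun j => nAvg n (a i j))
    (fun j _ => le_rfl)
  rw [Finset.sum_singleton] at h2
  have h3 := (H.totNonneg hc hi).aAvg_nonneg
  by_contra hlt
  have hlt' : (c : ℝ) < aAvg n (a i i) := not_le.mp hlt
  have hc' : (0 : ℝ) < c := by exact_mod_cast hc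
  nlinarith

lemma real_diag (H : Herm s n c a) (i : ι) : conj (a i i) = a i i := H.herm i i

open Classical in
/-- The complementary matrix. -/
noncomputable def compl (c : ℕ) (a : ι → ι → ℂ) (i j : ι) : ℂ := (if i = j then (c : ℂ) else 0) - a i j

lemma compl_self (i : ι) : compl c a i i = (c : ℂ) - a i i := by
  simp [compl]

lemma compl_of_ne {i j : ι} (h : i ≠ j) : compl c a i j = - a i j := by
  simp [compl, h]

/-- The complementary matrix has the same properties. -/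
theorem herm_compl (H : Herm s n c a) : Herm s n c (compl c a) := by
  classical
  refine ⟨fun i j => ?_, fun i j => ?_, fun i hi => ?_⟩
  · refine Subring.sub_mem _ ?_ (H.mem i j)
    split_ifs
    · exact natCast_mem _ c
    · exact Subring.zero_mem _
  · unfold compl
    rw [map_sub, H.herm i j]
    congr 1
    by_cases h : i = j
    · subst h
      simp
    · rw [if_neg h, if_neg (Ne.symm h), map_zero]
  · have h1 : ∀ j, compl c a i j * conj (compl c a i j) =
        (if i = j then (c : ℂ) ^ 2 - 2 * c * a i i else 0) + a i j * conj (a i j) := by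
      intro j
      by_cases h : i = j
      · subst h
        rw [compl_self, map_sub, Complex.conj_natCast, H.real_diag, if_pos rfl]
        ring
      · rw [compl_of_ne h, if_neg h, map_neg]
        ring
    simp only [h1]
    rw [Finset.sum_add_distrib, H.row i hi, Finset.sum_ite_eq, if_pos hi, compl_self]
    ring

/-- The average of the complementary diagonal. -/
lemma aAvg_compl (i : ι) : aAvg n (compl c a i i) = c - aAvg n (a i i) := by
  rw [compl_self, aAvg_sub, aAvg_natCast]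

end Herm

section Two

variable {M : Ideal AlgInt} [hMp : M.IsPrime] {K : ℕ}

/-- Real totally nonnegative elements have natural number averages. -/
theorem two_avg (hM : IsPModular 2 M) {y : ℂ} (hy : y ∈ rootRing (2 ^ (K + 1))) (hr : conj y = y)
    (ht : TotNonneg (2 ^ (K + 1)) y) :
    ∃ m : ℕ, aAvg (2 ^ (K + 1)) y = m ∧ MemLocalIdeal M (y - m) := by
  obtain ⟨m, h1, h2⟩ := real_avg (M := M) hM hy hr
  have h3 : aAvg (2 ^ (K + 1)) y = (m : ℝ) := by
    rw [aAvg, h1]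
    simp
  have h4 := ht.aAvg_nonneg
  rw [h3] at h4
  have h5 : 0 ≤ m := by exact_mod_cast h4
  lift m to ℕ using h5
  refine ⟨m, by rw [h3]; simp, ?_⟩
  simpa using h2

/-- Units have odd average. -/
theorem two_avg_odd (hM : IsPModular 2 M) {y : ℂ} (hy : y ∈ rootRing (2 ^ (K + 1))) (hr : conj y = y)
    (ht : TotNonneg (2 ^ (K + 1)) y) (hn : ¬ MemLocalIdeal M y) :
    ∃ m : ℕ, aAvg (2 ^ (K + 1)) y = m ∧ Odd m := by
  obtain ⟨m, h1, h2⟩ := two_avg (M := M) hM hy hr ht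
  refine ⟨m, h1, ?_⟩
  rw [← Nat.not_even_iff_odd]
  intro he
  apply hn
  have h3 : MemLocalIdeal M (m : ℂ) := (memLocalIdeal_natCast_iff hM).2 he.two_dvd
  have h4 := memLocalIdeal_add h2 h3
  rwa [sub_add_cancel] at h4

/-- Nonunits have even average. -/
theorem two_avg_even (hM : IsPModular 2 M) {y : ℂ} (hy : y ∈ rootRing (2 ^ (K + 1))) (hr : conj y = y)
    (ht : TotNonneg (2 ^ (K + 1)) y) (hn : MemLocalIdeal M y) (h0 : y ≠ 0) :
    2 ≤ aAvg (2 ^ (K + 1)) y := by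
  obtain ⟨m, h1, h2⟩ := two_avg (M := M) hM hy hr ht
  have h3 : MemLocalIdeal M (m : ℂ) := by
    have h4 := memLocalIdeal_sub hn h2
    convert h4 using 1
    ring
  have h5 : 2 ∣ m := (memLocalIdeal_natCast_iff hM).1 h3
  have h6 := ht.one_le_aAvg hy h0
  rw [h1] at h6 ⊢
  have h7 : 1 ≤ m := by exact_mod_cast h6
  have h8 : 2 ≤ m := by
    obtain ⟨t, rfl⟩ := h5
    omega
  exact_mod_cast h8

end Two

/-- The arithmetic behind the bound for the characters of height zero. -/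
theorem numeric_sqrt {z : Finset ι} (m : ι → ℕ) (hodd : ∀ i ∈ z, Odd (m i)) (c l : ℕ)
    (h1 : ∀ i ∈ z, z.card ≤ c * m i) (h2 : ∑ i ∈ z, m i ≤ c * l) :
    (Odd (Nat.sqrt l) → z.card ≤ Nat.sqrt l * c) ∧
    (¬ Odd (Nat.sqrt l) → (Nat.sqrt l + 1) * z.card ≤ l * c) ∧
    (l ≤ 3 → z.card ≤ c) := by
  have hs1 := Nat.sqrt_le' l
  have hs2 := Nat.lt_succ_sqrt' l
  set s := Nat.sqrt l with hs
  have hlow : ∀ t : ℕ, (∀ i ∈ z, t ≤ m i) → t * z.card ≤ c * l := by
    intro t ht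
    calc t * z.card = ∑ _i ∈ z, t := by rw [Finset.sum_const, smul_eq_mul, mul_comm]
      _ ≤ ∑ i ∈ z, m i := Finset.sum_le_sum ht
      _ ≤ c * l := h2
  have hodd' : Odd s → z.card ≤ s * c := by
    intro hso
    by_cases hex : ∃ i ∈ z, m i ≤ s
    · obtain ⟨i, hi, his⟩ := hex
      calc z.card ≤ c * m i := h1 i hi
        _ ≤ c * s := Nat.mul_le_mul_left _ his
        _ = s * c := mul_comm _ _
    · have h3 : ∀ i ∈ z, s + 2 ≤ m i := by
        intro i hi
        have h4 : s < m i := by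
          by_contra h5
          exact hex ⟨i, hi, not_lt.mp h5⟩
        by_contra h5
        have h6 : m i = s + 1 := by omega
        have h7 := hodd i hi
        rw [h6] at h7
        exact (Nat.not_even_iff_odd.mpr h7) (hso.add_one)
      have h4 := hlow _ h3
      have h5 : l ≤ s * (s + 2) := by
        have : l < (s + 1) ^ 2 := hs2
        nlinarith
      have h6 : (s + 2) * z.card ≤ (s + 2) * (s * c) := by
        calc (s + 2) * z.card ≤ c * l := h4
          _ ≤ c * (s * (s + 2)) := Nat.mul_le_mul_left _ h5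
          _ = (s + 2) * (s * c) := by ring
      exact Nat.le_of_mul_le_mul_left h6 (by omega)
  have heven : ¬ Odd s → (s + 1) * z.card ≤ l * c := by
    intro hse
    by_cases hex : ∃ i ∈ z, m i ≤ s
    · obtain ⟨i, hi, his⟩ := hex
      have h3 := hodd i hi
      have h4 : m i ≠ s := fun h => hse (h ▸ h3)
      have h5 : m i + 1 ≤ s := by omega
      have h6 : (s + 1) * m i + 1 ≤ s ^ 2 := by nlinarith [Nat.mul_le_mul_left (s + 1) h5]
      calc (s + 1) * z.card ≤ (s + 1) * (c * m i) := Nat.mul_le_mul_left _ (h1 i hi)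
        _ = c * ((s + 1) * m i) := by ring
        _ ≤ c * l := Nat.mul_le_mul_left _ (by omega)
        _ = l * c := mul_comm _ _
    · have h3 : ∀ i ∈ z, s + 1 ≤ m i := by
        intro i hi
        by_contra h5
        exact hex ⟨i, hi, by omega⟩
      calc (s + 1) * z.card ≤ c * l := hlow _ h3
        _ = l * c := mul_comm _ _
  refine ⟨hodd', heven, fun hl => ?_⟩
  have hs' : s = 0 ∨ s = 1 := by
    by_contra hcon
    have h3 : 2 ≤ s := by omega
    nlinarith
  rcases hs' with h3 | h3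
  · have h4 := heven (by rw [h3]; decide)
    have h5 : l = 0 := by
      have h6 : l < s.succ ^ 2 := hs2
      rw [h3] at h6
      simpa using h6
    rw [h3, h5, zero_add, one_mul, zero_mul] at h4
    omega
  · have h4 := hodd' (by rw [h3]; exact odd_one)
    rw [h3, one_mul] at h4
    exact h4

section Major

variable {M : Ideal AlgInt} [hMp : M.IsPrime] {K : ℕ} {s : Finset ι} {c : ℕ} {a : ι → ι → ℂ}

/-- The bound for the characters of height zero. -/
theorem sqrt_bound (hM : IsPModular 2 M) (H : Herm s (2 ^ (K + 1)) c a) (hc : 0 < c) (z : Finset ι) (hz : z ⊆ s)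
    (h0 : ∀ i ∈ z, ∀ j ∈ z, a i j ≠ 0) (hu : ∀ i ∈ z, ¬ MemLocalIdeal M (a i i)) {l : ℕ}
    (htr : ∑ i ∈ s, aAvg (2 ^ (K + 1)) (a i i) = (c : ℝ) * l) :
    (Odd (Nat.sqrt l) → z.card ≤ Nat.sqrt l * c) ∧
    (¬ Odd (Nat.sqrt l) → (Nat.sqrt l + 1) * z.card ≤ l * c) ∧
    (l ≤ 3 → z.card ≤ c) := by
  have hm : ∀ i ∈ z, ∃ m : ℕ, aAvg (2 ^ (K + 1)) (a i i) = m ∧ Odd m := fun i hi =>
    two_avg_odd hM (H.mem i i) (H.real_diag i) (H.totNonneg hc (hz hi)) (hu i hi)
  choose! m hm1 hm2 using hm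
  refine numeric_sqrt m hm2 c l (fun i hi => ?_) ?_
  · have h1 := H.card_le_of_ne (hz hi) (T := z) hz (h0 i hi)
    rw [hm1 i hi] at h1
    exact_mod_cast h1
  · have h1 : ((∑ i ∈ z, m i : ℕ) : ℝ) ≤ ∑ i ∈ s, aAvg (2 ^ (K + 1)) (a i i) := by
      push_cast
      calc ∑ i ∈ z, (m i : ℝ) = ∑ i ∈ z, aAvg (2 ^ (K + 1)) (a i i) :=
            Finset.sum_congr rfl fun i hi => (hm1 i hi).symm
        _ ≤ _ := Finset.sum_le_sum_of_subset_of_nonneg hz fun i hi _ => (H.totNonneg hc hi).aAvg_nonneg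
    rw [htr] at h1
    exact_mod_cast h1

/-- The data attached to a major subsection of a `2`-block. -/
structure Major2 (M : Ideal AlgInt) [M.IsPrime] (s : Finset ι) (K c : ℕ) (a : ι → ι → ℂ) (h : ι → ℕ) : Prop where
  herm : Herm s (2 ^ (K + 1)) c a
  ne : ∀ i ∈ s, ∀ j ∈ s, h j = 0 → ∃ y ∈ rootRing (2 ^ (K + 1)), y ≠ 0 ∧ a i j = (2 : ℂ) ^ h i * y
  nonunit : ∀ i ∈ s, h i ≠ 0 → ∃ y ∈ rootRing (2 ^ (K + 1)), MemLocalIdeal M y ∧ a i i = (2 : ℂ) ^ h i * y
  unit : ∀ i ∈ s, h i = 0 → ¬ MemLocalIdeal M (a i i)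

namespace Major2

variable {h : ι → ℕ}

lemma entry_ne (D : Major2 M s K c a h) {i j : ι} (hi : i ∈ s) (hj : j ∈ s) (hj0 : h j = 0) : a i j ≠ 0 := by
  obtain ⟨y, -, hy, e⟩ := D.ne i hi j hj hj0
  rw [e]
  exact mul_ne_zero (pow_ne_zero _ two_ne_zero) hy

lemma entry_ne' (D : Major2 M s K c a h) {i j : ι} (hi : i ∈ s) (hj : j ∈ s) (hi0 : h i = 0) : a i j ≠ 0 := by
  rw [← D.herm.herm j i]
  exact (map_ne_zero _).mpr (D.entry_ne hj hi hi0)

/-- The row of a character of height zero. -/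
lemma sum_four_le (D : Major2 M s K c a h) {j : ι} (hj : j ∈ s) (hj0 : h j = 0) :
    ∑ i ∈ s, (4 : ℝ) ^ h i ≤ (c : ℝ) * aAvg (2 ^ (K + 1)) (a j j) := by
  refine D.herm.sum_le_of_subset hj (Finset.Subset.refl s) _ fun i hi => ?_
  obtain ⟨y, hy, hy0, e⟩ := D.ne i hi j hj hj0
  have h1 : nAvg (2 ^ (K + 1)) (a j i) = nAvg (2 ^ (K + 1)) (a i j) := by
    rw [← D.herm.herm i j, nAvg_conj (D.herm.mem i j)]
  rw [h1, e]
  have h2 : ((2 : ℂ)) = ((2 : ℕ) : ℂ) := by norm_num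
  rw [h2, nAvg_natCast_pow_mul]
  have h3 := one_le_nAvg hy hy0
  have h4 : (4 : ℝ) ^ h i = ((2 : ℕ) : ℝ) ^ (2 * h i) := by
    rw [pow_mul]
    norm_num
  rw [h4]
  exact le_mul_of_one_le_right (by positivity) h3

lemma card_le_sum_four (D : Major2 M s K c a h) : (s.card : ℝ) ≤ ∑ i ∈ s, (4 : ℝ) ^ h i := by
  have h1 : ∑ _i ∈ s, (1 : ℝ) ≤ ∑ i ∈ s, (4 : ℝ) ^ h i :=
    Finset.sum_le_sum fun i _ => one_le_pow₀ (by norm_num)
  simpa using h1

/-- The average on the diagonal for positive height. -/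
lemma two_mul_le_aAvg (hM : IsPModular 2 M) (D : Major2 M s K c a h) (hc : 0 < c) (hz : ∃ j ∈ s, h j = 0)
    {i : ι} (hi : i ∈ s) (hi0 : h i ≠ 0) : 2 * (2 : ℝ) ^ h i ≤ aAvg (2 ^ (K + 1)) (a i i) := by
  obtain ⟨y, hy, hyM, e⟩ := D.nonunit i hi hi0
  have h2 : ((2 : ℂ)) = ((2 : ℕ) : ℂ) := by norm_num
  have hp : 0 < 2 ^ h i := by positivity
  have e' : a i i = (((2 ^ h i : ℕ)) : ℂ) * y := by
    rw [e]
    push_cast
    rfl
  have ht := D.herm.totNonneg hc hi
  rw [e'] at ht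
  have ht' := ht.natCast_mul hp
  have hr : conj y = y := by
    have h3 := D.herm.real_diag i
    rw [e', map_mul, Complex.conj_natCast] at h3
    have h4 : (((2 ^ h i : ℕ)) : ℂ) ≠ 0 := by exact_mod_cast hp.ne'
    exact mul_left_cancel₀ h4 h3
  have hy0 : y ≠ 0 := by
    rintro rfl
    obtain ⟨j, hj, hj0⟩ := hz
    have h5 := D.herm.row i hi
    rw [e', mul_zero, mul_zero] at h5
    have h6 : ∑ j' ∈ s, ‖a i j'‖ ^ 2 = 0 := by
      have h7 : ((∑ j' ∈ s, ‖a i j'‖ ^ 2 : ℝ) : ℂ) = 0 := by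
        rw [← h5]
        push_cast
        refine Finset.sum_congr rfl fun j' _ => ?_
        rw [Complex.mul_conj, Complex.normSq_eq_norm_sq]
        push_cast
        rfl
      exact_mod_cast h7
    have h8 := (Finset.sum_eq_zero_iff_of_nonneg (fun _ _ => by positivity)).mp h6 j hj
    have h9 : a i j = 0 := by simpa using h8
    exact D.entry_ne hi hj hj0 h9
  have h10 := two_avg_even hM hy hr ht' hyM hy0
  rw [e', aAvg_natCast_mul]
  push_cast
  nlinarith [pow_pos (two_pos : (0 : ℝ) < 2) (h i)]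

/-- **The bound for `3 k₀ + 2 ∑ 2^h`.** -/
theorem bound_three (hM : IsPModular 2 M) (D : Major2 M s K c a h) (hc : 0 < c) (hz : ∃ j ∈ s, h j = 0) {l : ℕ} (hl : l ≤ 3)
    (htr : ∑ i ∈ s, aAvg (2 ^ (K + 1)) (a i i) = (c : ℝ) * l) :
    3 * (s.filter (fun i => h i = 0)).card + 2 * ∑ i ∈ s.filter (fun i => h i ≠ 0), 2 ^ h i ≤ 3 * c := by
  have hodd : ∀ j ∈ s, h j = 0 → ∃ m : ℕ, aAvg (2 ^ (K + 1)) (a j j) = m ∧ Odd m := fun j hj hj0 =>
    two_avg_odd hM (D.herm.mem j j) (D.herm.real_diag j) (D.herm.totNonneg hc hj) (D.unit j hj hj0)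
  have hsplit : ∀ f : ι → ℝ, ∑ i ∈ s, f i = ∑ i ∈ s.filter (fun i => h i = 0), f i +
      ∑ i ∈ s.filter (fun i => h i ≠ 0), f i := fun f =>
    (Finset.sum_filter_add_sum_filter_not s _ f).symm
  have hcast : (((3 * (s.filter (fun i => h i = 0)).card + 2 * ∑ i ∈ s.filter (fun i => h i ≠ 0), 2 ^ h i : ℕ)) : ℝ) =
      ∑ i ∈ s.filter (fun i => h i = 0), (3 : ℝ) + ∑ i ∈ s.filter (fun i => h i ≠ 0), 2 * (2 : ℝ) ^ h i := by
    push_cast
    rw [Finset.sum_const, nsmul_eq_mul, ← Finset.mul_sum]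
    ring
  have hgoal : ∑ i ∈ s.filter (fun i => h i = 0), (3 : ℝ) + ∑ i ∈ s.filter (fun i => h i ≠ 0), 2 * (2 : ℝ) ^ h i ≤ 3 * c := by
    by_cases hex : ∃ j ∈ s, h j = 0 ∧ aAvg (2 ^ (K + 1)) (a j j) = 1
    · obtain ⟨j, hj, hj0, hj1⟩ := hex
      have h1 := D.sum_four_le hj hj0
      rw [hj1, mul_one, hsplit] at h1
      have h2 : ∑ i ∈ s.filter (fun i => h i = 0), (4 : ℝ) ^ h i = ∑ i ∈ s.filter (fun i => h i = 0), (1 : ℝ) :=
        Finset.sum_congr rfl fun i hi => by rw [(Finset.mem_filter.mp hi).2, pow_zero]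
      have h3 : ∑ i ∈ s.filter (fun i => h i = 0), (3 : ℝ) = 3 * ∑ i ∈ s.filter (fun i => h i = 0), (1 : ℝ) := by
        rw [Finset.mul_sum]
        simp
      have h4 : ∑ i ∈ s.filter (fun i => h i ≠ 0), 2 * (2 : ℝ) ^ h i ≤
          3 * ∑ i ∈ s.filter (fun i => h i ≠ 0), (4 : ℝ) ^ h i := by
        rw [Finset.mul_sum]
        refine Finset.sum_le_sum fun i hi => ?_
        have h5 : (4 : ℝ) ^ h i = (2 : ℝ) ^ h i * (2 : ℝ) ^ h i := by
          rw [← mul_pow]
          norm_num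
        have h6 : (1 : ℝ) ≤ (2 : ℝ) ^ h i := one_le_pow₀ (by norm_num)
        rw [h5]
        nlinarith
      rw [h2] at h1
      rw [h3]
      linarith
    · have h1 : ∀ j ∈ s, h j = 0 → 3 ≤ aAvg (2 ^ (K + 1)) (a j j) := by
        intro j hj hj0
        obtain ⟨m, hm, hmo⟩ := hodd j hj hj0
        have h2 : m ≠ 1 := by
          rintro rfl
          exact hex ⟨j, hj, hj0, by rw [hm]; simp⟩
        have h3 : 3 ≤ m := by
          obtain ⟨t, rfl⟩ := hmo
          omega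
        rw [hm]
        exact_mod_cast h3
      have h2 : ∑ i ∈ s.filter (fun i => h i = 0), (3 : ℝ) ≤ ∑ i ∈ s.filter (fun i => h i = 0), aAvg (2 ^ (K + 1)) (a i i) :=
        Finset.sum_le_sum fun i hi => h1 i (Finset.mem_filter.mp hi).1 (Finset.mem_filter.mp hi).2
      have h3 : ∑ i ∈ s.filter (fun i => h i ≠ 0), 2 * (2 : ℝ) ^ h i ≤
          ∑ i ∈ s.filter (fun i => h i ≠ 0), aAvg (2 ^ (K + 1)) (a i i) :=
        Finset.sum_le_sum fun i hi => D.two_mul_le_aAvg hM hc hz (Finset.mem_filter.mp hi).1 (Finset.mem_filter.mp hi).2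
      rw [hsplit] at htr
      have h4 : (c : ℝ) * l ≤ 3 * c := by
        have h5 : (l : ℝ) ≤ 3 := by exact_mod_cast hl
        have h6 : (0 : ℝ) ≤ c := by positivity
        nlinarith
      linarith
  rw [← hcast] at hgoal
  exact_mod_cast hgoal

/-- **The bound from the complementary matrix.** -/
theorem bound_compl (hM : IsPModular 2 M) {d' : ℕ} (D : Major2 M s K (2 ^ d') a h) (hz : ∃ j ∈ s, h j = 0) {l : ℕ}
    (hkl : s.card ≤ l + 3) (htr : ∑ i ∈ s, aAvg (2 ^ (K + 1)) (a i i) = ((2 ^ d' : ℕ) : ℝ) * l) :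
    s.card ≤ 2 ^ d' := by
  have hc : 0 < 2 ^ d' := by positivity
  have H' := D.herm.herm_compl
  have hodd : ∀ j ∈ s, h j = 0 → ∃ m : ℕ, aAvg (2 ^ (K + 1)) (a j j) = m ∧ Odd m := fun j hj hj0 =>
    two_avg_odd hM (D.herm.mem j j) (D.herm.real_diag j) (D.herm.totNonneg hc hj) (D.unit j hj hj0)
  by_cases hex1 : ∃ j ∈ s, h j = 0 ∧ aAvg (2 ^ (K + 1)) (a j j) = 1
  · obtain ⟨j, hj, hj0, hj1⟩ := hex1
    have h1 := D.sum_four_le hj hj0
    have h2 := D.card_le_sum_four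
    rw [hj1, mul_one] at h1
    have h3 := h2.trans h1
    exact_mod_cast h3
  by_cases hex2 : ∃ j ∈ s, h j = 0 ∧ aAvg (2 ^ (K + 1)) (Herm.compl (2 ^ d') a j j) = 1
  · obtain ⟨j, hj, hj0, hj1⟩ := hex2
    have h1 := H'.card_le_of_ne hj (T := s) (Finset.Subset.refl s) (fun i hi => by
      by_cases hij : j = i
      · subst hij
        intro h0
        rw [h0, aAvg, avg_zero] at hj1
        simp at hj1
      · rw [Herm.compl_of_ne hij]
        exact neg_ne_zero.mpr (D.entry_ne' hj hi hj0))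
    rw [hj1, mul_one] at h1
    exact_mod_cast h1
  obtain ⟨j₀, hj₀, hj₀0⟩ := hz
  have hd0 : d' ≠ 0 := by
    rintro rfl
    apply hex1
    obtain ⟨m, hm, hmo⟩ := hodd j₀ hj₀ hj₀0
    refine ⟨j₀, hj₀, hj₀0, ?_⟩
    have h1 := D.herm.aAvg_le hc hj₀
    have h2 : m ≤ 1 := by
      rw [hm] at h1
      simpa using h1
    have h3 : m = 1 := by
      obtain ⟨t, rfl⟩ := hmo
      omega
    rw [hm, h3]
    simp
  have hA : ∀ j ∈ s, h j = 0 → 3 ≤ aAvg (2 ^ (K + 1)) (Herm.compl (2 ^ d') a j j) := by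
    intro j hj hj0
    obtain ⟨m, hm, hmo⟩ := hodd j hj hj0
    have h1 := D.herm.aAvg_le hc hj
    have h2 : m ≤ 2 ^ d' := by
      rw [hm] at h1
      exact_mod_cast h1
    have h3 : aAvg (2 ^ (K + 1)) (Herm.compl (2 ^ d') a j j) = ((2 ^ d' - m : ℕ) : ℝ) := by
      rw [Herm.aAvg_compl, hm, Nat.cast_sub h2]
    have h4 : Even (2 ^ d') := (Nat.even_pow' hd0).mpr even_two
    have h5 : Odd (2 ^ d' - m) := Nat.Even.sub_odd h2 h4 hmo
    have h6 : 2 ^ d' - m ≠ 1 := by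
      intro h7
      apply hex2
      refine ⟨j, hj, hj0, ?_⟩
      rw [h3, h7]
      simp
    have h7 : 3 ≤ 2 ^ d' - m := by
      obtain ⟨t, ht⟩ := h5
      omega
    rw [h3]
    exact_mod_cast h7
  have hB : ∀ i ∈ s, h i ≠ 0 → 3 ≤ aAvg (2 ^ (K + 1)) (Herm.compl (2 ^ d') a i i) := by
    intro i hi hi0
    have h1 := D.two_mul_le_aAvg hM hc ⟨j₀, hj₀, hj₀0⟩ hi hi0
    have h2 := D.herm.aAvg_le hc hi
    have h3 : (2 : ℝ) * 2 ^ h i ≤ ((2 ^ d' : ℕ) : ℝ) := h1.trans h2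
    have h4 : h i + 1 ≤ d' := by
      have h5 : 2 ^ (h i + 1) ≤ 2 ^ d' := by
        have : ((2 ^ (h i + 1) : ℕ) : ℝ) ≤ ((2 ^ d' : ℕ) : ℝ) := by
          push_cast
          rw [pow_succ, mul_comm]
          push_cast at h3
          exact h3
        exact_mod_cast this
      exact (Nat.pow_le_pow_iff_right (by norm_num)).mp h5
    obtain ⟨t, ht⟩ : ∃ t, d' = h i + (t + 1) := ⟨d' - h i - 1, by omega⟩
    obtain ⟨y, hy, hyM, e⟩ := D.nonunit i hi hi0
    have hp : 0 < 2 ^ h i := by positivity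
    have hpc : (((2 ^ h i : ℕ)) : ℂ) ≠ 0 := by exact_mod_cast hp.ne'
    have e' : a i i = (((2 ^ h i : ℕ)) : ℂ) * y := by
      rw [e]
      push_cast
      rfl
    have hr : conj y = y := by
      have h5 := D.herm.real_diag i
      rw [e', map_mul, Complex.conj_natCast] at h5
      exact mul_left_cancel₀ hpc h5
    set y' : ℂ := ((2 ^ (t + 1) : ℕ) : ℂ) - y with hy'
    have e2 : Herm.compl (2 ^ d') a i i = (((2 ^ h i : ℕ)) : ℂ) * y' := by
      rw [Herm.compl_self, e', hy', ht, pow_add]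
      push_cast
      ring
    have hy'R : y' ∈ rootRing (2 ^ (K + 1)) := Subring.sub_mem _ (natCast_mem _ _) hy
    have hy'M : MemLocalIdeal M y' := by
      refine memLocalIdeal_sub ?_ hyM
      refine (memLocalIdeal_natCast_iff hM).2 ?_
      exact Dvd.intro_left _ (pow_succ 2 t).symm
    have hy'r : conj y' = y' := by
      rw [hy', map_sub, hr, Complex.conj_natCast]
    have ht' : TotNonneg (2 ^ (K + 1)) y' := by
      have h5 := H'.totNonneg hc hi
      rw [e2] at h5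
      exact h5.natCast_mul hp
    have hy'0 : y' ≠ 0 := by
      intro h0
      have h5 := H'.row i hi
      rw [e2, h0, mul_zero, mul_zero] at h5
      have h6 : ∑ j' ∈ s, ‖Herm.compl (2 ^ d') a i j'‖ ^ 2 = 0 := by
        have h7 : ((∑ j' ∈ s, ‖Herm.compl (2 ^ d') a i j'‖ ^ 2 : ℝ) : ℂ) = 0 := by
          rw [← h5]
          push_cast
          refine Finset.sum_congr rfl fun j' _ => ?_
          rw [Complex.mul_conj, Complex.normSq_eq_norm_sq]
          push_cast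
          rfl
        exact_mod_cast h7
      have h8 := (Finset.sum_eq_zero_iff_of_nonneg (fun _ _ => by positivity)).mp h6 j₀ hj₀
      have h9 : Herm.compl (2 ^ d') a i j₀ = 0 := by simpa using h8
      have hne : i ≠ j₀ := by
        rintro rfl
        exact hi0 hj₀0
      rw [Herm.compl_of_ne hne, neg_eq_zero] at h9
      exact D.entry_ne hi hj₀ hj₀0 h9
    have h5 := two_avg_even hM hy'R hy'r ht' hy'M hy'0
    rw [e2, aAvg_natCast_mul]
    have h6 : (2 : ℝ) ≤ ((2 ^ h i : ℕ) : ℝ) := by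
      have h7 : 2 ≤ 2 ^ h i := by
        obtain ⟨t', ht'⟩ : ∃ t', h i = t' + 1 := ⟨h i - 1, by omega⟩
        rw [ht', pow_succ]
        have : 0 < 2 ^ t' := by positivity
        omega
      exact_mod_cast h7
    nlinarith
  have hsum : (3 : ℝ) * s.card ≤ ∑ i ∈ s, aAvg (2 ^ (K + 1)) (Herm.compl (2 ^ d') a i i) := by
    have h1 : ∑ _i ∈ s, (3 : ℝ) ≤ ∑ i ∈ s, aAvg (2 ^ (K + 1)) (Herm.compl (2 ^ d') a i i) := by
      refine Finset.sum_le_sum fun i hi => ?_
      by_cases hi0 : h i = 0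
      · exact hA i hi hi0
      · exact hB i hi hi0
    rw [Finset.sum_const, nsmul_eq_mul] at h1
    rw [mul_comm]
    exact h1
  have hsum2 : ∑ i ∈ s, aAvg (2 ^ (K + 1)) (Herm.compl (2 ^ d') a i i) =
      (s.card : ℝ) * ((2 ^ d' : ℕ) : ℝ) - ((2 ^ d' : ℕ) : ℝ) * l := by
    simp only [Herm.aAvg_compl]
    rw [Finset.sum_sub_distrib, htr, Finset.sum_const, nsmul_eq_mul]
  have h6 : (s.card : ℝ) ≤ l + 3 := by exact_mod_cast hkl
  have h7 : (0 : ℝ) < ((2 ^ d' : ℕ) : ℝ) := by exact_mod_cast hc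
  rw [hsum2] at hsum
  have h8 : (s.card : ℝ) ≤ ((2 ^ d' : ℕ) : ℝ) := by nlinarith
  exact_mod_cast h8

end Major2

end Major

end Cfsg.Agent.Lib.Blocks.MajorNum
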