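import Mathlib
import Cfsg.Agent.Lib.Blocks.MajorSub
import Cfsg.Agent.Lib.Blocks.CycloSums

/-!
# Major subsections: the frame identities and the height divisibility

Let `u` be a `p`-element, `C = C_G(u)`, `b` a block of `C` inducing `B`.

* `sum_SS`, `XX_row`, `XX_trace`: with `x χ χ' = p^{d(b)} [g_χ, g_χ']`, the matrix `x` is `p^{d(b)}` times a hermitian
  projection of rank `l(b)` on the characters of `B`.
* `XX_eq_omega`: `x χ χ' = p^{d(b)} (χ(1)/|G|) ω_χ(Y_χ')`, for a central element `Y_χ'` with local coefficients.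
* `XX_eq_pow_mul`: if `d(b) = d(B)` then `x χ χ' = p^{h(χ)} y`, with `y` an integer combination of roots of unity; `y`
  is a unit at `M` if `χ'` has height zero and a nonunit if `χ' = χ` has positive height.
-/

set_option autoImplicit false

namespace Cfsg.Agent.Lib.Blocks.MajorSub2

open Cfsg Cfsg.Agent.Lib.Blocks.Local Cfsg.Agent.Lib.Blocks.Central Cfsg.Agent.Lib.Blocks.Osima
  Cfsg.Agent.Lib.Blocks.Regular Cfsg.Agent.Lib.Blocks.Cartan Cfsg.Agent.Lib.Blocks.Sections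
  Cfsg.Agent.Lib.Blocks.SecondMain Cfsg.Agent.Lib.Blocks.BlockCount
  Cfsg.Agent.Lib.Blocks.SubsectionNorm Cfsg.Agent.Lib.Blocks.RegNorm Cfsg.Agent.Lib.Blocks.GaloisAvg
  Cfsg.Agent.Lib.Blocks.BrauerFeit Cfsg.Agent.Lib.Blocks.HeightZero Cfsg.Agent.Lib.Blocks.MajorSub
  Cfsg.Agent.Lib.Blocks.CycloSums
open scoped ComplexConjugate

universe u

variable {G : Type u} [Group G] [Fintype G] {M : Ideal AlgInt} [hMp : M.IsPrime] {p : ℕ} [hp : Fact p.Prime]
variable {u : G} [Fintype (Cen u)]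

open Classical

/-- The integral form. -/
noncomputable def SS (p : ℕ) (b : Set (IrrCharacter (Cen u))) (f g : Cen u → ℂ) : ℂ :=
  (p : ℂ) ^ blockDefect p b * classInner f g

lemma XX_eq_SS (b : Set (IrrCharacter (Cen u))) (χ χ' : IrrCharacter G) :
    XX p b χ χ' = SS p b (gg p b χ) (gg p b χ') := rfl

lemma gg_mem (b : Set (IrrCharacter (Cen u))) (χ : IrrCharacter G) : gg p b χ ∈ regSpan p b :=
  reg_blockPart_mem _ _

lemma classInner_eq_sumInner (f g : Cen u → ℂ) :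
    classInner f g = (Nat.card (Cen u) : ℂ)⁻¹ * sumInner f g := rfl

/-- The frame identity. -/
theorem sum_SS (hM : IsPModular p M) {k : ℕ} (hk : orderOf u = p ^ k) {b : Set (IrrCharacter (Cen u))}
    {B : Set (IrrCharacter G)} (hind : IsInducedBlock M (Cen u) b B) {v w : Cen u → ℂ}
    (hv : v ∈ regSpan p b) (hw : w ∈ regSpan p b) :
    ∑ χ ∈ Finset.univ.filter (· ∈ B), conj (SS p b (gg p b χ) v) * SS p b (gg p b χ) w =
      ((p ^ blockDefect p b : ℕ) : ℂ) * SS p b v w := by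
  obtain ⟨χ₀, rfl⟩ := id hind.2.1
  have hχ₀ := mem_blockOf_self (M := M) χ₀
  have hsub : ∀ ξ ∈ b, ξ ∈ inducers (Cen u) M (χ₀ : G → ℂ) := fun ξ hξ g => hind.2.2 ξ hξ χ₀ hχ₀ g
  have hs : regSpan p b ≤ regSpan p (inducers (Cen u) M (χ₀ : G → ℂ)) :=
    Submodule.span_mono (Set.image_mono hsub)
  have heC : IsClosed M b := isClosed_of_isPBlock hind.1
  have h1 := sum_polar hM χ₀ hk (hs hv) (hs hw)
  have h2 : ∀ (χ : IrrCharacter G) {w' : Cen u → ℂ}, w' ∈ regSpan p b → SS p b (gg p b χ) w' =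
      (p : ℂ) ^ blockDefect p b * ((Nat.card (Cen u) : ℂ)⁻¹ * sumInner (fun c : Cen u => (χ : G → ℂ) (u * c)) w') := by
    intro χ w' hw'
    rw [SS, classInner_eq_sumInner]
    congr 2
    exact sumInner_reg_blockPart hM heC _ hw'
  simp only [h2 _ hv, h2 _ hw]
  have hcard : (Nat.card (Cen u) : ℂ) ≠ 0 := Nat.cast_ne_zero.mpr Nat.card_pos.ne'
  have h3 : ∀ χ : IrrCharacter G,
      conj ((p : ℂ) ^ blockDefect p b * ((Nat.card (Cen u) : ℂ)⁻¹ * sumInner (fun c : Cen u => (χ : G → ℂ) (u * c)) v)) *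
        ((p : ℂ) ^ blockDefect p b * ((Nat.card (Cen u) : ℂ)⁻¹ * sumInner (fun c : Cen u => (χ : G → ℂ) (u * c)) w)) =
      ((p : ℂ) ^ blockDefect p b * (Nat.card (Cen u) : ℂ)⁻¹) ^ 2 *
        (conj (sumInner (fun c : Cen u => (χ : G → ℂ) (u * c)) v) * sumInner (fun c : Cen u => (χ : G → ℂ) (u * c)) w) := by
    intro χ
    simp only [map_mul, map_pow, Complex.conj_natCast, map_inv₀]
    ring
  simp only [h3]
  rw [← Finset.mul_sum, h1, SS, classInner_eq_sumInner]
  push_cast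
  field_simp

/-- `x` is hermitian. -/
lemma XX_conj (b : Set (IrrCharacter (Cen u))) (χ χ' : IrrCharacter G) :
    conj (XX p b χ χ') = XX p b χ' χ := by
  rw [XX, XX, map_mul, map_pow, Complex.conj_natCast, Cfsg.Agent.Lib.Char.Ortho.classInner_conj_symm]

/-- The row identity. -/
theorem XX_row (hM : IsPModular p M) {k : ℕ} (hk : orderOf u = p ^ k) {b : Set (IrrCharacter (Cen u))}
    {B : Set (IrrCharacter G)} (hind : IsInducedBlock M (Cen u) b B) (χ₀ : IrrCharacter G) :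
    ∑ χ ∈ Finset.univ.filter (· ∈ B), XX p b χ₀ χ * conj (XX p b χ₀ χ) =
      ((p ^ blockDefect p b : ℕ) : ℂ) * XX p b χ₀ χ₀ := by
  have h1 := sum_SS hM hk hind (gg_mem b χ₀) (gg_mem b χ₀)
  rw [← XX_eq_SS] at h1
  rw [← h1]
  refine Finset.sum_congr rfl fun χ _ => ?_
  rw [XX_conj, ← XX_eq_SS, ← XX_conj b χ]

/-- The trace identity. -/
theorem XX_trace (hM : IsPModular p M) {k : ℕ} (hk : orderOf u = p ^ k) {b : Set (IrrCharacter (Cen u))}
    {B : Set (IrrCharacter G)} (hind : IsInducedBlock M (Cen u) b B) :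
    ∑ χ ∈ Finset.univ.filter (· ∈ B), XX p b χ χ = ((p ^ blockDefect p b * blockRank p b : ℕ) : ℂ) := by
  obtain ⟨χ₀, rfl⟩ := id hind.2.1
  have hχ₀ := mem_blockOf_self (M := M) χ₀
  have hsub : ∀ ξ ∈ b, ξ ∈ inducers (Cen u) M (χ₀ : G → ℂ) := fun ξ hξ g => hind.2.2 ξ hξ χ₀ hχ₀ g
  have hs : regSpan p b ≤ regSpan p (inducers (Cen u) M (χ₀ : G → ℂ)) :=
    Submodule.span_mono (Set.image_mono hsub)
  have heC : IsClosed M b := isClosed_of_isPBlock hind.1
  obtain ⟨w, hwmem, hwon, hwexp⟩ := exists_orthonormal (regSpan p b)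
  have h2 : ∀ χ, gg p b χ = ∑ i, sumInner (gg p b χ) (w i) • w i := fun χ => hwexp _ (gg_mem b χ)
  have hcard : (Nat.card (Cen u) : ℂ) ≠ 0 := Nat.cast_ne_zero.mpr Nat.card_pos.ne'
  have h3 : ∀ χ, XX p b χ χ = (p : ℂ) ^ blockDefect p b * ((Nat.card (Cen u) : ℂ)⁻¹ *
      ∑ i, conj (sumInner (gg p b χ) (w i)) * sumInner (gg p b χ) (w i)) := by
    intro χ
    rw [XX, classInner_eq_sumInner]
    congr 2
    have h4 : sumInner (gg p b χ) (gg p b χ) = sumInner (gg p b χ) (∑ i, sumInner (gg p b χ) (w i) • w i) :=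
      congrArg _ (h2 χ)
    rw [h4, sumInner_sum_right]
    refine Finset.sum_congr rfl fun i _ => ?_
    rw [sumInner_smul_right]
  have h5 : ∀ i, ∑ χ ∈ Finset.univ.filter (· ∈ blockOf M (χ₀ : G → ℂ)),
      conj (sumInner (gg p b χ) (w i)) * sumInner (gg p b χ) (w i) = (Nat.card (Cen u) : ℂ) := by
    intro i
    have h6 := sum_polar hM χ₀ hk (hs (hwmem i)) (hs (hwmem i))
    have h7 : sumInner (w i) (w i) = 1 := by
      have := hwon i i
      rw [if_pos rfl] at this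
      exact this
    rw [h7, mul_one] at h6
    rw [← h6]
    refine Finset.sum_congr rfl fun χ _ => ?_
    have h8 : sumInner (gg p b χ) (w i) = sumInner (fun c : Cen u => (χ : G → ℂ) (u * c)) (w i) :=
      sumInner_reg_blockPart hM heC _ (hwmem i)
    rw [h8]
  simp only [h3]
  rw [← Finset.mul_sum, ← Finset.mul_sum, Finset.sum_comm]
  simp only [h5, Finset.sum_const, Finset.card_univ, Fintype.card_fin, nsmul_eq_mul]
  rw [blockRank_eq]
  push_cast
  field_simp

/-! ### The central element -/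

/-- Extension by zero. -/
noncomputable def wt (w : Cen u → ℂ) (v : G) : ℂ := if hv : v ∈ Cen u then w ⟨v, hv⟩ else 0

lemma wt_coe (w : Cen u → ℂ) (c : Cen u) : wt w c = w c := by
  simp only [wt, dif_pos c.2]

/-- The class function induced from the section of `u`. -/
noncomputable def ind (w : Cen u → ℂ) (g : G) : ℂ := sectionFun {u} (fun _ c => wt w c) g

lemma extU_eq (w : Cen u → ℂ) (v : G) : extU (fun _ c => wt w c) u v = wt w v := by
  by_cases hv : v ∈ Cen u
  · rw [extU_of_mem _ hv]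
  · rw [extU_of_notMem _ hv]
    simp only [wt, dif_neg hv]

lemma ind_apply (w : Cen u → ℂ) (g : G) :
    ind w g = (Nat.card (Cen u) : ℂ)⁻¹ * ∑ h : G, wt w (u⁻¹ * (h * g * h⁻¹)) := by
  rw [ind, sectionFun, Finset.sum_singleton]
  simp only [extU_eq]

lemma isClassFunction_ind (w : Cen u → ℂ) : IsClassFunction G (ind w) := isClassFunction_sectionFun _ _

lemma ind_mul {k : ℕ} (hk : orderOf u = p ^ k) {w : Cen u → ℂ} (hw : IsClassFunction (Cen u) w)
    (hw0 : ∀ c : Cen u, p ∣ orderOf c → w c = 0) (c : Cen u) (hc : ¬ p ∣ orderOf c) : ind w (u * c) = w c := by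
  rw [ind, sectionFun_mul_of {u} ?_ (fun _ c => wt w c) ?_ ?_ (Finset.mem_singleton_self u) ?_ c hc]
  · exact wt_coe w c
  · intro x hx
    rw [Finset.mem_singleton.mp hx]
    exact ⟨k, hk⟩
  · intro x hx c₁ d₁
    obtain rfl := Finset.mem_singleton.mp hx
    simp only [wt_coe]
    exact hw c₁ d₁
  · intro x hx c₁ hc₁
    obtain rfl := Finset.mem_singleton.mp hx
    simp only [wt_coe]
    exact hw0 c₁ hc₁
  · intro x hx _
    exact Finset.mem_singleton.mp hx

/-- The values of the induced class function. -/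
lemma ind_cases {k : ℕ} (hk : orderOf u = p ^ k) {w : Cen u → ℂ} (hw : IsClassFunction (Cen u) w)
    (hw0 : ∀ c : Cen u, p ∣ orderOf c → w c = 0) (g : G) : ind w g = 0 ∨ ∃ c : Cen u, ind w g = w c := by
  by_cases hall : ∀ h : G, wt w (u⁻¹ * (h * g * h⁻¹)) = 0
  · left
    rw [ind_apply]
    simp [hall]
  · right
    simp only [not_forall] at hall
    obtain ⟨h, hh⟩ := hall
    by_cases ht : u⁻¹ * (h * g * h⁻¹) ∈ Cen u
    · refine ⟨⟨_, ht⟩, ?_⟩
      have h1 : wt w (u⁻¹ * (h * g * h⁻¹)) = w ⟨_, ht⟩ := wt_coe w ⟨_, ht⟩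
      rw [h1] at hh
      have hc : ¬ p ∣ orderOf (⟨_, ht⟩ : Cen u) := fun hd => hh (hw0 _ hd)
      have h2 := ind_mul hk hw hw0 _ hc
      have h3 : u * ((⟨_, ht⟩ : Cen u) : G) = h * g * h⁻¹ := by simp
      rw [h3] at h2
      rw [← h2]
      have h4 := isClassFunction_ind w g h
      exact h4.symm
    · exact absurd (by simp only [wt, dif_neg ht]) hh

/-- The central element attached to a class function on the section of `u`. -/
noncomputable def YY (w : Cen u → ℂ) : MonoidAlgebra ℂ G := ofFun (ind w)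

lemma YY_mem {k : ℕ} (hk : orderOf u = p ^ k) {w : Cen u → ℂ} (hw : IsClassFunction (Cen u) w)
    (hw0 : ∀ c : Cen u, p ∣ orderOf c → w c = 0) (hw1 : ∀ c, MemLocalRing M (w c)) : YY w ∈ localCenter G M := by
  refine ⟨?_, fun g => ?_⟩
  · intro g h
    simp only [YY, coeff_ofFun]
    exact isClassFunction_ind w g h
  · simp only [YY, coeff_ofFun]
    rcases ind_cases hk hw hw0 g with h | ⟨c, h⟩
    · rw [h]
      exact memLocalRing_zero
    · rw [h]
      exact hw1 c

lemma omega_YY {χ : G → ℂ} (hχ : IsClassFunction G χ) (w : Cen u → ℂ) :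
    omega χ (YY w) = ((Nat.card G : ℂ) / χ 1) * ((Nat.card (Cen u) : ℂ)⁻¹ * ∑ c : Cen u, w c * χ (u * c)) := by
  rw [YY, omega_ofFun]
  have h1 : ∀ h : G, ∑ g : G, wt w (u⁻¹ * (h * g * h⁻¹)) * χ g = ∑ g : G, wt w (u⁻¹ * g) * χ g := by
    intro h
    refine Fintype.sum_equiv (MulAut.conj h).toEquiv _ _ fun g => ?_
    simp only [MulEquiv.toEquiv_eq_coe, EquivLike.coe_coe, MulAut.conj_apply]
    rw [hχ]
  have h2 : ∑ g : G, wt w (u⁻¹ * g) * χ g = ∑ t : G, wt w t * χ (u * t) := by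
    refine Fintype.sum_equiv (Equiv.mulLeft u⁻¹) _ _ fun g => ?_
    simp only [Equiv.coe_mulLeft, mul_inv_cancel_left]
  have h3 : ∑ t : G, wt w t * χ (u * t) = ∑ c : Cen u, w c * χ (u * c) := by
    rw [sum_eq_sum_subgroup (Cen u) _ (fun t ht => by simp only [wt, dif_neg ht, zero_mul])]
    refine Finset.sum_congr rfl fun c _ => ?_
    rw [wt_coe]
  have h5 : ∑ g : G, ind w g * χ g =
      (Nat.card (Cen u) : ℂ)⁻¹ * ∑ h : G, ∑ g : G, wt w (u⁻¹ * (h * g * h⁻¹)) * χ g := by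
    simp only [ind_apply, Finset.mul_sum, Finset.sum_mul]
    rw [Finset.sum_comm]
    refine Finset.sum_congr rfl fun h _ => Finset.sum_congr rfl fun g _ => ?_
    ring
  rw [h5]
  simp only [h1, Finset.sum_const, Finset.card_univ, nsmul_eq_mul]
  rw [h2, h3, ← Nat.card_eq_fintype_card]
  ring

/-- The integrality of the section functions. -/
lemma isIntegral_gg {k : ℕ} (hk : orderOf u = p ^ k) (b : Set (IrrCharacter (Cen u))) (χ : IrrCharacter G) (c : Cen u) :
    IsIntegral ℤ (gg p b χ c) := by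
  rw [gg_eq, Finset.sum_apply]
  refine IsIntegral.sum _ fun μ _ => ?_
  rw [Pi.smul_apply, smul_eq_mul]
  refine IsIntegral.mul (IsIntegral.mul (isIntegral_natCast _) ?_) ?_
  · exact IsIntegral.of_pow (pow_pos hp.out.pos k) (by rw [nu_pow_eq hk μ]; exact isIntegral_one)
  · by_cases hc : p ∣ orderOf c
    · rw [reg_of_dvd _ hc]
      exact isIntegral_zero
    · rw [reg_of_not_dvd _ hc]
      exact isIntegral_irr μ.2 c

/-- The central element attached to `χ'`. -/
noncomputable def eta (p : ℕ) (b : Set (IrrCharacter (Cen u))) (χ' : IrrCharacter G) : MonoidAlgebra ℂ G :=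
  YY (fun c => conj (gg p b χ' c))

lemma eta_mem {k : ℕ} (hk : orderOf u = p ^ k) (b : Set (IrrCharacter (Cen u))) (χ' : IrrCharacter G) :
    eta p b χ' ∈ localCenter G M := by
  refine YY_mem hk ?_ ?_ ?_
  · intro c d
    have h1 := mem_regSpan_classFunction (gg_mem (p := p) b χ')
    simp only [h1 c d]
  · intro c hc
    rw [mem_regSpan_vanish (gg_mem (p := p) b χ') hc, map_zero]
  · intro c
    exact memLocalRing_of_isIntegral (map_isIntegral_int (starRingEnd ℂ) (isIntegral_gg hk b χ' c))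

/-- **The key formula.** -/
theorem XX_eq_omega (hM : IsPModular p M) {b : Set (IrrCharacter (Cen u))} (hb : IsPBlock M b) (χ χ' : IrrCharacter G) :
    XX p b χ χ' = (p : ℂ) ^ blockDefect p b * (((χ : G → ℂ) 1 / (Nat.card G : ℂ)) * omega (χ : G → ℂ) (eta p b χ')) := by
  have heC : IsClosed M b := isClosed_of_isPBlock hb
  have h1 : sumInner (gg p b χ) (gg p b χ') = sumInner (fun c : Cen u => (χ : G → ℂ) (u * c)) (gg p b χ') :=
    sumInner_reg_blockPart hM heC _ (gg_mem b χ')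
  rw [XX, classInner_eq_sumInner, h1, eta, omega_YY (isClassFunction_of_irr χ.2)]
  have h0 := Cfsg.Agent.Lib.Char.Ortho.irr_apply_one_ne_zero χ.2
  have hcard : (Nat.card G : ℂ) ≠ 0 := Nat.cast_ne_zero.mpr Nat.card_pos.ne'
  have h2 : ∑ c : Cen u, conj (gg p b χ' c) * (χ : G → ℂ) (u * c) = sumInner (fun c : Cen u => (χ : G → ℂ) (u * c)) (gg p b χ') := by
    rw [sumInner]
    exact Finset.sum_congr rfl fun c _ => mul_comm _ _
  rw [h2]
  field_simp

/-! ### Heights -/

/-- The cofactor. -/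
noncomputable def yy (p : ℕ) (b : Set (IrrCharacter (Cen u))) (χ χ' : IrrCharacter G) : ℂ :=
  ((ordCompl[p] (charDegree (χ : G → ℂ)) : ℕ) : ℂ) * (((ordCompl[p] (Nat.card G) : ℕ) : ℂ)⁻¹ * omega (χ : G → ℂ) (eta p b χ'))

/-- The height divides the numbers `x`. -/
theorem XX_eq_pow_mul (hM : IsPModular p M) {b : Set (IrrCharacter (Cen u))} {B : Set (IrrCharacter G)} (hb : IsPBlock M b)
    (hd : blockDefect p b = blockDefect p B) {χ : IrrCharacter G} (hχ : χ ∈ B) (χ' : IrrCharacter G) :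
    XX p b χ χ' = (p : ℂ) ^ blockHeight p B (χ : G → ℂ) * yy p b χ χ' := by
  rw [XX_eq_omega hM hb, yy, hd]
  have h1 : ((χ : G → ℂ) 1) = (p : ℂ) ^ (mu p B + blockHeight p B (χ : G → ℂ)) * ((ordCompl[p] (charDegree (χ : G → ℂ)) : ℕ) : ℂ) := by
    rw [← Cfsg.Agent.Lib.Blocks.RegInt.charDegree_cast, mu_add_height hχ, ← Nat.cast_pow, ← Nat.cast_mul,
      Nat.ordProj_mul_ordCompl_eq_self]
  have h2 : (Nat.card G : ℂ) = (p : ℂ) ^ (blockDefect p B + mu p B) * ((ordCompl[p] (Nat.card G) : ℕ) : ℂ) := by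
    rw [defect_add_mu hχ, ← Nat.cast_pow, ← Nat.cast_mul, Nat.ordProj_mul_ordCompl_eq_self]
  have hp0 : (p : ℂ) ≠ 0 := by exact_mod_cast hp.out.ne_zero
  have hf : ((ordCompl[p] (Nat.card G) : ℕ) : ℂ) ≠ 0 := by
    have : ordCompl[p] (Nat.card G) ≠ 0 := (Nat.ordCompl_pos p Nat.card_pos.ne').ne'
    exact_mod_cast this
  rw [h1, h2, pow_add, pow_add]
  field_simp

lemma memLocalRing_yy (hM : IsPModular p M) {k : ℕ} (hk : orderOf u = p ^ k) (b : Set (IrrCharacter (Cen u)))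
    (χ χ' : IrrCharacter G) : MemLocalRing M (yy p b χ χ') := by
  refine memLocalRing_mul (memLocalRing_natCast _) (memLocalRing_mul ?_ ?_)
  · exact memLocalRing_inv_natCast hM (Nat.not_dvd_ordCompl hp.out Nat.card_pos.ne')
  · exact memLocalRing_omega χ.2 (eta_mem hk b χ')

/-- The numbers `y` lie in the ring of cyclotomic integers. -/
theorem yy_mem (hM : IsPModular p M) {k : ℕ} (hk : orderOf u = p ^ k) {b : Set (IrrCharacter (Cen u))} {B : Set (IrrCharacter G)}
    (hb : IsPBlock M b) (hd : blockDefect p b = blockDefect p B) {χ : IrrCharacter G} (hχ : χ ∈ B) (χ' : IrrCharacter G) :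
    yy p b χ χ' ∈ rootRing (p ^ (k + 1)) := by
  refine pow_div_mem_of_local hM ?_ (memLocalRing_yy hM hk b χ χ') (XX_eq_pow_mul hM hb hd hχ χ')
  exact rootSums_mono (pow_dvd_pow p (Nat.le_succ k)) (XX_mem hM hk b χ χ')

lemma XX_mem' (hM : IsPModular p M) {k : ℕ} (hk : orderOf u = p ^ k) (b : Set (IrrCharacter (Cen u)))
    (χ χ' : IrrCharacter G) : XX p b χ χ' ∈ rootRing (p ^ (k + 1)) :=
  rootSums_mono (pow_dvd_pow p (Nat.le_succ k)) (XX_mem hM hk b χ χ')

/-- Modulo the local ideal, `y` is `ω_χ` of the central element up to a unit. -/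
lemma memLocalIdeal_yy_iff (hM : IsPModular p M) {k : ℕ} (hk : orderOf u = p ^ k) (b : Set (IrrCharacter (Cen u)))
    (χ χ' : IrrCharacter G) : MemLocalIdeal M (yy p b χ χ') ↔ MemLocalIdeal M (omega (χ : G → ℂ) (eta p b χ')) := by
  have hu1 : ¬ MemLocalIdeal M ((ordCompl[p] (charDegree (χ : G → ℂ)) : ℕ) : ℂ) := fun h =>
    Nat.not_dvd_ordCompl hp.out (Cfsg.Agent.Lib.Blocks.RegInt.charDegree_ne_zero χ)
      ((memLocalIdeal_natCast_iff hM).1 h)
  have hinv := memLocalRing_inv_natCast (M := M) hM (Nat.not_dvd_ordCompl hp.out (Nat.card_pos (α := G)).ne')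
  have hf : ((ordCompl[p] (Nat.card G) : ℕ) : ℂ) ≠ 0 := by
    have : ordCompl[p] (Nat.card G) ≠ 0 := (Nat.ordCompl_pos p Nat.card_pos.ne').ne'
    exact_mod_cast this
  have hω := memLocalRing_omega (M := M) χ.2 (eta_mem hk b χ')
  constructor
  · intro h
    by_contra hn
    refine not_memLocalIdeal_mul (memLocalRing_natCast _) (memLocalRing_mul hinv hω) hu1 ?_ h
    refine not_memLocalIdeal_mul hinv hω ?_ hn
    intro h1
    have h2 := memLocalIdeal_mul_right h1 (memLocalRing_natCast (M := M) (ordCompl[p] (Nat.card G)))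
    rw [inv_mul_cancel₀ hf] at h2
    exact not_memLocalIdeal_one h2
  · intro h
    exact memLocalIdeal_mul_left (memLocalRing_natCast _) (memLocalIdeal_mul_left hinv h)

/-- Neither of the numbers `x` of two characters of height zero lies in the local ideal. -/
theorem XX_not_mem (hM : IsPModular p M) {k : ℕ} (hk : orderOf u = p ^ k) {b : Set (IrrCharacter (Cen u))}
    {B : Set (IrrCharacter G)} (hind : IsInducedBlock M (Cen u) b B) {χ χ' : IrrCharacter G} (hχ : χ ∈ B)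
    (hχ' : χ' ∈ B) (h0 : blockHeight p B (χ : G → ℂ) = 0) (h0' : blockHeight p B (χ' : G → ℂ) = 0) :
    ¬ MemLocalIdeal M (XX p b χ χ') := by
  intro hX
  have h1 := XX_cong hM hk b χ χ'
  have h1' : MemLocalIdeal M (DD p b χ χ') := by
    have := memLocalIdeal_sub hX h1
    convert this using 1
    ring
  have h2 := memLocalIdeal_mul_left (memLocalRing_natCast (ff p u)) h1'
  have h3 := ff_mul_DD_cong hM hind hχ χ'
  have h4 := memLocalIdeal_sub h2 h3
  have h5 : MemLocalIdeal M ((nn p b χ' : ℂ) * omega (χ : G → ℂ) (zElt p (χ : G → ℂ))) := by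
    convert h4 using 1
    ring
  exact not_memLocalIdeal_mul (memLocalRing_natCast _)
    (memLocalRing_omega χ.2 (zElt_mem_localCenter (M := M) (p := p) χ.2))
    (nn_not_mem hM hind hχ' h0') (not_memLocalIdeal_omega_zElt_self hM hind.2.1 hχ h0) h5

/-- `y` is a unit if the second character has height zero. -/
theorem yy_not_mem (hM : IsPModular p M) {k : ℕ} (hk : orderOf u = p ^ k) {b : Set (IrrCharacter (Cen u))}
    {B : Set (IrrCharacter G)} (hind : IsInducedBlock M (Cen u) b B) (hd : blockDefect p b = blockDefect p B)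
    {χ χ' : IrrCharacter G} (hχ : χ ∈ B) (hχ' : χ' ∈ B) (h0' : blockHeight p B (χ' : G → ℂ) = 0) :
    ¬ MemLocalIdeal M (yy p b χ χ') := by
  obtain ⟨χ₁, hχ₁, h₁⟩ := exists_height_zero (p := p) (nonempty_of_isPBlock hind.2.1)
  intro h
  rw [memLocalIdeal_yy_iff hM hk] at h
  have h2 : SameBlock M (χ₁ : G → ℂ) (χ : G → ℂ) := by
    obtain ⟨τ, hτ⟩ := hind.2.1
    rw [hτ] at hχ₁ hχ
    exact sameBlock_trans (sameBlock_symm hχ₁) hχ
  have h3 := memLocalIdeal_omega_sub χ₁.2 χ.2 h2 (eta_mem (M := M) hk b χ')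
  have h4 := memLocalIdeal_add h3 h
  rw [sub_add_cancel, ← memLocalIdeal_yy_iff hM hk] at h4
  have h5 := XX_eq_pow_mul hM hind.1 hd hχ₁ χ'
  rw [h₁, pow_zero, one_mul] at h5
  rw [← h5] at h4
  exact XX_not_mem hM hk hind hχ₁ hχ' h₁ h0' h4

/-- `y` is not a unit on the diagonal of a character of positive height. -/
theorem yy_self_mem (hM : IsPModular p M) {k : ℕ} (hk : orderOf u = p ^ k) {b : Set (IrrCharacter (Cen u))}
    {B : Set (IrrCharacter G)} (hind : IsInducedBlock M (Cen u) b B) (hd : blockDefect p b = blockDefect p B)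
    {χ : IrrCharacter G} (hχ : χ ∈ B) (h0 : blockHeight p B (χ : G → ℂ) ≠ 0) : MemLocalIdeal M (yy p b χ χ) := by
  obtain ⟨χ₁, hχ₁, h₁⟩ := exists_height_zero (p := p) (nonempty_of_isPBlock hind.2.1)
  have hnpos : 0 < p ^ (k + 1) := pow_pos hp.out.pos _
  have h1 : MemLocalIdeal M (XX p b χ₁ χ) := by
    rw [← XX_conj, XX_eq_pow_mul hM hind.1 hd hχ χ₁, map_mul, map_pow, Complex.conj_natCast]
    obtain ⟨t, ht⟩ : ∃ t, blockHeight p B (χ : G → ℂ) = t + 1 := ⟨_, (Nat.succ_pred_eq_of_ne_zero h0).symm⟩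
    rw [ht, pow_succ]
    refine memLocalIdeal_mul_right (memLocalIdeal_mul_left (memLocalRing_pow (memLocalRing_natCast p) t)
      (memLocalIdeal_natCast_self hM)) ?_
    exact memLocalRing_of_mem_rootRing hnpos (conj_mem_rootRing (yy_mem hM hk hind.1 hd hχ χ₁))
  have h5 := XX_eq_pow_mul hM hind.1 hd hχ₁ χ
  rw [h₁, pow_zero, one_mul] at h5
  rw [h5, memLocalIdeal_yy_iff hM hk] at h1
  rw [memLocalIdeal_yy_iff hM hk]
  have h2 : SameBlock M (χ : G → ℂ) (χ₁ : G → ℂ) := by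
    obtain ⟨τ, hτ⟩ := hind.2.1
    rw [hτ] at hχ₁ hχ
    exact sameBlock_trans (sameBlock_symm hχ) hχ₁
  have h3 := memLocalIdeal_omega_sub χ.2 χ₁.2 h2 (eta_mem (M := M) hk b χ)
  have h4 := memLocalIdeal_add h3 h1
  rwa [sub_add_cancel] at h4

/-- The conjugate symmetric form of the height statement. -/
theorem XX_ne_of_height_zero (hM : IsPModular p M) {k : ℕ} (hk : orderOf u = p ^ k) {b : Set (IrrCharacter (Cen u))}
    {B : Set (IrrCharacter G)} (hind : IsInducedBlock M (Cen u) b B) (hd : blockDefect p b = blockDefect p B)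
    {χ χ' : IrrCharacter G} (hχ : χ ∈ B) (hχ' : χ' ∈ B) (h0' : blockHeight p B (χ' : G → ℂ) = 0) : XX p b χ χ' ≠ 0 := by
  rw [XX_eq_pow_mul hM hind.1 hd hχ χ']
  have hp0 : (p : ℂ) ≠ 0 := by exact_mod_cast hp.out.ne_zero
  exact mul_ne_zero (pow_ne_zero _ hp0) (ne_zero_of_not_memLocalIdeal (yy_not_mem hM hk hind hd hχ hχ' h0'))

end Cfsg.Agent.Lib.Blocks.MajorSub2
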