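import Mathlib
import Cfsg.Agent.Lib.Blocks.MajorSub2
import Cfsg.Agent.Lib.Blocks.MajorNum
import Cfsg.Agent.S0908

/-!
# Major subsections of `2`-blocks: assembling the numerical data
-/

set_option autoImplicit false

namespace Cfsg.Agent.Lib.Blocks.MajorSub3

open Cfsg Cfsg.Agent.Lib.Blocks.Local Cfsg.Agent.Lib.Blocks.Central Cfsg.Agent.Lib.Blocks.Osima
  Cfsg.Agent.Lib.Blocks.Sections Cfsg.Agent.Lib.Blocks.HeightZero Cfsg.Agent.Lib.Blocks.MajorSub
  Cfsg.Agent.Lib.Blocks.MajorSub2 Cfsg.Agent.Lib.Blocks.MajorNum Cfsg.Agent.Lib.Blocks.CycloSums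
open scoped ComplexConjugate

universe u

variable {G : Type u} [Group G] [Fintype G] {M : Ideal AlgInt} [hMp : M.IsPrime]
variable {u : G} [Fintype (Cen u)]

open Classical

/-- The defect of a major subsection. -/
lemma defect_eq {p : ℕ} [hp : Fact p.Prime] (hM : IsPModular p M) {B : Set (IrrCharacter G)} (hB : IsPBlock M B) {D : Subgroup G}
    (hD : IsDefectGroup p M B D) {z : G} (hzc : ∀ d ∈ D, d * z = z * d)
    {b : Set (IrrCharacter ↥(Subgroup.centralizer ({z} : Set G)))} (hb : IsPBlock M b)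
    (hbD : IsDefectGroup p M b (D.subgroupOf (Subgroup.centralizer ({z} : Set G)))) :
    blockDefect p b = blockDefect p B := by
  have h1 := Cfsg.Agent.S0908.result p M hM B hB D hD
  have h2 := Cfsg.Agent.S0908.result p M hM b hb _ hbD
  have hle : D ≤ Subgroup.centralizer ({z} : Set G) := by
    intro d hd
    rw [Subgroup.mem_centralizer_iff]
    intro w hw
    rw [Set.mem_singleton_iff.mp hw]
    exact (hzc d hd).symm
  have h3 : Nat.card (D.subgroupOf (Subgroup.centralizer ({z} : Set G))) = Nat.card D :=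
    Nat.card_congr (Subgroup.subgroupOfEquivOfLe hle).toEquiv
  rw [h3, h1] at h2
  exact (Nat.pow_right_injective hp.out.two_le h2).symm

/-- The matrix `x` is a hermitian matrix in the sense of `MajorNum`. -/
lemma herm_XX {p : ℕ} [hp : Fact p.Prime] (hM : IsPModular p M) {k : ℕ} (hk : orderOf u = p ^ k) {b : Set (IrrCharacter (Cen u))}
    {B : Set (IrrCharacter G)} (hind : IsInducedBlock M (Cen u) b B) :
    Herm (Finset.univ.filter (· ∈ B)) (p ^ (k + 1)) (p ^ blockDefect p b) (XX p b) :=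
  ⟨fun i j => XX_mem' hM hk b i j, fun i j => XX_conj b i j, fun i _ => XX_row hM hk hind i⟩

lemma trace_XX {p : ℕ} [hp : Fact p.Prime] (hM : IsPModular p M) {k : ℕ} (hk : orderOf u = p ^ k) {b : Set (IrrCharacter (Cen u))}
    {B : Set (IrrCharacter G)} (hind : IsInducedBlock M (Cen u) b B) :
    ∑ χ ∈ Finset.univ.filter (· ∈ B), aAvg (p ^ (k + 1)) (XX p b χ χ) =
      ((p ^ blockDefect p b : ℕ) : ℝ) * blockRank p b := by
  rw [← aAvg_sum, XX_trace hM hk hind, aAvg_natCast]
  push_cast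
  rfl

/-- The data of `MajorNum.Major2` for a major subsection of a `2`-block. -/
theorem major2 (hM : IsPModular 2 M) {k : ℕ} (hk : orderOf u = 2 ^ k) {b : Set (IrrCharacter (Cen u))}
    {B : Set (IrrCharacter G)} (hind : IsInducedBlock M (Cen u) b B) (hd : blockDefect 2 b = blockDefect 2 B) :
    Major2 M (Finset.univ.filter (· ∈ B)) k (2 ^ blockDefect 2 b) (XX 2 b) (fun χ => blockHeight 2 B (χ : G → ℂ)) := by
  refine ⟨herm_XX hM hk hind, ?_, ?_, ?_⟩
  · intro χ hχ χ' hχ' h0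
    have hχ1 := (Finset.mem_filter.mp hχ).2
    have hχ1' := (Finset.mem_filter.mp hχ').2
    refine ⟨yy 2 b χ χ', yy_mem hM hk hind.1 hd hχ1 χ',
      ne_zero_of_not_memLocalIdeal (yy_not_mem hM hk hind hd hχ1 hχ1' h0), ?_⟩
    have := XX_eq_pow_mul hM hind.1 hd hχ1 χ'
    simpa using this
  · intro χ hχ h0
    have hχ1 := (Finset.mem_filter.mp hχ).2
    refine ⟨yy 2 b χ χ, yy_mem hM hk hind.1 hd hχ1 χ, yy_self_mem hM hk hind hd hχ1 h0, ?_⟩
    have := XX_eq_pow_mul hM hind.1 hd hχ1 χ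
    simpa using this
  · intro χ hχ h0
    have hχ1 := (Finset.mem_filter.mp hχ).2
    exact XX_not_mem hM hk hind hχ1 hχ1 h0 h0

end Cfsg.Agent.Lib.Blocks.MajorSub3
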