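/-
Blocks with a Klein four defect group.
-/
import Mathlib
import Cfsg.Agent.Lib.Blocks.MajorSub3
import Cfsg.Agent.Lib.Blocks.CentralQuot
import Cfsg.Agent.Lib.Blocks.Pairs21
import Cfsg.Agent.S4667
import Cfsg.Agent.S4675
import Cfsg.Agent.S0908
import Cfsg.Agent.S4710

set_option autoImplicit false
set_option linter.style.haveILetI false

namespace Cfsg.Agent.Lib.Blocks.KleinFour

open Cfsg Cfsg.Agent.Lib.Blocks.Local Cfsg.Agent.Lib.Blocks.Central Cfsg.Agent.Lib.Blocks.Osima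
  Cfsg.Agent.Lib.Blocks.Regular Cfsg.Agent.Lib.Blocks.Cartan Cfsg.Agent.Lib.Blocks.BlockCount
  Cfsg.Agent.Lib.Blocks.Sections Cfsg.Agent.Lib.Blocks.MajorSub Cfsg.Agent.Lib.Blocks.MajorSub2
open scoped ComplexConjugate

universe u

section Column

variable {H : Type u} [Group H] [Fintype H] {M : Ideal AlgInt} [hMp : M.IsPrime]

lemma classInner_reg_reg' (p : ℕ) (f g : H → ℂ) : classInner (reg p f) (reg p g) = classInner (reg p f) g := by
  rw [classInner, classInner]
  congr 1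
  refine Finset.sum_congr rfl fun c _ => ?_
  by_cases hc : p ∣ orderOf c
  · rw [reg_of_dvd _ hc]
    simp
  · rw [reg_of_not_dvd _ hc, reg_of_not_dvd _ hc]

/-- A combination of irreducible characters with local coefficients vanishing on the `p`-singular elements has
values divisible by the orders of the centralizers. -/
theorem memLocalRing_div_card_centralizer {p : ℕ} [hp : Fact p.Prime] (hM : IsPModular p M) {ι : Type*} (s : Finset ι)
    (c : ι → ℂ) (f : ι → IrrCharacter H) (hc : ∀ i ∈ s, MemLocalRing M (c i))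
    (hF : ∀ x : H, p ∣ orderOf x → ∑ i ∈ s, c i * (f i : H → ℂ) x = 0) (y : H) :
    MemLocalRing M ((∑ i ∈ s, c i * (f i : H → ℂ) y) / (Nat.card (Subgroup.centralizer ({y} : Set H)) : ℂ)) := by
  classical
  by_cases hy : p ∣ orderOf y
  · rw [hF y hy, zero_div]
    exact memLocalRing_zero
  obtain ⟨S⟩ : Nonempty (Sylow p (Subgroup.centralizer ({y} : Set H))) := inferInstance
  set Q : Subgroup H := (S : Subgroup (Subgroup.centralizer ({y} : Set H))).map
    (Subgroup.centralizer ({y} : Set H)).subtype with hQdef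
  letI : Fintype Q := Fintype.ofFinite Q
  have hQp : IsPGroup p Q := S.isPGroup'.map _
  have hQ : ∀ q ∈ Q, y * q = q * y := by
    rintro _ ⟨t, -, rfl⟩
    exact Subgroup.mem_centralizer_iff.mp t.2 y rfl
  have hQcard : Nat.card Q = Nat.card S :=
    Nat.card_congr (Subgroup.equivMapOfInjective _ _ Subtype.val_injective).toEquiv.symm
  have hidx : ¬ p ∣ (S : Subgroup (Subgroup.centralizer ({y} : Set H))).index := S.not_dvd_index
  have hcoef : ∀ χ : IrrCharacter H, MemLocalRing M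
      ((Nat.card (Subgroup.centralizer ({y} : Set H)) : ℂ)⁻¹ * ∑ q : Q, (χ : H → ℂ) (y * q)) := by
    intro χ
    obtain ⟨n, ρ, -, hρ⟩ := χ.2
    have h1 := Cfsg.Agent.Lib.Blocks.DefectAvg.isIntegral_avg_character ρ Q y hQ
    rw [hρ] at h1
    have h2 : (Nat.card (Subgroup.centralizer ({y} : Set H)) : ℂ) =
        ((S : Subgroup (Subgroup.centralizer ({y} : Set H))).index : ℂ) * (Nat.card Q : ℂ) := by
      rw [hQcard, ← Nat.cast_mul]
      congr 1
      exact (Subgroup.index_mul_card _).symm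
    rw [h2, mul_inv, mul_assoc]
    exact memLocalRing_mul (memLocalRing_inv_natCast hM hidx) (memLocalRing_of_isIntegral h1)
  have hsum : ∑ i ∈ s, c i * (f i : H → ℂ) y = ∑ q : Q, ∑ i ∈ s, c i * (f i : H → ℂ) (y * q) := by
    rw [Finset.sum_eq_single (1 : Q)]
    · simp
    · intro q _ hq
      apply hF
      obtain ⟨k, hk⟩ := exists_orderOf_eq_of_mem hQp q.2
      exact Cfsg.Agent.Lib.Blocks.CentralQuot.dvd_orderOf_mul (hQ q q.2) hy hk (by simpa using hq)
    · simp
  rw [hsum, Finset.sum_comm, Finset.sum_div]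
  refine memLocalRing_sum _ _ fun i hi => ?_
  rw [← Finset.mul_sum, mul_div_assoc, div_eq_inv_mul]
  exact memLocalRing_mul (hc i hi) (hcoef _)

/-- A block of rank one: the regular parts are integer multiples of one function, of norm `2^-d`. -/
theorem exists_reg_eq (p : ℕ) [hp : Fact p.Prime] (hM : IsPModular p M) {b : Set (IrrCharacter H)} (hb : IsPBlock M b)
    {D : Subgroup H} (hD : IsDefectGroup p M b D) (hl : blockRank p b = 1) :
    ∃ (ρ : H → ℂ) (d : IrrCharacter H → ℕ), (∀ μ ∈ b, reg p (μ : H → ℂ) = (d μ : ℂ) • ρ) ∧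
      (p : ℂ) ^ blockDefect p b * classInner ρ ρ = 1 ∧ (∀ y, MemLocalRing M (ρ y)) ∧
      ∀ y, MemLocalRing M ((p : ℂ) ^ blockDefect p b * ρ y / (Nat.card (Subgroup.centralizer ({y} : Set H)) : ℂ)) := by
  classical
  letI : Fintype (IrrCharacter H) := Fintype.ofFinite _
  obtain ⟨φ, d, ⟨n, hn⟩, hφ, hsum⟩ := Cfsg.Agent.S4675.result p M hM b hb D hD hl
  have hcard := Cfsg.Agent.S0908.result p M hM b hb D hD
  have hrank := Cfsg.Agent.S4667.result p M hM b hb
  rw [hl] at hrank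
  refine ⟨reg p φ, d, ?_, ?_, ?_, ?_⟩
  · intro μ hμ
    funext y
    simp only [Pi.smul_apply, smul_eq_mul]
    by_cases hy : p ∣ orderOf y
    · simp [reg_of_dvd _ hy]
    · rw [reg_of_not_dvd _ hy, reg_of_not_dvd _ hy]
      exact hφ μ hμ y hy
  rotate_left
  · intro y
    by_cases hy : p ∣ orderOf y
    · rw [reg_of_dvd _ hy]
      exact memLocalRing_zero
    · rw [reg_of_not_dvd _ hy, hn y hy, Cfsg.Agent.Lib.Blocks.Osima.finsum_mem_eq_sum_filter]
      exact memLocalRing_sum _ _ fun ψ _ => memLocalRing_mul (memLocalRing_intCast _)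
        (memLocalRing_of_isIntegral (isIntegral_irr ψ.2 y))
  · intro y
    by_cases hy : p ∣ orderOf y
    · rw [reg_of_dvd _ hy, mul_zero, zero_div]
      exact memLocalRing_zero
    obtain ⟨μ₀, hμ₀⟩ : ∃ μ₀, μ₀ ∈ b := by
      obtain ⟨μ₀, rfl⟩ := id hb
      exact ⟨μ₀, Cfsg.Agent.Lib.Blocks.Osima.mem_blockOf_self μ₀⟩
    have hp1 : ¬ p ∣ orderOf (1 : H) := by
      simpa using hp.out.one_lt.ne'
    have hφ1 : φ 1 ≠ 0 := by
      intro h0
      have h1 := hφ μ₀ hμ₀ 1 hp1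
      rw [h0, mul_zero] at h1
      exact Cfsg.Agent.Lib.Char.Ortho.irr_apply_one_ne_zero μ₀.2 h1
    have hF : ∀ x : H, p ∣ orderOf x → ∑ μ ∈ Finset.univ.filter (· ∈ b), (d μ : ℂ) * ((id μ : IrrCharacter H) : H → ℂ) x = 0 := by
      intro x hx
      have h1 := Cfsg.Agent.S0907.result p M hM b hb 1 x hp1 hx
      rw [Cfsg.Agent.Lib.Blocks.Osima.finsum_mem_eq_sum_filter] at h1
      have h2 : ∑ μ ∈ Finset.univ.filter (· ∈ b), (μ : H → ℂ) 1 * conj ((μ : H → ℂ) x) =
          φ 1 * conj (∑ μ ∈ Finset.univ.filter (· ∈ b), (d μ : ℂ) * (μ : H → ℂ) x) := by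
        rw [map_sum, Finset.mul_sum]
        refine Finset.sum_congr rfl fun μ hμ => ?_
        rw [hφ μ (Finset.mem_filter.mp hμ).2 1 hp1, map_mul, Complex.conj_natCast]
        ring
      rw [h2] at h1
      have h3 := (mul_eq_zero.mp h1).resolve_left hφ1
      exact (map_eq_zero _).mp h3
    have h1 := memLocalRing_div_card_centralizer hM (Finset.univ.filter (· ∈ b)) (fun μ => (d μ : ℂ)) id
      (fun μ _ => memLocalRing_natCast _) hF y
    convert h1 using 2
    rw [reg_of_not_dvd _ hy]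
    have h2 : ∑ μ ∈ Finset.univ.filter (· ∈ b), (d μ : ℂ) * ((id μ : IrrCharacter H) : H → ℂ) y =
        (∑ μ ∈ Finset.univ.filter (· ∈ b), ((d μ ^ 2 : ℕ) : ℂ)) * φ y := by
      rw [Finset.sum_mul]
      refine Finset.sum_congr rfl fun μ hμ => ?_
      show (d μ : ℂ) * (μ : H → ℂ) y = _
      rw [hφ μ (Finset.mem_filter.mp hμ).2 y hy]
      push_cast
      ring
    rw [h2, ← Nat.cast_sum]
    rw [Cfsg.Agent.Lib.Blocks.Osima.finsum_mem_eq_sum_filter] at hsum
    rw [hsum, hcard]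
    push_cast
    rfl
  · have hreg : ∀ μ ∈ b, reg p (μ : H → ℂ) = (d μ : ℂ) • reg p φ := by
      intro μ hμ
      funext y
      simp only [Pi.smul_apply, smul_eq_mul]
      by_cases hy : p ∣ orderOf y
      · simp [reg_of_dvd _ hy]
      · rw [reg_of_not_dvd _ hy, reg_of_not_dvd _ hy]
        exact hφ μ hμ y hy
    have h0 : (Nat.card H : ℂ) ≠ 0 := Nat.cast_ne_zero.mpr Nat.card_pos.ne'
    have h1 : ∀ x : H, ∑ᶠ χ ∈ b, pRegularPart p (χ : H → ℂ) x * (χ : H → ℂ) x⁻¹ =
        ∑ μ ∈ Finset.univ.filter (· ∈ b), reg p (μ : H → ℂ) x * conj ((μ : H → ℂ) x) := by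
      intro x
      rw [Cfsg.Agent.Lib.Blocks.Osima.finsum_mem_eq_sum_filter]
      refine Finset.sum_congr rfl fun μ _ => ?_
      rw [pRegularPart_eq_reg, Cfsg.Agent.Lib.Char.Complete.isIrr_inv μ.2]
    simp only [h1] at hrank
    rw [Finset.sum_comm] at hrank
    have h2 : ∀ μ ∈ Finset.univ.filter (· ∈ b), ∑ x, reg p (μ : H → ℂ) x * conj ((μ : H → ℂ) x) =
        (Nat.card H : ℂ) * ((d μ ^ 2 : ℕ) * classInner (reg p φ) (reg p φ)) := by
      intro μ hμ
      have hμb := (Finset.mem_filter.mp hμ).2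
      have h3 : ∑ x, reg p (μ : H → ℂ) x * conj ((μ : H → ℂ) x) =
          (Nat.card H : ℂ) * classInner (reg p (μ : H → ℂ)) (reg p (μ : H → ℂ)) := by
        rw [classInner_reg_reg', classInner, mul_inv_cancel_left₀ h0]
      rw [h3, hreg μ hμb, Cfsg.Agent.Lib.Char.Ortho.classInner_smul_left,
        Cfsg.Agent.Lib.Char.Ortho.classInner_smul_right, Complex.conj_natCast]
      push_cast
      ring
    rw [Finset.sum_congr rfl h2, ← Finset.mul_sum, ← Finset.sum_mul] at hrank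
    rw [Cfsg.Agent.Lib.Blocks.Osima.finsum_mem_eq_sum_filter] at hsum
    have h3 : (∑ μ ∈ Finset.univ.filter (· ∈ b), ((d μ ^ 2 : ℕ) : ℂ)) = (p : ℂ) ^ blockDefect p b := by
      rw [← Nat.cast_sum, hsum, hcard]
      push_cast
      rfl
    rw [h3] at hrank
    have h4 : (Nat.card H : ℂ) * ((p : ℂ) ^ blockDefect p b * classInner (reg p φ) (reg p φ)) = (Nat.card H : ℂ) * 1 := by
      rw [← hrank]
      simp
    exact mul_left_cancel₀ h0 h4

end Column

section Major

variable {G : Type u} [Group G] [Fintype G] {M : Ideal AlgInt} [hMp : M.IsPrime]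
variable {u : G} [Fintype (Cen u)]

/-- For an involution, the central character takes the values `±1`. -/
lemma exists_sign (hu : orderOf u = 2) (μ : IrrCharacter (Cen u)) : ∃ s : ℤ, nu μ = s := by
  have h1 : nu μ ^ (2 ^ 1) = 1 := nu_pow_eq (p := 2) (by simpa using hu) μ
  have h2 : nu μ = 1 ∨ nu μ = -1 := by
    have : nu μ ^ 2 = 1 := by simpa using h1
    exact sq_eq_one_iff.mp this
  rcases h2 with h | h
  · exact ⟨1, by simp [h]⟩
  · exact ⟨-1, by simp [h]⟩

/-- **The column of a major subsection of rank one.** -/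
theorem exists_column (hM : IsPModular 2 M) (hu : orderOf u = 2) {b : Set (IrrCharacter (Cen u))}
    (hb : IsPBlock M b) {D : Subgroup (Cen u)} (hD : IsDefectGroup 2 M b D) (hl : blockRank 2 b = 1) :
    ∃ (ρ : Cen u → ℂ) (a : IrrCharacter G → ℤ), (∀ χ, gg 2 b χ = (a χ : ℂ) • ρ) ∧
      (2 : ℂ) ^ blockDefect 2 b * classInner ρ ρ = 1 ∧ (∀ χ χ', XX 2 b χ χ' = ((a χ * a χ' : ℤ) : ℂ)) ∧
      (∀ y, MemLocalRing M (ρ y)) ∧
      ∀ y, MemLocalRing M ((2 : ℂ) ^ blockDefect 2 b * ρ y / (Nat.card (Subgroup.centralizer ({y} : Set (Cen u))) : ℂ)) := by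
  classical
  obtain ⟨ρ, d, hρ, hnorm', hloc, hloc'⟩ := exists_reg_eq 2 hM hb hD hl
  have hnorm : (2 : ℂ) ^ blockDefect 2 b * classInner ρ ρ = 1 := by simpa using hnorm'
  choose s hs using fun μ => exists_sign (u := u) hu μ
  let a : IrrCharacter G → ℤ := fun χ => ∑ μ ∈ Finset.univ.filter (· ∈ b), (mm χ μ : ℤ) * s μ * (d μ : ℤ)
  have hgg : ∀ χ, gg 2 b χ = (a χ : ℂ) • ρ := by
    intro χ
    rw [gg_eq]
    simp only [a]
    rw [Int.cast_sum, Finset.sum_smul]
    refine Finset.sum_congr rfl fun μ hμ => ?_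
    rw [hρ μ (Finset.mem_filter.mp hμ).2, hs μ, smul_smul]
    push_cast
    rfl
  refine ⟨ρ, a, hgg, hnorm, fun χ χ' => ?_, hloc, by simpa using hloc'⟩
  rw [XX, hgg, hgg, Cfsg.Agent.Lib.Char.Ortho.classInner_smul_left, Cfsg.Agent.Lib.Char.Ortho.classInner_smul_right,
    map_intCast]
  push_cast
  calc (2 : ℂ) ^ blockDefect 2 b * ((a χ : ℂ) * ((a χ' : ℂ) * classInner ρ ρ)) =
      (a χ : ℂ) * a χ' * ((2 : ℂ) ^ blockDefect 2 b * classInner ρ ρ) := by ring
    _ = _ := by rw [hnorm, mul_one]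

/-- **`k(B) = 4`**: a major subsection of rank one of a block of defect two with all heights zero, at an involution. -/
theorem card_eq_four_of_major (hM : IsPModular 2 M) (hu : orderOf u = 2) {b : Set (IrrCharacter (Cen u))}
    {B : Set (IrrCharacter G)} (hind : IsInducedBlock M (Cen u) b B) {D : Subgroup (Cen u)}
    (hD : IsDefectGroup 2 M b D) (hl : blockRank 2 b = 1) (hd : blockDefect 2 b = 2)
    (hh : ∀ χ ∈ B, blockHeight 2 B (χ : G → ℂ) = 0) :
    Nat.card B = 4 ∧ ∃ (ρ : Cen u → ℂ) (a : IrrCharacter G → ℤ), (∀ χ, gg 2 b χ = (a χ : ℂ) • ρ) ∧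
      (4 : ℂ) * classInner ρ ρ = 1 ∧ (∀ χ ∈ B, a χ = 1 ∨ a χ = -1) ∧ (∀ y, MemLocalRing M (ρ y)) ∧
      ∀ y, MemLocalRing M ((4 : ℂ) * ρ y / (Nat.card (Subgroup.centralizer ({y} : Set (Cen u))) : ℂ)) := by
  classical
  obtain ⟨ρ, a, hgg, hnorm, hXX, hloc, hloc'⟩ := exists_column hM hu hind.1 hD hl
  have hk : orderOf u = 2 ^ 1 := by simpa using hu
  have htr := XX_trace hM hk hind
  rw [hl, hd] at htr
  simp only [hXX] at htr
  have htr' : ∑ χ ∈ Finset.univ.filter (· ∈ B), a χ * a χ = 4 := by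
    have : ((∑ χ ∈ Finset.univ.filter (· ∈ B), a χ * a χ : ℤ) : ℂ) = ((4 : ℤ) : ℂ) := by
      rw [Int.cast_sum, htr]
      norm_num
    exact_mod_cast this
  have hodd : ∀ χ ∈ B, ¬ (2 : ℤ) ∣ a χ * a χ := by
    intro χ hχ h2
    apply XX_not_mem hM hk hind hχ hχ (hh χ hχ) (hh χ hχ)
    rw [hXX, memLocalIdeal_intCast_iff hM]
    exact_mod_cast h2
  have hnn : ∀ χ ∈ Finset.univ.filter (· ∈ B), 0 ≤ a χ * a χ := fun χ _ => mul_self_nonneg _
  have hle : ∀ χ ∈ Finset.univ.filter (· ∈ B), a χ * a χ ≤ 4 := by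
    intro χ hχ
    rw [← htr']
    exact Finset.single_le_sum hnn hχ
  have hone : ∀ χ ∈ B, a χ = 1 ∨ a χ = -1 := by
    intro χ hχ
    have h1 := hle χ (Finset.mem_filter.mpr ⟨Finset.mem_univ _, hχ⟩)
    have h2 := hodd χ hχ
    have h3 : -2 ≤ a χ := by nlinarith
    have h4 : a χ ≤ 2 := by nlinarith
    interval_cases (a χ) <;> simp_all
  have hsq : ∀ χ ∈ Finset.univ.filter (· ∈ B), a χ * a χ = 1 := by
    intro χ hχ
    rcases hone χ (Finset.mem_filter.mp hχ).2 with h | h <;> rw [h] <;> norm_num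
  rw [Finset.sum_congr rfl hsq] at htr'
  simp only [Finset.sum_const, nsmul_eq_mul, mul_one] at htr'
  constructor
  · rw [Nat.card_eq_fintype_card, Fintype.card_subtype]
    exact_mod_cast htr'
  · refine ⟨ρ, a, hgg, ?_, hone, hloc, ?_⟩
    · rw [hd] at hnorm
      convert hnorm using 2
      norm_num
    · intro y
      have h1 := hloc' y
      rw [hd] at h1
      convert h1 using 2
      norm_num

end Major

end Cfsg.Agent.Lib.Blocks.KleinFour
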