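/-
Abelian `p`-groups: gluing functions with values of absolute value one off subgroups.
-/
import Mathlib
import Cfsg.Agent.Lib.Blocks.AbFree1

set_option autoImplicit false
set_option linter.style.haveILetI false

namespace Cfsg.Agent.Lib.Blocks.AbFree

open Cfsg Cfsg.Agent.Lib.Blocks.Local Cfsg.Agent.Lib.Blocks.Central Cfsg.Agent.Lib.Blocks.Nilp
open Cfsg.Agent.Lib.Char.Virtual
open scoped ComplexConjugate

universe u

section Inv2

variable {A : Type u} [Group A] [Fintype A] {p : ℕ} [hp : Fact p.Prime] {M : Ideal AlgInt} [hM : M.IsPrime]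

omit [Fintype A] in
/-- A product of generalized characters. -/
lemma isGeneralized_mul {θ φ : A → ℂ} (hθ : IsGeneralizedCharacter A θ) (hφ : IsGeneralizedCharacter A φ) :
    IsGeneralizedCharacter A (fun a => θ a * φ a) := by
  obtain ⟨χ₁, χ₂, h₁, h₂, rfl⟩ := hθ
  obtain ⟨ψ₁, ψ₂, h₃, h₄, rfl⟩ := hφ
  refine ⟨_, _, Cfsg.Agent.Lib.Char.Basic.isCharacter_add (Cfsg.Agent.Lib.Char.Basic.isCharacter_mul h₁ h₃)
    (Cfsg.Agent.Lib.Char.Basic.isCharacter_mul h₂ h₄),
    Cfsg.Agent.Lib.Char.Basic.isCharacter_add (Cfsg.Agent.Lib.Char.Basic.isCharacter_mul h₁ h₄)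
    (Cfsg.Agent.Lib.Char.Basic.isCharacter_mul h₂ h₃), ?_⟩
  funext a
  simp only [Pi.sub_apply, Pi.add_apply, Pi.mul_apply]
  ring

/-- A generalized character of an abelian `p`-group with unit values is invertible. -/
theorem exists_inverse_of_gen (hMp : IsPModular p M) (hc : ∀ a b : A, a * b = b * a) {ν : A → ℂ}
    (hν : IsGeneralizedCharacter A ν) (hu : ∀ a, ¬ MemLocalIdeal M (ν a)) :
    ∃ (κ : A → ℂ) (m : ℤ), IsGeneralizedCharacter A κ ∧ ¬ (p : ℤ) ∣ m ∧ ∀ a, κ a * ν a = m := by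
  classical
  haveI : Fintype (IrrCharacter A) := Fintype.ofFinite _
  have hn : ∀ l : IrrCharacter A, ∃ n : ℤ, classInner ν (l : A → ℂ) = n := fun l =>
    exists_int_classInner hν (isGeneralized_of_isIrr l.2)
  choose n hn using hn
  set N : ℕ := ∑ l : IrrCharacter A, (n l).natAbs with hN
  set ρ : A → ℂ := piQ (⊥ : Subgroup A) with hρ
  set K : ℕ := p * N with hK
  have hNK : N ≤ K := Nat.le_mul_of_pos_left _ hp.out.pos
  have hnK : ∀ l, 0 ≤ n l + (K : ℤ) := by
    intro l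
    have h1 : (n l).natAbs ≤ N := Finset.single_le_sum (f := fun l => (n l).natAbs)
      (fun _ _ => Nat.zero_le _) (Finset.mem_univ l)
    have h2 : -((n l).natAbs : ℤ) ≤ n l := by
      rw [Int.natCast_natAbs]
      exact neg_abs_le _
    have h3 : ((n l).natAbs : ℤ) ≤ (K : ℤ) := by exact_mod_cast h1.trans hNK
    linarith
  set ν₁ : A → ℂ := ν + (K : ℂ) • ρ with hν₁
  have hν₁cl : IsClassFunction A ν₁ := isCF hc _
  have hinner : ∀ l : IrrCharacter A, classInner ν₁ (l : A → ℂ) = (((n l + K).toNat : ℕ) : ℂ) := by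
    intro l
    have hl1 : (l : A → ℂ) 1 = 1 := Cfsg.Agent.Lib.Char.FrobPair.degree_eq_one_of_comm hc l.2
    have h1 : classInner ρ (l : A → ℂ) = 1 := by
      rw [hρ, classInner_piQ hc, if_pos]
      intro q hq
      rw [Subgroup.mem_bot.mp hq, hl1]
    rw [hν₁, Cfsg.Agent.Lib.Char.Virtual.classInner_add_left, Cfsg.Agent.Lib.Char.Virtual.classInner_smul_left, hn,
      h1, mul_one]
    have h2 : (((n l + K).toNat : ℕ) : ℤ) = n l + K := Int.toNat_of_nonneg (hnK l)
    have h3 : (((n l + K).toNat : ℕ) : ℂ) = ((n l + K : ℤ) : ℂ) := by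
      rw [← Int.cast_natCast, h2]
    rw [h3]
    push_cast
    ring
  have hchar : IsCharacter A ν₁ := by
    have h1 := Cfsg.Agent.Lib.Char.Complete.eq_sum_classInner ν₁ hν₁cl
    rw [h1]
    refine Cfsg.Agent.Lib.Char.Basic.isCharacter_finset_sum _ fun l _ => ?_
    rw [hinner l]
    have h2 := Cfsg.Agent.Lib.Char.Basic.isCharacter_nsmul
      (Cfsg.Agent.Lib.Char.Basic.isCharacter_of_isIrrCharacter l.2) (n l + K).toNat
    convert h2 using 1
    funext a
    simp
  have hpK : (p : ℤ) ∣ (K : ℤ) := by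
    rw [hK]
    push_cast
    exact dvd_mul_right _ _
  have hKM : MemLocalIdeal M ((K : ℕ) : ℂ) := (memLocalIdeal_natCast_iff hMp).mpr (dvd_mul_right _ _)
  have hρ1 : ρ 1 = (Nat.card A : ℂ) := by
    rw [hρ, piQ_mem (Subgroup.one_mem _), Subgroup.index_bot]
  have hρne : ∀ a : A, a ≠ 1 → ρ a = 0 := fun a ha => by
    rw [hρ, piQ_notMem (by simpa using ha)]
  have hu₁ : ∀ a, ¬ MemLocalIdeal M (ν₁ a) := by
    intro a ha
    by_cases h1 : a = 1
    · subst h1
      apply hu 1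
      have h2 : ν 1 = ν₁ 1 - (K : ℂ) * (Nat.card A : ℂ) := by
        simp only [hν₁, Pi.add_apply, Pi.smul_apply, smul_eq_mul, hρ1]
        ring
      rw [h2]
      exact memLocalIdeal_sub ha (memLocalIdeal_mul_right hKM (memLocalRing_of_isIntegral (by
        simpa using isIntegral_algebraMap (R := ℤ) (A := ℂ) (x := ((Nat.card A : ℕ) : ℤ)))))
    · apply hu a
      have h2 : ν a = ν₁ a := by
        simp only [hν₁, Pi.add_apply, Pi.smul_apply, smul_eq_mul, hρne a h1, mul_zero, add_zero]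
      rwa [h2]
  obtain ⟨κ₁, m₁, hκ₁, hm₁, hκm⟩ := exists_inverse_gen hMp hchar hu₁
  obtain ⟨z, hz⟩ := exists_int_apply_one hκ₁
  set b : ℤ := K * z with hb
  set D : ℤ := m₁ - b * Nat.card A with hD
  have hpb : (p : ℤ) ∣ b := Dvd.dvd.mul_right hpK z
  have hpD : ¬ (p : ℤ) ∣ D := by
    intro h
    apply hm₁
    have h2 : m₁ = D + b * Nat.card A := by rw [hD]; ring
    rw [h2]
    exact dvd_add h (Dvd.dvd.mul_right hpb _)
  have hpp : Prime (p : ℤ) := Nat.prime_iff_prime_int.mp hp.out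
  refine ⟨fun a => κ₁ a * ((D : ℂ) + (b : ℂ) * ρ a), D * m₁, ?_, ?_, fun a => ?_⟩
  · refine isGeneralized_mul hκ₁ ?_
    have h1 := isGeneralized_add (isGeneralized_intCast_smul
      (isGeneralized_of_isCharacter (Cfsg.Agent.Lib.Char.Basic.isCharacter_one (G := A))) D)
      (isGeneralized_intCast_smul (isGeneralized_piQ hc (⊥ : Subgroup A)) b)
    convert h1 using 1
    funext a
    simp [hρ]
  · intro h
    rcases hpp.dvd_or_dvd h with h2 | h2
    · exact hpD h2
    · exact hm₁ h2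
  · have h0 := hκm a
    show κ₁ a * ((D : ℂ) + (b : ℂ) * ρ a) * ν a = _
    by_cases h1 : a = 1
    · subst h1
      have h2 : ν₁ 1 = ν 1 + (K : ℂ) * (Nat.card A : ℂ) := by
        simp only [hν₁, Pi.add_apply, Pi.smul_apply, smul_eq_mul, hρ1]
      rw [h2] at h0
      rw [hρ1]
      have h3 : (D : ℂ) + (b : ℂ) * (Nat.card A : ℂ) = m₁ := by
        rw [hD]
        push_cast
        ring
      have h4 : κ₁ 1 * ν 1 = D := by
        have h5 : κ₁ 1 * ν 1 = m₁ - κ₁ 1 * ((K : ℂ) * (Nat.card A : ℂ)) := by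
          rw [← h0]
          ring
        rw [h5, hz, hD, hb]
        push_cast
        ring
      rw [h3]
      push_cast
      linear_combination (m₁ : ℂ) * h4
    · have h2 : ν₁ a = ν a := by
        simp only [hν₁, Pi.add_apply, Pi.smul_apply, smul_eq_mul, hρne a h1, mul_zero, add_zero]
      rw [h2] at h0
      rw [hρne a h1, mul_zero, add_zero]
      push_cast
      linear_combination (D : ℂ) * h0

end Inv2

section Muq

variable {A : Type u} [Group A] [Fintype A]

/-- The combination by inclusion and exclusion. -/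
noncomputable def muQ (g : Subgroup A → A → ℂ) (Q : Subgroup A) : A → ℂ := by
  classical
  exact fun a => ∑ S ∈ (Finset.univ.filter (· ∉ Q)).powerset.erase ∅,
    ((-1 : ℂ) ^ (S.card + 1)) * g (Q ⊔ Subgroup.closure (S : Set A)) a

omit [Fintype A] in
lemma sup_closure_insert [DecidableEq A] (Q : Subgroup A) (w : A) (S : Finset A) :
    Q ⊔ Subgroup.closure (S : Set A) ⊔ Subgroup.zpowers w = Q ⊔ Subgroup.closure ((insert w S : Finset A) : Set A) := by
  rw [Finset.coe_insert, Set.insert_eq, Subgroup.closure_union, ← Subgroup.zpowers_eq_closure, sup_assoc,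
    sup_comm (Subgroup.closure (S : Set A))]

omit [Fintype A] in
lemma lt_sup_closure {Q : Subgroup A} {S : Finset A} (hS : ∀ x ∈ S, x ∉ Q) (hne : S ≠ ∅) :
    Q < Q ⊔ Subgroup.closure (S : Set A) := by
  obtain ⟨x, hx⟩ := Finset.nonempty_iff_ne_empty.mpr hne
  refine lt_of_le_of_ne le_sup_left fun h => hS x hx ?_
  rw [h]
  exact Subgroup.mem_sup_right (Subgroup.subset_closure hx)

omit [Fintype A] in
lemma sup_zpowers_mul {R : Subgroup A} {q : A} (hq : q ∈ R) (a : A) :
    R ⊔ Subgroup.zpowers (q * a) = R ⊔ Subgroup.zpowers a := by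
  refine le_antisymm (sup_le le_sup_left ?_) (sup_le le_sup_left ?_)
  · rw [Subgroup.zpowers_le]
    exact (R ⊔ Subgroup.zpowers a).mul_mem (Subgroup.mem_sup_left hq)
      (Subgroup.mem_sup_right (Subgroup.mem_zpowers a))
  · rw [Subgroup.zpowers_le]
    have h : q⁻¹ * (q * a) ∈ R ⊔ Subgroup.zpowers (q * a) :=
      (R ⊔ Subgroup.zpowers (q * a)).mul_mem (Subgroup.mem_sup_left (R.inv_mem hq))
        (Subgroup.mem_sup_right (Subgroup.mem_zpowers _))
    simpa using h

/-- The value of the combination off `Q`. -/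
lemma muQ_apply {g : Subgroup A → A → ℂ} {Q : Subgroup A} {F : Subgroup A → ℂ}
    (hg : ∀ R, Q < R → ∀ a, g R a = F (R ⊔ Subgroup.zpowers a)) {w : A} (hw : w ∉ Q) :
    muQ g Q w = F (Q ⊔ Subgroup.zpowers w) := by
  classical
  set U : Finset A := Finset.univ.filter (· ∉ Q) with hU
  have hwU : w ∈ U := Finset.mem_filter.mpr ⟨Finset.mem_univ _, hw⟩
  set h : Finset A → ℂ := fun S => ((-1 : ℂ) ^ (S.card + 1)) * F (Q ⊔ Subgroup.closure ((insert w S : Finset A) : Set A))
    with hh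
  have h1 : muQ g Q w = ∑ S ∈ U.powerset.erase ∅, h S := by
    rw [muQ]
    refine Finset.sum_congr (by congr) fun S hS => ?_
    obtain ⟨hS0, hS1⟩ := Finset.mem_erase.mp hS
    have hS2 : ∀ x ∈ S, x ∉ Q := fun x hx =>
      (Finset.mem_filter.mp (Finset.mem_powerset.mp hS1 hx)).2
    rw [hg _ (lt_sup_closure hS2 hS0), sup_closure_insert]
  have h2 : ∑ S ∈ U.powerset, h S = 0 := by
    have hU' : U = insert w (U.erase w) := (Finset.insert_erase hwU).symm
    rw [hU', Finset.sum_powerset_insert (Finset.notMem_erase w U)]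
    rw [← Finset.sum_add_distrib]
    refine Finset.sum_eq_zero fun S hS => ?_
    have hwS : w ∉ S := fun hw' => Finset.notMem_erase w U (Finset.mem_powerset.mp hS hw')
    simp only [hh, Finset.insert_idem, Finset.card_insert_of_notMem hwS]
    ring
  rw [h1, Finset.sum_erase_eq_sub (Finset.mem_powerset.mpr (Finset.empty_subset _)), h2]
  simp only [hh, Finset.card_empty, zero_add, pow_one, insert_empty_eq, Finset.coe_singleton]
  rw [← Subgroup.zpowers_eq_closure]
  ring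

/-- The combination is a generalized character. -/
lemma muQ_gen {g : Subgroup A → A → ℂ} {Q : Subgroup A}
    (hg : ∀ R, Q < R → IsGeneralizedCharacter A (g R)) : IsGeneralizedCharacter A (muQ g Q) := by
  classical
  have h1 : muQ g Q = ∑ S ∈ (Finset.univ.filter (· ∉ Q)).powerset.erase ∅,
      ((((-1 : ℤ) ^ (S.card + 1) : ℤ) : ℂ)) • g (Q ⊔ Subgroup.closure (S : Set A)) := by
    funext a
    rw [muQ, Finset.sum_apply]
    refine Finset.sum_congr (by congr) fun S _ => ?_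
    simp
  rw [h1]
  refine isGeneralized_finset_sum _ fun S hS => isGeneralized_intCast_smul (hg _ ?_) _
  obtain ⟨hS0, hS1⟩ := Finset.mem_erase.mp hS
  exact lt_sup_closure (fun x hx => (Finset.mem_filter.mp (Finset.mem_powerset.mp hS1 hx)).2) hS0

/-- The combination is constant on the cosets of `Q`. -/
lemma muQ_per {g : Subgroup A → A → ℂ} {Q : Subgroup A} {F : Subgroup A → ℂ}
    (hg : ∀ R, Q < R → ∀ a, g R a = F (R ⊔ Subgroup.zpowers a)) {q : A} (hq : q ∈ Q) (a : A) :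
    muQ g Q (q * a) = muQ g Q a := by
  classical
  rw [muQ]
  refine Finset.sum_congr rfl fun S hS => ?_
  obtain ⟨hS0, hS1⟩ := Finset.mem_erase.mp hS
  have hlt := lt_sup_closure (Q := Q) (S := S)
    (fun x hx => (Finset.mem_filter.mp (Finset.mem_powerset.mp hS1 hx)).2) hS0
  rw [hg _ hlt, hg _ hlt, sup_zpowers_mul (Subgroup.mem_sup_left hq)]

end Muq

section Glue

variable {A : Type u} [Group A] [Fintype A] {p : ℕ} [hp : Fact p.Prime] {M : Ideal AlgInt} [hM : M.IsPrime]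

/-- The data for the gluing. -/
structure GlueData (p : ℕ) (κ : Subgroup A → ℕ) (ν : Subgroup A → A → ℂ) : Prop where
  gen : ∀ Q : Subgroup A, Q ≠ ⊥ → IsGeneralizedCharacter A (ν Q)
  per : ∀ Q : Subgroup A, Q ≠ ⊥ → ∀ q ∈ Q, ∀ a, ν Q (q * a) = ν Q a
  one : ∀ Q : Subgroup A, Q ≠ ⊥ → ν Q 1 = κ Q
  val : ∀ Q : Subgroup A, Q ≠ ⊥ → ∀ w, ∃ a : ℂ, IsIntegral ℤ a ∧ a * conj a = 1 ∧
    ν Q w = a * κ (Q ⊔ Subgroup.zpowers w)
  unit : ∀ v : A, v ≠ 1 → ¬ p ∣ κ (Subgroup.zpowers v)

variable {κ : Subgroup A → ℕ} {ν : Subgroup A → A → ℂ}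

lemma GlueData.not_dvd_sup (hMp : IsPModular p M) (hc : ∀ a b : A, a * b = b * a) (hpg : IsPGroup p A)
    (hD : GlueData p κ ν) {R : Subgroup A} (hR : R ≠ ⊥) (hR2 : ¬ p ∣ κ R) (w : A) :
    ¬ p ∣ κ (R ⊔ Subgroup.zpowers w) := by
  intro h
  apply hR2
  obtain ⟨a, ha, -, hval⟩ := hD.val R hR w
  have h1 : MemLocalIdeal M (ν R w) := by
    rw [hval]
    exact memLocalIdeal_mul_left (memLocalRing_of_isIntegral ha) ((memLocalIdeal_natCast_iff hMp).mpr h)
  have h2 := memLocalIdeal_gen_sub hMp (hD.gen R hR) hpg w 1 (Commute.one_right w)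
  rw [mul_one] at h2
  have h3 := memLocalIdeal_sub h1 h2
  rw [sub_sub_cancel, hD.one R hR] at h3
  exact (memLocalIdeal_natCast_iff hMp).mp h3

lemma GlueData.not_dvd (hMp : IsPModular p M) (hc : ∀ a b : A, a * b = b * a) (hpg : IsPGroup p A)
    (hD : GlueData p κ ν) {Q : Subgroup A} (hQ : Q ≠ ⊥) : ¬ p ∣ κ Q := by
  classical
  obtain ⟨v, hvQ, hv⟩ := (Subgroup.bot_or_exists_ne_one Q).resolve_left hQ
  have key : ∀ S : Finset A, ¬ p ∣ κ (Subgroup.zpowers v ⊔ Subgroup.closure (S : Set A)) := by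
    intro S
    induction S using Finset.induction_on with
    | empty =>
      simp only [Finset.coe_empty, Subgroup.closure_empty, sup_bot_eq]
      exact hD.unit v hv
    | insert w S _ ih =>
      have hne : Subgroup.zpowers v ⊔ Subgroup.closure (S : Set A) ≠ ⊥ := by
        intro h
        apply hv
        have h1 : v ∈ Subgroup.zpowers v ⊔ Subgroup.closure (S : Set A) :=
          Subgroup.mem_sup_left (Subgroup.mem_zpowers v)
        rw [h] at h1
        exact Subgroup.mem_bot.mp h1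
      have h1 := hD.not_dvd_sup hMp hc hpg hne ih w
      rwa [sup_closure_insert] at h1
  have h2 := key (Finset.univ.filter (· ∈ Q))
  have h3 : Subgroup.zpowers v ⊔ Subgroup.closure ((Finset.univ.filter (· ∈ Q) : Finset A) : Set A) = Q := by
    have h4 : ((Finset.univ.filter (· ∈ Q) : Finset A) : Set A) = (Q : Set A) := by
      ext x
      simp
    rw [h4, Subgroup.closure_eq]
    exact sup_eq_right.mpr ((Subgroup.zpowers_le).mpr hvQ)
  rwa [h3] at h2

/-- One step of the gluing. -/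
theorem GlueData.step (hMp : IsPModular p M) (hc : ∀ a b : A, a * b = b * a) (hpg : IsPGroup p A)
    (hD : GlueData p κ ν) {Q : Subgroup A} (hQ : Q ≠ ⊥) {s : Subgroup A → ℤ} (hs : ∀ R, s R = 1 ∨ s R = -1)
    {g : Subgroup A → A → ℂ}
    (hg : ∀ R, Q < R → IsGeneralizedCharacter A (g R) ∧
      ∀ w, g R w = s (R ⊔ Subgroup.zpowers w) * κ (R ⊔ Subgroup.zpowers w)) :
    ∃ (ε : ℤ) (g₀ : A → ℂ), (ε = 1 ∨ ε = -1) ∧ IsGeneralizedCharacter A g₀ ∧
      (∀ w ∈ Q, g₀ w = ε * κ Q) ∧ ∀ w, w ∉ Q → g₀ w = s (Q ⊔ Subgroup.zpowers w) * κ (Q ⊔ Subgroup.zpowers w) := by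
  classical
  by_cases hQt : Q = ⊤
  · subst hQt
    refine ⟨1, ν ⊤, Or.inl rfl, hD.gen _ hQ, fun w _ => ?_, fun w hw => absurd (Subgroup.mem_top w) hw⟩
    have h1 := hD.per ⊤ hQ w (Subgroup.mem_top w) 1
    rw [mul_one] at h1
    rw [h1, hD.one _ hQ]
    simp
  -- the combination
  set F : Subgroup A → ℂ := fun R => (s R : ℂ) * κ R with hF
  have hg1 : ∀ R, Q < R → ∀ a, g R a = F (R ⊔ Subgroup.zpowers a) := fun R hR a => (hg R hR).2 a
  set μ : A → ℂ := muQ g Q with hμ
  have hμgen : IsGeneralizedCharacter A μ := muQ_gen fun R hR => (hg R hR).1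
  have hμw : ∀ w, w ∉ Q → μ w = s (Q ⊔ Subgroup.zpowers w) * κ (Q ⊔ Subgroup.zpowers w) := fun w hw =>
    muQ_apply hg1 hw
  have hμper : ∀ q ∈ Q, ∀ a, μ (q * a) = μ a := fun q hq a => muQ_per hg1 hq a
  have hQne : ∃ w₀, w₀ ∉ Q := by
    by_contra hcon
    push Not at hcon
    exact hQt (eq_top_iff.mpr fun x _ => hcon x)
  obtain ⟨w₀, hw₀⟩ := hQne
  have hsC : ∀ R, (s R : ℂ) * (s R : ℂ) = 1 := fun R => by
    rcases hs R with h | h <;> simp [h]
  have hneR : ∀ w, Q ⊔ Subgroup.zpowers w ≠ ⊥ := fun w h => hQ (le_bot_iff.mp (h ▸ le_sup_left))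
  have hunit0 : ∀ w, w ∉ Q → ¬ MemLocalIdeal M (μ w) := by
    intro w hw h
    rw [hμw w hw] at h
    have h2 : MemLocalIdeal M ((s (Q ⊔ Subgroup.zpowers w) : ℂ) * ((s (Q ⊔ Subgroup.zpowers w) : ℂ) *
        (κ (Q ⊔ Subgroup.zpowers w) : ℂ))) :=
      memLocalIdeal_mul_left (memLocalRing_of_isIntegral (by
        simpa using isIntegral_algebraMap (R := ℤ) (A := ℂ) (x := s (Q ⊔ Subgroup.zpowers w)))) h
    rw [← mul_assoc, hsC, one_mul] at h2
    exact hD.not_dvd hMp hc hpg (hneR w) ((memLocalIdeal_natCast_iff hMp).mp h2)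
  have hunit : ∀ w, ¬ MemLocalIdeal M (μ w) := by
    intro w h
    by_cases hw : w ∈ Q
    · have h1 := memLocalIdeal_gen_sub hMp hμgen hpg w 1 (Commute.one_right w)
      have h2 := memLocalIdeal_gen_sub hMp hμgen hpg w₀ 1 (Commute.one_right w₀)
      rw [mul_one] at h1 h2
      have h3 := memLocalIdeal_sub h h1
      rw [sub_sub_cancel] at h3
      have h4 := memLocalIdeal_add h2 h3
      rw [sub_add_cancel] at h4
      exact hunit0 w₀ hw₀ h4
    · exact hunit0 w hw h
  obtain ⟨κ', m, hκ', hm, hκm⟩ := exists_inverse_of_gen hMp hc hμgen hunit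
  have hμne : ∀ a, μ a ≠ 0 := fun a h => hunit a (by rw [h]; exact memLocalIdeal_zero)
  have hm0 : (m : ℂ) ≠ 0 := by
    have : m ≠ 0 := by
      rintro rfl
      exact hm (dvd_zero _)
    exact_mod_cast this
  have hκper : ∀ q ∈ Q, ∀ a, κ' (q * a) = κ' a := by
    intro q hq a
    have h1 := hκm (q * a)
    rw [hμper q hq a] at h1
    exact mul_right_cancel₀ (hμne a) (h1.trans (hκm a).symm)
  set T : A → ℂ := fun a => ν Q a * κ' a with hT
  have hTgen : IsGeneralizedCharacter A T := isGeneralized_mul (hD.gen Q hQ) hκ'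
  have hTper : ∀ q ∈ Q, ∀ a, T (q * a) = T a := fun q hq a => by
    simp only [hT]
    rw [hD.per Q hQ q hq, hκper q hq]
  have hTval : ∀ w, w ∉ Q → ∃ a : ℂ, IsIntegral ℤ a ∧ a * conj a = 1 ∧ ν Q w = a * κ (Q ⊔ Subgroup.zpowers w) ∧
      T w = m * (a * s (Q ⊔ Subgroup.zpowers w)) := by
    intro w hw
    obtain ⟨a, ha, ha2, hval⟩ := hD.val Q hQ w
    refine ⟨a, ha, ha2, hval, ?_⟩
    have h1 := hκm w
    rw [hμw w hw] at h1
    simp only [hT]
    rw [hval, ← h1]
    linear_combination (κ' w * κ (Q ⊔ Subgroup.zpowers w) * a) * (1 - hsC (Q ⊔ Subgroup.zpowers w))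
  obtain ⟨ε, l, hε, hlQ, hTl⟩ := key_lemma hc hpg Q hTgen hm hTper (fun w hw => by
    obtain ⟨a, ha, ha2, -, hTa⟩ := hTval w hw
    refine ⟨a * s (Q ⊔ Subgroup.zpowers w), ?_, ?_, hTa⟩
    · refine ha.mul ?_
      simpa using isIntegral_algebraMap (R := ℤ) (A := ℂ) (x := s (Q ⊔ Subgroup.zpowers w))
    · rw [map_mul, map_intCast]
      calc a * (s (Q ⊔ Subgroup.zpowers w) : ℂ) * (conj a * (s (Q ⊔ Subgroup.zpowers w) : ℂ)) =
          (a * conj a) * ((s (Q ⊔ Subgroup.zpowers w) : ℂ) * (s (Q ⊔ Subgroup.zpowers w) : ℂ)) := by ring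
        _ = 1 := by rw [ha2, hsC, one_mul])
  have hεC : (ε : ℂ) * (ε : ℂ) = 1 := by
    rcases hε with h | h <;> simp [h]
  have hll : ∀ w, (l : A → ℂ) w * conj ((l : A → ℂ) w) = 1 := by
    intro w
    have hl1 : (l : A → ℂ) 1 = 1 := Cfsg.Agent.Lib.Char.FrobPair.degree_eq_one_of_comm hc l.2
    obtain ⟨ζ, hζ, h1⟩ := exists_central_shift l (w := w) (fun k => hc w k)
    have h2 := h1 1
    rw [mul_one, hl1, mul_one] at h2
    rw [h2]
    have hord : ζ ^ orderOf w = 1 := hζ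
    have hpos : orderOf w ≠ 0 := (orderOf_pos w).ne'
    have hn : ‖ζ‖ = 1 := Complex.norm_eq_one_of_pow_eq_one hord hpos
    rw [Complex.mul_conj, Complex.normSq_eq_norm_sq, hn]
    simp
  refine ⟨ε, fun a => (ε : ℂ) * (conj ((l : A → ℂ) a) * ν Q a), hε, ?_, fun w hw => ?_, fun w hw => ?_⟩
  · have h1 := isGeneralized_intCast_smul (isGeneralized_mul (isGeneralized_of_isCharacter
      (Cfsg.Agent.Lib.Char.Ortho.isCharacter_conj (Cfsg.Agent.Lib.Char.Basic.isCharacter_of_isIrrCharacter l.2)))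
      (hD.gen Q hQ)) ε
    convert h1 using 1
    funext a
    simp
  · have h1 := hD.per Q hQ w hw 1
    rw [mul_one] at h1
    simp only
    rw [h1, hD.one Q hQ, hlQ w hw]
    simp
  · obtain ⟨a, -, -, hval, hTa⟩ := hTval w hw
    have h1 := hTl w hw
    rw [hTa] at h1
    have h2 : a * (s (Q ⊔ Subgroup.zpowers w) : ℂ) = ε * (l : A → ℂ) w := by
      apply mul_left_cancel₀ hm0
      rw [h1]
      ring
    simp only
    rw [hval]
    have h3 : a = ε * (l : A → ℂ) w * (s (Q ⊔ Subgroup.zpowers w) : ℂ) := by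
      calc a = a * ((s (Q ⊔ Subgroup.zpowers w) : ℂ) * (s (Q ⊔ Subgroup.zpowers w) : ℂ)) := by rw [hsC, mul_one]
        _ = _ := by rw [← mul_assoc, h2]
    rw [h3]
    linear_combination ((s (Q ⊔ Subgroup.zpowers w) : ℂ) * (κ (Q ⊔ Subgroup.zpowers w) : ℂ)) *
      ((ε : ℂ) * (ε : ℂ) * hll w + hεC)

/-- The induction over the upper sets of nontrivial subgroups. -/
theorem GlueData.exists_family (hMp : IsPModular p M) (hc : ∀ a b : A, a * b = b * a) (hpg : IsPGroup p A)
    (hD : GlueData p κ ν) (n : ℕ) (U : Finset (Subgroup A)) (hn : U.card = n) (hU : ∀ Q ∈ U, Q ≠ ⊥)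
    (hup : ∀ Q ∈ U, ∀ R, Q ≤ R → R ∈ U) :
    ∃ (s : Subgroup A → ℤ) (g : Subgroup A → A → ℂ), (∀ R, s R = 1 ∨ s R = -1) ∧
      ∀ Q ∈ U, IsGeneralizedCharacter A (g Q) ∧
        ∀ w, g Q w = s (Q ⊔ Subgroup.zpowers w) * κ (Q ⊔ Subgroup.zpowers w) := by
  classical
  induction n generalizing U with
  | zero =>
    rw [Finset.card_eq_zero] at hn
    subst hn
    exact ⟨fun _ => 1, fun _ _ => 0, fun _ => Or.inl rfl, fun Q hQ => absurd hQ (Finset.notMem_empty Q)⟩
  | succ n ih =>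
    have hne : U.Nonempty := by
      rw [← Finset.card_pos, hn]
      omega
    obtain ⟨Q, hQU, hQmin⟩ := U.exists_minimal hne
    have hcard : (U.erase Q).card = n := by
      rw [Finset.card_erase_of_mem hQU, hn]
      rfl
    have hQmin' : ∀ R ∈ U, R ≤ Q → R = Q := fun R hR hle =>
      le_antisymm hle (hQmin hR hle)
    obtain ⟨s, g, hs, hg⟩ := ih (U.erase Q) hcard (fun R hR => hU R (Finset.mem_of_mem_erase hR)) (by
      intro R hR R' hle
      refine Finset.mem_erase.mpr ⟨fun h => ?_, hup R (Finset.mem_of_mem_erase hR) R' hle⟩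
      subst h
      exact (Finset.mem_erase.mp hR).1 (hQmin' R (Finset.mem_of_mem_erase hR) hle))
    obtain ⟨ε, g₀, hε, hg₀, hg₁, hg₂⟩ := hD.step hMp hc hpg (hU Q hQU) hs (g := g) (fun R hR => by
      refine hg R (Finset.mem_erase.mpr ⟨hR.ne', hup Q hQU R hR.le⟩))
    refine ⟨Function.update s Q ε, Function.update g Q g₀, fun R => ?_, fun R hR => ?_⟩
    · by_cases h : R = Q
      · subst h
        rw [Function.update_self]
        exact hε
      · rw [Function.update_of_ne h]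
        exact hs R
    · by_cases h : R = Q
      · subst h
        rw [Function.update_self]
        refine ⟨hg₀, fun w => ?_⟩
        by_cases hw : w ∈ R
        · rw [hg₁ w hw, sup_eq_left.mpr ((Subgroup.zpowers_le).mpr hw), Function.update_self]
        · rw [hg₂ w hw, Function.update_of_ne]
          intro h2
          apply hw
          rw [← h2]
          exact Subgroup.mem_sup_right (Subgroup.mem_zpowers w)
      · rw [Function.update_of_ne h]
        have hR' : R ∈ U.erase Q := Finset.mem_erase.mpr ⟨h, hR⟩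
        refine ⟨(hg R hR').1, fun w => ?_⟩
        rw [(hg R hR').2 w, Function.update_of_ne]
        intro h2
        have h3 : R ≤ Q := by
          rw [← h2]
          exact le_sup_left
        exact h (hQmin' R hR h3)

/-- **The gluing theorem.** -/
theorem GlueData.exists_mu (hMp : IsPModular p M) (hc : ∀ a b : A, a * b = b * a) (hpg : IsPGroup p A)
    (hD : GlueData p κ ν) :
    ∃ (s : A → ℤ) (μ : A → ℂ), (∀ v, s v = 1 ∨ s v = -1) ∧ IsGeneralizedCharacter A μ ∧
      ∀ v, v ≠ 1 → μ v = s v * κ (Subgroup.zpowers v) := by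
  classical
  haveI : Fintype (Subgroup A) := Fintype.ofFinite _
  set U : Finset (Subgroup A) := Finset.univ.filter (· ≠ ⊥) with hU
  obtain ⟨s, g, hs, hg⟩ := hD.exists_family hMp hc hpg _ U rfl (fun Q hQ => (Finset.mem_filter.mp hQ).2)
    (fun Q hQ R hle => Finset.mem_filter.mpr ⟨Finset.mem_univ _, fun h => (Finset.mem_filter.mp hQ).2
      (le_bot_iff.mp (h ▸ hle))⟩)
  have hU' : ∀ R, (⊥ : Subgroup A) < R → R ∈ U := fun R hR => Finset.mem_filter.mpr ⟨Finset.mem_univ _, hR.ne'⟩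
  refine ⟨fun v => s (Subgroup.zpowers v), muQ g ⊥, fun v => hs _, muQ_gen fun R hR => (hg R (hU' R hR)).1,
    fun v hv => ?_⟩
  have h1 := muQ_apply (g := g) (Q := ⊥) (F := fun R => (s R : ℂ) * κ R) (fun R hR a => (hg R (hU' R hR)).2 a)
    (w := v) (by simpa using hv)
  rw [h1]
  simp

end Glue

end Cfsg.Agent.Lib.Blocks.AbFree
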