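/-
The star construction for Brauer blocks: locality of corners of the invariant lattice.
-/
import Mathlib
import Cfsg.Agent.Lib.Blocks.NilpBij

set_option autoImplicit false

namespace Cfsg.Agent.Lib.Blocks.Nilp

open Cfsg Cfsg.Agent.Lib.Blocks.Local Cfsg.Agent.Lib.Blocks.Central Cfsg.Agent.Lib.Blocks.Osima
open Cfsg.Agent.Lib.Blocks.Covering Cfsg.Agent.Lib.Blocks.BlockHom Cfsg.Agent.Lib.Blocks.Pairs
open Cfsg.Agent.Lib.Blocks.Twisted Cfsg.Agent.Lib.Blocks.Necklace
open Polynomial

universe u

section Corner

variable {G : Type u} [Group G] [Fintype G] {M : Ideal AlgInt} [hM : M.IsPrime] {p : ℕ} [hp : Fact p.Prime]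

/-- An element divisible by all powers of `p` vanishes. -/
lemma eq_zero_of_forall_coeffIn_pow (hMp : IsPModular p M) {x : MonoidAlgebra ℂ G}
    (h : ∀ n : ℕ, CoeffIn (pIdeal p M ^ n) x) : x = 0 := by
  have hp0 : (p : ℂ) ≠ 0 := by exact_mod_cast hMp.1.ne_zero
  apply ext_coeff
  intro g
  have h1 : (0 : MonoidAlgebra ℂ G).coeff g = 0 := by simp
  rw [h1]
  have hl : MemLocalRing M (x.coeff g) := coeffIn_top_iff.mp ((h 0).mono le_top) g
  apply eq_zero_of_forall_dvd_pow hMp hl
  intro n
  have h6' : CoeffIn (Ideal.span {((p : localRing M) ^ n : localRing M)}) x := by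
    have := h n
    rw [pIdeal, Ideal.span_singleton_pow] at this
    exact this
  obtain ⟨c, hc, hc'⟩ := h6' g
  rw [Ideal.mem_span_singleton'] at hc
  obtain ⟨d, rfl⟩ := hc
  rw [← hc']
  have : (((d * (p : localRing M) ^ n : localRing M) : ℂ)) / (p : ℂ) ^ n = (d : ℂ) := by
    push_cast
    field_simp
  rw [this]
  exact d.2

/-- An idempotent which vanishes modulo the local ideal is zero. -/
lemma eq_zero_of_idem_of_coeffIn (hMp : IsPModular p M) {x : MonoidAlgebra ℂ G} (hx : x * x = x)
    (h : CoeffIn (localIdeal M) x) : x = 0 := by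
  obtain ⟨t, ht, hpow⟩ := exists_pow_coeffIn_pIdeal (p := p) h
  have hx1 : IsIdempotentElem x := hx
  rw [hx1.pow_eq ht.ne'] at hpow
  apply eq_zero_of_forall_coeffIn_pow (p := p) hMp
  intro n
  by_cases hn : n = 0
  · subst hn
    rw [pow_zero, Ideal.one_eq_top]
    exact h.top
  · have := hpow.pow n
    rwa [hx1.pow_eq hn] at this

/-- `a` is invertible in the corner of `y` of the `Q`-invariant lattice. -/
def CornerUnit (M : Ideal AlgInt) [M.IsPrime] (Q : Subgroup G) (y a : MonoidAlgebra ℂ G) : Prop :=
  ∃ h : MonoidAlgebra ℂ G, LocCoeff M h ∧ InvBy Q h ∧ h * y = h ∧ y * h = h ∧ a * h = y ∧ h * a = y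

/-- A polynomial relation with unit constant term gives invertibility in the corner. -/
lemma cornerUnit_of_aeval {Q : Subgroup G} {y a : MonoidAlgebra ℂ G} (hyl : LocCoeff M y) (hyi : InvBy Q y)
    (hyy : y * y = y)
    (ha : LocCoeff M a) (hai : InvBy Q a) (hya : y * a = a) (hay : a * y = a) {q : (localRing M)[X]}
    (h0 : aeval a q * y = 0) (hq : IsUnit (q.coeff 0)) : CornerUnit M Q y a := by
  classical
  obtain ⟨c, hc⟩ := hq
  set ι := algebraMap (localRing M) (MonoidAlgebra ℂ G) with hι
  have hcomm : Commute y a := by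
    show y * a = a * y
    rw [hya, hay]
  have hdiv : q = divX q * X + C (q.coeff 0) := (divX_mul_X_add q).symm
  set k := aeval a (divX q) with hk
  have hkl : LocCoeff M k := locCoeff_aeval ha _
  have hki : InvBy Q k := invBy_aeval hai _
  have hyk : Commute y k := commute_aeval hcomm _
  have hak : Commute a k := commute_aeval (Commute.refl a) _
  have h1 : (k * a + ι (c : localRing M)) * y = 0 := by
    have h2 : aeval a q = k * a + ι (c : localRing M) := by
      conv_lhs => rw [hdiv]
      rw [map_add, map_mul, aeval_X, aeval_C, ← hc]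
    rw [← h2, h0]
  have h2 : k * a + ι (c : localRing M) * y = 0 := by
    have := h1
    rw [add_mul, mul_assoc, hay] at this
    exact this
  set d : MonoidAlgebra ℂ G := ι ((-(c⁻¹ : (localRing M)ˣ) : (localRing M)ˣ) : localRing M) with hd
  have hd1 : d * ι (c : localRing M) = -1 := by
    rw [hd, ← map_mul]
    simp
  have hdc : ∀ x, d * x = x * d := fun x => Algebra.commutes _ x
  have hdl : LocCoeff M d := locCoeff_algebraMap _
  have hdi : InvBy Q d := invBy_algebraMap Q _
  have hmain : d * (k * y) * a = y := by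
    have e1 : d * (k * y) * a = d * (k * a) := by
      rw [mul_assoc, mul_assoc, hya]
    have e2 : k * a = - (ι (c : localRing M) * y) := eq_neg_of_add_eq_zero_left h2
    rw [e1, e2, mul_neg, ← mul_assoc, hd1]
    simp
  refine ⟨d * (k * y), hdl.mul (hkl.mul hyl), hdi.mul (hki.mul hyi), ?_, ?_, ?_, hmain⟩
  · rw [mul_assoc, mul_assoc, hyy]
  · rw [← mul_assoc y d, ← hdc y, mul_assoc d, ← mul_assoc y, hyk.eq, mul_assoc k, hyy]
  · have hc : Commute a (d * (k * y)) :=
      Commute.mul_right (show Commute a d from (hdc a).symm) (hak.mul_right hcomm.symm)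
    rw [hc.eq, hmain]

/-- Transfer along elements which agree on `y`. -/
lemma aeval_mul_eq_of_mul_eq {x x' y : MonoidAlgebra ℂ G} (hx : Commute y x) (hx' : Commute y x')
    (h : x * y = x' * y) (q : (localRing M)[X]) : aeval x q * y = aeval x' q * y := by
  have hk : ∀ n : ℕ, x ^ n * y = x' ^ n * y := by
    intro n
    induction n with
    | zero => simp
    | succ n ih =>
      rw [pow_succ, pow_succ, mul_assoc, h, ← hx'.eq, ← mul_assoc, ih, mul_assoc, mul_assoc, hx'.eq]
  induction q using Polynomial.induction_on' with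
  | add p q hp hq => rw [map_add, map_add, add_mul, add_mul, hp, hq]
  | monomial n r =>
    rw [aeval_monomial, aeval_monomial, mul_assoc, mul_assoc, hk]

/-- Two summands of `y` in the corner: one of them is invertible. -/
theorem IsPrimIdem.cornerUnit_or {Q : Subgroup G} {y : MonoidAlgebra ℂ G} (hy : IsPrimIdem M Q y)
    {a b : MonoidAlgebra ℂ G} (ha : LocCoeff M a) (hai : InvBy Q a) (hya : y * a = a) (hay : a * y = a)
    (hb : LocCoeff M b) (hbi : InvBy Q b) (hyb : y * b = b) (hby : b * y = b) (hab : a + b = y) :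
    CornerUnit M Q y a ∨ CornerUnit M Q y b := by
  classical
  have hcomm : Commute y a := by
    show y * a = a * y
    rw [hya, hay]
  obtain ⟨l, s, hs, h0⟩ := hy.exists_corner ha hai hcomm
  by_cases hl : l ∈ localIdeal M
  · right
    -- the polynomial `lin s (1 - X)` annihilates `b`
    set q : (localRing M)[X] := (lin s).comp (1 - X) with hq
    have hcommb : Commute y b := by
      show y * b = b * y
      rw [hyb, hby]
    have h1 : aeval b q = aeval (1 - b) (lin s) := by
      rw [hq, aeval_comp]
      simp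
    have h2 : aeval b q * y = 0 := by
      rw [h1, aeval_mul_eq_of_mul_eq ((Commute.one_right y).sub_right hcommb) hcomm ?_ (lin s), h0]
      have e1 : y - b = a := by rw [← hab]; abel
      rw [sub_mul, one_mul, hby, hay, e1]
    refine cornerUnit_of_aeval hy.loc hy.inv hy.idem hb hbi hyb hby h2 ?_
    rw [coeff_zero_eq_eval_zero, hq, eval_comp]
    simp only [eval_sub, eval_one, eval_X, sub_zero]
    rw [lin, eval_multiset_prod, Multiset.map_map]
    rw [IsUnit.multisetProd_iff]
    intro x hx
    rw [Multiset.mem_map] at hx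
    obtain ⟨r, hr, rfl⟩ := hx
    simp only [Function.comp_apply, eval_sub, eval_X, eval_C]
    rw [isUnit_iff_not_mem]
    intro h
    have hr1 : r ∈ localIdeal M := by
      have : r = (r - l) + l := by ring
      rw [this]
      exact (localIdeal M).add_mem (hs r hr) hl
    have h2 : (1 : localRing M) ∈ localIdeal M := by
      have : (1 : localRing M) = (1 - r) + r := by ring
      rw [this]
      exact (localIdeal M).add_mem h hr1
    exact (Ideal.ne_top_iff_one _).mp (Ideal.IsPrime.ne_top inferInstance) h2
  · left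
    refine cornerUnit_of_aeval hy.loc hy.inv hy.idem ha hai hya hay h0 ?_
    rw [coeff_zero_eq_eval_zero, lin, eval_multiset_prod, Multiset.map_map]
    rw [IsUnit.multisetProd_iff]
    intro x hx
    rw [Multiset.mem_map] at hx
    obtain ⟨r, hr, rfl⟩ := hx
    simp only [Function.comp_apply, eval_sub, eval_X, eval_C]
    rw [isUnit_iff_not_mem]
    intro h
    apply hl
    have : l = r - (r - l) := by ring
    rw [this]
    refine (localIdeal M).sub_mem ?_ (hs r hr)
    have h3 := (localIdeal M).neg_mem h
    simpa using h3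

lemma cornerUnit_self {Q : Subgroup G} {y : MonoidAlgebra ℂ G} (hyl : LocCoeff M y) (hyi : InvBy Q y)
    (hyy : y * y = y) : CornerUnit M Q y y :=
  ⟨y, hyl, hyi, hyy, hyy, hyy, hyy⟩

lemma not_cornerUnit_of_coeffIn (hMp : IsPModular p M) {Q : Subgroup G} {y a : MonoidAlgebra ℂ G}
    (hyy : y * y = y) (hy0 : y ≠ 0) (ha : CoeffIn (localIdeal M) a) : ¬ CornerUnit M Q y a := by
  rintro ⟨h, hl, -, -, -, h1, -⟩
  apply hy0
  apply eq_zero_of_idem_of_coeffIn hMp hyy
  rw [← h1]
  exact coeffIn_mul_loc ha hl

/-- If a sum is invertible in the corner, one of the two summands is. -/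
theorem IsPrimIdem.cornerUnit_of_add {Q : Subgroup G} {y : MonoidAlgebra ℂ G} (hy : IsPrimIdem M Q y)
    {a b : MonoidAlgebra ℂ G} (ha : LocCoeff M a) (hai : InvBy Q a) (hya : y * a = a) (hay : a * y = a)
    (hb : LocCoeff M b) (hbi : InvBy Q b) (hyb : y * b = b) (hby : b * y = b)
    (hu : CornerUnit M Q y (a + b)) : CornerUnit M Q y a ∨ CornerUnit M Q y b := by
  obtain ⟨h, hl, hi, hhy, hyh, h1, h2⟩ := hu
  have key : ∀ c : MonoidAlgebra ℂ G, LocCoeff M c → InvBy Q c → y * c = c → c * y = c →
      CornerUnit M Q y (c * h) → (c = a ∨ c = b) → CornerUnit M Q y c := by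
    intro c hcl hci hyc hcy hc hcab
    obtain ⟨k, hkl, hki, hky, hyk, hk1, hk2⟩ := hc
    refine ⟨h * k, hl.mul hkl, hi.mul hki, ?_, ?_, ?_, ?_⟩
    · rw [mul_assoc, hky]
    · rw [← mul_assoc, hyh]
    · rw [← mul_assoc, hk1]
    · have e1 : k * c = a + b := by
        have : k * (c * h) * (a + b) = y * (a + b) := by rw [hk2]
        rw [mul_assoc, mul_assoc, h2, hcy, mul_add, hya, hyb] at this
        exact this
      rw [mul_assoc, e1, h2]
  have hsum : a * h + b * h = y := by rw [← add_mul, h1]
  rcases hy.cornerUnit_or (a := a * h) (b := b * h) (ha.mul hl) (hai.mul hi)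
    (by rw [← mul_assoc, hya]) (by rw [mul_assoc, hhy]) (hb.mul hl) (hbi.mul hi)
    (by rw [← mul_assoc, hyb]) (by rw [mul_assoc, hhy]) hsum with h3 | h3
  · exact Or.inl (key a ha hai hya hay h3 (Or.inl rfl))
  · exact Or.inr (key b hb hbi hyb hby h3 (Or.inr rfl))

/-- If a finite sum is invertible in the corner, one of the summands is. -/
theorem IsPrimIdem.exists_cornerUnit_of_sum {Q : Subgroup G} {y : MonoidAlgebra ℂ G} (hy : IsPrimIdem M Q y)
    {ι : Type*} (S : Finset ι) (f : ι → MonoidAlgebra ℂ G) (hl : ∀ i ∈ S, LocCoeff M (f i))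
    (hi : ∀ i ∈ S, InvBy Q (f i)) (hy1 : ∀ i ∈ S, y * f i = f i) (hy2 : ∀ i ∈ S, f i * y = f i)
    (hu : CornerUnit M Q y (∑ i ∈ S, f i)) : ∃ i ∈ S, CornerUnit M Q y (f i) := by
  classical
  induction S using Finset.induction_on with
  | empty =>
    exfalso
    obtain ⟨h, -, -, -, -, h1, -⟩ := hu
    apply hy.ne
    rw [← h1]
    simp
  | insert i S hiS ih =>
    rw [Finset.sum_insert hiS] at hu
    have hl' : ∀ j ∈ S, LocCoeff M (f j) := fun j hj => hl j (Finset.mem_insert_of_mem hj)
    have hi' : ∀ j ∈ S, InvBy Q (f j) := fun j hj => hi j (Finset.mem_insert_of_mem hj)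
    have hy1' : ∀ j ∈ S, y * f j = f j := fun j hj => hy1 j (Finset.mem_insert_of_mem hj)
    have hy2' : ∀ j ∈ S, f j * y = f j := fun j hj => hy2 j (Finset.mem_insert_of_mem hj)
    have hsl : LocCoeff M (∑ j ∈ S, f j) := by
      intro g
      rw [MonoidAlgebra.coeff_sum, Finsupp.finsetSum_apply]
      exact memLocalRing_sum _ _ fun j hj => hl' j hj g
    have hsi : InvBy Q (∑ j ∈ S, f j) := by
      intro g u hu
      simp only [MonoidAlgebra.coeff_sum, Finsupp.finsetSum_apply]
      exact Finset.sum_congr rfl fun j hj => hi' j hj g u hu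
    rcases hy.cornerUnit_of_add (hl i (Finset.mem_insert_self _ _)) (hi i (Finset.mem_insert_self _ _))
      (hy1 i (Finset.mem_insert_self _ _)) (hy2 i (Finset.mem_insert_self _ _)) hsl hsi
      (by rw [Finset.mul_sum]; exact Finset.sum_congr rfl hy1')
      (by rw [Finset.sum_mul]; exact Finset.sum_congr rfl hy2') hu with h | h
    · exact ⟨i, Finset.mem_insert_self _ _, h⟩
    · obtain ⟨j, hj, h'⟩ := ih hl' hi' hy1' hy2' h
      exact ⟨j, Finset.mem_insert_of_mem hj, h'⟩

/-- Spectral splitting: an element `t` of the corner of an idempotent `y` has a nonzero polynomial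
idempotent on which all its eigenvalues are congruent. -/
theorem exists_spectral_idem {y t : MonoidAlgebra ℂ G} (hyy : y * y = y) (hy0 : y ≠ 0) (htl : LocCoeff M t)
    (hc : Commute y t) :
    ∃ (q : (localRing M)[X]) (s₁ : Multiset (localRing M)) (l : localRing M), (∀ r ∈ s₁, r - l ∈ localIdeal M) ∧
      (aeval t q * y) * (aeval t q * y) = aeval t q * y ∧ aeval t q * y ≠ 0 ∧
      aeval t (lin s₁) * (aeval t q * y) = 0 := by
  classical
  have key : ∀ (n : ℕ) (s : Multiset (localRing M)), Multiset.card s = n → aeval t (lin s) * y = 0 →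
      ∃ (q : (localRing M)[X]) (s₁ : Multiset (localRing M)) (l : localRing M), (∀ r ∈ s₁, r - l ∈ localIdeal M) ∧
      (aeval t q * y) * (aeval t q * y) = aeval t q * y ∧ aeval t q * y ≠ 0 ∧
      aeval t (lin s₁) * (aeval t q * y) = 0 := by
    intro n
    induction n using Nat.strong_induction_on with
    | _ n ih =>
    intro s hs h0
    rcases Multiset.empty_or_exists_mem s with rfl | ⟨l, hl⟩
    · exfalso
      apply hy0
      simpa [lin] using h0
    · set Q : localRing M → Prop := fun r => r - l ∈ localIdeal M with hQ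
      have hunit : ∀ r ∈ s.filter Q, ∀ t ∈ s.filter (fun r => ¬ Q r), IsUnit (r - t) := by
        intro r hr t ht
        rw [Multiset.mem_filter] at hr ht
        rw [isUnit_iff_not_mem]
        intro h
        apply ht.2
        have : t - l = (r - l) - (r - t) := by ring
        show t - l ∈ localIdeal M
        rw [this]
        exact (localIdeal M).sub_mem hr.2 h
      obtain ⟨u, v, huv⟩ := isCoprime_lin _ _ hunit
      set f₁ := lin (s.filter Q) with hf₁
      set f₂ := lin (s.filter (fun r => ¬ Q r)) with hf₂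
      have hprod : f₁ * f₂ = lin s := lin_filter_mul s Q
      have hcomm : ∀ q : (localRing M)[X], aeval t q * y = y * aeval t q := fun q =>
        (commute_aeval hc q).symm
      have hsum : aeval t (v * f₂) * y + aeval t (u * f₁) * y = y := by
        rw [← add_mul, ← map_add, add_comm, huv, map_one, one_mul]
      have hmul0 : ∀ a : (localRing M)[X], aeval t (a * lin s) * y = 0 := by
        intro a
        rw [map_mul, mul_assoc, h0, mul_zero]
      by_cases he : aeval t (v * f₂) * y = 0
      · -- the class of `l` disappears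
        have hf : aeval t f₂ * y = 0 := by
          rw [he, zero_add] at hsum
          calc aeval t f₂ * y = aeval t f₂ * (aeval t (u * f₁) * y) := by rw [hsum]
            _ = aeval t (u * lin s) * y := by
                rw [← mul_assoc, ← map_mul, ← hprod]
                congr 2
                ring
            _ = 0 := hmul0 u
        have hlt : Multiset.card (s.filter (fun r => ¬ Q r)) < n := by
          rw [← hs]
          apply lt_of_le_of_ne (Multiset.card_le_card (Multiset.filter_le _ _))
          intro heq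
          have h5 := (Multiset.filter_eq_self).mp (Multiset.eq_of_le_of_card_le
            (Multiset.filter_le _ _) heq.ge)
          have h6 := h5 l hl
          apply h6
          show l - l ∈ localIdeal M
          simp
        exact ih _ hlt _ rfl hf
      · refine ⟨v * f₂, s.filter Q, l, fun r hr => (Multiset.mem_filter.mp hr).2, ?_, he, ?_⟩
        · have e0 : (aeval t (v * f₂) * y) * (aeval t (u * f₁) * y) = 0 := by
            have : (aeval t (v * f₂) * y) * (aeval t (u * f₁) * y) = aeval t ((v * u) * lin s) * y := by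
              rw [mul_assoc, ← mul_assoc y, ← hcomm, mul_assoc _ y y, hyy, ← mul_assoc, ← map_mul, ← hprod]
              congr 2
              ring
            rw [this, hmul0]
          calc (aeval t (v * f₂) * y) * (aeval t (v * f₂) * y)
              = (aeval t (v * f₂) * y) * (aeval t (v * f₂) * y + aeval t (u * f₁) * y) := by
                rw [mul_add, e0, add_zero]
            _ = aeval t (v * f₂) * y := by rw [hsum, mul_assoc, hyy]
        · have : aeval t f₁ * (aeval t (v * f₂) * y) = aeval t (v * lin s) * y := by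
            rw [← mul_assoc, ← map_mul, ← hprod]
            congr 2
            ring
          rw [this, hmul0]
  obtain ⟨s, hs⟩ := exists_spec htl
  exact key _ s rfl (by rw [hs, zero_mul])

/-! Congruences of polynomial values. -/

lemma coeffIn_pow_sub {I : Ideal (localRing M)} {x x' : MonoidAlgebra ℂ G} (hx : LocCoeff M x)
    (hx' : LocCoeff M x') (h : CoeffIn I (x - x')) (n : ℕ) : CoeffIn I (x ^ n - x' ^ n) := by
  induction n with
  | zero => simpa using coeffIn_zero
  | succ n ih =>
    have e1 : x ^ (n + 1) - x' ^ (n + 1) = x ^ n * (x - x') + (x ^ n - x' ^ n) * x' := by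
      rw [pow_succ, pow_succ]
      noncomm_ring
    rw [e1]
    exact (CoeffIn.mul_left (coeffIn_top_iff.mpr (hx.pow n)) h).add (ih.mul_right (coeffIn_top_iff.mpr hx'))

lemma coeffIn_aeval_sub {I : Ideal (localRing M)} {x x' : MonoidAlgebra ℂ G} (hx : LocCoeff M x)
    (hx' : LocCoeff M x') (h : CoeffIn I (x - x')) (q : (localRing M)[X]) :
    CoeffIn I (aeval x q - aeval x' q) := by
  induction q using Polynomial.induction_on' with
  | add p q hp hq =>
    rw [map_add, map_add, add_sub_add_comm]
    exact hp.add hq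
  | monomial n r =>
    rw [aeval_monomial, aeval_monomial, ← mul_sub]
    exact CoeffIn.mul_left (coeffIn_top_iff.mpr (locCoeff_algebraMap r)) (coeffIn_pow_sub hx hx' h n)

/-! Conjugation and polynomials. -/

lemma cj_one_alg (s : G) : cj s (1 : MonoidAlgebra ℂ G) = 1 := by
  classical
  apply ext_coeff
  intro c
  rw [coeff_cj, coeff_one_apply, coeff_one_apply]
  have : s⁻¹ * c * s = 1 ↔ c = 1 := by
    constructor
    · intro h
      have h2 : c = s * (s⁻¹ * c * s) * s⁻¹ := by group
      rw [h2, h]
      simp
    · rintro rfl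
      simp
  simp only [this, eq_comm (b := (1 : G))]

lemma cj_pow_alg (s : G) (a : MonoidAlgebra ℂ G) (n : ℕ) : cj s (a ^ n) = cj s a ^ n := by
  induction n with
  | zero => simpa using cj_one_alg s
  | succ n ih => rw [pow_succ, pow_succ, cj_mul, ih]

lemma cj_algebraMap_local (s : G) (r : localRing M) :
    cj s (algebraMap (localRing M) (MonoidAlgebra ℂ G) r) = algebraMap (localRing M) (MonoidAlgebra ℂ G) r :=
  cj_eq_of_invBy (H := ⊤) (invBy_algebraMap ⊤ r) (Subgroup.mem_top s)

lemma cj_aeval (s : G) (t : MonoidAlgebra ℂ G) (q : (localRing M)[X]) :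
    cj s (aeval t q) = aeval (cj s t) q := by
  induction q using Polynomial.induction_on' with
  | add p q hp hq => rw [map_add, map_add, cj_add, hp, hq]
  | monomial n r =>
    rw [aeval_monomial, aeval_monomial, cj_mul, cj_pow_alg, cj_algebraMap_local]

lemma cj_sub (s : G) (a b : MonoidAlgebra ℂ G) : cj s (a - b) = cj s a - cj s b := by
  apply ext_coeff
  intro g
  simp [MonoidAlgebra.coeff_sub]

lemma cj_neg (s : G) (a : MonoidAlgebra ℂ G) : cj s (-a) = - cj s a := by
  apply ext_coeff
  intro g
  simp [MonoidAlgebra.coeff_neg]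

lemma cj_zero (s : G) : cj s (0 : MonoidAlgebra ℂ G) = 0 := by
  apply ext_coeff
  intro g
  simp

lemma cj_sum (s : G) {ι : Type*} (S : Finset ι) (f : ι → MonoidAlgebra ℂ G) :
    cj s (∑ i ∈ S, f i) = ∑ i ∈ S, cj s (f i) := by
  classical
  induction S using Finset.induction_on with
  | empty => simpa using cj_zero s
  | insert i S hi ih => rw [Finset.sum_insert hi, Finset.sum_insert hi, cj_add, ih]

lemma cj_natCast_mul (s : G) (n : ℕ) (a : MonoidAlgebra ℂ G) : cj s ((n : MonoidAlgebra ℂ G) * a) =
    (n : MonoidAlgebra ℂ G) * cj s a := by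
  induction n with
  | zero => simpa using cj_zero s
  | succ n ih =>
    push_cast
    rw [add_mul, cj_add, ih, one_mul, add_mul, one_mul]

lemma coeffIn_cj {I : Ideal (localRing M)} (s : G) {a : MonoidAlgebra ℂ G} (h : CoeffIn I a) :
    CoeffIn I (cj s a) := fun g => by
  rw [coeff_cj]
  exact h _

end Corner

end Cfsg.Agent.Lib.Blocks.Nilp
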