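/-
The star construction for Brauer blocks: an Artin-Schreier form of Green's indecomposability argument.
-/
import Mathlib
import Cfsg.Agent.Lib.Blocks.StarA

set_option autoImplicit false

namespace Cfsg.Agent.Lib.Blocks.Nilp

open Cfsg Cfsg.Agent.Lib.Blocks.Local Cfsg.Agent.Lib.Blocks.Central Cfsg.Agent.Lib.Blocks.Osima
open Cfsg.Agent.Lib.Blocks.Covering Cfsg.Agent.Lib.Blocks.BlockHom Cfsg.Agent.Lib.Blocks.Pairs
open Cfsg.Agent.Lib.Blocks.Twisted Cfsg.Agent.Lib.Blocks.Necklace
open Polynomial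

universe u

section Green

variable {G : Type u} [Group G] [Fintype G] {M : Ideal AlgInt} [hM : M.IsPrime] {p : ℕ} [hp : Fact p.Prime]

/-- `R` is a normal subgroup of prime index `p` of `Q`, and `v` generates the quotient. -/
structure IsStep (p : ℕ) (Q R : Subgroup G) (v : G) : Prop where
  le : R ≤ Q
  vmem : v ∈ Q
  norm : ∀ u ∈ Q, ∀ r ∈ R, u * r * u⁻¹ ∈ R
  powp : v ^ p ∈ R
  ne : ∀ j : ℕ, 0 < j → j < p → v ^ j ∉ R
  gen : ∀ u ∈ Q, ∃ j < p, ∃ r ∈ R, u = v ^ j * r
  card : Nat.card Q = p * Nat.card R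

omit [Fintype G] in
lemma IsStep.pow_mem {Q R : Subgroup G} {v : G} (h : IsStep p Q R v) (i : ℕ) : v ^ i ∈ Q := Q.pow_mem h.vmem i

lemma invBy_of_cj_eq {H : Subgroup G} {a : MonoidAlgebra ℂ G} (h : ∀ u ∈ H, cj u a = a) : InvBy H a := by
  intro g u hu
  have h1 := congrArg (fun b => b.coeff g) (h u⁻¹ (H.inv_mem hu))
  simp only [coeff_cj, inv_inv] at h1
  exact h1

lemma invBy_cj_of_step {Q R : Subgroup G} {v : G} (h : IsStep p Q R v) {a : MonoidAlgebra ℂ G} (ha : InvBy R a)
    (i : ℕ) : InvBy R (cj (v ^ i) a) := by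
  intro g u hu
  rw [coeff_cj, coeff_cj]
  have h1 := ha ((v ^ i)⁻¹ * g * v ^ i) ((v ^ i)⁻¹ * u * ((v ^ i)⁻¹)⁻¹)
    (h.norm _ (Q.inv_mem (h.pow_mem i)) u hu)
  rw [← h1]
  congr 1
  group

lemma cj_periodic {Q R : Subgroup G} {v : G} (h : IsStep p Q R v) {a : MonoidAlgebra ℂ G} (ha : InvBy R a)
    (i : ℕ) : cj (v ^ (i + p)) a = cj (v ^ i) a := by
  rw [pow_add, cj_cj, cj_eq_of_invBy ha h.powp]

lemma eq_zero_of_idem_of_coeffIn_p (hMp : IsPModular p M) {x : MonoidAlgebra ℂ G} (hx : x * x = x)
    (h : CoeffIn (pIdeal p M) x) : x = 0 := by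
  have hx1 : IsIdempotentElem x := hx
  apply eq_zero_of_forall_coeffIn_pow (p := p) hMp
  intro n
  by_cases hn : n = 0
  · subst hn
    rw [pow_zero, Ideal.one_eq_top]
    exact h.top
  · have := h.pow n
    rwa [hx1.pow_eq hn] at this

/-- The vector equation behind exact orthogonality. -/
lemma eq_zero_of_orth (hMp : IsPModular p M) {n : ℕ} {e w : ℕ → MonoidAlgebra ℂ G}
    (hw : ∀ i < n, LocCoeff M (w i)) (hwe : ∀ i < n, w i * e i = w i)
    (hsum : ∑ i ∈ Finset.range n, w i = 0)
    (hpp : ∀ i < n, ∀ k < n, i ≠ k → CoeffIn (pIdeal p M) (e i * e k)) : ∀ i < n, w i = 0 := by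
  classical
  have key : ∀ m : ℕ, ∀ i < n, CoeffIn (pIdeal p M ^ m) (w i) := by
    intro m
    induction m with
    | zero =>
      intro i hi
      rw [pow_zero, Ideal.one_eq_top]
      exact coeffIn_top_iff.mpr (hw i hi)
    | succ m ih =>
      intro k hk
      have h0 : ∑ i ∈ Finset.range n, w i * e k = 0 := by rw [← Finset.sum_mul, hsum, zero_mul]
      have hmem : k ∈ Finset.range n := Finset.mem_range.mpr hk
      rw [← Finset.add_sum_erase _ _ hmem, hwe k hk] at h0
      have h1 : w k = - ∑ i ∈ (Finset.range n).erase k, w i * (e i * e k) := by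
        rw [eq_neg_iff_add_eq_zero, ← h0]
        congr 1
        refine Finset.sum_congr rfl fun i hi => ?_
        have hi' := Finset.mem_erase.mp hi
        have hin := Finset.mem_range.mp hi'.2
        rw [← mul_assoc, hwe i hin]
      rw [h1]
      apply CoeffIn.neg
      intro g
      rw [MonoidAlgebra.coeff_sum, Finsupp.finsetSum_apply]
      have h2 : ∀ i ∈ (Finset.range n).erase k, CoeffIn (pIdeal p M ^ (m + 1)) (w i * (e i * e k)) := by
        intro i hi
        have hi' := Finset.mem_erase.mp hi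
        have hin := Finset.mem_range.mp hi'.2
        rw [pow_succ]
        exact (ih i hin).mul (hpp i hin k hk hi'.1)
      choose c hc hc' using fun i (hi : i ∈ (Finset.range n).erase k) => h2 i hi g
      refine ⟨∑ i ∈ ((Finset.range n).erase k).attach, c i.1 i.2, Ideal.sum_mem _ fun i _ => hc i.1 i.2, ?_⟩
      rw [AddSubmonoidClass.coe_finsetSum, ← Finset.sum_attach _ (fun i => (w i * (e i * e k)).coeff g)]
      exact Finset.sum_congr rfl fun i _ => hc' i.1 i.2
  intro i hi
  exact eq_zero_of_forall_coeffIn_pow (p := p) hMp fun m => key m i hi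

/-- The identity behind the Artin-Schreier element. -/
lemma sum_artin (A : ℕ → MonoidAlgebra ℂ G) (n : ℕ) :
    ∑ i ∈ Finset.range n, (i : MonoidAlgebra ℂ G) * (A i - A (i + 1)) + A 0 + (n : MonoidAlgebra ℂ G) * A n =
      ∑ i ∈ Finset.range n, A i + A n := by
  induction n with
  | zero => simp
  | succ n ih =>
    rw [Finset.sum_range_succ, Finset.sum_range_succ]
    push_cast
    have h1 : ∀ x y : MonoidAlgebra ℂ G, x + (n : MonoidAlgebra ℂ G) * (A n - A (n + 1)) + A 0 +
        ((n : MonoidAlgebra ℂ G) + 1) * A (n + 1) = (x + A 0 + (n : MonoidAlgebra ℂ G) * A n) + A (n + 1) := by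
      intro x _
      noncomm_ring
    rw [h1 _ 0, ih]

lemma locCoeff_natCast (n : ℕ) : LocCoeff M ((n : MonoidAlgebra ℂ G)) := by
  have : (n : MonoidAlgebra ℂ G) = algebraMap (localRing M) (MonoidAlgebra ℂ G) (n : localRing M) :=
    (map_natCast _ n).symm
  rw [this]
  exact locCoeff_algebraMap _

lemma invBy_natCast (H : Subgroup G) (n : ℕ) : InvBy H ((n : MonoidAlgebra ℂ G)) := by
  have : (n : MonoidAlgebra ℂ G) = (n : ℂ) • (1 : MonoidAlgebra ℂ G) := by
    rw [Algebra.smul_def, mul_one, map_natCast]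
  rw [this]
  exact (invBy_one H).smul _

lemma coeffIn_p_mul {x : MonoidAlgebra ℂ G} (hx : LocCoeff M x) :
    CoeffIn (pIdeal p M) ((p : MonoidAlgebra ℂ G) * x) := by
  have h1 : (p : MonoidAlgebra ℂ G) = algebraMap (localRing M) (MonoidAlgebra ℂ G) (p : localRing M) :=
    (map_natCast _ p).symm
  intro g
  have : ((p : MonoidAlgebra ℂ G) * x).coeff g = ((p : localRing M) : ℂ) * x.coeff g := by
    rw [h1, algebraMap_local_eq, ← Algebra.smul_def, MonoidAlgebra.coeff_smul_apply, smul_eq_mul]
  refine ⟨(p : localRing M) * ⟨x.coeff g, hx g⟩, Ideal.mul_mem_right _ _ (Ideal.subset_span rfl), ?_⟩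
  rw [this]
  rfl

lemma cj_natCast (s : G) (n : ℕ) : cj s (n : MonoidAlgebra ℂ G) = n := by
  have := cj_natCast_mul s n 1
  rwa [mul_one, cj_one_alg, mul_one] at this

/-- The polynomial with shifted roots. -/
lemma aeval_lin_shift (x : MonoidAlgebra ℂ G) (c : localRing M) (s : Multiset (localRing M)) :
    aeval x (lin (s.map (fun r => r - c))) =
      aeval (x + algebraMap (localRing M) (MonoidAlgebra ℂ G) c) (lin s) := by
  induction s using Multiset.induction_on with
  | empty => simp [lin]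
  | cons r s ih =>
    rw [Multiset.map_cons, lin_cons, lin_cons, map_mul, map_mul, ih]
    congr 1
    simp only [map_sub, aeval_X, aeval_C]
    abel

lemma coeffIn_sum_of {I : Ideal (localRing M)} {ι : Type*} (S : Finset ι) (f : ι → MonoidAlgebra ℂ G)
    (h : ∀ i ∈ S, CoeffIn I (f i)) : CoeffIn I (∑ i ∈ S, f i) := by
  classical
  induction S using Finset.induction_on with
  | empty => simpa using coeffIn_zero
  | insert i S hi ih =>
    rw [Finset.sum_insert hi]
    exact (h i (Finset.mem_insert_self _ _)).add (ih fun j hj => h j (Finset.mem_insert_of_mem hj))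

/-- Step 1: the Artin-Schreier element. -/
lemma exists_artin {Q R : Subgroup G} {v : G} (hS : IsStep p Q R v)
    {y : MonoidAlgebra ℂ G} (hy : IsPrimIdem M Q y) {a : MonoidAlgebra ℂ G} (ha : LocCoeff M a)
    (hai : InvBy R a) (hya : y * a = a) (hay : a * y = a)
    (hsum : ∑ i ∈ Finset.range p, cj (v ^ i) a = y) :
    ∃ t : MonoidAlgebra ℂ G, LocCoeff M t ∧ InvBy R t ∧ Commute y t ∧
      ∀ i : ℕ, CoeffIn (pIdeal p M) (cj (v ^ i) t - t - (i : MonoidAlgebra ℂ G) * y) := by
  classical
  have hyy := hy.idem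
  have hyl := hy.loc
  have hcjy : ∀ i : ℕ, cj (v ^ i) y = y := fun i => cj_eq_of_invBy hy.inv (hS.pow_mem i)
  set A : ℕ → MonoidAlgebra ℂ G := fun i => cj (v ^ i) a with hA
  have hA0 : A 0 = a := by simp [hA, cj_one']
  have hAp : A p = a := by
    have := cj_periodic hS hai 0
    simpa [hA, cj_one'] using this
  have hAs : ∀ i, cj v (A i) = A (i + 1) := by
    intro i
    simp only [hA]
    rw [← cj_cj, ← pow_succ']
  have hAl : ∀ i, LocCoeff M (A i) := fun i => locCoeff_cj _ ha
  have hAi : ∀ i, InvBy R (A i) := fun i => invBy_cj_of_step hS hai i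
  set t : MonoidAlgebra ℂ G := - ∑ i ∈ Finset.range p, (i : MonoidAlgebra ℂ G) * A i with ht
  have htl : LocCoeff M t := by
    have h1 : LocCoeff M (∑ i ∈ Finset.range p, (i : MonoidAlgebra ℂ G) * A i) :=
      locCoeff_sum _ _ fun i _ => (locCoeff_natCast i).mul (hAl i)
    simpa [ht] using (locCoeff_zero (M := M)).sub h1
  have hti : InvBy R t := by
    have h1 : InvBy R (∑ i ∈ Finset.range p, (i : MonoidAlgebra ℂ G) * A i) :=
      invBy_sum _ _ fun i _ => (invBy_natCast R i).mul (hAi i)
    have h2 : InvBy R (0 - ∑ i ∈ Finset.range p, (i : MonoidAlgebra ℂ G) * A i) :=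
      InvBy.sub (fun x u _ => by simp) h1
    simpa [ht] using h2
  have hsumA : ∑ i ∈ Finset.range p, A i = y := hsum
  have hσt : cj v t = t + y - (p : MonoidAlgebra ℂ G) * a := by
    have h1 := sum_artin A p
    rw [hA0, hAp, hsumA] at h1
    have h2 : cj v t = - ∑ i ∈ Finset.range p, (i : MonoidAlgebra ℂ G) * A (i + 1) := by
      rw [ht, cj_neg, cj_sum]
      congr 1
      refine Finset.sum_congr rfl fun i _ => ?_
      rw [cj_natCast_mul, hAs]
    have h3 : ∑ i ∈ Finset.range p, (i : MonoidAlgebra ℂ G) * (A i - A (i + 1)) =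
        ∑ i ∈ Finset.range p, (i : MonoidAlgebra ℂ G) * A i -
          ∑ i ∈ Finset.range p, (i : MonoidAlgebra ℂ G) * A (i + 1) := by
      rw [← Finset.sum_sub_distrib]
      exact Finset.sum_congr rfl fun i _ => mul_sub _ _ _
    rw [h3] at h1
    rw [h2, ht]
    have h4 : ∑ i ∈ Finset.range p, (i : MonoidAlgebra ℂ G) * A i -
        ∑ i ∈ Finset.range p, (i : MonoidAlgebra ℂ G) * A (i + 1) =
          y + a - a - (p : MonoidAlgebra ℂ G) * a := by
      rw [← h1]
      abel
    have h5 : y + a - a = y := by abel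
    rw [h5] at h4
    rw [sub_eq_iff_eq_add] at h4
    rw [h4]
    abel
  have hcjy' : ∀ i : ℕ, ∀ b : MonoidAlgebra ℂ G, y * b = b → y * cj (v ^ i) b = cj (v ^ i) b := by
    intro i b hb
    have := congrArg (cj (v ^ i)) hb
    rwa [cj_mul, hcjy] at this
  have hcjy'' : ∀ i : ℕ, ∀ b : MonoidAlgebra ℂ G, b * y = b → cj (v ^ i) b * y = cj (v ^ i) b := by
    intro i b hb
    have := congrArg (cj (v ^ i)) hb
    rwa [cj_mul, hcjy] at this
  have hyt : y * t = t := by
    rw [ht, mul_neg, Finset.mul_sum]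
    congr 1
    refine Finset.sum_congr rfl fun i _ => ?_
    rw [← mul_assoc, (Nat.cast_commute i y).symm.eq, mul_assoc, hcjy' i a hya]
  have hty : t * y = t := by
    rw [ht, neg_mul, Finset.sum_mul]
    congr 1
    refine Finset.sum_congr rfl fun i _ => ?_
    rw [mul_assoc, hcjy'' i a hay]
  have hcomm : Commute y t := by
    show y * t = t * y
    rw [hyt, hty]
  refine ⟨t, htl, hti, hcomm, ?_⟩
  intro i
  induction i with
  | zero => simpa [cj_one'] using coeffIn_zero
  | succ i ih =>
    have e1 : cj (v ^ (i + 1)) t = cj (v ^ i) t + y - (p : MonoidAlgebra ℂ G) * A i := by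
      rw [pow_succ, cj_cj, hσt, cj_sub, cj_add, hcjy, cj_natCast_mul]
    have e2 : cj (v ^ (i + 1)) t - t - ((i + 1 : ℕ) : MonoidAlgebra ℂ G) * y =
        (cj (v ^ i) t - t - (i : MonoidAlgebra ℂ G) * y) - (p : MonoidAlgebra ℂ G) * A i := by
      rw [e1]
      push_cast
      noncomm_ring
    rw [e2]
    exact ih.sub (coeffIn_p_mul (hAl i))

/-- Step 2: the main congruence. -/
lemma coeffIn_spectral_mul (hMp : IsPModular p M) {y t t' E : MonoidAlgebra ℂ G} {q : (localRing M)[X]}
    {s₁ : Multiset (localRing M)} {l : localRing M} (hyy : y * y = y) (hcomm : Commute y t)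
    (htl : LocCoeff M t) (hyl : LocCoeff M y) (hs : ∀ r ∈ s₁, r - l ∈ localIdeal M)
    (hann : aeval t (lin s₁) * (aeval t q * y) = 0) {i : ℕ} (hi0 : 0 < i) (hip : i < p)
    (ht'l : LocCoeff M t') (hit : CoeffIn (pIdeal p M) (t' - t - (i : MonoidAlgebra ℂ G) * y))
    (hEl : LocCoeff M E) (hye : y * E = E) (hannE : aeval t' (lin s₁) * E = 0) :
    CoeffIn (pIdeal p M) ((aeval t q * y) * E) := by
  classical
  set e₀ : MonoidAlgebra ℂ G := aeval t q * y with he₀
  have he₀l : LocCoeff M e₀ := (locCoeff_aeval htl q).mul hyl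
  have hte₀ : ∀ P : (localRing M)[X], aeval t P * e₀ = e₀ * aeval t P := by
    intro P
    rw [he₀, ← mul_assoc, ← map_mul, mul_comm P q, map_mul, mul_assoc (aeval t q), mul_assoc (aeval t q)]
    congr 1
    exact (commute_aeval hcomm P).symm.eq
  set ι := algebraMap (localRing M) (MonoidAlgebra ℂ G) with hι
  set c : localRing M := (i : localRing M) with hc
  have hιc : ι c = (i : MonoidAlgebra ℂ G) := map_natCast _ i
  have hcn : c ∉ localIdeal M := by
    intro h
    have h1 := mem_localIdeal.mp h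
    have h2 : MemLocalIdeal M (i : ℂ) := by
      simpa [hc] using h1
    rw [memLocalIdeal_natCast_iff hMp] at h2
    exact Nat.not_dvd_of_pos_of_lt hi0 hip h2
  set s₂ := s₁.map (fun r => r - c) with hs₂
  have hunit : ∀ r ∈ s₁, ∀ r' ∈ s₂, IsUnit (r - r') := by
    intro r hr r' hr'
    rw [hs₂, Multiset.mem_map] at hr'
    obtain ⟨r'', hr'', rfl⟩ := hr'
    rw [isUnit_iff_not_mem]
    intro h
    apply hcn
    have : c = (r - (r'' - c)) - ((r - l) - (r'' - l)) := by ring
    rw [this]
    exact (localIdeal M).sub_mem h ((localIdeal M).sub_mem (hs r hr) (hs r'' hr''))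
  obtain ⟨U, V, hUV⟩ := isCoprime_lin s₁ s₂ hunit
  have h1 : CoeffIn (pIdeal p M) (aeval t (lin s₂) * E) := by
    have e1 : aeval t (lin s₂) * E = aeval (t + ι c * y) (lin s₁) * E := by
      rw [hs₂, aeval_lin_shift]
      have e2 : aeval (t + ι c) (lin s₁) * y = aeval (t + ι c * y) (lin s₁) * y := by
        apply aeval_mul_eq_of_mul_eq
        · exact hcomm.add_right (show Commute y (ι c) from (Algebra.commutes c y).symm)
        · exact hcomm.add_right ((show Commute y (ι c) from (Algebra.commutes c y).symm).mul_right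
            (Commute.refl y))
        · rw [add_mul, add_mul, mul_assoc (ι c) y y, hyy]
      rw [← hye, ← mul_assoc, e2, mul_assoc]
    rw [e1]
    have e3 : CoeffIn (pIdeal p M) (aeval (t + ι c * y) (lin s₁) - aeval t' (lin s₁)) := by
      apply coeffIn_aeval_sub (htl.add ((locCoeff_algebraMap c).mul hyl)) ht'l
      have e4 : t + ι c * y - t' = - (t' - t - (i : MonoidAlgebra ℂ G) * y) := by
        rw [hιc]
        abel
      rw [e4]
      exact hit.neg
    have e5 := e3.mul_right (coeffIn_top_iff.mpr hEl)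
    rwa [sub_mul, hannE, sub_zero] at e5
  have h2 : e₀ * E = aeval t U * (aeval t (lin s₁) * e₀) * E + (aeval t V * e₀) * (aeval t (lin s₂) * E) := by
    have e1 : e₀ * E = aeval t (U * lin s₁ + V * lin s₂) * (e₀ * E) := by
      rw [hUV, map_one, one_mul]
    rw [e1, map_add, map_mul, map_mul, add_mul]
    congr 1
    · simp only [mul_assoc]
    · have e6 : aeval t (lin s₂) * (e₀ * E) = e₀ * (aeval t (lin s₂) * E) := by
        rw [← mul_assoc, hte₀, mul_assoc]
      rw [mul_assoc (aeval t V), e6, mul_assoc (aeval t V)]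
  rw [h2, hann, mul_zero, zero_mul, zero_add]
  exact CoeffIn.mul_left (coeffIn_top_iff.mpr ((locCoeff_aeval htl V).mul he₀l)) h1

/-- Step 3: from orthogonality modulo `p` to exact orthogonality. -/
lemma exists_split_of_orth (hMp : IsPModular p M) {Q R : Subgroup G} {v : G} (hS : IsStep p Q R v)
    {y : MonoidAlgebra ℂ G} (hy : IsPrimIdem M Q y) {e₀ : MonoidAlgebra ℂ G} (he₀l : LocCoeff M e₀)
    (he₀i : InvBy R e₀) (hee : e₀ * e₀ = e₀) (hne : e₀ ≠ 0) (hye₀ : y * e₀ = e₀) (he₀y : e₀ * y = e₀)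
    (hmain : ∀ i, 0 < i → i < p → CoeffIn (pIdeal p M) (e₀ * cj (v ^ i) e₀)) :
    ∃ z : MonoidAlgebra ℂ G, LocCoeff M z ∧ InvBy R z ∧ z * z = z ∧
      ∑ i ∈ Finset.range p, cj (v ^ i) z = y ∧
      ∀ i < p, ∀ j < p, i ≠ j → cj (v ^ i) z * cj (v ^ j) z = 0 := by
  classical
  have hp0 : 0 < p := hp.out.pos
  have hyy := hy.idem
  have hyl := hy.loc
  have hcjy : ∀ i : ℕ, cj (v ^ i) y = y := fun i => cj_eq_of_invBy hy.inv (hS.pow_mem i)
  have hcjy' : ∀ i : ℕ, ∀ b : MonoidAlgebra ℂ G, y * b = b → y * cj (v ^ i) b = cj (v ^ i) b := by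
    intro i b hb
    have := congrArg (cj (v ^ i)) hb
    rwa [cj_mul, hcjy] at this
  have hcjy'' : ∀ i : ℕ, ∀ b : MonoidAlgebra ℂ G, b * y = b → cj (v ^ i) b * y = cj (v ^ i) b := by
    intro i b hb
    have := congrArg (cj (v ^ i)) hb
    rwa [cj_mul, hcjy] at this
  set e : ℕ → MonoidAlgebra ℂ G := fun i => cj (v ^ i) e₀ with he
  have he0 : e 0 = e₀ := by simp [he, cj_one']
  have hel : ∀ i, LocCoeff M (e i) := fun i => locCoeff_cj _ he₀l
  have hei : ∀ i, InvBy R (e i) := fun i => invBy_cj_of_step hS he₀i i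
  have heei : ∀ i, e i * e i = e i := by
    intro i
    simp only [he]
    rw [← cj_mul, hee]
  have hye : ∀ i, y * e i = e i := fun i => hcjy' i e₀ hye₀
  have hey : ∀ i, e i * y = e i := fun i => hcjy'' i e₀ he₀y
  have hcjce : ∀ i k, cj (v ^ i) (e k) = e (i + k) := by
    intro i k
    simp only [he]
    rw [← cj_cj, pow_add]
  have hperiod : ∀ i, e (i + p) = e i := fun i => cj_periodic hS he₀i i
  have horth : ∀ i < p, ∀ j < p, i ≠ j → CoeffIn (pIdeal p M) (e i * e j) := by
    intro i hi j hj hij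
    rcases lt_or_gt_of_ne hij with h | h
    · have e1 : e i * e j = cj (v ^ i) (e₀ * e (j - i)) := by
        rw [cj_mul, hcjce, Nat.add_sub_cancel' h.le]
      rw [e1]
      exact coeffIn_cj _ (hmain _ (by omega) (by omega))
    · have e1 : e i * e j = cj (v ^ i) (e₀ * e (p + j - i)) := by
        rw [cj_mul, hcjce]
        have : i + (p + j - i) = j + p := by omega
        rw [this, hperiod]
      rw [e1]
      exact coeffIn_cj _ (hmain _ (by omega) (by omega))
  set g : MonoidAlgebra ℂ G := ∑ i ∈ Finset.range p, e i with hg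
  have hgl : LocCoeff M g := locCoeff_sum _ _ fun i _ => hel i
  have hgR : InvBy R g := invBy_sum _ _ fun i _ => hei i
  have hvg : cj v g = g := by
    rw [hg, cj_sum]
    have e1 : ∀ i, cj v (e i) = e (i + 1) := by
      intro i
      have := hcjce 1 i
      rw [pow_one] at this
      rw [this, add_comm]
    simp only [e1]
    have e2 := Finset.sum_range_succ e p
    have e3 := Finset.sum_range_succ' e p
    rw [e2] at e3
    have e4 : e p = e 0 := by simpa using hperiod 0
    rw [e4] at e3
    exact (add_right_cancel e3).symm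
  have hvgi : ∀ j : ℕ, cj (v ^ j) g = g := by
    intro j
    induction j with
    | zero => simp [cj_one']
    | succ j ih => rw [pow_succ, cj_cj, hvg, ih]
  have hgi : InvBy Q g := by
    apply invBy_of_cj_eq
    intro u hu
    obtain ⟨j, -, r, hr, rfl⟩ := hS.gen u hu
    rw [cj_cj, cj_eq_of_invBy hgR hr, hvgi]
  have hyg : y * g = g := by
    rw [hg, Finset.mul_sum]
    exact Finset.sum_congr rfl fun i _ => hye i
  have hgy : g * y = g := by
    rw [hg, Finset.sum_mul]
    exact Finset.sum_congr rfl fun i _ => hey i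
  have heg : ∀ k < p, CoeffIn (pIdeal p M) (e k * g - e k) := by
    intro k hk
    have hmem : k ∈ Finset.range p := Finset.mem_range.mpr hk
    rw [hg, Finset.mul_sum, ← Finset.add_sum_erase _ _ hmem, heei, add_sub_cancel_left]
    apply coeffIn_sum_of
    intro j hj
    have hj' := Finset.mem_erase.mp hj
    exact horth k hk j (Finset.mem_range.mp hj'.2) (Ne.symm hj'.1)
  have hgg : CoeffIn (pIdeal p M) (g * g - g) := by
    have e1 : g * g - g = ∑ k ∈ Finset.range p, (e k * g - e k) := by
      rw [Finset.sum_sub_distrib, ← Finset.sum_mul]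
    rw [e1]
    exact coeffIn_sum_of _ _ fun k hk => heg k (Finset.mem_range.mp hk)
  rcases hy.cornerUnit_or hgl hgi hyg hgy (hyl.sub hgl) (hy.inv.sub hgi)
    (by rw [mul_sub, hyy, hyg]) (by rw [sub_mul, hyy, hgy]) (by abel) with hu | hu
  · obtain ⟨h, hl', hi', hhy, hyh, h1, h2⟩ := hu
    set f : ℕ → MonoidAlgebra ℂ G := fun i => h * e i with hf
    have hfl : ∀ i, LocCoeff M (f i) := fun i => hl'.mul (hel i)
    have hfe : ∀ i, f i * e i = f i := fun i => by
      simp only [hf]
      rw [mul_assoc, heei]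
    have hfy : ∀ i, f i * y = f i := fun i => by
      simp only [hf]
      rw [mul_assoc, hey]
    have hfsum : ∑ i ∈ Finset.range p, f i = y := by
      simp only [hf]
      rw [← Finset.mul_sum, ← hg, h2]
    have hw : ∀ j < p, ∀ i < p, f j * f i - (if i = j then f j else 0) = 0 := by
      intro j hj
      apply eq_zero_of_orth (p := p) hMp (e := e)
      · intro i _
        refine (hfl j |>.mul (hfl i)).sub ?_
        split_ifs
        · exact hfl j
        · exact locCoeff_zero
      · intro i _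
        by_cases hij : i = j
        · subst hij
          simp only [if_true]
          rw [sub_mul, mul_assoc, hfe]
        · simp only [if_neg hij]
          rw [sub_mul, mul_assoc, hfe]
          simp
      · rw [Finset.sum_sub_distrib, ← Finset.mul_sum, hfsum, hfy, Finset.sum_ite_eq' , if_pos (Finset.mem_range.mpr hj),
          sub_self]
      · exact horth
    have hff : ∀ j < p, ∀ i < p, i ≠ j → f j * f i = 0 := by
      intro j hj i hi hij
      have := hw j hj i hi
      rwa [if_neg hij, sub_zero] at this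
    have hfff : ∀ j < p, f j * f j = f j := by
      intro j hj
      have := hw j hj j hj
      rw [if_pos rfl, sub_eq_zero] at this
      exact this
    have hcjf : ∀ i, cj (v ^ i) (h * e₀) = f i := by
      intro i
      rw [cj_mul, cj_eq_of_invBy hi' (hS.pow_mem i)]
    refine ⟨h * e₀, hl'.mul he₀l, (hi'.mono hS.le).mul he₀i, ?_, ?_, ?_⟩
    · have h0 := hfff 0 hp0
      simp only [hf, he0] at h0
      exact h0
    · simp only [hcjf]
      exact hfsum
    · intro i hi j hj hij
      rw [hcjf, hcjf]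
      exact hff i hi j hj (Ne.symm hij)
  · exfalso
    obtain ⟨h, hl', -, -, -, h1, -⟩ := hu
    have hgp : CoeffIn (pIdeal p M) g := by
      have e1 : g = (g * y - g * g) * h := by
        rw [← mul_sub, mul_assoc, h1, hgy]
      rw [e1, hgy]
      have := (hgg.neg).mul_right (coeffIn_top_iff.mpr hl')
      rwa [neg_sub] at this
    apply hne
    apply eq_zero_of_idem_of_coeffIn_p hMp hee
    have h5 := heg 0 hp0
    rw [he0] at h5
    have h6 := CoeffIn.mul_left (coeffIn_top_iff.mpr he₀l) hgp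
    have h7 := h6.sub h5
    rwa [sub_sub_cancel] at h7

/-- **The Artin-Schreier form of Green's argument.**  Let `y` be primitive in the `Q`-invariant lattice,
`R` normal of index `p` in `Q`.  If `y` is a relative trace from `R` of an element of its corner, then
`y` is the sum of the `p` conjugates of an idempotent of the `R`-invariant lattice, and these are
orthogonal. -/
theorem green_split (hMp : IsPModular p M) {Q R : Subgroup G} {v : G} (hS : IsStep p Q R v)
    {y : MonoidAlgebra ℂ G} (hy : IsPrimIdem M Q y) {a : MonoidAlgebra ℂ G} (ha : LocCoeff M a)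
    (hai : InvBy R a) (hya : y * a = a) (hay : a * y = a)
    (hsum : ∑ i ∈ Finset.range p, cj (v ^ i) a = y) :
    ∃ z : MonoidAlgebra ℂ G, LocCoeff M z ∧ InvBy R z ∧ z * z = z ∧
      ∑ i ∈ Finset.range p, cj (v ^ i) z = y ∧
      ∀ i < p, ∀ j < p, i ≠ j → cj (v ^ i) z * cj (v ^ j) z = 0 := by
  classical
  obtain ⟨t, htl, hti, hcomm, hit⟩ := exists_artin hS hy ha hai hya hay hsum
  have hyy := hy.idem
  have hyl := hy.loc
  have hyR : InvBy R y := hy.inv.mono hS.le
  obtain ⟨q, s₁, l, hs, hee, hne, hann⟩ := exists_spectral_idem hyy hy.ne htl hcomm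
  have he₀l : LocCoeff M (aeval t q * y) := (locCoeff_aeval htl q).mul hyl
  have he₀i : InvBy R (aeval t q * y) := (invBy_aeval hti q).mul hyR
  have hye₀ : y * (aeval t q * y) = aeval t q * y := by
    rw [← mul_assoc, (commute_aeval hcomm q).eq, mul_assoc, hyy]
  have he₀y : (aeval t q * y) * y = aeval t q * y := by rw [mul_assoc, hyy]
  refine exists_split_of_orth hMp hS hy he₀l he₀i hee hne hye₀ he₀y ?_
  intro i hi0 hip
  have hcjy : cj (v ^ i) y = y := cj_eq_of_invBy hy.inv (hS.pow_mem i)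
  have hann2 : aeval (cj (v ^ i) t) (lin s₁) * cj (v ^ i) (aeval t q * y) = 0 := by
    have := congrArg (cj (v ^ i)) hann
    rwa [cj_mul, cj_aeval, cj_zero] at this
  have hyE : y * cj (v ^ i) (aeval t q * y) = cj (v ^ i) (aeval t q * y) := by
    have := congrArg (cj (v ^ i)) hye₀
    rwa [cj_mul, hcjy] at this
  exact coeffIn_spectral_mul hMp hyy hcomm htl hyl hs hann hi0 hip (locCoeff_cj _ htl) (hit i)
    (locCoeff_cj _ he₀l) hyE hann2

end Green

end Cfsg.Agent.Lib.Blocks.Nilp
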