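/-
Idempotents modulo the local ideal: lifting, traces and the section formula.
-/
import Mathlib
import Cfsg.Agent.Lib.Blocks.NilpExact
import Cfsg.Agent.Lib.Blocks.NilpBij
import Cfsg.Agent.Lib.Blocks.StarB

set_option autoImplicit false
set_option linter.style.haveILetI false

namespace Cfsg.Agent.Lib.Blocks.AbFree

open Cfsg Cfsg.Agent.Lib.Blocks.Local Cfsg.Agent.Lib.Blocks.Central Cfsg.Agent.Lib.Blocks.Osima
open Cfsg.Agent.Lib.Blocks.Covering Cfsg.Agent.Lib.Blocks.BlockHom Cfsg.Agent.Lib.Blocks.Pairs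
open Cfsg.Agent.Lib.Blocks.Twisted Cfsg.Agent.Lib.Blocks.Necklace Cfsg.Agent.Lib.Blocks.Nilp
open Polynomial

universe u

section Idem

variable {G : Type u} [Group G] [Fintype G] {M : Ideal AlgInt} [hM : M.IsPrime]

/-- Polynomials of an idempotent modulo the ideal. -/
lemma aeval_eqI_of_idem {τ : MonoidAlgebra ℂ G} (hl : LocCoeff M τ) (h : EqI M (τ * τ) τ)
    (q : (localRing M)[X]) :
    EqI M (aeval τ q) (algebraMap (localRing M) (MonoidAlgebra ℂ G) (q.eval 1) * τ +
      algebraMap (localRing M) (MonoidAlgebra ℂ G) (q.eval 0) * (1 - τ)) := by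
  have hpow : ∀ k : ℕ, EqI M (τ ^ (k + 1)) τ := by
    intro k
    induction k with
    | zero => simpa using EqI.refl τ
    | succ k ih =>
      have e1 : τ ^ (k + 1 + 1) - τ = τ ^ (k + 1) * τ - τ := by rw [pow_succ]
      have h2 : EqI M (τ ^ (k + 1) * τ) (τ * τ) := ih.mul_right hl
      have := h2.trans h
      rwa [← pow_succ] at this
  induction q using Polynomial.induction_on' with
  | add a b ha hb =>
    have := ha.add hb
    rw [map_add, eval_add, eval_add, map_add, map_add]
    convert this using 1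
    noncomm_ring
  | monomial n r =>
    rw [aeval_monomial]
    cases n with
    | zero =>
      simp only [pow_zero, mul_one, eval_monomial, one_pow, zero_pow, ne_eq]
      have e : algebraMap (localRing M) (MonoidAlgebra ℂ G) r * τ +
          algebraMap (localRing M) (MonoidAlgebra ℂ G) r * (1 - τ) =
          algebraMap (localRing M) (MonoidAlgebra ℂ G) r := by
        rw [← mul_add]
        simp
      rw [e]
      exact EqI.refl _
    | succ k =>
      have e0 : (monomial (k + 1) r).eval (0 : localRing M) = 0 := by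
        simp [eval_monomial]
      have e1 : (monomial (k + 1) r).eval (1 : localRing M) = r := by
        simp [eval_monomial]
      rw [e0, e1, map_zero, zero_mul, add_zero]
      exact (hpow k).mul_left (locCoeff_algebraMap r)

/-- Lifting an idempotent modulo the local ideal, by a polynomial. -/
theorem exists_idem {τ : MonoidAlgebra ℂ G} (hl : LocCoeff M τ) (h : EqI M (τ * τ) τ) :
    ∃ g : (localRing M)[X], (aeval τ g) * (aeval τ g) = aeval τ g ∧ EqI M (aeval τ g) τ := by
  classical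
  obtain ⟨s, hs⟩ := exists_spec hl
  set s' : Multiset (localRing M) := 0 ::ₘ 1 ::ₘ s with hs'def
  have hs' : aeval τ (lin s') = 0 := by
    have e : lin s' = (X - C 0) * ((X - C 1) * lin s) := by
      simp [lin, hs'def, Multiset.map_cons, Multiset.prod_cons]
    rw [e, map_mul, map_mul, hs, mul_zero, mul_zero]
  set Q : localRing M → Prop := fun r => r - 1 ∈ localIdeal M with hQ
  have hone : (1 : localRing M) ∉ localIdeal M :=
    (Ideal.ne_top_iff_one _).mp (Ideal.IsPrime.ne_top inferInstance)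
  have hunit : ∀ r ∈ s'.filter Q, ∀ t ∈ s'.filter (fun r => ¬ Q r), IsUnit (r - t) := by
    intro r hr t ht
    rw [Multiset.mem_filter] at hr ht
    rw [isUnit_iff_not_mem]
    intro h'
    apply ht.2
    have e : t - 1 = (r - 1) - (r - t) := by ring
    show t - 1 ∈ localIdeal M
    rw [e]
    exact (localIdeal M).sub_mem hr.2 h'
  obtain ⟨U, V, hUV⟩ := isCoprime_lin _ _ hunit
  set f₁ := lin (s'.filter Q) with hf₁
  set f₂ := lin (s'.filter (fun r => ¬ Q r)) with hf₂
  have hprod : f₁ * f₂ = lin s' := lin_filter_mul s' Q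
  have h1mem : (1 : localRing M) ∈ s'.filter Q := by
    rw [Multiset.mem_filter]
    refine ⟨by simp [hs'def], ?_⟩
    show (1 : localRing M) - 1 ∈ localIdeal M
    simp
  have h0mem : (0 : localRing M) ∈ s'.filter (fun r => ¬ Q r) := by
    rw [Multiset.mem_filter]
    refine ⟨by simp [hs'def], ?_⟩
    intro h'
    apply hone
    have h2 : (0 : localRing M) - 1 ∈ localIdeal M := h'
    have h3 := (localIdeal M).neg_mem h2
    simpa using h3
  have ev1 : f₁.eval 1 = 0 := by
    rw [hf₁, lin, eval_multiset_prod, Multiset.map_map]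
    apply Multiset.prod_eq_zero
    rw [Multiset.mem_map]
    exact ⟨1, h1mem, by simp⟩
  have ev0 : f₂.eval 0 = 0 := by
    rw [hf₂, lin, eval_multiset_prod, Multiset.map_map]
    apply Multiset.prod_eq_zero
    rw [Multiset.mem_map]
    exact ⟨0, h0mem, by simp⟩
  refine ⟨V * f₂, ?_, ?_⟩
  · have e : aeval τ (V * f₂) * aeval τ (U * f₁) = 0 := by
      rw [← map_mul]
      have : V * f₂ * (U * f₁) = (V * U) * lin s' := by rw [← hprod]; ring
      rw [this, map_mul, hs', mul_zero]
    have e2 : aeval τ (V * f₂) = 1 - aeval τ (U * f₁) := by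
      have : aeval τ (U * f₁ + V * f₂) = 1 := by rw [hUV, map_one]
      rw [map_add] at this
      rw [← this]
      abel
    calc aeval τ (V * f₂) * aeval τ (V * f₂)
        = aeval τ (V * f₂) * (1 - aeval τ (U * f₁)) := by rw [← e2]
      _ = aeval τ (V * f₂) := by rw [mul_sub, mul_one, e, sub_zero]
  · have h3 := aeval_eqI_of_idem hl h (V * f₂)
    have e0 : (V * f₂).eval 0 = 0 := by rw [eval_mul, ev0, mul_zero]
    have e1 : (V * f₂).eval 1 = 1 := by
      have : (U * f₁ + V * f₂).eval (1 : localRing M) = 1 := by rw [hUV, eval_one]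
      rw [eval_add, eval_mul, ev1, mul_zero, zero_add] at this
      exact this
    rw [e0, e1, map_zero, zero_mul, add_zero, map_one, one_mul] at h3
    exact h3

variable {p : ℕ} [hp : Fact p.Prime]

/-- Approximating an idempotent by `p`-power powers of a commuting congruent element. -/
theorem exists_pow_sub_small {a W : MonoidAlgebra ℂ G} (ha : LocCoeff M a) (hW : LocCoeff M W)
    (hWW : W * W = W) (hc : Commute a W) (h : EqI M a W) (n : ℕ) :
    ∃ j₀ : ℕ, ∀ j, j₀ ≤ j → CoeffIn (pIdeal p M ^ n) (a ^ (p ^ j) - W) := by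
  classical
  have hW1 : IsIdempotentElem W := hWW
  choose c hc₁ hc₂ using h
  set J : Ideal (localRing M) := Ideal.span (Set.range c) ⊔ pIdeal p M with hJ
  have hJrad : J ≤ (pIdeal p M).radical := by
    refine sup_le ?_ (Ideal.le_radical)
    refine le_trans ?_ (localIdeal_le_radical (p := p))
    rw [Ideal.span_le]
    rintro _ ⟨g, rfl⟩
    exact hc₁ g
  have hJfg : J.FG := by
    apply Submodule.FG.sup
    · exact ⟨(Set.finite_range c).toFinset, by simp⟩
    · exact ⟨{((p : localRing M))}, by simp [pIdeal]⟩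
  obtain ⟨t, ht⟩ := Ideal.exists_pow_le_of_le_radical_of_fg hJrad hJfg
  have hpJ : pIdeal p M ≤ J := le_sup_right
  have hx0 : CoeffIn J (a - W) := fun g =>
    ⟨c g, Ideal.mem_sup_left (Ideal.subset_span ⟨g, rfl⟩), hc₂ g⟩
  have hstep : ∀ j : ℕ, CoeffIn (J ^ (j + 1)) (a ^ (p ^ j) - W) := by
    intro j
    induction j with
    | zero => simpa using hx0
    | succ j ih =>
      set b := a ^ (p ^ j) with hb
      have hbl : LocCoeff M b := ha.pow _
      have hcb : Commute b W := hc.pow_left _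
      have hbJ : CoeffIn J (b - W) := ih.mono (Ideal.pow_le_self (by omega))
      have e : a ^ (p ^ (j + 1)) = b ^ p := by rw [hb, ← pow_mul, pow_succ]
      have hp0 : p ≠ 0 := hp.out.ne_zero
      have eW : W ^ p = W := hW1.pow_eq hp0
      set S : MonoidAlgebra ℂ G := ∑ i ∈ Finset.range p, b ^ i * W ^ (p - 1 - i) with hS
      have e2 : b ^ p - W = S * (b - W) := by
        have := hcb.geom_sum₂_mul p
        rw [eW] at this
        exact this.symm
      have hSJ : CoeffIn J S := by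
        have e3 : S = ∑ i ∈ Finset.range p, (b ^ i - W ^ i) * W ^ (p - 1 - i) +
            (p : MonoidAlgebra ℂ G) * W ^ (p - 1) := by
          have e4 : ∀ i ∈ Finset.range p, b ^ i * W ^ (p - 1 - i) =
              (b ^ i - W ^ i) * W ^ (p - 1 - i) + W ^ (p - 1) := by
            intro i hi
            have hi' : i < p := Finset.mem_range.mp hi
            rw [sub_mul, ← pow_add, Nat.add_sub_cancel' (by omega : i ≤ p - 1)]
            abel
          rw [hS, Finset.sum_congr rfl e4, Finset.sum_add_distrib, Finset.sum_const, Finset.card_range,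
            nsmul_eq_mul]
        rw [e3]
        refine CoeffIn.add ?_ (((coeffIn_p_mul (hW.pow _)).mono hpJ))
        apply coeffIn_sum_of
        intro i _
        exact (coeffIn_pow_sub hbl hW hbJ i).mul_right (coeffIn_top_iff.mpr (hW.pow _))
      rw [e, e2, pow_succ (J) (j + 1), mul_comm (J ^ (j + 1))]
      exact hSJ.mul ih
  refine ⟨t * n, fun j hj => ?_⟩
  refine (hstep j).mono ?_
  calc J ^ (j + 1) ≤ J ^ (t * n) := Ideal.pow_le_pow_right (by omega)
    _ = (J ^ t) ^ n := by rw [pow_mul]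
    _ ≤ (pIdeal p M) ^ n := Ideal.pow_right_mono ht n

/-- Pairing divisible elements with local functions. -/
lemma exists_sum_eq_pow_mul {n : ℕ} {u : MonoidAlgebra ℂ G} (h : CoeffIn (pIdeal p M ^ n) u)
    (f : G → ℂ) (hf : ∀ c, MemLocalRing M (f c)) :
    ∃ r ∈ localRing M, ∑ c, u.coeff c * f c = (p : ℂ) ^ n * r := by
  have h6' : CoeffIn (Ideal.span {((p : localRing M) ^ n : localRing M)}) u := by
    rw [← Ideal.span_singleton_pow]
    exact h
  have h7 : ∀ g, ∃ d : localRing M, u.coeff g = (p : ℂ) ^ n * d := by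
    intro g
    obtain ⟨c, hc, hc'⟩ := h6' g
    rw [Ideal.mem_span_singleton'] at hc
    obtain ⟨d, rfl⟩ := hc
    refine ⟨d, ?_⟩
    rw [← hc']
    push_cast
    ring
  choose d hd using h7
  refine ⟨∑ g, (d g : ℂ) * f g, (localRing M).sum_mem fun g _ => memLocalRing_mul (d g).2 (hf g), ?_⟩
  rw [Finset.mul_sum]
  refine Finset.sum_congr rfl fun g _ => ?_
  rw [hd, mul_assoc]

end Idem

section Avron

/-- The odd powers of a difference of idempotents have a fixed trace. -/
theorem trace_idem_sub {A : Type*} [Ring A] {W Z : A} (hW : W * W = W) (hZ : Z * Z = Z) (T : A →+ ℂ)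
    (hT : ∀ a b, T (a * b) = T (b * a)) (k : ℕ) : T ((W - Z) ^ (2 * k + 1)) = T W - T Z := by
  set D := (W - Z) * (W - Z) with hD
  have hWD : W * D = W - W * Z * W := by
    rw [hD]
    have e : W * ((W - Z) * (W - Z)) = (W * W) * W - (W * W) * Z - W * Z * W + W * Z * Z := by noncomm_ring
    rw [e, hW, hW, mul_assoc W Z Z, hZ]
    abel
  have hDW : D * W = W - W * Z * W := by
    rw [hD]
    have e : ((W - Z) * (W - Z)) * W = W * (W * W) - W * Z * W - Z * (W * W) + Z * Z * W := by noncomm_ring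
    rw [e, hW, hW, hZ]
    abel
  have hZD : Z * D = Z - Z * W * Z := by
    rw [hD]
    have e : Z * ((W - Z) * (W - Z)) = Z * (W * W) - Z * W * Z - (Z * Z) * W + (Z * Z) * Z := by noncomm_ring
    rw [e, hW, hZ, hZ]
    abel
  have hDZ : D * Z = Z - Z * W * Z := by
    rw [hD]
    have e : ((W - Z) * (W - Z)) * Z = W * W * Z - W * (Z * Z) - Z * W * Z + Z * (Z * Z) := by noncomm_ring
    rw [e, hW, hZ, hZ]
    abel
  have hcW : ∀ k : ℕ, W * D ^ k = D ^ k * W := fun k => ((show Commute W D from hWD.trans hDW.symm).pow_right k).eq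
  have hcZ : ∀ k : ℕ, Z * D ^ k = D ^ k * Z := fun k => ((show Commute Z D from hZD.trans hDZ.symm).pow_right k).eq
  have hstep : ∀ k : ℕ, T (W * D ^ (k + 1)) - T (Z * D ^ (k + 1)) = T (W * D ^ k) - T (Z * D ^ k) := by
    intro k
    have e1 : W * D ^ (k + 1) = W * D ^ k - W * Z * (W * D ^ k) := by
      rw [pow_succ', ← mul_assoc, hWD, sub_mul, mul_assoc (W * Z) W]
    have e2 : Z * D ^ (k + 1) = Z * D ^ k - Z * W * (Z * D ^ k) := by
      rw [pow_succ', ← mul_assoc, hZD, sub_mul, mul_assoc (Z * W) Z]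
    have e3 : T (W * Z * (W * D ^ k)) = T (Z * (W * D ^ k)) := by
      rw [mul_assoc W Z, hT W]
      congr 1
      rw [mul_assoc Z, mul_assoc W, ← hcW k, ← mul_assoc W, hW]
    have e4 : T (Z * W * (Z * D ^ k)) = T (W * (Z * D ^ k)) := by
      rw [mul_assoc Z W, hT Z]
      congr 1
      rw [mul_assoc W, mul_assoc Z, ← hcZ k, ← mul_assoc Z, hZ]
    have e5 : T (W * (Z * D ^ k)) = T (Z * (W * D ^ k)) := by
      rw [hT W, mul_assoc, ← hcW k]
    rw [e1, e2, map_sub, map_sub, e3, e4, e5]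
    ring
  have hall : ∀ k : ℕ, T (W * D ^ k) - T (Z * D ^ k) = T W - T Z := by
    intro k
    induction k with
    | zero => simp
    | succ k ih => rw [hstep, ih]
  rw [← hall k, pow_succ', pow_mul, sq, ← hD, sub_mul, map_sub]

end Avron

section TraceIdem

variable {C : Type*} [Group C] [Fintype C] {M : Ideal AlgInt} [hM : M.IsPrime] {p : ℕ} [hp : Fact p.Prime]

/-- A class function pairing, as an additive map. -/
noncomputable def pairT (ζ : C → ℂ) : MonoidAlgebra ℂ C →+ ℂ where
  toFun a := ∑ c, a.coeff c * ζ c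
  map_zero' := by simp
  map_add' a b := by
    simp only [MonoidAlgebra.coeff_add, Finsupp.add_apply, add_mul, Finset.sum_add_distrib]

lemma pairT_apply (ζ : C → ℂ) (a : MonoidAlgebra ℂ C) : pairT ζ a = ∑ c, a.coeff c * ζ c := rfl

lemma pairT_mul_expand (ζ : C → ℂ) (a b : MonoidAlgebra ℂ C) :
    pairT ζ (a * b) = ∑ x, ∑ y, a.coeff x * b.coeff y * ζ (x * y) := by
  rw [pairT_apply]
  simp only [coeff_mul_eq_sum, Finset.sum_mul]
  rw [Finset.sum_comm]
  refine Finset.sum_congr rfl fun x _ => ?_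
  refine Fintype.sum_equiv (Equiv.mulLeft x⁻¹) _ _ fun g => ?_
  simp

lemma pairT_mul_comm {ζ : C → ℂ} (hζ : IsClassFunction C ζ) (a b : MonoidAlgebra ℂ C) :
    pairT ζ (a * b) = pairT ζ (b * a) := by
  rw [pairT_mul_expand, pairT_mul_expand, Finset.sum_comm]
  refine Finset.sum_congr rfl fun x _ => Finset.sum_congr rfl fun y _ => ?_
  have := hζ (y * x) x
  have e : x * (y * x) * x⁻¹ = x * y := by group
  rw [e] at this
  rw [this]
  ring

/-- The trace of an idempotent depends only on its class modulo the local ideal. -/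
theorem pairT_eq_of_eqI (hMp : IsPModular p M) {W Z : MonoidAlgebra ℂ C} (hWW : W * W = W) (hZZ : Z * Z = Z)
    (hWl : LocCoeff M W) (hZl : LocCoeff M Z) (h : EqI M W Z) {ζ : C → ℂ} (hζl : ∀ c, MemLocalRing M (ζ c))
    (hζ : IsClassFunction C ζ) : pairT ζ W = pairT ζ Z := by
  rw [← sub_eq_zero]
  have hloc : MemLocalRing M (pairT ζ W - pairT ζ Z) := by
    rw [pairT_apply, pairT_apply]
    exact memLocalRing_sub ((localRing M).sum_mem fun g _ => memLocalRing_mul (hWl g) (hζl _))
      ((localRing M).sum_mem fun g _ => memLocalRing_mul (hZl g) (hζl _))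
  apply eq_zero_of_forall_dvd_pow hMp hloc
  intro n
  have hp0 : (p : ℂ) ≠ 0 := by exact_mod_cast hMp.1.ne_zero
  obtain ⟨t, ht, hpow⟩ := exists_pow_coeffIn_pIdeal (p := p) h
  have h1 := trace_idem_sub hWW hZZ (pairT ζ) (pairT_mul_comm hζ) (t * n)
  have h2 : CoeffIn (pIdeal p M ^ n) ((W - Z) ^ (2 * (t * n) + 1)) := by
    have e : (W - Z) ^ (2 * (t * n) + 1) = ((W - Z) ^ t) ^ n * (W - Z) ^ ((t * n) + 1) := by
      rw [← pow_mul, ← pow_add]
      congr 1
      ring
    rw [e]
    exact (hpow.pow n).mul_right (coeffIn_top_iff.mpr ((hWl.sub hZl).pow _))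
  obtain ⟨r, hr, hrE⟩ := exists_sum_eq_pow_mul h2 ζ hζl
  rw [← pairT_apply, h1] at hrE
  rw [hrE]
  have : (p : ℂ) ^ n * r / (p : ℂ) ^ n = r := by
    field_simp
  rw [this]
  exact hr

/-- High `p`-power powers of an element congruent to an idempotent have the trace of that idempotent,
up to high powers of `p`. -/
theorem exists_pow_trace (hMp : IsPModular p M) {b Z : MonoidAlgebra ℂ C} (hbl : LocCoeff M b) (hZl : LocCoeff M Z)
    (hZZ : Z * Z = Z) (h : EqI M Z b) {ζ : C → ℂ} (hζl : ∀ c, MemLocalRing M (ζ c)) (hζ : IsClassFunction C ζ)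
    (n : ℕ) : ∃ j₀ : ℕ, ∀ j, j₀ ≤ j → ∃ r ∈ localRing M, pairT ζ (b ^ (p ^ j)) - pairT ζ Z = (p : ℂ) ^ n * r := by
  have hbb : EqI M (b * b) b := by
    have h1 : EqI M (Z * Z) (b * b) := h.mul h hbl hZl
    rw [hZZ] at h1
    exact h1.symm.trans h
  obtain ⟨g, hg1, hg2⟩ := exists_idem hbl hbb
  set Z' := aeval b g with hZ'
  have hZ'l : LocCoeff M Z' := locCoeff_aeval hbl g
  have hc : Commute b Z' := commute_aeval (Commute.refl b) g
  obtain ⟨j₀, hj₀⟩ := exists_pow_sub_small (p := p) hbl hZ'l hg1 hc hg2.symm n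
  have he : pairT ζ Z' = pairT ζ Z := pairT_eq_of_eqI hMp hg1 hZZ hZ'l hZl (hg2.trans h.symm) hζl hζ
  refine ⟨j₀, fun j hj => ?_⟩
  obtain ⟨r, hr, hrE⟩ := exists_sum_eq_pow_mul (hj₀ j hj) ζ hζl
  refine ⟨r, hr, ?_⟩
  rw [← he, ← hrE, ← map_sub, pairT_apply]

end TraceIdem

section Sect

variable {G : Type u} [Group G] [Fintype G] {M : Ideal AlgInt} [hM : M.IsPrime] {p : ℕ} [hp : Fact p.Prime]

/-- **The section formula.**  Let `y` be an idempotent with local coefficients, `v`-invariant for a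
`p`-element `v`, whose truncation to `C = C_G(v)` lies in the block idempotent `E` modulo the local
ideal.  If the `E`-part of the class function `t` at `v` agrees on `p`-regular elements of `C` with
`a ζ`, and `Z` is an idempotent of `ℂ[C]` congruent to the truncation of `y`, then
`t(v y) = a ζ(Z)`. -/
theorem twTrace_eq_of_section (hMp : IsPModular p M) {v : G} {k : ℕ} (hv : v ^ (p ^ k) = 1)
    {y : MonoidAlgebra ℂ G} (hy : y * y = y) (hyl : LocCoeff M y) (hyv : IsInv v y)
    {t : G → ℂ} (htl : ∀ g, MemLocalRing M (t g)) (ht : IsClassFunction G t)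
    {E : MonoidAlgebra ℂ G} (hEE : E * E = E) (hEl : LocCoeff M E)
    (hEi : InvBy (Kz v) E)
    (hyE : CoeffIn (localIdeal M) (tr (Kz v) y * (1 - E)))
    [Fintype (Kz v)]
    {ζ : Kz v → ℂ} (hζl : ∀ c, MemLocalRing M (ζ c)) (hζ : IsClassFunction (Kz v) ζ)
    {a : ℂ} (ha : MemLocalRing M a)
    (hsec : ∀ c : Kz v, ¬ p ∣ orderOf c → twTrace t (v * c) E = a * ζ c)
    {Z : MonoidAlgebra ℂ (Kz v)} (hZZ : Z * Z = Z) (hZl : LocCoeff M Z) (hZy : EqI M Z (res (Kz v) y)) :
    twTrace t v y = a * ∑ c : Kz v, Z.coeff c * ζ c := by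
  classical
  have hloc0 : MemLocalRing M (twTrace t v y) :=
    (localRing M).sum_mem fun g _ => memLocalRing_mul (hyl g) (htl _)
  have hloc1 : MemLocalRing M (a * ∑ c : Kz v, Z.coeff c * ζ c) :=
    memLocalRing_mul ha ((localRing M).sum_mem fun g _ => memLocalRing_mul (hZl g) (hζl _))
  have hloc : MemLocalRing M (twTrace t v y - a * ∑ c : Kz v, Z.coeff c * ζ c) := memLocalRing_sub hloc0 hloc1
  have hmemC : ∀ x : G, x ∈ Kz v → x * v = v * x := fun x hx => mem_centralizer_zpowers_iff.mp hx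
  rw [← sub_eq_zero]
  apply eq_zero_of_forall_dvd_pow hMp hloc
  intro n
  have hp0 : (p : ℂ) ≠ 0 := by exact_mod_cast hMp.1.ne_zero
  obtain ⟨t0, ht0, hpow⟩ := exists_pow_coeffIn_pIdeal (p := p) hyE
  set b := res (Kz v) y with hb
  have hbl : LocCoeff M b := by
    intro g
    rw [hb, coeff_res]
    exact hyl _
  obtain ⟨j₀, hj₀⟩ := exists_pow_trace (p := p) hMp hbl hZl hZZ hZy hζl hζ n
  set e := (Nat.card (Kz v)).factorization p with he
  set m := j₀ + ((n + t0 * n) + e) with hm
  set N := p ^ m with hN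
  have hNpos : 0 < N := pow_pos hp.out.pos m
  have hmN : m < N := Nat.lt_pow_self hp.out.one_lt
  -- the necklace congruence
  have hpow1 : y ^ N = y := IsIdempotentElem.pow_eq hy hNpos.ne'
  obtain ⟨r1, hr1, hr1E⟩ := twisted_necklace (p := p) m (h := v) (z := v) (y := 1) (mul_one v) (Commute.one_right v) hv
    (by simpa using hp.out.one_lt.ne') (a := y) (t := t) (localRing M) hyl htl hyv ht
  rw [hpow1, trunc_eq_tr] at hr1E
  set τ := tr (Kz v) y with hτ
  have hτl : LocCoeff M τ := locCoeff_tr _ hyl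
  have hτs : SuppOn (Kz v) τ := suppOn_tr _ y
  have hτE : Commute τ E := commute_of_suppOn hτs hEi
  have h1E : (1 - E) * (1 - E) = 1 - E := by
    rw [mul_sub, sub_mul, sub_mul, one_mul, mul_one, one_mul, hEE]
    abel
  have hEE' : E * (1 - E) = 0 := by rw [mul_sub, mul_one, hEE, sub_self]
  have hE'E : (1 - E) * E = 0 := by rw [sub_mul, one_mul, hEE, sub_self]
  have hsplit : τ = τ * E + τ * (1 - E) := by rw [← mul_add]; simp
  have h12 : (τ * E) * (τ * (1 - E)) = 0 := by
    rw [mul_assoc, ← mul_assoc E, ← hτE.eq, mul_assoc, hEE', mul_zero, mul_zero]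
  have h21 : (τ * (1 - E)) * (τ * E) = 0 := by
    have hc' : Commute τ (1 - E) := (Commute.one_right τ).sub_right hτE
    rw [mul_assoc, ← mul_assoc (1 - E), ← hc'.eq, mul_assoc, hE'E, mul_zero, mul_zero]
  have hτpow : τ ^ N = (τ * E) ^ N + (τ * (1 - E)) ^ N := by
    conv_lhs => rw [hsplit]
    exact add_pow_of_orthogonal h12 h21 N hNpos
  rw [hτpow, twTrace_add] at hr1E
  -- the small part
  have hτ₂l : LocCoeff M (τ * (1 - E)) := hτl.mul (locCoeff_one.sub hEl)
  have hsmall : ∃ r2 ∈ localRing M, twTrace t v ((τ * (1 - E)) ^ N) = (p : ℂ) ^ n * r2 := by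
    have hle : t0 * n ≤ N := by
      have : t0 * n ≤ m := by omega
      omega
    have e1 : (τ * (1 - E)) ^ N = ((τ * (1 - E)) ^ t0) ^ n * (τ * (1 - E)) ^ (N - t0 * n) := by
      rw [← pow_mul, ← pow_add, Nat.add_sub_cancel' hle]
    have h6 : CoeffIn (pIdeal p M ^ n) ((τ * (1 - E)) ^ N) := by
      rw [e1]
      exact (hpow.pow n).mul_right (coeffIn_top_iff.mpr (hτ₂l.pow _))
    exact exists_sum_eq_pow_mul h6 (fun g => t (g * v)) (fun g => htl _)
  obtain ⟨r2, hr2, hr2E⟩ := hsmall
  -- the section part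
  have hbτ : push (Kz v) b = τ := by
    rw [hb, ← tr_eq_push]
  have hpowb : ∀ c : Kz v, (τ ^ N).coeff (c : G) = (b ^ N).coeff c := by
    intro c
    rw [← hbτ]
    have h1 : push (Kz v) b ^ N = push (Kz v) (b ^ N) := by
      unfold push
      rw [map_pow]
    rw [h1, coeff_push_coe]
  have hsec' : twTrace t v ((τ * E) ^ N) = ∑ c : Kz v, (b ^ N).coeff c * twTrace t (v * c) E := by
    have e1 : (τ * E) ^ N = τ ^ N * E := by
      rw [hτE.mul_pow, IsIdempotentElem.pow_eq hEE hNpos.ne']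
    rw [e1, twTrace_mul_eq_sum ht]
    have h2 : ∀ x ∉ Kz v, (τ ^ N).coeff x * twTrace t (v * x) E = 0 := by
      intro x hx
      rw [hτs.pow N x hx, zero_mul]
    rw [← Finset.sum_subset (Finset.subset_univ (Finset.univ.filter (· ∈ Kz v)))
      (fun x _ hx => h2 x (by simpa using hx))]
    symm
    refine Finset.sum_bij' (fun c _ => (c : G)) (fun x hx => ⟨x, (Finset.mem_filter.mp hx).2⟩)
      (fun c _ => Finset.mem_filter.mpr ⟨Finset.mem_univ _, c.2⟩) (fun _ _ => Finset.mem_univ _)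
      (fun _ _ => rfl) (fun _ _ => rfl) (fun c _ => ?_)
    rw [hpowb]
  have hϑl : ∀ c : Kz v, twTrace t (v * c) E ∈ localRing M := fun c =>
    (localRing M).sum_mem fun g _ => memLocalRing_mul (hEl g) (htl _)
  have hcl : ∀ c d : Kz v, twTrace t (v * ((d * c * d⁻¹ : Kz v) : G)) E = twTrace t (v * c) E := by
    intro c d
    simp only [twTrace]
    refine Fintype.sum_equiv (MulAut.conj (d⁻¹ : G)).toEquiv _ _ fun g => ?_
    simp only [MulEquiv.toEquiv_eq_coe, MulEquiv.coe_toEquiv, MulAut.conj_apply, inv_inv]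
    have hd := hEi g (d⁻¹ : G) ((Subgroup.centralizer _).inv_mem d.2)
    simp only [inv_inv] at hd
    rw [hd]
    congr 1
    have hdv : (d : G) * v = v * d := hmemC d d.2
    have h3 := ht (g * (v * ((d * c * d⁻¹ : Kz v) : G))) (d⁻¹ : G)
    rw [← h3]
    congr 1
    have hdv' : (d : G)⁻¹ * v = v * (d : G)⁻¹ := (Commute.inv_left (show Commute (d : G) v from hdv)).eq
    simp only [Subgroup.coe_mul, InvMemClass.coe_inv]
    calc (d : G)⁻¹ * (g * (v * ((d : G) * c * (d : G)⁻¹))) * (d : G)⁻¹⁻¹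
        = (d : G)⁻¹ * g * (v * ((d : G) * c)) := by group
      _ = (d : G)⁻¹ * g * (d : G) * (v * c) := by
          rw [← mul_assoc v, ← hdv]
          group
  have hdiff0 : ∀ c : Kz v, ¬ p ∣ orderOf c → twTrace t (v * c) E - a * ζ c = 0 := by
    intro c hc
    rw [hsec c hc, sub_self]
  have hN' : N = p ^ ((n + t0 * n - (t0 * n)) + (j₀ + t0 * n + e)) := by
    rw [hN, hm]
    congr 1
    omega
  have hsecdiff : ∃ r3 ∈ localRing M, ∑ c : Kz v, (b ^ N).coeff c * (twTrace t (v * c) E - a * ζ c) = (p : ℂ) ^ n * r3 := by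
    obtain ⟨r3, hr3, hr3E⟩ := sum_pow_mul_class_divisible (p := p) (localRing M) b hbl
      (fun c => twTrace t (v * c) E - a * ζ c)
      (fun c => memLocalRing_sub (hϑl c) (memLocalRing_mul ha (hζl c)))
      (fun c d => by
        show twTrace t (v * ((d * c * d⁻¹ : Kz v) : G)) E - a * ζ (d * c * d⁻¹) = _
        rw [hcl, hζ c d]) hdiff0 (j₀ + t0 * n + n)
    refine ⟨(p : ℂ) ^ (j₀ + t0 * n) * r3, memLocalRing_mul (memLocalRing_pow (memLocalRing_natCast p) _) hr3, ?_⟩
    have e2 : N = p ^ (j₀ + t0 * n + n + (Nat.card (Kz v)).factorization p) := by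
      rw [hN, hm, ← he]
      congr 1
      ring
    rw [e2]
    rw [hr3E]
    ring
  obtain ⟨r3, hr3, hr3E⟩ := hsecdiff
  obtain ⟨r4, hr4, hr4E⟩ := hj₀ m (by omega)
  rw [pairT_apply, pairT_apply] at hr4E
  have hsplitsec : twTrace t v ((τ * E) ^ N) = (p : ℂ) ^ n * r3 + a * ∑ c : Kz v, (b ^ N).coeff c * ζ c := by
    rw [hsec', ← hr3E, Finset.mul_sum, ← Finset.sum_add_distrib]
    refine Finset.sum_congr rfl fun c _ => ?_
    ring
  rw [hr2E, hsplitsec, sub_eq_iff_eq_add] at hr1E
  have hb4 : ∑ c : Kz v, (b ^ N).coeff c * ζ c = ∑ c : Kz v, Z.coeff c * ζ c + (p : ℂ) ^ n * r4 := by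
    rw [← hr4E]
    ring
  rw [hb4] at hr1E
  have hfinal : twTrace t v y - a * ∑ c : Kz v, Z.coeff c * ζ c =
      (p : ℂ) ^ n * ((p : ℂ) ^ (m + 1 - n) * r1 + r3 + a * r4 + r2) := by
    rw [hr1E]
    have e1 : (p : ℂ) ^ (m + 1) = (p : ℂ) ^ n * (p : ℂ) ^ (m + 1 - n) := by
      rw [← pow_add]
      congr 1
      omega
    rw [e1]
    ring
  rw [hfinal]
  have h5 : (p : ℂ) ^ n * ((p : ℂ) ^ (m + 1 - n) * r1 + r3 + a * r4 + r2) / (p : ℂ) ^ n =
      ((p : ℂ) ^ (m + 1 - n) * r1 + r3 + a * r4 + r2) := by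
    field_simp
  rw [h5]
  exact memLocalRing_add (memLocalRing_add (memLocalRing_add
    (memLocalRing_mul (memLocalRing_pow (memLocalRing_natCast p) _) hr1) hr3) (memLocalRing_mul ha hr4)) hr2

end Sect

end Cfsg.Agent.Lib.Blocks.AbFree
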