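/-
Nilpotent blocks: the canonical character, and its sections.
-/
import Mathlib
import Cfsg.Agent.Lib.Blocks.AbFree3
import Cfsg.Agent.Lib.Blocks.NilpFinal

set_option autoImplicit false
set_option linter.style.haveILetI false

namespace Cfsg.Agent.Lib.Blocks.AbFree

open Cfsg Cfsg.Agent.Lib.Blocks.Local Cfsg.Agent.Lib.Blocks.Central Cfsg.Agent.Lib.Blocks.Osima
open Cfsg.Agent.Lib.Blocks.Covering Cfsg.Agent.Lib.Blocks.BlockHom Cfsg.Agent.Lib.Blocks.Pairs
open Cfsg.Agent.Lib.Blocks.Twisted Cfsg.Agent.Lib.Blocks.Necklace Cfsg.Agent.Lib.Blocks.Nilp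
open Cfsg.Agent.Lib.Blocks.Regular Cfsg.Agent.Lib.Blocks.Sections Cfsg.Agent.Lib.Blocks.CycloSums
open Polynomial ComplexConjugate

universe u

section Setup

variable {G : Type u} [Group G] [Fintype G] {M : Ideal AlgInt} [hM : M.IsPrime] {p : ℕ} [hp : Fact p.Prime]

lemma tr_cj {K : Subgroup G} {x : G} (hx : x ∈ Subgroup.normalizer (K : Set G)) (a : MonoidAlgebra ℂ G) :
    tr K (cj x a) = cj x (tr K a) := by
  classical
  apply ext_coeff
  intro g
  have hiff : g ∈ K ↔ x⁻¹ * g * x ∈ K := by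
    have h := Subgroup.mem_normalizer_iff.mp ((Subgroup.normalizer (K : Set G)).inv_mem hx) g
    rwa [inv_inv] at h
  by_cases hg : g ∈ K
  · rw [coeff_tr_of_mem _ hg, coeff_cj, coeff_cj, coeff_tr_of_mem _ (hiff.mp hg)]
  · rw [coeff_tr_of_notMem _ hg, coeff_cj, coeff_tr_of_notMem _ (fun h => hg (hiff.mpr h))]

lemma invBy_cj_norm {H : Subgroup G} {s : G} (hs : s ∈ Subgroup.normalizer (H : Set G)) {a : MonoidAlgebra ℂ G}
    (ha : InvBy H a) : InvBy H (cj s a) := by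
  intro x u hu
  rw [coeff_cj, coeff_cj]
  have h1 := (Subgroup.mem_normalizer_iff.mp ((Subgroup.normalizer (H : Set G)).inv_mem hs) u).mp hu
  have h2 := ha (s⁻¹ * x * s) (s⁻¹ * u * s⁻¹⁻¹) h1
  rw [← h2]
  congr 1
  group

lemma isPrimIdem_cj {H : Subgroup G} {y : MonoidAlgebra ℂ G} (hy : IsPrimIdem M H y) {s : G}
    (hs : s ∈ Subgroup.normalizer (H : Set G)) : IsPrimIdem M H (cj s y) := by
  refine ⟨locCoeff_cj s hy.loc, invBy_cj_norm hs hy.inv, by rw [← cj_mul, hy.idem], ?_, ?_⟩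
  · intro h
    apply hy.ne
    apply cj_inj (x := s)
    rw [h, cj_zero]
  · intro w₁ w₂ hl₁ hi₁ hl₂ hi₂ h₁ h₂ h₁₂ h₂₁ hsum
    have hs' := (Subgroup.normalizer (H : Set G)).inv_mem hs
    have hc : ∀ w, Nilp.cj s (Nilp.cj s⁻¹ w) = w := by
      intro w
      rw [← cj_cj, mul_inv_cancel, cj_one']
    have hc0 : ∀ a b : MonoidAlgebra ℂ G, a * b = 0 → Nilp.cj s⁻¹ a * Nilp.cj s⁻¹ b = 0 := by
      intro a b h
      rw [← cj_mul, h, cj_zero]
    have := hy.prim (Nilp.cj s⁻¹ w₁) (Nilp.cj s⁻¹ w₂) (locCoeff_cj _ hl₁) (invBy_cj_norm hs' hi₁)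
      (locCoeff_cj _ hl₂) (invBy_cj_norm hs' hi₂) (by rw [← cj_mul, h₁]) (by rw [← cj_mul, h₂])
      (hc0 _ _ h₁₂) (hc0 _ _ h₂₁) (by
        apply cj_inj (x := s)
        rw [cj_add, hc, hc, hsum])
    rcases this with h | h
    · left
      rw [← hc w₁, h, cj_zero]
    · right
      rw [← hc w₂, h, cj_zero]

/-- The source data for a prescribed maximal pair. -/
theorem exists_setup' (hMp : IsPModular p M) {B : Set (IrrCharacter G)} {P : Subgroup G}
    {e : Set (IrrCharacter (Subgroup.centralizer (P : Set G)))} (hmax : IsMaximalBrauerPair p M B P e) :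
    ∃ (χ₀ : IrrCharacter G) (y : MonoidAlgebra ℂ G),
      χ₀ ∈ B ∧ KerZ P (χ₀ : G → ℂ) ∧ IsPrimIdem M P y ∧ ¬ MemLocalIdeal M (twTrace (χ₀ : G → ℂ) 1 y) ∧
      ¬ CoeffIn (localIdeal M) (tr (Subgroup.centralizer (P : Set G)) y) ∧
      CoeffIn (localIdeal M) (tr (Subgroup.centralizer (P : Set G)) y * (1 - EE (Subgroup.centralizer (P : Set G)) e)) := by
  classical
  have hP := isDefectGroup_of_maximal hMp hmax
  have hB := hmax.1.2.1
  obtain ⟨χ₀, y, e', hχ₀, hk, hy, hT, hne, hmax', h1⟩ := exists_setup hMp hB hP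
  obtain ⟨x, hx⟩ := exists_conj_subpairLE hMp hmax hmax'.1
  have hle := SubpairLE.le hx
  have hmapeq : P.map (MulAut.conj x).toMonoidHom = P := by
    apply Subgroup.eq_of_le_of_card_ge hle
    rw [Subgroup.card_map_of_injective (MulAut.conj x).injective]
  have hxN : x ∈ Subgroup.normalizer (P : Set G) := mem_normalizer_of_map_conj hmapeq
  have hcP : (Subgroup.centralizer (P : Set G)).map (MulAut.conj x).toMonoidHom = Subgroup.centralizer (P : Set G) :=
    map_conj_centralizer_gen x hmapeq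
  have hxC : x ∈ Subgroup.normalizer ((Subgroup.centralizer (P : Set G) : Subgroup G) : Set G) :=
    mem_normalizer_of_map_conj hcP
  have h2 := transport_pair x hmapeq e' (fun A a => SubpairLE p M A a P e) hx
  have he : conjB x (map_conj_centralizer_gen x hmapeq) e' = e :=
    eq_of_subpairLE hMp hmax.1.1 h2 Relation.ReflTransGen.refl
  refine ⟨χ₀, cj x y, hχ₀, hk, isPrimIdem_cj hy hxN, ?_, ?_, ?_⟩
  · have h3 := twTrace_conj (isClassFunction_of_irr χ₀.2) x 1 y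
    simp only [mul_one, mul_inv_cancel] at h3
    rw [h3]
    exact hT
  · rw [tr_cj hxC]
    intro h3
    apply hne
    have h4 := coeffIn_cj x⁻¹ h3
    rwa [← cj_cj, inv_mul_cancel, cj_one'] at h4
  · rw [tr_cj hxC, ← he, ← cj_EE_conjB]
    have h3 := coeffIn_cj x h1
    rwa [cj_mul, cj_sub, cj_one_alg] at h3

/-- The `p`-regular elements of the centralizer, as a sum over the subgroup. -/
lemma sum_regC_eq (v : G) [Fintype (Kz v)] (F : G → ℂ) :
    ∑ c ∈ regC p v, F c = ∑ g : Kz v, if ¬ p ∣ orderOf g then F g else 0 := by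
  classical
  rw [← Finset.sum_filter]
  symm
  refine Finset.sum_bij (fun g _ => (g : G)) ?_ ?_ ?_ ?_
  · intro g hg
    have hg' := (Finset.mem_filter.mp hg).2
    refine mem_regC.mpr ⟨g.2, ?_⟩
    rwa [Subgroup.orderOf_coe]
  · intro a _ b _ h
    exact Subtype.ext h
  · intro c hc
    obtain ⟨h3, h4⟩ := mem_regC.mp hc
    refine ⟨⟨c, h3⟩, Finset.mem_filter.mpr ⟨Finset.mem_univ _, ?_⟩, rfl⟩
    rw [← Subgroup.orderOf_coe]
    exact h4
  · intro g _
    rfl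

/-- The `p`-regular norm on the centralizer, as a sum over the subgroup. -/
lemma sum_reg_eq (v : G) [Fintype (Kz v)] (ξ η : Kz v → ℂ) :
    ∑ g : Kz v, reg p ξ g * conj (η g) =
      ∑ g : Kz v, if ¬ p ∣ orderOf g then ξ g * conj (η g) else 0 := by
  refine Finset.sum_congr rfl fun g _ => ?_
  by_cases hg : p ∣ orderOf g
  · rw [reg_of_dvd _ hg, if_neg (not_not.mpr hg), zero_mul]
  · rw [reg_of_not_dvd _ hg, if_pos hg]

/-- The norm in `BPConcl`, with the weight. -/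
lemma wt_mul_sum_reg (hMp : IsPModular p M) {B : Set (IrrCharacter G)} {P : Subgroup G}
    {e : Set (IrrCharacter (Subgroup.centralizer (P : Set G)))} (hmax : IsMaximalBrauerPair p M B P e)
    (hnil : IsNilpotentBlock p M B) {v : G} (hv : v ∈ P) [Fintype (Kz v)] {ξ₀ : IrrCharacter (Kz v)}
    (hn : ∀ D : Subgroup (Kz v), IsDefectGroup p M (eBlk M p P e v) D →
      (Nat.card D : ℂ) * ∑ g : Kz v, reg p (ξ₀ : Kz v → ℂ) g * conj ((ξ₀ : Kz v → ℂ) g) = (Nat.card (Kz v) : ℂ)) :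
    wt P v * ∑ g : Kz v, reg p (ξ₀ : Kz v → ℂ) g * conj ((ξ₀ : Kz v → ℂ) g) = 1 := by
  have hPe := hmax.1.1
  have hle := eBlk_spec hMp hPe hv
  have hD := isDefectGroup_centralizer_of_nilpotent hMp hmax hnil hle
  have hn' := hn _ hD
  rw [card_subgroupOf_Kz, card_Kz] at hn'
  rw [wt]
  have h5 : ((setZ v).card : ℂ) ≠ 0 := by exact_mod_cast (setZ_pos v).ne'
  field_simp
  rw [hn']

/-- **The canonical character.**  A nilpotent block has a character with central kernel and norm one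
whose sections are, up to units, the canonical characters of the local blocks. -/
theorem levelX (hMp : IsPModular p M) {B : Set (IrrCharacter G)} {P : Subgroup G}
    {e : Set (IrrCharacter (Subgroup.centralizer (P : Set G)))} (hmax : IsMaximalBrauerPair p M B P e)
    (hnil : IsNilpotentBlock p M B) :
    ∃ ξ : IrrCharacter G, ξ ∈ B ∧ KerZ P (ξ : G → ℂ) ∧ RR p P (ξ : G → ℂ) (ξ : G → ℂ) = 1 ∧
      ∀ v ∈ P, ∀ [Fintype (Kz v)] (ζ : IrrCharacter (Kz v)), ζ ∈ eBlk M p P e v →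
        wt P v * ∑ g : Kz v, reg p (ζ : Kz v → ℂ) g * conj ((ζ : Kz v → ℂ) g) = 1 →
        ∃ a ∈ rootRing (Fintype.card G), a * conj a = 1 ∧ ∀ c : Kz v, ¬ p ∣ orderOf c →
          twTrace (ξ : G → ℂ) (v * c) (Ev M p P e v) = a * (ζ : Kz v → ℂ) c := by
  classical
  obtain ⟨χ₀, y, hχ₀, hk, hy, hT, hne, h1⟩ := exists_setup' hMp hmax
  have hIH : ∀ v ∈ Pnc P, @BPConcl p M (Kz v) _ (Fintype.ofFinite _) (eBlk M p P e v) := by
    intro v hv
    letI : Fintype (Kz v) := Fintype.ofFinite _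
    exact bpConcl_all hMp _ (Kz v) _ rfl (isNilpotentBlock_eBlk hMp hmax hnil (mem_Pnc.mp hv).1)
  obtain ⟨φ, a, hD⟩ := exists_secD hMp hmax hnil hIH
  obtain ⟨hR, hunit⟩ := core_of_source hMp hmax hnil hD hy hne h1 hχ₀ hk hT
  refine ⟨χ₀, hχ₀, hk, hR, ?_⟩
  intro v hv _ ζ hζ hnorm
  have hU : wt P v * secF p (χ₀ : G → ℂ) (χ₀ : G → ℂ) v (Ev M p P e v) = 1 := by
    by_cases hvc : IsCen v
    · rw [theta_cen hMp hmax hχ₀ hχ₀ hk hk hv hvc, hR]
    · rw [theta_nc hD (mem_Pnc.mpr ⟨hv, hvc⟩), hunit v (mem_Pnc.mpr ⟨hv, hvc⟩)]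
  obtain ⟨ξ₀, hξ₀, hd, hn⟩ := bpConcl_all hMp _ (Kz v) _ rfl (isNilpotentBlock_eBlk hMp hmax hnil hv)
  choose! d hd using hd
  have hn₀ := wt_mul_sum_reg hMp hmax hnil hv hn
  -- `ζ` is `ξ₀` on regular elements
  have hdζ : d ζ = 1 := by
    have h2 := hd ζ hζ
    have h3 : ∑ g : Kz v, reg p (ζ : Kz v → ℂ) g * conj ((ζ : Kz v → ℂ) g) =
        (d ζ : ℂ) * (d ζ : ℂ) * ∑ g : Kz v, reg p (ξ₀ : Kz v → ℂ) g * conj ((ξ₀ : Kz v → ℂ) g) := by
      rw [Finset.mul_sum]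
      refine Finset.sum_congr rfl fun g _ => ?_
      by_cases hg : p ∣ orderOf g
      · rw [reg_of_dvd _ hg, reg_of_dvd _ hg]
        ring
      · rw [reg_of_not_dvd _ hg, reg_of_not_dvd _ hg, h2 g hg, map_mul, map_natCast]
        ring
    rw [h3] at hnorm
    have h4 : (d ζ : ℂ) * (d ζ : ℂ) * (wt P v * ∑ g : Kz v, reg p (ξ₀ : Kz v → ℂ) g * conj ((ξ₀ : Kz v → ℂ) g)) = 1 := by
      rw [← hnorm]
      ring
    rw [hn₀, mul_one] at h4
    have h5 : d ζ * d ζ = 1 := by exact_mod_cast h4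
    exact Nat.eq_one_of_mul_eq_one_right h5
  have hζξ : ∀ g : Kz v, ¬ p ∣ orderOf g → (ζ : Kz v → ℂ) g = (ξ₀ : Kz v → ℂ) g := by
    intro g hg
    rw [hd ζ hζ g hg, hdζ]
    simp
  have hvK : v ∈ Kz v := mem_centralizer_zpowers_iff.mpr rfl
  have hK : ∀ k ∈ Kz v, k * v = v * k := fun k hk => mem_centralizer_zpowers_iff.mp hk
  set a' : ℂ := ∑ ξ ∈ Finset.univ.filter (· ∈ eBlk M p P e v),
      classInner (fun k : Kz v => (χ₀ : G → ℂ) (v * k)) (ξ : Kz v → ℂ) * (d ξ : ℂ) with ha'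
  have ha'mem : a' ∈ rootRing (Fintype.card G) := by
    refine (rootRing _).sum_mem fun ξ _ => (rootRing _).mul_mem ?_ (natCast_mem _ _)
    exact classInner_section_mem χ₀ hvK hK ξ
  have hsec : ∀ c : Kz v, ¬ p ∣ orderOf c →
      twTrace (χ₀ : G → ℂ) (v * c) (Ev M p P e v) = a' * (ξ₀ : Kz v → ℂ) c := by
    intro c h6
    have h5 := twTrace_EE_eq_blockPart (isClassFunction_of_irr χ₀.2) hK (eBlk M p P e v) c
    simp only [Ev]
    rw [h5, blockPart_eq_sum, ha', Finset.sum_mul]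
    refine Finset.sum_congr rfl fun ξ hξ => ?_
    have hξ' := (Finset.mem_filter.mp hξ).2
    rw [hd ξ hξ' c h6]
    ring
  refine ⟨a', ha'mem, ?_, fun c hc => ?_⟩
  · rw [secF, sum_regC_eq v] at hU
    have h7 : ∑ g : Kz v, (if ¬ p ∣ orderOf g then twTrace (χ₀ : G → ℂ) (v * g) (Ev M p P e v) *
        conj (twTrace (χ₀ : G → ℂ) (v * g) (Ev M p P e v)) else 0) =
        (a' * conj a') * ∑ g : Kz v, reg p (ξ₀ : Kz v → ℂ) g * conj ((ξ₀ : Kz v → ℂ) g) := by
      rw [sum_reg_eq, Finset.mul_sum]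
      refine Finset.sum_congr rfl fun g _ => ?_
      by_cases hg : p ∣ orderOf g
      · rw [if_neg (not_not.mpr hg), if_neg (not_not.mpr hg), mul_zero]
      · rw [if_pos hg, if_pos hg, hsec g hg, map_mul]
        ring
    rw [h7] at hU
    have h8 : (a' * conj a') * (wt P v * ∑ g : Kz v, reg p (ξ₀ : Kz v → ℂ) g * conj ((ξ₀ : Kz v → ℂ) g)) = 1 := by
      rw [← hU]
      ring
    rw [hn₀, mul_one] at h8
    exact h8
  · rw [hsec c hc, hζξ c hc]

end Setup

end Cfsg.Agent.Lib.Blocks.AbFree
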