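/-
Abelian defect: the bridge from the centralizer of a subgroup to the group; local idempotents.
-/
import Mathlib
import Cfsg.Agent.Lib.Blocks.AbFree4
import Cfsg.Agent.Lib.Blocks.AbelianCount
import Cfsg.Agent.Lib.Blocks.Pairs21

set_option autoImplicit false
set_option linter.style.haveILetI false

namespace Cfsg.Agent.Lib.Blocks.AbFree

open Cfsg Cfsg.Agent.Lib.Blocks.Local Cfsg.Agent.Lib.Blocks.Central Cfsg.Agent.Lib.Blocks.Osima
open Cfsg.Agent.Lib.Blocks.Covering Cfsg.Agent.Lib.Blocks.BlockHom Cfsg.Agent.Lib.Blocks.Pairs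
open Cfsg.Agent.Lib.Blocks.Twisted Cfsg.Agent.Lib.Blocks.Necklace Cfsg.Agent.Lib.Blocks.Nilp
open Cfsg.Agent.Lib.Blocks.Regular Cfsg.Agent.Lib.Blocks.Sections Cfsg.Agent.Lib.Blocks.CycloSums
open Cfsg.Agent.Lib.Blocks.Transport Cfsg.Agent.Lib.Blocks.BrauerMap
open Polynomial ComplexConjugate

universe u

section Bridge

variable {G : Type u} [Group G] [Fintype G] {M : Ideal AlgInt} [hM : M.IsPrime] {p : ℕ} [hp : Fact p.Prime]

lemma subgroupBlockCoeff_localIso (Q : Subgroup G) (R' : Subgroup (Subgroup.centralizer (Q : Set G)))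
    (h : Set (IrrCharacter (Subgroup.centralizer (R' : Set (Subgroup.centralizer (Q : Set G)))))) (t : Subgroup.centralizer (Q : Set G)) :
    subgroupBlockCoeff (Subgroup.centralizer (R' : Set (Subgroup.centralizer (Q : Set G)))) h t =
      subgroupBlockCoeff (Subgroup.centralizer (localA Q R' : Set G)) (blockMap (localIso Q R').symm h) t := by
  by_cases ht : t ∈ Subgroup.centralizer (R' : Set (Subgroup.centralizer (Q : Set G)))
  · rw [subgroupBlockCoeff_of_mem _ ht,
      subgroupBlockCoeff_of_mem _ ((mem_centralizer_localA_iff Q R' t).mp ht), blockCoeff_blockMap]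
    rfl
  · rw [subgroupBlockCoeff_of_notMem _ ht,
      subgroupBlockCoeff_of_notMem _ (fun h => ht ((mem_centralizer_localA_iff Q R' t).mpr h))]

/-- A normal step in the centralizer of `Q` gives a normal step in `G`. -/
theorem isNormalSubpair_localA {Q : Subgroup G} (hQp : IsPGroup p Q)
    {A₁ A₂ : Subgroup (Subgroup.centralizer (Q : Set G))}
    {h₁ : Set (IrrCharacter (Subgroup.centralizer (A₁ : Set (Subgroup.centralizer (Q : Set G)))))}
    {h₂ : Set (IrrCharacter (Subgroup.centralizer (A₂ : Set (Subgroup.centralizer (Q : Set G)))))}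
    (hn : IsNormalSubpair p M A₁ h₁ A₂ h₂) :
    IsNormalSubpair p M (localA Q A₁) (blockMap (localIso Q A₁).symm h₁)
      (localA Q A₂) (blockMap (localIso Q A₂).symm h₂) := by
  classical
  obtain ⟨⟨hp1, hb1⟩, ⟨hp2, hb2⟩, hle, hN, hst, hval⟩ := hn
  have hNQ : localA Q A₂ ≤ Subgroup.normalizer (Q : Set G) :=
    sup_le Subgroup.le_normalizer (map_local_le_normalizer Q A₂)
  have hNA : localA Q A₂ ≤ Subgroup.normalizer
      ((A₁.map (Subgroup.centralizer (Q : Set G)).subtype : Subgroup G) : Set G) := by
    apply sup_le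
    · intro q hq
      rw [Subgroup.mem_normalizer_iff]
      intro g
      have hcomm : ∀ a ∈ A₁, q * (a : G) = (a : G) * q := fun a _ =>
        (Subgroup.mem_centralizer_iff.mp a.2 q hq)
      constructor
      · rintro ⟨a, ha, rfl⟩
        refine ⟨a, ha, ?_⟩
        show (a : G) = q * (a : G) * q⁻¹
        rw [hcomm a ha, mul_inv_cancel_right]
      · rintro ⟨a, ha, hag⟩
        refine ⟨a, ha, ?_⟩
        have h2 : (a : G) = q * g * q⁻¹ := hag
        have h3 : g = q⁻¹ * (a : G) * q := by rw [h2]; group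
        show (a : G) = g
        rw [h3, mul_assoc, ← hcomm a ha]
        group
    · exact map_subtype_le_normalizer hN
  have hN' : localA Q A₂ ≤ Subgroup.normalizer (localA Q A₁ : Set G) := by
    intro x hx
    apply mem_normalizer_of_map_conj
    unfold localA
    rw [Subgroup.map_sup, map_conj_of_mem_normalizer (hNQ hx), map_conj_of_mem_normalizer (hNA hx)]
  refine ⟨⟨isPGroup_localA hQp hp1, isPBlock_blockMap _ hb1⟩, ⟨isPGroup_localA hQp hp2, isPBlock_blockMap _ hb2⟩,
    sup_le_sup_left (Subgroup.map_mono hle) Q, hN', ?_, ?_⟩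
  · have hS : localA Q A₂ ≤ blockStabilizer (Subgroup.centralizer (localA Q A₁ : Set G))
        (blockMap (localIso Q A₁).symm h₁) := by
      apply sup_le
      · intro q hq
        apply stabilizesBlock_of_centralizes
        rw [Subgroup.mem_centralizer_iff]
        intro c hc
        exact (Subgroup.mem_centralizer_iff.mp hc q ((le_sup_left : Q ≤ localA Q A₁) hq)).symm
      · rintro _ ⟨a, ha, rfl⟩
        refine ⟨normalizer_le_normalizer_centralizer _ (hN' ((le_sup_right : _ ≤ localA Q A₂) ⟨a, ha, rfl⟩)), ?_⟩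
        rintro χ hχ
        rw [mem_blockMap_iff] at hχ
        obtain ⟨χ', hχ', hc⟩ := (hst a ha).2 _ hχ
        refine ⟨irrComap (localIso Q A₁).symm χ', irrComap_mem_blockMap _ hχ', ?_⟩
        intro k k' hk
        have hk2 := hc ((localIso Q A₁).symm k) ((localIso Q A₁).symm k') (by
          apply Subtype.ext
          exact hk)
        show (χ' : _ → ℂ) ((localIso Q A₁).symm k') = _
        rw [hk2]
        show (χ : _ → ℂ) ((localIso Q A₁) ((localIso Q A₁).symm k)) = _
        rw [MulEquiv.apply_symm_apply]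
    exact fun x hx => hS hx
  · intro ξ hξ
    rw [mem_blockMap_iff] at hξ
    have h4 : brauerOmega A₂ (subgroupBlockCoeff (Subgroup.centralizer (A₁ : Set (Subgroup.centralizer (Q : Set G)))) h₁)
        (fun z => (ξ : Subgroup.centralizer (localA Q A₂ : Set G) → ℂ) (localIso Q A₂ z)) =
        brauerOmega (localA Q A₂) (subgroupBlockCoeff (Subgroup.centralizer (localA Q A₁ : Set G)) (blockMap (localIso Q A₁).symm h₁))
          (ξ : Subgroup.centralizer (localA Q A₂ : Set G) → ℂ) :=
      brauerOmega_cIso (Subgroup.centralizer_le (le_sup_left : Q ≤ localA Q A₂))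
        (mem_centralizer_localA_iff Q A₂) (subgroupBlockCoeff_localIso Q A₁ h₁) _
    rw [← h4]
    exact hval (irrComap (localIso Q A₂) ξ) hξ

/-- A chain in the centralizer of `Q` gives a chain in `G`. -/
theorem subpairLE_localA {Q : Subgroup G} (hQp : IsPGroup p Q)
    {a b : BrauerPairIdx (Subgroup.centralizer (Q : Set G))}
    (hab : Relation.ReflTransGen (NormalSubpairRel p M) a b) :
    SubpairLE p M (localA Q a.1) (blockMap (localIso Q a.1).symm a.2)
      (localA Q b.1) (blockMap (localIso Q b.1).symm b.2) := by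
  induction hab with
  | refl => exact Relation.ReflTransGen.refl
  | @tail c d _ hcd ih => exact ih.tail (isNormalSubpair_localA hQp hcd)

lemma localA_subgroupOf {Q P : Subgroup G} (hQP : Q ≤ P) (hPK : P ≤ Subgroup.centralizer (Q : Set G)) :
    localA Q (P.subgroupOf (Subgroup.centralizer (Q : Set G))) = P := by
  unfold localA
  rw [Subgroup.map_subgroupOf_eq_of_le hPK]
  exact sup_eq_right.mpr hQP

/-- Pairs below `(P, c)` in the centralizer of `Q` give pairs below `(P, c)` in `G`. -/
theorem subpairLE_bridge {Q P : Subgroup G} (hQp : IsPGroup p Q) (hQP : Q ≤ P)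
    (hPK : P ≤ Subgroup.centralizer (Q : Set G)) {c : Set (IrrCharacter (Subgroup.centralizer (P : Set G)))}
    {R' : Subgroup (Subgroup.centralizer (Q : Set G))}
    {g' : Set (IrrCharacter (Subgroup.centralizer (R' : Set (Subgroup.centralizer (Q : Set G)))))}
    (h : SubpairLE p M R' g' (P.subgroupOf (Subgroup.centralizer (Q : Set G)))
      (blockMap (cD (le_refl _) hQP hPK) c)) :
    SubpairLE p M (localA Q R') (blockMap (localIso Q R').symm g') P c := by
  classical
  have h1 := subpairLE_localA hQp h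
  refine subpairLE_congr rfl (localA_subgroupOf hQP hPK) ?_ ?_ h1
  · intro ξ₁ ξ₂ hξ
    have : ξ₁ = ξ₂ := Subtype.ext (funext fun u => hξ u u rfl)
    rw [this]
  · intro ξ₁ ξ₂ hξ
    rw [mem_blockMap_iff, mem_blockMap_iff]
    have : irrComap (cD (le_refl _) hQP hPK).symm (irrComap (localIso Q (P.subgroupOf (Subgroup.centralizer (Q : Set G)))) ξ₁) = ξ₂ := by
      apply Subtype.ext
      funext u
      exact hξ _ _ rfl
    exact iff_of_eq (congrArg (· ∈ c) this)

end Bridge

section Idem

variable {G : Type u} [Group G] [Fintype G] {M : Ideal AlgInt} [hM : M.IsPrime] {p : ℕ} [hp : Fact p.Prime]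

lemma suppOn_aeval {K : Subgroup G} {a : MonoidAlgebra ℂ G} (ha : SuppOn K a) (q : (localRing M)[X]) :
    SuppOn K (aeval a q) := by
  classical
  induction q using Polynomial.induction_on' with
  | add p q hp hq =>
    intro g hg
    rw [map_add, MonoidAlgebra.coeff_add, Finsupp.add_apply, hp g hg, hq g hg, add_zero]
  | monomial n r =>
    rw [aeval_monomial]
    refine SuppOn.mul ?_ (ha.pow n)
    rw [algebraMap_local_eq]
    intro g hg
    have h1 : (algebraMap ℂ (MonoidAlgebra ℂ G) (r : ℂ)).coeff g = 0 := by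
      rw [MonoidAlgebra.coe_algebraMap]
      simp only [Function.comp_apply, MonoidAlgebra.coeff_single]
      rw [Finsupp.single_apply, if_neg]
      rintro rfl
      exact hg K.one_mem
    exact h1

/-- A local idempotent truncated to the centralizer of `R`. -/
structure IsZ (M : Ideal AlgInt) [M.IsPrime] (P : Subgroup G) (y : MonoidAlgebra ℂ G) (R : Subgroup G)
    (Z : MonoidAlgebra ℂ G) : Prop where
  idem : Z * Z = Z
  eqI : EqI M Z (tr (Subgroup.centralizer (R : Set G)) y)
  loc : LocCoeff M Z
  supp : SuppOn (Subgroup.centralizer (R : Set G)) Z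
  inv : InvBy P Z

/-- The truncation of a `P`-invariant local idempotent lifts to an idempotent. -/
theorem exists_isZ (hMp : IsPModular p M) {P R : Subgroup G} (hPp : IsPGroup p P)
    (hRP : R ≤ P) (hPK : P ≤ Subgroup.centralizer (R : Set G)) {y : MonoidAlgebra ℂ G}
    (hy : y * y = y) (hyl : LocCoeff M y) (hyi : InvBy P y) : ∃ Z, IsZ M P y R Z := by
  classical
  have hRp : IsPGroup p R := hPp.to_le hRP
  set τ := tr (Subgroup.centralizer (R : Set G)) y with hτ
  have hτl : LocCoeff M τ := locCoeff_tr _ hyl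
  have h1 : EqI M (τ * τ) τ := by
    have := tr_mul_eqI hMp hRp hyl (hyi.mono hRP) hyl (hyi.mono hRP)
    rw [hy] at this
    exact this.symm
  have hτi : InvBy P τ := by
    apply invBy_tr _ hyi
    exact hPK.trans Subgroup.le_normalizer
  obtain ⟨g, hg1, hg2⟩ := exists_idem hτl h1
  exact ⟨aeval τ g, hg1, hg2, locCoeff_aeval hτl g, suppOn_aeval (suppOn_tr _ y) g, invBy_aeval hτi g⟩

/-- Restriction is multiplicative on elements supported on a subgroup. -/
lemma res_mul_of_suppOn (K : Subgroup G) [Fintype K] {a b : MonoidAlgebra ℂ G} (ha : SuppOn K a)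
    (hb : SuppOn K b) : res K a * res K b = res K (a * b) := by
  have h1 : push K (res K a * res K b) = a * b := by
    rw [push_mul, push_res K ha, push_res K hb]
  rw [← h1, res_push]

lemma coeffIn_of_push {K : Subgroup G} [Fintype K] {I : Ideal (localRing M)} {u : MonoidAlgebra ℂ K}
    (h : CoeffIn I (push K u)) : CoeffIn I u := fun n => by
  obtain ⟨c, hc, hc'⟩ := h (n : G)
  rw [coeff_push_coe] at hc'
  exact ⟨c, hc, hc'⟩

/-- The coherence of the source idempotent with the block below the pair, in general. -/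
theorem coeffIn_tr_mul_one_sub_EE (hMp : IsPModular p M) {P : Subgroup G} (hP : IsPGroup p P)
    {y : MonoidAlgebra ℂ G} (hy : IsPrimIdem M P y) (hne : ¬ CoeffIn (localIdeal M) (tr (Subgroup.centralizer (P : Set G)) y))
    {e : Set (IrrCharacter (Subgroup.centralizer (P : Set G)))} (hPe : IsBrauerPair p M P e)
    (h1 : CoeffIn (localIdeal M) (tr (Subgroup.centralizer (P : Set G)) y * (1 - EE (Subgroup.centralizer (P : Set G)) e)))
    {Q : Subgroup G} (hQP : Q ≤ P) {f : Set (IrrCharacter (Subgroup.centralizer (Q : Set G)))}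
    (hb : IsPBlock M f) (hle : SubpairLE p M Q f P e) :
    CoeffIn (localIdeal M) (tr (Subgroup.centralizer (Q : Set G)) y * (1 - EE (Subgroup.centralizer (Q : Set G)) f)) := by
  classical
  letI : Fintype (Subgroup.centralizer (Q : Set G)) := Fintype.ofFinite _
  have h2 : (1 : MonoidAlgebra ℂ G) - EE (Subgroup.centralizer (Q : Set G)) f =
      ∑ f' ∈ Finset.univ.filter (fun f' : Blk M (Subgroup.centralizer (Q : Set G)) => f'.1 ≠ f),
        EE (Subgroup.centralizer (Q : Set G)) f'.1 := by
    have h3 := sum_EE_eq_one (M := M) (Subgroup.centralizer (Q : Set G))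
    rw [← Finset.sum_filter_add_sum_filter_not Finset.univ
      (fun f' : Blk M (Subgroup.centralizer (Q : Set G)) => f'.1 = f)] at h3
    have h4 : ∑ f' ∈ Finset.univ.filter (fun f' : Blk M (Subgroup.centralizer (Q : Set G)) => f'.1 = f),
        EE (Subgroup.centralizer (Q : Set G)) f'.1 = EE (Subgroup.centralizer (Q : Set G)) f := by
      rw [Finset.sum_eq_single (⟨f, hb⟩ : Blk M (Subgroup.centralizer (Q : Set G)))]
      · intro f' hf hne'
        exact absurd (Subtype.ext (Finset.mem_filter.mp hf).2) hne'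
      · intro h5
        exact absurd (by simp) h5
    rw [h4] at h3
    rw [← h3, add_sub_cancel_left]
  rw [h2, Finset.mul_sum]
  refine coeffIn_localIdeal_iff.mpr fun g => ?_
  rw [MonoidAlgebra.coeff_sum, Finsupp.finsetSum_apply]
  refine memLocalIdeal_sum _ _ fun f' hf => ?_
  have hf' := (Finset.mem_filter.mp hf).2
  have h5 : CoeffIn (localIdeal M) (tr (Subgroup.centralizer (Q : Set G)) y * EE (Subgroup.centralizer (Q : Set G)) f'.1) := by
    by_contra hcon
    exact hf' (eq_of_subpairLE hMp hPe (coherence hMp hP hy hne hPe.2 h1 _ Q rfl hQP f'.1 f'.2 hcon) hle)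
  exact coeffIn_localIdeal_iff.mp h5 g

end Idem

end Cfsg.Agent.Lib.Blocks.AbFree
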