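/-
Abelian defect: the section relation at the levels of the subgroups of `P`.
-/
import Mathlib
import Cfsg.Agent.Lib.Blocks.AbFree5

set_option autoImplicit false
set_option linter.style.haveILetI false

namespace Cfsg.Agent.Lib.Blocks.AbFree

open Cfsg Cfsg.Agent.Lib.Blocks.Local Cfsg.Agent.Lib.Blocks.Central Cfsg.Agent.Lib.Blocks.Osima
open Cfsg.Agent.Lib.Blocks.Covering Cfsg.Agent.Lib.Blocks.BlockHom Cfsg.Agent.Lib.Blocks.Pairs
open Cfsg.Agent.Lib.Blocks.Twisted Cfsg.Agent.Lib.Blocks.Necklace Cfsg.Agent.Lib.Blocks.Nilp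
open Cfsg.Agent.Lib.Blocks.Regular Cfsg.Agent.Lib.Blocks.Sections Cfsg.Agent.Lib.Blocks.CycloSums
open Cfsg.Agent.Lib.Blocks.Transport Cfsg.Agent.Lib.Blocks.BrauerMap Cfsg.Agent.Lib.Blocks.GaloisAvg
open Polynomial ComplexConjugate

universe u

section Level

variable {G : Type u} [Group G] [Fintype G] {M : Ideal AlgInt} [hM : M.IsPrime] {p : ℕ} [hp : Fact p.Prime]

lemma isIntegral_of_mem_rootRing {n : ℕ} (hn : 0 < n) {x : ℂ} (hx : x ∈ rootRing n) : IsIntegral ℤ x := by
  have hx' : x ∈ rootSums n := hx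
  induction hx' using AddSubgroup.closure_induction with
  | mem b hb =>
    have hb' : b ^ n = 1 := hb
    exact IsIntegral.of_pow hn (by rw [hb']; exact isIntegral_one)
  | zero => exact isIntegral_zero
  | add s t _ _ hs ht => exact (hs ‹_›).add (ht ‹_›)
  | neg s _ hs => exact (hs ‹_›).neg

lemma card_Pf_subgroupOf {P K : Subgroup G} (hPK : P ≤ K) [Fintype K] :
    (Pf (P.subgroupOf K)).card = Nat.card P := by
  classical
  have h1 : Nat.card (P.subgroupOf K) = Nat.card P :=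
    Nat.card_congr (Subgroup.subgroupOfEquivOfLe hPK).toEquiv
  rw [← h1, Nat.card_eq_fintype_card, Fintype.card_subtype]
  rfl

lemma card_setY_of_comm {P : Subgroup G} (hab : ∀ x ∈ P, ∀ y ∈ P, x * y = y * x) {v : G} (hv : v ∈ P) :
    (setY P v v).card = (Pf P).card := by
  classical
  congr 1
  ext a
  rw [mem_setY, mem_Pf]
  constructor
  · exact fun h => h.1
  · intro h
    refine ⟨h, ?_⟩
    rw [hab a h v hv, mul_inv_cancel_right]

lemma push_tr_res (Q : Subgroup G) (R' : Subgroup (Subgroup.centralizer (Q : Set G))) [Fintype (Subgroup.centralizer (Q : Set G))]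
    (z : MonoidAlgebra ℂ G) :
    push (Subgroup.centralizer (Q : Set G)) (tr (Subgroup.centralizer (R' : Set (Subgroup.centralizer (Q : Set G))))
      (res (Subgroup.centralizer (Q : Set G)) z)) = tr (Subgroup.centralizer (localA Q R' : Set G)) z := by
  classical
  apply ext_coeff
  intro g
  by_cases hg : g ∈ Subgroup.centralizer (Q : Set G)
  · have h1 := coeff_push_coe (Subgroup.centralizer (Q : Set G)) (tr (Subgroup.centralizer (R' : Set (Subgroup.centralizer (Q : Set G))))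
      (res (Subgroup.centralizer (Q : Set G)) z)) ⟨g, hg⟩
    refine h1.trans ?_
    by_cases hg2 : (⟨g, hg⟩ : Subgroup.centralizer (Q : Set G)) ∈ Subgroup.centralizer (R' : Set (Subgroup.centralizer (Q : Set G)))
    · rw [coeff_tr_of_mem _ hg2, coeff_res, coeff_tr_of_mem _ ((mem_centralizer_localA_iff Q R' _).mp hg2)]
    · rw [coeff_tr_of_notMem _ hg2, coeff_tr_of_notMem _ (fun h => hg2 ((mem_centralizer_localA_iff Q R' _).mpr h))]
  · rw [coeff_push_of_notMem _ _ hg, coeff_tr_of_notMem]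
    exact fun h => hg (Subgroup.centralizer_le (le_sup_left : Q ≤ localA Q R') h)

lemma push_EE_local (Q : Subgroup G) (R' : Subgroup (Subgroup.centralizer (Q : Set G))) [Fintype (Subgroup.centralizer (Q : Set G))]
    (e₀ : Set (IrrCharacter (Subgroup.centralizer (R' : Set (Subgroup.centralizer (Q : Set G)))))) :
    push (Subgroup.centralizer (Q : Set G)) (EE (Subgroup.centralizer (R' : Set (Subgroup.centralizer (Q : Set G)))) e₀) =
      EE (Subgroup.centralizer (localA Q R' : Set G)) (blockMap (localIso Q R').symm e₀) := by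
  classical
  apply ext_coeff
  intro g
  by_cases hg : g ∈ Subgroup.centralizer (Q : Set G)
  · have h1 := coeff_push_coe (Subgroup.centralizer (Q : Set G))
      (EE (Subgroup.centralizer (R' : Set (Subgroup.centralizer (Q : Set G)))) e₀) ⟨g, hg⟩
    refine h1.trans ?_
    rw [coeff_EE, coeff_EE]
    exact subgroupBlockCoeff_localIso Q R' e₀ ⟨g, hg⟩
  · rw [coeff_push_of_notMem _ _ hg, coeff_EE, subgroupBlockCoeff_of_notMem]
    exact fun h => hg (Subgroup.centralizer_le (le_sup_left : Q ≤ localA Q R') h)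

/-- The centralizer of `Q`. -/
abbrev XQ (Q : Subgroup G) : Subgroup G := Subgroup.centralizer (Q : Set G)

/-- `P` as a subgroup of the centralizer of `Q`. -/
abbrev PH (P Q : Subgroup G) : Subgroup (XQ Q) := P.subgroupOf (XQ Q)

/-- The block over `P` in the centralizer of `Q`. -/
noncomputable abbrev cH {P Q : Subgroup G} (hQP : Q ≤ P) (hPK : P ≤ XQ Q)
    (c : Set (IrrCharacter (Subgroup.centralizer (P : Set G)))) :
    Set (IrrCharacter (Subgroup.centralizer ((PH P Q : Subgroup (XQ Q)) : Set (XQ Q)))) :=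
  blockMap (cD (le_refl _) hQP hPK) c

/-- The section property of the canonical character of the centralizer of `Q`. -/
def SecX (M : Ideal AlgInt) [M.IsPrime] (p : ℕ) {P Q : Subgroup G} (hQP : Q ≤ P) (hPK : P ≤ XQ Q)
    (c : Set (IrrCharacter (Subgroup.centralizer (P : Set G)))) [Fintype (XQ Q)] (ξ : IrrCharacter (XQ Q)) : Prop :=
  ∀ v ∈ PH P Q, ∀ [Fintype (Kz v)] (ζ : IrrCharacter (Kz v)),
    ζ ∈ eBlk M p (PH P Q) (cH hQP hPK c) v →
    wt (PH P Q) v * ∑ g : Kz v, reg p (ζ : Kz v → ℂ) g * conj ((ζ : Kz v → ℂ) g) = 1 →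
    ∃ a ∈ rootRing (Fintype.card (XQ Q)), a * conj a = 1 ∧ ∀ c' : Kz v, ¬ p ∣ orderOf c' →
      twTrace (ξ : _ → ℂ) (v * c') (Ev M p (PH P Q) (cH hQP hPK c) v) = a * (ζ : Kz v → ℂ) c'

/-- **The section relation between the levels.** -/
theorem level_relation (hMp : IsPModular p M) {P : Subgroup G} (hPp : IsPGroup p P)
    (hab : ∀ x ∈ P, ∀ y ∈ P, x * y = y * x) {c : Set (IrrCharacter (Subgroup.centralizer (P : Set G)))}
    (hPc : IsBrauerPair p M P c) {y : MonoidAlgebra ℂ G} (hy : IsPrimIdem M P y)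
    (hne : ¬ CoeffIn (localIdeal M) (tr (Subgroup.centralizer (P : Set G)) y))
    (h1 : CoeffIn (localIdeal M) (tr (Subgroup.centralizer (P : Set G)) y * (1 - EE (Subgroup.centralizer (P : Set G)) c)))
    {Q : Subgroup G} (hQP : Q ≤ P) [Fintype (XQ Q)] (hPK : P ≤ XQ Q)
    {ξ : IrrCharacter (XQ Q)} (hsecX : SecX M p hQP hPK c ξ)
    {zQ : MonoidAlgebra ℂ G} (hzQ : IsZ M P y Q zQ) {w' : XQ Q} (hw : (w' : G) ∈ P)
    {R : Subgroup G} (hR : R = localA Q (Subgroup.zpowers w'))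
    [Fintype (XQ R)] {zR : MonoidAlgebra ℂ G} (hzR : IsZ M P y R zR)
    {f : Set (IrrCharacter (XQ R))} (hf : IsPBlock M f) (hle : SubpairLE p M R f P c)
    {ζR : IrrCharacter (XQ R)} (hζ : ζR ∈ f)
    (hRR : RR p (PH P R) (ζR : _ → ℂ) (ζR : _ → ℂ) = 1) :
    ∃ a : ℂ, IsIntegral ℤ a ∧ a * conj a = 1 ∧
      twTrace (ξ : _ → ℂ) w' (res (XQ Q) zQ) =
        a * ∑ c' : XQ R, zR.coeff c' * (ζR : _ → ℂ) c' := by
  classical
  subst hR
  letI : Fintype (Kz w') := Fintype.ofFinite _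
  have hQp : IsPGroup p Q := hPp.to_le hQP
  have hPhatp : IsBrauerPair p M (PH P Q) (cH hQP hPK c) :=
    ⟨hPp.comap_of_injective _ (Subgroup.subtype_injective _), isPBlock_blockMap _ hPc.2⟩
  have hwP : w' ∈ PH P Q := Subgroup.mem_subgroupOf.mpr hw
  have hle₀ : SubpairLE p M (Subgroup.zpowers w') (eBlk M p (PH P Q) (cH hQP hPK c) w') (PH P Q) (cH hQP hPK c) :=
    eBlk_spec hMp hPhatp hwP
  have hbr := subpairLE_bridge hQp hQP hPK hle₀
  have hRP : localA Q (Subgroup.zpowers w') ≤ P := by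
    apply sup_le hQP
    rintro _ ⟨a, ha, rfl⟩
    obtain ⟨n, rfl⟩ := Subgroup.mem_zpowers_iff.mp ha
    show ((w' ^ n : XQ Q) : G) ∈ P
    rw [Subgroup.coe_zpow]
    exact P.zpow_mem hw n
  have hPR : P ≤ XQ (localA Q (Subgroup.zpowers w')) := fun u hu =>
    Subgroup.mem_centralizer_iff.mpr fun q hq => hab q (hRP hq) u hu
  have hfe : blockMap (localIso Q (Subgroup.zpowers w')).symm (eBlk M p (PH P Q) (cH hQP hPK c) w') = f :=
    eq_of_subpairLE hMp hPc hbr hle
  subst hfe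
  have hζe : irrComap (localIso Q (Subgroup.zpowers w')) ζR ∈ eBlk M p (PH P Q) (cH hQP hPK c) w' := by
    rw [mem_blockMap_iff] at hζ
    exact hζ
  have hsum : ∑ g : Kz w', reg p ((irrComap (localIso Q (Subgroup.zpowers w')) ζR : IrrCharacter _) : Kz w' → ℂ) g *
      conj (((irrComap (localIso Q (Subgroup.zpowers w')) ζR : IrrCharacter _) : Kz w' → ℂ) g) =
      ∑ g : XQ (localA Q (Subgroup.zpowers w')), reg p (ζR : _ → ℂ) g * conj ((ζR : _ → ℂ) g) := by
    refine Fintype.sum_equiv (localIso Q (Subgroup.zpowers w')).toEquiv _ _ fun g => ?_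
    show reg p ((irrComap (localIso Q (Subgroup.zpowers w')) ζR : IrrCharacter _) : Kz w' → ℂ) g *
      conj ((ζR : _ → ℂ) (localIso Q (Subgroup.zpowers w') g)) =
      reg p (ζR : _ → ℂ) (localIso Q (Subgroup.zpowers w') g) * conj ((ζR : _ → ℂ) (localIso Q (Subgroup.zpowers w') g))
    congr 1
    by_cases hg : p ∣ orderOf g
    · rw [reg_of_dvd _ hg, reg_of_dvd _ (by rwa [MulEquiv.orderOf_eq])]
    · rw [reg_of_not_dvd _ hg, reg_of_not_dvd _ (by rwa [MulEquiv.orderOf_eq])]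
      rfl
  have hcard : Nat.card (Kz w') = Nat.card (XQ (localA Q (Subgroup.zpowers w'))) :=
    Nat.card_congr (localIso Q (Subgroup.zpowers w')).toEquiv
  have hnorm : wt (PH P Q) w' * ∑ g : Kz w', reg p ((irrComap (localIso Q (Subgroup.zpowers w')) ζR : IrrCharacter _) : Kz w' → ℂ) g *
      conj (((irrComap (localIso Q (Subgroup.zpowers w')) ζR : IrrCharacter _) : Kz w' → ℂ) g) = 1 := by
    rw [hsum, wt, card_setY_of_comm _ hwP, ← card_Kz, hcard, card_Pf_subgroupOf hPK]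
    · rw [RR, card_Pf_subgroupOf hPR, classInner] at hRR
      rw [← hRR]
      ring
    · intro a ha b hb
      apply Subtype.ext
      exact hab _ ha _ hb
  obtain ⟨a, ha, hunit, hsec⟩ := hsecX w' hwP _ hζe hnorm
  have hcardpos : 0 < Fintype.card (XQ Q) := Fintype.card_pos
  have hala : MemLocalRing M a := memLocalRing_of_mem_rootRing hcardpos ha
  -- the idempotent data in `XQ Q`
  have hRQ : XQ (localA Q (Subgroup.zpowers w')) ≤ XQ Q := Subgroup.centralizer_le (le_sup_left : Q ≤ localA Q _)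
  have hzRQ : SuppOn (XQ Q) zR := fun g hg => hzR.supp g (fun h => hg (hRQ h))
  have hzRK : SuppOn (Kz w') (res (XQ Q) zR) := by
    intro g hg
    rw [coeff_res]
    exact hzR.supp _ (fun h => hg ((mem_centralizer_localA_iff Q _ g).mpr h))
  obtain ⟨k, hk⟩ := hPp ⟨(w' : G), hw⟩
  have hvk : w' ^ (p ^ k) = 1 := by
    apply Subtype.ext
    have := congrArg Subtype.val hk
    simpa using this
  have hres : res (XQ Q) zQ * res (XQ Q) zQ = res (XQ Q) zQ := by
    rw [res_mul_of_suppOn _ hzQ.supp hzQ.supp, hzQ.idem]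
  have hresl : LocCoeff M (res (XQ Q) zQ) := fun g => by
    rw [coeff_res]
    exact hzQ.loc _
  have hresv : IsInv w' (res (XQ Q) zQ) := fun g => by
    rw [coeff_res, coeff_res]
    exact hzQ.inv (g : G) _ hw
  have hresR : res (XQ Q) zR * res (XQ Q) zR = res (XQ Q) zR := by
    rw [res_mul_of_suppOn _ hzRQ hzRQ, hzR.idem]
  have hZZ : res (Kz w') (res (XQ Q) zR) * res (Kz w') (res (XQ Q) zR) = res (Kz w') (res (XQ Q) zR) := by
    rw [res_mul_of_suppOn _ hzRK hzRK, hresR]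
  have hZl : LocCoeff M (res (Kz w') (res (XQ Q) zR)) := fun g => by
    rw [coeff_res, coeff_res]
    exact hzR.loc _
  have hZy : EqI M (res (Kz w') (res (XQ Q) zR)) (res (Kz w') (res (XQ Q) zQ)) := by
    rw [EqI, coeffIn_localIdeal_iff]
    intro g
    have hg' : ((g : XQ Q) : G) ∈ XQ (localA Q (Subgroup.zpowers w')) := (mem_centralizer_localA_iff Q _ _).mp g.2
    have h3 := coeffIn_localIdeal_iff.mp hzR.eqI ((g : XQ Q) : G)
    have h4 := coeffIn_localIdeal_iff.mp hzQ.eqI ((g : XQ Q) : G)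
    rw [MonoidAlgebra.coeff_sub, Finsupp.sub_apply, coeff_tr_of_mem _ hg'] at h3
    rw [MonoidAlgebra.coeff_sub, Finsupp.sub_apply, coeff_tr_of_mem _ (g : XQ Q).2] at h4
    have h5 := memLocalIdeal_sub h3 h4
    rw [MonoidAlgebra.coeff_sub, Finsupp.sub_apply, coeff_res, coeff_res, coeff_res, coeff_res]
    convert h5 using 1
    ring
  have hyE : CoeffIn (localIdeal M) (tr (Kz w') (res (XQ Q) zQ) * (1 - Ev M p (PH P Q) (cH hQP hPK c) w')) := by
    apply coeffIn_of_push (K := XQ Q)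
    have h2 : push (XQ Q) (tr (Kz w') (res (XQ Q) zQ) * (1 - Ev M p (PH P Q) (cH hQP hPK c) w')) =
        tr (XQ (localA Q (Subgroup.zpowers w'))) zQ *
          (1 - EE (XQ (localA Q (Subgroup.zpowers w')))
            (blockMap (localIso Q (Subgroup.zpowers w')).symm (eBlk M p (PH P Q) (cH hQP hPK c) w'))) := by
      rw [push_mul, push_tr_res]
      congr 1
      rw [Ev, ← push_EE_local]
      unfold push
      rw [map_sub, map_one]
    rw [h2]
    have h3 := coeffIn_tr_mul_one_sub_EE hMp hPp hy hne hPc h1 hRP hf hle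
    have h4 : EqI M (tr (XQ (localA Q (Subgroup.zpowers w'))) zQ) (tr (XQ (localA Q (Subgroup.zpowers w'))) y) := by
      have := hzQ.eqI.tr (XQ (localA Q (Subgroup.zpowers w')))
      rwa [tr_tr hRQ] at this
    refine coeffIn_of_eqI (h4.mul_right (locCoeff_one.sub (locCoeff_EE hf))) h3
  have hmain := twTrace_eq_of_section hMp hvk hres hresl hresv (t := (ξ : _ → ℂ))
    (fun g => memLocalRing_of_isIntegral (isIntegral_irr ξ.2 g)) (isClassFunction_of_irr ξ.2)
    (EE_mul_self _ _) (locCoeff_EE (isPBlock_eBlk hMp hPhatp hwP)) (invBy_EE_self _ _) hyE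
    (ζ := ((irrComap (localIso Q (Subgroup.zpowers w')) ζR : IrrCharacter _) : Kz w' → ℂ))
    (fun g => memLocalRing_of_isIntegral (isIntegral_irr (irrComap (localIso Q (Subgroup.zpowers w')) ζR).2 g))
    (isClassFunction_of_irr (irrComap (localIso Q (Subgroup.zpowers w')) ζR).2) hala hsec hZZ hZl hZy
  refine ⟨a, isIntegral_of_mem_rootRing hcardpos ha, hunit, ?_⟩
  · rw [hmain]
    congr 1
    refine Fintype.sum_equiv (localIso Q (Subgroup.zpowers w')).toEquiv _ _ fun g => ?_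
    rw [coeff_res, coeff_res]
    rfl

/-- The relation of the characters of `G` with the local idempotents. -/
theorem global_relation (hMp : IsPModular p M) {P : Subgroup G} (hPp : IsPGroup p P)
    {c : Set (IrrCharacter (Subgroup.centralizer (P : Set G)))}
    (hPc : IsBrauerPair p M P c) {y : MonoidAlgebra ℂ G} (hy : IsPrimIdem M P y)
    (hne : ¬ CoeffIn (localIdeal M) (tr (Subgroup.centralizer (P : Set G)) y))
    (h1 : CoeffIn (localIdeal M) (tr (Subgroup.centralizer (P : Set G)) y * (1 - EE (Subgroup.centralizer (P : Set G)) c)))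
    {v : G} (hv : v ∈ P) [Fintype (Kz v)] {zR : MonoidAlgebra ℂ G} (hzR : IsZ M P y (Subgroup.zpowers v) zR)
    {t : G → ℂ} (htl : ∀ g, MemLocalRing M (t g)) (ht : IsClassFunction G t)
    {ζ : Kz v → ℂ} (hζl : ∀ c, MemLocalRing M (ζ c)) (hζ : IsClassFunction (Kz v) ζ)
    {a : ℂ} (ha : MemLocalRing M a)
    (hsec : ∀ c' : Kz v, ¬ p ∣ orderOf c' → twTrace t (v * c') (Ev M p P c v) = a * ζ c') :
    twTrace t v y = a * ∑ c' : Kz v, zR.coeff c' * ζ c' := by
  classical
  obtain ⟨k, hk⟩ := hPp ⟨v, hv⟩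
  have hvk : v ^ (p ^ k) = 1 := by
    have := congrArg Subtype.val hk
    simpa using this
  have hZZ : res (Kz v) zR * res (Kz v) zR = res (Kz v) zR := by
    rw [res_mul_of_suppOn _ hzR.supp hzR.supp, hzR.idem]
  have hZl : LocCoeff M (res (Kz v) zR) := fun g => by
    rw [coeff_res]
    exact hzR.loc _
  have hZy : EqI M (res (Kz v) zR) (res (Kz v) y) := by
    rw [EqI, coeffIn_localIdeal_iff]
    intro g
    have h3 := coeffIn_localIdeal_iff.mp hzR.eqI (g : G)
    rw [MonoidAlgebra.coeff_sub, Finsupp.sub_apply, coeff_tr_of_mem _ g.2] at h3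
    rw [MonoidAlgebra.coeff_sub, Finsupp.sub_apply, coeff_res, coeff_res]
    exact h3
  have hmain := twTrace_eq_of_section hMp hvk hy.idem hy.loc (fun g => hy.inv g v hv) htl ht
    (EE_mul_self _ _) (locCoeff_EE (isPBlock_eBlk hMp hPc hv)) (invBy_EE_self _ _)
    (coeffIn_tr_mul_one_sub_Ev hMp hPp hy hne hPc h1 hv) hζl hζ ha hsec hZZ hZl hZy
  rw [hmain]
  congr 1
  refine Finset.sum_congr rfl fun g _ => ?_
  rw [coeff_res]

/-- Abelian defect: the weighted norm of the local block. -/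
lemma wt_mul_sum_reg_ab (hMp : IsPModular p M) {B : Set (IrrCharacter G)} {P : Subgroup G}
    {e : Set (IrrCharacter (Subgroup.centralizer (P : Set G)))} (hmax : IsMaximalBrauerPair p M B P e)
    (hab : ∀ x ∈ P, ∀ y ∈ P, x * y = y * x) {v : G} (hv : v ∈ P) [Fintype (Kz v)] {ξ₀ : IrrCharacter (Kz v)}
    (hn : ∀ D : Subgroup (Kz v), IsDefectGroup p M (eBlk M p P e v) D →
      (Nat.card D : ℂ) * ∑ g : Kz v, reg p (ξ₀ : Kz v → ℂ) g * conj ((ξ₀ : Kz v → ℂ) g) = (Nat.card (Kz v) : ℂ)) :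
    wt P v * ∑ g : Kz v, reg p (ξ₀ : Kz v → ℂ) g * conj ((ξ₀ : Kz v → ℂ) g) = 1 := by
  classical
  have hPe := hmax.1.1
  have hle := eBlk_spec hMp hPe hv
  have hQP : Subgroup.zpowers v ≤ P := Subgroup.zpowers_le.mpr hv
  have hD := Cfsg.Agent.Lib.Blocks.AbelianCount.isDefectGroup_of_abelian hMp hmax hab hQP (isPBlock_eBlk hMp hPe hv) hle
  have hn' := hn _ hD
  have hPK : P ≤ Kz v := fun u hu => mem_centralizer_zpowers_iff.mpr (hab u hu v hv)
  have h1 : Nat.card (P.subgroupOf (Kz v)) = (Pf P).card := by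
    rw [Nat.card_congr (Subgroup.subgroupOfEquivOfLe hPK).toEquiv, Nat.card_eq_fintype_card, Fintype.card_subtype]
    rfl
  rw [h1] at hn'
  rw [wt, card_setY_of_comm hab hv, ← card_Kz]
  have h5 : (Nat.card (Kz v) : ℂ) ≠ 0 := by exact_mod_cast Nat.card_pos.ne'
  field_simp
  exact hn'

/-- Abelian defect: the coefficient of the section with respect to a local character of norm one. -/
theorem exists_section_coeff (hMp : IsPModular p M) {B : Set (IrrCharacter G)} {P : Subgroup G}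
    {e : Set (IrrCharacter (Subgroup.centralizer (P : Set G)))} (hmax : IsMaximalBrauerPair p M B P e)
    (hab : ∀ x ∈ P, ∀ y ∈ P, x * y = y * x) {v : G} (hv : v ∈ P) [Fintype (Kz v)]
    (hnil : IsNilpotentBlock p M (eBlk M p P e v)) (χ : IrrCharacter G) {ζ : IrrCharacter (Kz v)}
    (hζ : ζ ∈ eBlk M p P e v)
    (hnorm : wt P v * ∑ g : Kz v, reg p (ζ : Kz v → ℂ) g * conj ((ζ : Kz v → ℂ) g) = 1) :
    ∃ a ∈ rootRing (Fintype.card G), ∀ c' : Kz v, ¬ p ∣ orderOf c' →
      twTrace (χ : G → ℂ) (v * c') (Ev M p P e v) = a * (ζ : Kz v → ℂ) c' := by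
  classical
  obtain ⟨ξ₀, hξ₀, hd, hn⟩ := bpConcl_all hMp _ (Kz v) _ rfl hnil
  choose! d hd using hd
  have hn₀ := wt_mul_sum_reg_ab hMp hmax hab hv hn
  have hdζ : d ζ = 1 := by
    have h2 := hd ζ hζ
    have h3 : ∑ g : Kz v, reg p (ζ : Kz v → ℂ) g * conj ((ζ : Kz v → ℂ) g) =
        (d ζ : ℂ) * (d ζ : ℂ) * ∑ g : Kz v, reg p (ξ₀ : Kz v → ℂ) g * conj ((ξ₀ : Kz v → ℂ) g) := by
      rw [Finset.mul_sum]
      refine Finset.sum_congr rfl fun g _ => ?_
      by_cases hg : p ∣ orderOf g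
      · rw [reg_of_dvd _ hg, reg_of_dvd _ hg]
        ring
      · rw [reg_of_not_dvd _ hg, reg_of_not_dvd _ hg, h2 g hg, map_mul, map_natCast]
        ring
    rw [h3] at hnorm
    have h4 : (d ζ : ℂ) * (d ζ : ℂ) * (wt P v * ∑ g : Kz v, reg p (ξ₀ : Kz v → ℂ) g * conj ((ξ₀ : Kz v → ℂ) g)) = 1 := by
      rw [← hnorm]
      ring
    rw [hn₀, mul_one] at h4
    have h5 : d ζ * d ζ = 1 := by exact_mod_cast h4
    exact Nat.eq_one_of_mul_eq_one_right h5
  have hζξ : ∀ g : Kz v, ¬ p ∣ orderOf g → (ζ : Kz v → ℂ) g = (ξ₀ : Kz v → ℂ) g := by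
    intro g hg
    rw [hd ζ hζ g hg, hdζ]
    simp
  have hvK : v ∈ Kz v := mem_centralizer_zpowers_iff.mpr rfl
  have hK : ∀ k ∈ Kz v, k * v = v * k := fun k hk => mem_centralizer_zpowers_iff.mp hk
  refine ⟨∑ ξ ∈ Finset.univ.filter (· ∈ eBlk M p P e v),
      classInner (fun k : Kz v => (χ : G → ℂ) (v * k)) (ξ : Kz v → ℂ) * (d ξ : ℂ), ?_, fun c h6 => ?_⟩
  · refine (rootRing _).sum_mem fun ξ _ => (rootRing _).mul_mem ?_ (natCast_mem _ _)
    exact classInner_section_mem χ hvK hK ξ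
  · have h5 := twTrace_EE_eq_blockPart (isClassFunction_of_irr χ.2) hK (eBlk M p P e v) c
    simp only [Ev]
    rw [h5, blockPart_eq_sum, hζξ c h6, Finset.sum_mul]
    refine Finset.sum_congr rfl fun ξ hξ => ?_
    have hξ' := (Finset.mem_filter.mp hξ).2
    rw [hd ξ hξ' c h6]
    ring

/-- The canonical character of the centralizer of a subgroup of `P`. -/
theorem exists_level (hMp : IsPModular p M) {B : Set (IrrCharacter G)} {P : Subgroup G}
    {c : Set (IrrCharacter (Subgroup.centralizer (P : Set G)))} (hmax : IsMaximalBrauerPair p M B P c)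
    (hab : ∀ x ∈ P, ∀ y ∈ P, x * y = y * x) {Q : Subgroup G} (hQP : Q ≤ P) [Fintype (XQ Q)]
    (hPK : P ≤ XQ Q) (hnil : ∀ f : Set (IrrCharacter (XQ Q)), IsPBlock M f → SubpairLE p M Q f P c → IsNilpotentBlock p M f) :
    ∃ (f : Set (IrrCharacter (XQ Q))) (ξ : IrrCharacter (XQ Q)), IsPBlock M f ∧ SubpairLE p M Q f P c ∧ ξ ∈ f ∧
      KerZ (PH P Q) (ξ : _ → ℂ) ∧ RR p (PH P Q) (ξ : _ → ℂ) (ξ : _ → ℂ) = 1 ∧ SecX M p hQP hPK c ξ := by
  classical
  have hPe := hmax.1.1
  obtain ⟨f, hf, hle⟩ := exists_subpairLE hMp hPe hQP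
  have hKN : XQ Q ≤ Subgroup.normalizer (Q : Set G) := Cfsg.Agent.Lib.Blocks.FirstMain.centralizer_le_normalizer' Q
  have hn := isNormalSubpair_of_subpairLE hMp hPe hle (hPK.trans hKN)
  have hb := isBrauerPairOf_down (le_refl (XQ Q)) hn.1.2 (fun t => (subgroupBlockCoeff_coe _ _).symm) hQP hPK hn
  have hdef := Cfsg.Agent.Lib.Blocks.AbelianCount.isDefectGroup_of_abelian hMp hmax hab hQP hf hle
  have hmaxX := isMaximal_of_isDefectGroup hMp hb hdef
  obtain ⟨ξ, hξ, hk, hR, hsec⟩ := levelX hMp hmaxX (hnil f hf hle)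
  exact ⟨f, ξ, hf, hle, hξ, hk, hR, hsec⟩

end Level

end Cfsg.Agent.Lib.Blocks.AbFree
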