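/-
Abelian defect: gluing the local source data into a generalized character of `P`.
-/
import Mathlib
import Cfsg.Agent.Lib.Blocks.AbFree6
import Cfsg.Agent.Lib.Blocks.AbFree2

set_option autoImplicit false
set_option linter.style.haveILetI false

namespace Cfsg.Agent.Lib.Blocks.AbFree

open Cfsg Cfsg.Agent.Lib.Blocks.Local Cfsg.Agent.Lib.Blocks.Central Cfsg.Agent.Lib.Blocks.Osima
open Cfsg.Agent.Lib.Blocks.Covering Cfsg.Agent.Lib.Blocks.BlockHom Cfsg.Agent.Lib.Blocks.Pairs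
open Cfsg.Agent.Lib.Blocks.Twisted Cfsg.Agent.Lib.Blocks.Necklace Cfsg.Agent.Lib.Blocks.Nilp
open Cfsg.Agent.Lib.Blocks.Regular Cfsg.Agent.Lib.Blocks.Sections Cfsg.Agent.Lib.Blocks.CycloSums
open Cfsg.Agent.Lib.Blocks.Transport Cfsg.Agent.Lib.Blocks.BrauerMap
open Cfsg.Agent.Lib.Char.Virtual
open Polynomial ComplexConjugate

universe u

section StageA

variable {G : Type u} [Group G] [Fintype G] {M : Ideal AlgInt} [hM : M.IsPrime] {p : ℕ} [hp : Fact p.Prime]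

/-- Transport of the canonical data along an equality of subgroups. -/
lemma transport_canon (hMp : IsPModular p M) {P : Subgroup G} (hab : ∀ x ∈ P, ∀ y ∈ P, x * y = y * x)
    {c : Set (IrrCharacter (Subgroup.centralizer (P : Set G)))} (hPc : IsBrauerPair p M P c) {y : MonoidAlgebra ℂ G}
    {v : G} (hv : v ∈ P) {R : Subgroup G} (hR : R = Subgroup.zpowers v) [iR : Fintype (XQ R)] [iv : Fintype (Kz v)]
    {zR : MonoidAlgebra ℂ G} (hzR : IsZ M P y R zR)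
    {f : Set (IrrCharacter (XQ R))} (hle : SubpairLE p M R f P c) {ξ : IrrCharacter (XQ R)} (hξ : ξ ∈ f)
    (hRR : RR p (PH P R) (ξ : _ → ℂ) (ξ : _ → ℂ) = 1) :
    ∃ (ζ : IrrCharacter (Kz v)) (zv : MonoidAlgebra ℂ G), IsZ M P y (Subgroup.zpowers v) zv ∧ ζ ∈ eBlk M p P c v ∧
      wt P v * ∑ g : Kz v, reg p (ζ : Kz v → ℂ) g * conj ((ζ : Kz v → ℂ) g) = 1 ∧
      ∑ c' : XQ R, zR.coeff c' * (ξ : _ → ℂ) c' = ∑ c' : Kz v, zv.coeff c' * (ζ : Kz v → ℂ) c' := by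
  classical
  subst hR
  obtain rfl : iR = iv := Subsingleton.elim _ _
  have hPK : P ≤ Kz v := fun u hu => mem_centralizer_zpowers_iff.mpr (hab u hu v hv)
  refine ⟨ξ, zR, hzR, ?_, ?_, rfl⟩
  · rw [← eq_eBlk hMp hPc hle]
    exact hξ
  · rw [RR, card_Pf_subgroupOf hPK, classInner] at hRR
    have hPf : (Pf P).card = Nat.card P := by
      rw [Nat.card_eq_fintype_card, Fintype.card_subtype]
      rfl
    rw [wt, card_setY_of_comm hab hv, ← card_Kz, hPf, ← hRR]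
    ring

/-- The output of the gluing. -/
theorem stageA (hMp : IsPModular p M) {B : Set (IrrCharacter G)} {P : Subgroup G}
    {c : Set (IrrCharacter (Subgroup.centralizer (P : Set G)))} (hmax : IsMaximalBrauerPair p M B P c)
    (hab : ∀ x ∈ P, ∀ y ∈ P, x * y = y * x)
    (hnil : ∀ Q : Subgroup G, Q ≤ P → Q ≠ ⊥ → ∀ f : Set (IrrCharacter (XQ Q)), IsPBlock M f →
      SubpairLE p M Q f P c → IsNilpotentBlock p M f)
    {χ₀ : IrrCharacter G} {y : MonoidAlgebra ℂ G} (hy : IsPrimIdem M P y)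
    (hT : ¬ MemLocalIdeal M (twTrace (χ₀ : G → ℂ) 1 y))
    (hne : ¬ CoeffIn (localIdeal M) (tr (Subgroup.centralizer (P : Set G)) y))
    (h1 : CoeffIn (localIdeal M) (tr (Subgroup.centralizer (P : Set G)) y * (1 - EE (Subgroup.centralizer (P : Set G)) c)))
    [hX : ∀ R : Subgroup G, Fintype (XQ R)] :
    ∃ (ζ : ∀ v : P, IrrCharacter (Kz (v : G))) (κ : P → ℕ) (s : P → ℤ) (μ : P → ℂ),
      (∀ v : P, v ≠ 1 → ζ v ∈ eBlk M p P c (v : G) ∧
        wt P (v : G) * ∑ g : Kz (v : G), reg p (ζ v : Kz (v : G) → ℂ) g * conj ((ζ v : Kz (v : G) → ℂ) g) = 1) ∧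
      (∀ v : P, v ≠ 1 → ∀ (t : G → ℂ) (a : ℂ), (∀ g, MemLocalRing M (t g)) → IsClassFunction G t → MemLocalRing M a →
        (∀ c' : Kz (v : G), ¬ p ∣ orderOf c' → twTrace t ((v : G) * c') (Ev M p P c v) = a * (ζ v : Kz (v : G) → ℂ) c') →
        twTrace t (v : G) y = a * κ v) ∧
      (∀ v : P, v ≠ 1 → ¬ p ∣ κ v) ∧ (∀ v, s v = 1 ∨ s v = -1) ∧ IsGeneralizedCharacter P μ ∧
      ∀ v : P, v ≠ 1 → μ v = s v * κ v := by
  classical
  letI : Fintype P := Fintype.ofFinite _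
  have hPe := hmax.1.1
  have hPp := hPe.1
  have hsmP : ∀ Q' : Subgroup P, Q'.map P.subtype ≤ P := fun Q' => Subgroup.map_subtype_le Q'
  have hPK : ∀ Q' : Subgroup P, P ≤ XQ (Q'.map P.subtype) := fun Q' u hu =>
    Subgroup.mem_centralizer_iff.mpr fun q hq => hab q (hsmP Q' hq) u hu
  have hsmne : ∀ Q' : Subgroup P, Q' ≠ ⊥ → Q'.map P.subtype ≠ ⊥ := fun Q' hQ h =>
    hQ ((Subgroup.map_eq_bot_iff_of_injective _ (Subgroup.subtype_injective P)).mp h)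
  have hZ : ∀ Q' : Subgroup P, ∃ Z, IsZ M P y (Q'.map P.subtype) Z := fun Q' =>
    exists_isZ hMp hPp (hsmP Q') (hPK Q') hy.idem hy.loc hy.inv
  choose Z hZ using hZ
  have hL : ∀ Q' : Subgroup P, ∃ (f : Set (IrrCharacter (XQ (Q'.map P.subtype)))) (ξ : IrrCharacter (XQ (Q'.map P.subtype))),
      Q' ≠ ⊥ → (IsPBlock M f ∧ SubpairLE p M (Q'.map P.subtype) f P c ∧ ξ ∈ f ∧
        KerZ (PH P (Q'.map P.subtype)) (ξ : _ → ℂ) ∧ RR p (PH P (Q'.map P.subtype)) (ξ : _ → ℂ) (ξ : _ → ℂ) = 1 ∧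
        SecX M p (hsmP Q') (hPK Q') c ξ) := by
    intro Q'
    by_cases hQ : Q' = ⊥
    · exact ⟨∅, ⟨fun _ => 1, Cfsg.Agent.Lib.Char.Burnside2.isIrrCharacter_one⟩, fun h => absurd hQ h⟩
    · obtain ⟨f, ξ, hh⟩ := exists_level hMp hmax hab (hsmP Q') (hPK Q') (hnil _ (hsmP Q') (hsmne Q' hQ))
      exact ⟨f, ξ, fun _ => hh⟩
  choose f ξ hL using hL
  set ν : Subgroup P → P → ℂ := fun Q' a =>
    twTrace (ξ Q' : _ → ℂ) (⟨a, hPK Q' a.2⟩ : XQ (Q'.map P.subtype)) (res (XQ (Q'.map P.subtype)) (Z Q')) with hνdef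
  have hres : ∀ Q', res (XQ (Q'.map P.subtype)) (Z Q') * res (XQ (Q'.map P.subtype)) (Z Q') = res (XQ (Q'.map P.subtype)) (Z Q') := by
    intro Q'
    rw [res_mul_of_suppOn _ (hZ Q').supp (hZ Q').supp, (hZ Q').idem]
  have hchar : ∀ Q', IsCharacter P (ν Q') := by
    intro Q'
    have hinv : InvBy (PH P (Q'.map P.subtype)) (res (XQ (Q'.map P.subtype)) (Z Q')) := by
      intro g u hu
      rw [coeff_res, coeff_res]
      exact (hZ Q').inv (g : G) (u : G) (Subgroup.mem_subgroupOf.mp hu)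
    have h2 := isCharacter_nu (P := PH P (Q'.map P.subtype))
      (Cfsg.Agent.Lib.Char.Values.IsIrrCharacter.isCharacter (ξ Q').2) (hres Q') hinv
    exact Cfsg.Agent.Lib.Char.Basic.isCharacter_comp_hom h2 (Subgroup.subgroupOfEquivOfLe (hPK Q')).symm.toMonoidHom
  set κ' : Subgroup P → ℕ := fun Q' => Cfsg.charDegree (ν Q') with hκ'
  have hone : ∀ Q', ν Q' 1 = κ' Q' := fun Q' => (Cfsg.Agent.Lib.Char.Values.IsCharacter.charDegree_cast (hchar Q')).symm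
  have hκsum : ∀ Q', (κ' Q' : ℂ) = ∑ c' : XQ (Q'.map P.subtype), (Z Q').coeff c' * (ξ Q' : _ → ℂ) c' := by
    intro Q'
    rw [← hone, hνdef]
    simp only [twTrace]
    refine Finset.sum_congr rfl fun g _ => ?_
    rw [coeff_res]
    have e : g * (⟨((1 : P) : G), hPK Q' (1 : P).2⟩ : XQ (Q'.map P.subtype)) = g := by
      apply Subtype.ext
      simp
    rw [e]
  -- the glue data, except for the units
  have hgen : ∀ Q' : Subgroup P, Q' ≠ ⊥ → IsGeneralizedCharacter P (ν Q') := fun Q' _ =>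
    isGeneralized_of_isCharacter (hchar Q')
  have hper : ∀ Q' : Subgroup P, Q' ≠ ⊥ → ∀ q ∈ Q', ∀ a, ν Q' (q * a) = ν Q' a := by
    intro Q' hQ q hq a
    obtain ⟨-, -, -, hk, -, -⟩ := hL Q' hQ
    simp only [hνdef, twTrace]
    refine Finset.sum_congr rfl fun g _ => ?_
    congr 1
    have hqQ : (q : G) ∈ Q'.map P.subtype := ⟨q, hq, rfl⟩
    set q' : XQ (Q'.map P.subtype) := ⟨(q : G), hPK Q' q.2⟩ with hq'
    have hcen : IsCen q' := by
      intro h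
      apply Subtype.ext
      exact Subgroup.mem_centralizer_iff.mp h.2 _ hqQ |>.symm
    have e1 : (⟨((q * a : P) : G), hPK Q' (q * a).2⟩ : XQ (Q'.map P.subtype)) = q' * ⟨a, hPK Q' a.2⟩ := rfl
    rw [e1, ← mul_assoc, hcen g, mul_assoc]
    exact hk q' (Subgroup.mem_subgroupOf.mpr q.2) hcen _
  have hval : ∀ Q' : Subgroup P, Q' ≠ ⊥ → ∀ w, ∃ a : ℂ, IsIntegral ℤ a ∧ a * conj a = 1 ∧
      ν Q' w = a * κ' (Q' ⊔ Subgroup.zpowers w) := by
    intro Q' hQ w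
    obtain ⟨-, -, -, -, -, hsec⟩ := hL Q' hQ
    have hR' : (Q' ⊔ Subgroup.zpowers w) ≠ ⊥ := fun h => hQ (le_bot_iff.mp (h ▸ le_sup_left))
    obtain ⟨hf', hle', hξ', -, hRR', -⟩ := hL _ hR'
    have hR : (Q' ⊔ Subgroup.zpowers w).map P.subtype =
        localA (Q'.map P.subtype) (Subgroup.zpowers (⟨(w : G), hPK Q' w.2⟩ : XQ (Q'.map P.subtype))) := by
      unfold localA
      rw [Subgroup.map_sup, MonoidHom.map_zpowers, MonoidHom.map_zpowers]
      rfl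
    obtain ⟨a, ha, hu, he⟩ := level_relation hMp hPp hab hPe hy hne h1 (hsmP Q') (hPK Q') hsec (hZ Q')
      (w' := ⟨(w : G), hPK Q' w.2⟩) w.2 hR (hZ _) hf' hle' hξ' hRR'
    refine ⟨a, ha, hu, ?_⟩
    rw [hκsum]
    exact he
  -- the values at the cyclic subgroups
  have hcyc : ∀ v : P, v ≠ 1 → (Subgroup.zpowers v) ≠ ⊥ := fun v hv => by
    rw [Ne, Subgroup.zpowers_eq_bot]
    exact hv
  have hRv : ∀ v : P, (Subgroup.zpowers v).map P.subtype = Subgroup.zpowers (v : G) := fun v => by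
    rw [MonoidHom.map_zpowers]
    rfl
  have hcan : ∀ v : P, ∃ (ζ : IrrCharacter (Kz (v : G))) (zv : MonoidAlgebra ℂ G), v ≠ 1 →
      (IsZ M P y (Subgroup.zpowers (v : G)) zv ∧ ζ ∈ eBlk M p P c (v : G) ∧
      wt P (v : G) * ∑ g : Kz (v : G), reg p (ζ : Kz (v : G) → ℂ) g * conj ((ζ : Kz (v : G) → ℂ) g) = 1 ∧
      (κ' (Subgroup.zpowers v) : ℂ) = ∑ c' : Kz (v : G), zv.coeff c' * (ζ : Kz (v : G) → ℂ) c') := by
    intro v
    by_cases hv : v = 1
    · exact ⟨⟨fun _ => 1, Cfsg.Agent.Lib.Char.Burnside2.isIrrCharacter_one⟩, 0, fun h => absurd hv h⟩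
    · obtain ⟨-, hle', hξ', -, hRR', -⟩ := hL _ (hcyc v hv)
      obtain ⟨ζ, zv, h2, h3, h4, h5⟩ := transport_canon hMp hab hPe v.2 (hRv v) (hZ _) hle' hξ' hRR'
      exact ⟨ζ, zv, fun _ => ⟨h2, h3, h4, by rw [hκsum, h5]⟩⟩
  choose ζ zv hcan using hcan
  have hyrel : ∀ v : P, v ≠ 1 → ∀ (t : G → ℂ) (a : ℂ), (∀ g, MemLocalRing M (t g)) → IsClassFunction G t → MemLocalRing M a →
      (∀ c' : Kz (v : G), ¬ p ∣ orderOf c' → twTrace t ((v : G) * c') (Ev M p P c v) = a * (ζ v : Kz (v : G) → ℂ) c') →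
      twTrace t (v : G) y = a * κ' (Subgroup.zpowers v) := by
    intro v hv t a htl ht ha hsec
    obtain ⟨h2, -, -, h5⟩ := hcan v hv
    rw [h5]
    exact global_relation hMp hPp hPe hy hne h1 v.2 h2 htl ht
      (fun g => memLocalRing_of_isIntegral (isIntegral_irr (ζ v).2 g)) (isClassFunction_of_irr (ζ v).2) ha hsec
  have hunit : ∀ v : P, v ≠ 1 → ¬ p ∣ κ' (Subgroup.zpowers v) := by
    intro v hv hdvd
    obtain ⟨-, h3, h4, -⟩ := hcan v hv
    have hQP : Subgroup.zpowers (v : G) ≤ P := Subgroup.zpowers_le.mpr v.2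
    have hQ1 : Subgroup.zpowers (v : G) ≠ ⊥ := by
      rw [Ne, Subgroup.zpowers_eq_bot]
      exact fun h => hv (Subtype.ext h)
    have hnilv := hnil _ hQP hQ1 _ (isPBlock_eBlk hMp hPe v.2) (eBlk_spec hMp hPe v.2)
    obtain ⟨a, ha, hsec⟩ := exists_section_coeff hMp hmax hab v.2 hnilv χ₀ h3 h4
    have hal : MemLocalRing M a := memLocalRing_of_mem_rootRing Fintype.card_pos ha
    have h5 := hyrel v hv _ a (fun g => memLocalRing_of_isIntegral (isIntegral_irr χ₀.2 g)) (isClassFunction_of_irr χ₀.2) hal hsec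
    apply not_mem_nu hMp hPp (Cfsg.Agent.Lib.Char.Values.IsIrrCharacter.isCharacter χ₀.2)
      (fun g => memLocalRing_of_isIntegral (isIntegral_irr χ₀.2 g)) hy.loc hy.idem hy.inv hT v.2
    rw [h5]
    exact memLocalIdeal_mul_left hal ((memLocalIdeal_natCast_iff hMp).mpr hdvd)
  have hD : GlueData p κ' ν := ⟨hgen, hper, fun Q' _ => hone Q', hval, hunit⟩
  obtain ⟨s, μ, hs, hμ, hμv⟩ := hD.exists_mu (M := M) hMp (fun a b => Subtype.ext (hab _ a.2 _ b.2)) hPp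
  refine ⟨ζ, fun v => κ' (Subgroup.zpowers v), s, μ, fun v hv => ?_, hyrel, hunit, hs, hμ, hμv⟩
  obtain ⟨-, h3, h4, -⟩ := hcan v hv
  exact ⟨h3, h4⟩

end StageA

end Cfsg.Agent.Lib.Blocks.AbFree
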