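import Mathlib
import Cfsg.Agent.Lib.Blocks.AbFrob2

set_option autoImplicit false

namespace Cfsg.Agent.Lib.Blocks.AbFrob

open Cfsg Cfsg.Agent.Lib.Blocks.Sections Cfsg.Agent.Lib.Blocks.PrincipalCen
open Cfsg.Agent.Lib.Char.Virtual
open scoped ComplexConjugate

section Lattice

variable {G : Type*} [Group G] [Fintype G] {p : ℕ} [hp : Fact p.Prime] {P : Sylow p G} {m : ℕ}
  [Fintype (P : Subgroup G)] [Fintype (↥(P : Subgroup G) →* ℂˣ)]
  {M : Ideal AlgInt} [hMp : M.IsPrime]

variable (P) in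
/-- The set of orbit sums. -/
def TT : Set (↥(P : Subgroup G) → ℂ) := {t | ∃ ψ : ↥(P : Subgroup G) →* ℂˣ, ψ ≠ 1 ∧ t = theta ψ}

omit [Fintype G] hp [Fintype (P : Subgroup G)] in
theorem finite_TT : Finite (TT P) := by
  classical
  have : (TT P) ⊆ Set.range (theta (P := P)) := by
    rintro _ ⟨ψ, -, rfl⟩
    exact ⟨ψ, rfl⟩
  exact (Set.finite_range _).subset this

open Classical in
theorem Hyp.card_TT_mul (H : Hyp P m) : Nat.card (TT P) * m = Nat.card (P : Subgroup G) - 1 := by
  have hA : ∀ a b : ↥(P : Subgroup G), a * b = b * a := fun a b => Subtype.ext (H.comm a.2 b.2)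
  set S : Finset (↥(P : Subgroup G) →* ℂˣ) := Finset.univ.erase 1 with hS
  have hScard : S.card = Nat.card (P : Subgroup G) - 1 := by
    rw [hS, Finset.card_erase_of_mem (Finset.mem_univ _), Finset.card_univ, ← Nat.card_eq_fintype_card,
      card_dual hA]
  have h1 := Finset.card_eq_sum_card_image (theta (P := P)) S
  have h2 : ∀ b ∈ S.image (theta (P := P)), (S.filter (fun x => theta x = b)).card = m := by
    intro b hb
    obtain ⟨ψ, hψ, rfl⟩ := Finset.mem_image.1 hb
    have hψ1 : ψ ≠ 1 := Finset.ne_of_mem_erase hψ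
    rw [← H.card_orbF hψ1]
    congr 1
    ext φ
    simp only [Finset.mem_filter, mem_orbF, theta_eq_iff, hS, Finset.mem_erase, Finset.mem_univ, and_true]
    constructor
    · exact fun h => h.2
    · exact fun h => ⟨ne_one_of_mem_orb h hψ1, h⟩
  rw [Finset.sum_congr rfl h2, Finset.sum_const, smul_eq_mul, hScard] at h1
  rw [h1]
  congr 1
  have h3 : TT P = ↑(S.image (theta (P := P))) := by
    ext t
    simp only [TT, Set.mem_setOf_eq, Finset.coe_image, Set.mem_image, Finset.mem_coe, hS, Finset.mem_erase,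
      Finset.mem_univ, and_true]
    constructor
    · rintro ⟨ψ, h, rfl⟩
      exact ⟨ψ, h, rfl⟩
    · rintro ⟨ψ, h, rfl⟩
      exact ⟨ψ, h, rfl⟩
  rw [h3, Nat.card_coe_set_eq, Set.ncard_coe_finset]

variable (P m) in
/-- The image of `m - t`. -/
noncomputable def alpha (M : Ideal AlgInt) (t : ↥(P : Subgroup G) → ℂ) : G → ℂ :=
  secMap P m M (beta m t)

theorem Hyp.theta_mem_inv {t : ↥(P : Subgroup G) → ℂ} (ht : t ∈ TT P) : Inv t := by
  obtain ⟨ψ, -, rfl⟩ := ht
  exact theta_inv ψ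

theorem Hyp.isGeneralized_alpha (H : Hyp P m) (hm : m ≠ 0) {t : ↥(P : Subgroup G) → ℂ} (ht : t ∈ TT P) :
    IsGeneralizedCharacter G (alpha P m M t) := by
  obtain ⟨ψ, hψ, rfl⟩ := ht
  exact isGeneralized_secMap (M := M) fun χ _ => H.exists_int_coef hm hψ χ

open Classical in
theorem Hyp.inner_alpha (hM : IsPModular p M) (H : Hyp P m) (hm : m ≠ 0) {s t : ↥(P : Subgroup G) → ℂ} (hs : s ∈ TT P)
    (ht : t ∈ TT P) :
    classInner (alpha P m M s) (alpha P m M t) = if s = t then (m : ℂ) + 1 else m := by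
  obtain ⟨ψ, hψ, rfl⟩ := hs
  obtain ⟨φ, hφ, rfl⟩ := ht
  have hm' : (m : ℂ) ≠ 0 := Nat.cast_ne_zero.2 hm
  rw [alpha, alpha, classInner_secMap_secMap hM H hm (beta_inv (theta_inv ψ)),
    sum_erase_eq (beta_theta_one H hψ), classInner_beta_beta H hψ hφ]
  split_ifs <;> field_simp <;> ring

theorem alpha_one (hM : IsPModular p M) (t : ↥(P : Subgroup G) → ℂ) : alpha P m M t 1 = 0 :=
  secMap_reg hM _ (by
    rw [orderOf_one]
    exact hp.out.one_lt.ne' ∘ Nat.dvd_one.mp)

omit [Fintype (P : Subgroup G)] [Fintype (↥(P : Subgroup G) →* ℂˣ)] in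
theorem Hyp.apply_ne_zero (hM : IsPModular p M) (H : Hyp P m) {y : G} (hy : y ∈ (P : Subgroup G))
    {χ : IrrCharacter G} (hχ : χ ∈ principalBlock M G) : (χ : G → ℂ) y ≠ 0 := by
  intro h0
  have h1 := hχ y
  simp only [centralChar, h0, mul_zero, zero_div, sub_zero, mul_one, div_one] at h1
  rw [Cfsg.Agent.Lib.Blocks.Local.memLocalIdeal_natCast_iff hM] at h1
  exact P.not_dvd_index (h1.trans (Subgroup.index_dvd_of_le (H.le_cen hy)))

open Classical in
variable (P m M) in
/-- The data on the principal block produced by the lattice argument. -/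
structure Data (ε d : ℤ) (a : IrrCharacter G → ℤ) (f : TT P → IrrCharacter G) : Prop where
  hε : ε = 1 ∨ ε = -1
  hinj : Function.Injective f
  hfB : ∀ t, f t ∈ principalBlock M G
  hX : ∀ (s : TT P) (χ : IrrCharacter G), χ ∉ Set.range f →
    classInner (alpha P m M s.1) (χ : G → ℂ) = a χ
  hY : ∀ s t : TT P, classInner (alpha P m M s.1) (f t : G → ℂ) = (d : ℂ) - ε * if s = t then 1 else 0

open Classical in
/-- The lattice step. -/
theorem Hyp.exists_data (hM : IsPModular p M) (H : Hyp P m) (hm : m ≠ 0)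
    (hm2 : m + 1 < Nat.card (P : Subgroup G)) :
    ∃ (ε d : ℤ) (a : IrrCharacter G → ℤ) (f : TT P → IrrCharacter G), Data P m M ε d a f := by
  haveI : Finite (TT P) := finite_TT
  have hcard := H.card_TT_mul
  have hT2 : 1 < Nat.card (TT P) := by
    by_contra hc
    have h1 : Nat.card (TT P) * m ≤ 1 * m := Nat.mul_le_mul_right _ (not_lt.1 hc)
    omega
  obtain ⟨s₀, t₀, hst⟩ := (Finite.one_lt_card_iff_nontrivial.1 hT2).exists_pair_ne
  have hgen : ∀ s : TT P, IsGeneralizedCharacter G (alpha P m M s.1) := fun s =>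
    H.isGeneralized_alpha hm s.2
  have hinner : ∀ s t : TT P, classInner (alpha P m M s.1) (alpha P m M t.1) =
      if s = t then (m : ℂ) + 1 else m := by
    intro s t
    rw [H.inner_alpha hM hm s.2 t.2]
    simp only [Subtype.ext_iff]
  obtain ⟨ε', f, hε', hinj, hD⟩ := Cfsg.Agent.Lib.Char.FrobPair.exists_signed_injection (G := G) (T := TT P)
    (fun s t => alpha P m M t.1 - alpha P m M s.1)
    (fun s t u => by abel)
    (fun s t => isGeneralized_sub (hgen t) (hgen s))
    (fun s t => by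
      simp only [Pi.sub_apply, alpha_one hM, sub_self])
    (fun s t u hst hsu => by
      rw [classInner_sub_left, classInner_sub_right, classInner_sub_right, hinner, hinner, hinner, hinner,
        if_neg hst.symm, if_neg hsu, if_pos rfl]
      split_ifs <;> ring)
  have hε2 : ε' * ε' = 1 := by
    rcases hε' with h | h <;> rw [h] <;> ring
  have hε0 : ε' ≠ 0 := by
    rcases hε' with h | h <;> rw [h] <;> norm_num
  have hεconj : conj ε' = ε' := by
    rcases hε' with h | h <;> rw [h] <;> simp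
  have hff : ∀ s t : TT P, classInner (f s : G → ℂ) (f t : G → ℂ) = if s = t then 1 else 0 := by
    intro s t
    rw [Cfsg.Agent.Lib.Char.Ortho.classInner_irr (f s).2 (f t).2]
    by_cases h : s = t
    · rw [if_pos h, if_pos (by rw [h])]
    · rw [if_neg h, if_neg (fun h' => h (hinj (Subtype.ext h')))]
  have hdiff : ∀ (s t : TT P) (χ : IrrCharacter G), classInner (alpha P m M t.1) (χ : G → ℂ) -
      classInner (alpha P m M s.1) (χ : G → ℂ) =
      ε' * (classInner (f s : G → ℂ) (χ : G → ℂ) - classInner (f t : G → ℂ) (χ : G → ℂ)) := by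
    intro s t χ
    rw [← classInner_sub_left, hD s t, classInner_smul_left, classInner_sub_left]
  have hint : ∀ (s : TT P) (χ : IrrCharacter G), ∃ n : ℤ, classInner (alpha P m M s.1) (χ : G → ℂ) = n :=
    fun s χ => exists_int_classInner (hgen s) (isGeneralized_of_isIrr χ.2)
  let dd : TT P → ℂ := fun t => classInner (alpha P m M t.1) (f t : G → ℂ) + ε'
  have hdd : ∀ s t : TT P, s ≠ t → classInner (alpha P m M s.1) (f t : G → ℂ) = dd t := by
    intro s t hne
    have h1 := hdiff t s (f t)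
    rw [hff, hff, if_pos rfl, if_neg hne] at h1
    simp only [dd]
    linear_combination h1
  have hconst : ∀ s t : TT P, dd s = dd t := by
    intro s t
    by_cases hne : s = t
    · rw [hne]
    have h1 : classInner (alpha P m M s.1) (alpha P m M s.1 - alpha P m M t.1) = 1 := by
      rw [classInner_sub_right, hinner, hinner, if_pos rfl, if_neg hne]
      ring
    have h2 : alpha P m M s.1 - alpha P m M t.1 = ε' • ((f t : G → ℂ) - (f s : G → ℂ)) := hD t s
    rw [h2, classInner_smul_right, hεconj, classInner_sub_right, hdd s t hne] at h1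
    have h3 : classInner (alpha P m M s.1) (f s : G → ℂ) = dd s - ε' := by
      simp only [dd]
      ring
    rw [h3] at h1
    have h4 : ε' * (dd s - dd t) = 0 := by
      linear_combination hε2 - h1
    have := (mul_eq_zero.1 h4).resolve_left hε0
    exact sub_eq_zero.1 this
  obtain ⟨n₀, hn₀⟩ := hint s₀ (f s₀)
  obtain ⟨ε, hε⟩ : ∃ ε : ℤ, (ε : ℂ) = ε' ∧ (ε = 1 ∨ ε = -1) := by
    rcases hε' with h | h
    · exact ⟨1, by rw [h]; simp, Or.inl rfl⟩
    · exact ⟨-1, by rw [h]; simp, Or.inr rfl⟩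
  let a : IrrCharacter G → ℤ := fun χ => (hint s₀ χ).choose
  have ha : ∀ χ : IrrCharacter G, classInner (alpha P m M s₀.1) (χ : G → ℂ) = a χ := fun χ => (hint s₀ χ).choose_spec
  refine ⟨ε, n₀ + ε, a, f, ⟨hε.2, hinj, ?_, ?_, ?_⟩⟩
  · intro t
    obtain ⟨s, hs⟩ : ∃ s : TT P, s ≠ t := by
      by_cases h : s₀ = t
      · exact ⟨t₀, fun h' => hst (h.trans h'.symm)⟩
      · exact ⟨s₀, h⟩
    by_contra hn
    have h1 := hdiff t s (f t)
    rw [hff, hff, if_pos rfl, if_neg hs] at h1
    have h0 : ∀ u : TT P, classInner (alpha P m M u.1) (f t : G → ℂ) = 0 := by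
      intro u
      rw [alpha, classInner_secMap, if_neg]
      simpa using hn
    rw [h0, h0] at h1
    apply hε0
    linear_combination -h1
  · intro s χ hχ
    rw [← ha]
    have h1 := hdiff s₀ s χ
    have h2 : ∀ u : TT P, classInner (f u : G → ℂ) (χ : G → ℂ) = 0 := by
      intro u
      apply Cfsg.Agent.Lib.Char.Ortho.classInner_irr_of_ne (f u).2 χ.2
      intro h
      exact hχ ⟨u, Subtype.ext h⟩
    rw [h2, h2] at h1
    linear_combination h1
  · intro s t
    have hd0 : (((n₀ + ε : ℤ)) : ℂ) = dd t := by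
      rw [← hconst s₀ t]
      simp only [dd]
      rw [hn₀, ← hε.1]
      push_cast
      ring
    rw [hd0]
    by_cases h : s = t
    · subst h
      rw [if_pos rfl, hε.1]
      simp only [dd]
      ring
    · rw [if_neg h, hdd s t h]
      ring

noncomputable instance : Fintype (TT P) := @Fintype.ofFinite _ finite_TT

section DataSec

variable {ε d : ℤ} {a : IrrCharacter G → ℤ} {f : TT P → IrrCharacter G}

/-- The element of `TT P` attached to `ψ ≠ 1`. -/
noncomputable def tOf (ψ : ↥(P : Subgroup G) →* ℂˣ) (hψ : ψ ≠ 1) : TT P := ⟨theta ψ, ψ, hψ, rfl⟩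

open Classical in
variable (M) in
/-- The characters of the principal block outside the exceptional family. -/
noncomputable def XF (f : TT P → IrrCharacter G) : Finset (IrrCharacter G) :=
  (B0 M G).filter (· ∉ Set.range f)

omit hp hMp in
@[simp] theorem mem_XF {χ : IrrCharacter G} :
    χ ∈ XF M f ↔ χ ∈ principalBlock M G ∧ χ ∉ Set.range f := by
  simp [XF]

theorem Data.coef_X (D : Data P m M ε d a f) {ψ : ↥(P : Subgroup G) →* ℂˣ} (hψ : ψ ≠ 1)
    {χ : IrrCharacter G} (hχ : χ ∈ XF M f) : coef P m (beta m (theta ψ)) χ = a χ := by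
  classical
  have h := D.hX (tOf ψ hψ) χ (mem_XF.1 hχ).2
  rw [← h]
  simp only [tOf, alpha]
  rw [classInner_secMap, if_pos (mem_B0.2 (mem_XF.1 hχ).1)]

open Classical in
theorem Data.coef_Y (D : Data P m M ε d a f) {ψ : ↥(P : Subgroup G) →* ℂˣ} (hψ : ψ ≠ 1) (t : TT P) :
    coef P m (beta m (theta ψ)) (f t) = (d : ℂ) - ε * if theta ψ = t.1 then 1 else 0 := by
  have h := D.hY (tOf ψ hψ) t
  have h1 : (tOf ψ hψ = t) ↔ theta ψ = t.1 := by
    rw [Subtype.ext_iff]
    rfl
  simp only [h1] at h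
  rw [← h]
  simp only [tOf, alpha]
  rw [classInner_secMap, if_pos (mem_B0.2 (D.hfB t))]

theorem Data.value_X (D : Data P m M ε d a f) (H : Hyp P m) (hm : m ≠ 0) {χ : IrrCharacter G} (hχ : χ ∈ XF M f)
    {y : ↥(P : Subgroup G)} (hy : y ≠ 1) : (χ : G → ℂ) y = a χ := by
  classical
  have hA : ∀ a b : ↥(P : Subgroup G), a * b = b * a := fun a b => Subtype.ext (H.comm a.2 b.2)
  rw [H.value_formula hm χ (fun _ => (a χ : ℂ)) (fun ψ hψ => D.coef_X hψ hχ) hy, ← Finset.mul_sum,
    sum_erase_dual hA hy]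
  ring

theorem Data.value_Y (D : Data P m M ε d a f) (H : Hyp P m) (hm : m ≠ 0) (t : TT P)
    {y : ↥(P : Subgroup G)} (hy : y ≠ 1) : (f t : G → ℂ) y = (d : ℂ) + ε * t.1 y := by
  classical
  have hA : ∀ a b : ↥(P : Subgroup G), a * b = b * a := fun a b => Subtype.ext (H.comm a.2 b.2)
  rw [H.value_formula hm (f t) (fun φ => (d : ℂ) - ε * if theta φ = t.1 then 1 else 0)
    (fun ψ hψ => D.coef_Y hψ t) hy]
  have h1 : ∀ φ ∈ (Finset.univ.erase 1 : Finset (↥(P : Subgroup G) →* ℂˣ)),
      ((d : ℂ) - ε * if theta φ = t.1 then 1 else 0) * ((φ y : ℂˣ) : ℂ) =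
      (d : ℂ) * ((φ y : ℂˣ) : ℂ) - ε * if theta φ = t.1 then ((φ y : ℂˣ) : ℂ) else 0 := by
    intro φ _
    split_ifs <;> ring
  rw [Finset.sum_congr rfl h1, Finset.sum_sub_distrib, ← Finset.mul_sum, ← Finset.mul_sum,
    sum_erase_dual hA hy, Finset.sum_ite, Finset.sum_const_zero, add_zero]
  obtain ⟨ψ, hψ, ht⟩ := t.2
  have h2 : (Finset.filter (fun φ => theta φ = t.1) (Finset.univ.erase 1 : Finset (↥(P : Subgroup G) →* ℂˣ))) =
      orbF ψ := by
    ext φ
    rw [ht]
    simp only [Finset.mem_filter, Finset.mem_erase, Finset.mem_univ, and_true, mem_orbF, theta_eq_iff]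
    exact ⟨fun h => h.2, fun h => ⟨ne_one_of_mem_orb h hψ, h⟩⟩
  rw [h2, ht]
  simp only [theta]
  ring

theorem Data.a_ne_zero (D : Data P m M ε d a f) (hM : IsPModular p M) (H : Hyp P m) (hm : m ≠ 0)
    {χ : IrrCharacter G} (hχ : χ ∈ XF M f) {y : ↥(P : Subgroup G)} (hy : y ≠ 1) : a χ ≠ 0 := by
  intro h0
  have h1 := D.value_X H hm hχ hy
  rw [h0] at h1
  exact H.apply_ne_zero hM y.2 (mem_XF.1 hχ).1 (by simpa using h1)

omit [Fintype G] in
open Classical in
theorem Data.sum_B0 [Fintype G] (D : Data P m M ε d a f) {R : Type*} [AddCommMonoid R] (F : IrrCharacter G → R) :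
    ∑ χ ∈ B0 M G, F χ = ∑ χ ∈ XF M f, F χ + ∑ t : TT P, F (f t) := by
  rw [← Finset.sum_filter_add_sum_filter_not (B0 M G) (· ∉ Set.range f), add_comm, add_comm (∑ χ ∈ XF M f, F χ)]
  congr 1
  simp only [not_not]
  have h1 : (B0 M G).filter (· ∈ Set.range f) = Finset.univ.image f := by
    ext χ
    simp only [Finset.mem_filter, mem_B0, Set.mem_range, Finset.mem_image, Finset.mem_univ, true_and]
    constructor
    · exact fun h => h.2
    · rintro ⟨t, rfl⟩
      exact ⟨D.hfB t, t, rfl⟩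
  rw [h1, Finset.sum_image (fun x _ y _ h => D.hinj h)]

theorem Data.coef_of_mem (D : Data P m M ε d a f) (s : TT P) (χ : IrrCharacter G) (hχ : χ ∈ B0 M G) :
    coef P m (beta m s.1) χ = classInner (alpha P m M s.1) (χ : G → ℂ) := by
  classical
  rw [alpha, classInner_secMap, if_pos hχ]

open Classical in
/-- The expansion of `α_s`. -/
theorem Data.alpha_apply (D : Data P m M ε d a f) (s : TT P) (g : G) :
    alpha P m M s.1 g = ∑ χ ∈ XF M f, (a χ : ℂ) * (χ : G → ℂ) g +
      ((d : ℂ) * ∑ t : TT P, (f t : G → ℂ) g - ε * (f s : G → ℂ) g) := by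
  simp only [alpha, secMap]
  rw [D.sum_B0]
  congr 1
  · refine Finset.sum_congr rfl fun χ hχ => ?_
    have h1 : χ ∈ B0 M G := mem_B0.2 (mem_XF.1 hχ).1
    rw [D.coef_of_mem s χ h1, D.hX s χ (mem_XF.1 hχ).2]
  · have h2 : ∀ t : TT P, coef P m (beta m s.1) (f t) * (f t : G → ℂ) g =
        (d : ℂ) * (f t : G → ℂ) g - if t = s then ε * (f t : G → ℂ) g else 0 := by
      intro t
      rw [D.coef_of_mem s (f t) (mem_B0.2 (D.hfB t)), D.hY s t]
      by_cases h : s = t
      · rw [if_pos h, if_pos h.symm]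
        ring
      · rw [if_neg h, if_neg (Ne.symm h)]
        ring
    rw [Finset.sum_congr rfl fun t _ => h2 t, Finset.sum_sub_distrib, ← Finset.mul_sum,
      Finset.sum_ite_eq' Finset.univ s, if_pos (Finset.mem_univ _)]

open Classical in
/-- The norm identity. -/
theorem Data.norm (D : Data P m M ε d a f) (hM : IsPModular p M) (H : Hyp P m) (hm : m ≠ 0) (s : TT P) :
    (d - ε) ^ 2 + ((Nat.card (TT P) : ℤ) - 1) * d ^ 2 + ∑ χ ∈ XF M f, a χ ^ 2 = (m : ℤ) + 1 := by
  have h0 := H.inner_alpha hM hm s.2 s.2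
  rw [if_pos rfl] at h0
  have h1 : classInner (alpha P m M s.1) (alpha P m M s.1) =
      ∑ χ ∈ B0 M G, conj (coef P m (beta m s.1) χ) * classInner (alpha P m M s.1) (χ : G → ℂ) := by
    have h10 : alpha P m M s.1 = ∑ χ ∈ B0 M G, coef P m (beta m s.1) χ • (χ : G → ℂ) := secMap_eq_sum _
    calc classInner (alpha P m M s.1) (alpha P m M s.1)
        = classInner (alpha P m M s.1) (∑ χ ∈ B0 M G, coef P m (beta m s.1) χ • (χ : G → ℂ)) := by rw [← h10]
      _ = _ := by
        rw [classInner_finset_sum_right]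
        refine Finset.sum_congr rfl fun χ _ => ?_
        rw [classInner_smul_right]
  rw [h1, D.sum_B0] at h0
  have h2 : ∀ χ ∈ XF M f, conj (coef P m (beta m s.1) χ) * classInner (alpha P m M s.1) (χ : G → ℂ) =
      ((a χ ^ 2 : ℤ) : ℂ) := by
    intro χ hχ
    rw [D.coef_of_mem s χ (mem_B0.2 (mem_XF.1 hχ).1), D.hX s χ (mem_XF.1 hχ).2, map_intCast]
    push_cast
    ring
  have h3 : ∀ t : TT P, conj (coef P m (beta m s.1) (f t)) * classInner (alpha P m M s.1) (f t : G → ℂ) =
      (((d - ε * if s = t then 1 else 0) ^ 2 : ℤ) : ℂ) := by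
    intro t
    rw [D.coef_of_mem s (f t) (mem_B0.2 (D.hfB t)), D.hY s t]
    have h4 : (d : ℂ) - ε * (if s = t then 1 else 0) = ((d - ε * if s = t then 1 else 0 : ℤ) : ℂ) := by
      push_cast
      rfl
    rw [h4, map_intCast]
    push_cast
    ring
  rw [Finset.sum_congr rfl h2, Finset.sum_congr rfl fun t _ => h3 t] at h0
  have h5 : ∑ t : TT P, (d - ε * if s = t then 1 else 0) ^ 2 =
      (d - ε) ^ 2 + ((Nat.card (TT P) : ℤ) - 1) * d ^ 2 := by
    rw [← Finset.add_sum_erase _ _ (Finset.mem_univ s), if_pos rfl, mul_one]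
    congr 1
    have h6 : ∀ t ∈ (Finset.univ.erase s : Finset (TT P)), (d - ε * if s = t then 1 else 0) ^ 2 = d ^ 2 := by
      intro t ht
      rw [if_neg (Finset.ne_of_mem_erase ht).symm]
      ring
    rw [Finset.sum_congr rfl h6, Finset.sum_const, Finset.card_erase_of_mem (Finset.mem_univ _),
      Finset.card_univ, ← Nat.card_eq_fintype_card]
    have h7 : 1 ≤ Nat.card (TT P) := by
      haveI : Finite (TT P) := finite_TT
      haveI : Nonempty (TT P) := ⟨s⟩
      exact Nat.card_pos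
    rw [nsmul_eq_mul]
    push_cast [h7]
    ring
  rw [← h5]
  have h8 : ((∑ χ ∈ XF M f, a χ ^ 2 + ∑ t : TT P, (d - ε * if s = t then 1 else 0) ^ 2 : ℤ) : ℂ) = ((m : ℤ) + 1 : ℤ) := by
    push_cast at h0 ⊢
    exact h0
  have h9 := Int.cast_injective h8
  linarith

theorem Data.reg_eq (D : Data P m M ε d a f) (hM : IsPModular p M) {g : G} (hg : ¬ p ∣ orderOf g) (s t : TT P) :
    (f s : G → ℂ) g = (f t : G → ℂ) g := by
  classical
  have h1 := D.alpha_apply s g
  have h2 := D.alpha_apply t g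
  rw [alpha, secMap_reg hM _ hg] at h1 h2
  have h3 : (ε : ℂ) * ((f s : G → ℂ) g - (f t : G → ℂ) g) = 0 := by
    linear_combination h1 - h2
  have hε0 : (ε : ℂ) ≠ 0 := by
    rcases D.hε with h | h <;> rw [h] <;> norm_num
  exact sub_eq_zero.1 ((mul_eq_zero.1 h3).resolve_left hε0)

open Classical in
theorem Data.reg_rel (D : Data P m M ε d a f) (hM : IsPModular p M) {g : G} (hg : ¬ p ∣ orderOf g) (s : TT P) :
    ((Nat.card (TT P) : ℂ) * d - ε) * (f s : G → ℂ) g + ∑ χ ∈ XF M f, (a χ : ℂ) * (χ : G → ℂ) g = 0 := by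
  have h1 := D.alpha_apply s g
  rw [alpha, secMap_reg hM _ hg] at h1
  have h2 : ∑ t : TT P, (f t : G → ℂ) g = (Nat.card (TT P) : ℂ) * (f s : G → ℂ) g := by
    rw [Finset.sum_congr rfl fun t _ => D.reg_eq hM hg t s, Finset.sum_const, Finset.card_univ,
      Nat.card_eq_fintype_card, nsmul_eq_mul]
  rw [h2] at h1
  linear_combination -h1

open Classical in
theorem Data.triv_notMem (D : Data P m M ε d a f) (H : Hyp P m) (hm : m ≠ 0) (hT : ∀ t : TT P, ∃ s : TT P, s ≠ t) :
    Cfsg.Agent.Lib.Blocks.Principal.trivChar G ∉ Set.range f := by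
  rintro ⟨t, ht⟩
  obtain ⟨s, hs⟩ := hT t
  have hval : ∀ u : TT P, (d : ℂ) - ε * (if u = t then 1 else 0) = 1 := by
    intro u
    obtain ⟨ψ, hψ, hu⟩ := u.2
    have h1 := D.coef_Y hψ t
    rw [H.coef_beta hm hψ, ht] at h1
    have h2 : resP P ((Cfsg.Agent.Lib.Blocks.Principal.trivChar G : IrrCharacter G) : G → ℂ) =
        chi (1 : ↥(P : Subgroup G) →* ℂˣ) := rfl
    rw [h2, classInner_chi, classInner_chi, if_pos rfl, if_neg hψ, ← hu] at h1
    have h3 : (u.1 = t.1) ↔ u = t := Subtype.ext_iff.symm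
    simp only [h3] at h1
    linear_combination -h1
  have h1 := hval s
  have h2 := hval t
  rw [if_neg hs] at h1
  rw [if_pos rfl] at h2
  have : (ε : ℂ) = 0 := by linear_combination h1 - h2
  rcases D.hε with h | h <;> rw [h] at this <;> norm_num at this

end DataSec

end Lattice

end Cfsg.Agent.Lib.Blocks.AbFrob
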