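import Mathlib
import Cfsg.Agent.Lib.Blocks.AbFrob3

set_option autoImplicit false

namespace Cfsg.Agent.Lib.Blocks.AbFrob

open Cfsg Cfsg.Agent.Lib.Blocks.Sections Cfsg.Agent.Lib.Blocks.PrincipalCen
open Cfsg.Agent.Lib.Char.Virtual
open scoped ComplexConjugate

section Three

variable {G : Type*} [Group G] [Finite G] {p : ℕ} {P : Sylow p G}

omit [Finite G] in
theorem normal_CC : ((CC P).subgroupOf (NN P)).Normal := by
  have h := (P : Subgroup G).normalizerMonoidHom_ker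
  have h2 : ((CC P).subgroupOf (NN P)) = (P : Subgroup G).normalizerMonoidHom.ker := h.symm
  rw [h2]
  exact MonoidHom.normal_ker _

omit [Finite G] in
theorem Hyp.pow_three_mem (H : Hyp P 3) {k : G} (hk : k ∈ NN P) : k ^ 3 ∈ CC P := by
  haveI := normal_CC (P := P)
  have h := Subgroup.pow_index_mem ((CC P).subgroupOf (NN P)) (⟨k, hk⟩ : ↥(NN P))
  have h2 : ((CC P).subgroupOf (NN P)).index = 3 := H.hCN
  rw [h2, Subgroup.mem_subgroupOf] at h
  simpa using h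

/-- An element of `N - C` has a nontrivial cube root of unity image: `k² ∉ C`. -/
theorem Hyp.pow_two_notMem (H : Hyp P 3) {k : G} (hk : k ∈ NN P) (hkC : k ∉ CC P) : k ^ 2 ∉ CC P := by
  intro h
  apply hkC
  have h3 := H.pow_three_mem hk
  have : k = k ^ 3 * (k ^ 2)⁻¹ := by group
  rw [this]
  exact mul_mem h3 (inv_mem h)

omit [Finite G] in
theorem Hyp.exists_notMem (H : Hyp P 3) : ∃ k, k ∈ NN P ∧ k ∉ CC P := by
  by_contra hc
  push Not at hc
  have h1 : (CC P).relIndex (NN P) = 1 := Subgroup.relIndex_eq_one.2 hc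
  have h2 := H.hCN
  omega

variable [hp : Fact p.Prime]

/-- The norm identity. -/
theorem Hyp.norm_eq_one (H : Hyp P 3) {k : ↥(NN P)} (hk : (k : G) ∉ CC P) (w : ↥(P : Subgroup G)) :
    w * conjP k w * conjP k⁻¹ w = 1 := by
  have hcomm : ∀ a b : ↥(P : Subgroup G), a * b = b * a := fun a b => Subtype.ext (H.comm a.2 b.2)
  by_contra hne
  have hne' : ((w * conjP k w * conjP k⁻¹ w : ↥(P : Subgroup G)) : G) ≠ 1 := fun h => hne (Subtype.ext h)
  apply hk
  rw [← H.hfrob _ (w * conjP k w * conjP k⁻¹ w : ↥(P : Subgroup G)).2 hne']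
  refine ⟨?_, k.2⟩
  show (k : G) ∈ Cen _
  rw [mem_cen_iff]
  have h1 : conjP k (w * conjP k w * conjP k⁻¹ w) = w * conjP k w * conjP k⁻¹ w := by
    rw [map_mul, map_mul, ← conjP_mul, ← conjP_mul, mul_inv_cancel, conjP_one]
    have h2 : conjP (k * k) w = conjP k⁻¹ w := by
      apply Subtype.ext
      have h3 := H.pow_three_mem k.2
      have h3' : (k : G) * k * k ∈ CC P := by simpa [pow_succ] using h3
      have h4 := (mem_CC_iff.1 h3') _ (conjP k⁻¹ w).2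
      simp only [coe_conjP, Subgroup.coe_mul, Subgroup.coe_inv, inv_inv] at h4 ⊢
      calc (k : G) * k * w * ((k : G) * k)⁻¹
          = (k : G) * k * k * ((k : G)⁻¹ * w * k) * ((k : G) * k * k)⁻¹ := by group
        _ = _ := h4
    rw [h2]
    calc conjP k w * conjP k⁻¹ w * w = w * (conjP k w * conjP k⁻¹ w) := hcomm _ _
      _ = w * conjP k w * conjP k⁻¹ w := (mul_assoc _ _ _).symm
  exact congrArg Subtype.val h1

/-- No element of `P#` is conjugate to its inverse for `p` odd. -/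
theorem Hyp.not_real (H : Hyp P 3) (hp2 : p ≠ 2) {y n : G} (hy : y ∈ (P : Subgroup G)) (hy1 : y ≠ 1)
    (hn : n ∈ NN P) (e : n * y * n⁻¹ = y⁻¹) : False := by
  have h2 : n ^ 2 ∈ CC P := by
    rw [← H.hfrob y hy hy1]
    refine ⟨?_, pow_mem hn 2⟩
    show n ^ 2 ∈ Cen y
    rw [mem_cen_iff]
    have : n ^ 2 * y * (n ^ 2)⁻¹ = n * (n * y * n⁻¹) * n⁻¹ := by
      rw [pow_two]
      group
    rw [this, e]
    have h3 : n * y⁻¹ * n⁻¹ = (n * y * n⁻¹)⁻¹ := by group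
    rw [h3, e, inv_inv]
  have hnC : n ∈ CC P := by
    by_contra hc
    exact H.pow_two_notMem hn hc h2
  have h3 := (mem_CC_iff.1 hnC) y hy
  rw [e] at h3
  have h4 : y ^ 2 = 1 := by
    rw [pow_two]
    nth_rewrite 1 [← h3]
    group
  letI : Fintype G := Fintype.ofFinite G
  obtain ⟨k, hk⟩ := orderOf_of_mem P hy
  have h5 : orderOf y ∣ 2 := orderOf_dvd_of_pow_eq_one h4
  rw [hk] at h5
  have h6 : p ^ k = 1 := by
    by_contra hne
    obtain ⟨q, hq, hqd⟩ := Nat.exists_prime_and_dvd hne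
    have h7 : q = p := (Nat.prime_dvd_prime_iff_eq hq hp.out).1 (hq.dvd_of_dvd_pow hqd)
    have h8 : q = 2 := (Nat.prime_dvd_prime_iff_eq hq Nat.prime_two).1 (hqd.trans h5)
    exact hp2 (h7.symm.trans h8)
  rw [← hk] at h6
  exact hy1 (orderOf_eq_one_iff.1 h6)

/-- Conjugating a `p`-element into `P`. -/
theorem exists_conj_mem (P : Sylow p G) {z : G} {k : ℕ} (hz : orderOf z = p ^ k) :
    ∃ c : G, c * z * c⁻¹ ∈ (P : Subgroup G) := by
  have h1 : IsPGroup p (Subgroup.zpowers z) := by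
    rw [IsPGroup.iff_card]
    exact ⟨k, by rw [Nat.card_zpowers, hz]⟩
  obtain ⟨S, hS⟩ := h1.exists_le_sylow
  obtain ⟨c, hc⟩ := MulAction.exists_smul_eq G S P
  refine ⟨c, ?_⟩
  have h2 : z ∈ (S : Subgroup G) := hS (Subgroup.mem_zpowers z)
  rw [← hc, Sylow.coe_subgroup_smul]
  have := Subgroup.smul_mem_pointwise_smul _ (MulAut.conj c) (S : Subgroup G) h2
  simpa [MulAut.smul_def, MulAut.conj_apply] using this

/-- The `p`-part of a product of two involutions is inverted by them. -/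
theorem exists_part_inverted {t t₁ : G} (ht : t * t = 1) (ht₁ : t₁ * t₁ = 1) :
    ∃ z, IsPPart p (t₁ * t) z ∧ t * z * t⁻¹ = z⁻¹ := by
  obtain ⟨z, hz⟩ := Cfsg.Agent.Lib.Blocks.SecondMain.exists_isPPart p (t₁ * t)
  refine ⟨z, hz, ?_⟩
  obtain ⟨s, hs⟩ := isPPart_exists_pow_eq hz
  rw [← hs, ← conj_pow, ← inv_pow]
  congr 1
  have h1 : t⁻¹ = t := inv_eq_of_mul_eq_one_left ht
  have h2 : t₁⁻¹ = t₁ := inv_eq_of_mul_eq_one_left ht₁
  rw [mul_inv_rev, h1, h2]
  calc t * (t₁ * t) * t = t * t₁ * (t * t) := by group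
    _ = t * t₁ := by rw [ht, mul_one]

/-- For `p` odd, products of conjugates of an involution are `p`-regular. -/
theorem Hyp.reg_of_odd (H : Hyp P 3) (hp2 : p ≠ 2) {t t₁ : G} (ht : t * t = 1) (ht₁ : t₁ * t₁ = 1) :
    ¬ p ∣ orderOf (t₁ * t) := by
  intro hd
  obtain ⟨z, hz, hinv⟩ := exists_part_inverted (p := p) ht ht₁
  have hz1 : z ≠ 1 := by
    rintro rfl
    obtain ⟨v, hv, _, _, hv2⟩ := hz
    rw [one_mul] at hv
    rw [hv] at hv2
    exact hv2 hd
  obtain ⟨_, _, _, ⟨k, hk⟩, _⟩ := hz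
  obtain ⟨c, hc⟩ := exists_conj_mem P hk
  have hy1 : c * z * c⁻¹ ≠ 1 := by
    intro h
    apply hz1
    have : z = c⁻¹ * (c * z * c⁻¹) * c := by group
    rw [this, h]
    group
  have e : (c * t * c⁻¹) * (c * z * c⁻¹) * (c * t * c⁻¹)⁻¹ = (c * z * c⁻¹)⁻¹ := by
    have : (c * t * c⁻¹) * (c * z * c⁻¹) * (c * t * c⁻¹)⁻¹ = c * (t * z * t⁻¹) * c⁻¹ := by group
    rw [this, hinv]
    group
  have hx : (c * t * c⁻¹) * (c * z * c⁻¹) * (c * t * c⁻¹)⁻¹ ∈ (P : Subgroup G) := by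
    rw [e]
    exact inv_mem hc
  obtain ⟨n, hn, e2⟩ := H.fusion hc hx
  exact H.not_real hp2 hc hy1 hn (e2.trans e)

/-- Any two elements of a Sylow subgroup commute. -/
theorem Hyp.comm_of_mem_sylow {m : ℕ} (H : Hyp P m) (S : Sylow p G) {a b : G} (ha : a ∈ (S : Subgroup G))
    (hb : b ∈ (S : Subgroup G)) : a * b = b * a := by
  obtain ⟨c, hc⟩ := MulAction.exists_smul_eq G S P
  have key : ∀ x ∈ (S : Subgroup G), c * x * c⁻¹ ∈ (P : Subgroup G) := by
    intro x hx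
    rw [← hc, Sylow.coe_subgroup_smul]
    have := Subgroup.smul_mem_pointwise_smul _ (MulAut.conj c) (S : Subgroup G) hx
    simpa [MulAut.smul_def, MulAut.conj_apply] using this
  have h := H.comm (key a ha) (key b hb)
  have h2 : c * (a * b) * c⁻¹ = c * (b * a) * c⁻¹ := by
    calc c * (a * b) * c⁻¹ = (c * a * c⁻¹) * (c * b * c⁻¹) := by group
      _ = (c * b * c⁻¹) * (c * a * c⁻¹) := h
      _ = c * (b * a) * c⁻¹ := by group
  exact mul_left_cancel (mul_right_cancel h2)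

/-- For `p = 2`, the `2`-part of a product of two conjugate involutions is trivial or conjugate to
them. -/
theorem Hyp.conj_of_part (H : Hyp P 3) (hp2 : p = 2) {t t₁ z : G} (ht : t * t = 1) (ht1 : t ≠ 1)
    (hconj : IsConj t t₁) (hz : IsPPart p (t₁ * t) z) (hz1 : z ≠ 1) : IsConj t z := by
  have ht₁ : t₁ * t₁ = 1 := by
    obtain ⟨c, rfl⟩ := isConj_iff.1 hconj
    calc c * t * c⁻¹ * (c * t * c⁻¹) = c * (t * t) * c⁻¹ := by group
      _ = 1 := by rw [ht]; group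
  have htinv : t⁻¹ = t := inv_eq_of_mul_eq_one_left ht
  have hxinv : t * (t₁ * t) * t⁻¹ = (t₁ * t)⁻¹ := by
    have h2 : t₁⁻¹ = t₁ := inv_eq_of_mul_eq_one_left ht₁
    rw [mul_inv_rev, htinv, h2]
    calc t * (t₁ * t) * t = t * t₁ * (t * t) := by group
      _ = t * t₁ := by rw [ht, mul_one]
  obtain ⟨s, hs⟩ := isPPart_exists_pow_eq hz
  have hinv : t * z * t⁻¹ = z⁻¹ := by
    rw [← hs, ← conj_pow, ← inv_pow, hxinv]
  obtain ⟨o, hzo, hcomm, ⟨k, hk⟩, ho⟩ := id hz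
  -- `t` and `z` commute
  have hordt : orderOf t = 2 := by
    apply orderOf_eq_prime (by rw [pow_two, ht]) ht1
  have hT : IsPGroup p (Subgroup.zpowers t) := by
    rw [IsPGroup.iff_card]
    exact ⟨1, by rw [Nat.card_zpowers, hordt, hp2, pow_one]⟩
  have hZ : IsPGroup p (Subgroup.zpowers z) := by
    rw [IsPGroup.iff_card]
    exact ⟨k, by rw [Nat.card_zpowers, hk]⟩
  have hcz : ∀ {a : G}, a ∈ Subgroup.zpowers z → t * a * t⁻¹ ∈ Subgroup.zpowers z := by
    intro a ha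
    obtain ⟨j, rfl⟩ := Subgroup.mem_zpowers_iff.1 ha
    have h1 : t * z ^ j * t⁻¹ = (t * z * t⁻¹) ^ j := by
      rw [conj_zpow]
    rw [h1, hinv]
    exact zpow_mem (inv_mem (Subgroup.mem_zpowers z)) j
  have hle : Subgroup.zpowers t ≤ Subgroup.normalizer ((Subgroup.zpowers z : Subgroup G) : Set G) := by
    rw [Subgroup.zpowers_le, Subgroup.mem_normalizer_iff]
    intro a
    refine ⟨hcz, fun h => ?_⟩
    have h1 := hcz h
    have h2 : t * (t * a * t⁻¹) * t⁻¹ = a := by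
      rw [htinv]
      calc t * (t * a * t) * t = (t * t) * a * (t * t) := by group
        _ = a := by rw [ht]; group
    rwa [h2] at h1
  obtain ⟨S, hS⟩ := (hT.to_sup_of_normal_right' hZ hle).exists_le_sylow
  have htS : t ∈ (S : Subgroup G) := hS (Subgroup.mem_sup_left (Subgroup.mem_zpowers t))
  have hzS : z ∈ (S : Subgroup G) := hS (Subgroup.mem_sup_right (Subgroup.mem_zpowers z))
  have htz : t * z = z * t := H.comm_of_mem_sylow S htS hzS
  have hzinv : z⁻¹ = z := by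
    rw [← hinv, htz]
    group
  have hzz : z * z = 1 := by
    nth_rewrite 1 [← hzinv]
    group
  -- the odd part
  have hoinv : t * o * t⁻¹ = o⁻¹ := by
    have h1 : o = z⁻¹ * (t₁ * t) := by
      rw [← hzo]
      group
    have h2 : t * o * t⁻¹ = (t * z⁻¹ * t⁻¹) * (t * (t₁ * t) * t⁻¹) := by
      rw [h1]
      group
    rw [h2, hxinv, ← hzo]
    have h3 : t * z⁻¹ * t⁻¹ = z := by
      rw [hzinv, hinv, hzinv]
    have h5 : z * o⁻¹ = o⁻¹ * z := (hcomm.inv_right).eq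
    rw [h3, mul_inv_rev, hzinv, ← mul_assoc, h5, mul_assoc, hzz, mul_one]
  have hodd : Odd (orderOf o) := by
    rw [← Nat.not_even_iff_odd, even_iff_two_dvd, ← hp2]
    exact ho
  obtain ⟨j, hj⟩ := exists_pow_eq_pow_two_mul (pow_orderOf_eq_one o) hodd 1
  set o₁ := o ^ j with ho₁
  have h₁ : o₁ * o₁ = o := by
    rw [ho₁, ← pow_add, ← two_mul, ← hj, pow_one]
  have hto₁ : t * o₁ * t⁻¹ = o₁⁻¹ := by
    rw [ho₁, ← conj_pow, hoinv, inv_pow]
  have hzo₁ : z * o₁ = o₁ * z := (hcomm.pow_right j).eq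
  have e1 : t * o₁⁻¹ = o₁ * t := by
    calc t * o₁⁻¹ = t * (t * o₁ * t⁻¹) := by rw [hto₁]
      _ = (t * t) * o₁ * t⁻¹ := by group
      _ = o₁ * t := by rw [ht, one_mul, htinv]
  have hr : IsConj (z * t) t₁ := by
    refine isConj_iff.2 ⟨o₁, ?_⟩
    calc o₁ * (z * t) * o₁⁻¹ = (o₁ * z) * (t * o₁⁻¹) := by group
      _ = (z * o₁) * (o₁ * t) := by rw [← hzo₁, e1]
      _ = z * (o₁ * o₁) * t := by group
      _ = (t₁ * t) * t := by rw [h₁, hzo]
      _ = t₁ := by rw [mul_assoc, ht, mul_one]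
  have hr' : IsConj t (z * t) := hconj.trans hr.symm
  obtain ⟨c, hc⟩ := MulAction.exists_smul_eq G S P
  have key : ∀ x ∈ (S : Subgroup G), c * x * c⁻¹ ∈ (P : Subgroup G) := by
    intro x hx
    rw [← hc, Sylow.coe_subgroup_smul]
    have := Subgroup.smul_mem_pointwise_smul _ (MulAut.conj c) (S : Subgroup G) hx
    simpa [MulAut.smul_def, MulAut.conj_apply] using this
  set τ := c * t * c⁻¹ with hτdef
  set ζ := c * z * c⁻¹ with hζdef
  have hτ : τ ∈ (P : Subgroup G) := key t htS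
  have hζ : ζ ∈ (P : Subgroup G) := key z hzS
  have hττ : τ * τ = 1 := by
    rw [hτdef]
    calc c * t * c⁻¹ * (c * t * c⁻¹) = c * (t * t) * c⁻¹ := by group
      _ = 1 := by rw [ht]; group
  have hζζ : ζ * ζ = 1 := by
    rw [hζdef]
    calc c * z * c⁻¹ * (c * z * c⁻¹) = c * (z * z) * c⁻¹ := by group
      _ = 1 := by rw [hzz]; group
  have hζ1 : ζ ≠ 1 := by
    intro h
    apply hz1
    have : z = c⁻¹ * ζ * c := by rw [hζdef]; group
    rw [this, h]
    group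
  have hτζ : τ * ζ = c * (z * t) * c⁻¹ := by
    rw [hτdef, hζdef, ← htz]
    group
  have h3 : IsConj τ (τ * ζ) := by
    rw [hτζ]
    have h4 : IsConj t τ := isConj_iff.2 ⟨c, rfl⟩
    have h5 : IsConj (z * t) (c * (z * t) * c⁻¹) := isConj_iff.2 ⟨c, rfl⟩
    exact h4.symm.trans (hr'.trans h5)
  obtain ⟨x, hx⟩ := isConj_iff.1 h3
  obtain ⟨n, hn, e2⟩ := H.fusion (x := x) hτ (by rw [hx]; exact mul_mem hτ hζ)
  rw [hx] at e2
  have hnC : n ∉ CC P := by
    intro h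
    have h4 := (mem_CC_iff.1 h) τ hτ
    rw [e2] at h4
    exact hζ1 (by simpa using h4)
  have h5 := congrArg Subtype.val (H.norm_eq_one (k := ⟨n, hn⟩) hnC ⟨τ, hτ⟩)
  simp only [Subgroup.coe_mul, coe_conjP, Subgroup.coe_inv, inv_inv, Subgroup.coe_one] at h5
  rw [e2] at h5
  have h5' : ζ * (n⁻¹ * τ * n) = 1 := by
    calc ζ * (n⁻¹ * τ * n) = (τ * τ) * ζ * (n⁻¹ * τ * n) := by rw [hττ, one_mul]
      _ = τ * (τ * ζ) * (n⁻¹ * τ * n) := by group
      _ = 1 := h5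
  have h6 : n⁻¹ * τ * n = ζ := by
    have h7 : ζ⁻¹ = ζ := inv_eq_of_mul_eq_one_left hζζ
    rw [← h7]
    exact eq_inv_of_mul_eq_one_right h5'
  have h7 : IsConj τ ζ := isConj_iff.2 ⟨n⁻¹, by rw [inv_inv]; exact h6⟩
  have h4 : IsConj t τ := isConj_iff.2 ⟨c, rfl⟩
  have h8 : IsConj z ζ := isConj_iff.2 ⟨c, rfl⟩
  exact h4.trans (h7.trans h8.symm)

end Three

end Cfsg.Agent.Lib.Blocks.AbFrob
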