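import Mathlib
import Cfsg.Agent.Lib.Blocks.AbFrob4
import Cfsg.Agent.Lib.Char.ClassMul
import Cfsg.Agent.Lib.Char.Values2

set_option autoImplicit false

namespace Cfsg.Agent.Lib.Blocks.AbFrob

open Cfsg Cfsg.Agent.Lib.Blocks.Sections Cfsg.Agent.Lib.Blocks.PrincipalCen
open Cfsg.Agent.Lib.Char.Virtual
open scoped ComplexConjugate

section Zero

variable {G : Type*} [Group G] [Fintype G] {p : ℕ} [hp : Fact p.Prime] {P : Sylow p G} 
  [Fintype (P : Subgroup G)] [Fintype (↥(P : Subgroup G) →* ℂˣ)]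
  {M : Ideal AlgInt} [hMp : M.IsPrime]

omit hMp in
/-- Relabelling when there are two orbits. -/
theorem Data.swap {m : ℕ} {ε : ℤ} {a : IrrCharacter G → ℤ} {f : TT P → IrrCharacter G} (D : Data P m M ε ε a f)
    (hcard : Nat.card (TT P) = 2) :
    ∃ f' : TT P → IrrCharacter G, Set.range f' = Set.range f ∧ Data P m M (-ε) 0 a f' := by
  classical
  obtain ⟨x, y, hxy, huniv⟩ := Nat.card_eq_two_iff.1 hcard
  have hall : ∀ u : TT P, u = x ∨ u = y := by
    intro u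
    have : u ∈ ({x, y} : Set (TT P)) := by
      rw [huniv]
      trivial
    simpa using this
  let σ := Equiv.swap x y
  have hrange : Set.range (f ∘ σ) = Set.range f := σ.surjective.range_comp f
  refine ⟨f ∘ σ, hrange, ?_, D.hinj.comp σ.injective, fun t => D.hfB _, ?_, ?_⟩
  · rcases D.hε with h | h <;> simp [h]
  · intro s χ hχ
    exact D.hX s χ (by rwa [hrange] at hχ)
  · intro s t
    have h := D.hY s (σ t)
    simp only [Function.comp_apply]
    rw [h]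
    have hy1 : y ≠ x := hxy.symm
    rcases hall s with rfl | rfl <;> rcases hall t with rfl | rfl <;> simp [σ, hxy, hy1]

/-- We can arrange `d = 0` when `m = 3`. -/
theorem Hyp.exists_data_zero (hM : IsPModular p M) (H : Hyp P 3) (hm2 : 3 + 1 < Nat.card (P : Subgroup G)) :
    ∃ (ε : ℤ) (a : IrrCharacter G → ℤ) (f : TT P → IrrCharacter G), Data P 3 M ε 0 a f := by
  classical
  obtain ⟨ε, d, a, f, D⟩ := H.exists_data hM (by norm_num) hm2
  by_cases hd : d = 0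
  · subst hd
    exact ⟨ε, a, f, D⟩
  have hm0 : (3 : ℕ) ≠ 0 := by norm_num
  have hcard := H.card_TT_mul
  haveI hfT : Finite (TT P) := finite_TT
  have hT2 : 1 < Nat.card (TT P) := by
    by_contra hc
    have h1 : Nat.card (TT P) * 3 ≤ 1 * 3 := Nat.mul_le_mul_right _ (not_lt.1 hc)
    omega
  obtain ⟨s₀, t₀, hst⟩ := (Finite.one_lt_card_iff_nontrivial.1 hT2).exists_pair_ne
  have hT : ∀ t : TT P, ∃ s : TT P, s ≠ t := by
    intro t
    by_cases h : s₀ = t
    · exact ⟨t₀, fun h' => hst (h.trans h'.symm)⟩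
    · exact ⟨s₀, h⟩
  have hy₀ : ∃ y₀ : ↥(P : Subgroup G), y₀ ≠ 1 := by
    by_contra hc
    push Not at hc
    have : Subsingleton ↥(P : Subgroup G) := ⟨fun a b => by rw [hc a, hc b]⟩
    have h1 := Nat.card_of_subsingleton (1 : ↥(P : Subgroup G))
    omega
  obtain ⟨y₀, hy₀⟩ := hy₀
  set triv := Cfsg.Agent.Lib.Blocks.Principal.trivChar G with htrivdef
  have htriv : triv ∈ XF M f :=
    mem_XF.2 ⟨Cfsg.Agent.Lib.Blocks.Principal.trivChar_mem_principalBlock, D.triv_notMem H hm0 hT⟩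
  have hatriv : a triv = 1 := by
    have h1 := D.value_X H hm0 htriv hy₀
    have h2 : (triv : G → ℂ) y₀ = 1 := rfl
    rw [h2] at h1
    exact_mod_cast h1.symm
  have hnorm := D.norm hM H hm0 s₀
  have hsum0 : 1 ≤ ∑ χ ∈ XF M f, a χ ^ 2 := by
    calc (1 : ℤ) = a triv ^ 2 := by rw [hatriv]; norm_num
      _ ≤ _ := Finset.single_le_sum (f := fun χ => a χ ^ 2) (fun _ _ => sq_nonneg _) htriv
  have hr2 : (1 : ℤ) ≤ (Nat.card (TT P) : ℤ) - 1 := by
    have : (2 : ℤ) ≤ (Nat.card (TT P) : ℤ) := by exact_mod_cast hT2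
    omega
  have hd2 : d ^ 2 ≤ 3 := by
    push_cast at hnorm
    nlinarith [sq_nonneg (d - ε), sq_nonneg d]
  have hd3 : d = 1 ∨ d = -1 := by
    have h1 : d ≤ 1 := by nlinarith
    have h2 : -1 ≤ d := by nlinarith
    omega
  have hdε : d = ε := by
    by_contra hne
    have h4 : (d - ε) ^ 2 = 4 := by
      rcases hd3 with h | h <;> rcases D.hε with h' | h' <;> rw [h, h'] at hne ⊢ <;> first | exact absurd rfl hne | norm_num
    push_cast at hnorm
    nlinarith [sq_nonneg d, mul_nonneg (sub_nonneg.2 hr2) (sq_nonneg d)]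
  subst hdε
  have hd4 : d ^ 2 = 1 := by
    rcases hd3 with h | h <;> rw [h] <;> norm_num
  have hnorm2 : ((Nat.card (TT P) : ℤ) - 1) + ∑ χ ∈ XF M f, a χ ^ 2 = 4 := by
    rw [hd4] at hnorm
    push_cast at hnorm
    linarith [hnorm]
  have hr3 : Nat.card (TT P) ≤ 4 := by
    have : (Nat.card (TT P) : ℤ) ≤ 4 := by linarith
    exact_mod_cast this
  have hcases : Nat.card (TT P) = 2 ∨ Nat.card (TT P) = 3 ∨ Nat.card (TT P) = 4 := by omega
  rcases hcases with h2 | h3 | h4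
  · obtain ⟨f', -, D'⟩ := D.swap h2
    exact ⟨-d, a, f', D'⟩
  · exfalso
    rw [h3] at hcard
    have h10 : Nat.card (P : Subgroup G) = 10 := by omega
    obtain ⟨k, hk⟩ := IsPGroup.iff_card.1 P.isPGroup'
    have hk' : p ^ k = 10 := hk.symm.trans h10
    have h2p : (2 : ℕ) ∣ p ^ k := by rw [hk']; norm_num
    have h5p : (5 : ℕ) ∣ p ^ k := by rw [hk']; norm_num
    have e2 := (Nat.prime_dvd_prime_iff_eq Nat.prime_two hp.out).1 (Nat.prime_two.dvd_of_dvd_pow h2p)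
    have e5 := (Nat.prime_dvd_prime_iff_eq (by norm_num) hp.out).1 (Nat.Prime.dvd_of_dvd_pow (by norm_num) h5p)
    omega
  · exfalso
    rw [h4] at hnorm2
    have hsum1 : ∑ χ ∈ XF M f, a χ ^ 2 = 1 := by
      push_cast at hnorm2
      linarith
    have hXF : XF M f = {triv} := by
      rw [Finset.eq_singleton_iff_unique_mem]
      refine ⟨htriv, fun χ hχ => ?_⟩
      by_contra hne
      have h5 : a χ ≠ 0 := D.a_ne_zero hM H hm0 hχ hy₀
      have h6 : 0 < a χ ^ 2 := by positivity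
      have h7 : a triv ^ 2 + a χ ^ 2 ≤ ∑ χ ∈ XF M f, a χ ^ 2 := by
        rw [← Finset.sum_pair (f := fun χ => a χ ^ 2) (Ne.symm hne)]
        apply Finset.sum_le_sum_of_subset_of_nonneg
        · intro x hx
          simp only [Finset.mem_insert, Finset.mem_singleton] at hx
          rcases hx with rfl | rfl <;> assumption
        · exact fun _ _ _ => sq_nonneg _
      rw [hatriv, hsum1] at h7
      omega
    have h5 := D.reg_rel hM (g := 1) (by
      rw [orderOf_one]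
      exact hp.out.one_lt.ne' ∘ Nat.dvd_one.mp) s₀
    rw [hXF, Finset.sum_singleton, hatriv, h4] at h5
    obtain ⟨n, -, hn⟩ := exists_degree_of_isIrr (f s₀).2
    rw [hn] at h5
    have h6 : (triv : G → ℂ) 1 = 1 := rfl
    rw [h6] at h5
    have h7 : (((4 : ℤ) * d - d) * (n : ℤ) + 1 : ℤ) = 0 := by
      have : ((((4 : ℤ) * d - d) * (n : ℤ) + 1 : ℤ) : ℂ) = 0 := by
        push_cast
        push_cast at h5
        linear_combination h5
      exact_mod_cast this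
    rcases hd3 with h | h <;> rw [h] at h7 <;> omega

omit hp hMp in
/-- The structure of `X` when `m = 3`, `d = 0`. -/
theorem Data.three [hp : Fact p.Prime] [M.IsPrime] {ε : ℤ} {a : IrrCharacter G → ℤ} {f : TT P → IrrCharacter G}
    (D : Data P 3 M ε 0 a f) (hM : IsPModular p M) (H : Hyp P 3) (s : TT P) {y₀ : ↥(P : Subgroup G)} (hy₀ : y₀ ≠ 1) :
    (XF M f).card = 3 ∧ ∀ χ ∈ XF M f, a χ = 1 ∨ a χ = -1 := by
  have hnorm := D.norm hM H (by norm_num) s
  have hε2 : (0 - ε) ^ 2 = 1 := by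
    rcases D.hε with h | h <;> rw [h] <;> norm_num
  have hsum : ∑ χ ∈ XF M f, a χ ^ 2 = 3 := by
    rw [hε2] at hnorm
    push_cast at hnorm
    linarith
  have hone : ∀ χ ∈ XF M f, a χ = 1 ∨ a χ = -1 := by
    intro χ hχ
    have h1 : a χ ≠ 0 := D.a_ne_zero hM H (by norm_num) hχ hy₀
    have h2 : a χ ^ 2 ≤ 3 := by
      rw [← hsum]
      exact Finset.single_le_sum (f := fun χ => a χ ^ 2) (fun _ _ => sq_nonneg _) hχ
    have h3 : a χ ≤ 1 := by nlinarith
    have h4 : -1 ≤ a χ := by nlinarith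
    omega
  refine ⟨?_, hone⟩
  have h5 : ∑ χ ∈ XF M f, a χ ^ 2 = ∑ χ ∈ XF M f, (1 : ℤ) := by
    refine Finset.sum_congr rfl fun χ hχ => ?_
    rcases hone χ hχ with h | h <;> rw [h] <;> norm_num
  rw [h5] at hsum
  have h6 : ((XF M f).card : ℤ) = 3 := by simpa using hsum
  exact_mod_cast h6

omit [Fintype (P : Subgroup G)] [Fintype (↥(P : Subgroup G) →* ℂˣ)] hp hMp in
/-- An irreducible character not trivial on a normally generating element is not constant there. -/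
theorem eq_triv_of_apply_eq {t : G} (hgen : ∀ K : Subgroup G, K.Normal → t ∈ K → K = ⊤) {χ : IrrCharacter G}
    (h : (χ : G → ℂ) t = (χ : G → ℂ) 1) : χ = Cfsg.Agent.Lib.Blocks.Principal.trivChar G := by
  obtain ⟨n0, hn0, hdeg⟩ := exists_degree_of_isIrr χ.2
  have hconst : ∀ g, (χ : G → ℂ) g = (χ : G → ℂ) 1 := by
    obtain ⟨f, n, ρ, hirr, rfl⟩ := χ
    have h1 : ρ t = 1 := by
      simp only [Representation.char_one] at h
      exact (Cfsg.Agent.Lib.Char.Values.character_eq_finrank_iff ρ t).1 h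
    have h2 : (MonoidHom.ker ρ) = ⊤ := hgen _ (MonoidHom.normal_ker _) h1
    intro g
    have h3 : ρ g = 1 := by
      have : g ∈ MonoidHom.ker ρ := by rw [h2]; trivial
      exact this
    show ρ.character g = ρ.character 1
    rw [Representation.char_one]
    exact (Cfsg.Agent.Lib.Char.Values.character_eq_finrank_iff ρ g).2 h3
  by_contra hne
  have h0 := Cfsg.Agent.Lib.Char.Ortho.classInner_irr_of_ne χ.2
    (Cfsg.Agent.Lib.Blocks.Principal.trivChar G).2 (fun h' => hne (Subtype.ext h'))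
  rw [classInner] at h0
  have hG : (Nat.card G : ℂ) ≠ 0 := Nat.cast_ne_zero.2 Nat.card_pos.ne'
  have h1 : ∑ x : G, (χ : G → ℂ) x * conj (((Cfsg.Agent.Lib.Blocks.Principal.trivChar G : IrrCharacter G) : G → ℂ) x) =
      (Nat.card G : ℂ) * n0 := by
    have h2 : ∀ x : G, (χ : G → ℂ) x * conj (((Cfsg.Agent.Lib.Blocks.Principal.trivChar G : IrrCharacter G) : G → ℂ) x) =
        n0 := by
      intro x
      rw [hconst x, hdeg]
      simp
    simp only [h2, Finset.sum_const, Finset.card_univ, nsmul_eq_mul, Nat.card_eq_fintype_card]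
  rw [h1] at h0
  have h3 : (n0 : ℂ) ≠ 0 := Nat.cast_ne_zero.2 hn0.ne'
  field_simp at h0
  exact h3 h0

omit [Fintype (P : Subgroup G)] [Fintype (↥(P : Subgroup G) →* ℂˣ)] hp hMp in
theorem sum_conj_mul (χ : IrrCharacter G) (t : G) :
    ∑ g : G, (χ : G → ℂ) (g * t * g⁻¹ * t) = (Nat.card G : ℂ) * ((χ : G → ℂ) t * (χ : G → ℂ) t / (χ : G → ℂ) 1) := by
  have h := Cfsg.Agent.Lib.Char.ClassMul.irr_one_mul_sum χ t t
  have h0 := irr_one_ne_zero χ.2
  field_simp
  linear_combination h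

open Classical in
/-- The sum of `α_s` over products of two conjugates. -/
theorem Data.sum_alpha {m : ℕ} {ε : ℤ} {a : IrrCharacter G → ℤ} {f : TT P → IrrCharacter G}
    (D : Data P m M ε 0 a f) (s : TT P) (t : G) :
    ∑ g : G, alpha P m M s.1 (g * t * g⁻¹ * t) = (Nat.card G : ℂ) *
      (∑ χ ∈ XF M f, (a χ : ℂ) * ((χ : G → ℂ) t * (χ : G → ℂ) t / (χ : G → ℂ) 1) -
        ε * ((f s : G → ℂ) t * (f s : G → ℂ) t / (f s : G → ℂ) 1)) := by
  have h1 : ∀ g : G, alpha P m M s.1 (g * t * g⁻¹ * t) =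
      ∑ χ ∈ XF M f, (a χ : ℂ) * (χ : G → ℂ) (g * t * g⁻¹ * t) - ε * (f s : G → ℂ) (g * t * g⁻¹ * t) := by
    intro g
    rw [D.alpha_apply]
    push_cast
    ring
  rw [Finset.sum_congr rfl fun g _ => h1 g, Finset.sum_sub_distrib, Finset.sum_comm, ← Finset.mul_sum,
    sum_conj_mul]
  simp only [← Finset.mul_sum, sum_conj_mul]
  rw [mul_sub, Finset.mul_sum]
  congr 1
  · refine Finset.sum_congr rfl fun χ _ => ?_
    ring
  · ring

end Zero

section Alg

/-- The algebra of the moment relations. -/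
theorem alg_odd (u₁ u₂ u₃ w₁ w₂ w₃ : ℚ) (h1 : u₁ ≠ 1) (h2 : u₂ ≠ 1) (h3 : u₃ ≠ 1)
    (e0 : 1 + w₁ + w₂ + w₃ = 0) (e1 : 1 + w₁ * u₁ + w₂ * u₂ + w₃ * u₃ = 0)
    (e2 : 1 + w₁ * u₁ ^ 2 + w₂ * u₂ ^ 2 + w₃ * u₃ ^ 2 = 0) :
    ∃ r : ℚ, r ≠ 0 ∧ w₁ * w₂ * w₃ = r * r := by
  have hq : ∀ a b : ℚ, (1 - a) * (1 - b) + w₁ * (u₁ - a) * (u₁ - b) + w₂ * (u₂ - a) * (u₂ - b) +
      w₃ * (u₃ - a) * (u₃ - b) = 0 := by
    intro a b
    linear_combination e2 - (a + b) * e1 + a * b * e0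
  have h1' : (1 - u₁) ≠ 0 := sub_ne_zero.2 (Ne.symm h1)
  have h2' : (1 - u₂) ≠ 0 := sub_ne_zero.2 (Ne.symm h2)
  have h3' : (1 - u₃) ≠ 0 := sub_ne_zero.2 (Ne.symm h3)
  have d12 : u₁ - u₂ ≠ 0 := by
    intro h
    have h4 := hq u₁ u₃
    have h5 : u₂ = u₁ := by linarith
    rw [h5] at h4
    apply mul_ne_zero h1' h3'
    linear_combination h4
  have d13 : u₁ - u₃ ≠ 0 := by
    intro h
    have h4 := hq u₁ u₂
    have h5 : u₃ = u₁ := by linarith
    rw [h5] at h4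
    apply mul_ne_zero h1' h2'
    linear_combination h4
  have d23 : u₂ - u₃ ≠ 0 := by
    intro h
    have h4 := hq u₁ u₂
    have h5 : u₃ = u₂ := by linarith
    rw [h5] at h4
    apply mul_ne_zero h1' h2'
    linear_combination h4
  set B := (u₁ - u₂) * (u₁ - u₃) * (u₂ - u₃) with hB
  set A := (1 - u₁) * (1 - u₂) * (1 - u₃) with hA
  have hB0 : B ≠ 0 := mul_ne_zero (mul_ne_zero d12 d13) d23
  have hA0 : A ≠ 0 := mul_ne_zero (mul_ne_zero h1' h2') h3'
  have q1 : w₁ * ((u₁ - u₂) * (u₁ - u₃)) = -((1 - u₂) * (1 - u₃)) := by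
    linear_combination hq u₂ u₃
  have q2 : w₂ * ((u₂ - u₁) * (u₂ - u₃)) = -((1 - u₁) * (1 - u₃)) := by
    linear_combination hq u₁ u₃
  have q3 : w₃ * ((u₃ - u₁) * (u₃ - u₂)) = -((1 - u₁) * (1 - u₂)) := by
    linear_combination hq u₁ u₂
  refine ⟨A / B, div_ne_zero hA0 hB0, ?_⟩
  have h6 : (w₁ * w₂ * w₃) * (B * B) = A * A := by
    have h7 : (w₁ * ((u₁ - u₂) * (u₁ - u₃))) * (w₂ * ((u₂ - u₁) * (u₂ - u₃))) * (w₃ * ((u₃ - u₁) * (u₃ - u₂))) =
        (-((1 - u₂) * (1 - u₃))) * (-((1 - u₁) * (1 - u₃))) * (-((1 - u₁) * (1 - u₂))) := by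
      rw [q1, q2, q3]
    rw [hA, hB]
    linear_combination -h7
  field_simp
  linear_combination h6

/-- The algebra of the even case. -/
theorem alg_even (a₂ a₃ D D₂ D₃ : ℤ) (h2 : a₂ = 1 ∨ a₂ = -1) (h3 : a₃ = 1 ∨ a₃ = -1) (hD : 1 ≤ D) (hD₂ : 1 ≤ D₂)
    (hD₃ : 1 ≤ D₃) (e0 : D = 1 + a₂ * D₂ + a₃ * D₃)
    (e1 : (D₂ * D₃ + a₂ * D₃ + a₃ * D₂) * D = 9 * (D₂ * D₃))
    (b2 : a₂ = -1 → 15 ≤ D₂) (b3 : a₃ = -1 → 15 ≤ D₃) :
    a₂ = 1 ∧ a₃ = 1 ∧ D₂ = 1 ∧ D₃ = 1 := by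
  have key : ∀ x y d : ℤ, 1 ≤ d → 15 ≤ y → 1 ≤ x → d = 1 + x - y → (x * y + y - x) * d = 9 * (x * y) → False := by
    intro x y d hd hy hx e e'
    have hx2 : x = y + d - 1 := by linarith
    subst hx2
    have h0 : (y + d - 1) * y * (d - 9) = d * (d - 1) := by
      linear_combination e'
    have hP : 15 * (d + 14) ≤ (y + d - 1) * y := by nlinarith
    by_cases hd9 : d ≤ 9
    · have hP0 : 0 < (y + d - 1) * y := by nlinarith
      have h1 : (y + d - 1) * y * (d - 9) ≤ 0 := mul_nonpos_of_nonneg_of_nonpos hP0.le (by linarith)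
      have h2 : d * (d - 1) ≤ 0 := by rw [← h0]; exact h1
      have h3 : d ≤ 1 := by nlinarith
      have h4 : d = 1 := by omega
      subst h4
      nlinarith
    · have hd10 : 10 ≤ d := by omega
      have h1 : 15 * (d + 14) * (d - 9) ≤ (y + d - 1) * y * (d - 9) :=
        mul_le_mul_of_nonneg_right hP (by linarith)
      nlinarith
  rcases h2 with rfl | rfl <;> rcases h3 with rfl | rfl
  · have h : D₃ * (D₂ - 1) ^ 2 + D₂ * (D₃ - 1) ^ 2 + (D₂ - D₃) ^ 2 = 0 := by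
      subst e0
      linear_combination e1
    have h1 : 0 ≤ D₃ * (D₂ - 1) ^ 2 := by positivity
    have h2 : 0 ≤ D₂ * (D₃ - 1) ^ 2 := by positivity
    have h3 : 0 ≤ (D₂ - D₃) ^ 2 := by positivity
    have h4 : D₃ * (D₂ - 1) ^ 2 = 0 := by linarith
    have h5 : D₂ * (D₃ - 1) ^ 2 = 0 := by linarith
    have h6 : D₂ - 1 = 0 := by
      rcases mul_eq_zero.1 h4 with h | h
      · omega
      · simpa using h
    have h7 : D₃ - 1 = 0 := by
      rcases mul_eq_zero.1 h5 with h | h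
      · omega
      · simpa using h
    exact ⟨rfl, rfl, by linarith, by linarith⟩
  · exact (key D₂ D₃ D hD (b3 rfl) hD₂ (by linarith) (by linear_combination e1)).elim
  · exact (key D₃ D₂ D hD (b2 rfl) hD₃ (by linarith) (by linear_combination e1)).elim
  · exfalso
    linarith

end Alg

end Cfsg.Agent.Lib.Blocks.AbFrob
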