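import Mathlib
import Cfsg.Agent.Lib.Blocks.AbFrob5

set_option autoImplicit false

namespace Cfsg.Agent.Lib.Blocks.AbFrob

open Cfsg Cfsg.Agent.Lib.Blocks.Sections Cfsg.Agent.Lib.Blocks.PrincipalCen
open Cfsg.Agent.Lib.Blocks.Principal
open Cfsg.Agent.Lib.Char.Virtual
open scoped ComplexConjugate

section Odd

variable {G : Type*} [Group G] [Fintype G] {p : ℕ} [hp : Fact p.Prime] {P : Sylow p G}
  [Fintype (P : Subgroup G)] [Fintype (↥(P : Subgroup G) →* ℂˣ)]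
  {M : Ideal AlgInt} [hMp : M.IsPrime]

omit [Fintype G] in
theorem deg_cast [Finite G] (χ : IrrCharacter G) : (charDegree (χ : G → ℂ) : ℂ) = (χ : G → ℂ) 1 :=
  Cfsg.Agent.Lib.Char.Values.IsCharacter.charDegree_cast
    (Cfsg.Agent.Lib.Char.Basic.isCharacter_of_isIrrCharacter χ.2)

omit [Fintype G] in
theorem deg_pos [Finite G] (χ : IrrCharacter G) : 0 < charDegree (χ : G → ℂ) := by
  rw [Nat.pos_iff_ne_zero]
  intro h
  have h1 := deg_cast χ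
  rw [h, Nat.cast_zero] at h1
  exact irr_one_ne_zero χ.2 h1.symm

open Classical in
theorem sum_XF {f : TT P → IrrCharacter G} {χ₂ χ₃ : IrrCharacter G} (h23 : χ₂ ≠ χ₃) (h2 : χ₂ ≠ trivChar G) (h3 : χ₃ ≠ trivChar G)
    (hXF : XF M f = {trivChar G, χ₂, χ₃}) (F : IrrCharacter G → ℂ) :
    ∑ χ ∈ XF M f, F χ = F (trivChar G) + F χ₂ + F χ₃ := by
  rw [hXF, Finset.sum_insert, Finset.sum_pair h23, add_assoc]
  simp only [Finset.mem_insert, Finset.mem_singleton, not_or]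
  exact ⟨h2.symm, h3.symm⟩

/-- The odd case of the last statement. -/
theorem Data.moreover_odd {ε : ℤ} {a : IrrCharacter G → ℤ} {f : TT P → IrrCharacter G} (D : Data P 3 M ε 0 a f)
    (hM : IsPModular p M) (H : Hyp P 3) (hp2 : p ≠ 2) {t : G} (ht : orderOf t = 2)
    (hgen : ∀ K : Subgroup G, K.Normal → t ∈ K → K = ⊤) {χ₂ χ₃ : IrrCharacter G} (h23 : χ₂ ≠ χ₃)
    (h2 : χ₂ ≠ trivChar G) (h3 : χ₃ ≠ trivChar G) (hXF : XF M f = {trivChar G, χ₂, χ₃})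
    (ha₀ : a (trivChar G) = 1) (ha₂ : a χ₂ = 1 ∨ a χ₂ = -1) (ha₃ : a χ₃ = 1 ∨ a χ₃ = -1) (s : TT P) :
    ((a χ₂ = -1 ∧ a χ₃ = 1 ∧ ε = 1) ∨ (a χ₂ = 1 ∧ a χ₃ = -1 ∧ ε = 1) ∨ (a χ₂ = -1 ∧ a χ₃ = -1 ∧ ε = -1)) ∧
      IsSquare (charDegree (f s : G → ℂ) * (charDegree (χ₂ : G → ℂ) * charDegree (χ₃ : G → ℂ))) := by
  classical
  have htt : t * t = 1 := by
    have := pow_orderOf_eq_one t
    rwa [ht, pow_two] at this
  have hpt : ¬ p ∣ orderOf t := by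
    rw [ht]
    intro h
    exact hp2 ((Nat.prime_dvd_prime_iff_eq hp.out Nat.prime_two).1 h)
  have hp1 : ¬ p ∣ orderOf (1 : G) := by
    rw [orderOf_one]
    exact hp.out.one_lt.ne' ∘ Nat.dvd_one.mp
  have hfs : f s ≠ trivChar G := by
    intro h
    have h1 : trivChar G ∈ XF M f := by
      rw [hXF]
      simp
    exact (mem_XF.1 h1).2 ⟨s, h⟩
  -- degrees and values
  obtain ⟨v₂, hv₂, -⟩ := Cfsg.Agent.Lib.Char.Values2.character_involution _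
    (Cfsg.Agent.Lib.Char.Basic.isCharacter_of_isIrrCharacter χ₂.2) t ht
  obtain ⟨v₃, hv₃, -⟩ := Cfsg.Agent.Lib.Char.Values2.character_involution _
    (Cfsg.Agent.Lib.Char.Basic.isCharacter_of_isIrrCharacter χ₃.2) t ht
  obtain ⟨v, hv, -⟩ := Cfsg.Agent.Lib.Char.Values2.character_involution _
    (Cfsg.Agent.Lib.Char.Basic.isCharacter_of_isIrrCharacter (f s).2) t ht
  set D₂ := charDegree (χ₂ : G → ℂ) with hD₂
  set D₃ := charDegree (χ₃ : G → ℂ) with hD₃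
  set Dη := charDegree (f s : G → ℂ) with hDη
  have hc₂ : (χ₂ : G → ℂ) 1 = (D₂ : ℂ) := (deg_cast χ₂).symm
  have hc₃ : (χ₃ : G → ℂ) 1 = (D₃ : ℂ) := (deg_cast χ₃).symm
  have hc : (f s : G → ℂ) 1 = (Dη : ℂ) := (deg_cast (f s)).symm
  have hp₂ : 0 < D₂ := deg_pos χ₂
  have hp₃ : 0 < D₃ := deg_pos χ₃
  have hpη : 0 < Dη := deg_pos (f s)
  have htriv1 : ∀ g, ((trivChar G : IrrCharacter G) : G → ℂ) g = 1 := fun _ => rfl
  -- the three equations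
  have E0 : ((1 + a χ₂ * D₂ + a χ₃ * D₃ - ε * Dη : ℤ) : ℂ) = 0 := by
    have h := D.reg_rel hM hp1 s
    rw [sum_XF h23 h2 h3 hXF, ha₀, htriv1, hc₂, hc₃, hc] at h
    push_cast at h ⊢
    linear_combination h
  have E1 : ((1 + a χ₂ * v₂ + a χ₃ * v₃ - ε * v : ℤ) : ℂ) = 0 := by
    have h := D.reg_rel hM hpt s
    rw [sum_XF h23 h2 h3 hXF, ha₀, htriv1, hv₂, hv₃, hv] at h
    push_cast at h ⊢
    linear_combination h
  have E2 : (1 : ℂ) + a χ₂ * (v₂ * v₂ / D₂) + a χ₃ * (v₃ * v₃ / D₃) - ε * (v * v / Dη) = 0 := by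
    have h := D.sum_alpha s t
    have h0 : ∑ g : G, alpha P 3 M s.1 (g * t * g⁻¹ * t) = 0 := by
      refine Finset.sum_eq_zero fun g _ => ?_
      apply secMap_reg hM
      apply H.reg_of_odd hp2 htt
      calc g * t * g⁻¹ * (g * t * g⁻¹) = g * (t * t) * g⁻¹ := by group
        _ = 1 := by rw [htt]; group
    rw [h0, sum_XF h23 h2 h3 hXF, ha₀, htriv1, htriv1, hv₂, hv₃, hv, hc₂, hc₃, hc] at h
    have hG : (Nat.card G : ℂ) ≠ 0 := Nat.cast_ne_zero.2 Nat.card_pos.ne'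
    have h1 := (mul_eq_zero.1 h.symm).resolve_left hG
    push_cast at h1 ⊢
    linear_combination h1
  have E0' : (1 + a χ₂ * D₂ + a χ₃ * D₃ - ε * Dη : ℤ) = 0 := by exact_mod_cast E0
  have E1' : (1 + a χ₂ * v₂ + a χ₃ * v₃ - ε * v : ℤ) = 0 := by exact_mod_cast E1
  have E2' : (1 : ℚ) + a χ₂ * (v₂ * v₂ / D₂) + a χ₃ * (v₃ * v₃ / D₃) - ε * (v * v / Dη) = 0 := by
    exact_mod_cast E2
  have hq₂ : (D₂ : ℚ) ≠ 0 := Nat.cast_ne_zero.2 hp₂.ne'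
  have hq₃ : (D₃ : ℚ) ≠ 0 := Nat.cast_ne_zero.2 hp₃.ne'
  have hqη : (Dη : ℚ) ≠ 0 := Nat.cast_ne_zero.2 hpη.ne'
  have hu : ∀ (χ : IrrCharacter G) (n : ℤ), χ ≠ trivChar G → (χ : G → ℂ) t = n →
      (n : ℚ) / (charDegree (χ : G → ℂ) : ℚ) ≠ 1 := by
    intro χ n hχ hn h
    have hq : (charDegree (χ : G → ℂ) : ℚ) ≠ 0 := Nat.cast_ne_zero.2 (deg_pos χ).ne'
    rw [div_eq_one_iff_eq hq] at h
    apply hχ
    apply eq_triv_of_apply_eq hgen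
    rw [hn, ← deg_cast]
    exact_mod_cast h
  obtain ⟨r, hr0, hr⟩ := alg_odd ((v₂ : ℚ) / D₂) ((v₃ : ℚ) / D₃) ((v : ℚ) / Dη)
    ((a χ₂ : ℚ) * D₂) ((a χ₃ : ℚ) * D₃) (-(ε : ℚ) * Dη) (hu χ₂ v₂ h2 hv₂) (hu χ₃ v₃ h3 hv₃) (hu (f s) v hfs hv)
    (by
      have : ((1 + a χ₂ * D₂ + a χ₃ * D₃ - ε * Dη : ℤ) : ℚ) = 0 := by rw [E0']; simp
      push_cast at this
      linear_combination this)
    (by
      have : ((1 + a χ₂ * v₂ + a χ₃ * v₃ - ε * v : ℤ) : ℚ) = 0 := by rw [E1']; simp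
      push_cast at this
      field_simp
      linear_combination this)
    (by
      field_simp at E2' ⊢
      linear_combination E2')
  have hpos : (0 : ℚ) < (D₂ : ℚ) * D₃ * Dη := by positivity
  have hrr : 0 < r * r := mul_self_pos.2 hr0
  have hsq : (D₂ : ℚ) * D₃ * Dη = r * r → IsSquare (Dη * (D₂ * D₃)) := by
    intro h
    rw [← Rat.isSquare_natCast_iff]
    refine ⟨r, ?_⟩
    push_cast
    rw [← h]
    ring
  have hneg : -((D₂ : ℚ) * D₃ * Dη) = r * r → False := by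
    intro h
    linarith
  rcases ha₂ with h₂ | h₂ <;> rcases ha₃ with h₃ | h₃ <;> rcases D.hε with h₁ | h₁ <;> rw [h₂, h₃, h₁] at hr <;>
    rw [h₂, h₃, h₁] at E0'
  · exact (hneg (by rw [← hr]; push_cast; ring)).elim
  · exfalso
    omega
  · exact ⟨Or.inr (Or.inl ⟨h₂, h₃, h₁⟩), hsq (by rw [← hr]; push_cast; ring)⟩
  · exact (hneg (by rw [← hr]; push_cast; ring)).elim
  · exact ⟨Or.inl ⟨h₂, h₃, h₁⟩, hsq (by rw [← hr]; push_cast; ring)⟩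
  · exact (hneg (by rw [← hr]; push_cast; ring)).elim
  · exact (hneg (by rw [← hr]; push_cast; ring)).elim
  · exact ⟨Or.inr (Or.inr ⟨h₂, h₃, h₁⟩), hsq (by rw [← hr]; push_cast; ring)⟩

end Odd

end Cfsg.Agent.Lib.Blocks.AbFrob
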