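import Mathlib
import Cfsg.Agent.Lib.Blocks.AbFrob6

set_option autoImplicit false

namespace Cfsg.Agent.Lib.Blocks.AbFrob

open Cfsg Cfsg.Agent.Lib.Blocks.Sections Cfsg.Agent.Lib.Blocks.PrincipalCen
open Cfsg.Agent.Lib.Blocks.Principal
open Cfsg.Agent.Lib.Char.Virtual
open scoped ComplexConjugate

section Even

variable {G : Type*} [Group G] [Fintype G] {p : ℕ} [hp : Fact p.Prime] {P : Sylow p G}
  [Fintype (P : Subgroup G)] [Fintype (↥(P : Subgroup G) →* ℂˣ)]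
  {M : Ideal AlgInt} [hMp : M.IsPrime]

omit hMp in
open Classical in
/-- The orbit of `ψ ≠ 1` when `m = 3`. -/
theorem Hyp.theta_three (H : Hyp P 3) {ψ : ↥(P : Subgroup G) →* ℂˣ} (hψ : ψ ≠ 1) {k : ↥(NN P)}
    (hk : (k : G) ∉ CC P) (y : ↥(P : Subgroup G)) :
    theta ψ y = ((ψ y : ℂˣ) : ℂ) + ((ψ (conjP k⁻¹ y) : ℂˣ) : ℂ) + ((ψ (conjP k y) : ℂˣ) : ℂ) := by
  have h1 : twist k ψ ≠ ψ := fun h => hk (H.stab hψ h)
  have h2 : twist k⁻¹ ψ ≠ ψ := fun h => hk (by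
    have := H.stab hψ h
    simpa using inv_mem this)
  have h3 : twist k ψ ≠ twist k⁻¹ ψ := by
    intro h
    have h4 : twist (k * k) ψ = ψ := by
      rw [twist_mul, h, ← twist_mul, mul_inv_cancel, twist_one]
    have h5 := H.stab hψ h4
    apply H.pow_two_notMem k.2 hk
    rw [pow_two]
    exact h5
  have hsub : ({ψ, twist k ψ, twist k⁻¹ ψ} : Finset _) ⊆ orbF ψ := by
    intro φ hφ
    simp only [Finset.mem_insert, Finset.mem_singleton] at hφ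
    rw [mem_orbF]
    rcases hφ with rfl | rfl | rfl
    · exact mem_orb_self _
    · exact mem_orb_iff.2 ⟨k, rfl⟩
    · exact mem_orb_iff.2 ⟨k⁻¹, rfl⟩
  have hc3 : ({ψ, twist k ψ, twist k⁻¹ ψ} : Finset _).card = 3 := by
    rw [Finset.card_eq_three]
    exact ⟨_, _, _, h1.symm, h2.symm, h3, rfl⟩
  have he : ({ψ, twist k ψ, twist k⁻¹ ψ} : Finset _) = orbF ψ :=
    Finset.eq_of_subset_of_card_le hsub (by rw [H.card_orbF hψ, hc3])
  simp only [theta]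
  rw [← he, Finset.sum_insert, Finset.sum_pair h3, twist_apply, twist_apply, inv_inv, add_assoc]
  simp only [Finset.mem_insert, Finset.mem_singleton, not_or]
  exact ⟨h1.symm, h2.symm⟩

omit hMp [Fintype G] in
theorem hom_sq (ψ : ↥(P : Subgroup G) →* ℂˣ) {x : ↥(P : Subgroup G)} (hx : x * x = 1) :
    ((ψ x : ℂˣ) : ℂ) = 1 ∨ ((ψ x : ℂˣ) : ℂ) = -1 := by
  have h : ((ψ x : ℂˣ) : ℂ) * ((ψ x : ℂˣ) : ℂ) = 1 := by
    rw [← Units.val_mul, ← map_mul, hx, map_one, Units.val_one]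
  have h2 : (((ψ x : ℂˣ) : ℂ) - 1) * (((ψ x : ℂˣ) : ℂ) + 1) = 0 := by
    linear_combination h
  rcases mul_eq_zero.1 h2 with h3 | h3
  · exact Or.inl (sub_eq_zero.1 h3)
  · exact Or.inr (eq_neg_of_add_eq_zero_left h3)

omit hMp in
open Classical in
/-- The two values of the orbit sums at an involution. -/
theorem Hyp.exists_theta (H : Hyp P 3) (hcard : 4 < Nat.card (P : Subgroup G)) {τ : ↥(P : Subgroup G)} (hτ : τ * τ = 1)
    (hτ1 : τ ≠ 1) : (∃ s : TT P, s.1 τ = 3) ∧ (∃ s : TT P, s.1 τ = -1) := by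
  have hA : ∀ a b : ↥(P : Subgroup G), a * b = b * a := fun a b => Subtype.ext (H.comm a.2 b.2)
  obtain ⟨k', hk', hkC⟩ := H.exists_notMem
  set k : ↥(NN P) := ⟨k', hk'⟩ with hkdef
  have hk : (k : G) ∉ CC P := hkC
  set T₂ := conjP k τ with hT₂
  set T₃ := conjP k⁻¹ τ with hT₃
  have hnorm : τ * T₂ * T₃ = 1 := H.norm_eq_one hk τ
  have hT₂2 : T₂ * T₂ = 1 := by rw [hT₂, ← map_mul, hτ, map_one]
  have hT₃2 : T₃ * T₃ = 1 := by rw [hT₃, ← map_mul, hτ, map_one]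
  have hval : ∀ ψ : ↥(P : Subgroup G) →* ℂˣ, ((ψ τ : ℂˣ) : ℂ) * ((ψ T₂ : ℂˣ) : ℂ) * ((ψ T₃ : ℂˣ) : ℂ) = 1 := by
    intro ψ
    rw [← Units.val_mul, ← Units.val_mul, ← map_mul, ← map_mul, hnorm, map_one, Units.val_one]
  have hne12 : T₂ ≠ τ := by
    intro h
    have hy : (τ : G) ≠ 1 := fun h' => hτ1 (Subtype.ext h')
    apply hk
    rw [← H.hfrob _ τ.2 hy]
    refine ⟨?_, k.2⟩
    show (k : G) ∈ Cen _
    rw [mem_cen_iff]
    exact congrArg Subtype.val h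
  have hT₂1 : T₂ ≠ 1 := by
    intro h
    rw [hT₂] at h
    have h2 := congrArg (conjP k⁻¹) h
    rw [← conjP_mul, inv_mul_cancel, conjP_one, map_one] at h2
    exact hτ1 h2
  have hττ2 : τ * T₂ ≠ 1 := by
    intro h
    apply hne12
    have h1 : T₂ = τ⁻¹ := eq_inv_of_mul_eq_one_right h
    rw [h1]
    exact inv_eq_of_mul_eq_one_left hτ
  constructor
  · -- a character trivial on `τ, T₂`
    have hex : ∃ ψ : ↥(P : Subgroup G) →* ℂˣ, ψ ≠ 1 ∧ ((ψ τ : ℂˣ) : ℂ) = 1 ∧ ((ψ T₂ : ℂˣ) : ℂ) = 1 := by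
      by_contra hc
      push Not at hc
      have h1 : ∑ ψ : ↥(P : Subgroup G) →* ℂˣ, (1 + ((ψ τ : ℂˣ) : ℂ)) * (1 + ((ψ T₂ : ℂˣ) : ℂ)) =
          (Nat.card (P : Subgroup G) : ℂ) := by
        have h2 : ∀ ψ : ↥(P : Subgroup G) →* ℂˣ, (1 + ((ψ τ : ℂˣ) : ℂ)) * (1 + ((ψ T₂ : ℂˣ) : ℂ)) =
            1 + ((ψ τ : ℂˣ) : ℂ) + ((ψ T₂ : ℂˣ) : ℂ) + ((ψ (τ * T₂) : ℂˣ) : ℂ) := by
          intro ψ
          rw [map_mul, Units.val_mul]
          ring
        simp only [h2]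
        rw [Finset.sum_add_distrib, Finset.sum_add_distrib, Finset.sum_add_distrib, sum_dual hA, sum_dual hA,
          sum_dual hA, if_neg hτ1, if_neg hT₂1, if_neg hττ2, Finset.sum_const, Finset.card_univ,
          ← Nat.card_eq_fintype_card, card_dual hA]
        simp
      have h3 : ∑ ψ : ↥(P : Subgroup G) →* ℂˣ, (1 + ((ψ τ : ℂˣ) : ℂ)) * (1 + ((ψ T₂ : ℂˣ) : ℂ)) = 4 := by
        rw [Finset.sum_eq_single 1]
        · simp only [MonoidHom.one_apply, Units.val_one]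
          norm_num
        · intro ψ _ hψ
          rcases hom_sq ψ hτ with h4 | h4
          · rcases hom_sq ψ hT₂2 with h5 | h5
            · exact absurd h5 (hc ψ hψ h4)
            · rw [h5]
              ring
          · rw [h4]
            ring
        · intro h
          exact absurd (Finset.mem_univ _) h
      rw [h3] at h1
      have h4 : (Nat.card (P : Subgroup G) : ℂ) = ((4 : ℕ) : ℂ) := by
        rw [← h1]
        norm_num
      have h5 : Nat.card (P : Subgroup G) = 4 := by exact_mod_cast h4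
      omega
    obtain ⟨ψ, hψ, h1, h2⟩ := hex
    refine ⟨tOf ψ hψ, ?_⟩
    show theta ψ τ = 3
    rw [H.theta_three hψ hk τ]
    have h3 := hval ψ
    rw [h1, h2, one_mul, one_mul] at h3
    rw [h1, ← hT₃, ← hT₂, h3, h2]
    norm_num
  · obtain ⟨ψ, hψ⟩ := exists_dual_ne hA hτ1
    have hψ1 : ψ ≠ 1 := by
      rintro rfl
      exact hψ rfl
    refine ⟨tOf ψ hψ1, ?_⟩
    show theta ψ τ = -1
    rw [H.theta_three hψ1 hk τ, ← hT₃, ← hT₂]
    have h1 : ((ψ τ : ℂˣ) : ℂ) = -1 := by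
      rcases hom_sq ψ hτ with h | h
      · exact absurd (Units.ext h) hψ
      · exact h
    have h3 := hval ψ
    rw [h1] at h3 ⊢
    rcases hom_sq ψ hT₂2 with h4 | h4 <;> rcases hom_sq ψ hT₃2 with h5 | h5 <;> rw [h4, h5] at h3 ⊢ <;> (try norm_num at h3) <;> (try norm_num)

omit hMp in
/-- The pointwise value of `α_s` on products of involutions, `p = 2`. -/
theorem alpha_conj_apply [M.IsPrime] (hM : IsPModular p M) (H : Hyp P 3) (hp2 : p = 2) {τ : ↥(P : Subgroup G)} (hτ : τ * τ = 1)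
    (hτ1 : τ ≠ 1) (s : TT P) (g : G) [Decidable (p ∣ orderOf (g * (τ : G) * g⁻¹ * τ))] :
    alpha P 3 M s.1 (g * (τ : G) * g⁻¹ * τ) = if p ∣ orderOf (g * (τ : G) * g⁻¹ * τ) then beta 3 s.1 τ else 0 := by
  have hs : Inv (beta 3 s.1) := beta_inv (Hyp.theta_mem_inv s.2)
  have hy1 : (τ : G) ≠ 1 := fun h => hτ1 (Subtype.ext h)
  split_ifs with h
  · obtain ⟨z, hz⟩ := Cfsg.Agent.Lib.Blocks.SecondMain.exists_isPPart p (g * (τ : G) * g⁻¹ * τ)
    have hz1 : z ≠ 1 := by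
      rintro rfl
      obtain ⟨v, hv, _, _, hv2⟩ := hz
      rw [one_mul] at hv
      rw [hv] at hv2
      exact hv2 h
    have hττ : (τ : G) * τ = 1 := congrArg Subtype.val hτ
    obtain ⟨c, hc⟩ := isConj_iff.1 (H.conj_of_part hp2 hττ hy1 (isConj_iff.2 ⟨g, rfl⟩) hz hz1)
    -- `c τ c⁻¹ = z`
    have h1 : IsPPart p (c⁻¹ * (g * (τ : G) * g⁻¹ * τ) * c⁻¹⁻¹) (c⁻¹ * z * c⁻¹⁻¹) := isPPart_conj hz c⁻¹
    have h2 : c⁻¹ * z * c⁻¹⁻¹ = τ := by
      rw [← hc]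
      group
    rw [h2] at h1
    have h3 := secMap_section (m := 3) hM H (beta 3 s.1) h1 τ.2 hy1
    have h4 := secMap_apply hM H (by norm_num) hs τ hτ1
    have h5 : secMap P 3 M (beta 3 s.1) (c⁻¹ * (g * (τ : G) * g⁻¹ * τ) * c⁻¹⁻¹) =
        secMap P 3 M (beta 3 s.1) (g * (τ : G) * g⁻¹ * τ) := by
      refine Finset.sum_congr rfl fun χ _ => ?_
      rw [Cfsg.Agent.Lib.Blocks.Central.isClassFunction_of_irr χ.2]
    rw [alpha, ← h5, h3, h4]
  · exact secMap_reg hM _ h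

open Classical in
theorem Data.bound {ε : ℤ} {a : IrrCharacter G → ℤ} {f : TT P → IrrCharacter G} (D : Data P 3 M ε 0 a f) (H : Hyp P 3)
    {χ : IrrCharacter G} (hχ : χ ∈ XF M f) (ha : a χ = -1) (hP : 16 ≤ Nat.card (P : Subgroup G)) :
    15 ≤ charDegree (χ : G → ℂ) := by
  obtain ⟨n, hn⟩ := exists_int_chi (1 : ↥(P : Subgroup G) →* ℂˣ) χ
  rw [classInner] at hn
  have hPc : (Nat.card (P : Subgroup G) : ℂ) ≠ 0 := Nat.cast_ne_zero.2 Nat.card_pos.ne'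
  have h1 : ∑ y : ↥(P : Subgroup G), chi (1 : ↥(P : Subgroup G) →* ℂˣ) y * conj (resP P (χ : G → ℂ) y) =
      (charDegree (χ : G → ℂ) : ℂ) - ((Nat.card (P : Subgroup G) : ℂ) - 1) := by
    rw [← Finset.add_sum_erase _ _ (Finset.mem_univ (1 : ↥(P : Subgroup G)))]
    have h2 : ∀ y ∈ (Finset.univ.erase 1 : Finset ↥(P : Subgroup G)),
        chi (1 : ↥(P : Subgroup G) →* ℂˣ) y * conj (resP P (χ : G → ℂ) y) = -1 := by
      intro y hy
      have h3 := D.value_X H (by norm_num) hχ (Finset.ne_of_mem_erase hy)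
      simp only [chi_one_eq, resP, one_mul]
      rw [h3, ha]
      simp
    rw [Finset.sum_congr rfl h2, Finset.sum_const, Finset.card_erase_of_mem (Finset.mem_univ _), Finset.card_univ,
      ← Nat.card_eq_fintype_card]
    simp only [chi_one_eq, resP, one_mul, Subgroup.coe_one]
    rw [← deg_cast, Complex.conj_natCast, nsmul_eq_mul]
    have h4 : 1 ≤ Nat.card (P : Subgroup G) := Nat.card_pos
    push_cast [h4]
    ring
  rw [h1] at hn
  have h5 : ((charDegree (χ : G → ℂ) : ℤ) + 1 : ℂ) = ((Nat.card (P : Subgroup G) : ℤ) * (n + 1) : ℤ) := by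
    field_simp at hn
    push_cast
    linear_combination hn
  have h6 : ((charDegree (χ : G → ℂ) : ℤ) + 1 : ℤ) = (Nat.card (P : Subgroup G) : ℤ) * (n + 1) := by
    exact_mod_cast h5
  have hP0 : (16 : ℤ) ≤ (Nat.card (P : Subgroup G) : ℤ) := by exact_mod_cast hP
  have hd : (0 : ℤ) ≤ (charDegree (χ : G → ℂ) : ℤ) := by positivity
  have hn1 : 1 ≤ n + 1 := by
    by_contra hc
    have : n + 1 ≤ 0 := by omega
    nlinarith
  have : (15 : ℤ) ≤ (charDegree (χ : G → ℂ) : ℤ) := by nlinarith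
  exact_mod_cast this

/-- The even case of the last statement is vacuous. -/
theorem Data.moreover_even {ε : ℤ} {a : IrrCharacter G → ℤ} {f : TT P → IrrCharacter G} (D : Data P 3 M ε 0 a f)
    (hM : IsPModular p M) (H : Hyp P 3) (hp2 : p = 2) (hcard : 4 < Nat.card (P : Subgroup G))
    (hP16 : 16 ≤ Nat.card (P : Subgroup G)) {τ : ↥(P : Subgroup G)} (hτ : τ * τ = 1) (hτ1 : τ ≠ 1)
    (hgen : ∀ K : Subgroup G, K.Normal → (τ : G) ∈ K → K = ⊤) {χ₂ χ₃ : IrrCharacter G} (h23 : χ₂ ≠ χ₃)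
    (h2 : χ₂ ≠ trivChar G) (h3 : χ₃ ≠ trivChar G) (hXF : XF M f = {trivChar G, χ₂, χ₃})
    (ha₀ : a (trivChar G) = 1) (ha₂ : a χ₂ = 1 ∨ a χ₂ = -1) (ha₃ : a χ₃ = 1 ∨ a χ₃ = -1) : False := by
  classical
  obtain ⟨⟨s₃, hs₃⟩, ⟨sm, hsm⟩⟩ := H.exists_theta hcard hτ hτ1
  have hp1 : ¬ p ∣ orderOf (1 : G) := by
    rw [orderOf_one]
    exact hp.out.one_lt.ne' ∘ Nat.dvd_one.mp
  have hχ₂ : χ₂ ∈ XF M f := by rw [hXF]; simp
  have hχ₃ : χ₃ ∈ XF M f := by rw [hXF]; simp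
  set D₂ := charDegree (χ₂ : G → ℂ) with hD₂
  set D₃ := charDegree (χ₃ : G → ℂ) with hD₃
  set Dη := charDegree (f s₃ : G → ℂ) with hDη
  have hc₂ : (χ₂ : G → ℂ) 1 = (D₂ : ℂ) := (deg_cast χ₂).symm
  have hc₃ : (χ₃ : G → ℂ) 1 = (D₃ : ℂ) := (deg_cast χ₃).symm
  have hc : ∀ s, (f s : G → ℂ) 1 = (Dη : ℂ) := fun s => by
    rw [D.reg_eq hM hp1 s s₃]
    exact (deg_cast (f s₃)).symm
  have hp₂ : 0 < D₂ := deg_pos χ₂
  have hp₃ : 0 < D₃ := deg_pos χ₃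
  have hpη : 0 < Dη := deg_pos (f s₃)
  have hq₂ : (D₂ : ℂ) ≠ 0 := Nat.cast_ne_zero.2 hp₂.ne'
  have hq₃ : (D₃ : ℂ) ≠ 0 := Nat.cast_ne_zero.2 hp₃.ne'
  have hqη : (Dη : ℂ) ≠ 0 := Nat.cast_ne_zero.2 hpη.ne'
  have hG : (Nat.card G : ℂ) ≠ 0 := Nat.cast_ne_zero.2 Nat.card_pos.ne'
  have hv₂ : (χ₂ : G → ℂ) τ = a χ₂ := D.value_X H (by norm_num) hχ₂ hτ1
  have hv₃ : (χ₃ : G → ℂ) τ = a χ₃ := D.value_X H (by norm_num) hχ₃ hτ1
  have htriv1 : ∀ g, ((trivChar G : IrrCharacter G) : G → ℂ) g = 1 := fun _ => rfl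
  have hεε : (ε : ℂ) * ε = 1 := by
    rcases D.hε with h | h <;> rw [h] <;> norm_num
  set E : ℕ := (Finset.univ.filter (fun g : G => p ∣ orderOf (g * (τ : G) * g⁻¹ * τ))).card with hE
  set A : ℂ := 1 + a χ₂ * (a χ₂ * a χ₂ / D₂) + a χ₃ * (a χ₃ * a χ₃ / D₃) with hA
  have key : ∀ s : TT P, (E : ℂ) * (3 - s.1 τ) = (Nat.card G : ℂ) * (A - ε * (s.1 τ * s.1 τ / Dη)) := by
    intro s
    have h := D.sum_alpha s (τ : G)
    simp only [alpha_conj_apply hM H hp2 hτ hτ1 s] at h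
    rw [Finset.sum_ite, Finset.sum_const_zero, add_zero, Finset.sum_const, nsmul_eq_mul,
      sum_XF h23 h2 h3 hXF, ha₀, htriv1, htriv1, hv₂, hv₃, hc₂, hc₃, hc s] at h
    have hvy : (f s : G → ℂ) τ = (ε : ℂ) * s.1 τ := by
      have := D.value_Y H (by norm_num) s hτ1
      rw [this]
      simp
    rw [hvy] at h
    have h5 : (ε : ℂ) * s.1 τ * ((ε : ℂ) * s.1 τ) / Dη = s.1 τ * s.1 τ / Dη := by
      congr 1
      linear_combination (s.1 τ * s.1 τ) * hεε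
    rw [h5] at h
    have h6 : beta 3 s.1 τ = 3 - s.1 τ := by
      simp [beta]
    rw [h6] at h
    rw [h]
    simp only [hA]
    push_cast
    ring
  have k3 := key s₃
  have km := key sm
  rw [hs₃] at k3
  rw [hsm] at km
  have hA3 : A = ε * (9 / Dη) := by
    have h1 : (Nat.card G : ℂ) * (A - ε * (3 * 3 / Dη)) = 0 := by
      rw [← k3]
      ring
    have h2 := (mul_eq_zero.1 h1).resolve_left hG
    linear_combination h2
  have h8 : (E : ℂ) * 4 * Dη = (Nat.card G : ℂ) * 8 * ε := by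
    rw [hA3] at km
    field_simp at km
    linear_combination km
  have hε1 : ε = 1 := by
    rcases D.hε with h | h
    · exact h
    · exfalso
      rw [h] at h8
      have h9 : ((E * 4 * Dη : ℕ) : ℤ) = ((Nat.card G * 8 : ℕ) : ℤ) * (-1) := by
        have : (((E * 4 * Dη : ℕ) : ℤ) : ℂ) = ((((Nat.card G * 8 : ℕ) : ℤ) * (-1) : ℤ) : ℂ) := by
          push_cast
          push_cast at h8
          exact h8
        exact_mod_cast this
      have h10 : 0 < Nat.card G := Nat.card_pos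
      push_cast at h9
      nlinarith [Int.natCast_nonneg E, Int.natCast_nonneg Dη, mul_nonneg (mul_nonneg (Int.natCast_nonneg E) (by norm_num : (0 : ℤ) ≤ 4)) (Int.natCast_nonneg Dη)]
  have haa₂ : (a χ₂ : ℂ) * a χ₂ = 1 := by
    rcases ha₂ with h | h <;> rw [h] <;> norm_num
  have haa₃ : (a χ₃ : ℂ) * a χ₃ = 1 := by
    rcases ha₃ with h | h <;> rw [h] <;> norm_num
  rw [hε1] at hA3
  simp only [hA, haa₂, haa₃] at hA3
  have e1 : ((D₂ : ℤ) * D₃ + a χ₂ * D₃ + a χ₃ * D₂) * Dη = 9 * ((D₂ : ℤ) * D₃) := by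
    have h9 : ((((D₂ : ℤ) * D₃ + a χ₂ * D₃ + a χ₃ * D₂) * Dη : ℤ) : ℂ) = ((9 * ((D₂ : ℤ) * D₃) : ℤ) : ℂ) := by
      push_cast
      push_cast at hA3
      field_simp at hA3
      linear_combination hA3
    exact_mod_cast h9
  have e0 : (Dη : ℤ) = 1 + a χ₂ * D₂ + a χ₃ * D₃ := by
    have h := D.reg_rel hM hp1 s₃
    rw [sum_XF h23 h2 h3 hXF, ha₀, htriv1, hc₂, hc₃, hc s₃, hε1] at h
    have h9 : (((Dη : ℤ) : ℤ) : ℂ) = ((1 + a χ₂ * D₂ + a χ₃ * D₃ : ℤ) : ℂ) := by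
      push_cast at h ⊢
      linear_combination -h
    exact_mod_cast h9
  have hz : ∀ n : ℕ, 0 < n → (1 : ℤ) ≤ (n : ℤ) := fun n hn => by exact_mod_cast hn
  obtain ⟨h₂, h₃, hd₂, hd₃⟩ := alg_even (a χ₂) (a χ₃) Dη D₂ D₃ ha₂ ha₃ (hz _ hpη) (hz _ hp₂) (hz _ hp₃) e0 e1
    (fun h => by
      have := D.bound H hχ₂ h hP16
      exact_mod_cast this)
    (fun h => by
      have := D.bound H hχ₃ h hP16
      exact_mod_cast this)
  apply h2
  apply eq_triv_of_apply_eq hgen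
  rw [hv₂, hc₂, h₂]
  have : D₂ = 1 := by exact_mod_cast hd₂
  rw [this]
  simp

end Even

end Cfsg.Agent.Lib.Blocks.AbFrob
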