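import Mathlib
import Cfsg.Prelude.Def_Blocks
import Cfsg.Agent.Lib.Blocks.HeightZero
import Cfsg.Agent.Lib.Blocks.Defect
import Cfsg.Agent.Lib.Blocks.DefectCount

/-!
# The support of the block idempotent

* `support_blockCoeff`: if the coefficient of the block idempotent at `x` does not lie in the local ideal,
  then `x` is `p`-regular and the defect of the class of `x` is at most the defect of the block.
-/

set_option autoImplicit false

namespace Cfsg.Agent.Lib.Blocks.DefectSupport

open Cfsg Cfsg.Agent.Lib.Blocks.Local Cfsg.Agent.Lib.Blocks.Central Cfsg.Agent.Lib.Blocks.Osima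
  Cfsg.Agent.Lib.Blocks.Defect Cfsg.Agent.Lib.Blocks.HeightZero
open scoped ComplexConjugate

universe u

variable {G : Type u} [Group G] [Fintype G] {M : Ideal AlgInt} [hMp : M.IsPrime] {p : ℕ} [hp : Fact p.Prime]

/-- Coefficients of the block idempotent at `p`-singular elements vanish. -/
theorem blockCoeff_eq_zero_of_dvd (hM : IsPModular p M) {B : Set (IrrCharacter G)} (hB : IsPBlock M B)
    {y : G} (hy : p ∣ orderOf y) : blockCoeff B y = 0 := by
  classical
  have h1 := Cfsg.Agent.S0907.result p M hM B hB 1 y (by simpa using hp.out.one_lt.ne') hy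
  have h2 : blockCoeff B y = (Nat.card G : ℂ)⁻¹ * ∑ᶠ χ ∈ B, (χ : G → ℂ) 1 * conj ((χ : G → ℂ) y) := rfl
  rw [h2, h1, mul_zero]

/-- **Support of the block idempotent.** -/
theorem support_blockCoeff (hM : IsPModular p M) {B : Set (IrrCharacter G)} (hB : IsPBlock M B)
    {x : G} (hx : ¬ MemLocalIdeal M (blockCoeff B x)) :
    ¬ p ∣ orderOf x ∧ (Nat.card (Subgroup.centralizer ({x} : Set G))).factorization p ≤ blockDefect p B := by
  classical
  refine ⟨fun hd => hx (by rw [blockCoeff_eq_zero_of_dvd hM hB hd]; exact memLocalIdeal_zero), ?_⟩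
  obtain ⟨g₀, hg₀⟩ := exists_isDefectClass hB
  obtain ⟨D⟩ : Nonempty (Sylow p (Subgroup.centralizer ({g₀} : Set G))) := inferInstance
  obtain ⟨t, Q, hle⟩ := (min_max hM B hB g₀ hg₀ D x).1 (memLocalRing_blockCoeff hB x) hx
  have h1 := Nat.card_le_card_of_injective _ (Subgroup.inclusion_injective hle)
  have h2 : Nat.card ((Q : Subgroup (Subgroup.centralizer ({x} : Set G))).map
      (Subgroup.centralizer ({x} : Set G)).subtype) =
      p ^ (Nat.card (Subgroup.centralizer ({x} : Set G))).factorization p := by
    rw [← Sylow.card_eq_multiplicity Q]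
    exact Nat.card_congr (Subgroup.equivMapOfInjective _ _ Subtype.val_injective).toEquiv.symm
  have h3 : Nat.card (((D : Subgroup (Subgroup.centralizer ({g₀} : Set G))).map
      (Subgroup.centralizer ({g₀} : Set G)).subtype).map (MulAut.conj t).toMonoidHom) =
      p ^ blockDefect p B := by
    rw [← factorization_card_centralizer hM hB hg₀, ← Sylow.card_eq_multiplicity D]
    refine (Nat.card_congr (Subgroup.equivMapOfInjective _ _ (MulAut.conj t).injective).toEquiv.symm).trans ?_
    exact Nat.card_congr (Subgroup.equivMapOfInjective _ _ Subtype.val_injective).toEquiv.symm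
  rw [h2, h3] at h1
  exact (Nat.pow_le_pow_iff_right hp.out.one_lt).mp h1

end Cfsg.Agent.Lib.Blocks.DefectSupport
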