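import Mathlib
import Cfsg.Prelude.Def_Blocks
import Cfsg.Agent.Lib.Blocks.Covering
import Cfsg.Agent.Lib.Coprime.Coset
import Cfsg.Agent.Lib.Char.PermChar
import Cfsg.Agent.Lib.Char.CompleteCor
import Cfsg.Agent.Lib.Char.BlichfeldtB

/-!
# Class functions vanishing on `p`-singular elements

`Q` is a normal `p`-subgroup of a finite group `H`, and `piQ Q` is the permutation character of the
conjugation action of `H` on `Q`.  For a class function `B` vanishing on `p`-singular elements and
a `p`-regular `x`, the sum of `B` over the coset `Q x` is `|Q : C_Q(x)| B(x)`: the `p`-regular elements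
of the coset are the `Q`-conjugates of `x`.  Hence, if `A`, `B` are characters vanishing on
`p`-singular elements, the inner products of `A`, `B` and of `A π`, `B` are computed by the
constituents of `A π` and `B π` with `Q` in their kernel.
-/

set_option autoImplicit false
set_option linter.unusedSectionVars false
set_option linter.style.haveILetI false

namespace Cfsg.Agent.Lib.Blocks.KOCoset

open Cfsg Cfsg.Agent.Lib.Char.Basic Cfsg.Agent.Lib.Char.Ortho Cfsg.Agent.Lib.Blocks.Central
  Cfsg.Agent.Lib.Blocks.Covering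
open scoped ComplexConjugate

universe u

variable {H : Type u} [Group H]

section Elementary

variable {p : ℕ} [hp : Fact p.Prime] {Q : Subgroup H}

/-- An element of a `p`-subgroup of order prime to `p` is trivial. -/
theorem eq_one_of_mem_of_not_dvd (hQ : IsPGroup p Q) {w : H} (hw : w ∈ Q) (h : ¬ p ∣ orderOf w) : w = 1 := by
  obtain ⟨k, hk⟩ := hQ ⟨w, hw⟩
  have h1 : w ^ (p ^ k) = 1 := by
    have := congrArg Subtype.val hk
    simpa using this
  have h2 := orderOf_dvd_of_pow_eq_one h1
  obtain ⟨i, -, hi⟩ := (Nat.dvd_prime_pow hp.out).mp h2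
  rcases i with _ | i
  · simpa using hi
  · exact absurd (hi ▸ dvd_pow_self p (Nat.succ_ne_zero i)) h

/-- Elements of a coset of a normal `p`-subgroup of order prime to `p` have the same order. -/
theorem orderOf_dvd_of_coset [hQn : Q.Normal] (hQ : IsPGroup p Q) {x y : H} (hxy : y * x⁻¹ ∈ Q)
    (hy : ¬ p ∣ orderOf y) : orderOf y ∣ orderOf x := by
  have h1 : y ^ orderOf x ∈ Q := by
    have h2 : QuotientGroup.mk' Q y = QuotientGroup.mk' Q x := by
      rw [QuotientGroup.mk'_apply, QuotientGroup.mk'_apply, QuotientGroup.eq]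
      have : y⁻¹ * x = (x⁻¹ * y)⁻¹ := by group
      rw [this]
      apply Q.inv_mem
      have h3 : x⁻¹ * y = x⁻¹ * (y * x⁻¹) * x⁻¹⁻¹ := by group
      rw [h3]
      exact hQn.conj_mem _ hxy _
    have h4 : QuotientGroup.mk' Q (y ^ orderOf x) = 1 := by
      rw [map_pow, h2, ← map_pow, pow_orderOf_eq_one, map_one]
    exact (QuotientGroup.eq_one_iff _).mp h4
  have h5 : ¬ p ∣ orderOf (y ^ orderOf x) := fun h =>
    hy (h.trans (orderOf_pow_dvd _))
  have h6 := eq_one_of_mem_of_not_dvd hQ h1 h5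
  exact orderOf_dvd_of_pow_eq_one h6

/-- The `p`-regular elements of a coset of a normal `p`-subgroup are conjugate. -/
theorem exists_conj_of_coset [Finite H] [hQn : Q.Normal] (hQ : IsPGroup p Q) {x q : H} (hq : q ∈ Q)
    (hx : ¬ p ∣ orderOf x) (hy : ¬ p ∣ orderOf (q * x)) : ∃ t ∈ Q, t * x * t⁻¹ = q * x := by
  classical
  set y := q * x with hydef
  have hyx : y * x⁻¹ ∈ Q := by
    rw [hydef, mul_inv_cancel_right]
    exact hq
  have hxy : x * y⁻¹ ∈ Q := by
    have : x * y⁻¹ = (y * x⁻¹)⁻¹ := by group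
    rw [this]
    exact Q.inv_mem hyx
  have hord : orderOf y = orderOf x :=
    Nat.dvd_antisymm (orderOf_dvd_of_coset hQ hyx hy) (orderOf_dvd_of_coset hQ hxy hx)
  have hnorm : Subgroup.normalizer (Q : Set H) = ⊤ := Subgroup.normalizer_eq_top Q
  have hAN : Subgroup.zpowers x ≤ Subgroup.normalizer (Q : Set H) := by
    rw [hnorm]
    exact le_top
  have hcop : (Nat.card (Subgroup.zpowers x)).Coprime (Nat.card Q) := by
    rw [Nat.card_zpowers]
    obtain ⟨k, hk⟩ := IsPGroup.iff_card.mp hQ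
    rw [hk]
    exact Nat.Coprime.pow_right _ ((Nat.Prime.coprime_iff_not_dvd hp.out).mpr hx).symm
  have hsolv : Group.IsSolvable Q := by
    have := hQ.isNilpotent
    infer_instance
  have hle : Subgroup.zpowers y ≤ Q ⊔ Subgroup.zpowers x := by
    rw [Subgroup.zpowers_le, hydef]
    exact Subgroup.mul_mem _ (Subgroup.mem_sup_left hq) (Subgroup.mem_sup_right (Subgroup.mem_zpowers x))
  have hcard : Nat.card (Subgroup.zpowers y) = Nat.card (Subgroup.zpowers x) := by
    rw [Nat.card_zpowers, Nat.card_zpowers, hord]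
  obtain ⟨n, hn, hmap⟩ := Cfsg.Agent.Lib.Coprime.Coset.exists_conj_eq_of_card_eq hAN hcop (Or.inr hsolv)
    hle hcard
  have hmem : y ∈ (Subgroup.zpowers x).map (MulAut.conj n).toMonoidHom := by
    rw [hmap]
    exact Subgroup.mem_zpowers y
  obtain ⟨w, ⟨j, rfl⟩, hw⟩ := hmem
  have hw' : n * x ^ j * n⁻¹ = y := hw
  refine ⟨n, hn, ?_⟩
  -- `x ^ j = x`
  have h1 : x ^ j * x⁻¹ ∈ Q := by
    have h2 : x ^ j = n⁻¹ * y * n := by
      rw [← hw']
      group
    have h3 : x ^ j * x⁻¹ = n⁻¹ * (y * x⁻¹) * (x * n * x⁻¹) := by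
      rw [h2]
      group
    rw [h3]
    exact Q.mul_mem (Q.mul_mem (Q.inv_mem hn) hyx) (hQn.conj_mem _ hn _)
  have h2 : ¬ p ∣ orderOf (x ^ j * x⁻¹) := by
    have h3 : x ^ j * x⁻¹ = x ^ (j - 1) := by
      rw [zpow_sub_one]
    rw [h3]
    intro h4
    apply hx
    apply h4.trans
    apply orderOf_dvd_of_pow_eq_one
    rw [← zpow_natCast, ← zpow_mul, mul_comm, zpow_mul, zpow_natCast, pow_orderOf_eq_one, one_zpow]
  have h3 := eq_one_of_mem_of_not_dvd hQ h1 h2
  have h4 : x ^ j = x := by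
    rw [mul_inv_eq_one] at h3
    exact h3
  rw [← hw', h4]

end Elementary

section PiQ

variable (Q : Subgroup H)

/-- The number of elements of `Q` commuting with `x`. -/
noncomputable def piQ (x : H) : ℕ := Nat.card {t : Q // (t : H) * x = x * t}

theorem piQ_pos [Finite H] (x : H) : 0 < piQ Q x := by
  rw [piQ]
  haveI : Nonempty {t : Q // (t : H) * x = x * t} := ⟨⟨1, by simp⟩⟩
  exact Nat.card_pos

theorem piQ_le [Finite H] (x : H) : piQ Q x ≤ Nat.card Q := by
  rw [piQ]
  exact Nat.card_le_card_of_injective (fun t => t.1) Subtype.val_injective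

theorem piQ_eq_card_iff [Finite H] (x : H) : piQ Q x = Nat.card Q ↔ ∀ q ∈ Q, q * x = x * q := by
  classical
  cases nonempty_fintype H
  rw [piQ, Nat.card_eq_fintype_card, Nat.card_eq_fintype_card, Fintype.card_subtype,
    Finset.card_eq_iff_eq_univ, Finset.filter_eq_self]
  constructor
  · intro h q hq
    exact h ⟨q, hq⟩ (Finset.mem_univ _)
  · intro h q _
    exact h q q.2

theorem isCharacter_piQ [Finite H] [hQ : Q.Normal] : IsCharacter H (fun x => (piQ Q x : ℂ)) := by
  classical
  cases nonempty_fintype H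
  letI act : MulAction H Q := MulAction.compHom Q (MulAut.conjNormal : H →* MulAut Q)
  have h := Cfsg.Agent.Lib.Char.PermChar.isCharacter_perm (G := H) (Ω := Q)
  convert h using 2 with x
  rw [piQ]
  congr 1
  apply Nat.card_congr
  apply Equiv.subtypeEquivRight
  intro t
  rw [MulAction.mem_fixedBy]
  show _ ↔ (MulAut.conjNormal x) t = t
  rw [Subtype.ext_iff, MulAut.conjNormal_apply]
  constructor
  · intro h1
    rw [← h1]
    group
  · intro h1
    calc (t : H) * x = (x * t * x⁻¹) * x := by rw [h1]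
      _ = x * t := by group

/-- The character `π` of the conjugation action on `Q`. -/
noncomputable abbrev piC (x : H) : ℂ := (piQ Q x : ℂ)

theorem isClassFunction_piC [Finite H] [Q.Normal] : IsClassFunction H (piC Q) :=
  isClassFunction_of_isCharacter (isCharacter_piQ Q)

theorem conj_piC (x : H) : conj (piC Q x) = piC Q x := Complex.conj_natCast _

theorem piC_ne_zero [Finite H] (x : H) : piC Q x ≠ 0 := by
  rw [piC]
  exact_mod_cast (piQ_pos Q x).ne'

end PiQ

section Coset

variable [Fintype H] {p : ℕ} [hp : Fact p.Prime] {Q : Subgroup H} [hQn : Q.Normal] [Fintype Q]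

/-- The sum of a class function vanishing on `p`-singular elements over a coset of `Q`. -/
theorem sum_mul_piQ (hQ : IsPGroup p Q) {B : H → ℂ} (hcl : IsClassFunction H B)
    (hB : ∀ y, p ∣ orderOf y → B y = 0) {x : H} (hx : ¬ p ∣ orderOf x) :
    (∑ q : Q, B ((q : H) * x)) * (piQ Q x : ℂ) = (Nat.card Q : ℂ) * B x := by
  classical
  let φ : Q → Q := fun t => ⟨(t : H) * x * (t : H)⁻¹ * x⁻¹, by
    have h1 : (t : H) * x * (t : H)⁻¹ * x⁻¹ = (t : H) * (x * (t : H)⁻¹ * x⁻¹) := by group
    rw [h1]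
    exact Q.mul_mem t.2 (hQn.conj_mem _ (Q.inv_mem t.2) _)⟩
  have hφ : ∀ t : Q, ((φ t : Q) : H) * x = t * x * (t : H)⁻¹ := by
    intro t
    show (t : H) * x * (t : H)⁻¹ * x⁻¹ * x = _
    group
  have h1 : ∑ t : Q, B (((φ t : Q) : H) * x) = (Nat.card Q : ℂ) * B x := by
    simp only [hφ, hcl x]
    rw [Finset.sum_const, Finset.card_univ, nsmul_eq_mul, Nat.card_eq_fintype_card]
  have h2 : ∑ t : Q, B (((φ t : Q) : H) * x) =
      ∑ q : Q, ((Finset.univ.filter (fun t => φ t = q)).card : ℂ) * B ((q : H) * x) := by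
    rw [← Finset.sum_fiberwise Finset.univ φ]
    refine Finset.sum_congr rfl fun q _ => ?_
    rw [Finset.sum_congr rfl (g := fun _ => B ((q : H) * x)) (fun t ht => by
      rw [(Finset.mem_filter.mp ht).2])]
    rw [Finset.sum_const, nsmul_eq_mul]
  rw [← h1, h2, Finset.sum_mul]
  refine Finset.sum_congr rfl fun q _ => ?_
  by_cases h0 : B ((q : H) * x) = 0
  · simp [h0]
  have hy : ¬ p ∣ orderOf ((q : H) * x) := fun h => h0 (hB _ h)
  obtain ⟨t₀, ht₀, hconj⟩ := exists_conj_of_coset hQ q.2 hx hy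
  have hcard : (Finset.univ.filter (fun t => φ t = q)).card = piQ Q x := by
    rw [piQ, Nat.card_eq_fintype_card, Fintype.card_subtype]
    symm
    apply Finset.card_bij (fun (c : Q) _ => (⟨t₀, ht₀⟩ : Q) * c)
    · intro c hc
      have hc' : (c : H) * x = x * c := (Finset.mem_filter.mp hc).2
      apply Finset.mem_filter.mpr
      refine ⟨Finset.mem_univ _, ?_⟩
      apply Subtype.ext
      show t₀ * (c : H) * x * (t₀ * (c : H))⁻¹ * x⁻¹ = q
      have h3 : t₀ * (c : H) * x * (t₀ * (c : H))⁻¹ * x⁻¹ = t₀ * ((c : H) * x) * (c : H)⁻¹ * t₀⁻¹ * x⁻¹ := by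
        group
      rw [h3, hc']
      have h4 : t₀ * (x * (c : H)) * (c : H)⁻¹ * t₀⁻¹ * x⁻¹ = (t₀ * x * t₀⁻¹) * x⁻¹ := by group
      rw [h4, hconj]
      group
    · intro a _ b _ hab
      exact mul_left_cancel hab
    · intro t ht
      have ht' : φ t = q := (Finset.mem_filter.mp ht).2
      have h3 : (t : H) * x * (t : H)⁻¹ = t₀ * x * t₀⁻¹ := by
        rw [hconj, ← hφ t, ht']
      refine ⟨(⟨t₀, ht₀⟩ : Q)⁻¹ * t, ?_, ?_⟩
      · apply Finset.mem_filter.mpr
        refine ⟨Finset.mem_univ _, ?_⟩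
        show t₀⁻¹ * (t : H) * x = x * (t₀⁻¹ * (t : H))
        have h4 : (t : H) * x = t₀ * x * t₀⁻¹ * t := by
          rw [← h3]
          group
        rw [mul_assoc, h4]
        group
      · exact mul_inv_cancel_left _ _
  rw [hcard]
  ring

/-- The average of a function over the cosets of `Q`. -/
noncomputable def avgQ (Q : Subgroup H) [Fintype Q] (A : H → ℂ) (x : H) : ℂ :=
  (Nat.card Q : ℂ)⁻¹ * ∑ q : Q, A ((q : H) * x)

theorem avgQ_mul_piQ (hQ : IsPGroup p Q) {B : H → ℂ} (hcl : IsClassFunction H B)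
    (hB : ∀ y, p ∣ orderOf y → B y = 0) {x : H} (hx : ¬ p ∣ orderOf x) :
    avgQ Q B x * piC Q x = B x := by
  rw [avgQ, mul_assoc, sum_mul_piQ hQ hcl hB hx, ← mul_assoc,
    inv_mul_cancel₀ (natCard_subgroup_ne_zero Q), one_mul]

/-- `Q` lies in the kernel. -/
def Triv (Q : Subgroup H) (β : H → ℂ) : Prop := ∀ q ∈ Q, β q = β 1

open scoped Classical in
theorem avgQ_irr (β : IrrCharacter H) (x : H) :
    avgQ Q (β : H → ℂ) x = if Triv Q (β : H → ℂ) then (β : H → ℂ) x else 0 := by
  have h1 := sum_coeff_mul_irr β.2 (isClassFunction_avg Q) x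
  have h2 : ∑ g, (avg Q).coeff g * (β : H → ℂ) (g * x) = avgQ Q (β : H → ℂ) x := by
    rw [avg, sum_push_mul, avgQ, Finset.mul_sum]
    refine Finset.sum_congr rfl fun n _ => ?_
    rw [coeff_avgN]
  rw [← h2, h1]
  split_ifs with h
  · rw [omega_avg_of_kernel Q β.2 h, one_mul]
  · rcases omega_avg_eq_zero_or_one Q β.2 with h0 | h0
    · rw [h0, zero_mul]
    · exact absurd (kernel_of_omega_avg Q β.2 h0) h

open scoped Classical in
theorem avgQ_eq_sum {γ : H → ℂ} (hγ : IsCharacter H γ) :
    avgQ Q γ = ∑ β : IrrCharacter H, classInner γ (β : H → ℂ) •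
      (if Triv Q (β : H → ℂ) then (β : H → ℂ) else 0) := by
  funext x
  have h1 : ∀ y, γ y = ∑ β : IrrCharacter H, classInner γ (β : H → ℂ) * (β : H → ℂ) y := by
    intro y
    have := congrFun (decomp_eq_sum_classInner hγ) y
    simpa [Finset.sum_apply, Pi.smul_apply] using this
  rw [Finset.sum_apply, avgQ]
  simp only [h1, Pi.smul_apply, smul_eq_mul]
  rw [Finset.sum_comm, Finset.mul_sum]
  refine Finset.sum_congr rfl fun β _ => ?_
  have h2 := avgQ_irr (Q := Q) β x
  rw [avgQ] at h2
  rw [← Finset.mul_sum, mul_left_comm, h2]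
  split_ifs <;> simp

open scoped Classical in
/-- The inner product with an average. -/
theorem inner_avgQ (C : H → ℂ) {γ : H → ℂ} (hγ : IsCharacter H γ) :
    classInner C (avgQ Q γ) = ∑ β : IrrCharacter H,
      if Triv Q (β : H → ℂ) then conj (classInner γ (β : H → ℂ)) * classInner C (β : H → ℂ) else 0 := by
  rw [avgQ_eq_sum hγ, classInner_sum_right]
  refine Finset.sum_congr rfl fun β _ => ?_
  rw [classInner_smul_right]
  split_ifs
  · rfl
  · rw [classInner_zero_right, mul_zero]

/-- First inner product formula. -/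
theorem classInner_eq_mul_avgQ (hQ : IsPGroup p Q) {A B : H → ℂ} (hA : ∀ y, p ∣ orderOf y → A y = 0)
    (hBc : IsClassFunction H B) (hB : ∀ y, p ∣ orderOf y → B y = 0) :
    classInner A B = classInner (A * piC Q) (avgQ Q B) := by
  unfold classInner
  congr 1
  refine Finset.sum_congr rfl fun x _ => ?_
  by_cases hx : p ∣ orderOf x
  · simp [hA x hx]
  · rw [← avgQ_mul_piQ hQ hBc hB hx, map_mul, conj_piC, Pi.mul_apply]
    ring

/-- Second inner product formula. -/
theorem mul_classInner_eq_avgQ (hQ : IsPGroup p Q) {A B : H → ℂ} (hA : ∀ y, p ∣ orderOf y → A y = 0)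
    (hBc : IsClassFunction H B) (hB : ∀ y, p ∣ orderOf y → B y = 0) :
    classInner (A * piC Q) B = classInner (A * piC Q) (avgQ Q (B * piC Q)) := by
  have hBc' : IsClassFunction H (B * piC Q) := by
    intro g h
    simp only [Pi.mul_apply]
    rw [hBc g h, isClassFunction_piC Q g h]
  unfold classInner
  congr 1
  refine Finset.sum_congr rfl fun x _ => ?_
  by_cases hx : p ∣ orderOf x
  · simp [hA x hx]
  · have h1 := avgQ_mul_piQ hQ hBc' (fun y hy => by simp [hB y hy]) hx
    simp only [Pi.mul_apply] at h1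
    have h2 := mul_right_cancel₀ (piC_ne_zero Q x) h1
    rw [h2]

end Coset

end Cfsg.Agent.Lib.Blocks.KOCoset
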