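import Mathlib
import Cfsg.Prelude.Def_Blocks
import Cfsg.Agent.Lib.Blocks.Dominate
import Cfsg.Agent.Lib.Blocks.Defect
import Cfsg.Agent.Lib.Blocks.DefectSupport
import Cfsg.Agent.Lib.Blocks.HeightZero
import Cfsg.Agent.Lib.Blocks.Principal
import Cfsg.Agent.Lib.Blocks.BrauerMap
import Cfsg.Agent.S4964

/-!
# Defect groups and quotients

* `memLocalIdeal_sum_of_fixed`: a `p`-group acting on a finite set, `f` an invariant function with local values which
  lies in the local ideal on the fixed points: the sum of `f` lies in the local ideal.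
* `exists_fixed_of_deflate`: a `p`-subgroup centralising `c ∈ G/N` modulo `N`, with the deflation of a central element
  at `c` outside the local ideal: the subgroup centralises a lift of `c` with coefficient outside the local ideal.
-/

set_option autoImplicit false
set_option linter.style.haveILetI false

namespace Cfsg.Agent.Lib.Blocks.QuotDefect

open Cfsg Cfsg.Agent.Lib.Blocks.Local Cfsg.Agent.Lib.Blocks.Central Cfsg.Agent.Lib.Blocks.Osima
  Cfsg.Agent.Lib.Blocks.Dominate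
open scoped ComplexConjugate

universe u

section Fixed

variable {p : ℕ} [hp : Fact p.Prime] {M : Ideal AlgInt} [hMp : M.IsPrime]

/-- Sum over a set with a `p`-group action. -/
theorem memLocalIdeal_sum_of_fixed (hM : IsPModular p M) {U S : Type*} [Group U] [Finite U] [Fintype S]
    [MulAction U S] (hU : IsPGroup p U) {f : S → ℂ} (hinv : ∀ (u : U) (y : S), f (u • y) = f y)
    (hloc : ∀ y, MemLocalRing M (f y)) (hfix : ∀ y, (∀ u : U, u • y = y) → MemLocalIdeal M (f y)) :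
    MemLocalIdeal M (∑ y, f y) := by
  classical
  have h1 : ∑ y, f y = ∑ z ∈ Finset.univ.image f, ((Finset.univ.filter (fun y => f y = z)).card : ℂ) * z := by
    have := Finset.sum_comp (s := (Finset.univ : Finset S)) (fun z : ℂ => z) f
    rw [this]
    simp
  rw [h1]
  refine memLocalIdeal_sum _ _ fun z hz => ?_
  obtain ⟨y₀, -, rfl⟩ := Finset.mem_image.1 hz
  by_cases hex : ∃ y, f y = f y₀ ∧ ∀ u : U, u • y = y
  · obtain ⟨y, hy, hyf⟩ := hex
    rw [← hy]
    refine memLocalIdeal_mul_left (memLocalRing_natCast _) (hfix y hyf)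
  · push Not at hex
    refine memLocalIdeal_mul_right ?_ (hloc y₀)
    rw [memLocalIdeal_natCast_iff hM]
    let T := {y : S // f y = f y₀}
    letI : MulAction U T :=
      { smul := fun u y => ⟨u • y.1, by rw [hinv]; exact y.2⟩
        one_smul := fun y => Subtype.ext (one_smul U y.1)
        mul_smul := fun a b y => Subtype.ext (mul_smul a b y.1) }
    have hmod := hU.card_modEq_card_fixedPoints T
    have hempty : IsEmpty (MulAction.fixedPoints U T) := by
      refine ⟨fun y => ?_⟩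
      obtain ⟨u, hu⟩ := hex y.1.1 y.1.2
      exact hu (congrArg Subtype.val (y.2 u))
    have hc0 : Nat.card (MulAction.fixedPoints U T) = 0 := by simp
    rw [hc0] at hmod
    have hcard : Nat.card T = (Finset.univ.filter (fun y => f y = f y₀)).card := by
      rw [Nat.card_eq_fintype_card, Fintype.card_subtype]
    rw [← hcard]
    exact Nat.modEq_zero_iff_dvd.mp hmod

end Fixed

section Lift

variable {G : Type u} [Group G] [Fintype G] {p : ℕ} [hp : Fact p.Prime]

/-- Lift of a `p`-subgroup of a quotient. -/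
theorem exists_lift_pgroup (N : Subgroup G) [hN : N.Normal] {Ubar : Subgroup (G ⧸ N)} (hU : IsPGroup p Ubar) :
    ∃ U : Subgroup G, IsPGroup p U ∧ U.map (QuotientGroup.mk' N) = Ubar := by
  classical
  let L : Subgroup G := Ubar.comap (QuotientGroup.mk' N)
  let f : L →* Ubar := (QuotientGroup.mk' N).subgroupComap Ubar
  have hf : Function.Surjective f :=
    MonoidHom.subgroupComap_surjective_of_surjective _ _ (QuotientGroup.mk'_surjective N)
  obtain ⟨P⟩ : Nonempty (Sylow p L) := inferInstance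
  let Q : Sylow p Ubar := P.mapSurjective hf
  have hQ : (Q : Subgroup Ubar) = ⊤ := by
    symm
    exact Q.is_maximal' (IsPGroup.of_equiv hU Subgroup.topEquiv.symm) le_top
  refine ⟨P.map L.subtype, P.isPGroup'.map _, ?_⟩
  apply le_antisymm
  · rintro _ ⟨_, ⟨a, -, rfl⟩, rfl⟩
    exact a.2
  · intro ubar hubar
    have h1 : (⟨ubar, hubar⟩ : Ubar) ∈ (Q : Subgroup Ubar) := by
      rw [hQ]
      trivial
    obtain ⟨a, ha, hae⟩ := h1
    refine ⟨a, ⟨a, ha, rfl⟩, ?_⟩
    exact congrArg Subtype.val hae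

end Lift

section Main

variable {G : Type u} [Group G] [Fintype G] {p : ℕ} [hp : Fact p.Prime] {M : Ideal AlgInt} [hMp : M.IsPrime]

/-- A `p`-subgroup centralising a class of `G/N` fixes a lift with coefficient outside the local ideal. -/
theorem exists_fixed_lift (hM : IsPModular p M) (N : Subgroup G) [hN : N.Normal] [Fintype (G ⧸ N)]
    {B : Set (IrrCharacter G)} (hB : IsPBlock M B) {c : G ⧸ N}
    (hc : ¬ MemLocalIdeal M ((deflate N (blockElt B)).coeff c)) {U : Subgroup G} (hUp : IsPGroup p U)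
    (hU : ∀ u ∈ U, (u : G ⧸ N) * c = c * (u : G ⧸ N)) :
    ∃ y : G, (y : G ⧸ N) = c ∧ U ≤ Subgroup.centralizer ({y} : Set G) ∧ ¬ MemLocalIdeal M (blockCoeff B y) := by
  classical
  by_contra hcon
  push Not at hcon
  apply hc
  simp only [deflate, coeff_ofFun, coeff_blockElt]
  let S := {x : G // (x : G ⧸ N) = c}
  have hinvS : ∀ (u : U) (x : S), (((u : G) * x.1 * (u : G)⁻¹ : G) : G ⧸ N) = c := by
    intro u x
    have h1 : (((u : G) * x.1 * (u : G)⁻¹ : G) : G ⧸ N) = ((u : G) : G ⧸ N) * (x.1 : G ⧸ N) * ((u : G) : G ⧸ N)⁻¹ := rfl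
    rw [h1, x.2, hU u u.2]
    simp
  letI act : MulAction U S :=
    { smul := fun u x => ⟨(u : G) * x.1 * (u : G)⁻¹, hinvS u x⟩
      one_smul := fun x => Subtype.ext (by
        show (1 : G) * x.1 * (1 : G)⁻¹ = x.1
        simp)
      mul_smul := fun a b x => Subtype.ext (by
        show ((a : G) * (b : G)) * x.1 * ((a : G) * (b : G))⁻¹ =
          (a : G) * ((b : G) * x.1 * (b : G)⁻¹) * (a : G)⁻¹
        group) }
  have hsum : ∑ x ∈ Finset.univ.filter (fun x : G => (x : G ⧸ N) = c), blockCoeff B x =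
      ∑ x : S, blockCoeff B x.1 := by
    rw [Finset.sum_subtype (p := fun x : G => (x : G ⧸ N) = c) _ (by simp)]
  rw [hsum]
  refine memLocalIdeal_sum_of_fixed hM hUp (f := fun x : S => blockCoeff B x.1) ?_ ?_ ?_
  · intro u x
    exact isClassFunction_blockCoeff B x.1 u
  · intro x
    exact memLocalRing_blockCoeff hB _
  · intro x hx
    refine hcon x.1 x.2 ?_
    intro u hu
    have h1 := congrArg Subtype.val (hx ⟨u, hu⟩)
    have h2 : u * x.1 * u⁻¹ = x.1 := h1
    rw [Cfsg.Agent.Lib.Blocks.Defect.mem_centralizer_singleton_iff]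
    exact mul_inv_eq_iff_eq_mul.1 h2

/-- Conjugation and the quotient map. -/
lemma map_conj_map_mk (N : Subgroup G) [hN : N.Normal] (H : Subgroup G) (x : G) :
    (H.map (MulAut.conj x).toMonoidHom).map (QuotientGroup.mk' N) =
      (H.map (QuotientGroup.mk' N)).map (MulAut.conj (x : G ⧸ N)).toMonoidHom := by
  rw [Subgroup.map_map, Subgroup.map_map]
  congr 1

/-- **A defect group of a block of `G/N` lifts into a defect group of the covering block.** -/
theorem exists_isDefectGroup_le (hM : IsPModular p M) (N : Subgroup G) [hN : N.Normal] [Fintype (G ⧸ N)]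
    {Bbar : Set (IrrCharacter (G ⧸ N))} (hBbar : IsPBlock M Bbar) {B : Set (IrrCharacter G)} (hB : IsPBlock M B)
    (hsub : ∀ χ ∈ Bbar, ∀ ψ : IrrCharacter G, (ψ : G → ℂ) = (χ : G ⧸ N → ℂ) ∘ QuotientGroup.mk → ψ ∈ B)
    {Dbar : Subgroup (G ⧸ N)} (hDbar : IsDefectGroup p M Bbar Dbar) :
    ∃ P : Subgroup G, IsDefectGroup p M B P ∧ Dbar ≤ P.map (QuotientGroup.mk' N) := by
  classical
  obtain ⟨gbar, hgbar, D₀, rfl⟩ := hDbar
  obtain ⟨χ₀, hχ₀⟩ := id hBbar
  have hχ₀mem : χ₀ ∈ Bbar := by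
    rw [hχ₀]
    exact mem_blockOf_self χ₀
  let ψ : IrrCharacter G := ⟨(χ₀ : G ⧸ N → ℂ) ∘ QuotientGroup.mk,
    Cfsg.Agent.Lib.Char.Basic.isIrrCharacter_comp_surjective χ₀.2 (QuotientGroup.mk' N)
      (QuotientGroup.mk'_surjective N)⟩
  have hψ : ψ ∈ B := hsub χ₀ hχ₀mem ψ rfl
  have h1 : omega (χ₀ : G ⧸ N → ℂ) (deflate N (blockElt B)) = 1 := by
    rw [omega_deflate]
    exact omega_blockElt_of_mem hψ
  have hloc := deflate_mem_localCenter N (blockElt_mem_localCenter hB)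
  rw [omega_eq_sum_centralChar (isClassFunction_of_irr χ₀.2) hloc.1] at h1
  obtain ⟨K, hK⟩ : ∃ K : ConjClasses (G ⧸ N), ¬ MemLocalIdeal M
      ((deflate N (blockElt B)).coeff K.out * centralChar (χ₀ : G ⧸ N → ℂ) K.out) := by
    by_contra hcon
    push Not at hcon
    apply not_memLocalIdeal_one (M := M)
    rw [← h1]
    exact memLocalIdeal_sum _ _ fun K _ => hcon K
  set c := K.out with hcdef
  have hc1 : ¬ MemLocalIdeal M ((deflate N (blockElt B)).coeff c) := fun h =>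
    hK (memLocalIdeal_mul_right h (memLocalRing_centralChar χ₀.2 _))
  have hc2 : ¬ MemLocalIdeal M (centralChar (χ₀ : G ⧸ N → ℂ) c) := fun h =>
    hK (memLocalIdeal_mul_left (hloc.2 _) h)
  obtain ⟨xbar, Q, hQ⟩ := (Cfsg.Agent.Lib.Blocks.Defect.min_max hM Bbar hBbar gbar hgbar D₀ c).2 ⟨χ₀, hχ₀mem, hc2⟩
  obtain ⟨U, hUp, hUmap⟩ := exists_lift_pgroup N
    (Cfsg.Agent.Lib.Blocks.Defect.isPGroup_sylow_map Q)
  have hUc : ∀ u ∈ U, (u : G ⧸ N) * c = c * (u : G ⧸ N) := by
    intro u hu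
    have h2 : (u : G ⧸ N) ∈ U.map (QuotientGroup.mk' N) := ⟨u, hu, rfl⟩
    rw [hUmap] at h2
    exact Cfsg.Agent.Lib.Blocks.Defect.mem_centralizer_singleton_iff.1
      (Cfsg.Agent.Lib.Blocks.Defect.sylow_map_le Q h2)
  obtain ⟨y, -, hUy, hy⟩ := exists_fixed_lift hM N hB hc1 hUp hUc
  obtain ⟨g₀, hg₀⟩ := exists_isDefectClass hB
  obtain ⟨D₁⟩ : Nonempty (Sylow p (Subgroup.centralizer ({g₀} : Set G))) := inferInstance
  obtain ⟨t, Q', hQ'⟩ := (Cfsg.Agent.Lib.Blocks.Defect.min_max hM B hB g₀ hg₀ D₁ y).1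
    (memLocalRing_blockCoeff hB y) hy
  obtain ⟨s, hs⟩ := Cfsg.Agent.Lib.Blocks.Defect.exists_le_map_conj Q' hUp hUy
  have hDdef : IsDefectGroup p M B ((D₁ : Subgroup (Subgroup.centralizer ({g₀} : Set G))).map
      (Subgroup.centralizer ({g₀} : Set G)).subtype) := ⟨g₀, hg₀, D₁, rfl⟩
  obtain ⟨w, hw⟩ := QuotientGroup.mk_surjective xbar⁻¹
  set D₁' := (D₁ : Subgroup (Subgroup.centralizer ({g₀} : Set G))).map
      (Subgroup.centralizer ({g₀} : Set G)).subtype with hD₁'
  have hDdef' := Cfsg.Agent.Lib.Blocks.Principal.isDefectGroup_map_conj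
    (Cfsg.Agent.Lib.Blocks.Principal.isDefectGroup_map_conj hDdef t) s
  refine ⟨_, Cfsg.Agent.Lib.Blocks.Principal.isDefectGroup_map_conj hDdef' w, ?_⟩
  intro d hd
  have h2 : (MulAut.conj xbar).toMonoidHom d ∈ (Q : Subgroup (Subgroup.centralizer ({c} : Set (G ⧸ N)))).map
      (Subgroup.centralizer ({c} : Set (G ⧸ N))).subtype := hQ ⟨d, hd, rfl⟩
  rw [← hUmap] at h2
  obtain ⟨u, hu, hue⟩ := h2
  have hu3 := Subgroup.map_mono hQ' (hs hu)
  refine ⟨w * u * w⁻¹, ⟨u, hu3, rfl⟩, ?_⟩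
  have h3 : (u : G ⧸ N) = xbar * d * xbar⁻¹ := hue
  calc QuotientGroup.mk' N (w * u * w⁻¹) = (w : G ⧸ N) * (u : G ⧸ N) * (w : G ⧸ N)⁻¹ := rfl
    _ = xbar⁻¹ * (xbar * d * xbar⁻¹) * xbar⁻¹⁻¹ := by rw [hw, h3]
    _ = d := by group

/-- The order of the image of a Sylow subgroup of the centraliser. -/
lemma card_map_sylow (N : Subgroup G) [hN : N.Normal] (hNp : IsPGroup p N) {g₀ : G} (hg₀p : ¬ p ∣ orderOf g₀)
    (hg₀N : ∀ n ∈ N, n * g₀ = g₀ * n) (D₁ : Sylow p (Subgroup.centralizer ({g₀} : Set G))) :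
    Nat.card (((D₁ : Subgroup (Subgroup.centralizer ({g₀} : Set G))).map
      (Subgroup.centralizer ({g₀} : Set G)).subtype).map (QuotientGroup.mk' N)) =
      p ^ (Nat.card (Subgroup.centralizer ({(g₀ : G ⧸ N)} : Set (G ⧸ N)))).factorization p := by
  classical
  revert D₁
  set C := Subgroup.centralizer ({g₀} : Set G) with hC
  set Cb := Subgroup.centralizer ({(g₀ : G ⧸ N)} : Set (G ⧸ N)) with hCb
  intro D₁
  have hidx : C.index = Cb.index := Cfsg.Agent.S4964.index_centralizer_quotient hNp hg₀p hg₀N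
  have hG : Nat.card G = Nat.card (G ⧸ N) * Nat.card N := Subgroup.card_eq_card_quotient_mul_card_subgroup N
  have h1 := C.card_mul_index
  have h2 := Cb.card_mul_index
  have hidx0 : Cb.index ≠ 0 := Subgroup.index_ne_zero_of_finite
  have hCc : Nat.card C = Nat.card Cb * Nat.card N := by
    apply Nat.eq_of_mul_eq_mul_right (Nat.pos_of_ne_zero hidx0)
    rw [← hidx, h1, hG, hidx, ← h2]
    ring
  obtain ⟨e, he⟩ := IsPGroup.iff_card.mp hNp
  have hCb0 : Nat.card Cb ≠ 0 := Nat.card_pos.ne'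
  have hfac : (Nat.card C).factorization p = (Nat.card Cb).factorization p + e := by
    rw [hCc, he, Nat.factorization_mul hCb0 (pow_ne_zero _ hp.out.ne_zero), Nat.factorization_pow]
    simp [hp.out.factorization_self]
  have hDc : Nat.card ((D₁ : Subgroup C).map C.subtype) = p ^ (Nat.card C).factorization p := by
    rw [← Sylow.card_eq_multiplicity D₁]
    exact Nat.card_congr (Subgroup.equivMapOfInjective _ _ Subtype.val_injective).toEquiv.symm
  set D := (D₁ : Subgroup C).map C.subtype with hD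
  have hND : N ≤ D := by
    have hN₁ : IsPGroup p (N.subgroupOf C) := hNp.comap_of_injective _ (Subgroup.subtype_injective _) |>.of_equiv (MulEquiv.refl _)
    haveI hN₁n : (N.subgroupOf C).Normal := Subgroup.normal_subgroupOf
    have h3 : IsPGroup p ↥(N.subgroupOf C ⊔ (D₁ : Subgroup C)) := hN₁.to_sup_of_normal_left D₁.isPGroup'
    have h4 := D₁.is_maximal' h3 le_sup_right
    intro n hn
    have hnC : n ∈ C := Cfsg.Agent.Lib.Blocks.Defect.mem_centralizer_singleton_iff.2 (hg₀N n hn)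
    have h5 : (⟨n, hnC⟩ : C) ∈ (D₁ : Subgroup C) := by
      rw [← h4]
      exact Subgroup.mem_sup_left (Subgroup.mem_subgroupOf.2 hn)
    exact ⟨⟨n, hnC⟩, h5, rfl⟩
  have hidxD : (D.map (QuotientGroup.mk' N)).index = D.index := by
    rw [Subgroup.index_map, QuotientGroup.ker_mk', sup_eq_left.2 hND, MonoidHom.range_eq_top.2 (QuotientGroup.mk'_surjective N),
      Subgroup.index_top, mul_one]
  have h3 := D.card_mul_index
  have h4 := (D.map (QuotientGroup.mk' N)).card_mul_index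
  have hidxD0 : D.index ≠ 0 := Subgroup.index_ne_zero_of_finite
  have hDD : Nat.card D = Nat.card (D.map (QuotientGroup.mk' N)) * Nat.card N := by
    apply Nat.eq_of_mul_eq_mul_right (Nat.pos_of_ne_zero hidxD0)
    rw [h3, hG, ← h4, hidxD]
    ring
  rw [hDc, hfac, pow_add, he] at hDD
  exact (Nat.eq_of_mul_eq_mul_right (pow_pos hp.out.pos e) hDD).symm

set_option maxHeartbeats 1000000 in
/-- **The block of `G/N` with image defect groups**, for a normal `p`-subgroup `N`. -/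
theorem exists_block_quotient (hM : IsPModular p M) (N : Subgroup G) [hN : N.Normal] [Fintype (G ⧸ N)]
    (hNp : IsPGroup p N) {B : Set (IrrCharacter G)} (hB : IsPBlock M B) :
    ∃ Bbar : Set (IrrCharacter (G ⧸ N)), IsPBlock M Bbar ∧
      (∀ χ ∈ Bbar, ∀ ψ : IrrCharacter G, (ψ : G → ℂ) = (χ : G ⧸ N → ℂ) ∘ QuotientGroup.mk → ψ ∈ B) ∧
      ∀ Dbar : Subgroup (G ⧸ N), IsDefectGroup p M Bbar Dbar ↔
        ∃ P : Subgroup G, IsDefectGroup p M B P ∧ Dbar = P.map (QuotientGroup.mk' N) := by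
  classical
  have hirr : ∀ θ : IrrCharacter (G ⧸ N), IsIrrCharacter G ((θ : G ⧸ N → ℂ) ∘ QuotientGroup.mk) := fun θ =>
    Cfsg.Agent.Lib.Char.Basic.isIrrCharacter_comp_surjective θ.2 (QuotientGroup.mk' N)
      (QuotientGroup.mk'_surjective N)
  obtain ⟨g₀, hg₀⟩ := exists_isDefectClass hB
  obtain ⟨D₁⟩ : Nonempty (Sylow p (Subgroup.centralizer ({g₀} : Set G))) := inferInstance
  have hg₀p := Cfsg.Agent.Lib.Blocks.HeightZero.isPRegular_of_isDefectClass hM hB hg₀
  obtain ⟨χB, hχB⟩ := id hB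
  have hχBmem : χB ∈ B := by
    rw [hχB]
    exact mem_blockOf_self χB
  -- `g₀` centralises `N`
  have hg₀N : g₀ ∈ Subgroup.centralizer (N : Set G) := by
    by_contra hcon
    exact hg₀.2.2 χB hχBmem (Cfsg.Agent.Lib.Blocks.BrauerMap.memLocalIdeal_centralChar_of_not_centralizer hM N hNp χB.2 hcon)
  have hg₀N' : ∀ n ∈ N, n * g₀ = g₀ * n := fun n hn => Subgroup.mem_centralizer_iff.1 hg₀N n hn
  set gbar : G ⧸ N := (g₀ : G ⧸ N) with hgbar
  -- the set of characters of `G/N` with inflation in `B`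
  let A : Set (IrrCharacter (G ⧸ N)) := {θ | (⟨_, hirr θ⟩ : IrrCharacter G) ∈ B}
  have hAcl : ∀ θ ∈ A, ∀ θ' : IrrCharacter (G ⧸ N), SameBlock M (θ : G ⧸ N → ℂ) (θ' : G ⧸ N → ℂ) → θ' ∈ A := by
    intro θ hθ θ' h
    have h1 := sameBlock_comp_mk N θ.2 θ'.2 h
    have h2 : (⟨_, hirr θ⟩ : IrrCharacter G) ∈ blockOf M (χB : G → ℂ) := hχB ▸ hθ
    have h3 : (⟨_, hirr θ'⟩ : IrrCharacter G) ∈ blockOf M (χB : G → ℂ) :=
      Cfsg.Agent.Lib.Blocks.Central.sameBlock_trans h2 h1
    show (⟨_, hirr θ'⟩ : IrrCharacter G) ∈ B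
    rw [hχB]
    exact h3
  have hdef : deflate N (blockElt B) = blockElt A := by
    refine eq_of_omega_eq' (deflate_mem_localCenter N (blockElt_mem_localCenter hB)).1 (isClassFunction_blockElt A) fun θ => ?_
    rw [omega_deflate]
    by_cases hθ : θ ∈ A
    · rw [omega_blockElt_of_mem hθ]
      exact omega_blockElt_of_mem (A := B) (χ := ⟨_, hirr θ⟩) hθ
    · rw [omega_blockElt_of_notMem hθ]
      exact omega_blockElt_of_notMem (A := B) (χ := ⟨_, hirr θ⟩) hθ
  have hcoef : blockCoeff A gbar = blockCoeff B g₀ := by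
    rw [← coeff_blockElt A, ← hdef]
    simp only [deflate, coeff_ofFun, coeff_blockElt]
    rw [Finset.sum_eq_single g₀]
    · intro x hx hne
      have hxc : (x : G ⧸ N) = (g₀ : G ⧸ N) := (Finset.mem_filter.1 hx).2
      refine Cfsg.Agent.Lib.Blocks.DefectSupport.blockCoeff_eq_zero_of_dvd hM hB ?_
      have hn : g₀⁻¹ * x ∈ N := QuotientGroup.eq.1 hxc.symm
      set n := g₀⁻¹ * x with hndef
      have hxeq : x = g₀ * n := by rw [hndef]; group
      have hn1 : n ≠ 1 := by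
        intro h
        apply hne
        rw [hxeq, h, mul_one]
      have hcomm : Commute g₀ n := (hg₀N' n hn).symm
      obtain ⟨k, hk⟩ : ∃ k, orderOf n = p ^ k := by
        obtain ⟨k, hk⟩ := (IsPGroup.iff_orderOf.1 hNp) ⟨n, hn⟩
        exact ⟨k, by rw [← hk]; exact (Subgroup.orderOf_mk n hn).symm⟩
      have hk0 : k ≠ 0 := by
        rintro rfl
        apply hn1
        rw [pow_zero] at hk
        exact orderOf_eq_one_iff.1 hk
      have hcop : Nat.Coprime (orderOf g₀) (orderOf n) := by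
        rw [hk]
        exact Nat.Coprime.pow_right k (((Nat.Prime.coprime_iff_not_dvd hp.out).2 hg₀p).symm)
      rw [hxeq, hcomm.orderOf_mul_eq_mul_orderOf_of_coprime hcop, hk]
      exact Dvd.dvd.mul_left (dvd_pow_self p hk0) _
    · intro h
      exact absurd (Finset.mem_filter.2 ⟨Finset.mem_univ g₀, rfl⟩ :
        g₀ ∈ Finset.univ.filter (fun x : G => (x : G ⧸ N) = gbar)) h
  have hnotid : ¬ MemLocalIdeal M (blockCoeff A gbar) := by
    rw [hcoef]
    exact hg₀.2.1
  -- a block in `A` with coefficient outside the local ideal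
  obtain ⟨θ₀, hθ₀A, hθ₀⟩ : ∃ θ₀ ∈ A, ¬ MemLocalIdeal M (blockCoeff (blockOf M (θ₀ : G ⧸ N → ℂ)) gbar) := by
    by_contra hcon
    push Not at hcon
    apply hnotid
    let f : IrrCharacter (G ⧸ N) → ℂ := fun χ => (χ : G ⧸ N → ℂ) 1 * conj ((χ : G ⧸ N → ℂ) gbar)
    have hsumA : blockCoeff A gbar = (Nat.card (G ⧸ N) : ℂ)⁻¹ * ∑ χ ∈ Finset.univ.filter (· ∈ A), f χ :=
      blockCoeff_eq_sum A gbar
    let T := (Finset.univ.filter (· ∈ A)).image (fun χ : IrrCharacter (G ⧸ N) => blockOf M (χ : G ⧸ N → ℂ))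
    rw [hsumA, ← Finset.sum_fiberwise_of_maps_to (t := T)
      (g := fun χ : IrrCharacter (G ⧸ N) => blockOf M (χ : G ⧸ N → ℂ))
      (fun χ hχ => Finset.mem_image_of_mem _ hχ), Finset.mul_sum]
    refine memLocalIdeal_sum _ _ fun b hb => ?_
    obtain ⟨θ, hθ, rfl⟩ := Finset.mem_image.1 hb
    have hθA : θ ∈ A := (Finset.mem_filter.1 hθ).2
    have hfil : (Finset.univ.filter (· ∈ A)).filter (fun χ : IrrCharacter (G ⧸ N) =>
        blockOf M (χ : G ⧸ N → ℂ) = blockOf M (θ : G ⧸ N → ℂ)) =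
        Finset.univ.filter (· ∈ blockOf M (θ : G ⧸ N → ℂ)) := by
      ext χ
      simp only [Finset.mem_filter, Finset.mem_univ, true_and]
      constructor
      · rintro ⟨-, h⟩
        rw [← h]
        exact mem_blockOf_self χ
      · intro h
        exact ⟨hAcl θ hθA χ h, blockOf_eq_of_mem h⟩
    rw [hfil, ← blockCoeff_eq_sum]
    exact hcon θ hθA
  set b := blockOf M (θ₀ : G ⧸ N → ℂ) with hb
  have hbb : IsPBlock M b := ⟨θ₀, rfl⟩
  have hbA : ∀ χ ∈ b, χ ∈ A := fun χ hχ => hAcl θ₀ hθ₀A χ hχ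
  have hcl : IsDefectClass M b gbar := by
    refine ⟨memLocalRing_blockCoeff hbb _, hθ₀, fun χ hχ h => ?_⟩
    have h1 : (⟨_, hirr χ⟩ : IrrCharacter G) ∈ B := hbA χ hχ
    apply hg₀.2.2 _ h1
    show MemLocalIdeal M (centralChar ((χ : G ⧸ N → ℂ) ∘ QuotientGroup.mk) g₀)
    rw [Cfsg.Agent.S4964.centralChar_comp_mk hNp hg₀p hg₀N']
    exact h
  set D : Subgroup G := (D₁ : Subgroup (Subgroup.centralizer ({g₀} : Set G))).map
      (Subgroup.centralizer ({g₀} : Set G)).subtype with hD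
  have hDdef : IsDefectGroup p M B D := ⟨g₀, hg₀, D₁, rfl⟩
  have hDbar : IsDefectGroup p M b (D.map (QuotientGroup.mk' N)) := by
    refine Cfsg.Agent.Lib.Blocks.Principal.isDefectGroup_of_isDefectClass_of_sylowIn hcl ?_ ?_
    · rintro _ ⟨_, ⟨a, -, rfl⟩, rfl⟩
      rw [Cfsg.Agent.Lib.Blocks.Defect.mem_centralizer_singleton_iff]
      have h1 := Cfsg.Agent.Lib.Blocks.Defect.mem_centralizer_singleton_iff.1 a.2
      exact congrArg (QuotientGroup.mk' N) h1
    · exact card_map_sylow N hNp hg₀p hg₀N' D₁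
  refine ⟨b, hbb, ?_, ?_⟩
  · intro χ hχ ψ hψ
    have h1 : (⟨_, hirr χ⟩ : IrrCharacter G) ∈ B := hbA χ hχ
    have h2 : ψ = ⟨_, hirr χ⟩ := Subtype.ext hψ
    rwa [h2]
  · intro Dbar
    constructor
    · intro h
      obtain ⟨x, hx⟩ := Cfsg.Agent.Lib.Blocks.HeightZero.exists_map_conj_eq_of_isDefectGroup hM hbb h hDbar
      obtain ⟨w, hw⟩ := QuotientGroup.mk_surjective x
      refine ⟨D.map (MulAut.conj w).toMonoidHom, Cfsg.Agent.Lib.Blocks.Principal.isDefectGroup_map_conj hDdef w, ?_⟩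
      rw [map_conj_map_mk, hw]
      exact hx.symm
    · rintro ⟨P, hP, rfl⟩
      obtain ⟨x, hx⟩ := Cfsg.Agent.Lib.Blocks.HeightZero.exists_map_conj_eq_of_isDefectGroup hM hB hP hDdef
      rw [← hx, map_conj_map_mk]
      exact Cfsg.Agent.Lib.Blocks.Principal.isDefectGroup_map_conj hDbar _

end Main

end Cfsg.Agent.Lib.Blocks.QuotDefect
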