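/-
Blocks with cyclic defect groups: the lattice; blocks of quotients by central `p`-subgroups.
-/
import Mathlib
import Cfsg.Agent.Lib.Blocks.AbLat2
import Cfsg.Agent.Lib.Blocks.AbLat7
import Cfsg.Agent.Lib.Blocks.QuotDefect
import Cfsg.Agent.S4552

set_option autoImplicit false
set_option linter.style.haveILetI false

namespace Cfsg.Agent.Lib.Blocks.AbLat

open Cfsg Cfsg.Agent.Lib.Blocks.Local Cfsg.Agent.Lib.Blocks.Central Cfsg.Agent.Lib.Blocks.Osima
  Cfsg.Agent.Lib.Blocks.Regular Cfsg.Agent.Lib.Blocks.BlockCount Cfsg.Agent.Lib.Blocks.Pairs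
  Cfsg.Agent.Lib.Blocks.CentralQuot
open Cfsg.Agent.Lib.Char.Virtual
open scoped ComplexConjugate

universe u

section Cyclic

variable {G : Type u} [Group G] [Fintype G] {p : ℕ} [hp : Fact p.Prime] {M : Ideal AlgInt}

/-- An element of `p'`-order acting on a cyclic `p`-group with a nontrivial fixed point acts trivially. -/
theorem commute_of_fixed {w b x : G} {n : ℕ} (hw : orderOf w = p ^ n) (hb : Nat.Coprime (orderOf b) p)
    (hbw : b * w * b⁻¹ ∈ Subgroup.zpowers w) (hx : x ∈ Subgroup.zpowers w) (hx1 : x ≠ 1) (hbx : b * x * b⁻¹ = x) :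
    b * w * b⁻¹ = w := by
  obtain ⟨r, hr⟩ := Subgroup.mem_zpowers_iff.mp hbw
  obtain ⟨s, rfl⟩ := Subgroup.mem_zpowers_iff.mp hx
  have hconj : ∀ t : ℤ, b * w ^ t * b⁻¹ = w ^ (r * t) := by
    intro t
    rw [zpow_mul, hr, conj_zpow]
  have hpow : ∀ i : ℕ, b ^ i * w * (b ^ i)⁻¹ = w ^ (r ^ i) := by
    intro i
    induction i with
    | zero => simp
    | succ i ih =>
      have h1 : b ^ (i + 1) * w * (b ^ (i + 1))⁻¹ = b * (b ^ i * w * (b ^ i)⁻¹) * b⁻¹ := by
        rw [pow_succ', mul_inv_rev]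
        group
      rw [h1, ih, hconj, pow_succ']
  have hN : ((p ^ n : ℕ) : ℤ) = ((orderOf w : ℕ) : ℤ) := by rw [hw]
  have hd1 : ((p ^ n : ℕ) : ℤ) ∣ r ^ orderOf b - 1 := by
    rw [hN, orderOf_dvd_iff_zpow_eq_one, zpow_sub, zpow_one, ← hpow, pow_orderOf_eq_one]
    simp
  have hd2 : ((p ^ n : ℕ) : ℤ) ∣ (r - 1) * s := by
    rw [hN, orderOf_dvd_iff_zpow_eq_one, sub_mul, one_mul, zpow_sub, ← hconj, hbx]
    simp
  have hnd : ¬ ((p ^ n : ℕ) : ℤ) ∣ s := by
    intro h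
    rw [hN, orderOf_dvd_iff_zpow_eq_one] at h
    exact hx1 h
  have hpi : Prime (p : ℤ) := Nat.prime_iff_prime_int.mp hp.out
  have hpr : (p : ℤ) ∣ r - 1 := by
    by_contra hcon
    have h1 : IsCoprime (p : ℤ) (r - 1) := (Prime.coprime_iff_not_dvd hpi).mpr hcon
    have h2 : IsCoprime (((p ^ n : ℕ) : ℤ)) (r - 1) := by
      push_cast
      exact h1.pow_left
    exact hnd (h2.dvd_of_dvd_mul_left hd2)
  have hgeo : (∑ i ∈ Finset.range (orderOf b), r ^ i) * (r - 1) = r ^ orderOf b - 1 := geom_sum_mul r _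
  have hpG : ¬ (p : ℤ) ∣ ∑ i ∈ Finset.range (orderOf b), r ^ i := by
    intro h
    have h1 : (p : ℤ) ∣ ∑ i ∈ Finset.range (orderOf b), (r ^ i - 1) := by
      refine Finset.dvd_sum fun i _ => hpr.trans ?_
      exact sub_one_dvd_pow_sub_one r i
    rw [Finset.sum_sub_distrib] at h1
    simp only [Finset.sum_const, Finset.card_range, nsmul_eq_mul, mul_one] at h1
    have h2 : (p : ℤ) ∣ (orderOf b : ℤ) := by
      have := dvd_sub h h1
      simpa using this
    have h3 : p ∣ orderOf b := by exact_mod_cast h2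
    have h4 := Nat.dvd_gcd h3 (dvd_refl p)
    rw [hb] at h4
    exact hp.out.one_lt.ne' (Nat.dvd_one.mp h4)
  have hcop : IsCoprime (((p ^ n : ℕ) : ℤ)) (∑ i ∈ Finset.range (orderOf b), r ^ i) := by
    push_cast
    exact ((Prime.coprime_iff_not_dvd hpi).mpr hpG).pow_left
  have hfin : ((p ^ n : ℕ) : ℤ) ∣ r - 1 := by
    apply hcop.dvd_of_dvd_mul_left
    rw [hgeo]
    exact hd1
  rw [hN, orderOf_dvd_iff_zpow_eq_one, zpow_sub, zpow_one] at hfin
  rw [← hr]
  exact mul_inv_eq_one.mp hfin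

/-- **A cyclic defect group: the action of the inertial group is free.** -/
theorem free_of_cyclic (hMp : IsPModular p M) {B : Set (IrrCharacter G)} {P T : Subgroup G}
    {c : Set (IrrCharacter (Subgroup.centralizer (P : Set G)))} (hmax : IsMaximalBrauerPair p M B P c)
    (hT : ∀ g : G, g ∈ T ↔ (g ∈ Subgroup.normalizer (P : Set G) ∧ StabilizesBlock (Subgroup.centralizer (P : Set G)) c g))
    (w : G) (hPw : P = Subgroup.zpowers w) :
    ∀ g ∈ T, ∀ x ∈ P, x ≠ 1 → g * x * g⁻¹ = x → g ∈ Subgroup.centralizer (P : Set G) := by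
  intro g hg x hx hx1 hgx
  haveI : M.IsPrime := hMp.2.1.isPrime
  have hPp : IsPGroup p P := hmax.1.1.1
  obtain ⟨a, b, hab, -, haz, hbz, ⟨k, hk⟩, hb⟩ := Cfsg.Agent.Lib.Transfer.Basic.exists_pPart_decomp (p := p) g
  have hz : Subgroup.zpowers g ≤ T := by
    rw [Subgroup.zpowers_le]
    exact hg
  have hPP : P ≤ Subgroup.centralizer (P : Set G) := by
    intro v hv
    rw [Subgroup.mem_centralizer_iff]
    intro t ht
    rw [hPw] at hv ht
    obtain ⟨i, rfl⟩ := Subgroup.mem_zpowers_iff.mp hv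
    obtain ⟨j, rfl⟩ := Subgroup.mem_zpowers_iff.mp ht
    exact (Commute.zpow_zpow_self w j i).eq
  have h1 := mem_sup_of_isMaximal hMp hmax ((hT a).mp (hz haz)).1 ((hT a).mp (hz haz)).2 ⟨k, hk⟩
  rw [sup_eq_right.mpr hPP] at h1
  -- `b` fixes `x`
  have hgxc : Commute g x := by
    show g * x = x * g
    calc g * x = g * x * g⁻¹ * g := by group
      _ = x * g := by rw [hgx]
  have hbx : b * x * b⁻¹ = x := by
    obtain ⟨i, rfl⟩ := Subgroup.mem_zpowers_iff.mp hbz
    have h2 : Commute (g ^ i) x := hgxc.zpow_left i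
    rw [h2.eq, mul_inv_cancel_right]
  obtain ⟨n, hn⟩ := (IsPGroup.iff_orderOf.1 hPp) ⟨w, by rw [hPw]; exact Subgroup.mem_zpowers w⟩
  have hwo : orderOf w = p ^ n := by
    rw [← hn, Subgroup.orderOf_mk]
  have hbN : b ∈ Subgroup.normalizer (P : Set G) := ((hT b).mp (hz hbz)).1
  have hbw : b * w * b⁻¹ ∈ Subgroup.zpowers w := by
    have h2 : w ∈ P := by rw [hPw]; exact Subgroup.mem_zpowers w
    have h3 := (Subgroup.mem_normalizer_iff.mp hbN w).mp h2
    rwa [hPw] at h3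
  have hcw := commute_of_fixed hwo hb hbw (by rwa [hPw] at hx) hx1 hbx
  have hbC : b ∈ Subgroup.centralizer (P : Set G) := by
    rw [Subgroup.mem_centralizer_iff]
    intro t ht
    rw [hPw] at ht
    obtain ⟨j, rfl⟩ := Subgroup.mem_zpowers_iff.mp ht
    have h4 : Commute b w := by
      show b * w = w * b
      calc b * w = b * w * b⁻¹ * b := by group
        _ = w * b := by rw [hcw]
    exact (h4.zpow_right j).eq.symm
  rw [← hab]
  exact Subgroup.mul_mem _ h1 hbC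

open Classical in
/-- **The lattice of a block with a nontrivial cyclic defect group.** -/
theorem exists_latData_of_cyclic (hMp : IsPModular p M) {B : Set (IrrCharacter G)} (hB : IsPBlock M B) {P : Subgroup G}
    (hPD : IsDefectGroup p M B P) (hP1 : P ≠ ⊥) (w : G) (hPw : P = Subgroup.zpowers w) :
    ∃ (m e : ℕ) (X : Finset (IrrCharacter G)) (q : ℤ) (a : IrrCharacter G → ℤ) (ω : G → ℂ),
      LatData p B X q a ω ∧ ((Finset.univ.filter (· ∈ B)) \ X).card = m ∧ 1 ≤ m ∧ 0 < X.card ∧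
      q ^ 2 + (m : ℤ) * ∑ χ ∈ X, a χ ^ 2 = 1 + (m : ℤ) * e ∧ m * e = Nat.card P - 1 := by
  classical
  haveI : M.IsPrime := hMp.2.1.isPrime
  obtain ⟨c, hmax⟩ := Cfsg.Agent.S4552.exists_maximal_on_defect hMp hB hPD
  have hc := Cfsg.Agent.Lib.Blocks.Pairs.isInducedBlock_of_brauerPair hMp hmax.1
  let T : Subgroup G := Subgroup.normalizer (P : Set G) ⊓ blockStabilizer (Subgroup.centralizer (P : Set G)) c
  have hT : ∀ g : G, g ∈ T ↔ (g ∈ Subgroup.normalizer (P : Set G) ∧ StabilizesBlock (Subgroup.centralizer (P : Set G)) c g) :=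
    fun g => Iff.rfl
  have hab : ∀ x ∈ P, ∀ y ∈ P, x * y = y * x := by
    intro v hv t ht
    rw [hPw] at hv ht
    obtain ⟨i, rfl⟩ := Subgroup.mem_zpowers_iff.mp hv
    obtain ⟨j, rfl⟩ := Subgroup.mem_zpowers_iff.mp ht
    exact (Commute.zpow_zpow_self w i j).eq
  obtain ⟨m, X, q, a, ω, hm1, he1, hm, hk, hXB, hXc, hω, hq, ha, hrel, hnorm⟩ :=
    Cfsg.Agent.Lib.Blocks.AbFree.coreLat hMp hB hPD hP1 hab hc hT rfl (free_of_cyclic hMp hmax hT w hPw)
  refine ⟨m, _, X, q, a, ω, ⟨hXB, hXc, hω, hq, ha, hrel⟩, ?_, hm1, ?_, hnorm, hm⟩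
  · have hsub : X ⊆ Finset.univ.filter (· ∈ B) := fun χ hχ => Finset.mem_filter.mpr ⟨Finset.mem_univ _, hXB χ hχ⟩
    rw [Finset.card_sdiff_of_subset hsub, hXc]
    have hS : (Finset.univ.filter (· ∈ B)).card = Nat.card B := by
      rw [← Fintype.card_coe, ← Nat.card_eq_fintype_card]
      refine Nat.card_congr (Equiv.subtypeEquivRight fun χ => ?_)
      simp
    rw [hS, hk]
    omega
  · rw [hXc]
    exact Cfsg.Agent.Lib.Blocks.CentralQuot.blockRank_pos hB

end Cyclic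

end Cfsg.Agent.Lib.Blocks.AbLat
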