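/-
Blocks with abelian defect groups generated by two or three elements.
-/
import Mathlib
import Cfsg.Agent.Lib.Blocks.AbLat8
import Cfsg.Agent.Lib.Blocks.StarK
import Cfsg.Agent.S4494
import Cfsg.Agent.S4733

set_option autoImplicit false
set_option linter.style.haveILetI false

namespace Cfsg.Agent.Lib.Blocks.AbLat

open Cfsg Cfsg.Agent.Lib.Blocks.Local Cfsg.Agent.Lib.Blocks.Central Cfsg.Agent.Lib.Blocks.Osima
  Cfsg.Agent.Lib.Blocks.Regular Cfsg.Agent.Lib.Blocks.Cartan Cfsg.Agent.Lib.Blocks.Sections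
  Cfsg.Agent.Lib.Blocks.BlockCount Cfsg.Agent.Lib.Blocks.HeightZero Cfsg.Agent.Lib.Blocks.MajorSub
  Cfsg.Agent.Lib.Blocks.MajorSub2 Cfsg.Agent.Lib.Blocks.MajorSub3 Cfsg.Agent.Lib.Blocks.MajorNum
  Cfsg.Agent.Lib.Blocks.CycloSums Cfsg.Agent.Lib.Blocks.MajorLattice Cfsg.Agent.Lib.Blocks.CentralQuot
  Cfsg.Agent.Lib.Blocks.Pairs
open Cfsg.Agent.Lib.Char.Virtual
open scoped ComplexConjugate

universe u

section GroupTheory

variable {Q : Type*} [Group Q]

/-- A subgroup of a cyclic subgroup is cyclic. -/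
lemma exists_zpowers_of_le {P : Subgroup Q} {v : Q} (h : P ≤ Subgroup.zpowers v) : ∃ w, P = Subgroup.zpowers w := by
  have hc : IsCyclic (P.subgroupOf (Subgroup.zpowers v)) := inferInstance
  obtain ⟨g, hg⟩ := IsCyclic.exists_generator (α := P.subgroupOf (Subgroup.zpowers v))
  refine ⟨(g : Subgroup.zpowers v), ?_⟩
  apply le_antisymm
  · intro x hx
    obtain ⟨n, hn⟩ := Subgroup.mem_zpowers_iff.mp (hg ⟨⟨x, h hx⟩, Subgroup.mem_subgroupOf.mpr hx⟩)
    refine Subgroup.mem_zpowers_iff.mpr ⟨n, ?_⟩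
    have h2 := congrArg (fun y : P.subgroupOf (Subgroup.zpowers v) => ((y : Subgroup.zpowers v) : Q)) hn
    simpa using h2
  · rw [Subgroup.zpowers_le]
    exact Subgroup.mem_subgroupOf.mp g.2

/-- A subgroup of a group generated by two commuting elements is generated by two elements. -/
lemma exists_two_gen_of_le {P : Subgroup Q} {v t : Q} (hc : Commute v t) (hle : ∀ a ∈ P, ∃ i j : ℤ, a = v ^ i * t ^ j) :
    ∃ x ∈ P, ∃ y ∈ P, ∀ a ∈ P, ∃ i j : ℤ, a = x ^ i * y ^ j := by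
  let J : AddSubgroup ℤ :=
    { carrier := {j | ∃ a ∈ P, ∃ i : ℤ, a = v ^ i * t ^ j}
      zero_mem' := ⟨1, P.one_mem, 0, by simp⟩
      add_mem' := by
        rintro j₁ j₂ ⟨a₁, h₁, i₁, rfl⟩ ⟨a₂, h₂, i₂, rfl⟩
        refine ⟨_, P.mul_mem h₁ h₂, i₁ + i₂, ?_⟩
        rw [zpow_add, zpow_add]
        have h3 : Commute (t ^ j₁) (v ^ i₂) := (hc.symm.zpow_zpow j₁ i₂)
        calc v ^ i₁ * t ^ j₁ * (v ^ i₂ * t ^ j₂) = v ^ i₁ * (t ^ j₁ * v ^ i₂) * t ^ j₂ := by group
          _ = v ^ i₁ * (v ^ i₂ * t ^ j₁) * t ^ j₂ := by rw [h3.eq]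
          _ = _ := by group
      neg_mem' := by
        rintro j ⟨a, h, i, rfl⟩
        refine ⟨_, P.inv_mem h, -i, ?_⟩
        have h3 : Commute (t ^ (-j)) (v ^ (-i)) := (hc.symm.zpow_zpow _ _)
        rw [mul_inv_rev, ← zpow_neg, ← zpow_neg, h3.eq] }
  let I : AddSubgroup ℤ :=
    { carrier := {i | v ^ i ∈ P}
      zero_mem' := by simp [P.one_mem]
      add_mem' := by
        intro i₁ i₂ h₁ h₂
        show v ^ (i₁ + i₂) ∈ P
        rw [zpow_add]
        exact P.mul_mem h₁ h₂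
      neg_mem' := by
        intro i h
        show v ^ (-i) ∈ P
        rw [zpow_neg]
        exact P.inv_mem h }
  obtain ⟨j₀, hj₀⟩ := Int.subgroup_cyclic J
  obtain ⟨i₁, hi₁⟩ := Int.subgroup_cyclic I
  have hj₀J : j₀ ∈ J := by
    rw [hj₀]
    exact AddSubgroup.mem_closure_singleton_self j₀
  have hi₁I : i₁ ∈ I := by
    rw [hi₁]
    exact AddSubgroup.mem_closure_singleton_self i₁
  obtain ⟨a₀, ha₀, i₀, ha₀e⟩ := hj₀J
  refine ⟨v ^ i₁, hi₁I, a₀, ha₀, fun a ha => ?_⟩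
  obtain ⟨i, j, rfl⟩ := hle a ha
  have hjJ : j ∈ J := ⟨_, ha, i, rfl⟩
  rw [hj₀, AddSubgroup.mem_closure_singleton] at hjJ
  obtain ⟨n, hn⟩ := hjJ
  have hpow : a₀ ^ n = v ^ (i₀ * n) * t ^ (j₀ * n) := by
    rw [ha₀e, (hc.zpow_zpow i₀ j₀).mul_zpow, zpow_mul, zpow_mul]
  have hjn : j = j₀ * n := by
    rw [← hn]
    simp [mul_comm]
  have hrest : v ^ (i - i₀ * n) ∈ P := by
    have h1 : v ^ (i - i₀ * n) = v ^ i * t ^ j * (a₀ ^ n)⁻¹ := by
      rw [hpow, hjn, mul_inv_rev, zpow_sub]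
      have h3 : Commute (t ^ (j₀ * n)) ((t ^ (j₀ * n))⁻¹) := (Commute.refl _).inv_right
      group
    rw [h1]
    exact P.mul_mem ha (P.inv_mem (P.zpow_mem ha₀ n))
  have hiI : i - i₀ * n ∈ I := hrest
  rw [hi₁, AddSubgroup.mem_closure_singleton] at hiI
  obtain ⟨m, hm⟩ := hiI
  refine ⟨m, n, ?_⟩
  have h2 : (v ^ i₁) ^ m = v ^ (i - i₀ * n) := by
    rw [← zpow_mul, ← hm]
    simp [mul_comm]
  rw [h2, hpow, hjn]
  have h3 : v ^ i * t ^ (j₀ * n) = v ^ (i - i₀ * n) * (v ^ (i₀ * n) * t ^ (j₀ * n)) := by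
    rw [← mul_assoc, ← zpow_add, sub_add_cancel]
  exact h3

end GroupTheory

section Quot

variable {H : Type u} [Group H] [Fintype H] {p : ℕ} [hp : Fact p.Prime] {M : Ideal AlgInt}

/-- The defect groups of a block are conjugate. -/
theorem exists_conj_of_isDefectGroup (hM : IsPModular p M) {B : Set (IrrCharacter H)} (hB : IsPBlock M B) {D D' : Subgroup H}
    (hD : IsDefectGroup p M B D) (hD' : IsDefectGroup p M B D') : ∃ y : H, D' = D.map (MulAut.conj y).toMonoidHom := by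
  haveI : M.IsPrime := hM.2.1.isPrime
  have hc := Cfsg.Agent.S0908.result p M hM B hB D hD
  have hc' := Cfsg.Agent.S0908.result p M hM B hB D' hD'
  obtain ⟨h, hh, S, rfl⟩ := id hD'
  obtain ⟨y, hy⟩ := exists_le_conj_of_coeff hM hB hD hh.2.1 (Cfsg.Agent.Lib.Blocks.Defect.isPGroup_sylow_map S)
    (Cfsg.Agent.Lib.Blocks.Defect.sylow_map_le S)
  refine ⟨y, Subgroup.eq_of_le_of_card_ge hy ?_⟩
  rw [hc', show Nat.card (D.map (MulAut.conj y).toMonoidHom) = Nat.card D from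
    Subgroup.card_map_of_injective (MulAut.conj y).injective, hc]

/-- The defect groups of the quotient block. -/
theorem exists_le_conj_map (hM : IsPModular p M) (Z : Subgroup H) [hZn : Z.Normal] [Fintype (H ⧸ Z)]
    {b : Set (IrrCharacter H)} (hb : IsPBlock M b) (hbq : IsPBlock M (quotBlock Z b)) {Db : Subgroup H}
    (hDb : IsDefectGroup p M b Db) {Pq : Subgroup (H ⧸ Z)} (hPq : IsDefectGroup p M (quotBlock Z b) Pq) :
    ∃ c : H ⧸ Z, Pq ≤ (Db.map (QuotientGroup.mk' Z)).map (MulAut.conj c).toMonoidHom := by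
  haveI : M.IsPrime := hM.2.1.isPrime
  obtain ⟨P, hP, hle⟩ := Cfsg.Agent.Lib.Blocks.QuotDefect.exists_isDefectGroup_le hM Z hbq hb (by
    intro χ hχ ψ hψ
    have h1 : ψ = infl Z χ := Subtype.ext hψ
    rw [h1]
    exact hχ) hPq
  obtain ⟨y, rfl⟩ := exists_conj_of_isDefectGroup hM hb hDb hP
  refine ⟨(y : H ⧸ Z), ?_⟩
  rw [Cfsg.Agent.Lib.Blocks.QuotDefect.map_conj_map_mk] at hle
  exact hle

omit [Fintype H] in
/-- The order of the image of a subgroup containing the kernel. -/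
lemma card_map_mul [Finite H] (Z : Subgroup H) [hZn : Z.Normal] {D : Subgroup H} (hZD : Z ≤ D) :
    Nat.card (D.map (QuotientGroup.mk' Z)) * Nat.card Z = Nat.card D := by
  have h1 := Subgroup.index_map D (QuotientGroup.mk' Z)
  rw [QuotientGroup.ker_mk', sup_eq_left.mpr hZD, MonoidHom.range_eq_top.mpr (QuotientGroup.mk'_surjective Z), Subgroup.index_top, mul_one] at h1
  have h2 := Subgroup.card_mul_index D
  have h3 := Subgroup.card_mul_index (D.map (QuotientGroup.mk' Z))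
  have h4 : Nat.card H = Nat.card (H ⧸ Z) * Nat.card Z := Subgroup.card_eq_card_quotient_mul_card_subgroup Z
  rw [h1] at h3
  have h5 : D.index ≠ 0 := Subgroup.index_ne_zero_of_finite
  apply Nat.eq_of_mul_eq_mul_right (Nat.pos_of_ne_zero h5)
  rw [h2, h4, ← h3]
  ring

end Quot

section Main

variable {G : Type u} [Group G] [Fintype G] {M : Ideal AlgInt} [hMp : M.IsPrime] {p : ℕ} [hp : Fact p.Prime]

open Classical

lemma card_filter_eq (B : Set (IrrCharacter G)) : (Finset.univ.filter (· ∈ B)).card = Nat.card B := by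
  rw [← Fintype.card_coe, ← Nat.card_eq_fintype_card]
  refine Nat.card_congr (Equiv.subtypeEquivRight fun χ => ?_)
  simp

variable {u : G} [Fintype (Cen u)] {b : Set (IrrCharacter (Cen u))}

/-- `k(B) ≤ p^d l(b)` for a major subsection. -/
theorem card_le_pow_mul_rank (hM : IsPModular p M) {k : ℕ} (hk : orderOf u = p ^ k) {B : Set (IrrCharacter G)}
    (hind : IsInducedBlock M (Cen u) b B) (hd : blockDefect p b = blockDefect p B) :
    Nat.card B ≤ p ^ blockDefect p b * blockRank p b := by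
  rw [← card_filter_eq]
  set S := Finset.univ.filter (· ∈ B) with hS
  obtain ⟨χ₁, hχ₁, h₁⟩ := exists_height_zero (p := p) (nonempty_of_isPBlock hind.2.1)
  have hpos : 0 < p ^ blockDefect p b := pow_pos hp.out.pos _
  have hH := herm_XX hM hk hind
  have hmem : ∀ {χ : IrrCharacter G}, χ ∈ S → χ ∈ B := fun hχ => (Finset.mem_filter.mp hχ).2
  have hne : ∀ χ ∈ S, XX p b χ χ₁ ≠ 0 := fun χ hχ =>
    XX_ne_of_height_zero hM hk hind hd (hmem hχ) hχ₁ h₁
  have hgg : ∀ χ ∈ S, gg p b χ ≠ 0 := by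
    intro χ hχ h0
    apply hne χ hχ
    rw [XX, h0, classInner_eq_sumInner, Cfsg.Agent.Lib.Blocks.SubsectionNorm.sumInner]
    simp
  have h2 : ∀ χ ∈ S, 1 ≤ aAvg (p ^ (k + 1)) (XX p b χ χ) := by
    intro χ hχ
    have e := XX_eq_pow_mul hM hind.1 hd (hmem hχ) χ
    have hpp : 0 < p ^ blockHeight p B (χ : G → ℂ) := pow_pos hp.out.pos _
    have e' : XX p b χ χ = ((p ^ blockHeight p B (χ : G → ℂ) : ℕ) : ℂ) * yy p b χ χ := by
      rw [e]
      push_cast
      rfl
    have ht := hH.totNonneg hpos hχ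
    rw [e'] at ht
    have ht' := ht.natCast_mul hpp
    have hy0 : yy p b χ χ ≠ 0 := by
      intro h0'
      apply hgg χ hχ
      apply SS_self_eq_zero (p := p) (b := b)
      rw [← XX_eq_SS, e', h0', mul_zero]
    have h3 := ht'.one_le_aAvg (yy_mem hM hk hind.1 hd (hmem hχ) χ) hy0
    rw [e', aAvg_natCast_mul]
    have h4 : (1 : ℝ) ≤ ((p ^ blockHeight p B (χ : G → ℂ) : ℕ) : ℝ) := by exact_mod_cast hpp
    nlinarith
  have h3 := trace_XX hM hk hind
  have h4 : ∑ _χ ∈ S, (1 : ℝ) ≤ ∑ χ ∈ S, aAvg (p ^ (k + 1)) (XX p b χ χ) := Finset.sum_le_sum h2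
  rw [h3, Finset.sum_const, nsmul_eq_mul, mul_one] at h4
  exact_mod_cast h4

/-- **The key case**: the quotient of the defect group by the central subgroup is cyclic. -/
theorem card_le_of_cyclic_quot (hM : IsPModular p M) {k : ℕ} (hk : orderOf u = p ^ k) {B : Set (IrrCharacter G)}
    (hind : IsInducedBlock M (Cen u) b B) (hd : blockDefect p b = blockDefect p B)
    (Z : Subgroup (Cen u)) [hZn : Z.Normal] (hZ : ∀ z ∈ Z, ∀ g : Cen u, g * z = z * g) (hZp : IsPGroup p Z)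
    {Db : Subgroup (Cen u)} (hDb : IsDefectGroup p M b Db) (hZD : Z ≤ Db) {w : Cen u ⧸ Z}
    (hw : Db.map (QuotientGroup.mk' Z) = Subgroup.zpowers w) : Nat.card B ≤ Nat.card Db := by
  letI : Fintype (Cen u ⧸ Z) := Fintype.ofFinite _
  have hbq := isPBlock_quotBlock hM Z hZ hZp hind.1
  obtain ⟨x, S, -, hPD⟩ := exists_isDefectGroup hM hbq
  set Pq := (S : Subgroup (Subgroup.centralizer ({x} : Set (Cen u ⧸ Z)))).map
    (Subgroup.centralizer ({x} : Set (Cen u ⧸ Z))).subtype with hPq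
  obtain ⟨c, hc⟩ := exists_le_conj_map hM Z hind.1 hbq hDb hPD
  have hDbc := Cfsg.Agent.S0908.result p M hM b hind.1 Db hDb
  by_cases hP1 : Pq = ⊥
  · -- defect zero
    have hcardP := Cfsg.Agent.S0908.result p M hM _ hbq Pq hPD
    rw [hP1, Subgroup.card_bot] at hcardP
    have hd0 : blockDefect p (quotBlock Z b) = 0 := by
      by_contra h0
      have h2 : p ∣ 1 := by
        rw [hcardP]
        exact dvd_pow_self p h0
      exact hp.out.one_lt.ne' (Nat.dvd_one.mp h2)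
    have h1 := Cfsg.Agent.S4494.result p M hM _ hbq
    rw [hd0] at h1
    have h2 : Nat.card (quotBlock Z b) ≤ 1 := by
      simp only [mul_zero, pow_zero] at h1
      omega
    have h3 := (Cfsg.Agent.S4733.result p M hM _ hbq).1
    letI : Fintype Z := Fintype.ofFinite _
    have h4 := blockRank_le_quot hM Z hZ hZp hind.1
    have h5 := card_le_of_rank_le_two hM hk hind hd (by omega)
    rw [hDbc]
    rw [← card_filter_eq]
    exact h5
  · -- the cyclic case
    have hle : Pq ≤ Subgroup.zpowers (c * w * c⁻¹) := by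
      refine hc.trans ?_
      rw [hw]
      rintro _ ⟨a, ha, rfl⟩
      obtain ⟨i, rfl⟩ := Subgroup.mem_zpowers_iff.mp ha
      refine Subgroup.mem_zpowers_iff.mpr ⟨i, ?_⟩
      simp [MulAut.conj_apply, conj_zpow]
    obtain ⟨w', hw'⟩ := exists_zpowers_of_le hle
    obtain ⟨m, e, X, q, a, ω, D, hmY, hm1, hl, hnorm, hme⟩ := exists_latData_of_cyclic hM hbq hPD hP1 w' hw'
    have h1 := card_le_of_lat hM hk hind hd Z hZ hZp hbq D hmY hm1 hl
    have hP0 : 1 ≤ Nat.card Pq := Nat.card_pos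
    have h2 : (q : ℝ) ^ 2 + m * ∑ χ ∈ X, (a χ : ℝ) ^ 2 = (Nat.card Pq : ℝ) := by
      have h3 : Nat.card Pq = 1 + m * e := by omega
      rw [h3]
      have h4 : ((q ^ 2 + (m : ℤ) * ∑ χ ∈ X, a χ ^ 2 : ℤ) : ℝ) = ((1 + (m : ℤ) * e : ℤ) : ℝ) := by rw [hnorm]
      push_cast at h4 ⊢
      exact h4
    rw [h2] at h1
    have h3 : Nat.card Pq ≤ Nat.card (Db.map (QuotientGroup.mk' Z)) := by
      refine (Subgroup.card_le_of_le hc).trans (le_of_eq ?_)
      exact Subgroup.card_map_of_injective (MulAut.conj c).injective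
    have h4 := card_map_mul Z hZD
    have h5 : Nat.card B ≤ Nat.card Z * Nat.card Pq := by
      rw [← card_filter_eq]
      exact_mod_cast h1
    calc Nat.card B ≤ Nat.card Z * Nat.card Pq := h5
      _ ≤ Nat.card Z * Nat.card (Db.map (QuotientGroup.mk' Z)) := Nat.mul_le_mul_left _ h3
      _ = Nat.card Db := by rw [mul_comm, h4]

end Main

end Cfsg.Agent.Lib.Blocks.AbLat
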