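/-
Blocks with abelian defect groups generated by two or three elements: the bounds.
-/
import Mathlib
import Cfsg.Agent.Lib.Blocks.AbLat9

set_option autoImplicit false
set_option linter.style.haveILetI false

namespace Cfsg.Agent.Lib.Blocks.AbLat

open Cfsg Cfsg.Agent.Lib.Blocks.Local Cfsg.Agent.Lib.Blocks.Central Cfsg.Agent.Lib.Blocks.Osima
  Cfsg.Agent.Lib.Blocks.Regular Cfsg.Agent.Lib.Blocks.Cartan Cfsg.Agent.Lib.Blocks.Sections
  Cfsg.Agent.Lib.Blocks.BlockCount Cfsg.Agent.Lib.Blocks.MajorSub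
  Cfsg.Agent.Lib.Blocks.CentralQuot Cfsg.Agent.Lib.Blocks.Pairs Cfsg.Agent.Lib.Blocks.Nilp
open scoped ComplexConjugate

universe u

section Setup

variable {G : Type u} [Group G] [Fintype G] {p : ℕ} [hp : Fact p.Prime]

lemma mem_Cen_of_comm {x y : G} (h : Commute x y) : y ∈ Cen x := by
  rw [Subgroup.mem_centralizer_iff]
  rintro _ rfl
  exact h

/-- The central subgroup generated by `u`. -/
lemma zpowers_uC_central (u : G) : ∀ z ∈ Subgroup.zpowers (uC u), ∀ g : Cen u, g * z = z * g := by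
  intro z hz g
  obtain ⟨i, rfl⟩ := Subgroup.mem_zpowers_iff.mp hz
  have h1 : Commute g (uC u) := uC_comm u g
  exact (h1.zpow_right i).eq

instance zpowers_uC_normal (u : G) : (Subgroup.zpowers (uC u)).Normal := by
  refine ⟨fun z hz g => ?_⟩
  rw [zpowers_uC_central u z hz g, mul_inv_cancel_right]
  exact hz

lemma orderOf_uC (u : G) : orderOf (uC u) = orderOf u := Subgroup.orderOf_mk u _

lemma isPGroup_zpowers_uC {u : G} {k : ℕ} (hk : orderOf u = p ^ k) : IsPGroup p (Subgroup.zpowers (uC u)) := by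
  apply IsPGroup.of_card (n := k)
  rw [Nat.card_zpowers, orderOf_uC, hk]

end Setup

section Two

variable {G : Type u} [Group G] [Fintype G] {M : Ideal AlgInt} [hMp : M.IsPrime] {p : ℕ} [hp : Fact p.Prime]

/-- The transport to the centralizer of an element. -/
theorem two_gen_aux (hM : IsPModular p M) {B : Set (IrrCharacter G)} {D : Subgroup G} {x y : G} (hx : x ∈ D) (hy : y ∈ D)
    (hxy : Commute x y) (hgen : ∀ z ∈ D, ∃ i j : ℤ, z = x ^ i * y ^ j) {k : ℕ} (hk : orderOf x = p ^ k)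
    (hDC : D ≤ Cen x)
    {K : Subgroup G} (hK : K = Cen x) {f : Set (IrrCharacter K)} (hind : IsInducedBlock M K f B)
    (hd : blockDefect p f = blockDefect p B) (hDf : IsDefectGroup p M f (D.subgroupOf K)) :
    Nat.card B ≤ Nat.card D := by
  subst hK
  letI : Fintype (Cen x) := Fintype.ofFinite _
  have hZD : Subgroup.zpowers (uC x) ≤ D.subgroupOf (Cen x) := by
    rw [Subgroup.zpowers_le, Subgroup.mem_subgroupOf]
    exact hx
  have hyC : y ∈ Cen x := mem_Cen_of_comm hxy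
  have hw : (D.subgroupOf (Cen x)).map (QuotientGroup.mk' (Subgroup.zpowers (uC x))) =
      Subgroup.zpowers (((⟨y, hyC⟩ : Cen x)) : Cen x ⧸ Subgroup.zpowers (uC x)) := by
    apply le_antisymm
    · rintro _ ⟨t, ht, rfl⟩
      obtain ⟨i, j, hij⟩ := hgen t (Subgroup.mem_subgroupOf.mp ht)
      refine Subgroup.mem_zpowers_iff.mpr ⟨j, ?_⟩
      have h1 : t = uC x ^ i * (⟨y, hyC⟩ : Cen x) ^ j := by
        apply Subtype.ext
        simpa [uC] using hij
      rw [h1]
      have h2 : ((uC x ^ i : Cen x) : Cen x ⧸ Subgroup.zpowers (uC x)) = 1 :=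
        (QuotientGroup.eq_one_iff _).mpr (Subgroup.zpow_mem_zpowers _ _)
      simp only [QuotientGroup.mk'_apply, QuotientGroup.mk_mul, h2, one_mul]
      rfl
    · rw [Subgroup.zpowers_le]
      exact ⟨⟨y, hyC⟩, Subgroup.mem_subgroupOf.mpr hy, rfl⟩
  have h1 := card_le_of_cyclic_quot hM hk hind hd (Subgroup.zpowers (uC x)) (zpowers_uC_central x)
    (isPGroup_zpowers_uC hk) hDf hZD hw
  rwa [Nat.card_congr (Subgroup.subgroupOfEquivOfLe hDC).toEquiv] at h1

/-- **A block with an abelian defect group generated by two elements has at most `|D|` characters.** -/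
theorem card_le_of_two_gen (hM : IsPModular p M) {B : Set (IrrCharacter G)} (hB : IsPBlock M B) {D : Subgroup G}
    (hD : IsDefectGroup p M B D) {x y : G} (hx : x ∈ D) (hy : y ∈ D) (hxy : Commute x y)
    (hgen : ∀ z ∈ D, ∃ i j : ℤ, z = x ^ i * y ^ j) : Nat.card B ≤ Nat.card D := by
  have hab : ∀ a ∈ D, ∀ b ∈ D, a * b = b * a := by
    intro a ha b hb
    obtain ⟨i, j, rfl⟩ := hgen a ha
    obtain ⟨i', j', rfl⟩ := hgen b hb
    have h1 : Commute (x ^ i * y ^ j) (x ^ i' * y ^ j') :=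
      Commute.mul_left (Commute.mul_right (Commute.zpow_zpow_self x i i') (hxy.zpow_zpow i j'))
        (Commute.mul_right (hxy.symm.zpow_zpow j i') (Commute.zpow_zpow_self y j j'))
    exact h1
  obtain ⟨c, hmax⟩ := Cfsg.Agent.S4552.exists_maximal_on_defect hM hB hD
  have hPe := hmax.1.1
  have hxc : x ∈ Subgroup.centralizer (D : Set G) :=
    Subgroup.mem_centralizer_iff.mpr fun t ht => hab t ht x hx
  obtain ⟨hind, hd⟩ := Cfsg.Agent.Lib.Blocks.Nilp.major_eBlk hM hmax hx hxc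
  have hDf := Cfsg.Agent.Lib.Blocks.AbelianCount.isDefectGroup_of_abelian hM hmax hab
    ((Subgroup.zpowers_le).mpr hx) (isPBlock_eBlk hM hPe hx) (eBlk_spec hM hPe hx)
  obtain ⟨k, hk⟩ := (IsPGroup.iff_orderOf.1 hPe.1) ⟨x, hx⟩
  have hk' : orderOf x = p ^ k := by
    rw [← hk, Subgroup.orderOf_mk]
  have hDC : D ≤ Cen x := fun t ht => mem_Cen_of_comm (hab x hx t ht)
  exact two_gen_aux hM hx hy hxy hgen hk' hDC (Cfsg.Agent.Lib.Blocks.AbelianCount.cz_eq_cen x) hind hd hDf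

end Two

section Three

variable {G : Type u} [Group G] [Fintype G] {M : Ideal AlgInt} [hMp : M.IsPrime] {p : ℕ} [hp : Fact p.Prime]

/-- The transport to the centralizer of an element. -/
theorem three_gen_aux (hM : IsPModular p M) {B : Set (IrrCharacter G)} {D : Subgroup G} {x y z : G} (hx : x ∈ D) (hy : y ∈ D)
    (hz : z ∈ D) (hxy : Commute x y) (hxz : Commute x z) (hyz : Commute y z)
    (hgen : ∀ t ∈ D, ∃ i j l : ℤ, t = x ^ i * y ^ j * z ^ l) {k : ℕ} (hk : orderOf x = p ^ k)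
    (hDC : D ≤ Cen x)
    {K : Subgroup G} (hK : K = Cen x) {f : Set (IrrCharacter K)} (hind : IsInducedBlock M K f B)
    (hd : blockDefect p f = blockDefect p B) (hDf : IsDefectGroup p M f (D.subgroupOf K)) :
    Nat.card B * orderOf x ≤ Nat.card D ^ 2 := by
  subst hK
  classical
  letI : Fintype (Cen x) := Fintype.ofFinite _
  set Z := Subgroup.zpowers (uC x) with hZdef
  letI : Fintype (Cen x ⧸ Z) := Fintype.ofFinite _
  letI : Fintype Z := Fintype.ofFinite _
  have hZ := zpowers_uC_central x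
  have hZp := isPGroup_zpowers_uC hk
  have hZD : Z ≤ D.subgroupOf (Cen x) := by
    rw [hZdef, Subgroup.zpowers_le, Subgroup.mem_subgroupOf]
    exact hx
  have hyC : y ∈ Cen x := mem_Cen_of_comm hxy
  have hzC : z ∈ Cen x := mem_Cen_of_comm hxz
  let ybar : Cen x ⧸ Z := ((⟨y, hyC⟩ : Cen x) : Cen x ⧸ Z)
  let zbar : Cen x ⧸ Z := ((⟨z, hzC⟩ : Cen x) : Cen x ⧸ Z)
  have hcomm : Commute ybar zbar := by
    show ((⟨y, hyC⟩ : Cen x) : Cen x ⧸ Z) * ((⟨z, hzC⟩ : Cen x) : Cen x ⧸ Z) =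
      ((⟨z, hzC⟩ : Cen x) : Cen x ⧸ Z) * ((⟨y, hyC⟩ : Cen x) : Cen x ⧸ Z)
    rw [← QuotientGroup.mk_mul, ← QuotientGroup.mk_mul]
    congr 1
    exact Subtype.ext hyz
  have hmap : ∀ a ∈ (D.subgroupOf (Cen x)).map (QuotientGroup.mk' Z), ∃ j l : ℤ, a = ybar ^ j * zbar ^ l := by
    rintro _ ⟨t, ht, rfl⟩
    obtain ⟨i, j, l, hij⟩ := hgen t (Subgroup.mem_subgroupOf.mp ht)
    refine ⟨j, l, ?_⟩
    have h1 : t = uC x ^ i * ((⟨y, hyC⟩ : Cen x) ^ j * (⟨z, hzC⟩ : Cen x) ^ l) := by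
      apply Subtype.ext
      rw [← mul_assoc]
      simpa [uC] using hij
    rw [h1]
    have h2 : ((uC x ^ i : Cen x) : Cen x ⧸ Z) = 1 :=
      (QuotientGroup.eq_one_iff _).mpr (Subgroup.zpow_mem_zpowers _ _)
    simp only [QuotientGroup.mk'_apply, QuotientGroup.mk_mul, h2, one_mul]
    rfl
  have hbq := isPBlock_quotBlock hM Z hZ hZp hind.1
  obtain ⟨w, S, -, hPD⟩ := exists_isDefectGroup hM hbq
  set Pq := (S : Subgroup (Subgroup.centralizer ({w} : Set (Cen x ⧸ Z)))).map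
    (Subgroup.centralizer ({w} : Set (Cen x ⧸ Z))).subtype with hPq
  obtain ⟨c, hc⟩ := exists_le_conj_map hM Z hind.1 hbq hDf hPD
  have hle : ∀ a ∈ Pq, ∃ i j : ℤ, a = (c * ybar * c⁻¹) ^ i * (c * zbar * c⁻¹) ^ j := by
    intro a ha
    obtain ⟨b, hb, rfl⟩ := hc ha
    obtain ⟨j, l, rfl⟩ := hmap b hb
    refine ⟨j, l, ?_⟩
    simp [MulAut.conj_apply, conj_zpow]
  have hcomm' : Commute (c * ybar * c⁻¹) (c * zbar * c⁻¹) := by
    show c * ybar * c⁻¹ * (c * zbar * c⁻¹) = c * zbar * c⁻¹ * (c * ybar * c⁻¹)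
    calc c * ybar * c⁻¹ * (c * zbar * c⁻¹) = c * (ybar * zbar) * c⁻¹ := by group
      _ = c * (zbar * ybar) * c⁻¹ := by rw [hcomm.eq]
      _ = _ := by group
  obtain ⟨x', hx', y', hy', hgen'⟩ := exists_two_gen_of_le hcomm' hle
  have hxy' : Commute x' y' := by
    obtain ⟨i, j, rfl⟩ := hle x' hx'
    obtain ⟨i', j', rfl⟩ := hle y' hy'
    exact Commute.mul_left (Commute.mul_right (Commute.zpow_zpow_self _ i i') (hcomm'.zpow_zpow i j'))
      (Commute.mul_right (hcomm'.symm.zpow_zpow j i') (Commute.zpow_zpow_self _ j j'))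
  have h1 := card_le_of_two_gen hM hbq hPD hx' hy' hxy' hgen'
  have h2 := (Cfsg.Agent.S4733.result p M hM _ hbq).1
  have h3 := blockRank_le_quot hM Z hZ hZp hind.1
  have h4 := card_le_pow_mul_rank hM hk hind hd
  have h5 := Cfsg.Agent.S0908.result p M hM _ hind.1 _ hDf
  have h6 : Nat.card (D.subgroupOf (Cen x)) = Nat.card D := Nat.card_congr (Subgroup.subgroupOfEquivOfLe hDC).toEquiv
  rw [h6] at h5
  rw [← h5] at h4
  have h7 : Nat.card Pq ≤ Nat.card ((D.subgroupOf (Cen x)).map (QuotientGroup.mk' Z)) := by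
    refine (Subgroup.card_le_of_le hc).trans (le_of_eq ?_)
    exact Subgroup.card_map_of_injective (MulAut.conj c).injective
  have h8 := card_map_mul Z hZD
  rw [h6] at h8
  have h9 : Nat.card Z = orderOf x := by
    rw [hZdef, Nat.card_zpowers, orderOf_uC]
  rw [h9] at h8
  calc Nat.card B * orderOf x ≤ (Nat.card D * blockRank p f) * orderOf x := Nat.mul_le_mul_right _ h4
    _ ≤ (Nat.card D * Nat.card ((D.subgroupOf (Cen x)).map (QuotientGroup.mk' Z))) * orderOf x := by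
        refine Nat.mul_le_mul_right _ (Nat.mul_le_mul_left _ ?_)
        omega
    _ = Nat.card D * (Nat.card ((D.subgroupOf (Cen x)).map (QuotientGroup.mk' Z)) * orderOf x) := by ring
    _ = Nat.card D ^ 2 := by rw [h8, sq]

/-- **A block with an abelian defect group generated by three elements.** -/
theorem card_mul_le_of_three_gen (hM : IsPModular p M) {B : Set (IrrCharacter G)} (hB : IsPBlock M B) {D : Subgroup G}
    (hD : IsDefectGroup p M B D) {x y z : G} (hx : x ∈ D) (hy : y ∈ D) (hz : z ∈ D) (hab : ∀ a ∈ D, ∀ b ∈ D, a * b = b * a)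
    (hgen : ∀ t ∈ D, ∃ i j l : ℤ, t = x ^ i * y ^ j * z ^ l) : Nat.card B * orderOf x ≤ Nat.card D ^ 2 := by
  obtain ⟨c, hmax⟩ := Cfsg.Agent.S4552.exists_maximal_on_defect hM hB hD
  have hPe := hmax.1.1
  have hxc : x ∈ Subgroup.centralizer (D : Set G) :=
    Subgroup.mem_centralizer_iff.mpr fun t ht => hab t ht x hx
  obtain ⟨hind, hd⟩ := Cfsg.Agent.Lib.Blocks.Nilp.major_eBlk hM hmax hx hxc
  have hDf := Cfsg.Agent.Lib.Blocks.AbelianCount.isDefectGroup_of_abelian hM hmax hab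
    ((Subgroup.zpowers_le).mpr hx) (isPBlock_eBlk hM hPe hx) (eBlk_spec hM hPe hx)
  obtain ⟨k, hk⟩ := (IsPGroup.iff_orderOf.1 hPe.1) ⟨x, hx⟩
  have hk' : orderOf x = p ^ k := by
    rw [← hk, Subgroup.orderOf_mk]
  have hDC : D ≤ Cen x := fun t ht => mem_Cen_of_comm (hab x hx t ht)
  exact three_gen_aux hM hx hy hz (hab x hx y hy) (hab x hx z hz) (hab y hy z hz) hgen hk' hDC
    (Cfsg.Agent.Lib.Blocks.AbelianCount.cz_eq_cen x) hind hd hDf

end Three

end Cfsg.Agent.Lib.Blocks.AbLat
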