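/-
Broué–Puig construction: residues on the corner of a primitive idempotent of an invariant lattice.
-/
import Mathlib
import Cfsg.Agent.Lib.Blocks.NilpTr

set_option autoImplicit false

namespace Cfsg.Agent.Lib.Blocks.Nilp

open Cfsg Cfsg.Agent.Lib.Blocks.Local Cfsg.Agent.Lib.Blocks.Central Cfsg.Agent.Lib.Blocks.Osima
open Cfsg.Agent.Lib.Blocks.Covering Cfsg.Agent.Lib.Blocks.BlockHom Cfsg.Agent.Lib.Blocks.Pairs
open Cfsg.Agent.Lib.Blocks.Twisted
open Polynomial

universe u

section Res

variable {G : Type u} [Group G] [Fintype G] {M : Ideal AlgInt} [hM : M.IsPrime]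
variable {p : ℕ} [hp : Fact p.Prime]

/-- An idempotent with coefficients in the local ideal vanishes. -/
theorem eq_zero_of_idem_coeffIn (hMp : IsPModular p M) {a : MonoidAlgebra ℂ G} (h2 : a * a = a)
    (h : CoeffIn (localIdeal M) a) : a = 0 := by
  classical
  obtain ⟨t, ht, hpow⟩ := exists_pow_coeffIn_pIdeal (p := p) h
  apply ext_coeff
  intro g
  have hp0 : (p : ℂ) ≠ 0 := by exact_mod_cast hMp.1.ne_zero
  have hloc : MemLocalRing M (a.coeff g) := (coeffIn_top_iff.mp h.top) g
  have h0 : a.coeff g = 0 := by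
    apply eq_zero_of_forall_dvd_pow hMp hloc
    intro n
    have h3 : a ^ (t * (n + 1)) = a := IsIdempotentElem.pow_eq h2 (Nat.mul_pos ht (Nat.succ_pos n)).ne'
    have h4 : CoeffIn (pIdeal p M ^ (n + 1)) a := by
      have := hpow.pow (n + 1)
      rwa [← pow_mul, h3] at this
    have h5 : CoeffIn (Ideal.span {((p : localRing M) ^ (n + 1) : localRing M)}) a := by
      rw [← Ideal.span_singleton_pow]
      exact h4
    obtain ⟨c, hc, hc'⟩ := h5 g
    rw [Ideal.mem_span_singleton'] at hc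
    obtain ⟨d, rfl⟩ := hc
    have h6 : a.coeff g = (p : ℂ) ^ (n + 1) * d := by
      rw [← hc']
      push_cast
      ring
    rw [h6]
    have h7 : (p : ℂ) ^ (n + 1) * d / (p : ℂ) ^ n = (p : ℂ) * d := by
      field_simp
      ring
    rw [h7]
    exact memLocalRing_mul (memLocalRing_natCast p) d.2
  rw [h0]
  simp

/-- Nilpotent modulo the local ideal. -/
def Nl (M : Ideal AlgInt) [M.IsPrime] (a : MonoidAlgebra ℂ G) : Prop :=
  ∃ k : ℕ, CoeffIn (localIdeal M) (a ^ k)

lemma nl_of_coeffIn {a : MonoidAlgebra ℂ G} (h : CoeffIn (localIdeal M) a) : Nl M a :=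
  ⟨1, by simpa using h⟩

lemma Nl.of_eqI {a b : MonoidAlgebra ℂ G} (h : EqI M a b) (ha : LocCoeff M a) (hb : LocCoeff M b)
    (hn : Nl M b) : Nl M a := by
  obtain ⟨k, hk⟩ := hn
  exact ⟨k, coeffIn_of_eqI (h.pow ha hb k) hk⟩

lemma coeffIn_pow_add {a : MonoidAlgebra ℂ G} (ha : LocCoeff M a) {k : ℕ}
    (hk : CoeffIn (localIdeal M) (a ^ k)) (j : ℕ) : CoeffIn (localIdeal M) (a ^ (k + j)) := by
  rw [pow_add]
  exact coeffIn_mul_loc hk (ha.pow j)

lemma locCoeff_natCast (n : ℕ) : LocCoeff M (n : MonoidAlgebra ℂ G) := by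
  have := locCoeff_algebraMap (M := M) (G := G) (n : localRing M)
  rwa [map_natCast] at this

lemma Nl.add_of_commute {a b : MonoidAlgebra ℂ G} (hc : Commute a b) (ha : LocCoeff M a)
    (hb : LocCoeff M b) (h1 : Nl M a) (h2 : Nl M b) : Nl M (a + b) := by
  classical
  obtain ⟨k, hk⟩ := h1
  obtain ⟨l, hl⟩ := h2
  refine ⟨k + l, ?_⟩
  rw [hc.add_pow, coeffIn_localIdeal_iff]
  intro g
  rw [MonoidAlgebra.coeff_sum, Finsupp.finsetSum_apply]
  refine memLocalIdeal_sum _ _ fun m hm => ?_
  have hm' : m ≤ k + l := Nat.lt_succ_iff.mp (Finset.mem_range.mp hm)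
  have hterm : CoeffIn (localIdeal M) (a ^ m * b ^ (k + l - m)) := by
    by_cases hmk : k ≤ m
    · obtain ⟨j, rfl⟩ := Nat.exists_eq_add_of_le hmk
      exact coeffIn_mul_loc (coeffIn_pow_add ha hk j) (hb.pow _)
    · have h3 : l ≤ k + l - m := by omega
      obtain ⟨j, hj⟩ := Nat.exists_eq_add_of_le h3
      rw [hj]
      exact coeffIn_loc_mul (ha.pow _) (coeffIn_pow_add hb hl j)
  exact coeffIn_localIdeal_iff.mp (coeffIn_mul_loc hterm (locCoeff_natCast _)) g

/-- The scalars. -/
noncomputable abbrev iL (l : localRing M) : MonoidAlgebra ℂ G :=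
  algebraMap (localRing M) (MonoidAlgebra ℂ G) l

lemma iL_comm (r : localRing M) (x : MonoidAlgebra ℂ G) : iL r * x = x * iL r :=
  Algebra.commutes r x

lemma iL_sub (r l : localRing M) : (iL (r - l) : MonoidAlgebra ℂ G) = iL r - iL l := map_sub _ _ _

lemma iL_add (r l : localRing M) : (iL (r + l) : MonoidAlgebra ℂ G) = iL r + iL l := map_add _ _ _

lemma iL_mul (r l : localRing M) : (iL (r * l) : MonoidAlgebra ℂ G) = iL r * iL l := map_mul _ _ _

lemma iL_pow (r : localRing M) (k : ℕ) : (iL (r ^ k) : MonoidAlgebra ℂ G) = iL r ^ k := map_pow _ _ _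

lemma iL_one : (iL (1 : localRing M) : MonoidAlgebra ℂ G) = 1 := map_one _

lemma iL_zero : (iL (0 : localRing M) : MonoidAlgebra ℂ G) = 0 := map_zero _

lemma Nl.scalar {a : MonoidAlgebra ℂ G} (r : localRing M) (ha : LocCoeff M a) (h : Nl M a) :
    Nl M (iL r * a) := by
  obtain ⟨k, hk⟩ := h
  refine ⟨k, ?_⟩
  rw [(show Commute (iL r) a from iL_comm r a).mul_pow]
  exact coeffIn_loc_mul ((locCoeff_algebraMap r).pow k) hk

/-- Elements of the corner of `y` in the lattice of `H`. -/
structure Cor (M : Ideal AlgInt) [M.IsPrime] (H : Subgroup G) (y a : MonoidAlgebra ℂ G) : Prop where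
  loc : LocCoeff M a
  inv : InvBy H a
  left : y * a = a
  right : a * y = a

lemma Cor.add {H : Subgroup G} {y a b : MonoidAlgebra ℂ G} (ha : Cor M H y a) (hb : Cor M H y b) :
    Cor M H y (a + b) :=
  ⟨ha.loc.add hb.loc, ha.inv.add hb.inv, by rw [mul_add, ha.left, hb.left], by
    rw [add_mul, ha.right, hb.right]⟩

lemma Cor.sub {H : Subgroup G} {y a b : MonoidAlgebra ℂ G} (ha : Cor M H y a) (hb : Cor M H y b) :
    Cor M H y (a - b) :=
  ⟨ha.loc.sub hb.loc, ha.inv.sub hb.inv, by rw [mul_sub, ha.left, hb.left], by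
    rw [sub_mul, ha.right, hb.right]⟩

lemma Cor.mul {H : Subgroup G} {y a b : MonoidAlgebra ℂ G} (ha : Cor M H y a) (hb : Cor M H y b) :
    Cor M H y (a * b) :=
  ⟨ha.loc.mul hb.loc, ha.inv.mul hb.inv, by rw [← mul_assoc, ha.left], by
    rw [mul_assoc, hb.right]⟩

lemma Cor.scalar {H : Subgroup G} {y a : MonoidAlgebra ℂ G} (r : localRing M) (ha : Cor M H y a) :
    Cor M H y (iL r * a) :=
  ⟨(locCoeff_algebraMap r).mul ha.loc, (invBy_algebraMap H r).mul ha.inv, by
    rw [← mul_assoc, ← iL_comm, mul_assoc, ha.left], by rw [mul_assoc, ha.right]⟩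

lemma cor_zero {H : Subgroup G} {y : MonoidAlgebra ℂ G} : Cor M H y 0 :=
  ⟨locCoeff_zero, fun _ _ _ => by simp, by simp, by simp⟩

lemma IsPrimIdem.cor_self {H : Subgroup G} {y : MonoidAlgebra ℂ G} (hy : IsPrimIdem M H y) : Cor M H y y :=
  ⟨hy.loc, hy.inv, hy.idem, hy.idem⟩

lemma IsPrimIdem.cor_sandwich {H : Subgroup G} {y a : MonoidAlgebra ℂ G} (hy : IsPrimIdem M H y)
    (ha : LocCoeff M a) (hai : InvBy H a) : Cor M H y (y * a * y) :=
  ⟨(hy.loc.mul ha).mul hy.loc, (hy.inv.mul hai).mul hy.inv, by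
    rw [← mul_assoc, ← mul_assoc, hy.idem], by rw [mul_assoc, hy.idem]⟩

lemma Cor.sandwich {H : Subgroup G} {y a : MonoidAlgebra ℂ G} (ha : Cor M H y a) : y * a * y = a := by
  rw [ha.left, ha.right]

/-- `l` is the residue of `a` on the corner of `y`. -/
def IsRes (M : Ideal AlgInt) [M.IsPrime] (y a : MonoidAlgebra ℂ G) (l : localRing M) : Prop :=
  Nl M (y * a * y - iL l * y)

lemma IsPrimIdem.exists_res {H : Subgroup G} {y a : MonoidAlgebra ℂ G} (hy : IsPrimIdem M H y)
    (ha : LocCoeff M a) (hai : InvBy H a) : ∃ l, IsRes M y a l := by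
  obtain ⟨l, hl⟩ := hy.exists_specI ha hai
  refine ⟨l, ?_⟩
  exact hl.exists_pow (((hy.loc.mul ha).mul hy.loc).sub ((locCoeff_algebraMap l).mul hy.loc))

/-- The residue is unique. -/
theorem IsPrimIdem.res_unique (hMp : IsPModular p M) {H : Subgroup G} {y a : MonoidAlgebra ℂ G}
    (hy : IsPrimIdem M H y) (ha : LocCoeff M a) {l l' : localRing M} (h : IsRes M y a l)
    (h' : IsRes M y a l') : l - l' ∈ localIdeal M := by
  by_contra hd
  set d := l - l' with hdd
  set A := y * a * y with hA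
  have hAl : LocCoeff M A := (hy.loc.mul ha).mul hy.loc
  have hAy : Commute A y := by
    show A * y = y * A
    rw [hA, mul_assoc, hy.idem, ← mul_assoc, ← mul_assoc, hy.idem]
  set n := A - iL l * y with hn
  set n' := A - iL l' * y with hn'
  have hcomm : Commute n' (-n) := by
    have h1 : Commute A (iL l * y) := (show Commute A (iL l) from (iL_comm l A).symm).mul_right hAy
    have h2 : Commute A (iL l' * y) := (show Commute A (iL l') from (iL_comm l' A).symm).mul_right hAy
    have h3 : Commute (iL l' * y) (iL l * y) := by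
      show iL l' * y * (iL l * y) = iL l * y * (iL l' * y)
      rw [mul_assoc, ← mul_assoc y, ← iL_comm l y, mul_assoc (iL l), hy.idem, ← mul_assoc, ← iL_mul,
        mul_comm, iL_mul, mul_assoc]
      rw [mul_assoc, ← mul_assoc y, ← iL_comm l' y, mul_assoc (iL l'), hy.idem]
    have h4 : Commute n' n := by
      apply Commute.sub_left
      · exact Commute.sub_right (Commute.refl A) h1
      · exact Commute.sub_right h2.symm h3
    exact h4.neg_right
  have hnl : LocCoeff M n := hAl.sub ((locCoeff_algebraMap l).mul hy.loc)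
  have hnl' : LocCoeff M n' := hAl.sub ((locCoeff_algebraMap l').mul hy.loc)
  have hnegl : LocCoeff M (-n) := by simpa using (locCoeff_zero (M := M) (G := G)).sub hnl
  have hnneg : Nl M (-n) := by
    obtain ⟨k, hk⟩ := h
    refine ⟨k, ?_⟩
    rw [neg_pow]
    have hm1 : LocCoeff M (-1 : MonoidAlgebra ℂ G) := by
      simpa using (locCoeff_zero (M := M) (G := G)).sub locCoeff_one
    exact coeffIn_loc_mul (hm1.pow k) hk
  obtain ⟨k, hk⟩ := Nl.add_of_commute hcomm hnl' hnegl h' hnneg
  have hsum : n' + -n = iL d * y := by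
    rw [hdd, iL_sub, sub_mul, hn, hn']
    abel
  rw [hsum] at hk
  have hk1 : CoeffIn (localIdeal M) ((iL d * y) ^ (k + 1)) :=
    coeffIn_pow_add ((locCoeff_algebraMap d).mul hy.loc) hk 1
  rw [(show Commute (iL d) y from iL_comm d y).mul_pow, IsIdempotentElem.pow_succ_eq k hy.idem,
    ← iL_pow] at hk1
  have hdk : d ^ (k + 1) ∉ localIdeal M := fun h0 => hd (Ideal.IsPrime.mem_of_pow_mem inferInstance _ h0)
  exact hy.ne (eq_zero_of_idem_coeffIn hMp hy.idem (coeffIn_of_ι_mul hdk hk1))

/-- An element of the corner with a unit residue is invertible in the corner. -/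
theorem IsPrimIdem.exists_inv (hMp : IsPModular p M) {H : Subgroup G} {y a : MonoidAlgebra ℂ G}
    (hy : IsPrimIdem M H y) (ha : Cor M H y a) {l : localRing M} (h : IsRes M y a l)
    (hl : l ∉ localIdeal M) :
    ∃ v, Cor M H y v ∧ a * v = y ∧ v * a = y := by
  obtain ⟨l₀, hl₀⟩ := hy.exists_specI ha.loc ha.inv
  have hl₀' : IsRes M y a l₀ :=
    hl₀.exists_pow (((hy.loc.mul ha.loc).mul hy.loc).sub ((locCoeff_algebraMap l₀).mul hy.loc))
  have hd := hy.res_unique hMp ha.loc h hl₀'
  have hl₀u : l₀ ∉ localIdeal M := fun h0 => hl (by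
    have := (localIdeal M).add_mem hd h0
    simpa using this)
  rw [ha.sandwich] at hl₀
  obtain ⟨s, hs, hs0⟩ := hl₀
  set n := a - iL l₀ * y with hn
  have hnl : LocCoeff M n := ha.loc.sub ((locCoeff_algebraMap l₀).mul hy.loc)
  have hni : InvBy H n := ha.inv.sub ((invBy_algebraMap H l₀).mul hy.inv)
  have hcop : IsCoprime (lin ({-l₀} : Multiset (localRing M))) (lin s) := by
    apply isCoprime_lin
    intro r hr t ht
    rw [Multiset.mem_singleton] at hr
    subst hr
    rw [isUnit_iff_not_mem]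
    intro h0
    have h1 := (localIdeal M).add_mem h0 (hs t ht)
    have h2 : -l₀ - t + t = -l₀ := by ring
    rw [h2] at h1
    exact hl₀u (by simpa using (localIdeal M).neg_mem h1)
  obtain ⟨u, v, huv⟩ := hcop
  have h1 : aeval n u * (n + iL l₀) = 1 := by
    have h2 := congrArg (aeval n) huv
    rw [map_add, map_mul, map_mul, hs0, mul_zero, add_zero, map_one] at h2
    have h3 : aeval n (lin ({-l₀} : Multiset (localRing M))) = n + iL l₀ := by
      simp only [lin, Multiset.map_singleton, Multiset.prod_singleton, map_sub, aeval_X, aeval_C, map_neg,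
        sub_neg_eq_add, map_add]
    rwa [h3] at h2
  have hny : Commute y n := by
    show y * n = n * y
    have e1 : y * n = n := by
      rw [hn, mul_sub, ha.left, ← mul_assoc, ← iL_comm l₀ y, mul_assoc, hy.idem]
    have e2 : n * y = n := by
      rw [hn, sub_mul, ha.right, mul_assoc, hy.idem]
    rw [e1, e2]
  set w := aeval n u with hw
  have hwy : Commute y w := commute_aeval hny u
  have hwn : Commute n w := commute_aeval (Commute.refl n) u
  have hwι : Commute (iL l₀) w := iL_comm l₀ w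
  have h1' : (n + iL l₀) * w = 1 := by
    rw [(hwn.add_left hwι).eq]
    exact h1
  have ha' : a = (n + iL l₀) * y := by
    rw [add_mul]
    have e2 : n * y = n := by
      rw [hn, sub_mul, ha.right, mul_assoc, hy.idem]
    rw [e2, hn]
    abel
  refine ⟨w * y, ⟨(locCoeff_aeval hnl u).mul hy.loc, (invBy_aeval hni u).mul hy.inv, ?_, ?_⟩, ?_, ?_⟩
  · rw [← mul_assoc, hwy.eq, mul_assoc, hy.idem]
  · rw [mul_assoc, hy.idem]
  · rw [ha', mul_assoc, ← mul_assoc y, hwy.eq, mul_assoc w, hy.idem, ← mul_assoc, h1', one_mul]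
  · have e3 : y * (n + iL l₀) = (n + iL l₀) * y := by
      rw [mul_add, add_mul, hny.eq, iL_comm]
    rw [ha']
    calc w * y * ((n + iL l₀) * y) = w * (y * (n + iL l₀)) * y := by simp only [mul_assoc]
      _ = w * ((n + iL l₀) * y) * y := by rw [e3]
      _ = (w * (n + iL l₀)) * (y * y) := by simp only [mul_assoc]
      _ = y := by rw [h1, one_mul, hy.idem]

/-- A product with a nilpotent element of the corner is nilpotent. -/
theorem IsPrimIdem.nl_mul (hMp : IsPModular p M) {H : Subgroup G} {y a c : MonoidAlgebra ℂ G}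
    (hy : IsPrimIdem M H y) (ha : Cor M H y a) (hc : Cor M H y c) (hn : Nl M a) : Nl M (a * c) := by
  obtain ⟨l, hl⟩ := hy.exists_res (ha.mul hc).loc (ha.mul hc).inv
  have hs := (ha.mul hc).sandwich
  rw [IsRes, hs] at hl
  by_cases h0 : l ∈ localIdeal M
  · refine Nl.of_eqI ?_ (ha.mul hc).loc ((ha.mul hc).loc.sub ((locCoeff_algebraMap l).mul hy.loc)) hl
    rw [EqI, sub_sub_cancel]
    exact coeffIn_ι_mul h0 hy.loc
  · exfalso
    have hl' : IsRes M y (a * c) l := by
      rw [IsRes, hs]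
      exact hl
    obtain ⟨v, hv, hv1, -⟩ := hy.exists_inv hMp (ha.mul hc) hl' h0
    set w := c * v with hw
    have hwc : Cor M H y w := hc.mul hv
    have haw : a * w = y := by rw [hw, ← mul_assoc, hv1]
    have hpow : ∀ k : ℕ, a ^ (k + 1) * w ^ (k + 1) = y := by
      intro k
      induction k with
      | zero => simpa using haw
      | succ k ih =>
        calc a ^ (k + 1 + 1) * w ^ (k + 1 + 1) = a ^ (k + 1) * (a * w) * w ^ (k + 1) := by
              rw [pow_succ a, pow_succ' w]
              simp only [mul_assoc]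
          _ = a ^ (k + 1) * y * w ^ (k + 1) := by rw [haw]
          _ = a ^ (k + 1) * (y * w ^ (k + 1)) := by rw [mul_assoc]
          _ = a ^ (k + 1) * w ^ (k + 1) := by
              rw [pow_succ' w, ← mul_assoc y, hwc.left]
          _ = y := ih
    obtain ⟨k, hk⟩ := hn
    have h3 := coeffIn_mul_loc (coeffIn_pow_add ha.loc hk 1) (hwc.loc.pow (k + 1))
    rw [hpow k] at h3
    exact hy.ne (eq_zero_of_idem_coeffIn hMp hy.idem h3)

/-- A sum of nilpotent elements of the corner is nilpotent. -/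
theorem IsPrimIdem.nl_add (hMp : IsPModular p M) {H : Subgroup G} {y a b : MonoidAlgebra ℂ G}
    (hy : IsPrimIdem M H y) (ha : Cor M H y a) (hb : Cor M H y b) (h1 : Nl M a) (h2 : Nl M b) :
    Nl M (a + b) := by
  obtain ⟨l, hl⟩ := hy.exists_res (ha.add hb).loc (ha.add hb).inv
  have hs := (ha.add hb).sandwich
  by_cases h0 : l ∈ localIdeal M
  · rw [IsRes, hs] at hl
    refine Nl.of_eqI ?_ (ha.add hb).loc ((ha.add hb).loc.sub ((locCoeff_algebraMap l).mul hy.loc)) hl
    rw [EqI, sub_sub_cancel]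
    exact coeffIn_ι_mul h0 hy.loc
  · exfalso
    obtain ⟨v, hv, hv1, -⟩ := hy.exists_inv hMp (ha.add hb) hl h0
    have hav : Nl M (a * v) := hy.nl_mul hMp ha hv h1
    have hbv : Nl M (b * v) := hy.nl_mul hMp hb hv h2
    have hsum : a * v + b * v = y := by rw [← add_mul, hv1]
    -- `y = a v + b v`, two residues for `b v`
    have hCb : Cor M H y (b * v) := hb.mul hv
    have hCa : Cor M H y (a * v) := ha.mul hv
    have r0 : IsRes M y (b * v) 0 := by
      rw [IsRes, hCb.sandwich, iL_zero, zero_mul, sub_zero]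
      exact hbv
    have r1 : IsRes M y (b * v) 1 := by
      rw [IsRes, hCb.sandwich, iL_one, one_mul]
      have : b * v - y = -(a * v) := by
        rw [← hsum]
        abel
      rw [this]
      obtain ⟨k, hk⟩ := hav
      refine ⟨k, ?_⟩
      rw [neg_pow]
      have hm1 : LocCoeff M (-1 : MonoidAlgebra ℂ G) := by
        simpa using (locCoeff_zero (M := M) (G := G)).sub locCoeff_one
      exact coeffIn_loc_mul (hm1.pow k) hk
    have h3 := hy.res_unique hMp hCb.loc r1 r0
    rw [sub_zero] at h3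
    exact (Ideal.ne_top_iff_one (localIdeal M)).mp (inferInstance : (localIdeal M).IsPrime).ne_top h3

end Res

section Rsd

variable {G : Type u} [Group G] [Fintype G] {M : Ideal AlgInt} [hM : M.IsPrime]
variable {p : ℕ} [hp : Fact p.Prime]

lemma IsPrimIdem.res_add (hMp : IsPModular p M) {H : Subgroup G} {y a b : MonoidAlgebra ℂ G}
    (hy : IsPrimIdem M H y) (ha : LocCoeff M a) (hai : InvBy H a) (hb : LocCoeff M b) (hbi : InvBy H b)
    {l l' : localRing M} (h1 : IsRes M y a l) (h2 : IsRes M y b l') : IsRes M y (a + b) (l + l') := by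
  have hCa := (hy.cor_sandwich ha hai).sub ((hy.cor_self).scalar l)
  have hCb := (hy.cor_sandwich hb hbi).sub ((hy.cor_self).scalar l')
  have h3 := hy.nl_add hMp hCa hCb h1 h2
  rw [IsRes]
  have : y * (a + b) * y - iL (l + l') * y = y * a * y - iL l * y + (y * b * y - iL l' * y) := by
    rw [iL_add, add_mul, mul_add, add_mul]
    abel
  rw [this]
  exact h3

lemma IsPrimIdem.res_mul (hMp : IsPModular p M) {H : Subgroup G} {y a b : MonoidAlgebra ℂ G}
    (hy : IsPrimIdem M H y) (ha : Cor M H y a) (hb : Cor M H y b)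
    {l l' : localRing M} (h1 : IsRes M y a l) (h2 : IsRes M y b l') : IsRes M y (a * b) (l * l') := by
  rw [IsRes, ha.sandwich] at h1
  rw [IsRes, hb.sandwich] at h2
  rw [IsRes, (ha.mul hb).sandwich]
  have hCy := hy.cor_self
  have e1 := hy.nl_mul hMp (ha.sub (hCy.scalar l)) hb h1
  have e2 := Nl.scalar l (hb.sub (hCy.scalar l')).loc h2
  have h3 := hy.nl_add hMp ((ha.sub (hCy.scalar l)).mul hb) ((hb.sub (hCy.scalar l')).scalar l) e1 e2
  have : a * b - iL (l * l') * y = (a - iL l * y) * b + iL l * (b - iL l' * y) := by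
    rw [iL_mul, sub_mul, mul_sub, mul_assoc (iL l) y b, hb.left, mul_assoc (iL l) (iL l') y]
    abel
  rw [this]
  exact h3

end Rsd

end Cfsg.Agent.Lib.Blocks.Nilp
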