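/-
Broué–Puig construction: the trace on the corner of an idempotent of an invariant lattice.
-/
import Mathlib
import Cfsg.Agent.Lib.Blocks.BP1
import Cfsg.Agent.Lib.Blocks.NilpPair

set_option autoImplicit false

namespace Cfsg.Agent.Lib.Blocks.Nilp

open Cfsg Cfsg.Agent.Lib.Blocks.Local Cfsg.Agent.Lib.Blocks.Central Cfsg.Agent.Lib.Blocks.Osima
open Cfsg.Agent.Lib.Blocks.Covering Cfsg.Agent.Lib.Blocks.BlockHom Cfsg.Agent.Lib.Blocks.Pairs
open Cfsg.Agent.Lib.Blocks.Twisted
open Polynomial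

universe u

section Cross

variable {G : Type u} [Group G] [Fintype G] {M : Ideal AlgInt} [hM : M.IsPrime]
variable {p : ℕ} [hp : Fact p.Prime]

/-- Half of the cross relation. -/
lemma IsPrimIdem.res_cross_aux (hMp : IsPModular p M) {H : Subgroup G} {j k α β : MonoidAlgebra ℂ G}
    (hj : IsPrimIdem M H j) (hk : IsPrimIdem M H k) (hαl : LocCoeff M α) (hαi : InvBy H α)
    (hβl : LocCoeff M β) (hβi : InvBy H β) (h1 : j * α = α) (h2 : α * k = α) (h3 : k * β = β)
    (h4 : β * j = β) {l l' : localRing M} (hl : IsRes M j (α * β) l) (hl' : IsRes M k (β * α) l') :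
    l' * (l' - l) ∈ localIdeal M := by
  set a := α * β with ha
  set b := β * α with hb
  have hCa : Cor M H j a := ⟨hαl.mul hβl, hαi.mul hβi, by rw [ha, ← mul_assoc, h1], by rw [ha, mul_assoc, h4]⟩
  have hCb : Cor M H k b := ⟨hβl.mul hαl, hβi.mul hαi, by rw [hb, ← mul_assoc, h3], by rw [hb, mul_assoc, h2]⟩
  have hl1 := hl
  rw [IsRes, hCa.sandwich] at hl1
  have hl2 := hl'
  rw [IsRes, hCb.sandwich] at hl2
  set n := a - iL l * j with hn
  have hCn : Cor M H j n := hCa.sub (hj.cor_self.scalar l)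
  -- the element `β n α`
  have hkey : b * b - iL l * b = β * n * α := by
    rw [hn, mul_sub, sub_mul, ha, hb]
    have e1 : β * (iL l * j) * α = iL l * (β * α) := by
      rw [← mul_assoc, ← iL_comm l β, mul_assoc (iL l), h4, mul_assoc]
    rw [e1]
    simp only [mul_assoc]
  have hpow : ∀ m : ℕ, (β * n * α) ^ (m + 1) = β * (n * a) ^ m * n * α := by
    intro m
    induction m with
    | zero => simp
    | succ m ih =>
      rw [pow_succ, ih, pow_succ (n * a) m, ha]
      simp only [mul_assoc]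
  have hNb : Nl M (b * b - iL l * b) := by
    rw [hkey]
    obtain ⟨K, hK⟩ := hj.nl_mul hMp hCn hCa hl1
    refine ⟨K + 1, ?_⟩
    have e0 : β * (n * a) ^ K * n * α = β * ((n * a) ^ K * (n * α)) := by simp only [mul_assoc]
    rw [hpow K, e0]
    exact coeffIn_loc_mul hβl (coeffIn_mul_loc hK (hCn.loc.mul hαl))
  -- two residues for the same element
  have hCc : Cor M H k (b * b - iL l * b) := (hCb.mul hCb).sub (hCb.scalar l)
  have r0 : IsRes M k (b * b - iL l * b) 0 := by
    rw [IsRes, hCc.sandwich, iL_zero, zero_mul, sub_zero]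
    exact hNb
  have r1 : IsRes M k (b * b - iL l * b) (l' * (l' - l)) := by
    rw [IsRes, hCc.sandwich]
    have e : b * b - iL l * b - iL (l' * (l' - l)) * k = (b - iL l' * k) * (b + iL (l' - l) * k) := by
      have e2 : b * (iL (l' - l) * k) = iL (l' - l) * b := by
        rw [← mul_assoc, ← iL_comm, mul_assoc, hCb.right]
      have e2' : iL l' * k * b = iL l' * b := by rw [mul_assoc, hCb.left]
      have e3 : iL l' * k * (iL (l' - l) * k) = iL l' * (iL (l' - l) * k) := by
        rw [mul_assoc, ← mul_assoc k, ← iL_comm (l' - l) k, mul_assoc (iL (l' - l)), hk.idem]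
      rw [sub_mul, mul_add, mul_add, e2, e2', e3, iL_mul, mul_assoc (iL l'), iL_sub l' l, sub_mul (iL l') (iL l) b]
      abel
    rw [e]
    exact hk.nl_mul hMp (hCb.sub (hk.cor_self.scalar l')) (hCb.add (hk.cor_self.scalar (l' - l))) hl2
  have := hk.res_unique hMp hCc.loc r1 r0
  simpa using this

theorem IsPrimIdem.res_cross (hMp : IsPModular p M) {H : Subgroup G} {j k α β : MonoidAlgebra ℂ G}
    (hj : IsPrimIdem M H j) (hk : IsPrimIdem M H k) (hαl : LocCoeff M α) (hαi : InvBy H α)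
    (hβl : LocCoeff M β) (hβi : InvBy H β) (h1 : j * α = α) (h2 : α * k = α) (h3 : k * β = β)
    (h4 : β * j = β) {l l' : localRing M} (hl : IsRes M j (α * β) l) (hl' : IsRes M k (β * α) l') :
    l - l' ∈ localIdeal M := by
  have e1 := hj.res_cross_aux hMp hk hαl hαi hβl hβi h1 h2 h3 h4 hl hl'
  have e2 := hk.res_cross_aux hMp hj hβl hβi hαl hαi h3 h4 h1 h2 hl' hl
  have hP : (localIdeal M).IsPrime := inferInstance
  rcases hP.mem_or_mem e2 with h5 | h5
  · rcases hP.mem_or_mem e1 with h6 | h6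
    · exact (localIdeal M).sub_mem h5 h6
    · simpa using (localIdeal M).neg_mem h6
  · exact h5

open Classical in
/-- The residue of `a` on the corner of `y`, in the residue field. -/
noncomputable def rsd (M : Ideal AlgInt) [M.IsPrime] (y a : MonoidAlgebra ℂ G) : localRing M ⧸ localIdeal M :=
  if h : ∃ l, IsRes M y a l then residue M h.choose else 0

lemma IsPrimIdem.rsd_eq (hMp : IsPModular p M) {H : Subgroup G} {y a : MonoidAlgebra ℂ G}
    (hy : IsPrimIdem M H y) (ha : LocCoeff M a) {l : localRing M} (h : IsRes M y a l) :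
    rsd M y a = residue M l := by
  have hex : ∃ l, IsRes M y a l := ⟨l, h⟩
  rw [rsd, dif_pos hex]
  rw [residue_eq_iff]
  exact hy.res_unique hMp ha hex.choose_spec h

lemma IsPrimIdem.exists_rsd (hMp : IsPModular p M) {H : Subgroup G} {y a : MonoidAlgebra ℂ G}
    (hy : IsPrimIdem M H y) (ha : LocCoeff M a) (hai : InvBy H a) :
    ∃ l, IsRes M y a l ∧ rsd M y a = residue M l := by
  obtain ⟨l, hl⟩ := hy.exists_res ha hai
  exact ⟨l, hl, hy.rsd_eq hMp ha hl⟩

lemma IsPrimIdem.rsd_add (hMp : IsPModular p M) {H : Subgroup G} {y a b : MonoidAlgebra ℂ G}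
    (hy : IsPrimIdem M H y) (ha : LocCoeff M a) (hai : InvBy H a) (hb : LocCoeff M b) (hbi : InvBy H b) :
    rsd M y (a + b) = rsd M y a + rsd M y b := by
  obtain ⟨l, hl, e1⟩ := hy.exists_rsd hMp ha hai
  obtain ⟨l', hl', e2⟩ := hy.exists_rsd hMp hb hbi
  rw [e1, e2, hy.rsd_eq hMp (ha.add hb) (hy.res_add hMp ha hai hb hbi hl hl'), map_add]

lemma IsPrimIdem.rsd_zero (hMp : IsPModular p M) {H : Subgroup G} {y : MonoidAlgebra ℂ G}
    (hy : IsPrimIdem M H y) : rsd M y 0 = 0 := by
  have h : IsRes M y 0 0 := by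
    rw [IsRes, iL_zero]
    simp only [mul_zero, zero_mul, sub_zero]
    exact nl_of_coeffIn coeffIn_zero
  rw [hy.rsd_eq hMp locCoeff_zero h, map_zero]

lemma IsPrimIdem.rsd_sum (hMp : IsPModular p M) {H : Subgroup G} {y : MonoidAlgebra ℂ G}
    (hy : IsPrimIdem M H y) {ι : Type*} (s : Finset ι) (f : ι → MonoidAlgebra ℂ G)
    (hl : ∀ i ∈ s, LocCoeff M (f i)) (hi : ∀ i ∈ s, InvBy H (f i)) :
    rsd M y (∑ i ∈ s, f i) = ∑ i ∈ s, rsd M y (f i) := by
  classical
  induction s using Finset.induction_on with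
  | empty => simpa using hy.rsd_zero hMp
  | insert i s his ih =>
    have hl' := fun j hj => hl j (Finset.mem_insert_of_mem hj)
    have hi' := fun j hj => hi j (Finset.mem_insert_of_mem hj)
    rw [Finset.sum_insert his, Finset.sum_insert his, hy.rsd_add hMp (hl i (Finset.mem_insert_self _ _))
      (hi i (Finset.mem_insert_self _ _)) (locCoeff_sum _ _ hl') (invBy_sum _ _ hi'), ih hl' hi']

lemma IsPrimIdem.rsd_self (hMp : IsPModular p M) {H : Subgroup G} {y : MonoidAlgebra ℂ G}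
    (hy : IsPrimIdem M H y) : rsd M y y = 1 := by
  have h : IsRes M y y 1 := by
    rw [IsRes, iL_one, hy.idem, hy.idem, one_mul, sub_self]
    exact nl_of_coeffIn coeffIn_zero
  rw [hy.rsd_eq hMp hy.loc h, map_one]

lemma IsPrimIdem.rsd_of_coeffIn (hMp : IsPModular p M) {H : Subgroup G} {y a : MonoidAlgebra ℂ G}
    (hy : IsPrimIdem M H y) (ha : CoeffIn (localIdeal M) a) : rsd M y a = 0 := by
  have h : IsRes M y a 0 := by
    rw [IsRes, iL_zero, zero_mul, sub_zero]
    exact nl_of_coeffIn (coeffIn_mul_loc (coeffIn_loc_mul hy.loc ha) hy.loc)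
  rw [hy.rsd_eq hMp (locCoeff_of_coeffIn ha) h, map_zero]

open Classical in
lemma rsd_sandwich {y a : MonoidAlgebra ℂ G} (hy : y * y = y) : rsd M y (y * a * y) = rsd M y a := by
  have h : y * (y * a * y) * y = y * a * y := by
    calc y * (y * a * y) * y = (y * y) * a * (y * y) := by simp only [mul_assoc]
      _ = y * a * y := by rw [hy]
  have e : IsRes M y (y * a * y) = IsRes M y a := by
    funext l
    rw [IsRes, IsRes, h]
  have key : ∀ P Q : localRing M → Prop, P = Q →
      (if h : ∃ l, P l then residue M h.choose else 0) = (if h : ∃ l, Q l then residue M h.choose else 0) := by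
    rintro _ _ rfl
    rfl
  unfold rsd
  exact key _ _ e

lemma rsd_congr_sandwich {y a b : MonoidAlgebra ℂ G} (hy : y * y = y) (h : y * a * y = y * b * y) :
    rsd M y a = rsd M y b := by
  rw [← rsd_sandwich (a := a) hy, h, rsd_sandwich hy]

/-- The cross relation for residues. -/
lemma IsPrimIdem.rsd_cross (hMp : IsPModular p M) {H : Subgroup G} {j k α β : MonoidAlgebra ℂ G}
    (hj : IsPrimIdem M H j) (hk : IsPrimIdem M H k) (hαl : LocCoeff M α) (hαi : InvBy H α)
    (hβl : LocCoeff M β) (hβi : InvBy H β) (h1 : j * α = α) (h2 : α * k = α) (h3 : k * β = β)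
    (h4 : β * j = β) : rsd M j (α * β) = rsd M k (β * α) := by
  obtain ⟨l, hl, e1⟩ := hj.exists_rsd hMp (hαl.mul hβl) (hαi.mul hβi)
  obtain ⟨l', hl', e2⟩ := hk.exists_rsd hMp (hβl.mul hαl) (hβi.mul hαi)
  rw [e1, e2, residue_eq_iff]
  exact hj.res_cross hMp hk hαl hαi hβl hβi h1 h2 h3 h4 hl hl'

/-- Units of the corner. -/
lemma IsPrimIdem.exists_inv_of_rsd (hMp : IsPModular p M) {H : Subgroup G} {y a : MonoidAlgebra ℂ G}
    (hy : IsPrimIdem M H y) (ha : Cor M H y a) (h : rsd M y a ≠ 0) :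
    ∃ v, Cor M H y v ∧ a * v = y ∧ v * a = y := by
  obtain ⟨l, hl, e1⟩ := hy.exists_rsd hMp ha.loc ha.inv
  refine hy.exists_inv hMp ha hl fun h0 => h ?_
  rw [e1]
  exact Ideal.Quotient.eq_zero_iff_mem.mpr h0

end Cross

section Cj

variable {G : Type u} [Group G] [Fintype G] {M : Ideal AlgInt} [hM : M.IsPrime]
variable {p : ℕ} [hp : Fact p.Prime]

omit hM in
lemma cj_one_elem (s : G) : cj s (1 : MonoidAlgebra ℂ G) = 1 := by
  classical
  apply ext_coeff
  intro g
  rw [coeff_cj, coeff_one_apply, coeff_one_apply]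
  by_cases h : g = 1
  · subst h
    simp
  · rw [if_neg h, if_neg]
    intro h2
    apply h
    have h3 : g = s * (s⁻¹ * g * s) * s⁻¹ := by group
    rw [h3, h2]
    simp

lemma cj_iL (s : G) (r : localRing M) : cj s (iL r : MonoidAlgebra ℂ G) = iL r := by
  classical
  have h : (iL r : MonoidAlgebra ℂ G) = (r : ℂ) • 1 := by
    show algebraMap (localRing M) (MonoidAlgebra ℂ G) r = _
    rw [algebraMap_local_eq, Algebra.algebraMap_eq_smul_one]
  apply ext_coeff
  intro g
  rw [coeff_cj, h, MonoidAlgebra.coeff_smul_apply, MonoidAlgebra.coeff_smul_apply]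
  have := congrArg (fun c => MonoidAlgebra.coeff c g) (cj_one_elem s)
  simp only [coeff_cj] at this
  rw [this]

omit hM in
lemma cj_pow (s : G) (a : MonoidAlgebra ℂ G) (k : ℕ) : cj s (a ^ k) = cj s a ^ k := by
  induction k with
  | zero => simpa using cj_one_elem s
  | succ k ih => rw [pow_succ, pow_succ, cj_mul, ih]

omit hM in
lemma cj_zero (s : G) : cj s (0 : MonoidAlgebra ℂ G) = 0 := by
  apply ext_coeff
  intro g
  simp

omit hM in
lemma cj_sub (s : G) (a b : MonoidAlgebra ℂ G) : cj s (a - b) = cj s a - cj s b := by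
  apply ext_coeff
  intro g
  simp [MonoidAlgebra.coeff_sub]

omit hM in
lemma cj_sum (s : G) {ι : Type*} (t : Finset ι) (f : ι → MonoidAlgebra ℂ G) :
    cj s (∑ i ∈ t, f i) = ∑ i ∈ t, cj s (f i) := by
  classical
  induction t using Finset.induction_on with
  | empty => simpa using cj_zero s
  | insert i t hi ih => rw [Finset.sum_insert hi, Finset.sum_insert hi, cj_add, ih]

lemma coeffIn_cj (s : G) {a : MonoidAlgebra ℂ G} (ha : CoeffIn (localIdeal M) a) :
    CoeffIn (localIdeal M) (cj s a) := by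
  rw [coeffIn_localIdeal_iff] at ha ⊢
  intro g
  rw [coeff_cj]
  exact ha _

lemma Nl.cj (s : G) {a : MonoidAlgebra ℂ G} (h : Nl M a) : Nl M (cj s a) := by
  obtain ⟨k, hk⟩ := h
  refine ⟨k, ?_⟩
  rw [← cj_pow]
  exact coeffIn_cj s hk

omit hM in
lemma invBy_cj {H : Subgroup G} {s : G} (hs : s ∈ Subgroup.normalizer (H : Set G)) {a : MonoidAlgebra ℂ G}
    (ha : InvBy H a) : InvBy H (cj s a) := by
  intro x u hu
  rw [coeff_cj, coeff_cj]
  have h1 := (Subgroup.mem_normalizer_iff.mp ((Subgroup.normalizer (H : Set G)).inv_mem hs) u).mp hu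
  have h2 := ha (s⁻¹ * x * s) (s⁻¹ * u * s⁻¹⁻¹) h1
  rw [← h2]
  congr 1
  group

lemma IsPrimIdem.cj_mem {H : Subgroup G} {y : MonoidAlgebra ℂ G} (hy : IsPrimIdem M H y) {s : G}
    (hs : s ∈ Subgroup.normalizer (H : Set G)) : IsPrimIdem M H (cj s y) := by
  refine ⟨locCoeff_cj s hy.loc, invBy_cj hs hy.inv, by rw [← cj_mul, hy.idem], ?_, ?_⟩
  · intro h
    apply hy.ne
    apply cj_inj (x := s)
    rw [h, cj_zero]
  · intro w₁ w₂ hl₁ hi₁ hl₂ hi₂ h₁ h₂ h₁₂ h₂₁ hsum
    have hs' := (Subgroup.normalizer (H : Set G)).inv_mem hs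
    have hc : ∀ w, Nilp.cj s (Nilp.cj s⁻¹ w) = w := by
      intro w
      rw [← cj_cj, mul_inv_cancel, cj_one']
    have hc0 : ∀ a b : MonoidAlgebra ℂ G, a * b = 0 → Nilp.cj s⁻¹ a * Nilp.cj s⁻¹ b = 0 := by
      intro a b h
      rw [← cj_mul, h, cj_zero]
    have := hy.prim (Nilp.cj s⁻¹ w₁) (Nilp.cj s⁻¹ w₂) (locCoeff_cj _ hl₁) (invBy_cj hs' hi₁)
      (locCoeff_cj _ hl₂) (invBy_cj hs' hi₂) (by rw [← cj_mul, h₁]) (by rw [← cj_mul, h₂])
      (hc0 _ _ h₁₂) (hc0 _ _ h₂₁) (by
        apply cj_inj (x := s)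
        rw [cj_add, hc, hc, hsum])
    rcases this with h | h
    · left
      rw [← hc w₁, h, cj_zero]
    · right
      rw [← hc w₂, h, cj_zero]

lemma IsPrimIdem.rsd_cj (hMp : IsPModular p M) {H : Subgroup G} {y a : MonoidAlgebra ℂ G}
    (hy : IsPrimIdem M H y) (ha : LocCoeff M a) (hai : InvBy H a) {s : G}
    (hs : s ∈ Subgroup.normalizer (H : Set G)) : rsd M (cj s y) (cj s a) = rsd M y a := by
  obtain ⟨l, hl, e1⟩ := hy.exists_rsd hMp ha hai
  rw [e1]
  apply (hy.cj_mem hs).rsd_eq hMp (locCoeff_cj s ha)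
  have h := Nl.cj s hl
  rw [IsRes]
  convert h using 1
  rw [cj_sub, cj_mul, cj_mul, cj_mul, cj_iL]

end Cj

section Dec

variable {G : Type u} [Group G] [Fintype G] {M : Ideal AlgInt} [hM : M.IsPrime]
variable {p : ℕ} [hp : Fact p.Prime]

/-- A decomposition of `y` into orthogonal primitive idempotents of the lattice of `H`. -/
structure Dec (M : Ideal AlgInt) [M.IsPrime] (H : Subgroup G) (y : MonoidAlgebra ℂ G)
    (J : Finset (MonoidAlgebra ℂ G)) : Prop where
  prim : ∀ j ∈ J, IsPrimIdem M H j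
  orth : ∀ j ∈ J, ∀ k ∈ J, j ≠ k → j * k = 0
  sum : ∑ j ∈ J, j = y

lemma Dec.mul_left {H : Subgroup G} {y : MonoidAlgebra ℂ G} {J : Finset (MonoidAlgebra ℂ G)}
    (hJ : Dec M H y J) {j : MonoidAlgebra ℂ G} (hj : j ∈ J) : y * j = j := by
  classical
  rw [← hJ.sum, Finset.sum_mul, Finset.sum_eq_single j]
  · exact (hJ.prim j hj).idem
  · intro k hk hne
    exact hJ.orth k hk j hj hne
  · intro h
    exact (h hj).elim

lemma Dec.mul_right {H : Subgroup G} {y : MonoidAlgebra ℂ G} {J : Finset (MonoidAlgebra ℂ G)}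
    (hJ : Dec M H y J) {j : MonoidAlgebra ℂ G} (hj : j ∈ J) : j * y = j := by
  classical
  rw [← hJ.sum, Finset.mul_sum, Finset.sum_eq_single j]
  · exact (hJ.prim j hj).idem
  · intro k hk hne
    exact hJ.orth j hj k hk hne.symm
  · intro h
    exact (h hj).elim

/-- Every idempotent of the lattice is a sum of orthogonal primitive idempotents. -/
theorem exists_dec (H : Subgroup G) {y : MonoidAlgebra ℂ G} (hl : LocCoeff M y) (hi : InvBy H y)
    (h2 : y * y = y) : ∃ J, Dec M H y J := by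
  classical
  have key : ∀ (n : ℕ) (y : MonoidAlgebra ℂ G), idemRank y = n → LocCoeff M y → InvBy H y → y * y = y →
      ∃ J, Dec M H y J := by
    intro n
    induction n using Nat.strong_induction_on with
    | _ n ih =>
    intro y hn hl hi h2
    by_cases h0 : y = 0
    · exact ⟨∅, ⟨by simp, by simp, by simp [h0]⟩⟩
    by_cases hp : IsPrimIdem M H y
    · refine ⟨{y}, ⟨?_, ?_, by simp⟩⟩
      · intro j hj
        rw [Finset.mem_singleton] at hj
        rwa [hj]
      · intro j hj k hk hne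
        rw [Finset.mem_singleton] at hj hk
        exact (hne (hj.trans hk.symm)).elim
    · have : ∃ w₁ w₂ : MonoidAlgebra ℂ G, LocCoeff M w₁ ∧ InvBy H w₁ ∧ LocCoeff M w₂ ∧ InvBy H w₂ ∧
          w₁ * w₁ = w₁ ∧ w₂ * w₂ = w₂ ∧ w₁ * w₂ = 0 ∧ w₂ * w₁ = 0 ∧ w₁ + w₂ = y ∧ w₁ ≠ 0 ∧ w₂ ≠ 0 := by
        by_contra hcon
        push Not at hcon
        apply hp
        refine ⟨hl, hi, h2, h0, ?_⟩
        intro w₁ w₂ a1 a2 a3 a4 a5 a6 a7 a8 a9
        by_cases hw : w₁ = 0
        · exact Or.inl hw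
        · exact Or.inr (hcon w₁ w₂ a1 a2 a3 a4 a5 a6 a7 a8 a9 hw)
      obtain ⟨w₁, w₂, a1, a2, a3, a4, a5, a6, a7, a8, a9, a10, a11⟩ := this
      have hlt : ∀ w w' : MonoidAlgebra ℂ G, w * w = w → w * w' = 0 → w' * w = 0 → w + w' = y → w' ≠ 0 →
          idemRank w < n := by
        intro w w' hw h1 h3 hs hne
        rw [← hn]
        refine idemRank_lt hw ?_ ?_ h2 ?_
        · rw [← hs, add_mul, hw, h3, add_zero]
        · rw [← hs, mul_add, hw, h1, add_zero]
        · intro h
          apply hne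
          have : w + w' = w := by rw [hs, h]
          simpa using this
      obtain ⟨J₁, hJ₁⟩ := ih _ (hlt w₁ w₂ a5 a7 a8 a9 a11) w₁ rfl a1 a2 a5
      obtain ⟨J₂, hJ₂⟩ := ih _ (hlt w₂ w₁ a6 a8 a7 (by rw [add_comm]; exact a9) a10) w₂ rfl a3 a4 a6
      have hcross : ∀ j₁ ∈ J₁, ∀ j₂ ∈ J₂, j₁ * j₂ = 0 := by
        intro j₁ h₁ j₂ h₂
        rw [← hJ₁.mul_right h₁, ← hJ₂.mul_left h₂, mul_assoc, ← mul_assoc w₁, a7, zero_mul, mul_zero]
      have hcross' : ∀ j₁ ∈ J₁, ∀ j₂ ∈ J₂, j₂ * j₁ = 0 := by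
        intro j₁ h₁ j₂ h₂
        rw [← hJ₂.mul_right h₂, ← hJ₁.mul_left h₁, mul_assoc, ← mul_assoc w₂, a8, zero_mul, mul_zero]
      have hdisj : Disjoint J₁ J₂ := by
        rw [Finset.disjoint_left]
        intro j h₁ h₂
        have := hcross j h₁ j h₂
        rw [(hJ₁.prim j h₁).idem] at this
        exact (hJ₁.prim j h₁).ne this
      refine ⟨J₁ ∪ J₂, ⟨?_, ?_, ?_⟩⟩
      · intro j hj
        rcases Finset.mem_union.mp hj with h | h
        · exact hJ₁.prim j h
        · exact hJ₂.prim j h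
      · intro j hj k hk hne
        rcases Finset.mem_union.mp hj with h | h <;> rcases Finset.mem_union.mp hk with h' | h'
        · exact hJ₁.orth j h k h' hne
        · exact hcross j h k h'
        · exact hcross' k h' j h
        · exact hJ₂.orth j h k h' hne
      · rw [Finset.sum_union hdisj, hJ₁.sum, hJ₂.sum, a9]
  exact key _ y rfl hl hi h2

/-- The trace attached to a decomposition. -/
noncomputable def tauJ (M : Ideal AlgInt) [M.IsPrime] (J : Finset (MonoidAlgebra ℂ G)) (a : MonoidAlgebra ℂ G) :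
    localRing M ⧸ localIdeal M :=
  ∑ j ∈ J, rsd M j a

/-- The trace does not depend on the decomposition. -/
theorem Dec.tau_eq (hMp : IsPModular p M) {H : Subgroup G} {y a : MonoidAlgebra ℂ G}
    {J K : Finset (MonoidAlgebra ℂ G)} (hJ : Dec M H y J) (hK : Dec M H y K) (ha : Cor M H y a) :
    tauJ M J a = tauJ M K a := by
  classical
  have hcross : ∀ j ∈ J, ∀ k ∈ K, rsd M j (a * k) = rsd M k (j * a) := by
    intro j hj k hk
    have hj' := hJ.prim j hj
    have hk' := hK.prim k hk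
    have hα : rsd M j (a * k) = rsd M j ((j * a * k) * (k * j)) := by
      apply rsd_congr_sandwich hj'.idem
      have e : (j * a * k) * (k * j) = j * a * (k * k) * j := by simp only [mul_assoc]
      rw [e, hk'.idem]
      calc j * (a * k) * j = j * a * k * j := by simp only [mul_assoc]
        _ = j * (j * a * k * j) * j := by
            have : j * (j * a * k * j) * j = (j * j) * a * k * (j * j) := by simp only [mul_assoc]
            rw [this, hj'.idem]
    have hβ : rsd M k (j * a) = rsd M k ((k * j) * (j * a * k)) := by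
      apply rsd_congr_sandwich hk'.idem
      have e : (k * j) * (j * a * k) = k * (j * j) * a * k := by simp only [mul_assoc]
      rw [e, hj'.idem]
      have : k * (k * j * a * k) * k = (k * k) * j * a * (k * k) := by simp only [mul_assoc]
      rw [this, hk'.idem]
      simp only [mul_assoc]
    rw [hα, hβ]
    refine hj'.rsd_cross hMp hk' ((hj'.loc.mul ha.loc).mul hk'.loc) ((hj'.inv.mul ha.inv).mul hk'.inv)
      (hk'.loc.mul hj'.loc) (hk'.inv.mul hj'.inv) ?_ ?_ ?_ ?_
    · rw [← mul_assoc, ← mul_assoc, hj'.idem]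
    · rw [mul_assoc, hk'.idem]
    · rw [← mul_assoc, hk'.idem]
    · rw [mul_assoc, hj'.idem]
  have h1 : ∀ j ∈ J, rsd M j a = ∑ k ∈ K, rsd M j (a * k) := by
    intro j hj
    have hj' := hJ.prim j hj
    rw [← hj'.rsd_sum hMp K (fun k => a * k) (fun k hk => ha.loc.mul (hK.prim k hk).loc)
      (fun k hk => ha.inv.mul (hK.prim k hk).inv), ← Finset.mul_sum, hK.sum, ha.right]
  have h2 : ∀ k ∈ K, rsd M k a = ∑ j ∈ J, rsd M k (j * a) := by
    intro k hk
    have hk' := hK.prim k hk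
    rw [← hk'.rsd_sum hMp J (fun j => j * a) (fun j hj => (hJ.prim j hj).loc.mul ha.loc)
      (fun j hj => (hJ.prim j hj).inv.mul ha.inv), ← Finset.sum_mul, hJ.sum, ha.left]
  rw [tauJ, tauJ, Finset.sum_congr rfl h1, Finset.sum_congr rfl h2, Finset.sum_comm]
  refine Finset.sum_congr rfl fun k hk => Finset.sum_congr rfl fun j hj => hcross j hj k hk

lemma Dec.tau_self (hMp : IsPModular p M) {H : Subgroup G} {y : MonoidAlgebra ℂ G}
    {J : Finset (MonoidAlgebra ℂ G)} (hJ : Dec M H y J) : tauJ M J y = (J.card : localRing M ⧸ localIdeal M) := by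
  rw [tauJ, Finset.sum_congr rfl (g := fun _ => (1 : localRing M ⧸ localIdeal M))]
  · simp
  · intro j hj
    have hj' := hJ.prim j hj
    have : rsd M j y = rsd M j j := by
      apply rsd_congr_sandwich hj'.idem
      rw [hJ.mul_right hj, hj'.idem, hj'.idem]
    rw [this, hj'.rsd_self hMp]

/-- Transport of a decomposition. -/
lemma Dec.image_cj {H : Subgroup G} {y : MonoidAlgebra ℂ G} {J : Finset (MonoidAlgebra ℂ G)}
    [DecidableEq (MonoidAlgebra ℂ G)] (hJ : Dec M H y J) {s : G}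
    (hs : s ∈ Subgroup.normalizer (H : Set G)) : Dec M H (cj s y) (J.image (cj s)) := by
  refine ⟨?_, ?_, ?_⟩
  · intro j hj
    obtain ⟨j', hj', rfl⟩ := Finset.mem_image.mp hj
    exact (hJ.prim j' hj').cj_mem hs
  · intro j hj k hk hne
    obtain ⟨j', hj', rfl⟩ := Finset.mem_image.mp hj
    obtain ⟨k', hk', rfl⟩ := Finset.mem_image.mp hk
    rw [← cj_mul, hJ.orth j' hj' k' hk' (fun h => hne (by rw [h])), cj_zero]
  · rw [Finset.sum_image (fun a _ b _ h => cj_inj h), ← cj_sum, hJ.sum]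

/-- The trace is invariant under automorphisms fixing `y`. -/
theorem Dec.tau_cj (hMp : IsPModular p M) {H : Subgroup G} {y a : MonoidAlgebra ℂ G}
    {J : Finset (MonoidAlgebra ℂ G)} (hJ : Dec M H y J) (ha : Cor M H y a) {s : G}
    (hs : s ∈ Subgroup.normalizer (H : Set G)) (hsy : cj s y = y) :
    tauJ M J (cj s a) = tauJ M J a := by
  classical
  have hJ' := hJ.image_cj hs
  rw [hsy] at hJ'
  have hCa : Cor M H y (cj s a) := by
    refine ⟨locCoeff_cj s ha.loc, invBy_cj hs ha.inv, ?_, ?_⟩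
    · have := cj_mul s y a
      rw [hsy, ha.left] at this
      exact this.symm
    · have := cj_mul s a y
      rw [hsy, ha.right] at this
      exact this.symm
  rw [hJ.tau_eq hMp hJ' hCa, tauJ, Finset.sum_image (fun a _ b _ h => cj_inj h)]
  refine Finset.sum_congr rfl fun j hj => ?_
  exact (hJ.prim j hj).rsd_cj hMp ha.loc ha.inv hs

end Dec

end Cfsg.Agent.Lib.Blocks.Nilp
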