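/-
Broué–Puig construction: transfer from a subgroup of index `p` inside a `p`-group.
-/
import Mathlib
import Cfsg.Agent.Lib.Blocks.BP2

set_option autoImplicit false

namespace Cfsg.Agent.Lib.Blocks.Nilp

open Cfsg Cfsg.Agent.Lib.Blocks.Local Cfsg.Agent.Lib.Blocks.Central Cfsg.Agent.Lib.Blocks.Osima
open Cfsg.Agent.Lib.Blocks.Covering Cfsg.Agent.Lib.Blocks.BlockHom Cfsg.Agent.Lib.Blocks.Pairs
open Cfsg.Agent.Lib.Blocks.Twisted
open Polynomial

universe u

section Tr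

variable {G : Type u} [Group G] [Fintype G] {M : Ideal AlgInt} [hM : M.IsPrime]
variable {p : ℕ} [hp : Fact p.Prime]

omit hM in
lemma tQ_sum (P Q : Subgroup G) {ι : Type*} (t : Finset ι) (f : ι → MonoidAlgebra ℂ G) :
    tQ P Q (∑ i ∈ t, f i) = ∑ i ∈ t, tQ P Q (f i) := by
  simp only [tQ, cj_sum]
  exact Finset.sum_comm

omit hM in
lemma tQ_mul_right {P Q : Subgroup G} {w : MonoidAlgebra ℂ G} (hw : InvBy P w) (x : MonoidAlgebra ℂ G) :
    tQ P Q x * w = tQ P Q (x * w) := by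
  simp only [tQ, Finset.sum_mul, cj_mul, cj_eq_of_invBy hw (sg_mem _)]

omit hM in
lemma tQ_mul_left {P Q : Subgroup G} {w : MonoidAlgebra ℂ G} (hw : InvBy P w) (x : MonoidAlgebra ℂ G) :
    w * tQ P Q x = tQ P Q (w * x) := by
  simp only [tQ, Finset.mul_sum, cj_mul, cj_eq_of_invBy hw (sg_mem _)]

/-- **Divisibility of the number of primitive idempotents.** -/
theorem Dec.dvd_card (hMp : IsPModular p M) {Q Q' : Subgroup G}
    (hN : Q ≤ Subgroup.normalizer (Q' : Set G)) (hidx : p ∣ Nat.card (PQ Q Q'))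
    {y b : MonoidAlgebra ℂ G} (hyQ : InvBy Q y) {J : Finset (MonoidAlgebra ℂ G)} (hJ : Dec M Q' y J)
    (hb : Cor M Q' y b) (ht : tQ Q Q' b = y) : p ∣ J.card := by
  classical
  haveI hchar : CharP (localRing M ⧸ localIdeal M) p := charP_residue hMp
  rw [← CharP.cast_eq_zero_iff (localRing M ⧸ localIdeal M) p, ← hJ.tau_self hMp]
  have h1 : tauJ M J y = ∑ q : PQ Q Q', tauJ M J (cj (sg q) b) := by
    simp only [tauJ]
    rw [Finset.sum_comm]
    refine Finset.sum_congr rfl fun j hj => ?_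
    rw [← ht, tQ]
    exact (hJ.prim j hj).rsd_sum hMp _ _ (fun q _ => locCoeff_cj _ hb.loc)
      (fun q _ => invBy_cj (hN (sg_mem q)) hb.inv)
  rw [h1, Finset.sum_congr rfl (fun q _ => hJ.tau_cj hMp hb (hN (sg_mem q))
    (cj_eq_of_invBy hyQ (sg_mem q))), Finset.sum_const, Finset.card_univ, nsmul_eq_mul]
  have h2 : ((Fintype.card (PQ Q Q') : ℕ) : localRing M ⧸ localIdeal M) = 0 := by
    rw [CharP.cast_eq_zero_iff (localRing M ⧸ localIdeal M) p, ← Nat.card_eq_fintype_card]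
    exact hidx
  rw [h2, zero_mul]

/-- **All primitive idempotents come from a single one.** -/
theorem exists_equiv_of_transfer (hMp : IsPModular p M) {Q Q' : Subgroup G}
    (hQ' : Q' ≤ Q) (hN : Q ≤ Subgroup.normalizer (Q' : Set G)) {y b : MonoidAlgebra ℂ G}
    (hy : IsPrimIdem M Q y) {J : Finset (MonoidAlgebra ℂ G)} (hJ : Dec M Q' y J)
    (hb : Cor M Q' y b) (ht : tQ Q Q' b = y) :
    ∃ j₀ ∈ J, ∀ j ∈ J, ∃ q : PQ Q Q', ∃ α β : MonoidAlgebra ℂ G, LocCoeff M α ∧ InvBy Q' α ∧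
      LocCoeff M β ∧ InvBy Q' β ∧ α * β = j ∧ β * α = cj (sg q) j₀ := by
  classical
  have hbJ : ∀ j ∈ J, InvBy Q' (b * j) ∧ LocCoeff M (b * j) := fun j hj =>
    ⟨hb.inv.mul (hJ.prim j hj).inv, hb.loc.mul (hJ.prim j hj).loc⟩
  have hsum : y = ∑ j ∈ J, tQ Q Q' (b * j) := by
    rw [← tQ_sum, ← Finset.mul_sum, hJ.sum, hb.right, ht]
  have h1 : rsd M y y = ∑ j ∈ J, rsd M y (tQ Q Q' (b * j)) := by
    have := hy.rsd_sum hMp J (fun j => tQ Q Q' (b * j)) (fun j hj => locCoeff_tQ _ _ (hbJ j hj).2)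
      (fun j hj => invBy_tQ (hbJ j hj).1)
    rwa [← hsum] at this
  rw [hy.rsd_self hMp] at h1
  obtain ⟨j₀, hj₀, hne⟩ := Finset.exists_ne_zero_of_sum_ne_zero (s := J)
    (f := fun j => rsd M y (tQ Q Q' (b * j))) (by rw [← h1]; exact one_ne_zero)
  refine ⟨j₀, hj₀, fun j hj => ?_⟩
  have hj₀' := hJ.prim j₀ hj₀
  have hj' := hJ.prim j hj
  have hCx : Cor M Q y (tQ Q Q' (b * j₀)) := by
    refine ⟨locCoeff_tQ _ _ (hbJ j₀ hj₀).2, invBy_tQ (hbJ j₀ hj₀).1, ?_, ?_⟩
    · rw [tQ_mul_left hy.inv, ← mul_assoc, hb.left]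
    · rw [tQ_mul_right hy.inv, mul_assoc, hJ.mul_right hj₀]
  obtain ⟨v, hv, hv1, -⟩ := hy.exists_inv_of_rsd hMp hCx hne
  have hy2 : y = tQ Q Q' (b * j₀ * v) := by
    rw [← tQ_mul_right hv.inv, hv1]
  set x := b * j₀ * v with hx
  have hxl : LocCoeff M x := (hbJ j₀ hj₀).2.mul hv.loc
  have hxi : InvBy Q' x := (hbJ j₀ hj₀).1.mul (hv.inv.mono hQ')
  have h2 : rsd M j y = ∑ q : PQ Q Q', rsd M j (cj (sg q) x) := by
    have := hj'.rsd_sum hMp Finset.univ (fun q : PQ Q Q' => cj (sg q) x) (fun q _ => locCoeff_cj _ hxl)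
      (fun q _ => invBy_cj (hN (sg_mem q)) hxi)
    rw [hy2, tQ]
    exact this
  have h3 : rsd M j y = 1 := by
    have : rsd M j y = rsd M j j := by
      apply rsd_congr_sandwich hj'.idem
      rw [hJ.mul_right hj, hj'.idem, hj'.idem]
    rw [this, hj'.rsd_self hMp]
  rw [h3] at h2
  obtain ⟨q, -, hqne⟩ := Finset.exists_ne_zero_of_sum_ne_zero (s := (Finset.univ : Finset (PQ Q Q')))
    (f := fun q => rsd M j (cj (sg q) x)) (by rw [← h2]; exact one_ne_zero)
  set s := sg q with hs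
  have hsN : s ∈ Subgroup.normalizer (Q' : Set G) := hN (sg_mem q)
  set j₁ := cj s j₀ with hj₁
  have hj₁' : IsPrimIdem M Q' j₁ := hj₀'.cj_mem hsN
  set b₁ := cj s b with hb₁
  have hb₁l : LocCoeff M b₁ := locCoeff_cj s hb.loc
  have hb₁i : InvBy Q' b₁ := invBy_cj hsN hb.inv
  have hvs : cj s v = v := cj_eq_of_invBy hv.inv (sg_mem q)
  have hcx : cj s x = b₁ * j₁ * v := by
    rw [hx, cj_mul, cj_mul, hvs]
  rw [hcx] at hqne
  have hvl := hv.loc
  have hvi : InvBy Q' v := hv.inv.mono hQ'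
  set κ := j * (b₁ * j₁ * v) * j with hκ
  have hCκ : Cor M Q' j κ := hj'.cor_sandwich ((hb₁l.mul hj₁'.loc).mul hvl) ((hb₁i.mul hj₁'.inv).mul hvi)
  have hκne : rsd M j κ ≠ 0 := by
    rw [hκ, rsd_sandwich hj'.idem]
    exact hqne
  obtain ⟨κ', hκ', hκ1, -⟩ := hj'.exists_inv_of_rsd hMp hCκ hκne
  refine ⟨q, j * b₁ * j₁, j₁ * v * j * κ', (hj'.loc.mul hb₁l).mul hj₁'.loc,
    (hj'.inv.mul hb₁i).mul hj₁'.inv, ((hj₁'.loc.mul hvl).mul hj'.loc).mul hκ'.loc,
    ((hj₁'.inv.mul hvi).mul hj'.inv).mul hκ'.inv, ?_, ?_⟩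
  · -- `α β = j`
    have e : j * b₁ * j₁ * (j₁ * v * j * κ') = j * (b₁ * (j₁ * j₁) * v) * j * κ' := by
      simp only [mul_assoc]
    rw [e, hj₁'.idem, ← hκ, hκ1]
  · -- `β α = j₁`
    set α := j * b₁ * j₁ with hα
    set β := j₁ * v * j * κ' with hβ
    have hαβ : α * β = j := by
      have e : α * β = j * (b₁ * (j₁ * j₁) * v) * j * κ' := by
        rw [hα, hβ]
        simp only [mul_assoc]
      rw [e, hj₁'.idem, ← hκ, hκ1]
    have hβj : β * j = β := by rw [hβ, mul_assoc, hκ'.right]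
    have hjα : j * α = α := by rw [hα, ← mul_assoc, ← mul_assoc, hj'.idem]
    have hj₁β : j₁ * β = β := by
      rw [hβ]
      simp only [← mul_assoc]
      rw [hj₁'.idem]
    have hαj₁ : α * j₁ = α := by rw [hα, mul_assoc, hj₁'.idem]
    have hee : (β * α) * (β * α) = β * α := by
      calc (β * α) * (β * α) = β * (α * β) * α := by simp only [mul_assoc]
        _ = β * j * α := by rw [hαβ]
        _ = β * α := by rw [hβj]
    have hel : LocCoeff M (β * α) := (((hj₁'.loc.mul hvl).mul hj'.loc).mul hκ'.loc).mul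
      ((hj'.loc.mul hb₁l).mul hj₁'.loc)
    have hei : InvBy Q' (β * α) := (((hj₁'.inv.mul hvi).mul hj'.inv).mul hκ'.inv).mul
      ((hj'.inv.mul hb₁i).mul hj₁'.inv)
    have hj₁e : j₁ * (β * α) = β * α := by rw [← mul_assoc, hj₁β]
    have hej₁ : (β * α) * j₁ = β * α := by rw [mul_assoc, hαj₁]
    have hprim := hj₁'.prim (β * α) (j₁ - β * α) hel hei (hj₁'.loc.sub hel) (hj₁'.inv.sub hei) hee
      (by rw [mul_sub, sub_mul, sub_mul, hj₁'.idem, hj₁e, hej₁, hee]; abel)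
      (by rw [mul_sub, hej₁, hee, sub_self])
      (by rw [sub_mul, hj₁e, hee, sub_self])
      (by abel)
    rcases hprim with h0 | h0
    · exfalso
      apply hj'.ne
      have : j = α * (β * α) * β := by
        calc j = j * j := hj'.idem.symm
          _ = (α * β) * (α * β) := by rw [hαβ]
          _ = α * (β * α) * β := by simp only [mul_assoc]
      rw [this, h0, mul_zero, zero_mul]
    · exact (sub_eq_zero.mp h0).symm

/-- The twisted trace is symmetric on elements invariant under `u`. -/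
lemma twTrace_mul_comm {t : G → ℂ} (ht : IsClassFunction G t) (u : G) (a b : MonoidAlgebra ℂ G)
    (hb : IsInv u b) : twTrace t u (a * b) = twTrace t u (b * a) := by
  classical
  have h1 : ∀ c d : MonoidAlgebra ℂ G, twTrace t u (c * d) = ∑ x : G, ∑ z : G, c.coeff x * d.coeff z * t (x * z * u) := by
    intro c d
    simp only [twTrace, coeff_mul_eq_sum, Finset.sum_mul]
    rw [Finset.sum_comm]
    refine Finset.sum_congr rfl fun x _ => ?_
    refine Fintype.sum_equiv (Equiv.mulLeft x⁻¹) _ _ fun g => ?_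
    simp only [Equiv.coe_mulLeft, mul_inv_cancel_left]
  rw [h1, h1]
  conv_rhs => rw [Finset.sum_comm]
  refine Finset.sum_congr rfl fun x _ => ?_
  symm
  refine Fintype.sum_equiv (MulAut.conj u).toEquiv _ _ fun z => ?_
  simp only [MulEquiv.toEquiv_eq_coe, MulEquiv.coe_toEquiv, MulAut.conj_apply]
  rw [hb z]
  have h2 : t (x * (u * z * u⁻¹) * u) = t (z * x * u) := by
    have := ht (x * u * z) z
    have e1 : x * (u * z * u⁻¹) * u = x * u * z := by group
    have e2 : z * x * u = z * (x * u * z) * z⁻¹ := by group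
    rw [e1, e2, this]
  rw [h2]
  ring

/-- The transfer from a normal subgroup vanishes modulo the ideal on the centralizer of an element
outside that subgroup. -/
lemma memLocalIdeal_tQ_coeff (hMp : IsPModular p M) {Q Q' : Subgroup G} (hQ : IsPGroup p Q)
    (hN : Q ≤ Subgroup.normalizer (Q' : Set G)) {u : G} (hu : u ∈ Q) (huQ' : u ∉ Q')
    {b : MonoidAlgebra ℂ G} (hb : LocCoeff M b) (hbi : InvBy Q' b) {c : G} (hc : c * u = u * c) :
    MemLocalIdeal M ((tQ Q Q' b).coeff c) := by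
  classical
  haveI hchar : CharP (localRing M ⧸ localIdeal M) p := charP_residue hMp
  let U : ↥Q := ⟨u, hu⟩
  let H : Subgroup ↥Q := Subgroup.zpowers U
  have hHp : IsPGroup p H := hQ.to_subgroup H
  let f : PQ Q Q' → (localRing M ⧸ localIdeal M) := fun q =>
    residue M ⟨b.coeff ((sg q)⁻¹ * c * sg q), hb _⟩
  have hf : ∀ (v : H) (q : PQ Q Q'), f (v • q) = f q := by
    intro v q
    have h1 : v • q = (QuotientGroup.mk ((v : ↥Q) * ⟨sg q, sg_mem q⟩ : ↥Q) : PQ Q Q') := by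
      conv_lhs => rw [← mk_sg q]
      rfl
    obtain ⟨z, hz, hzE⟩ := exists_sg_eq (P := Q) (Q := Q') ((v : ↥Q) * ⟨sg q, sg_mem q⟩ : ↥Q)
    have hvc : ((v : ↥Q) : G) * c = c * ((v : ↥Q) : G) := by
      obtain ⟨n, hn⟩ := v.2
      have h3 : (((v : ↥Q) : G)) = u ^ n := by
        rw [← hn]
        simp [U]
      rw [h3]
      exact ((show Commute c u from hc).zpow_right n).symm.eq
    have h2 : (sg (v • q))⁻¹ * c * sg (v • q) = z⁻¹ * ((sg q)⁻¹ * c * sg q) * z⁻¹⁻¹ := by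
      rw [h1, hzE]
      simp only [Subgroup.coe_mul]
      have h4 : ((v : ↥Q) : G)⁻¹ * c * ((v : ↥Q) : G) = c := by
        rw [mul_assoc, hvc.symm]
        group
      calc (((v : ↥Q) : G) * sg q * z)⁻¹ * c * (((v : ↥Q) : G) * sg q * z)
          = z⁻¹ * ((sg q)⁻¹ * (((v : ↥Q) : G)⁻¹ * c * ((v : ↥Q) : G)) * sg q) * z := by group
        _ = _ := by rw [h4]; group
    show residue M ⟨b.coeff ((sg (v • q))⁻¹ * c * sg (v • q)), hb _⟩ =
      residue M ⟨b.coeff ((sg q)⁻¹ * c * sg q), hb _⟩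
    congr 2
    rw [h2]
    exact hbi _ _ (Q'.inv_mem hz)
  have h0 := sum_eq_sum_fixed (F := localRing M ⧸ localIdeal M) hHp f hf
  have hempty : Finset.univ.filter (fun q : PQ Q Q' => ∀ v : H, v • q = q) = ∅ := by
    rw [Finset.filter_eq_empty_iff]
    intro q _ hq
    have h1 := hq ⟨U, Subgroup.mem_zpowers U⟩
    have h2 : (⟨U, Subgroup.mem_zpowers U⟩ : H) • q =
        (QuotientGroup.mk (U * ⟨sg q, sg_mem q⟩ : ↥Q) : PQ Q Q') := by
      conv_lhs => rw [← mk_sg q]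
      rfl
    rw [h2] at h1
    conv at h1 => rhs; rw [← mk_sg q]
    rw [QuotientGroup.eq, Subgroup.mem_subgroupOf] at h1
    have h3 : (((U * ⟨sg q, sg_mem q⟩ : ↥Q)⁻¹ * ⟨sg q, sg_mem q⟩ : ↥Q) : G) = (sg q)⁻¹ * u⁻¹ * sg q := by
      simp [U]
    rw [h3] at h1
    have hn := (Subgroup.mem_normalizer_iff.mp (hN (sg_mem q)) ((sg q)⁻¹ * u⁻¹ * sg q)).mp h1
    have h4 : sg q * ((sg q)⁻¹ * u⁻¹ * sg q) * (sg q)⁻¹ = u⁻¹ := by group
    rw [h4] at hn
    exact huQ' (by simpa using Q'.inv_mem hn)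
  rw [hempty, Finset.sum_empty] at h0
  have hX : MemLocalRing M ((tQ Q Q' b).coeff c) := locCoeff_tQ Q Q' hb c
  have e1 : (⟨_, hX⟩ : localRing M) = ∑ q : PQ Q Q', (⟨b.coeff ((sg q)⁻¹ * c * sg q), hb _⟩ : localRing M) := by
    apply Subtype.ext
    rw [AddSubmonoidClass.coe_finsetSum]
    exact coeff_tQ Q Q' b c
  have h3 : residue M ⟨_, hX⟩ = 0 := by
    rw [e1, map_sum]
    exact h0
  exact residue_eq_zero_iff.mp h3

/-- A twisted trace of a transfer vanishes outside the subgroup. -/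
theorem twTrace_eq_zero_of_tQ (hMp : IsPModular p M) {Q Q' : Subgroup G} (hQ : IsPGroup p Q)
    (hN : Q ≤ Subgroup.normalizer (Q' : Set G)) {u : G} (hu : u ∈ Q) (huQ' : u ∉ Q')
    {b y : MonoidAlgebra ℂ G} (hb : LocCoeff M b) (hbi : InvBy Q' b) (ht : tQ Q Q' b = y)
    (hy : y * y = y) (hyl : LocCoeff M y) (hyi : InvBy Q y) {t : G → ℂ}
    (htl : ∀ g, MemLocalRing M (t g)) (hcl : IsClassFunction G t) : twTrace t u y = 0 := by
  obtain ⟨k, hk⟩ := hQ ⟨u, hu⟩
  have hk' : u ^ (p ^ k) = 1 := by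
    have := congrArg (fun x : ↥Q => (x : G)) hk
    simpa using this
  refine twTrace_eq_zero (p := p) hMp (h := u) (z := u) (y := 1) (mul_one u) (Commute.one_right u) hk'
    (by simpa using hp.out.one_lt.ne') hy (coeffIn_top_iff.mpr hyl) (fun g => hyi g u hu) htl hcl
    (m := 1) one_pos ?_
  rw [pow_one, coeffIn_localIdeal_iff]
  intro c
  by_cases hc : c * u = u * c
  · rw [coeff_trunc_of_comm hc, ← ht]
    exact memLocalIdeal_tQ_coeff hMp hQ hN hu huQ' hb hbi hc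
  · rw [coeff_trunc_of_not_comm hc]
    exact memLocalIdeal_zero

/-- A subgroup of index `p` containing the stabilizer of `c`. -/
lemma exists_max_of_stab {Q : Subgroup G} (hQ : IsPGroup p Q) {c : G}
    (hc : c ∉ Subgroup.centralizer (Q : Set G)) :
    ∃ Q' : Subgroup G, Q' ≤ Q ∧ Q ≤ Subgroup.normalizer (Q' : Set G) ∧ Nat.card (PQ Q Q') = p ∧
      ∀ t ∈ Q, t * c * t⁻¹ = c → t ∈ Q' := by
  classical
  let S : Subgroup ↥Q := (Subgroup.centralizer ({c} : Set G)).comap Q.subtype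
  have hS : ∀ t : ↥Q, t ∈ S ↔ (t : G) * c * (t : G)⁻¹ = c := by
    intro t
    show (t : G) ∈ Subgroup.centralizer ({c} : Set G) ↔ _
    rw [Subgroup.mem_centralizer_iff]
    constructor
    · intro h
      have := h c rfl
      rw [← this]
      group
    · rintro h _ rfl
      rw [mul_inv_eq_iff_eq_mul] at h
      exact h.symm
  have hne : S ≠ ⊤ := by
    intro h
    apply hc
    rw [Subgroup.mem_centralizer_iff]
    intro t ht
    have h1 := (hS ⟨t, ht⟩).mp (by rw [h]; exact Subgroup.mem_top _)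
    simp only at h1
    rw [mul_inv_eq_iff_eq_mul] at h1
    exact h1
  obtain ⟨n, hn⟩ := IsPGroup.iff_card.mp hQ
  obtain ⟨m, hm⟩ := IsPGroup.iff_card.mp (hQ.to_subgroup S)
  have hmn : m < n := by
    by_contra hcon
    apply hne
    apply Subgroup.eq_top_of_card_eq
    have h1 : Nat.card S ≤ Nat.card ↥Q := Subgroup.card_le_card_group _
    have h2 : p ^ n ≤ p ^ m := Nat.pow_le_pow_right hp.out.pos (not_lt.mp hcon)
    rw [hm, hn] at h1 ⊢
    exact le_antisymm h1 h2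
  obtain ⟨K, hK, hSK⟩ := Sylow.exists_subgroup_card_pow_prime_le p (n := m) (m := n - 1) (by
    rw [hn]
    exact pow_dvd_pow p (Nat.sub_le n 1)) S hm (by omega)
  have hKidx : K.index = p := by
    have h1 := K.card_mul_index
    rw [hK, hn] at h1
    have h2 : p ^ n = p ^ (n - 1) * p := by
      rw [← pow_succ]
      congr 1
      omega
    rw [h2] at h1
    exact Nat.eq_of_mul_eq_mul_left (pow_pos hp.out.pos _) h1
  have hKn : K.Normal := by
    apply Subgroup.normal_of_index_eq_minFac_card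
    rw [hKidx, hn, Nat.Prime.pow_minFac hp.out (by omega)]
  refine ⟨K.map Q.subtype, ?_, ?_, ?_, ?_⟩
  · rintro _ ⟨t, -, rfl⟩
    exact t.2
  · intro t ht
    rw [Subgroup.mem_normalizer_iff]
    intro x
    constructor
    · rintro ⟨x', hx', rfl⟩
      exact ⟨⟨t, ht⟩ * x' * ⟨t, ht⟩⁻¹, hKn.conj_mem _ hx' _, by simp⟩
    · rintro ⟨x', hx', h⟩
      have h1 : (⟨t, ht⟩ : ↥Q)⁻¹ * x' * (⟨t, ht⟩ : ↥Q)⁻¹⁻¹ ∈ K := hKn.conj_mem _ hx' _
      refine ⟨_, h1, ?_⟩
      simp only [Subgroup.subtype_apply, Subgroup.coe_mul, InvMemClass.coe_inv, inv_inv]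
      simp only [Subgroup.subtype_apply] at h
      rw [h]
      group
  · have h1 : (K.map Q.subtype).subgroupOf Q = K :=
      Subgroup.comap_map_eq_self_of_injective Subtype.val_injective K
    show (((K.map Q.subtype).subgroupOf Q)).index = p
    rw [h1, hKidx]
  · intro t ht htc
    exact ⟨⟨t, ht⟩, hSK ((hS ⟨t, ht⟩).mpr htc), rfl⟩

open Classical in
/-- The sum of the elements of the `H`-orbit of `c`. -/
noncomputable def orbElt (H : Subgroup G) (c : G) : MonoidAlgebra ℂ G :=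
  ofFun (fun d => if ∃ q ∈ H, d = q * c * q⁻¹ then 1 else 0)

open Classical in
lemma coeff_orbElt (H : Subgroup G) (c d : G) :
    (orbElt H c).coeff d = if ∃ q ∈ H, d = q * c * q⁻¹ then 1 else 0 := coeff_ofFun _ _

lemma locCoeff_orbElt (H : Subgroup G) (c : G) : LocCoeff M (orbElt H c) := by
  intro d
  rw [coeff_orbElt]
  split_ifs
  · exact memLocalRing_one
  · exact memLocalRing_zero

omit hM in
lemma invBy_orbElt (H : Subgroup G) (c : G) : InvBy H (orbElt H c) := by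
  classical
  intro d u hu
  rw [coeff_orbElt, coeff_orbElt]
  have : (∃ q ∈ H, u * d * u⁻¹ = q * c * q⁻¹) ↔ ∃ q ∈ H, d = q * c * q⁻¹ := by
    constructor
    · rintro ⟨q, hq, h⟩
      refine ⟨u⁻¹ * q, H.mul_mem (H.inv_mem hu) hq, ?_⟩
      have h2 : d = u⁻¹ * (u * d * u⁻¹) * u := by group
      rw [h2, h]
      group
    · rintro ⟨q, hq, rfl⟩
      exact ⟨u * q, H.mul_mem hu hq, by group⟩
  simp only [this]

omit hM in
/-- The orbit sum is a transfer. -/
lemma tQ_orbElt {Q Q' : Subgroup G} (hQ' : Q' ≤ Q) {c : G} (hst : ∀ t ∈ Q, t * c * t⁻¹ = c → t ∈ Q') :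
    tQ Q Q' (orbElt Q' c) = orbElt Q c := by
  classical
  apply ext_coeff
  intro d
  rw [coeff_tQ, coeff_orbElt]
  simp only [coeff_orbElt]
  by_cases hd : ∃ q ∈ Q, d = q * c * q⁻¹
  · rw [if_pos hd]
    obtain ⟨t, ht, rfl⟩ := hd
    let T : ↥Q := ⟨t, ht⟩
    obtain ⟨z, hz, hzE⟩ := exists_sg_eq (P := Q) (Q := Q') T
    rw [Finset.sum_eq_single (QuotientGroup.mk T : PQ Q Q')]
    · rw [if_pos]
      refine ⟨z⁻¹, Q'.inv_mem hz, ?_⟩
      rw [hzE]
      simp only [T]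
      group
    · intro q _ hq
      rw [if_neg]
      rintro ⟨q', hq', h⟩
      apply hq
      have h1 : q'⁻¹ * (sg q)⁻¹ * t ∈ Q' := by
        apply hst _ (Q.mul_mem (Q.mul_mem (Q.inv_mem (hQ' hq')) (Q.inv_mem (sg_mem q))) ht)
        have h2 : q'⁻¹ * (sg q)⁻¹ * t * c * (q'⁻¹ * (sg q)⁻¹ * t)⁻¹ =
            q'⁻¹ * ((sg q)⁻¹ * (t * c * t⁻¹) * sg q) * q' := by group
        rw [h2, h]
        group
      have h3 : (sg q)⁻¹ * t ∈ Q' := by
        have := Q'.mul_mem hq' h1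
        have e : q' * (q'⁻¹ * (sg q)⁻¹ * t) = (sg q)⁻¹ * t := by group
        rwa [e] at this
      rw [← mk_sg q, eq_comm, QuotientGroup.eq, Subgroup.mem_subgroupOf]
      have e : (((T : ↥Q)⁻¹ * ⟨sg q, sg_mem q⟩ : ↥Q) : G) = t⁻¹ * sg q := by simp [T]
      rw [e]
      have := Q'.inv_mem h3
      simpa using this
    · intro h
      exact (h (Finset.mem_univ _)).elim
  · rw [if_neg hd]
    refine Finset.sum_eq_zero fun q _ => ?_
    rw [if_neg]
    rintro ⟨q', hq', h⟩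
    apply hd
    refine ⟨sg q * q', Q.mul_mem (sg_mem q) (hQ' hq'), ?_⟩
    have h2 : d = sg q * ((sg q)⁻¹ * d * sg q) * (sg q)⁻¹ := by group
    rw [h2, h]
    group

/-- **Transfer.**  A primitive idempotent of the lattice of a `p`-group with vanishing truncation is a
transfer from a subgroup of index `p`. -/
theorem exists_transfer_of_tr_eq_zero (hMp : IsPModular p M) {Q : Subgroup G} (hQ : IsPGroup p Q)
    {y : MonoidAlgebra ℂ G} (hy : IsPrimIdem M Q y)
    (h0 : CoeffIn (localIdeal M) (tr (Subgroup.centralizer (Q : Set G)) y)) :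
    ∃ Q' : Subgroup G, Q' ≤ Q ∧ Q ≤ Subgroup.normalizer (Q' : Set G) ∧ Nat.card (PQ Q Q') = p ∧
      ∃ b, Cor M Q' y b ∧ tQ Q Q' b = y := by
  classical
  let r : Setoid G :=
    { r := fun c d => ∃ u ∈ Q, d = u * c * u⁻¹
      iseqv :=
        { refl := fun c => ⟨1, Q.one_mem, by simp⟩
          symm := by
            rintro c d ⟨u, hu, rfl⟩
            exact ⟨u⁻¹, Q.inv_mem hu, by group⟩
          trans := by
            rintro c d e ⟨u, hu, rfl⟩ ⟨v, hv, rfl⟩
            exact ⟨v * u, Q.mul_mem hv hu, by group⟩ } }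
  let rep : G → G := fun c => (Quotient.mk r c).out
  have hrep1 : ∀ c, ∃ u ∈ Q, c = u * rep c * u⁻¹ := fun c => Quotient.mk_out (s := r) c
  have hrep2 : ∀ c d, (∃ u ∈ Q, d = u * c * u⁻¹) → rep d = rep c := by
    intro c d h
    have : Quotient.mk r d = Quotient.mk r c := Quotient.sound (r.symm h)
    show (Quotient.mk r d).out = (Quotient.mk r c).out
    rw [this]
  set R : Finset G := Finset.univ.image rep with hR
  have hsum : y = ∑ c ∈ R, (y.coeff c) • orbElt Q c := by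
    apply ext_coeff
    intro d
    rw [MonoidAlgebra.coeff_sum, Finsupp.finsetSum_apply]
    simp only [MonoidAlgebra.coeff_smul_apply, smul_eq_mul, coeff_orbElt]
    rw [Finset.sum_eq_single (rep d)]
    · obtain ⟨u, hu, hd⟩ := hrep1 d
      rw [if_pos ⟨u, hu, hd⟩, mul_one, ← hy.inv (rep d) u hu, ← hd]
    · intro c hc hne
      rw [if_neg, mul_zero]
      intro h
      apply hne
      obtain ⟨c', -, rfl⟩ := Finset.mem_image.mp hc
      have h1 := hrep2 _ _ h
      rw [h1]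
      obtain ⟨u, hu, hcu⟩ := hrep1 c'
      refine (hrep2 c' (rep c') ⟨u⁻¹, Q.inv_mem hu, ?_⟩).symm
      calc rep c' = u⁻¹ * (u * rep c' * u⁻¹) * u⁻¹⁻¹ := by group
        _ = u⁻¹ * c' * u⁻¹⁻¹ := by rw [← hcu]
    · intro h
      exact (h (Finset.mem_image_of_mem _ (Finset.mem_univ _))).elim
  have hsmul : ∀ c : G, (y.coeff c) • orbElt Q c = iL (⟨y.coeff c, hy.loc c⟩ : localRing M) * orbElt Q c := by
    intro c
    show _ = algebraMap (localRing M) (MonoidAlgebra ℂ G) _ * _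
    rw [algebraMap_local_eq, ← Algebra.smul_def]
  have hterml : ∀ c, LocCoeff M ((y.coeff c) • orbElt Q c) := fun c => by
    rw [hsmul]
    exact (locCoeff_algebraMap _).mul (locCoeff_orbElt Q c)
  have htermi : ∀ c, InvBy Q ((y.coeff c) • orbElt Q c) := fun c => by
    rw [hsmul]
    exact (invBy_algebraMap Q _).mul (invBy_orbElt Q c)
  have h1 : rsd M y y = ∑ c ∈ R, rsd M y ((y.coeff c) • orbElt Q c) := by
    have := hy.rsd_sum hMp R (fun c => (y.coeff c) • orbElt Q c) (fun c _ => hterml c) (fun c _ => htermi c)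
    rwa [← hsum] at this
  rw [hy.rsd_self hMp] at h1
  obtain ⟨c, -, hne⟩ := Finset.exists_ne_zero_of_sum_ne_zero (s := R)
    (f := fun c => rsd M y ((y.coeff c) • orbElt Q c)) (by rw [← h1]; exact one_ne_zero)
  -- `c` is not fixed
  have hcC : c ∉ Subgroup.centralizer (Q : Set G) := by
    intro hc
    apply hne
    apply hy.rsd_of_coeffIn hMp
    rw [hsmul]
    refine coeffIn_ι_mul ?_ (locCoeff_orbElt Q c)
    have h2 := coeffIn_localIdeal_iff.mp h0 c
    rw [coeff_tr_of_mem _ hc] at h2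
    exact mem_localIdeal.mpr h2
  obtain ⟨Q', hQ', hN, hidx, hst⟩ := exists_max_of_stab hQ hcC
  refine ⟨Q', hQ', hN, hidx, ?_⟩
  set l : localRing M := ⟨y.coeff c, hy.loc c⟩ with hl
  set x := y * (iL l * orbElt Q c) * y with hx
  have hCx : Cor M Q y x := hy.cor_sandwich ((locCoeff_algebraMap l).mul (locCoeff_orbElt Q c))
    ((invBy_algebraMap Q l).mul (invBy_orbElt Q c))
  have hxne : rsd M y x ≠ 0 := by
    rw [hx, rsd_sandwich hy.idem, ← hsmul]
    exact hne
  obtain ⟨v, hv, hv1, -⟩ := hy.exists_inv_of_rsd hMp hCx hxne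
  have hyQ' : InvBy Q' y := hy.inv.mono hQ'
  have hvQ' : InvBy Q' v := hv.inv.mono hQ'
  refine ⟨y * (iL l * orbElt Q' c) * y * v, ⟨?_, ?_, ?_, ?_⟩, ?_⟩
  · exact ((hy.loc.mul ((locCoeff_algebraMap l).mul (locCoeff_orbElt Q' c))).mul hy.loc).mul hv.loc
  · exact ((hyQ'.mul ((invBy_algebraMap Q' l).mul (invBy_orbElt Q' c))).mul hyQ').mul hvQ'
  · simp only [← mul_assoc]
    rw [hy.idem]
  · rw [mul_assoc, hv.right]
  · have e1 : tQ Q Q' (iL l * orbElt Q' c) = iL l * orbElt Q c := by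
      rw [← tQ_mul_left (invBy_algebraMap Q l), tQ_orbElt hQ' hst]
    rw [← tQ_mul_right hv.inv, ← tQ_mul_right hy.inv, ← tQ_mul_left hy.inv, e1, ← hx, hv1]

end Tr

end Cfsg.Agent.Lib.Blocks.Nilp
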