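import Mathlib

/-!
# Reduction of positive definite binary integral forms

`exists_reduced_pair`: a positive semidefinite symmetric bilinear integral form on an abelian group generated by two
elements has a generating pair `(v, w)` with `B v v = a₁ + c`, `B w w = a₂ + c`, `B v w = -c`, where `c ≤ a₁` and
`c ≤ a₂` are natural numbers (Lagrange reduction).

`exists_gen_pair`: a free `ℤ`-module of finite rank with a positive definite integral form which stays dependent on
triples after extension to `ℂ` has at most two generators.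
-/

set_option autoImplicit false

namespace Cfsg.Agent.Lib.Blocks.BinaryForm

variable {L : Type*} [AddCommGroup L]

/-- **Lagrange reduction.** -/
theorem exists_reduced_pair (B : L →ₗ[ℤ] L →ₗ[ℤ] ℤ) (hs : ∀ x y, B x y = B y x) (hp : ∀ x, 0 ≤ B x x)
    (v₀ w₀ : L) (hgen : ∀ x, ∃ m n : ℤ, x = m • v₀ + n • w₀) :
    ∃ v w : L, (∀ x, ∃ m n : ℤ, x = m • v + n • w) ∧ ∃ a₁ a₂ c : ℕ,
      B v v = (a₁ : ℤ) + c ∧ B w w = (a₂ : ℤ) + c ∧ B v w = -(c : ℤ) ∧ c ≤ a₁ ∧ c ≤ a₂ := by
  let P : Set (L × L) := {q | ∀ x, ∃ m n : ℤ, x = m • q.1 + n • q.2}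
  let f : L × L → ℕ := fun q => (B q.1 q.1 + B q.2 q.2).toNat
  have hne : P.Nonempty := ⟨(v₀, w₀), hgen⟩
  obtain ⟨q, hq, hmin⟩ := (InvImage.wf f Nat.lt_wfRel.wf).has_min P hne
  have hmin' : ∀ q' ∈ P, ¬ (f q' < f q) := fun q' hq' => hmin q' hq'
  obtain ⟨v, w⟩ := q
  have hq' : ∀ x, ∃ m n : ℤ, x = m • v + n • w := hq
  set b := B v w with hb
  have hwv : B w v = b := hs w v
  have hvv := hp v
  have hww := hp w
  have lt_of : ∀ q' ∈ P, 0 ≤ B q'.1 q'.1 + B q'.2 q'.2 → B q'.1 q'.1 + B q'.2 q'.2 < B v v + B w w → False := by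
    intro q' hq'P h0 hlt
    apply hmin' q' hq'P
    show (B q'.1 q'.1 + B q'.2 q'.2).toNat < (B v v + B w w).toNat
    omega
  have h1 : 2 * b ≤ B v v := by
    by_contra hcon
    refine lt_of (v, w - v) ?_ ?_ ?_
    · intro x
      obtain ⟨m, n, rfl⟩ := hq' x
      refine ⟨m + n, n, ?_⟩
      simp only [add_smul, smul_sub]
      abel
    · exact add_nonneg hvv (hp _)
    · simp only [map_sub, LinearMap.sub_apply, hwv, ← hb]
      omega
  have h2 : -(2 * b) ≤ B v v := by
    by_contra hcon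
    refine lt_of (v, w + v) ?_ ?_ ?_
    · intro x
      obtain ⟨m, n, rfl⟩ := hq' x
      refine ⟨m - n, n, ?_⟩
      simp only [sub_smul, smul_add]
      abel
    · exact add_nonneg hvv (hp _)
    · simp only [map_add, LinearMap.add_apply, hwv, ← hb]
      omega
  have h3 : 2 * b ≤ B w w := by
    by_contra hcon
    refine lt_of (v - w, w) ?_ ?_ ?_
    · intro x
      obtain ⟨m, n, rfl⟩ := hq' x
      refine ⟨m, m + n, ?_⟩
      simp only [add_smul, smul_sub]
      abel
    · exact add_nonneg (hp _) hww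
    · simp only [map_sub, LinearMap.sub_apply, hwv, ← hb]
      omega
  have h4 : -(2 * b) ≤ B w w := by
    by_contra hcon
    refine lt_of (v + w, w) ?_ ?_ ?_
    · intro x
      obtain ⟨m, n, rfl⟩ := hq' x
      refine ⟨m, n - m, ?_⟩
      simp only [sub_smul, smul_add]
      abel
    · exact add_nonneg (hp _) hww
    · simp only [map_add, LinearMap.add_apply, hwv, ← hb]
      omega
  by_cases hb0 : b ≤ 0
  · refine ⟨v, w, hq', (B v v + b).toNat, (B w w + b).toNat, (-b).toNat, ?_, ?_, ?_, ?_, ?_⟩ <;> omega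
  · refine ⟨v, -w, ?_, (B v v - b).toNat, (B w w - b).toNat, b.toNat, ?_, ?_, ?_, ?_, ?_⟩
    · intro x
      obtain ⟨m, n, rfl⟩ := hq' x
      exact ⟨m, -n, by simp⟩
    · omega
    · simp only [map_neg, LinearMap.neg_apply, neg_neg]
      omega
    · simp only [map_neg]
      omega
    · omega
    · omega

/-- **Two generators.** -/
theorem exists_gen_pair [Module.Free ℤ L] [Module.Finite ℤ L] (B : L →ₗ[ℤ] L →ₗ[ℤ] ℤ) (hs : ∀ x y, B x y = B y x)
    (hp : ∀ x, B x x = 0 → x = 0)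
    (hdep : ∀ x : Fin 3 → L, ∃ c : Fin 3 → ℂ, c ≠ 0 ∧ ∀ y, ∑ i, c i * (B (x i) y : ℂ) = 0) :
    ∃ v₀ w₀ : L, ∀ x, ∃ m n : ℤ, x = m • v₀ + n • w₀ := by
  classical
  obtain ⟨r, ⟨φ⟩⟩ : ∃ r, Nonempty (Module.Basis (Fin r) ℤ L) := ⟨_, ⟨Module.finBasis ℤ L⟩⟩
  have hr : r ≤ 2 := by
    by_contra hcon
    have h3 : 3 ≤ r := by omega
    let x : Fin 3 → L := fun i => φ (Fin.castLE h3 i)
    obtain ⟨c, hc, hc0⟩ := hdep x
    let G : Matrix (Fin 3) (Fin 3) ℤ := Matrix.of fun i j => B (x i) (x j)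
    have h4 : G.det = 0 := by
      have h5 : (G.map (Int.castRingHom ℂ)).det = 0 := by
        rw [← Matrix.exists_vecMul_eq_zero_iff]
        refine ⟨c, hc, ?_⟩
        funext j
        simp only [Matrix.vecMul, dotProduct, Matrix.map_apply, Pi.zero_apply]
        simpa [G] using hc0 (x j)
      rw [← RingHom.mapMatrix_apply, ← RingHom.map_det] at h5
      have h5' : ((G.det : ℤ) : ℂ) = 0 := h5
      exact_mod_cast h5'
    obtain ⟨q, hq, hq0⟩ := Matrix.exists_vecMul_eq_zero_iff.mpr h4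
    obtain ⟨y, hy⟩ : ∃ y, y = ∑ i, q i • x i := ⟨_, rfl⟩
    have h6 : ∀ j, B y (x j) = 0 := by
      intro j
      have h7 := congrFun hq0 j
      simp only [Matrix.vecMul, dotProduct, Pi.zero_apply] at h7
      rw [hy, map_sum, LinearMap.sum_apply]
      simpa [G] using h7
    have h8 : B y y = 0 := by
      have h9 : B y y = B y (∑ i, q i • x i) := by rw [← hy]
      rw [h9, map_sum]
      refine Finset.sum_eq_zero fun j _ => ?_
      rw [map_zsmul, h6 j, smul_zero]
    have h10 := hp y h8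
    rw [hy] at h10
    have h11 := φ.linearIndependent.comp _ (Fin.castLE_injective h3)
    have h12 := Fintype.linearIndependent_iff.mp h11 q h10
    exact hq (funext h12)
  have hexp : ∀ x, x = ∑ i, φ.repr x i • φ i := fun x => (φ.sum_repr x).symm
  interval_cases r
  · refine ⟨0, 0, fun x => ⟨0, 0, ?_⟩⟩
    rw [hexp x]
    simp
  · refine ⟨φ 0, 0, fun x => ⟨φ.repr x 0, 0, ?_⟩⟩
    conv_lhs => rw [hexp x]
    simp
  · refine ⟨φ 0, φ 1, fun x => ⟨φ.repr x 0, φ.repr x 1, ?_⟩⟩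
    conv_lhs => rw [hexp x]
    rw [Fin.sum_univ_two]

end Cfsg.Agent.Lib.Blocks.BinaryForm
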