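/-
Blocks and normal `p`-subgroups: block idempotents are supported on the centralizer.

If `P` is a normal `p`-subgroup and `N` is a normal subgroup containing `C_G(P)`, two irreducible
characters of `G` over a common irreducible character of `N` are in the same block, and the block
elements are pushed forward from `N`.
-/
import Mathlib
import Cfsg.Prelude.Def_Blocks
import Cfsg.Agent.Lib.Blocks.Covering
import Cfsg.Agent.Lib.Blocks.BrauerMap

set_option autoImplicit false

namespace Cfsg.Agent.Lib.Blocks.CentSupport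

open Cfsg Cfsg.Agent.Lib.Blocks.Local Cfsg.Agent.Lib.Blocks.Central Cfsg.Agent.Lib.Blocks.Osima
open Cfsg.Agent.Lib.Blocks.Covering Cfsg.Agent.Lib.Blocks.BrauerMap

universe u

variable {G : Type u} [Group G] [Fintype G] {M : Ideal AlgInt}

/-- The class sum of an element of the normal subgroup `N`, as an element of `ℂ[N]`. -/
noncomputable def classSumN (N : Subgroup G) [Fintype N] (g : G) : MonoidAlgebra ℂ N :=
  ofFun (fun n : N => (classSum g).coeff (n : G))

lemma push_classSumN (N : Subgroup G) [hN : N.Normal] [Fintype N] {g : G} (hg : g ∈ N) :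
    push N (classSumN N g) = classSum g := by
  classical
  show push N (res N (classSum g)) = classSum g
  apply push_res N
  intro x hx
  apply coeff_classSum_of_not_isConj
  intro h
  obtain ⟨c, rfl⟩ := isConj_iff.mp h
  exact hx (hN.conj_mem g hg c)

/-- Characters over a common character of `N`, a normal subgroup containing `C_G(P)`, are in the same
block. -/
theorem sameBlock_of_common_constituent {p : ℕ} [Fact p.Prime] [M.IsPrime] (hMp : IsPModular p M)
    (P : Subgroup G) [P.Normal] (hP : IsPGroup p P) (N : Subgroup G) [hN : N.Normal] [Fintype N]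
    (hCN : Subgroup.centralizer (P : Set G) ≤ N) {χ ψ : IrrCharacter G} {θ : IrrCharacter N}
    (hχ : classInner (fun n : N => (χ : G → ℂ) n) (θ : N → ℂ) ≠ 0)
    (hψ : classInner (fun n : N => (ψ : G → ℂ) n) (θ : N → ℂ) ≠ 0) :
    SameBlock M (χ : G → ℂ) (ψ : G → ℂ) := by
  intro g
  by_cases hg : g ∈ N
  · have hcl : IsClassFunction G (push N (classSumN N g)).coeff := by
      rw [push_classSumN N hg]; exact isClassFunction_classSum g
    have h1 := omega_push_eq_of_constituent χ.2 θ.2 hχ hcl
    have h2 := omega_push_eq_of_constituent ψ.2 θ.2 hψ hcl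
    rw [push_classSumN N hg, omega_classSum (isClassFunction_of_irr χ.2)] at h1
    rw [push_classSumN N hg, omega_classSum (isClassFunction_of_irr ψ.2)] at h2
    rw [h1, h2, sub_self]
    exact memLocalIdeal_zero
  · have hg' : g ∉ Subgroup.centralizer (P : Set G) := fun h => hg (hCN h)
    exact memLocalIdeal_sub
      (memLocalIdeal_centralChar_of_not_centralizer hMp P hP χ.2 hg')
      (memLocalIdeal_centralChar_of_not_centralizer hMp P hP ψ.2 hg')

/-- The constituents on `N` of the members of `B`. -/
def constituentsOf (N : Subgroup G) [N.Normal] [Fintype N] (B : Set (IrrCharacter G)) : Set (IrrCharacter N) :=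
  {θ | ∃ χ ∈ B, classInner (fun n : N => (χ : G → ℂ) n) (θ : N → ℂ) ≠ 0}

lemma isConjStable_constituentsOf (N : Subgroup G) [N.Normal] [Fintype N] (B : Set (IrrCharacter G)) :
    IsConjStable (G := G) (constituentsOf N B) := by
  rintro g θ ⟨χ, hχ, h⟩
  exact ⟨χ, hχ, by rwa [classInner_conjIrr (isClassFunction_of_irr χ.2)]⟩

/-- The block element of `B` is supported on `N`. -/
theorem blockElt_eq_pushBlock {p : ℕ} [Fact p.Prime] [M.IsPrime] (hMp : IsPModular p M)
    (P : Subgroup G) [P.Normal] (hP : IsPGroup p P) (N : Subgroup G) [hN : N.Normal] [Fintype N]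
    (hCN : Subgroup.centralizer (P : Set G) ≤ N) {B : Set (IrrCharacter G)} (hB : IsPBlock M B) :
    blockElt B = pushBlock (constituentsOf N B) := by
  have hst := isConjStable_constituentsOf N B
  refine eq_of_omega_eq' (isClassFunction_blockElt B) (isClassFunction_pushBlock hst) fun χ => ?_
  obtain ⟨θ, hθ⟩ := exists_constituent (N := N) χ.2
  by_cases hχ : χ ∈ B
  · rw [omega_blockElt_of_mem hχ, omega_pushBlock_of_mem hst χ.2 hθ ⟨χ, hχ, hθ⟩]
  · have hθ' : θ ∉ constituentsOf N B := by
      rintro ⟨ψ, hψ, h⟩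
      apply hχ
      obtain ⟨χ₀, rfl⟩ := hB
      have h1 : SameBlock M (ψ : G → ℂ) (χ : G → ℂ) :=
        sameBlock_of_common_constituent hMp P hP N hCN h hθ
      exact sameBlock_trans (M := M) hψ h1
    rw [omega_blockElt_of_notMem hχ, omega_pushBlock_of_notMem hst χ.2 hθ hθ']

/-- **Block idempotents vanish off `N`**, for `N` a normal subgroup containing `C_G(P)`. -/
theorem blockCoeff_eq_zero_of_notMem {p : ℕ} [Fact p.Prime] [M.IsPrime] (hMp : IsPModular p M)
    (P : Subgroup G) [P.Normal] (hP : IsPGroup p P) (N : Subgroup G) [hN : N.Normal] [Fintype N]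
    (hCN : Subgroup.centralizer (P : Set G) ≤ N) {B : Set (IrrCharacter G)} (hB : IsPBlock M B)
    {g : G} (hg : g ∉ N) : blockCoeff B g = 0 := by
  rw [← coeff_blockElt, blockElt_eq_pushBlock hMp P hP N hCN hB, pushBlock,
    coeff_push_of_notMem N _ hg]

/-- The trace class sum pushes forward to the class sum, for a normal subgroup containing `g`. -/
lemma push_traceClassSum (N : Subgroup G) [hN : N.Normal] [Fintype N] {g : G} (hg : g ∈ N) :
    push N (Cfsg.Agent.Lib.Blocks.Induced.traceClassSum N g) = classSum g := by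
  classical
  ext x
  by_cases hx : x ∈ N
  · have h1 := coeff_push_coe N (Cfsg.Agent.Lib.Blocks.Induced.traceClassSum N g) ⟨x, hx⟩
    simp only at h1
    rw [h1]
    simp only [Cfsg.Agent.Lib.Blocks.Induced.traceClassSum, coeff_ofFun]
    by_cases h : IsConj g x
    · rw [if_pos h, coeff_classSum_of_isConj h]
    · rw [if_neg h, coeff_classSum_of_not_isConj h]
  · rw [coeff_push_of_notMem N _ hx, coeff_classSum_of_not_isConj]
    intro h
    obtain ⟨c, rfl⟩ := isConj_iff.mp h
    exact hx (hN.conj_mem g hg c)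

/-- The induced central character of `θ` from `N` at `g ∈ N` is the central character of `χ` over `θ`. -/
theorem inducedCentralChar_eq_of_constituent (N : Subgroup G) [hN : N.Normal] [Fintype N] {χ : IrrCharacter G}
    {θ : IrrCharacter N} (h : classInner (fun n : N => (χ : G → ℂ) n) (θ : N → ℂ) ≠ 0) {g : G} (hg : g ∈ N) :
    inducedCentralChar N (θ : N → ℂ) g = centralChar (χ : G → ℂ) g := by
  classical
  have hcl : IsClassFunction G (push N (Cfsg.Agent.Lib.Blocks.Induced.traceClassSum N g)).coeff := by
    rw [push_traceClassSum N hg]; exact isClassFunction_classSum g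
  rw [Cfsg.Agent.Lib.Blocks.Induced.inducedCentralChar_eq_omega,
    ← omega_push_eq_of_constituent χ.2 θ.2 h hcl, push_traceClassSum N hg,
    omega_classSum (isClassFunction_of_irr χ.2)]

/-- The induced central character vanishes on elements outside a normal subgroup. -/
theorem inducedCentralChar_eq_zero_of_notMem (N : Subgroup G) [hN : N.Normal] (ξ : N → ℂ) {g : G} (hg : g ∉ N) :
    inducedCentralChar N ξ g = 0 := by
  rw [inducedCentralChar]
  apply finsum_mem_eq_zero_of_forall_eq_zero
  intro h hh
  exfalso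
  obtain ⟨c, hc⟩ := isConj_iff.mp (show IsConj g (h : G) from hh)
  apply hg
  have := hN.conj_mem (h : G) h.2 c⁻¹
  rw [← hc] at this
  simpa [mul_assoc] using this

/-- If `χ ∈ B` lies over `θ ∈ b`, for `N` a normal subgroup containing `C_G(P)`, then `b` induces `B`. -/
theorem isInducedBlock_of_constituent {p : ℕ} [Fact p.Prime] [M.IsPrime] (hMp : IsPModular p M)
    (P : Subgroup G) [P.Normal] (hP : IsPGroup p P) (N : Subgroup G) [hN : N.Normal] [Fintype N]
    (hCN : Subgroup.centralizer (P : Set G) ≤ N) {b : Set (IrrCharacter N)} (hb : IsPBlock M b)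
    {B : Set (IrrCharacter G)} (hB : IsPBlock M B) {χ : IrrCharacter G} (hχ : χ ∈ B)
    {θ : IrrCharacter N} (hθ : θ ∈ b)
    (h : classInner (fun n : N => (χ : G → ℂ) n) (θ : N → ℂ) ≠ 0) : IsInducedBlock M N b B := by
  classical
  refine ⟨hb, hB, fun ξ hξ ψ hψ g => ?_⟩
  by_cases hg : g ∈ N
  · rw [Cfsg.Agent.Lib.Blocks.Induced.inducedCentralChar_eq_omega]
    have h1 : SameBlock M (ξ : N → ℂ) (θ : N → ℂ) := by
      obtain ⟨θ₀, rfl⟩ := hb
      exact sameBlock_trans (M := M) (sameBlock_symm hξ) hθ
    have h2 : SameBlock M (χ : G → ℂ) (ψ : G → ℂ) := by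
      obtain ⟨χ₀, rfl⟩ := hB
      exact sameBlock_trans (M := M) (sameBlock_symm hχ) hψ
    have h3 := memLocalIdeal_omega_sub ξ.2 θ.2 h1
      (Cfsg.Agent.Lib.Blocks.Induced.traceClassSum_mem_localCenter N g (M := M))
    have h4 := inducedCentralChar_eq_of_constituent N h hg
    rw [Cfsg.Agent.Lib.Blocks.Induced.inducedCentralChar_eq_omega] at h4
    rw [h4] at h3
    have h5 := memLocalIdeal_add h3 (h2 g)
    convert h5 using 1
    ring
  · rw [inducedCentralChar_eq_zero_of_notMem N _ hg, zero_sub]
    exact memLocalIdeal_neg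
      (memLocalIdeal_centralChar_of_not_centralizer hMp P hP ψ.2 (fun h => hg (hCN h)))

/-- A block of `N` induces a block of `G`, for `N` a normal subgroup containing `C_G(P)`. -/
theorem inducedBlockDefined_of_normal {p : ℕ} [Fact p.Prime] [M.IsPrime] (hMp : IsPModular p M)
    (P : Subgroup G) [P.Normal] (hP : IsPGroup p P) (N : Subgroup G) [hN : N.Normal] [Fintype N]
    (hCN : Subgroup.centralizer (P : Set G) ≤ N) {b : Set (IrrCharacter N)} (hb : IsPBlock M b) :
    InducedBlockDefined M N b := by
  obtain ⟨θ, rfl⟩ := id hb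
  obtain ⟨χ, hχ⟩ := exists_irr_of_constituent (N := N) θ.2
  exact ⟨blockOf M (χ : G → ℂ), isInducedBlock_of_constituent hMp P hP N hCN hb ⟨χ, rfl⟩
    (mem_blockOf_self χ) (mem_blockOf_self θ) hχ⟩

end Cfsg.Agent.Lib.Blocks.CentSupport
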