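/-
The Brauer map and the first main theorem: the idempotent of the block `B` and the idempotent of its
Brauer correspondent agree modulo `M` on `C_G(D)`; the Brauer correspondence over subgroups containing
the normalizer.
-/
import Mathlib
import Cfsg.Prelude.Def_Blocks
import Cfsg.Agent.S0919
import Cfsg.Agent.Lib.Blocks.FirstMain
import Cfsg.Agent.Lib.Blocks.BrauerCoeff
import Cfsg.Agent.Lib.Blocks.CentSupport
import Cfsg.Agent.Lib.Blocks.Transport

set_option autoImplicit false

namespace Cfsg.Agent.Lib.Blocks.FirstMain2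

open Cfsg Cfsg.Agent.Lib.Blocks.Local Cfsg.Agent.Lib.Blocks.Central Cfsg.Agent.Lib.Blocks.Osima
open Cfsg.Agent.Lib.Blocks.BrauerMap Cfsg.Agent.Lib.Blocks.Defect Cfsg.Agent.Lib.Blocks.Twisted
open Cfsg.Agent.Lib.Blocks.FirstMain Cfsg.Agent.Lib.Blocks.BlockHom

section Congr

variable {X : Type*} [Group X] [Fintype X] {M : Ideal AlgInt} [M.IsPrime]

/-- Central elements, idempotent modulo `M`, with the same central characters modulo `M` are congruent. -/
theorem coeffIn_sub_of_omega {E e : MonoidAlgebra ℂ X} (hE : E ∈ localCenter X M) (he : e ∈ localCenter X M)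
    (hsq : CoeffIn (localIdeal M) (E - E * E)) (he2 : e * e = e)
    (hω : ∀ ξ : IrrCharacter X, MemLocalIdeal M (omega (ξ : X → ℂ) E - omega (ξ : X → ℂ) e)) :
    CoeffIn (localIdeal M) (E - e) := by
  set u := E - e with hu
  have huZ : u ∈ localCenter X M := (localCenter X M).sub_mem hE he
  have huΛ : CoeffIn (⊤ : Ideal (localRing M)) u := coeffIn_top_iff.mpr huZ.2
  have hEΛ : CoeffIn (⊤ : Ideal (localRing M)) E := coeffIn_top_iff.mpr hE.2
  have heΛ : CoeffIn (⊤ : Ideal (localRing M)) e := coeffIn_top_iff.mpr he.2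
  obtain ⟨t, ht0, ht⟩ := Cfsg.Agent.Lib.Blocks.SecondMain.exists_pow_coeffIn_of_omega huZ (fun ξ => by
    rw [hu, omega_sub]; exact hω ξ)
  -- the cube
  let E' : localCenter X M := ⟨E, hE⟩
  let e' : localCenter X M := ⟨e, he⟩
  have he2' : e' * e' = e' := Subtype.ext he2
  have hid : (E' - e') * (E' - e') * (E' - e') - (E' - e') =
      (E' * E' - E') - (E' * E' - E') * e' - (E' * E' - E') * e' + (E' - e') * (E' * E' - E') := by
    linear_combination (3 * E' - e' - 1) * he2'
  have hid' : u * u * u - u = (E * E - E) - (E * E - E) * e - (E * E - E) * e + u * (E * E - E) :=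
    congrArg Subtype.val hid
  have hr : CoeffIn (localIdeal M) (E * E - E) := by
    have := hsq.neg
    rwa [neg_sub] at this
  have hcube : CoeffIn (localIdeal M) (u * u * u - u) := by
    rw [hid']
    exact ((hr.sub (hr.mul_right heΛ)).sub (hr.mul_right heΛ)).add (CoeffIn.mul_left huΛ hr)
  have hodd : ∀ s : ℕ, CoeffIn (localIdeal M) (u ^ (2 * s + 1) - u) := by
    intro s
    induction s with
    | zero => simpa using coeffIn_zero
    | succ s ih =>
      have h1 : u ^ (2 * (s + 1) + 1) - u = (u ^ (2 * s + 1) - u) * (u * u) + (u * u * u - u) := by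
        have : 2 * (s + 1) + 1 = (2 * s + 1) + 1 + 1 := by ring
        rw [this, pow_succ, pow_succ]
        noncomm_ring
      rw [h1]
      exact (ih.mul_right (huΛ.mul_right huΛ |>.top)).add hcube
  have h1 := hodd t
  have h2 : CoeffIn (localIdeal M) (u ^ (2 * t + 1)) := by
    have : 2 * t + 1 = t + (t + 1) := by ring
    rw [this, pow_add]
    refine ht.mul_right ?_
    exact (CoeffIn.pow huΛ (t + 1)).top
  have h3 := h2.sub h1
  have h4 : u ^ (2 * t + 1) - (u ^ (2 * t + 1) - u) = u := by abel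
  rwa [h4] at h3

/-- Two blocks whose elements are congruent are equal. -/
theorem eq_of_blockCoeff_congr {b₁ b₂ : Set (IrrCharacter X)} (hb₁ : IsPBlock M b₁) (hb₂ : IsPBlock M b₂)
    (h : ∀ y, MemLocalIdeal M (blockCoeff b₁ y - blockCoeff b₂ y)) : b₁ = b₂ := by
  classical
  obtain ⟨ξ, hξ⟩ := id hb₁
  have hξm : ξ ∈ b₁ := by rw [hξ]; exact mem_blockOf_self ξ
  have h1 : MemLocalIdeal M (omega (ξ : X → ℂ) (blockElt b₁ - blockElt b₂)) := by
    apply memLocalIdeal_omega_of_coeff ξ.2
      (((localCenter X M).sub_mem (blockElt_mem_localCenter hb₁) (blockElt_mem_localCenter hb₂)).1)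
    intro g
    simpa [coeff_blockElt] using h g
  rw [omega_sub, omega_blockElt_of_mem hξm] at h1
  have hξ₂ : ξ ∈ b₂ := by
    by_contra hno
    rw [omega_blockElt_of_notMem hno, sub_zero] at h1
    exact not_memLocalIdeal_one h1
  obtain ⟨ξ₂, rfl⟩ := hb₂
  rw [hξ]
  exact blockOf_eq_of_mem hξ₂

end Congr

section Induced

variable {G : Type*} [Group G] [Fintype G] {M : Ideal AlgInt} [M.IsPrime]

/-- The induced block is unique. -/
theorem induced_unique {H : Subgroup G} {b : Set (IrrCharacter H)} {B₁ B₂ : Set (IrrCharacter G)}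
    (h₁ : IsInducedBlock M H b B₁) (h₂ : IsInducedBlock M H b B₂) : B₁ = B₂ := by
  classical
  haveI : Fintype H := Fintype.ofFinite H
  obtain ⟨ξ, hξ⟩ := id h₁.1
  have hξm : ξ ∈ b := by rw [hξ]; exact mem_blockOf_self ξ
  obtain ⟨χ₁, hχ₁⟩ := id h₁.2.1
  obtain ⟨χ₂, hχ₂⟩ := id h₂.2.1
  have hχ₁m : χ₁ ∈ B₁ := by rw [hχ₁]; exact mem_blockOf_self χ₁
  have hχ₂m : χ₂ ∈ B₂ := by rw [hχ₂]; exact mem_blockOf_self χ₂
  have hsame : SameBlock M (χ₁ : G → ℂ) (χ₂ : G → ℂ) := by
    intro g
    have h3 := memLocalIdeal_sub (h₂.2.2 ξ hξm χ₂ hχ₂m g) (h₁.2.2 ξ hξm χ₁ hχ₁m g)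
    convert h3 using 1
    ring
  rw [hχ₁, hχ₂]
  exact (blockOf_eq_of_mem (show χ₂ ∈ blockOf M (χ₁ : G → ℂ) from hsame)).symm

variable {p : ℕ} [Fact p.Prime] {D : Subgroup G} [Fintype (Subgroup.normalizer (D : Set G))]

/-- **The idempotent of a block and the idempotent of its Brauer correspondent.** -/
theorem coeffIn_brauer_sub (hM : IsPModular p M) (hD : IsPGroup p D)
    {b : Set (IrrCharacter (Subgroup.normalizer (D : Set G)))} (hb : IsPBlock M b)
    {B : Set (IrrCharacter G)} (hB : IsPBlock M B)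
    (hdb : IsDefectGroup p M b (D.subgroupOf (Subgroup.normalizer (D : Set G))))
    (hind : IsInducedBlock M (Subgroup.normalizer (D : Set G)) b B) :
    CoeffIn (localIdeal M) (brauer D (Subgroup.normalizer (D : Set G)) (blockElt B) - blockElt b) := by
  classical
  have hCH := centralizer_le_normalizer' D
  have hPH := le_normalizer' D
  have hel : blockElt B ∈ localCenter G M := blockElt_mem_localCenter hB
  refine coeffIn_sub_of_omega (brauer_mem_localCenter le_rfl hel) (blockElt_mem_localCenter hb) ?_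
    (blockElt_mul_self b) ?_
  · rw [coeffIn_localIdeal_iff]
    intro h
    have := brauer_mul_sub_coeff hM hD hCH hel hel h
    rwa [blockElt_mul_self] at this
  · intro ξ
    by_cases hξ : ξ ∈ b
    · rw [omega_blockElt_of_mem hξ]
      obtain ⟨χ, hχ⟩ := id hB
      have hχm : χ ∈ B := by rw [hχ]; exact mem_blockOf_self χ
      have h1 := Cfsg.Agent.Lib.Blocks.BrauerCoeff.brauer_of_isInducedBlock hM hD hPH le_rfl
        (fun g => hind.2.2 ξ hξ χ hχm g) ⟨_, hel⟩
      simp only at h1
      rwa [omega_blockElt_of_mem hχm] at h1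
    · rw [omega_blockElt_of_notMem hξ, sub_zero]
      obtain ⟨B', hind'⟩ := Cfsg.Agent.S0919.result p M hM D _ hD hPH hCH le_rfl
        (blockOf M (ξ : _ → ℂ)) ⟨ξ, rfl⟩
      obtain ⟨χ', hχ'⟩ := id hind'.2.1
      have hχ'm : χ' ∈ B' := by rw [hχ']; exact mem_blockOf_self χ'
      have h1 := Cfsg.Agent.Lib.Blocks.BrauerCoeff.brauer_of_isInducedBlock hM hD hPH le_rfl
        (fun g => hind'.2.2 ξ (mem_blockOf_self ξ) χ' hχ'm g) ⟨_, hel⟩
      simp only at h1
      have hχ'B : χ' ∉ B := by
        intro hmem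
        have hBB' : B = B' := by
          obtain ⟨χ₀, rfl⟩ := id hB
          rw [hχ']
          exact (blockOf_eq_of_mem hmem).symm
        rw [← hBB'] at hind'
        have := eq_of_isInducedBlock hM hD hB hb ⟨ξ, rfl⟩ hdb hind hind'
        apply hξ
        rw [this]
        exact mem_blockOf_self ξ
      rwa [omega_blockElt_of_notMem hχ'B, sub_zero] at h1

/-- The idempotents of a block and of its Brauer correspondent agree modulo `M` on `C_G(D)`. -/
theorem blockCoeff_sub_of_induced (hM : IsPModular p M) (hD : IsPGroup p D)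
    {b : Set (IrrCharacter (Subgroup.normalizer (D : Set G)))} (hb : IsPBlock M b)
    {B : Set (IrrCharacter G)} (hB : IsPBlock M B)
    (hdb : IsDefectGroup p M b (D.subgroupOf (Subgroup.normalizer (D : Set G))))
    (hind : IsInducedBlock M (Subgroup.normalizer (D : Set G)) b B)
    {x : Subgroup.normalizer (D : Set G)} (hx : (x : G) ∈ Subgroup.centralizer (D : Set G)) :
    MemLocalIdeal M (blockCoeff B (x : G) - blockCoeff b x) := by
  classical
  have h := coeffIn_brauer_sub hM hD hb hB hdb hind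
  rw [coeffIn_localIdeal_iff] at h
  have h1 := h x
  rw [MonoidAlgebra.coeff_sub, Finsupp.sub_apply, coeff_brauer, if_pos hx, coeff_blockElt,
    coeff_blockElt] at h1
  exact h1

end Induced

end Cfsg.Agent.Lib.Blocks.FirstMain2
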