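import Mathlib
import Cfsg.Prelude.Def_Blocks
import Cfsg.Agent.Lib.Blocks.PrincipalCen
import Cfsg.Agent.Lib.Blocks.FirstMain2
import Cfsg.Agent.Lib.Blocks.DefectSupport
import Cfsg.Agent.S0908

/-!
# Blocks of centralizers of `p`-elements

* `blockDefect_le_of_isInducedBlock`: the defect of an induced block is at least the original defect.
* `coeffIn_brauer_sub_inducers`: the Brauer image of a block idempotent is, modulo the local ideal, the sum of the
  idempotents of the blocks of `C_G(y)` inducing it.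
* `exists_block_of_coeff`: a coefficient of a block idempotent on `C_G(y)` is seen by a block of `C_G(y)` inducing it.
-/

set_option autoImplicit false

namespace Cfsg.Agent.Lib.Blocks.CenBlocks

open Cfsg Cfsg.Agent.Lib.Blocks.Local Cfsg.Agent.Lib.Blocks.Central Cfsg.Agent.Lib.Blocks.Osima
  Cfsg.Agent.Lib.Blocks.Sections Cfsg.Agent.Lib.Blocks.SecondMain Cfsg.Agent.Lib.Blocks.BrauerMap
  Cfsg.Agent.Lib.Blocks.Induced Cfsg.Agent.Lib.Blocks.FirstMain2 Cfsg.Agent.Lib.Blocks.Twisted
open scoped ComplexConjugate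

universe u

section Finsets

variable {X : Type u} [Group X] [Fintype X] {M : Ideal AlgInt} [hMp : M.IsPrime]

/-- A coefficient of the idempotent of a union of blocks is seen by a block in the union. -/
theorem exists_block_of_closed {A : Set (IrrCharacter X)} (hA : ∀ χ ∈ A, blockOf M (χ : X → ℂ) ⊆ A) {x : X}
    (hx : ¬ MemLocalIdeal M (blockCoeff A x)) : ∃ χ ∈ A, ¬ MemLocalIdeal M (blockCoeff (blockOf M (χ : X → ℂ)) x) := by
  classical
  have key : ∀ s : Finset (IrrCharacter X), ¬ MemLocalIdeal M (blockCoeff (⋃ χ ∈ s, blockOf M (χ : X → ℂ)) x) →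
      ∃ χ ∈ s, ¬ MemLocalIdeal M (blockCoeff (blockOf M (χ : X → ℂ)) x) := by
    intro s
    induction s using Finset.induction_on with
    | empty =>
      intro h
      exfalso
      apply h
      simp only [Finset.notMem_empty, Set.iUnion_of_empty, Set.iUnion_empty]
      rw [← coeff_blockElt, Cfsg.Agent.Lib.Blocks.Sections.blockElt_empty]
      simpa using memLocalIdeal_zero
    | insert a s ha ih =>
      intro h
      rw [Finset.set_biUnion_insert] at h
      by_cases hdis : Disjoint (blockOf M (a : X → ℂ)) (⋃ χ ∈ s, blockOf M (χ : X → ℂ))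
      · have h1 := Cfsg.Agent.Lib.Blocks.Sections.blockElt_union (blockOf M (a : X → ℂ))
          (⋃ χ ∈ s, blockOf M (χ : X → ℂ))
        rw [blockElt_mul, Set.disjoint_iff_inter_eq_empty.mp hdis, Cfsg.Agent.Lib.Blocks.Sections.blockElt_empty,
          sub_zero] at h1
        have h2 := congrArg (fun u => u.coeff x) h1
        simp only [MonoidAlgebra.coeff_add, Finsupp.add_apply, coeff_blockElt] at h2
        rw [h2] at h
        by_cases h5 : MemLocalIdeal M (blockCoeff (blockOf M (a : X → ℂ)) x)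
        · have h6 : ¬ MemLocalIdeal M (blockCoeff (⋃ χ ∈ s, blockOf M (χ : X → ℂ)) x) := fun h6 =>
            h (memLocalIdeal_add h5 h6)
          obtain ⟨χ, hχ, hχ'⟩ := ih h6
          exact ⟨χ, Finset.mem_insert_of_mem hχ, hχ'⟩
        · exact ⟨a, Finset.mem_insert_self a s, h5⟩
      · rw [Set.not_disjoint_iff] at hdis
        obtain ⟨ψ, hψa, hψs⟩ := hdis
        simp only [Set.mem_iUnion, exists_prop] at hψs
        obtain ⟨τ, hτ, hψτ⟩ := hψs
        have h7 : blockOf M (a : X → ℂ) = blockOf M (τ : X → ℂ) := by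
          rw [← blockOf_eq_of_mem hψa, ← blockOf_eq_of_mem hψτ]
        have h8 : blockOf M (a : X → ℂ) ∪ (⋃ χ ∈ s, blockOf M (χ : X → ℂ)) = ⋃ χ ∈ s, blockOf M (χ : X → ℂ) := by
          apply Set.union_eq_right.mpr
          rw [h7]
          exact Set.subset_biUnion_of_mem (u := fun χ : IrrCharacter X => blockOf M (χ : X → ℂ)) (by exact_mod_cast hτ)
        rw [h8] at h
        obtain ⟨χ, hχ, hχ'⟩ := ih h
        exact ⟨χ, Finset.mem_insert_of_mem hχ, hχ'⟩
  have h2 : A = ⋃ χ ∈ Finset.univ.filter (· ∈ A), blockOf M (χ : X → ℂ) := by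
    ext ψ
    simp only [Set.mem_iUnion, Finset.mem_filter, Finset.mem_univ, true_and, exists_prop]
    constructor
    · intro hψ
      exact ⟨ψ, hψ, mem_blockOf_self ψ⟩
    · rintro ⟨χ, hχ, hψ⟩
      exact hA χ hχ hψ
  rw [h2] at hx
  obtain ⟨χ, hχ, hχ'⟩ := key _ hx
  exact ⟨χ, (Finset.mem_filter.mp hχ).2, hχ'⟩

end Finsets

section Defect

variable {G : Type u} [Group G] [Fintype G] {M : Ideal AlgInt} [hMp : M.IsPrime] {p : ℕ} [hp : Fact p.Prime]

/-- The defect does not decrease under block induction. -/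
theorem blockDefect_le_of_isInducedBlock (hM : IsPModular p M) (H : Subgroup G) {b : Set (IrrCharacter H)}
    {B : Set (IrrCharacter G)} (hind : IsInducedBlock M H b B) : blockDefect p b ≤ blockDefect p B := by
  classical
  haveI : Fintype H := Fintype.ofFinite H
  obtain ⟨g, hg⟩ := exists_isDefectClass (M := M) hind.1
  obtain ⟨S⟩ : Nonempty (Sylow p (Subgroup.centralizer ({g} : Set H))) := inferInstance
  have hD : IsDefectGroup p M b ((S : Subgroup (Subgroup.centralizer ({g} : Set H))).map
    (Subgroup.centralizer ({g} : Set H)).subtype) := ⟨g, hg, S, rfl⟩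
  obtain ⟨E, hE, hle⟩ := induced_block_defect_group_le hM H b hind.1 B hind.2.1 hind _ hD
  have h1 := Cfsg.Agent.S0908.result p M hM b hind.1 _ hD
  have h2 := Cfsg.Agent.S0908.result p M hM B hind.2.1 E hE
  have h3 := Subgroup.card_le_of_le hle
  rw [h2, Subgroup.card_map_of_injective H.subtype_injective, h1] at h3
  exact (Nat.pow_le_pow_iff_right hp.out.one_lt).mp h3

/-- Facts about the centralizer of a `p`-element. -/
lemma cen_facts (y : G) :
    (∀ g, g ∈ Subgroup.centralizer ((Subgroup.zpowers y : Subgroup G) : Set G) ↔ g ∈ Cen y) ∧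
    Subgroup.zpowers y ≤ Cen y ∧ Cen y ≤ Subgroup.normalizer ((Subgroup.zpowers y : Subgroup G) : Set G) := by
  have hmem : ∀ {g : G}, g ∈ Cen y ↔ Commute g y := by
    intro g
    rw [Subgroup.mem_centralizer_iff]
    constructor
    · intro h
      exact (h y rfl).symm
    · intro h u hu
      rw [Set.mem_singleton_iff.mp hu]
      exact h.symm
  have hCz : ∀ g, g ∈ Subgroup.centralizer ((Subgroup.zpowers y : Subgroup G) : Set G) ↔ g ∈ Cen y := by
    intro g
    rw [Subgroup.mem_centralizer_iff]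
    constructor
    · intro h
      exact hmem.mpr (h y (Subgroup.mem_zpowers y)).symm
    · intro h u hu
      obtain ⟨n, rfl⟩ := hu
      exact ((hmem.mp h).zpow_right n).symm
  have hPH : Subgroup.zpowers y ≤ Cen y := by
    intro u hu
    obtain ⟨n, rfl⟩ := hu
    exact hmem.mpr ((Commute.refl y).zpow_left n)
  have hcomm : ∀ g ∈ Cen y, ∀ u ∈ Subgroup.zpowers y, g * u * g⁻¹ = u := by
    intro g hg u hu
    obtain ⟨n, rfl⟩ := hu
    have : Commute g (y ^ n) := (hmem.mp hg).zpow_right n
    rw [this.eq]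
    simp
  refine ⟨hCz, hPH, ?_⟩
  intro g hg
  rw [Subgroup.mem_normalizer_iff]
  intro u
  constructor
  · intro hu
    have hu' : u ∈ Subgroup.zpowers y := hu
    show g * u * g⁻¹ ∈ Subgroup.zpowers y
    rw [hcomm g hg u hu']
    exact hu'
  · intro hu
    have hu' : g * u * g⁻¹ ∈ Subgroup.zpowers y := hu
    have h1 := hcomm g⁻¹ (Subgroup.inv_mem _ hg) _ hu'
    have h2 : g⁻¹ * (g * u * g⁻¹) * g⁻¹⁻¹ = u := by group
    rw [h2] at h1
    show u ∈ Subgroup.zpowers y
    rw [h1]
    exact hu'

/-- The Brauer image of a block idempotent for `⟨y⟩` is congruent to the sum of the block idempotents of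
the blocks of `C_G(y)` which induce it. -/
theorem coeffIn_brauer_sub_inducers (hM : IsPModular p M) {y : G} {k : ℕ} (hy : orderOf y = p ^ k) [Fintype (Cen y)]
    (χ₀ : IrrCharacter G) :
    CoeffIn (localIdeal M) (brauer (Subgroup.zpowers y) (Cen y) (blockElt (blockOf M (χ₀ : G → ℂ))) -
      blockElt (inducers (Cen y) M (χ₀ : G → ℂ))) := by
  classical
  obtain ⟨hCz, hPH, hHN⟩ := cen_facts y
  have hP : IsPGroup p (Subgroup.zpowers y) := by
    rw [IsPGroup.iff_card, Nat.card_zpowers]
    exact ⟨k, hy⟩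
  have hCH : Subgroup.centralizer ((Subgroup.zpowers y : Subgroup G) : Set G) ≤ Cen y := fun g hg => (hCz g).mp hg
  have hel : blockElt (blockOf M (χ₀ : G → ℂ)) ∈ localCenter G M := blockElt_mem_localCenter ⟨χ₀, rfl⟩
  refine coeffIn_sub_of_omega (brauer_mem_localCenter hHN hel)
    (blockElt_mem_localCenter_of_closed (inducers_closed (Cen y) _)) ?_ (blockElt_mul_self _) ?_
  · rw [coeffIn_localIdeal_iff]
    intro h
    have := brauer_mul_sub_coeff hM hP hCH hel hel h
    rwa [blockElt_mul_self] at this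
  · intro ξ
    obtain ⟨χ₁, hχ₁⟩ := exists_inducer hM hy ξ
    have h1 := Cfsg.Agent.Lib.Blocks.BrauerCoeff.brauer_of_isInducedBlock hM hP hPH hHN hχ₁ ⟨_, hel⟩
    simp only at h1
    by_cases hξ : ξ ∈ inducers (Cen y) M (χ₀ : G → ℂ)
    · rw [omega_blockElt_of_mem hξ]
      have hsame : χ₁ ∈ blockOf M (χ₀ : G → ℂ) := by
        intro g
        have := memLocalIdeal_sub (hχ₁ g) (hξ g)
        convert this using 1
        ring
      rwa [omega_blockElt_of_mem hsame] at h1
    · rw [omega_blockElt_of_notMem hξ]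
      have hsame : χ₁ ∉ blockOf M (χ₀ : G → ℂ) := by
        intro hmem
        apply hξ
        rw [inducers_congr (Cen y) hmem]
        exact hχ₁
      rwa [omega_blockElt_of_notMem hsame] at h1

/-- Coefficients of block idempotents on `C_G(y)`. -/
theorem memLocalIdeal_blockCoeff_sub_inducers (hM : IsPModular p M) {y : G} {k : ℕ} (hy : orderOf y = p ^ k)
    [Fintype (Cen y)] (χ₀ : IrrCharacter G) (h : Cen y) :
    MemLocalIdeal M (blockCoeff (blockOf M (χ₀ : G → ℂ)) (h : G) -
      blockCoeff (inducers (Cen y) M (χ₀ : G → ℂ)) h) := by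
  classical
  have h1 := (coeffIn_localIdeal_iff.mp (coeffIn_brauer_sub_inducers hM hy χ₀)) h
  rw [MonoidAlgebra.coeff_sub, Finsupp.sub_apply, coeff_brauer, if_pos ((cen_facts y).1 _ |>.mpr h.2),
    coeff_blockElt, coeff_blockElt] at h1
  exact h1

/-- If a `p`-element `y` is central in a `p`-subgroup, it has a central element of order `p`. -/
lemma exists_central_order_p {D : Subgroup G} (hD : IsPGroup p D) (hne : Nat.card D ≠ 1) :
    ∃ y ∈ D, orderOf y = p ∧ ∀ z ∈ D, Commute z y := by
  classical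
  haveI : Nontrivial D := by
    rw [← Finite.one_lt_card_iff_nontrivial]
    have : Nat.card D ≠ 0 := Nat.card_pos.ne'
    omega
  haveI : Nontrivial (Subgroup.center D) := hD.center_nontrivial
  have hdvd : p ∣ Nat.card (Subgroup.center D) := by
    have hp' : IsPGroup p (Subgroup.center D) := IsPGroup.to_subgroup hD _
    obtain ⟨n, hn⟩ := IsPGroup.iff_card.mp hp'
    have h1 : 1 < Nat.card (Subgroup.center D) := Finite.one_lt_card
    rw [hn] at h1 ⊢
    rcases n with _ | n
    · simp at h1
    · exact dvd_pow_self p (by omega)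
  obtain ⟨z, hz⟩ := exists_prime_orderOf_dvd_card' p hdvd
  refine ⟨(z : D), (z : D).2, ?_, ?_⟩
  · rw [Subgroup.orderOf_coe, Subgroup.orderOf_coe]
    exact hz
  · intro u hu
    have := (Subgroup.mem_center_iff.mp z.2) ⟨u, hu⟩
    have h2 := congrArg Subtype.val this
    exact h2

end Defect

end Cfsg.Agent.Lib.Blocks.CenBlocks
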