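import Mathlib
import Cfsg.Agent.Lib.Blocks.Covering

/-!
# Covering: class sums and Passman's criterion
-/

set_option autoImplicit false

namespace Cfsg.Agent.Lib.Blocks.Covering2

open Cfsg Cfsg.Agent.Lib.Blocks.Local Cfsg.Agent.Lib.Blocks.Central Cfsg.Agent.Lib.Blocks.Osima
  Cfsg.Agent.Lib.Blocks.Covering Cfsg.Agent.Lib.Blocks.Induced
open scoped ComplexConjugate

universe u

variable {G : Type u} [Group G] [Fintype G] {N : Subgroup G} [hN : N.Normal] [Fintype N]

lemma res_sum {ι : Type*} (s : Finset ι) (f : ι → MonoidAlgebra ℂ G) :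
    res N (∑ i ∈ s, f i) = ∑ i ∈ s, res N (f i) := by
  classical
  induction s using Finset.induction_on with
  | empty =>
    ext n
    simp
  | insert a s ha ih => rw [Finset.sum_insert ha, Finset.sum_insert ha, res_add, ih]

lemma res_classSum (g : G) : res N (classSum g) = traceClassSum N g := by
  classical
  ext n
  rw [coeff_res]
  simp only [classSum, traceClassSum, coeff_ofFun]
  by_cases h : IsConj g (n : G) <;> simp [h]

/-- The class sum of an element of `N` is supported on `N`. -/
lemma classSum_eq_push_traceClassSum (n : N) :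
    classSum (n : G) = push N (traceClassSum N (n : G)) := by
  classical
  rw [← res_classSum, push_res]
  intro x hx
  rw [coeff_classSum_of_not_isConj]
  intro h
  obtain ⟨c, rfl⟩ := isConj_iff.1 h
  exact hx (hN.conj_mem _ n.2 c)

lemma isClassFunction_push_traceClassSum (n : N) :
    IsClassFunction G (push N (traceClassSum N (n : G))).coeff := by
  rw [← classSum_eq_push_traceClassSum]
  exact isClassFunction_classSum _

/-- The central character of `χ` at `n ∈ N` is the induced central character of any constituent. -/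
theorem centralChar_eq_inducedCentralChar {χ : G → ℂ} (hχ : IsIrrCharacter G χ) {θ : N → ℂ}
    (hθ : IsIrrCharacter N θ) (hcon : classInner (fun n : N => χ n) θ ≠ 0) (n : N) :
    centralChar χ n = inducedCentralChar N θ n := by
  rw [inducedCentralChar_eq_omega, ← omega_push_eq_of_constituent hχ hθ hcon
    (isClassFunction_push_traceClassSum n), ← classSum_eq_push_traceClassSum,
    omega_classSum (isClassFunction_of_irr hχ)]

/-- A central element of `ℂ[G]` supported on `N`, as a combination of induced central characters. -/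
theorem omega_eq_sum_inducedCentralChar (θ : N → ℂ) {f : MonoidAlgebra ℂ N}
    (hf : IsClassFunction G (push N f).coeff) :
    omega θ f = ∑ K : ConjClasses G, (push N f).coeff K.out * inducedCentralChar N θ K.out := by
  classical
  conv_lhs => rw [← res_push N f, eq_sum_classSum hf, res_sum]
  rw [omega_sum]
  refine Finset.sum_congr rfl fun K _ => ?_
  rw [res_smul, omega_smul, res_classSum, inducedCentralChar_eq_omega]

variable {M : Ideal AlgInt} [hM : M.IsPrime]

/-- The `G`-orbit of a block of `N` is a union of blocks. -/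
lemma blockOf_subset_conjOrbit {b : Set (IrrCharacter N)} (hb : IsPBlock M b) :
    ∀ θ ∈ conjOrbit (G := G) b, blockOf M (θ : N → ℂ) ⊆ conjOrbit (G := G) b := by
  rintro _ ⟨g, θ₂, h₂, rfl⟩ ψ₁ hψ₁
  refine ⟨g, conjIrr g⁻¹ ψ₁, ?_, ?_⟩
  · obtain ⟨θ₃, rfl⟩ := hb
    have h3 := sameBlock_conjIrr g⁻¹ hψ₁
    rw [conjIrr_conjIrr, mul_inv_cancel, conjIrr_one] at h3
    exact sameBlock_trans h₂ h3
  · rw [conjIrr_conjIrr, inv_mul_cancel, conjIrr_one]

lemma blockElt_conjOrbit_mem_localCenter {b : Set (IrrCharacter N)} (hb : IsPBlock M b) :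
    blockElt (conjOrbit (G := G) b) ∈ localCenter N M :=
  blockElt_mem_localCenter_of_union (blockOf_subset_conjOrbit hb)

/-- **Passman's criterion**, backward direction, in elementary form. -/
theorem exists_constituent_of_congr {χ : IrrCharacter G} {b : Set (IrrCharacter N)}
    (hb : IsPBlock M b) {θ : IrrCharacter N} (hθ : θ ∈ b)
    (h : ∀ n : N, MemLocalIdeal M (centralChar (χ : G → ℂ) (n : G) -
      inducedCentralChar N (θ : N → ℂ) (n : G))) :
    ∃ θ' ∈ b, classInner (fun n : N => (χ : G → ℂ) n) (θ' : N → ℂ) ≠ 0 := by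
  classical
  set A := conjOrbit (G := G) b with hA
  have hloc : blockElt A ∈ localCenter N M := blockElt_conjOrbit_mem_localCenter hb
  have hstable : IsConjStable (G := G) A := isConjStable_conjOrbit _
  have hcl : IsClassFunction G (push N (blockElt A)).coeff := isClassFunction_pushBlock hstable
  have h1 := omega_eq_sum_centralChar (isClassFunction_of_irr χ.2) hcl
  have h2 := omega_eq_sum_inducedCentralChar (θ : N → ℂ) hcl
  have h3 : MemLocalIdeal M (omega (χ : G → ℂ) (push N (blockElt A)) -
      omega (θ : N → ℂ) (blockElt A)) := by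
    rw [h1, h2, ← Finset.sum_sub_distrib]
    refine memLocalIdeal_sum _ _ fun K _ => ?_
    rw [← mul_sub]
    by_cases hK : K.out ∈ N
    · refine memLocalIdeal_mul_left ?_ (h ⟨K.out, hK⟩)
      have := coeff_push_coe N (blockElt A) ⟨K.out, hK⟩
      simp only at this
      rw [this]
      exact hloc.2 _
    · rw [coeff_push_of_notMem N _ hK, zero_mul]
      exact memLocalIdeal_zero
  have h4 : omega (θ : N → ℂ) (blockElt A) = 1 := omega_blockElt_of_mem (subset_conjOrbit _ hθ)
  obtain ⟨ψ₀, hψ₀⟩ := exists_constituent (N := N) χ.2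
  by_cases hmem : ψ₀ ∈ A
  · obtain ⟨g, θ₁, hθ₁, rfl⟩ := hmem
    refine ⟨θ₁, hθ₁, ?_⟩
    rwa [classInner_conjIrr (isClassFunction_of_irr χ.2)] at hψ₀
  · exfalso
    have h5 : omega (χ : G → ℂ) (push N (blockElt A)) = 0 :=
      omega_pushBlock_of_notMem hstable χ.2 hψ₀ hmem
    rw [h5, h4, zero_sub] at h3
    exact not_memLocalIdeal_one (by simpa using memLocalIdeal_neg h3)

end Cfsg.Agent.Lib.Blocks.Covering2
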