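import Mathlib
import Cfsg.Prelude.Def_Blocks
import Cfsg.Agent.Lib.Blocks.PrincipalCen
import Cfsg.Agent.Lib.Blocks.RegInt

/-!
# Column orthogonality in the principal block for `p`-elements

* `sum_principal_of_not_isConj`: for non conjugate `p`-elements the principal block column product vanishes.
* `sum_principal_self`: for a `p`-element `y` the principal block column norm is the sum of the squares of the degrees
  of the principal block of `C_G(y)`.
* `sum_orbit_extendByZero`: the orbit sum of a function on `P` under a subgroup of its normalizer.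
-/

set_option autoImplicit false

namespace Cfsg.Agent.Lib.Blocks.PrincipalColumn

open Cfsg Cfsg.Agent.Lib.Blocks.Local Cfsg.Agent.Lib.Blocks.Central Cfsg.Agent.Lib.Blocks.Osima
  Cfsg.Agent.Lib.Blocks.Sections Cfsg.Agent.Lib.Blocks.Principal Cfsg.Agent.Lib.Blocks.PrincipalCen
open scoped ComplexConjugate

universe u

variable {G : Type u} [Group G] [Fintype G] {M : Ideal AlgInt} [hMp : M.IsPrime] {p : ℕ} [hp : Fact p.Prime]

lemma isPPart_self {x : G} {k : ℕ} (hx : orderOf x = p ^ k) : IsPPart p x x := by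
  refine ⟨1, mul_one x, Commute.one_right x, ⟨k, hx⟩, ?_⟩
  rw [orderOf_one]
  exact hp.out.one_lt.ne' ∘ Nat.dvd_one.mp

open Classical in
theorem sum_principal_of_not_isConj (hM : IsPModular p M) {y z : G} {j k : ℕ} (hy : orderOf y = p ^ j)
    (hz : orderOf z = p ^ k) (hnc : ¬ IsConj z y) :
    ∑ χ ∈ Finset.univ.filter (· ∈ principalBlock M G), (χ : G → ℂ) z * conj ((χ : G → ℂ) y) = 0 := by
  have h := block_orthogonality hM (isPPart_self hz) (isPPart_self hy) hnc (isPBlock_principalBlock M)
  rw [Osima.finsum_mem_eq_sum_filter] at h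
  rw [← h]
  refine Finset.sum_congr rfl fun χ _ => ?_
  rw [Cfsg.Agent.Lib.Char.Complete.isIrr_inv χ.2]

open Classical in
theorem sum_principal_self (hM : IsPModular p M) {y : G} {k : ℕ} (hy : orderOf y = p ^ k) [Fintype (Cen y)] :
    ∑ χ ∈ Finset.univ.filter (· ∈ principalBlock M G), (χ : G → ℂ) y * conj ((χ : G → ℂ) y) =
      ∑ ψ ∈ Finset.univ.filter (· ∈ principalBlock M (Cen y)), ((charDegree (ψ : Cen y → ℂ) : ℕ) : ℂ) ^ 2 := by
  have h := sum_principal_eq hM hy (1 : Cen y) (by
    rw [orderOf_one]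
    exact hp.out.one_lt.ne' ∘ Nat.dvd_one.mp)
  simp only [OneMemClass.coe_one, mul_one] at h
  rw [h]
  refine Finset.sum_congr rfl fun ψ _ => ?_
  rw [Cfsg.Agent.Lib.Blocks.RegInt.charDegree_cast, Cfsg.Agent.Lib.Char.CompleteCor.conj_apply_one ψ.2, sq]

open Classical in
/-- The sum over `N` of the conjugates of an element `y` of `P`. -/
theorem sum_orbit_extendByZero (P N : Subgroup G) (hNN : N ≤ Subgroup.normalizer (P : Set G)) (y : P) (η : P → ℂ)
    [Fintype P] [Fintype N] :
    ∑ x : N, extendByZero P η ((x : G) * (y : G) * (x : G)⁻¹) =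
      (Nat.card ↥(N ⊓ Subgroup.centralizer ({(y : G)} : Set G)) : ℂ) *
        ∑ z ∈ Finset.univ.filter (fun z : P => ∃ n ∈ N, n * (y : G) * n⁻¹ = (z : G)), η z := by
  have hmem : ∀ x : N, (x : G) * (y : G) * (x : G)⁻¹ ∈ P := fun x =>
    (Subgroup.mem_normalizer_iff.mp (hNN x.2) (y : G)).mp y.2
  let φ : N → P := fun x => ⟨(x : G) * (y : G) * (x : G)⁻¹, hmem x⟩
  have h1 : ∀ x : N, extendByZero P η ((x : G) * (y : G) * (x : G)⁻¹) = η (φ x) := fun x =>
    Subtype.val_injective.extend_apply η 0 (φ x)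
  simp only [h1]
  have hcard : ∀ n : N, (Finset.univ.filter (fun x : N => φ x = φ n)).card =
      Nat.card ↥(N ⊓ Subgroup.centralizer ({(y : G)} : Set G)) := by
    intro n
    rw [← Fintype.card_subtype, ← Nat.card_eq_fintype_card]
    refine Nat.card_congr ?_
    have hiff : ∀ x : N, φ x = φ n ↔ (n : G)⁻¹ * x ∈ Subgroup.centralizer ({(y : G)} : Set G) := by
      intro x
      rw [Subgroup.mem_centralizer_iff, Subtype.ext_iff]
      simp only [φ, Set.mem_singleton_iff, forall_eq]
      constructor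
      · intro h
        have : (x : G) * (y : G) = (n : G) * (y : G) * (n : G)⁻¹ * x := by
          rw [← h]; group
        rw [mul_assoc, this]
        group
      · intro h
        have h2 : (x : G) * (y : G) * (x : G)⁻¹ = n * ((y : G) * ((n : G)⁻¹ * x)) * (x : G)⁻¹ := by
          rw [h]; group
        rw [h2]
        group
    exact {
      toFun := fun x => ⟨(n : G)⁻¹ * x.1, Subgroup.mul_mem _ (Subgroup.inv_mem _ n.2) x.1.2, (hiff x.1).mp x.2⟩
      invFun := fun c => ⟨⟨n * c.1, Subgroup.mul_mem _ n.2 c.2.1⟩, (hiff _).mpr (by simpa using c.2.2)⟩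
      left_inv := fun x => by
        apply Subtype.ext
        apply Subtype.ext
        simp
      right_inv := fun c => by
        apply Subtype.ext
        simp }
  have h2 : ∑ x : N, η (φ x) = ∑ z : P, ∑ x ∈ Finset.univ.filter (fun x : N => φ x = z), η (φ x) :=
    (Finset.sum_fiberwise _ _ _).symm
  rw [h2, Finset.mul_sum, Finset.sum_filter]
  refine Finset.sum_congr rfl fun z _ => ?_
  split_ifs with hz
  · obtain ⟨n, hn, hz⟩ := hz
    have hz' : z = φ ⟨n, hn⟩ := Subtype.ext hz.symm
    rw [hz', ← hcard ⟨n, hn⟩, Finset.sum_congr rfl (g := fun _ => η (φ ⟨n, hn⟩))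
      (fun x hx => by rw [(Finset.mem_filter.mp hx).2]), Finset.sum_const, nsmul_eq_mul]
  · refine Finset.sum_eq_zero fun x hx => ?_
    exact absurd ⟨x, x.2, congrArg Subtype.val (Finset.mem_filter.mp hx).2⟩ hz

end Cfsg.Agent.Lib.Blocks.PrincipalColumn
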