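import Mathlib
import Cfsg.Prelude.Def_Blocks
import Cfsg.Agent.Lib.Blocks.DihA
import Cfsg.Agent.Lib.Blocks.PrincipalColumn
import Cfsg.Agent.Lib.Char.Klein4

/-!
# Groups with dihedral Sylow 2-subgroups: orthogonality on the rotation subgroup in the principal block
-/

set_option autoImplicit false

namespace Cfsg.Agent.Lib.Blocks.DihS

open Cfsg Cfsg.Agent.Lib.Blocks.Sections Cfsg.Agent.Lib.Blocks.Principal
  Cfsg.Agent.Lib.Blocks.PrincipalCen Cfsg.Agent.Lib.Blocks.PrincipalColumn Cfsg.Agent.Lib.Blocks.Local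
  Cfsg.Agent.Lib.Blocks.Central
open scoped ComplexConjugate

universe u

variable {G : Type u} [Group G] [Fintype G] {k : ℕ} {P : Sylow 2 G} {σ : G} {M : Ideal AlgInt}

open Classical in
/-- The principal block as a finite set. -/
noncomputable abbrev TB (M : Ideal AlgInt) (G : Type u) [Group G] [Fintype G] : Finset (IrrCharacter G) :=
  Finset.univ.filter (· ∈ principalBlock M G)

namespace DSig

variable (h : DSig G k P σ)
include h

theorem isConj_inv {a : G} (ha : a ∈ Subgroup.zpowers σ) : IsConj a a⁻¹ := by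
  obtain ⟨τ, -, hτ, -, -⟩ := h.exists_tau
  obtain ⟨z, rfl⟩ := ha
  rw [isConj_iff]
  refine ⟨τ, ?_⟩
  show τ * σ ^ z * τ⁻¹ = (σ ^ z)⁻¹
  rw [← conj_zpow, hτ, inv_zpow]

/-- Characters are real on `⟨σ⟩`. -/
theorem conj_apply {a : G} (ha : a ∈ Subgroup.zpowers σ) (χ : IrrCharacter G) :
    conj ((χ : G → ℂ) a) = (χ : G → ℂ) a := by
  rw [← Cfsg.Agent.Lib.Char.Complete.isIrr_inv χ.2]
  exact (Cfsg.Agent.Lib.Char.CompleteCor.irr_apply_of_isConj (h.isConj_inv ha) χ).symm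

theorem apply_inv {a : G} (ha : a ∈ Subgroup.zpowers σ) (χ : IrrCharacter G) :
    (χ : G → ℂ) a⁻¹ = (χ : G → ℂ) a :=
  (Cfsg.Agent.Lib.Char.CompleteCor.irr_apply_of_isConj (h.isConj_inv ha) χ).symm

theorem sum_off (hM : IsPModular 2 M) {a b : G} (ha : a ∈ Subgroup.zpowers σ) (hb : b ∈ Subgroup.zpowers σ)
    (hb1 : b ≠ 1) (hne : a ≠ b) (hne' : a ≠ b⁻¹) :
    ∑ χ ∈ TB M G, (χ : G → ℂ) a * (χ : G → ℂ) b = 0 := by
  classical
  haveI : Fact (Nat.Prime 2) := ⟨by norm_num⟩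
  haveI hMp : M.IsPrime := isPrime_of_isPModular hM
  obtain ⟨i, hi⟩ := h.order_of_mem ha
  obtain ⟨j, hj⟩ := h.order_of_mem hb
  have hnc : ¬ IsConj a b := by
    intro hc
    have hc' := hc.symm
    rw [isConj_iff] at hc'
    obtain ⟨g, hg⟩ := hc'
    rcases h.fusion hb ha hb1 hg with h1 | h1
    · exact hne h1
    · exact hne' h1
  have h1 := sum_principal_of_not_isConj hM hj hi hnc
  rw [← h1]
  refine Finset.sum_congr rfl fun χ _ => ?_
  rw [h.conj_apply hb]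

/-- The norm of a column of an element `a` with `a² ≠ 1`. -/
theorem sum_diag (hM : IsPModular 2 M) {a : G} (ha : a ∈ Subgroup.zpowers σ) (haa : a * a ≠ 1) :
    ∑ χ ∈ TB M G, (χ : G → ℂ) a * (χ : G → ℂ) a = ((2 ^ k : ℕ) : ℂ) := by
  classical
  haveI : Fact (Nat.Prime 2) := ⟨by norm_num⟩
  haveI hMp : M.IsPrime := isPrime_of_isPModular hM
  letI : Fintype (Cen a) := Fintype.ofFinite _
  obtain ⟨i, hi⟩ := h.order_of_mem ha
  have hone : ¬ 2 ∣ orderOf (1 : Cen a) := by simp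
  have h1 := sum_principal_eq hM hi (1 : Cen a) hone
  have h2 := sum_principal_eq_index (G := Cen a) (M := M) (p := 2) hM (h.index_core_of_sq_ne_one ha haa) hone
  simp only [Subgroup.coe_one, mul_one] at h1
  rw [← h2, ← h1]
  refine Finset.sum_congr rfl fun χ _ => ?_
  rw [h.conj_apply ha]

/-- The norm of the column of `J`. -/
theorem sum_diag_J (hM : IsPModular 2 M) :
    ∑ χ ∈ TB M G, (χ : G → ℂ) (σ ^ 2 ^ (k - 1)) * (χ : G → ℂ) (σ ^ 2 ^ (k - 1)) = ((2 ^ (k + 1) : ℕ) : ℂ) := by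
  classical
  haveI : Fact (Nat.Prime 2) := ⟨by norm_num⟩
  haveI hMp : M.IsPrime := isPrime_of_isPModular hM
  letI : Fintype (Cen (σ ^ 2 ^ (k - 1))) := Fintype.ofFinite _
  have hi : orderOf (σ ^ 2 ^ (k - 1)) = 2 ^ 1 := by
    rw [h.orderOf_J]
    norm_num
  have hone : ¬ 2 ∣ orderOf (1 : Cen (σ ^ 2 ^ (k - 1))) := by simp
  have h1 := sum_principal_eq hM hi (1 : Cen (σ ^ 2 ^ (k - 1))) hone
  have h2 := sum_principal_eq_index (G := Cen (σ ^ 2 ^ (k - 1))) (M := M) (p := 2) hM h.index_core_J hone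
  simp only [Subgroup.coe_one, mul_one] at h1
  rw [← h2, ← h1]
  refine Finset.sum_congr rfl fun χ _ => ?_
  rw [h.conj_apply h.J_mem]

/-- Orthogonality of an odd element against a nontrivial element of `⟨σ⟩`. -/
theorem sum_odd (hM : IsPModular 2 M) {ρ a : G} (hρ : Odd (orderOf ρ)) (ha : a ∈ Subgroup.zpowers σ) (ha1 : a ≠ 1) :
    ∑ χ ∈ TB M G, (χ : G → ℂ) ρ * (χ : G → ℂ) a = 0 := by
  classical
  haveI : Fact (Nat.Prime 2) := ⟨by norm_num⟩
  haveI hMp : M.IsPrime := isPrime_of_isPModular hM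
  obtain ⟨i, hi⟩ := h.order_of_mem ha
  have hρ' : IsPPart 2 ρ 1 :=
    ⟨ρ, one_mul ρ, Commute.one_left ρ, ⟨0, by simp⟩, by
      intro h2
      obtain ⟨m, hm⟩ := hρ
      omega⟩
  have hnc : ¬ IsConj (1 : G) a := by
    intro h1
    exact ha1 (isConj_one_right.mp h1)
  have h1 := block_orthogonality hM hρ' (isPPart_self hi) hnc (isPBlock_principalBlock M)
  rw [Cfsg.Agent.Lib.Blocks.Osima.finsum_mem_eq_sum_filter] at h1
  rw [← h1]
  refine Finset.sum_congr rfl fun χ _ => ?_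
  rw [h.apply_inv ha]

/-- Principal block characters do not vanish at `J`. -/
theorem J_ne_zero (hM : IsPModular 2 M) {χ : IrrCharacter G} (hχ : χ ∈ principalBlock M G) :
    (χ : G → ℂ) (σ ^ 2 ^ (k - 1)) ≠ 0 := by
  haveI : Fact (Nat.Prime 2) := ⟨by norm_num⟩
  intro h0
  have h1 : MemLocalIdeal M (centralChar (fun _ : G => (1 : ℂ)) (σ ^ 2 ^ (k - 1)) -
      centralChar (χ : G → ℂ) (σ ^ 2 ^ (k - 1))) := hχ _
  rw [centralChar_trivChar, centralChar, h0, mul_zero, zero_div, sub_zero,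
    memLocalIdeal_natCast_iff hM] at h1
  exact P.not_dvd_index (h1.trans (Subgroup.index_dvd_of_le h.P_le_Cen_J))

omit [Fintype G] h in
lemma pow_mem_A (l : ℕ) : σ ^ l ∈ Subgroup.zpowers σ := Subgroup.pow_mem _ (Subgroup.mem_zpowers σ) l

theorem pow_ne_one {l : ℕ} (h0 : 0 < l) (hl : l < 2 ^ k) : σ ^ l ≠ 1 :=
  pow_ne_one_of_lt_orderOf h0.ne' (by rw [h.hσo]; exact hl)

theorem two_mul_half : 2 ^ k = 2 * 2 ^ (k - 1) := by
  have hk := h.hk
  rw [← pow_succ']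
  congr 1
  omega

theorem pow_inj {l l' : ℕ} (hl : l < 2 ^ k) (hl' : l' < 2 ^ k) (he : σ ^ l = σ ^ l') : l = l' := by
  have h1 : Set.InjOn (fun n => σ ^ n) (Set.Iio (orderOf σ)) := pow_injOn_Iio_orderOf
  apply h1 _ _ he
  · rw [h.hσo]
    exact hl
  · rw [h.hσo]
    exact hl'

theorem pow_flip {l : ℕ} (hl : l ≤ 2 ^ k) : σ ^ (2 ^ k - l) = (σ ^ l)⁻¹ := by
  rw [eq_inv_iff_mul_eq_one, ← pow_add, Nat.sub_add_cancel hl, ← h.hσo]
  exact pow_orderOf_eq_one σ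

theorem flip_apply {l : ℕ} (hl : l ≤ 2 ^ k) (χ : IrrCharacter G) :
    (χ : G → ℂ) (σ ^ (2 ^ k - l)) = (χ : G → ℂ) (σ ^ l) := by
  rw [h.pow_flip hl, h.apply_inv (pow_mem_A l)]

theorem sq_pow_ne_one {l : ℕ} (h0 : 0 < l) (hl : l < 2 ^ k) (hn : l ≠ 2 ^ (k - 1)) : σ ^ l * σ ^ l ≠ 1 := by
  intro h1
  rw [← pow_add] at h1
  have h2 := orderOf_dvd_of_pow_eq_one h1
  rw [h.hσo] at h2
  have h3 := h.two_mul_half
  obtain ⟨c, hc⟩ := h2
  have hc1 : c = 1 := by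
    rcases c with _ | _ | c
    · omega
    · rfl
    · exfalso
      have : 2 ^ k * (c + 1 + 1) = 2 ^ k * c + 2 * 2 ^ k := by ring
      rw [this] at hc
      have : 0 ≤ 2 ^ k * c := Nat.zero_le _
      omega
  rw [hc1] at hc
  omega

/-- Orthogonality on the exponents. -/
theorem ortho (hM : IsPModular 2 M) {l l' : ℕ} (h0 : 0 < l) (hl : l < 2 ^ k) (h0' : 0 < l') (hl' : l' < 2 ^ k) :
    ∑ χ ∈ TB M G, (χ : G → ℂ) (σ ^ l') * (χ : G → ℂ) (σ ^ l) =
      ((2 ^ k : ℕ) : ℂ) * ((if l' = l then 1 else 0) + (if l' = 2 ^ k - l then 1 else 0)) := by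
  have h2 := h.two_mul_half
  by_cases e1 : l' = l
  · subst e1
    by_cases e2 : l' = 2 ^ k - l'
    · rw [if_pos rfl, if_pos e2]
      have e3 : l' = 2 ^ (k - 1) := by omega
      rw [e3, h.sum_diag_J hM, pow_succ]
      push_cast
      ring
    · rw [if_pos rfl, if_neg e2, add_zero, mul_one]
      exact h.sum_diag hM (pow_mem_A _) (h.sq_pow_ne_one h0 hl (by omega))
  · rw [if_neg e1, zero_add]
    by_cases e2 : l' = 2 ^ k - l
    · rw [if_pos e2, mul_one]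
      have : ∀ χ : IrrCharacter G, (χ : G → ℂ) (σ ^ l') = (χ : G → ℂ) (σ ^ l) := fun χ => by
        rw [e2]
        exact h.flip_apply hl.le χ
      simp only [this]
      exact h.sum_diag hM (pow_mem_A _) (h.sq_pow_ne_one h0 hl (by omega))
    · rw [if_neg e2, mul_zero]
      apply h.sum_off hM (pow_mem_A _) (pow_mem_A _) (h.pow_ne_one h0 hl)
      · exact fun he => e1 (h.pow_inj hl' hl he)
      · rw [← h.pow_flip hl.le]
        exact fun he => e2 (h.pow_inj hl' (by omega) he)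

/-- The weighted sum over the exponents. -/
theorem sum_g (hM : IsPModular 2 M) (g : ℕ → ℂ) (hg : g 0 = 0) {l : ℕ} (h0 : 0 < l) (hl : l < 2 ^ k) :
    ∑ l' ∈ Finset.range (2 ^ k), g l' * ∑ χ ∈ TB M G, (χ : G → ℂ) (σ ^ l') * (χ : G → ℂ) (σ ^ l) =
      ((2 ^ k : ℕ) : ℂ) * (g l + g (2 ^ k - l)) := by
  have h1 : ∀ l' ∈ Finset.range (2 ^ k), g l' * ∑ χ ∈ TB M G, (χ : G → ℂ) (σ ^ l') * (χ : G → ℂ) (σ ^ l) =
      ((2 ^ k : ℕ) : ℂ) * (g l' * (if l' = l then 1 else 0) + g l' * (if l' = 2 ^ k - l then 1 else 0)) := by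
    intro l' hl'
    rcases Nat.eq_zero_or_pos l' with rfl | hp
    · rw [hg]
      simp
    · rw [h.ortho hM h0 hl hp (Finset.mem_range.mp hl')]
      ring
  rw [Finset.sum_congr rfl h1, ← Finset.mul_sum, Finset.sum_add_distrib]
  congr 2
  · simp only [mul_ite, mul_one, mul_zero]
    rw [Finset.sum_ite_eq' (Finset.range (2 ^ k)) l g, if_pos (Finset.mem_range.mpr hl)]
  · simp only [mul_ite, mul_one, mul_zero]
    rw [Finset.sum_ite_eq' (Finset.range (2 ^ k)) (2 ^ k - l) g, if_pos (Finset.mem_range.mpr (by omega))]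

end DSig

end Cfsg.Agent.Lib.Blocks.DihS
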