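import Mathlib
import Cfsg.Prelude.Def_Blocks
import Cfsg.Agent.Lib.Blocks.DihB
import Cfsg.Agent.Lib.Char.LinearChars

/-!
# Groups with dihedral Sylow 2-subgroups: the multiplicities `c κ χ`

For `χ` an irreducible character, `c κ χ` is the multiplicity of `μ^κ - 1` in the restriction of `χ` to `⟨σ⟩`,
`μ` the faithful linear character `σ ↦ ζ`.  Block orthogonality determines the inner products of the
vectors `c κ`, `κ = 1, …, 2^(k-1)`, over the principal block.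
-/

set_option autoImplicit false

namespace Cfsg.Agent.Lib.Blocks.DihS

open Cfsg Cfsg.Agent.Lib.Blocks.Sections Cfsg.Agent.Lib.Blocks.Principal
open scoped ComplexConjugate

universe u

section Roots

variable {ζ : ℂ} {N : ℕ}

lemma geom_mul (hζ : IsPrimitiveRoot ζ N) (t : ℕ) :
    ∑ l ∈ Finset.range N, ζ ^ (t * l) = if N ∣ t then (N : ℂ) else 0 := by
  split_ifs with h
  · obtain ⟨c, rfl⟩ := h
    have h1 : ∀ l, ζ ^ (N * c * l) = 1 := fun l => by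
      rw [mul_assoc, pow_mul, hζ.pow_eq_one, one_pow]
    simp [h1]
  · have h1 : ζ ^ t ≠ 1 := fun h1 => h ((hζ.pow_eq_one_iff_dvd t).mp h1)
    have h2 : (ζ ^ t - 1) * ∑ l ∈ Finset.range N, (ζ ^ t) ^ l = (ζ ^ t) ^ N - 1 := mul_geom_sum _ _
    have h3 : (ζ ^ t) ^ N = 1 := by
      rw [← pow_mul, mul_comm, pow_mul, hζ.pow_eq_one, one_pow]
    rw [h3, sub_self] at h2
    have h4 := (mul_eq_zero.mp h2).resolve_left (sub_ne_zero.mpr h1)
    simp only [← pow_mul] at h4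
    exact h4

lemma root_ne_zero (hζ : IsPrimitiveRoot ζ N) (hN : 0 < N) : ζ ≠ 0 := hζ.ne_zero hN.ne'

/-- The flipped exponents. -/
lemma pow_flip_eq (hζ : IsPrimitiveRoot ζ N) (hN : 0 < N) {a b : ℕ} (ha : a ≤ N) (hb : b ≤ N) :
    ζ ^ (a * (N - b)) = ζ ^ ((N - a) * b) := by
  have h0 := hζ.ne_zero hN.ne'
  have h1 : ζ ^ (a * (N - b)) * ζ ^ (a * b) = 1 := by
    rw [← pow_add, ← mul_add, Nat.sub_add_cancel hb, mul_comm, pow_mul, hζ.pow_eq_one, one_pow]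
  have h2 : ζ ^ ((N - a) * b) * ζ ^ (a * b) = 1 := by
    rw [← pow_add, ← add_mul, Nat.sub_add_cancel ha, pow_mul, hζ.pow_eq_one, one_pow]
  exact mul_right_cancel₀ (pow_ne_zero _ h0) (h1.trans h2.symm)

lemma pow_half {k : ℕ} (hk : 1 ≤ k) (hζ : IsPrimitiveRoot ζ (2 ^ k)) : ζ ^ 2 ^ (k - 1) = -1 := by
  have h1 : (ζ ^ 2 ^ (k - 1)) ^ 2 = 1 := by
    rw [← pow_mul, ← pow_succ, show k - 1 + 1 = k by omega]
    exact hζ.pow_eq_one
  have h1' : ζ ^ 2 ^ (k - 1) * ζ ^ 2 ^ (k - 1) = 1 := by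
    rw [← pow_two]
    exact h1
  rcases mul_self_eq_one_iff.mp h1' with h2 | h2
  · exfalso
    have := (hζ.pow_eq_one_iff_dvd _).mp h2
    have h3 := Nat.le_of_dvd (by positivity) this
    have h4 : (2 : ℕ) ^ k = 2 * 2 ^ (k - 1) := by
      rw [← pow_succ']
      congr 1
      omega
    have h5 : (0 : ℕ) < 2 ^ (k - 1) := by positivity
    omega
  · exact h2

/-- Reflecting the summation range. -/
lemma sum_flip (K : ℕ) (f f' : ℕ → ℂ) (h0 : f 0 = 0) (h0' : f' 0 = 0)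
    (hf : ∀ l, 0 < l → l ≤ K → f' l = f (K + 1 - l)) :
    ∑ l ∈ Finset.range (K + 1), f l = ∑ l ∈ Finset.range (K + 1), f' l := by
  rw [Finset.sum_range_succ', Finset.sum_range_succ', h0, h0', add_zero, add_zero]
  rw [← Finset.sum_range_reflect]
  refine Finset.sum_congr rfl fun i hi => ?_
  have hi' := Finset.mem_range.mp hi
  rw [hf (i + 1) (by omega) (by omega)]
  congr 1
  omega

/-- Splitting the sum over `κ < 2 (m + 1)`. -/
lemma sum_split_range (m : ℕ) (f : ℕ → ℂ) :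
    ∑ κ ∈ Finset.range (2 * (m + 1)), f κ =
      f 0 + ∑ i ∈ Finset.range m, (f (i + 1) + f (2 * (m + 1) - (i + 1))) + f (m + 1) := by
  rw [two_mul, Finset.sum_range_add, Finset.sum_range_succ', Finset.sum_range_succ']
  rw [Finset.sum_add_distrib]
  have h1 : ∑ i ∈ Finset.range m, f (m + 1 + (i + 1)) = ∑ i ∈ Finset.range m, f (m + 1 + (m + 1) - (i + 1)) := by
    rw [← Finset.sum_range_reflect]
    refine Finset.sum_congr rfl fun i hi => ?_
    have hi' := Finset.mem_range.mp hi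
    congr 1
    omega
  rw [h1]
  simp only [add_zero]
  ring

end Roots

section Coeff

variable {G : Type u} [Group G] [Fintype G] {k : ℕ} {P : Sylow 2 G} {σ : G} {M : Ideal AlgInt} {ζ : ℂ}

theorem two_pow_ne_zero (k : ℕ) : ((2 ^ k : ℕ) : ℂ) ≠ 0 :=
  Nat.cast_ne_zero.mpr (by positivity)

/-- The multiplicity of `μ^κ - 1` in the restriction of `χ` to `⟨σ⟩`. -/
noncomputable def cc (σ : G) (ζ : ℂ) (N κ : ℕ) (χ : IrrCharacter G) : ℂ :=
  (N : ℂ)⁻¹ * ∑ l ∈ Finset.range N, (ζ ^ (κ * l) - 1) * (χ : G → ℂ) (σ ^ l)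

namespace DSig

variable (h : DSig G k P σ) (hζ : IsPrimitiveRoot ζ (2 ^ k))
include h hζ

/-- The values of `cc` on the principal character. -/
theorem cc_triv {κ : ℕ} (hκ : ¬ 2 ^ k ∣ κ) : cc σ ζ (2 ^ k) κ (trivChar G) = -1 := by
  have hne := two_pow_ne_zero k
  unfold cc
  simp only [coe_trivChar, mul_one]
  rw [Finset.sum_sub_distrib, geom_mul hζ, if_neg hκ]
  simp only [Finset.sum_const, Finset.card_range, nsmul_eq_mul, mul_one, zero_sub]
  rw [mul_neg, inv_mul_cancel₀ hne]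

/-- Orthogonality against odd elements. -/
theorem sum_cc_odd (hM : IsPModular 2 M) (κ : ℕ) {ρ : G} (hρ : Odd (orderOf ρ)) :
    ∑ χ ∈ TB M G, cc σ ζ (2 ^ k) κ χ * (χ : G → ℂ) ρ = 0 := by
  unfold cc
  have h1 : ∀ χ : IrrCharacter G, ((2 ^ k : ℕ) : ℂ)⁻¹ * (∑ l ∈ Finset.range (2 ^ k), (ζ ^ (κ * l) - 1) * (χ : G → ℂ) (σ ^ l)) *
      (χ : G → ℂ) ρ = ((2 ^ k : ℕ) : ℂ)⁻¹ * ∑ l ∈ Finset.range (2 ^ k), (ζ ^ (κ * l) - 1) *
        ((χ : G → ℂ) ρ * (χ : G → ℂ) (σ ^ l)) := by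
    intro χ
    rw [mul_assoc, Finset.sum_mul]
    congr 1
    refine Finset.sum_congr rfl fun l _ => ?_
    ring
  simp only [h1]
  rw [← Finset.mul_sum, Finset.sum_comm]
  simp only [← Finset.mul_sum]
  rw [Finset.sum_eq_zero, mul_zero]
  intro l hl
  rcases Nat.eq_zero_or_pos l with rfl | hp
  · simp
  · rw [h.sum_odd hM hρ (pow_mem_A l) (h.pow_ne_one hp (Finset.mem_range.mp hl)), mul_zero]

/-- The inner products of the vectors `cc κ` on the principal block. -/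
theorem sum_cc_mul (hM : IsPModular 2 M) {κ κ' : ℕ} (hκ' : κ' ≤ 2 ^ k) :
    ∑ χ ∈ TB M G, cc σ ζ (2 ^ k) κ χ * cc σ ζ (2 ^ k) κ' χ =
      ((2 ^ k : ℕ) : ℂ)⁻¹ * ∑ l ∈ Finset.range (2 ^ k), (ζ ^ (κ * l) - 1) *
        (ζ ^ (κ' * l) + ζ ^ ((2 ^ k - κ') * l) - 2) := by
  have hne := two_pow_ne_zero k
  set N := 2 ^ k with hN
  have hNpos : 0 < N := by positivity
  unfold cc
  -- expand
  have h1 : ∀ χ : IrrCharacter G, ((N : ℕ) : ℂ)⁻¹ * (∑ l ∈ Finset.range N, (ζ ^ (κ * l) - 1) * (χ : G → ℂ) (σ ^ l)) *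
      (((N : ℕ) : ℂ)⁻¹ * ∑ l' ∈ Finset.range N, (ζ ^ (κ' * l') - 1) * (χ : G → ℂ) (σ ^ l')) =
      ((N : ℕ) : ℂ)⁻¹ * ((N : ℕ) : ℂ)⁻¹ * ∑ l ∈ Finset.range N, (ζ ^ (κ * l) - 1) *
        ∑ l' ∈ Finset.range N, (ζ ^ (κ' * l') - 1) * ((χ : G → ℂ) (σ ^ l') * (χ : G → ℂ) (σ ^ l)) := by
    intro χ
    rw [mul_mul_mul_comm, Finset.sum_mul_sum]
    congr 1
    refine Finset.sum_congr rfl fun l _ => ?_
    rw [Finset.mul_sum]
    refine Finset.sum_congr rfl fun l' _ => ?_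
    ring
  simp only [h1]
  rw [← Finset.mul_sum, Finset.sum_comm]
  simp only [← Finset.mul_sum]
  have h2 : ∀ l ∈ Finset.range N, (ζ ^ (κ * l) - 1) * ∑ χ ∈ TB M G, ∑ l' ∈ Finset.range N,
      (ζ ^ (κ' * l') - 1) * ((χ : G → ℂ) (σ ^ l') * (χ : G → ℂ) (σ ^ l)) =
      ((N : ℕ) : ℂ) * ((ζ ^ (κ * l) - 1) * (ζ ^ (κ' * l) + ζ ^ ((N - κ') * l) - 2)) := by
    intro l hl
    rcases Nat.eq_zero_or_pos l with rfl | hp
    · simp
    · rw [Finset.sum_comm]
      simp only [← Finset.mul_sum]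
      rw [h.sum_g hM (fun l' => ζ ^ (κ' * l') - 1) (by simp) hp (Finset.mem_range.mp hl)]
      rw [pow_flip_eq hζ hNpos hκ' (Finset.mem_range.mp hl).le]
      ring
  rw [Finset.sum_congr rfl h2, ← Finset.mul_sum, ← mul_assoc, mul_assoc _ _ ((N : ℕ) : ℂ),
    inv_mul_cancel₀ hne, mul_one]

/-- The Gram matrix, computed. -/
theorem gram (hM : IsPModular 2 M) {κ κ' : ℕ} (h1 : 1 ≤ κ) (h2 : κ ≤ 2 ^ (k - 1)) (h1' : 1 ≤ κ') (h2' : κ' ≤ 2 ^ (k - 1)) :
    ∑ χ ∈ TB M G, cc σ ζ (2 ^ k) κ χ * cc σ ζ (2 ^ k) κ' χ =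
      2 + (if κ = κ' then 1 else 0) + (if κ = 2 ^ (k - 1) ∧ κ' = 2 ^ (k - 1) then 1 else 0) := by
  have hne := two_pow_ne_zero k
  have hmul := h.two_mul_half
  have hle : κ' ≤ 2 ^ k := by omega
  rw [h.sum_cc_mul hζ hM hle]
  set N := 2 ^ k with hN
  have hpos : 0 < 2 ^ (k - 1) := by positivity
  have hexp : ∀ l, (ζ ^ (κ * l) - 1) * (ζ ^ (κ' * l) + ζ ^ ((N - κ') * l) - 2) =
      ζ ^ ((κ + κ') * l) + ζ ^ ((κ + (N - κ')) * l) - 2 * ζ ^ (κ * l) - ζ ^ (κ' * l) - ζ ^ ((N - κ') * l) + 2 := by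
    intro l
    rw [add_mul, add_mul, pow_add, pow_add]
    ring
  simp only [hexp]
  rw [Finset.sum_add_distrib, Finset.sum_sub_distrib, Finset.sum_sub_distrib, Finset.sum_sub_distrib,
    Finset.sum_add_distrib, ← Finset.mul_sum, geom_mul hζ, geom_mul hζ, geom_mul hζ, geom_mul hζ, geom_mul hζ]
  have hd1 : ¬ N ∣ κ := fun hd => by
    have := Nat.le_of_dvd (by omega) hd
    omega
  have hd2 : ¬ N ∣ κ' := fun hd => by
    have := Nat.le_of_dvd (by omega) hd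
    omega
  have hd3 : ¬ N ∣ N - κ' := fun hd => by
    have := Nat.le_of_dvd (by omega) hd
    omega
  have hd4 : N ∣ κ + κ' ↔ (κ = 2 ^ (k - 1) ∧ κ' = 2 ^ (k - 1)) := by
    constructor
    · intro hd
      have := Nat.le_of_dvd (by omega) hd
      omega
    · rintro ⟨e1, e2⟩
      rw [e1, e2, hmul]
      exact ⟨1, by ring⟩
  have hd5 : N ∣ κ + (N - κ') ↔ κ = κ' := by
    constructor
    · intro hd
      obtain ⟨c, hc⟩ := hd
      have hc1 : c = 1 := by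
        rcases c with _ | _ | c
        · omega
        · rfl
        · exfalso
          have : N * (c + 1 + 1) = N * c + 2 * N := by ring
          rw [this] at hc
          have : 0 ≤ N * c := Nat.zero_le _
          omega
      rw [hc1] at hc
      omega
    · intro e
      rw [e]
      exact ⟨1, by omega⟩
  rw [if_neg hd1, if_neg hd2, if_neg hd3]
  simp only [hd4, hd5, Finset.sum_const, Finset.card_range, nsmul_eq_mul, mul_zero, sub_zero]
  field_simp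
  split_ifs <;> ring

theorem cc_zero (χ : IrrCharacter G) : cc σ ζ (2 ^ k) 0 χ = 0 := by
  unfold cc
  simp

/-- Fourier inversion on `⟨σ⟩`. -/
theorem fourier {l : ℕ} (h0 : 0 < l) (hl : l < 2 ^ k) (χ : IrrCharacter G) :
    (χ : G → ℂ) (σ ^ l) = ∑ κ ∈ Finset.range (2 ^ k), ζ ^ (κ * l) * cc σ ζ (2 ^ k) κ χ := by
  have hne := two_pow_ne_zero k
  set N := 2 ^ k with hN
  unfold cc
  have h1 : ∀ κ, ζ ^ (κ * l) * (((N : ℕ) : ℂ)⁻¹ * ∑ l' ∈ Finset.range N, (ζ ^ (κ * l') - 1) * (χ : G → ℂ) (σ ^ l')) =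
      ((N : ℕ) : ℂ)⁻¹ * ∑ l' ∈ Finset.range N, (ζ ^ ((l + l') * κ) - ζ ^ (l * κ)) * (χ : G → ℂ) (σ ^ l') := by
    intro κ
    rw [mul_left_comm, Finset.mul_sum]
    congr 1
    refine Finset.sum_congr rfl fun l' _ => ?_
    rw [add_mul, pow_add, mul_comm l κ, mul_comm l' κ]
    ring
  simp only [h1]
  rw [← Finset.mul_sum, Finset.sum_comm]
  simp only [← Finset.sum_mul]
  have hdl : ¬ N ∣ l := fun hd => by
    have := Nat.le_of_dvd h0 hd
    omega
  have h2 : ∀ l' ∈ Finset.range N, (∑ κ ∈ Finset.range N, (ζ ^ ((l + l') * κ) - ζ ^ (l * κ))) * (χ : G → ℂ) (σ ^ l') =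
      if l' = N - l then ((N : ℕ) : ℂ) * (χ : G → ℂ) (σ ^ l) else 0 := by
    intro l' hl'
    have hl'' := Finset.mem_range.mp hl'
    rw [Finset.sum_sub_distrib, geom_mul hζ, geom_mul hζ, if_neg hdl, sub_zero]
    by_cases e : l' = N - l
    · rw [if_pos e, if_pos (by rw [e, Nat.add_sub_cancel' hl.le]), e]
      rw [hN, h.flip_apply hl.le χ]
    · rw [if_neg e, if_neg, zero_mul]
      intro hd
      obtain ⟨c, hc⟩ := hd
      have hc1 : c = 1 := by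
        rcases c with _ | _ | c
        · omega
        · rfl
        · exfalso
          have : N * (c + 1 + 1) = N * c + 2 * N := by ring
          rw [this] at hc
          have : 0 ≤ N * c := Nat.zero_le _
          omega
      rw [hc1] at hc
      omega
  rw [Finset.sum_congr rfl h2, Finset.sum_ite_eq' (Finset.range N) (N - l), if_pos (Finset.mem_range.mpr (by omega)),
    ← mul_assoc, inv_mul_cancel₀ hne, one_mul]

/-- Symmetry of the multiplicities. -/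
theorem cc_flip {κ : ℕ} (hκ : κ ≤ 2 ^ k) (χ : IrrCharacter G) :
    cc σ ζ (2 ^ k) (2 ^ k - κ) χ = cc σ ζ (2 ^ k) κ χ := by
  unfold cc
  congr 1
  have hNpos : 0 < 2 ^ k := by positivity
  obtain ⟨K, hK⟩ : ∃ K, 2 ^ k = K + 1 := ⟨2 ^ k - 1, by omega⟩
  rw [show Finset.range (2 ^ k) = Finset.range (K + 1) by rw [hK]]
  apply sum_flip K
  · simp
  · simp
  · intro l h0 hl
    have hl' : l < 2 ^ k := by omega
    rw [← hK, h.flip_apply hl'.le, pow_flip_eq hζ hNpos (by omega : 2 ^ k - κ ≤ 2 ^ k) hl'.le,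
      Nat.sub_sub_self hκ]

theorem pow_mul_inv {a l : ℕ} (ha : a ≤ 2 ^ k) : ζ ^ ((2 ^ k - a) * l) = (ζ ^ (a * l))⁻¹ := by
  have hNpos : 0 < 2 ^ k := by positivity
  apply eq_inv_of_mul_eq_one_left
  rw [← pow_add, ← add_mul, Nat.sub_add_cancel ha, pow_mul, hζ.pow_eq_one, one_pow]

/-- The value of a character in terms of the multiplicities. -/
theorem value_formula {m : ℕ} (hm : 2 ^ (k - 1) = m + 1) {l : ℕ} (h0 : 0 < l) (hl : l < 2 ^ k) (χ : IrrCharacter G) :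
    (χ : G → ℂ) (σ ^ l) = ∑ i ∈ Finset.range m, cc σ ζ (2 ^ k) (i + 1) χ * (ζ ^ ((i + 1) * l) + (ζ ^ ((i + 1) * l))⁻¹) +
      cc σ ζ (2 ^ k) (2 ^ (k - 1)) χ * (-1) ^ l := by
  have hmul := h.two_mul_half
  have hN : 2 ^ k = 2 * (m + 1) := by rw [hmul, hm]
  rw [h.fourier hζ h0 hl, hN, sum_split_range, ← hN, h.cc_zero hζ, mul_zero, zero_add]
  congr 1
  · refine Finset.sum_congr rfl fun i hi => ?_
    have hi' := Finset.mem_range.mp hi
    rw [h.cc_flip hζ (by omega), h.pow_mul_inv hζ (by omega)]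
    ring
  · rw [← hm, pow_mul, pow_half (by have := h.hk; omega) hζ]
    ring

/-- The sum of the characters of `⟨σ⟩`, at a non-identity element. -/
theorem sum_roots {m : ℕ} (hm : 2 ^ (k - 1) = m + 1) {l : ℕ} (h0 : 0 < l) (hl : l < 2 ^ k) :
    1 + ∑ i ∈ Finset.range m, (ζ ^ ((i + 1) * l) + (ζ ^ ((i + 1) * l))⁻¹) + (-1) ^ l = (0 : ℂ) := by
  have hmul := h.two_mul_half
  have hN : 2 ^ k = 2 * (m + 1) := by rw [hmul, hm]
  have hdl : ¬ 2 ^ k ∣ l := fun hd => by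
    have := Nat.le_of_dvd h0 hd
    omega
  have h1 := geom_mul hζ l
  rw [if_neg hdl] at h1
  have h2 : ∑ κ ∈ Finset.range (2 ^ k), ζ ^ (κ * l) = 0 := by
    rw [← h1]
    refine Finset.sum_congr rfl fun κ _ => ?_
    rw [mul_comm]
  rw [hN, sum_split_range, ← hN] at h2
  rw [← h2]
  congr 1
  · congr 1
    · simp
    · refine Finset.sum_congr rfl fun i hi => ?_
      have hi' := Finset.mem_range.mp hi
      rw [h.pow_mul_inv hζ (by omega)]
  · rw [← hm, pow_mul, pow_half (by have := h.hk; omega) hζ]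

/-- The multiplicity of a linear character on `⟨σ⟩`. -/
theorem exists_nat_mult (κ : ℕ) (χ : IrrCharacter G) :
    ∃ n : ℕ, ((2 ^ k : ℕ) : ℂ)⁻¹ * ∑ l ∈ Finset.range (2 ^ k), ζ ^ (κ * l) * (χ : G → ℂ) (σ ^ l) = n := by
  classical
  set A : Subgroup G := Subgroup.zpowers σ with hA
  letI : Fintype A := Fintype.ofFinite _
  have hNpos : 0 < 2 ^ k := by positivity
  have h0 := hζ.ne_zero hNpos.ne'
  set u : ℂˣ := Units.mk0 (ζ ^ κ) (pow_ne_zero _ h0) with hu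
  set s : A := ⟨σ, Subgroup.mem_zpowers σ⟩ with hs
  have hgen : ∀ x : A, x ∈ Subgroup.zpowers s := by
    rintro ⟨_, z, rfl⟩
    exact ⟨z, Subtype.ext (by simp [hs])⟩
  have hso : orderOf s = 2 ^ k := by
    rw [← Subgroup.orderOf_coe]
    exact h.hσo
  have hord : orderOf u ∣ orderOf s := by
    apply orderOf_dvd_of_pow_eq_one
    rw [hso]
    apply Units.ext
    simp only [hu, Units.val_pow_eq_pow_val, Units.val_mk0, Units.val_one]
    rw [← pow_mul, mul_comm, pow_mul, hζ.pow_eq_one, one_pow]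
  set φ : A →* ℂˣ := monoidHomOfForallMemZpowers hgen hord with hφ
  have hφs : φ s = u := monoidHomOfForallMemZpowers_apply_gen hgen hord
  have hφl : ∀ l : ℕ, ((φ ⟨σ ^ l, pow_mem_A l⟩ : ℂˣ) : ℂ) = ζ ^ (κ * l) := by
    intro l
    have h1 : (⟨σ ^ l, pow_mem_A l⟩ : A) = s ^ l := Subtype.ext (by simp [hs])
    rw [h1, map_pow, hφs]
    simp only [hu, Units.val_pow_eq_pow_val, Units.val_mk0]
    rw [pow_mul]
  have hχc := Cfsg.Agent.Lib.Char.Basic.isCharacter_of_isIrrCharacter χ.2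
  obtain ⟨n, hn⟩ := Cfsg.Agent.Lib.Char.Ortho.exists_nat_classInner_of_isCharacter
    (Cfsg.Agent.Lib.Char.Basic.isCharacter_of_isIrrCharacter (Cfsg.Agent.Lib.Char.LinearChars.isIrr_of_hom φ))
    (Cfsg.Agent.Lib.Char.Basic.isCharacter_restrict hχc A)
  refine ⟨n, ?_⟩
  have hcardA : Nat.card A = 2 ^ k := by rw [hA, Nat.card_zpowers, h.hσo]
  rw [← hn, Cfsg.Agent.Lib.Char.Induced.classInner_def, hcardA]
  congr 1
  have hfin : IsOfFinOrder σ := isOfFinOrder_of_finite σ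
  rw [← h.hσo]
  rw [← Equiv.sum_comp (finEquivZPowers hfin)]
  rw [← Fin.sum_univ_eq_sum_range (fun l => ζ ^ (κ * l) * (χ : G → ℂ) (σ ^ l))]
  refine Finset.sum_congr rfl fun l _ => ?_
  rw [finEquivZPowers_apply]
  have h1 := hφl (l : ℕ)
  simp only
  rw [h1]
  congr 1
  exact (h.conj_apply (pow_mem_A _) χ).symm

/-- The multiplicities are integers. -/
theorem cc_int (κ : ℕ) (χ : IrrCharacter G) : ∃ z : ℤ, cc σ ζ (2 ^ k) κ χ = z := by
  obtain ⟨n, hn⟩ := h.exists_nat_mult hζ κ χ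
  obtain ⟨n₀, hn₀⟩ := h.exists_nat_mult hζ 0 χ
  refine ⟨(n : ℤ) - n₀, ?_⟩
  unfold cc
  push_cast
  have h1 : ∀ l, (ζ ^ (κ * l) - 1) * (χ : G → ℂ) (σ ^ l) = ζ ^ (κ * l) * (χ : G → ℂ) (σ ^ l) - (χ : G → ℂ) (σ ^ l) := by
    intro l
    ring
  simp only [h1]
  rw [Finset.sum_sub_distrib, mul_sub, ← hn, ← hn₀]
  simp only [zero_mul, pow_zero, one_mul]
  push_cast
  rfl

end DSig

end Coeff

end Cfsg.Agent.Lib.Blocks.DihS
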