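import Mathlib
import Cfsg.Agent.Lib.Blocks.Covering
import Cfsg.Agent.Lib.Blocks.Covering2
import Cfsg.Agent.Lib.Blocks.Transport
import Cfsg.Agent.Lib.Char.IndRep
import Cfsg.Agent.S0932

/-!
# The Fong-Reynolds correspondence

`N` is a normal subgroup of `G`, `b` a block of `N` and `T` its stabilizer.  The main formula is:
for `ψ` irreducible over `b`, `χ = ψ^G` and `t ∈ T`, `∑_{n ∈ N} e_b(n) χ(n t) = ψ(t)`.
-/

set_option autoImplicit false
set_option linter.unusedSectionVars false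
set_option linter.style.haveILetI false

namespace Cfsg.Agent.Lib.Blocks.FongReynolds

open Cfsg Cfsg.Agent.Lib.Blocks.Local Cfsg.Agent.Lib.Blocks.Central Cfsg.Agent.Lib.Blocks.Osima
  Cfsg.Agent.Lib.Blocks.Covering
open scoped ComplexConjugate

universe u v

section General

variable {H : Type u} [Group H] [Fintype H] {N : Type v} [Group N] [Fintype N]

/-- The block element of a set of characters containing no constituent acts as zero. -/
theorem sum_blockCoeff_mul_eq_zero (ι : N →* H) {ψ : H → ℂ} (hψ : IsCharacter H ψ)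
    (A : Set (IrrCharacter N)) (hA : ∀ θ ∈ A, classInner (fun n => ψ (ι n)) (θ : N → ℂ) = 0) (h : H) :
    ∑ n : N, blockCoeff A n * ψ (ι n * h) = 0 := by
  classical
  obtain ⟨k, ρ, rfl⟩ := hψ
  let ρN : Representation ℂ N (Fin k → ℂ) := ρ.comp ι
  set P : (Fin k → ℂ) →ₗ[ℂ] (Fin k → ℂ) := ρN.asAlgebraHom (blockElt A) with hP
  have hid : IsIdempotentElem P := by
    show P * P = P
    rw [hP, ← map_mul, blockElt_mul_self]
  have htr : LinearMap.trace ℂ (Fin k → ℂ) P = 0 := by
    rw [hP, trace_asAlgebraHom]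
    have h1 : ∑ n : N, (blockElt A).coeff n * ρN.character n =
        ∑ θ ∈ Finset.univ.filter (· ∈ A), (θ : N → ℂ) 1 *
          classInner (fun n => ρ.character (ι n)) (θ : N → ℂ) := by
      simp only [coeff_blockElt, blockCoeff_eq_sum, classInner]
      simp only [Finset.mul_sum, Finset.sum_mul]
      rw [Finset.sum_comm]
      refine Finset.sum_congr rfl fun θ _ => Finset.sum_congr rfl fun n _ => ?_
      have : ρN.character n = ρ.character (ι n) := rfl
      rw [this]
      ring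
    rw [h1]
    exact Finset.sum_eq_zero fun θ hθ => by
      rw [hA θ (Finset.mem_filter.1 hθ).2, mul_zero]
  have hP0 : P = 0 := (LinearMap.IsIdempotentElem.trace_eq_zero_iff hid).1 htr
  have h2 : LinearMap.trace ℂ (Fin k → ℂ) (P * ρ h) = ∑ n : N, blockCoeff A n * ρ.character (ι n * h) := by
    rw [hP, asAlgebraHom_eq_sum, Finset.sum_mul, map_sum]
    refine Finset.sum_congr rfl fun n _ => ?_
    rw [smul_mul_assoc, map_smul, smul_eq_mul, coeff_blockElt]
    congr 1
    show LinearMap.trace ℂ (Fin k → ℂ) (ρ (ι n) * ρ h) = _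
    rw [← map_mul]
    rfl
  rw [← h2, hP0, zero_mul, map_zero]

lemma blockCoeff_add_compl (A : Set (IrrCharacter N)) (n : N) :
    blockCoeff A n + blockCoeff Aᶜ n = (1 : MonoidAlgebra ℂ N).coeff n := by
  classical
  have h : blockElt A + blockElt Aᶜ = 1 := by
    refine eq_of_omega_eq' (isClassFunction_add (isClassFunction_blockElt A)
      (isClassFunction_blockElt _)) isClassFunction_one fun χ => ?_
    rw [omega_add, omega_one χ.2, omega_blockElt, omega_blockElt]
    by_cases hχ : χ ∈ A <;> simp [hχ]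
  have := congrArg (fun z => z.coeff n) h
  simpa using this

/-- The block element of a set of characters containing all constituents acts as the identity. -/
theorem sum_blockCoeff_mul_eq_self (ι : N →* H) {ψ : H → ℂ} (hψ : IsCharacter H ψ)
    (A : Set (IrrCharacter N)) (hA : ∀ θ : IrrCharacter N, θ ∉ A →
      classInner (fun n => ψ (ι n)) (θ : N → ℂ) = 0) (h : H) :
    ∑ n : N, blockCoeff A n * ψ (ι n * h) = ψ h := by
  classical
  have h0 := sum_blockCoeff_mul_eq_zero ι hψ Aᶜ (fun θ hθ => hA θ hθ) h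
  have h1 : ∑ n : N, (blockCoeff A n + blockCoeff Aᶜ n) * ψ (ι n * h) = ψ h := by
    simp only [blockCoeff_add_compl, coeff_one_apply, ite_mul, one_mul, zero_mul]
    rw [Finset.sum_ite_eq' Finset.univ (1 : N)]
    simp
  simp only [add_mul] at h1
  rw [Finset.sum_add_distrib, h0, add_zero] at h1
  exact h1

/-- Behaviour of block coefficients under inversion. -/
lemma conj_blockCoeff_inv (A : Set (IrrCharacter N)) (n : N) :
    conj (blockCoeff A n⁻¹) = blockCoeff A n := by
  classical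
  rw [blockCoeff_eq_sum, blockCoeff_eq_sum, map_mul, map_sum]
  congr 1
  · simp
  · refine Finset.sum_congr rfl fun θ _ => ?_
    obtain ⟨d, hd⟩ := Cfsg.Agent.Lib.Char.Basic.exists_degree_of_isCharacter
      (Cfsg.Agent.Lib.Char.Basic.isCharacter_of_isIrrCharacter θ.2)
    rw [map_mul, hd, Complex.conj_natCast, Complex.conj_conj,
      ← Cfsg.Agent.Lib.Char.Ortho.conj_of_isCharacter
        (Cfsg.Agent.Lib.Char.Basic.isCharacter_of_isIrrCharacter θ.2)]

end General

section Stabilizer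

open Cfsg.Agent.Lib.Char.Induced Cfsg.Agent.Lib.Char.Basic

variable {G : Type u} [Group G] [Fintype G] {N : Subgroup G} [hN : N.Normal] [Fintype N]
  {b : Set (IrrCharacter N)} {T : Subgroup G} [Fintype T]

/-- `T` is the stabilizer of `b`. -/
def IsStabilizer (b : Set (IrrCharacter N)) (T : Subgroup G) : Prop :=
  ∀ g : G, g ∈ T ↔ ∀ θ ∈ b, conjIrr g θ ∈ b

/-- All constituents of the restriction of `ψ` to `N` lie in `b`. -/
def AllIn (hNT : N ≤ T) (b : Set (IrrCharacter N)) (ψ : T → ℂ) : Prop :=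
  ∀ θ : IrrCharacter N, θ ∉ b → classInner (fun n : N => ψ (Subgroup.inclusion hNT n)) (θ : N → ℂ) = 0

lemma isStabilizer_of_forall (hT : ∀ g : G, g ∈ T ↔ ∀ θ ∈ b, ∀ θ' : IrrCharacter N,
    (∀ n : N, (θ' : N → ℂ) n = (θ : N → ℂ) ⟨g * n * g⁻¹, hN.conj_mem n n.2 g⟩) → θ' ∈ b) :
    IsStabilizer b T := by
  intro g
  rw [hT]
  constructor
  · intro h θ hθ
    exact h θ hθ _ (conjIrr_apply g θ)
  · intro h θ hθ θ' hθ'
    have : θ' = conjIrr g θ := Subtype.ext (funext fun n => by rw [hθ', conjIrr_apply])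
    rw [this]
    exact h θ hθ

lemma conjIrr_notMem {M : Ideal AlgInt} [M.IsPrime] (hb : IsPBlock M b) (hS : IsStabilizer b T) {x : G}
    (hx : x ∉ T) {θ : IrrCharacter N} (hθ : θ ∈ b) : conjIrr x θ ∉ b := by
  intro h
  apply hx
  rw [hS]
  intro θ' hθ'
  obtain ⟨ξ, rfl⟩ := hb
  have h1 : SameBlock M (θ : N → ℂ) (θ' : N → ℂ) := sameBlock_trans (sameBlock_symm hθ) hθ'
  exact sameBlock_trans h (sameBlock_conjIrr x h1)

omit [Fintype T] in
lemma conjIrr_mem (hS : IsStabilizer b T) {x : G} (hx : x ∈ T) {θ : IrrCharacter N} (hθ : θ ∈ b) :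
    conjIrr x θ ∈ b := (hS x).1 hx θ hθ

/-- Conjugating the argument of a block coefficient conjugates the set of characters. -/
lemma blockCoeff_conj_image (A : Set (IrrCharacter N)) (x : G) (n : N) :
    blockCoeff A ⟨x * n * x⁻¹, hN.conj_mem n n.2 x⟩ = blockCoeff {θ | conjIrr x⁻¹ θ ∈ A} n := by
  classical
  rw [blockCoeff_eq_sum, blockCoeff_eq_sum]
  congr 1
  refine Finset.sum_bij' (fun θ _ => conjIrr x θ) (fun θ _ => conjIrr x⁻¹ θ) ?_ ?_ ?_ ?_ ?_
  · intro θ hθ
    simp only [Finset.mem_filter, Finset.mem_univ, true_and, Set.mem_setOf_eq] at hθ ⊢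
    rwa [conjIrr_conjIrr, mul_inv_cancel, conjIrr_one]
  · intro θ hθ
    simpa only [Finset.mem_filter, Finset.mem_univ, true_and, Set.mem_setOf_eq] using hθ
  · intro θ _
    rw [conjIrr_conjIrr, mul_inv_cancel, conjIrr_one]
  · intro θ _
    rw [conjIrr_conjIrr, inv_mul_cancel, conjIrr_one]
  · intro θ _
    rw [conjIrr_apply_one, conjIrr_apply]

/-- **The main formula**: for `ψ` over `b`, the block element of `b` cuts `ψ` out of `ψ^G`. -/
theorem sum_blockCoeff_indFun {M : Ideal AlgInt} [M.IsPrime] (hb : IsPBlock M b) (hS : IsStabilizer b T)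
    (hNT : N ≤ T) {ψ : T → ℂ} (hψ : IsCharacter T ψ) (hall : AllIn hNT b ψ) (t : T) :
    ∑ n : N, blockCoeff b n * indFun T ψ ((n : G) * t) = ψ t := by
  classical
  have hcl := isClassFunction_of_isCharacter hψ
  have key : ∀ x : G, ∑ n : N, blockCoeff b n * extendByZero T ψ (x⁻¹ * ((n : G) * t) * x) =
      extendByZero T (fun _ => ψ t) x := by
    intro x
    rw [← Equiv.sum_comp (MulAut.conjNormal x).toEquiv]
    have h1 : ∀ n : N, x⁻¹ * ((((MulAut.conjNormal x).toEquiv n : N) : G) * t) * x =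
        (n : G) * (x⁻¹ * t * x) := by
      intro n
      have : (((MulAut.conjNormal x).toEquiv n : N) : G) = x * n * x⁻¹ := by
        simp [MulAut.conjNormal_apply]
      rw [this]
      group
    have h2 : ∀ n : N, blockCoeff b ((MulAut.conjNormal x).toEquiv n) =
        blockCoeff {θ | conjIrr x⁻¹ θ ∈ b} n := by
      intro n
      rw [← blockCoeff_conj_image]
      congr 1
    simp only [h1, h2]
    by_cases hx : x⁻¹ * t * x ∈ T
    · have h3 : ∀ n : N, extendByZero T ψ ((n : G) * (x⁻¹ * t * x)) =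
          ψ (Subgroup.inclusion hNT n * ⟨_, hx⟩) := by
        intro n
        rw [extendByZero_of_mem _ _ (T.mul_mem (hNT n.2) hx)]
        rfl
      simp only [h3]
      by_cases hxT : x ∈ T
      · have hA : {θ : IrrCharacter N | conjIrr x⁻¹ θ ∈ b} = b := by
          ext θ
          constructor
          · intro h
            have := conjIrr_mem hS hxT h
            rwa [conjIrr_conjIrr, inv_mul_cancel, conjIrr_one] at this
          · intro h
            exact conjIrr_mem hS (T.inv_mem hxT) h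
        rw [hA, sum_blockCoeff_mul_eq_self (Subgroup.inclusion hNT) hψ b hall, extendByZero_of_mem _ _ hxT]
        have := hcl t ⟨x, hxT⟩⁻¹
        rw [← this]
        congr 1
        apply Subtype.ext
        simp
      · rw [extendByZero_of_notMem _ _ hxT]
        apply sum_blockCoeff_mul_eq_zero (Subgroup.inclusion hNT) hψ
        intro θ hθ
        apply hall
        intro hθb
        have := conjIrr_notMem hb hS hxT (θ := conjIrr x⁻¹ θ) hθ
        rw [conjIrr_conjIrr, inv_mul_cancel, conjIrr_one] at this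
        exact this hθb
    · have hxT : x ∉ T := fun h => hx (T.mul_mem (T.mul_mem (T.inv_mem h) t.2) h)
      rw [extendByZero_of_notMem _ _ hxT]
      refine Finset.sum_eq_zero fun n _ => ?_
      rw [extendByZero_of_notMem, mul_zero]
      intro h
      apply hx
      have := T.mul_mem (T.inv_mem (hNT n.2)) h
      simpa using this
  have hTc : (Nat.card T : ℂ) ≠ 0 := natCard_ne_zero_complex
  calc ∑ n : N, blockCoeff b n * indFun T ψ ((n : G) * t)
      = (Nat.card T : ℂ)⁻¹ * ∑ x : G, ∑ n : N, blockCoeff b n *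
          extendByZero T ψ (x⁻¹ * ((n : G) * t) * x) := by
        simp only [indFun_apply]
        rw [Finset.sum_comm, Finset.mul_sum]
        refine Finset.sum_congr rfl fun n _ => ?_
        rw [Finset.mul_sum, Finset.mul_sum, Finset.mul_sum]
        refine Finset.sum_congr rfl fun x _ => ?_
        ring
    _ = (Nat.card T : ℂ)⁻¹ * ∑ x : G, extendByZero T (fun _ => ψ t) x := by
        simp only [key]
    _ = ψ t := by
        rw [sum_extendByZero]
        simp only [Finset.sum_const, Finset.card_univ, nsmul_eq_mul, ← Nat.card_eq_fintype_card]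
        rw [← mul_assoc, inv_mul_cancel₀ hTc, one_mul]

/-- `ψ^G` is determined by `ψ`, and conversely. -/
theorem eq_of_indFun_eq {M : Ideal AlgInt} [M.IsPrime] (hb : IsPBlock M b) (hS : IsStabilizer b T)
    (hNT : N ≤ T) {ψ η : T → ℂ} (hψ : IsCharacter T ψ) (hη : IsCharacter T η) (hall : AllIn hNT b ψ)
    (hall' : AllIn hNT b η) (h : indFun T ψ = indFun T η) : ψ = η := by
  funext t
  rw [← sum_blockCoeff_indFun hb hS hNT hψ hall t, ← sum_blockCoeff_indFun hb hS hNT hη hall' t, h]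

/-- The inner product of `ψ^G` with itself. -/
theorem classInner_indFun_self {M : Ideal AlgInt} [M.IsPrime] (hb : IsPBlock M b) (hS : IsStabilizer b T)
    (hNT : N ≤ T) {ψ : T → ℂ} (hψ : IsIrrCharacter T ψ) (hall : AllIn hNT b ψ) :
    classInner (indFun T ψ) (indFun T ψ) = 1 := by
  classical
  have hψc := isCharacter_of_isIrrCharacter hψ
  set χ := indFun T ψ with hχ
  rw [frobenius_reciprocity T ψ χ (indFun_isClassFunction T ψ), classInner_def]
  have hsum : ∑ t : T, ψ t * conj (χ t) = ∑ s : T, ψ s * conj (ψ s) := by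
    have h1 : ∀ t : T, ψ t = ∑ n : N, blockCoeff b n * ψ (Subgroup.inclusion hNT n * t) := fun t =>
      (sum_blockCoeff_mul_eq_self (Subgroup.inclusion hNT) hψc b hall t).symm
    calc ∑ t : T, ψ t * conj (χ t)
        = ∑ t : T, ∑ n : N, blockCoeff b n * ψ (Subgroup.inclusion hNT n * t) * conj (χ t) := by
          refine Finset.sum_congr rfl fun t _ => ?_
          conv_lhs => rw [h1 t]
          rw [Finset.sum_mul]
      _ = ∑ n : N, ∑ t : T, blockCoeff b n * ψ (Subgroup.inclusion hNT n * t) * conj (χ t) :=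
          Finset.sum_comm
      _ = ∑ n : N, ∑ s : T, blockCoeff b n * ψ s *
            conj (χ (((Subgroup.inclusion hNT n)⁻¹ * s : T) : G)) := by
          refine Finset.sum_congr rfl fun n _ => ?_
          rw [← Equiv.sum_comp (Equiv.mulLeft (Subgroup.inclusion hNT n))
            (fun s : T => blockCoeff b n * ψ s * conj (χ (((Subgroup.inclusion hNT n)⁻¹ * s : T) : G)))]
          refine Finset.sum_congr rfl fun t _ => ?_
          simp only [Equiv.coe_mulLeft, inv_mul_cancel_left]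
      _ = ∑ s : T, ∑ n : N, blockCoeff b n * ψ s *
            conj (χ (((Subgroup.inclusion hNT n)⁻¹ * s : T) : G)) :=
          Finset.sum_comm
      _ = ∑ s : T, ψ s * conj (∑ n : N, blockCoeff b n * χ ((n : G) * s)) := by
          refine Finset.sum_congr rfl fun s _ => ?_
          rw [map_sum, Finset.mul_sum, ← Equiv.sum_comp (Equiv.inv N)]
          refine Finset.sum_congr rfl fun n _ => ?_
          have h2 : blockCoeff b ((Equiv.inv N) n) = conj (blockCoeff b n) := by
            rw [← conj_blockCoeff_inv b n, Complex.conj_conj]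
            rfl
          have h3 : (((Subgroup.inclusion hNT ((Equiv.inv N) n))⁻¹ * s : T) : G) = (n : G) * s := by
            simp
          rw [h3, map_mul, h2]
          ring
      _ = ∑ s : T, ψ s * conj (ψ s) := by
          refine Finset.sum_congr rfl fun s _ => ?_
          rw [sum_blockCoeff_indFun hb hS hNT hψc hall s]
  rw [hsum, ← classInner_def]
  exact Cfsg.Agent.Lib.Char.Ortho.classInner_irr_self hψ

section TLevel

open Cfsg.Agent.Lib.Blocks.Transport Cfsg.Agent.Lib.Blocks.Induced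

variable (hNT : N ≤ T) [Fintype (N.subgroupOf T)]

/-- The block `b`, as a set of characters of the subgroup `N.subgroupOf T` of `T`. -/
noncomputable def bT (b : Set (IrrCharacter N)) : Set (IrrCharacter (N.subgroupOf T)) :=
  blockMap (Subgroup.subgroupOfEquivOfLe hNT) b

lemma classInner_res (ψ : T → ℂ) (θ : IrrCharacter N) :
    classInner (fun n : N.subgroupOf T => ψ n)
        (irrComap (Subgroup.subgroupOfEquivOfLe hNT) θ : N.subgroupOf T → ℂ) =
      classInner (fun n : N => ψ (Subgroup.inclusion hNT n)) (θ : N → ℂ) := by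
  simp only [classInner]
  rw [Nat.card_congr (Subgroup.subgroupOfEquivOfLe hNT).toEquiv]
  congr 1
  exact Equiv.sum_comp (Subgroup.subgroupOfEquivOfLe hNT).toEquiv
    (fun n : N => ψ (Subgroup.inclusion hNT n) * conj ((θ : N → ℂ) n))

lemma isConjStable_bT (hS : IsStabilizer b T) : IsConjStable (G := T) (bT hNT b) := by
  intro t θ hθ
  rw [bT, mem_blockMap_iff] at hθ ⊢
  have h1 : irrComap (Subgroup.subgroupOfEquivOfLe hNT).symm (conjIrr t θ) =
      conjIrr (t : G) (irrComap (Subgroup.subgroupOfEquivOfLe hNT).symm θ) := by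
    apply Subtype.ext
    funext n
    rw [coe_irrComap, conjIrr_apply, conjIrr_apply, coe_irrComap]
    congr 1
  rw [h1]
  exact conjIrr_mem hS t.2 hθ

/-- The block idempotent of `b`, viewed in the group algebra of `T`. -/
noncomputable def fT (b : Set (IrrCharacter N)) : MonoidAlgebra ℂ T :=
  pushBlock (G := T) (N := N.subgroupOf T) (bT hNT b)

lemma fT_mem_localCenter {M : Ideal AlgInt} [M.IsPrime] (hb : IsPBlock M b) (hS : IsStabilizer b T) :
    fT hNT b ∈ localCenter T M :=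
  push_mem_localCenter (isClassFunction_pushBlock (isConjStable_bT hNT hS))
    (blockElt_mem_localCenter (isPBlock_blockMap _ hb)).2

lemma sum_fT_mul (F : T → ℂ) : ∑ t : T, (fT hNT b).coeff t * F t =
    ∑ n : N, blockCoeff b n * F (Subgroup.inclusion hNT n) := by
  rw [fT, pushBlock, sum_push_mul]
  simp only [coeff_blockElt, bT, blockCoeff_blockMap]
  exact Equiv.sum_comp (Subgroup.subgroupOfEquivOfLe hNT).toEquiv
    (fun n : N => blockCoeff b n * F (Subgroup.inclusion hNT n))

omit [Fintype (N.subgroupOf T)] in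
/-- If an irreducible character of `T` lies over `b`, then so do all characters in its block, with all
their constituents. -/
theorem allIn_of_sameBlock {M : Ideal AlgInt} [M.IsPrime] (hb : IsPBlock M b) (hS : IsStabilizer b T)
    {ψ η : T → ℂ} (hψ : IsIrrCharacter T ψ) (hη : IsIrrCharacter T η) (h : SameBlock M ψ η)
    {θ : IrrCharacter N} (hθ : θ ∈ b)
    (hcon : classInner (fun n : N => ψ (Subgroup.inclusion hNT n)) (θ : N → ℂ) ≠ 0) :
    AllIn hNT b η := by
  classical
  haveI := Fintype.ofFinite (N.subgroupOf T)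
  intro θ₀ hθ₀
  by_contra hne
  apply hθ₀
  have := mem_of_sameBlock_of_constituent (G := T) (N := N.subgroupOf T) (A := bT hNT b)
    (isConjStable_bT hNT hS) (blockElt_mem_localCenter (isPBlock_blockMap _ hb)).2 hψ hη h
    (θ := irrComap (Subgroup.subgroupOfEquivOfLe hNT) θ) (by rwa [classInner_res])
    (irrComap_mem_blockMap _ hθ) (ψ₀ := irrComap (Subgroup.subgroupOfEquivOfLe hNT) θ₀)
    (by rwa [classInner_res])
  rw [bT, mem_blockMap_iff, irrComap_symm_irrComap] at this
  exact this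

omit [Fintype (N.subgroupOf T)] in
/-- `ψ^G` has a constituent in `b`. -/
theorem exists_constituent_indFun {M : Ideal AlgInt} [M.IsPrime] (hb : IsPBlock M b)
    (hS : IsStabilizer b T) {ψ : T → ℂ} (hψ : IsIrrCharacter T ψ) (hall : AllIn hNT b ψ) :
    ∃ θ ∈ b, classInner (fun n : N => indFun T ψ n) (θ : N → ℂ) ≠ 0 := by
  classical
  by_contra hno
  push Not at hno
  have hψc := isCharacter_of_isIrrCharacter hψ
  have h1 := sum_blockCoeff_mul_eq_zero N.subtype
    (Cfsg.Agent.Lib.Char.IndRep.isCharacter_indFun T hψc) b (fun θ hθ => hno θ hθ) 1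
  have h2 := sum_blockCoeff_indFun hb hS hNT hψc hall 1
  have h3 : ∑ n : N, blockCoeff b n * indFun T ψ ((n : G) * ((1 : T) : G)) = 0 := by
    simpa using h1
  rw [h3] at h2
  exact Cfsg.Agent.Lib.Char.Ortho.irr_apply_one_ne_zero hψ h2.symm

omit [Fintype (N.subgroupOf T)] in
/-- An irreducible character of `G` over `θ ∈ b` is induced from a character of `T` over `θ`. -/
theorem exists_eq_indFun {M : Ideal AlgInt} [M.IsPrime] (hb : IsPBlock M b) (hS : IsStabilizer b T)
    {χ : G → ℂ} (hχ : IsIrrCharacter G χ) {θ : IrrCharacter N} (hθ : θ ∈ b)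
    (hcon : classInner (fun n : N => χ n) (θ : N → ℂ) ≠ 0) :
    ∃ η : IrrCharacter T, classInner (fun n : N => (η : T → ℂ) (Subgroup.inclusion hNT n)) (θ : N → ℂ) ≠ 0 ∧
      χ = indFun T (η : T → ℂ) := by
  classical
  have hχT : IsCharacter T (fun t : T => χ t) :=
    isCharacter_comp_hom (isCharacter_of_isIrrCharacter hχ) T.subtype
  have hdec := Cfsg.Agent.Lib.Char.Ortho.decomp_eq_sum_classInner hχT
  have h1 : (fun n : N => χ n) = ∑ η : IrrCharacter T, classInner (fun t : T => χ t) (η : T → ℂ) •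
      (fun n : N => (η : T → ℂ) (Subgroup.inclusion hNT n)) := by
    funext n
    have := congrFun hdec (Subgroup.inclusion hNT n)
    simpa [Finset.sum_apply, Pi.smul_apply] using this
  rw [h1, Cfsg.Agent.Lib.Char.Ortho.classInner_sum_left] at hcon
  obtain ⟨η, -, hη⟩ := Finset.exists_ne_zero_of_sum_ne_zero hcon
  rw [Cfsg.Agent.Lib.Char.Ortho.classInner_smul_left] at hη
  have hη1 := left_ne_zero_of_mul hη
  have hη2 := right_ne_zero_of_mul hη
  refine ⟨η, hη2, ?_⟩
  have hall := allIn_of_sameBlock hNT hb hS η.2 η.2 (sameBlock_refl (M := M) _) hθ hη2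
  have hirr := Cfsg.Agent.Lib.Char.Ortho.isIrrCharacter_of_classInner_self_eq_one
    (Cfsg.Agent.Lib.Char.IndRep.isCharacter_indFun T (isCharacter_of_isIrrCharacter η.2))
    (classInner_indFun_self hb hS hNT η.2 hall)
  by_contra hne
  have h0 := Cfsg.Agent.Lib.Char.Ortho.classInner_irr_of_ne hirr hχ (fun h => hne h.symm)
  rw [frobenius_reciprocity T _ χ (isClassFunction_of_irr hχ)] at h0
  apply hη1
  rw [← Cfsg.Agent.Lib.Char.Ortho.classInner_conj_symm, h0, map_zero]

/-- Induced central characters of two characters in the same block agree. -/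
theorem memLocalIdeal_inducedCentralChar_sub {M : Ideal AlgInt} [M.IsPrime] {ψ η : T → ℂ}
    (hψ : IsIrrCharacter T ψ) (hη : IsIrrCharacter T η) (h : SameBlock M ψ η) (g : G) :
    MemLocalIdeal M (inducedCentralChar T ψ g - inducedCentralChar T η g) := by
  rw [inducedCentralChar_eq_omega, inducedCentralChar_eq_omega]
  exact memLocalIdeal_omega_sub hψ hη h (traceClassSum_mem_localCenter T g)

/-- The "trace" from `T` to `G` of a central element of the group algebra of `T`. -/
noncomputable def trT (T : Subgroup G) [Fintype T] (z : MonoidAlgebra ℂ T) : MonoidAlgebra ℂ G :=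
  ofFun (indFun T z.coeff)

omit [Fintype (N.subgroupOf T)] in
lemma trT_mem_localCenter {M : Ideal AlgInt} [M.IsPrime] {z : MonoidAlgebra ℂ T}
    (hz : z ∈ localCenter T M) : trT T z ∈ localCenter G M := by
  classical
  haveI := Fintype.ofFinite (G ⧸ T)
  refine ⟨?_, fun g => ?_⟩
  · intro g h
    simp only [trT, coeff_ofFun]
    exact indFun_isClassFunction T _ g h
  · simp only [trT, coeff_ofFun]
    rw [Cfsg.Agent.Lib.Char.IndRep.indFun_eq_sum_quotient T _ hz.1 g, finsum_eq_sum_of_fintype]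
    refine memLocalRing_sum _ _ fun c _ => ?_
    by_cases hc : (Quotient.out c)⁻¹ * g * Quotient.out c ∈ T
    · rw [extendByZero_of_mem _ _ hc]
      exact hz.2 _
    · rw [extendByZero_of_notMem _ _ hc]
      exact memLocalRing_zero

omit [Fintype (N.subgroupOf T)] in
/-- Frobenius reciprocity, in bilinear form. -/
lemma sum_trT_mul (z : MonoidAlgebra ℂ T) {χ : G → ℂ} (hχ : IsClassFunction G χ) :
    ∑ g : G, (trT T z).coeff g * χ g = (T.index : ℂ) * ∑ t : T, z.coeff t * χ t := by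
  classical
  have hcl : IsClassFunction G (fun g => conj (χ g)) := fun g h => by
    simp only
    rw [hχ]
  have h1 := frobenius_reciprocity T z.coeff (fun g => conj (χ g)) hcl
  simp only [classInner_def, Complex.conj_conj] at h1
  have hG : (Nat.card G : ℂ) ≠ 0 := natCard_ne_zero_complex
  have hT : (Nat.card T : ℂ) ≠ 0 := natCard_ne_zero_complex
  have hcard : (Nat.card G : ℂ) = (T.index : ℂ) * Nat.card T := by
    have := Subgroup.index_mul_card T
    exact_mod_cast this.symm
  simp only [trT, coeff_ofFun]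
  rw [inv_mul_eq_div, inv_mul_eq_div, div_eq_div_iff hG hT] at h1
  have hT' : (Nat.card T : ℂ) ≠ 0 := hT
  apply mul_right_cancel₀ hT'
  rw [h1, hcard]
  ring

omit [Fintype (N.subgroupOf T)] in
/-- The value of the central character of `ψ^G` on a trace. -/
theorem omega_trT {M : Ideal AlgInt} [M.IsPrime] (hb : IsPBlock M b) (hS : IsStabilizer b T)
    [Fintype (N.subgroupOf T)] {ψ : T → ℂ}
    (hψ : IsIrrCharacter T ψ) (hall : AllIn hNT b ψ) (h : T) :
    omega (indFun T ψ) (trT T (fT hNT b * classSum h)) = centralChar ψ h := by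
  classical
  have hψc := isCharacter_of_isIrrCharacter hψ
  have hψ1 := Cfsg.Agent.Lib.Char.Ortho.irr_apply_one_ne_zero hψ
  have hidx : (T.index : ℂ) ≠ 0 := by exact_mod_cast Subgroup.index_ne_zero_of_finite
  set χ := indFun T ψ with hχ
  have key : ∑ t : T, (fT hNT b * classSum h).coeff t * χ t = ∑ s : T, (classSum h).coeff s * ψ s := by
    calc ∑ t : T, (fT hNT b * classSum h).coeff t * χ t
        = ∑ t : T, ∑ x : T, (fT hNT b).coeff x * (classSum h).coeff (x⁻¹ * t) * χ t := by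
          refine Finset.sum_congr rfl fun t _ => ?_
          rw [coeff_mul_eq_sum, Finset.sum_mul]
      _ = ∑ x : T, ∑ t : T, (fT hNT b).coeff x * (classSum h).coeff (x⁻¹ * t) * χ t := Finset.sum_comm
      _ = ∑ x : T, ∑ s : T, (fT hNT b).coeff x * (classSum h).coeff s * χ ((x * s : T) : G) := by
          refine Finset.sum_congr rfl fun x _ => ?_
          rw [← Equiv.sum_comp (Equiv.mulLeft x)]
          refine Finset.sum_congr rfl fun s _ => ?_
          simp only [Equiv.coe_mulLeft, inv_mul_cancel_left]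
      _ = ∑ s : T, ∑ x : T, (fT hNT b).coeff x * (classSum h).coeff s * χ ((x * s : T) : G) := Finset.sum_comm
      _ = ∑ s : T, (classSum h).coeff s * ∑ x : T, (fT hNT b).coeff x * χ ((x * s : T) : G) := by
          refine Finset.sum_congr rfl fun s _ => ?_
          rw [Finset.mul_sum]
          refine Finset.sum_congr rfl fun x _ => ?_
          ring
      _ = ∑ s : T, (classSum h).coeff s * ψ s := by
          refine Finset.sum_congr rfl fun s _ => ?_
          rw [sum_fT_mul hNT (fun x : T => χ ((x * s : T) : G))]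
          congr 1
          exact sum_blockCoeff_indFun hb hS hNT hψc hall s
  have h2 : omega ψ (classSum h) = centralChar ψ h :=
    omega_classSum (isClassFunction_of_irr hψ) h
  rw [omega, sum_trT_mul _ (indFun_isClassFunction T ψ), key, hχ, indFun_one, ← h2, omega]
  rw [mul_div_mul_left _ _ hidx]

omit [Fintype (N.subgroupOf T)] in
/-- If `ψ^G`, `η^G` are in the same block, so are `ψ`, `η`. -/
theorem sameBlock_of_sameBlock_indFun {M : Ideal AlgInt} [M.IsPrime] (hb : IsPBlock M b)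
    (hS : IsStabilizer b T) {ψ η : T → ℂ} (hψ : IsIrrCharacter T ψ) (hη : IsIrrCharacter T η)
    (hall : AllIn hNT b ψ) (hall' : AllIn hNT b η) (h : SameBlock M (indFun T ψ) (indFun T η)) :
    SameBlock M ψ η := by
  classical
  haveI := Fintype.ofFinite (N.subgroupOf T)
  intro t
  have hirrψ := Cfsg.Agent.Lib.Char.Ortho.isIrrCharacter_of_classInner_self_eq_one
    (Cfsg.Agent.Lib.Char.IndRep.isCharacter_indFun T (isCharacter_of_isIrrCharacter hψ))
    (classInner_indFun_self hb hS hNT hψ hall)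
  have hirrη := Cfsg.Agent.Lib.Char.Ortho.isIrrCharacter_of_classInner_self_eq_one
    (Cfsg.Agent.Lib.Char.IndRep.isCharacter_indFun T (isCharacter_of_isIrrCharacter hη))
    (classInner_indFun_self hb hS hNT hη hall')
  have hz : fT hNT b * classSum t ∈ localCenter T M :=
    (localCenter T M).mul_mem (fT_mem_localCenter hNT hb hS) (classSum_mem_localCenter t)
  have h1 := memLocalIdeal_omega_sub hirrψ hirrη h (trT_mem_localCenter hz)
  rwa [omega_trT hNT hb hS hψ hall, omega_trT hNT hb hS hη hall'] at h1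

end TLevel

end Stabilizer

section Main

open Cfsg.Agent.Lib.Char.Induced Cfsg.Agent.Lib.Char.Basic Cfsg.Agent.Lib.Blocks.Induced
open Cfsg.Agent.Lib.Char.Ortho Cfsg.Agent.Lib.Blocks.Covering2

variable {G : Type u} [Group G] [Fintype G] {N : Subgroup G} [hN : N.Normal] [Fintype N]
  {b : Set (IrrCharacter N)} {T : Subgroup G} [Fintype T] (hNT : N ≤ T)
  {M : Ideal AlgInt} [M.IsPrime]

/-- Irreducibility of the induced character. -/
theorem isIrr_indFun (hb : IsPBlock M b) (hS : IsStabilizer b T) {ψ : T → ℂ} (hψ : IsIrrCharacter T ψ)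
    (hall : AllIn hNT b ψ) : IsIrrCharacter G (indFun T ψ) :=
  isIrrCharacter_of_classInner_self_eq_one
    (Cfsg.Agent.Lib.Char.IndRep.isCharacter_indFun T (isCharacter_of_isIrrCharacter hψ))
    (classInner_indFun_self hb hS hNT hψ hall)

/-- `ψ^G` lies in `B` when `ψ` is in a block inducing `B`. -/
theorem sameBlock_indFun_of_sameBlock {ψ η : T → ℂ} (hψ : IsIrrCharacter T ψ) (hη : IsIrrCharacter T η)
    (h : SameBlock M ψ η) : SameBlock M (indFun T ψ) (indFun T η) := by
  intro g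
  rw [← Cfsg.Agent.S0932.result T ψ (isCharacter_of_isIrrCharacter hψ),
    ← Cfsg.Agent.S0932.result T η (isCharacter_of_isIrrCharacter hη)]
  exact memLocalIdeal_inducedCentralChar_sub hψ hη h g

/-- All characters in the `G`-block of a character over `b` are over `b`. -/
theorem exists_constituent_of_sameBlock (hb : IsPBlock M b) {χ χ' : G → ℂ} (hχ : IsIrrCharacter G χ)
    (hχ' : IsIrrCharacter G χ') (h : SameBlock M χ χ') {θ : IrrCharacter N} (hθ : θ ∈ b)
    (hcon : classInner (fun n : N => χ n) (θ : N → ℂ) ≠ 0) :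
    ∃ θ' ∈ b, classInner (fun n : N => χ' n) (θ' : N → ℂ) ≠ 0 := by
  obtain ⟨θ₀, hθ₀⟩ := exists_constituent (N := N) hχ'
  obtain ⟨g, θ₁, hθ₁, rfl⟩ := mem_of_sameBlock_of_constituent (isConjStable_conjOrbit (G := G) b)
    (blockElt_conjOrbit_mem_localCenter hb).2 hχ hχ' h hcon (subset_conjOrbit b hθ) hθ₀
  refine ⟨θ₁, hθ₁, ?_⟩
  rwa [classInner_conjIrr (isClassFunction_of_irr hχ')] at hθ₀

/-- Part (i) of the Fong-Reynolds correspondence. -/
theorem induced_of_covers (hb : IsPBlock M b) (hS : IsStabilizer b T) {B' : Set (IrrCharacter T)}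
    (hB' : IsPBlock M B') {ψ₀ : IrrCharacter T} (hψ₀ : ψ₀ ∈ B') {θ : IrrCharacter N} (hθ : θ ∈ b)
    (hcon : classInner (fun n : N => (ψ₀ : T → ℂ) (Subgroup.inclusion hNT n)) (θ : N → ℂ) ≠ 0) :
    ∃ B : Set (IrrCharacter G), IsInducedBlock M T B' B ∧
      (∃ χ ∈ B, ∃ θ ∈ b, classInner (fun n : N => (χ : G → ℂ) n) (θ : N → ℂ) ≠ 0) ∧
      (∀ ψ ∈ B', IsIrrCharacter G (indFun T (ψ : T → ℂ))) ∧
      ∀ χ : IrrCharacter G, χ ∈ B ↔ ∃ ψ ∈ B', (χ : G → ℂ) = indFun T (ψ : T → ℂ) := by
  classical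
  obtain ⟨ξ, rfl⟩ := hB'
  have hsb : ∀ ψ ∈ blockOf M (ξ : T → ℂ), SameBlock M (ψ₀ : T → ℂ) ψ := fun ψ hψ =>
    sameBlock_trans (sameBlock_symm hψ₀) hψ
  have hall : ∀ ψ ∈ blockOf M (ξ : T → ℂ), AllIn hNT b (ψ : T → ℂ) := fun ψ hψ =>
    allIn_of_sameBlock hNT hb hS ψ₀.2 ψ.2 (hsb ψ hψ) hθ hcon
  have hirr : ∀ ψ ∈ blockOf M (ξ : T → ℂ), IsIrrCharacter G (indFun T (ψ : T → ℂ)) := fun ψ hψ =>
    isIrr_indFun hNT hb hS ψ.2 (hall ψ hψ)
  let χ₀ : IrrCharacter G := ⟨indFun T (ψ₀ : T → ℂ), hirr ψ₀ hψ₀⟩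
  have hc0 : ∃ θ' ∈ b, classInner (fun n : N => (χ₀ : G → ℂ) n) (θ' : N → ℂ) ≠ 0 :=
    exists_constituent_indFun hNT hb hS ψ₀.2 (hall ψ₀ hψ₀)
  refine ⟨blockOf M (χ₀ : G → ℂ), ⟨⟨ξ, rfl⟩, ⟨χ₀, rfl⟩, ?_⟩, ?_, hirr, ?_⟩
  · intro ξ' hξ' χ hχ g
    have h1 := memLocalIdeal_inducedCentralChar_sub ξ'.2 ψ₀.2 (sameBlock_symm (hsb ξ' hξ')) g
    have h2 : MemLocalIdeal M (centralChar (χ₀ : G → ℂ) g - centralChar (χ : G → ℂ) g) := hχ g
    have h3 : centralChar (χ₀ : G → ℂ) g = inducedCentralChar T (ψ₀ : T → ℂ) g :=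
      (Cfsg.Agent.S0932.result T _ (isCharacter_of_isIrrCharacter ψ₀.2) g).symm
    rw [h3] at h2
    have := memLocalIdeal_add h1 h2
    rwa [sub_add_sub_cancel] at this
  · obtain ⟨θ', hθ', hc⟩ := hc0
    exact ⟨χ₀, sameBlock_refl _, θ', hθ', hc⟩
  · intro χ
    constructor
    · intro hχ
      obtain ⟨θ', hθ', hc⟩ := hc0
      obtain ⟨θ'', hθ'', hc'⟩ := exists_constituent_of_sameBlock hb χ₀.2 χ.2 hχ hθ' hc
      obtain ⟨η, hη, he⟩ := exists_eq_indFun hNT hb hS χ.2 hθ'' hc'
      refine ⟨η, ?_, he⟩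
      have hallη := allIn_of_sameBlock hNT hb hS η.2 η.2 (sameBlock_refl (M := M) _) hθ'' hη
      have h4 : SameBlock M (ψ₀ : T → ℂ) η := sameBlock_of_sameBlock_indFun hNT hb hS ψ₀.2 η.2
        (hall ψ₀ hψ₀) hallη (by rw [← he]; exact hχ)
      exact sameBlock_trans hψ₀ h4
    · rintro ⟨ψ, hψ, he⟩
      show SameBlock M (indFun T (ψ₀ : T → ℂ)) (χ : G → ℂ)
      rw [he]
      exact sameBlock_indFun_of_sameBlock ψ₀.2 ψ.2 (hsb ψ hψ)

/-- Part (ii) of the Fong-Reynolds correspondence. -/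
theorem eq_of_induced_eq (hb : IsPBlock M b) (hS : IsStabilizer b T) {B₁ B₂ : Set (IrrCharacter T)}
    {ψ₁ ψ₂ : IrrCharacter T} (h₁ : ψ₁ ∈ B₁) (h₂ : ψ₂ ∈ B₂) {θ₁ θ₂ : IrrCharacter N} (hθ₁ : θ₁ ∈ b)
    (hθ₂ : θ₂ ∈ b)
    (hc₁ : classInner (fun n : N => (ψ₁ : T → ℂ) (Subgroup.inclusion hNT n)) (θ₁ : N → ℂ) ≠ 0)
    (hc₂ : classInner (fun n : N => (ψ₂ : T → ℂ) (Subgroup.inclusion hNT n)) (θ₂ : N → ℂ) ≠ 0)
    {B : Set (IrrCharacter G)} (hi₁ : IsInducedBlock M T B₁ B) (hi₂ : IsInducedBlock M T B₂ B) :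
    B₁ = B₂ := by
  obtain ⟨χ, hχ⟩ := hi₁.2.1
  have hχm : χ ∈ B := by rw [hχ]; exact sameBlock_refl _
  have hall₁ := allIn_of_sameBlock hNT hb hS ψ₁.2 ψ₁.2 (sameBlock_refl (M := M) _) hθ₁ hc₁
  have hall₂ := allIn_of_sameBlock hNT hb hS ψ₂.2 ψ₂.2 (sameBlock_refl (M := M) _) hθ₂ hc₂
  have h3 : SameBlock M (indFun T (ψ₁ : T → ℂ)) (indFun T (ψ₂ : T → ℂ)) := by
    intro g
    rw [← Cfsg.Agent.S0932.result T _ (isCharacter_of_isIrrCharacter ψ₁.2),
      ← Cfsg.Agent.S0932.result T _ (isCharacter_of_isIrrCharacter ψ₂.2)]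
    have h4 := memLocalIdeal_sub (hi₁.2.2 ψ₁ h₁ χ hχm g) (hi₂.2.2 ψ₂ h₂ χ hχm g)
    rwa [sub_sub_sub_cancel_right] at h4
  have h5 := sameBlock_of_sameBlock_indFun hNT hb hS ψ₁.2 ψ₂.2 hall₁ hall₂ h3
  obtain ⟨ξ₁, rfl⟩ := hi₁.1
  obtain ⟨ξ₂, rfl⟩ := hi₂.1
  have h6 : blockOf M (ψ₁ : T → ℂ) = blockOf M (ξ₁ : T → ℂ) := blockOf_eq_of_mem h₁
  have h7 : blockOf M (ψ₂ : T → ℂ) = blockOf M (ξ₂ : T → ℂ) := blockOf_eq_of_mem h₂
  have h8 : blockOf M (ψ₂ : T → ℂ) = blockOf M (ψ₁ : T → ℂ) := blockOf_eq_of_mem (χ := ψ₁) h5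
  rw [← h6, ← h7, h8]

/-- Part (iii) of the Fong-Reynolds correspondence. -/
theorem exists_induced_of_covers (hb : IsPBlock M b) (hS : IsStabilizer b T) {B : Set (IrrCharacter G)}
    (hB : IsPBlock M B) {χ : IrrCharacter G} (hχ : χ ∈ B) {θ : IrrCharacter N} (hθ : θ ∈ b)
    (hcon : classInner (fun n : N => (χ : G → ℂ) n) (θ : N → ℂ) ≠ 0) :
    ∃ B' : Set (IrrCharacter T), IsPBlock M B' ∧
      (∃ ψ ∈ B', ∃ θ ∈ b, classInner (fun n : N => (ψ : T → ℂ) (Subgroup.inclusion hNT n))
        (θ : N → ℂ) ≠ 0) ∧ IsInducedBlock M T B' B := by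
  obtain ⟨η, hη, he⟩ := exists_eq_indFun hNT hb hS χ.2 hθ hcon
  refine ⟨blockOf M (η : T → ℂ), ⟨η, rfl⟩, ⟨η, sameBlock_refl _, θ, hθ, hη⟩, ⟨η, rfl⟩, hB, ?_⟩
  intro ξ hξ χ' hχ' g
  have h1 := memLocalIdeal_inducedCentralChar_sub ξ.2 η.2 (sameBlock_symm hξ) g
  obtain ⟨χ₁, rfl⟩ := hB
  have h2 : MemLocalIdeal M (centralChar (χ : G → ℂ) g - centralChar (χ' : G → ℂ) g) :=
    sameBlock_trans (sameBlock_symm hχ) hχ' g
  have h3 : centralChar (χ : G → ℂ) g = inducedCentralChar T (η : T → ℂ) g := by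
    rw [he]
    exact (Cfsg.Agent.S0932.result T _ (isCharacter_of_isIrrCharacter η.2) g).symm
  rw [h3] at h2
  have := memLocalIdeal_add h1 h2
  rwa [sub_add_sub_cancel] at this

lemma charDegree_eq_of_apply_one {X : Type*} [Group X] {f : X → ℂ} {k : ℕ} (h : f 1 = k) :
    charDegree f = k := by
  simp [charDegree, h]

lemma charDegree_indFun {ψ : T → ℂ} (hψ : IsIrrCharacter T ψ) :
    charDegree (indFun T ψ) = T.index * charDegree ψ := by
  obtain ⟨d, -, hd⟩ := irr_degree_pos hψ
  rw [charDegree_eq_of_apply_one hd, charDegree_eq_of_apply_one (k := T.index * d)]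
  rw [indFun_one, hd]
  push_cast
  ring

lemma charDegree_ne_zero {X : Type*} [Group X] [Fintype X] {ψ : X → ℂ} (hψ : IsIrrCharacter X ψ) :
    charDegree ψ ≠ 0 := by
  obtain ⟨d, hd0, hd⟩ := irr_degree_pos hψ
  rw [charDegree_eq_of_apply_one hd]
  exact hd0.ne'

lemma factorization_charDegree_indFun (p : ℕ) {ψ : T → ℂ} (hψ : IsIrrCharacter T ψ) :
    (charDegree (indFun T ψ)).factorization p =
      T.index.factorization p + (charDegree ψ).factorization p := by
  rw [charDegree_indFun hψ, Nat.factorization_mul Subgroup.index_ne_zero_of_finite (charDegree_ne_zero hψ)]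
  rfl

lemma sInf_add_image (S : Set ℕ) (hS : S.Nonempty) (c : ℕ) :
    sInf ((fun x => c + x) '' S) = c + sInf S := by
  apply le_antisymm
  · exact Nat.sInf_le ⟨_, Nat.sInf_mem hS, rfl⟩
  · obtain ⟨s, hs, hs'⟩ := Nat.sInf_mem (hS.image (fun x => c + x))
    rw [← hs']
    have := Nat.sInf_le hs
    simp only
    omega

/-- The degree exponents of `B` are those of `B'`, shifted by the exponent of the index. -/
theorem sInf_block_eq (p : ℕ) {B' : Set (IrrCharacter T)}
    {ψ₀ : IrrCharacter T} (hψ₀ : ψ₀ ∈ B') {B : Set (IrrCharacter G)}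
    (hall : ∀ ψ ∈ B', IsIrrCharacter G (indFun T (ψ : T → ℂ)))
    (hB : ∀ χ : IrrCharacter G, χ ∈ B ↔ ∃ ψ ∈ B', (χ : G → ℂ) = indFun T (ψ : T → ℂ)) :
    sInf ((fun χ : IrrCharacter G => (charDegree (χ : G → ℂ)).factorization p) '' B) =
      T.index.factorization p +
        sInf ((fun ψ : IrrCharacter T => (charDegree (ψ : T → ℂ)).factorization p) '' B') := by
  rw [← sInf_add_image _ (Set.Nonempty.image _ ⟨ψ₀, hψ₀⟩)]
  congr 1
  ext k
  constructor
  · rintro ⟨χ, hχ, rfl⟩
    obtain ⟨ψ, hψ, he⟩ := (hB χ).1 hχ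
    refine ⟨_, ⟨ψ, hψ, rfl⟩, ?_⟩
    simp only
    rw [he, factorization_charDegree_indFun p ψ.2]
  · rintro ⟨_, ⟨ψ, hψ, rfl⟩, rfl⟩
    refine ⟨⟨_, hall ψ hψ⟩, (hB _).2 ⟨ψ, hψ, rfl⟩, ?_⟩
    simp only
    rw [factorization_charDegree_indFun p ψ.2]

end Main

end Cfsg.Agent.Lib.Blocks.FongReynolds
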