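/-
Green's theorem on defect groups and Sylow intersections.

The key point: for a block `b` of `X` and a `p`-subgroup `R`, the sum of the coefficients of the block
idempotent over some coset `y R` lies outside the local ideal (the idempotent generates a projective
`R`-module). By a fixed point argument there is `g` with coefficient outside the local ideal such that
`R ∩ g R g⁻¹` centralizes `g`.
-/
import Mathlib
import Cfsg.Prelude.Def_Blocks
import Cfsg.Agent.Lib.Blocks.FirstMain2
import Cfsg.Agent.Lib.Blocks.Defect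

set_option autoImplicit false

namespace Cfsg.Agent.Lib.Blocks.Green

open Cfsg Cfsg.Agent.Lib.Blocks.Local Cfsg.Agent.Lib.Blocks.Central Cfsg.Agent.Lib.Blocks.Osima

universe u

section Fixed

variable {p : ℕ} [hp : Fact p.Prime]

lemma finite_closure_of_torsion {U : Type*} [AddCommGroup U] (hU : ∀ x : U, p • x = 0) {T : Set U}
    (hT : T.Finite) : Finite (AddSubgroup.closure T) := by
  haveI : AddGroup.FG (AddSubgroup.closure T) :=
    (AddGroup.fg_iff_addSubgroup_fg _).2 (AddSubgroup.fg_iff _ |>.2 ⟨T, rfl, hT⟩)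
  apply AddCommGroup.finite_of_fg_isAddTorsion
  intro x
  refine isOfFinAddOrder_iff_nsmul_eq_zero.2 ⟨p, hp.out.pos, ?_⟩
  exact Subtype.ext (hU _)

/-- A `p`-group acting linearly on a `p`-torsion abelian group: the closure of an orbit of a nonzero
vector contains a nonzero fixed vector. -/
lemma exists_fixed_vector {U R : Type*} [AddCommGroup U] (hU : ∀ x : U, p • x = 0) [Group R] [Finite R]
    (hR : IsPGroup p R) [DistribMulAction R U] {v : U} (hv : v ≠ 0) :
    ∃ x : U, x ≠ 0 ∧ x ∈ AddSubgroup.closure (Set.range fun r : R => r • v) ∧ ∀ r : R, r • x = x := by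
  classical
  set C := AddSubgroup.closure (Set.range fun r : R => r • v) with hC
  have hstable : ∀ (r : R) (x : U), x ∈ C → r • x ∈ C := by
    intro r x hx
    induction hx using AddSubgroup.closure_induction with
    | mem x hx =>
      obtain ⟨s, rfl⟩ := hx
      exact AddSubgroup.subset_closure ⟨r * s, mul_smul _ _ _⟩
    | zero => simp
    | add x y _ _ hx hy => rw [smul_add]; exact C.add_mem hx hy
    | neg x _ hx => rw [smul_neg]; exact C.neg_mem hx
  letI act : MulAction R C :=
    { smul := fun r x => ⟨r • x.1, hstable r x.1 x.2⟩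
      one_smul := fun x => Subtype.ext (one_smul R x.1)
      mul_smul := fun a b x => Subtype.ext (mul_smul a b x.1) }
  haveI : Finite C := finite_closure_of_torsion hU (Set.finite_range _)
  have hvC : v ∈ C := AddSubgroup.subset_closure ⟨1, one_smul _ _⟩
  have hdvd : p ∣ Nat.card C := by
    have h1 : addOrderOf (⟨v, hvC⟩ : C) = p := by
      apply addOrderOf_eq_prime
      · exact Subtype.ext (hU v)
      · intro h
        exact hv (congrArg Subtype.val h)
    rw [← h1]
    exact addOrderOf_dvd_natCard _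
  have h0 : (0 : C) ∈ MulAction.fixedPoints R C := by
    intro r
    apply Subtype.ext
    show r • (0 : U) = 0
    simp
  obtain ⟨b, hb, hne⟩ := hR.exists_fixed_point_of_prime_dvd_card_of_fixed_point C hdvd h0
  refine ⟨b.1, fun h => hne (Subtype.ext h.symm), b.2, fun r => congrArg Subtype.val (hb r)⟩

/-- The decomposition of a group into cosets of a subgroup. -/
noncomputable def cosetEquiv {X : Type*} [Group X] (R : Subgroup X) : X ≃ (X ⧸ R) × R where
  toFun g := (QuotientGroup.mk g, ⟨(QuotientGroup.mk g : X ⧸ R).out⁻¹ * g, by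
    have : ((QuotientGroup.mk g : X ⧸ R).out : X ⧸ R) = QuotientGroup.mk g := Quotient.out_eq' _
    exact QuotientGroup.eq.1 this⟩)
  invFun z := z.1.out * z.2
  left_inv g := by simp
  right_inv z := by
    rcases z with ⟨q, u⟩
    have h1 : (QuotientGroup.mk (q.out * (u : X)) : X ⧸ R) = q := by
      rw [QuotientGroup.mk_mul_of_mem _ u.2]
      exact Quotient.out_eq' _
    refine Prod.ext h1 (Subtype.ext ?_)
    simp only [h1]
    simp

/-- The heart of the matter: a central idempotent of a group algebra in characteristic `p`, all of whose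
sums over cosets of a `p`-subgroup vanish, is zero. -/
theorem eq_zero_of_coset_sum {F X : Type*} [CommRing F] (hp0 : (p : F) = 0) [Group X] [Fintype X]
    (R : Subgroup X) [Fintype R] (hR : IsPGroup p R) (w : X → F)
    (hclass : ∀ g x, w (x * g * x⁻¹) = w g)
    (hidem : ∀ y, ∑ g, w g * w (g⁻¹ * y) = w y)
    (hsum : ∀ y, ∑ u : R, w (y * u) = 0) : w = 0 := by
  classical
  by_contra hw
  letI act : DistribMulAction R (X → F) :=
    { smul := fun u x y => x ((u : X)⁻¹ * y)
      one_smul := fun x => by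
        funext y
        show x (((1 : R) : X)⁻¹ * y) = x y
        simp
      mul_smul := fun a b x => by
        funext y
        show x (((a * b : R) : X)⁻¹ * y) = x ((b : X)⁻¹ * ((a : X)⁻¹ * y))
        simp [mul_assoc]
      smul_zero := fun a => rfl
      smul_add := fun a x y => rfl }
  have hsmul : ∀ (u : R) (x : X → F) (y : X), (u • x) y = x ((u : X)⁻¹ * y) := fun _ _ _ => rfl
  have hU : ∀ x : X → F, p • x = 0 := by
    intro x
    funext y
    simp [hp0]
  obtain ⟨x, hx, hxC, hfix⟩ := exists_fixed_vector hU hR hw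
  have hprop : ∀ z ∈ AddSubgroup.closure (Set.range fun r : R => r • w), ∀ y, ∑ g, w g * z (g⁻¹ * y) = z y := by
    intro z hz
    induction hz using AddSubgroup.closure_induction with
    | mem z hz =>
      obtain ⟨u, rfl⟩ := hz
      intro y
      simp only [hsmul]
      calc ∑ g, w g * w ((u : X)⁻¹ * (g⁻¹ * y))
          = ∑ g, w (g * (u : X)⁻¹) * w ((u : X)⁻¹ * ((g * (u : X)⁻¹)⁻¹ * y)) :=
            (Equiv.sum_comp (Equiv.mulRight (u : X)⁻¹) (fun g => w g * w ((u : X)⁻¹ * (g⁻¹ * y)))).symm
        _ = ∑ g, w ((u : X)⁻¹ * g) * w (((u : X)⁻¹ * g)⁻¹ * ((u : X)⁻¹ * y)) := by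
            refine Finset.sum_congr rfl fun g _ => ?_
            have h1 := hclass (g * (u : X)⁻¹) (u : X)⁻¹
            have h2 : (u : X)⁻¹ * (g * (u : X)⁻¹) * ((u : X)⁻¹)⁻¹ = (u : X)⁻¹ * g := by group
            rw [h2] at h1
            rw [← h1]
            congr 2
            group
        _ = ∑ g, w g * w (g⁻¹ * ((u : X)⁻¹ * y)) :=
            Equiv.sum_comp (Equiv.mulLeft (u : X)⁻¹) (fun g => w g * w (g⁻¹ * ((u : X)⁻¹ * y)))
        _ = w ((u : X)⁻¹ * y) := hidem _
    | zero => intro y; simp
    | add a b _ _ ha hb =>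
      intro y
      simp only [Pi.add_apply, mul_add, Finset.sum_add_distrib, ha, hb]
    | neg a _ ha =>
      intro y
      simp only [Pi.neg_apply, mul_neg, Finset.sum_neg_distrib, ha]
  apply hx
  funext y
  rw [Pi.zero_apply, ← hprop x hxC y, ← Equiv.sum_comp (cosetEquiv R).symm, Fintype.sum_prod_type]
  refine Finset.sum_eq_zero fun q _ => ?_
  have h1 : ∀ u : R, w ((cosetEquiv R).symm (q, u)) * x (((cosetEquiv R).symm (q, u))⁻¹ * y) =
      w (q.out * u) * x (q.out⁻¹ * y) := by
    intro u
    show w (q.out * u) * x ((q.out * u)⁻¹ * y) = _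
    have h2 := congrFun (hfix u) (q.out⁻¹ * y)
    rw [hsmul] at h2
    rw [← h2]
    congr 2
    group
  rw [Finset.sum_congr rfl fun u _ => h1 u, ← Finset.sum_mul, hsum, zero_mul]

end Fixed

section Block

variable {X : Type u} [Group X] [Fintype X] {p : ℕ} [hp : Fact p.Prime] {M : Ideal AlgInt} [hMp : M.IsPrime]

/-- Sums over cosets of `p`-subgroups. -/
theorem exists_coset_sum_notMem (hM : IsPModular p M) (R : Subgroup X) [Fintype R] (hR : IsPGroup p R)
    {b : Set (IrrCharacter X)} (hb : IsPBlock M b) :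
    ∃ y : X, ¬ MemLocalIdeal M (∑ u : R, blockCoeff b (y * u)) := by
  classical
  by_contra hcon
  push Not at hcon
  set J := localIdeal M with hJ
  let F := localRing M ⧸ J
  let c : X → localRing M := fun g => ⟨blockCoeff b g, memLocalRing_blockCoeff hb g⟩
  have hc : ∀ g, ((c g : localRing M) : ℂ) = blockCoeff b g := fun _ => rfl
  have hmem : ∀ z : localRing M, MemLocalIdeal M (z : ℂ) → Ideal.Quotient.mk J z = 0 :=
    fun z hz => Ideal.Quotient.eq_zero_iff_mem.2 hz
  have hp0 : ((p : ℕ) : F) = 0 := by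
    have h1 : Ideal.Quotient.mk J ((p : ℕ) : localRing M) = 0 := by
      apply hmem
      simpa using (memLocalIdeal_natCast_iff hM).2 dvd_rfl
    simpa using h1
  have h0 := eq_zero_of_coset_sum (p := p) (F := F) hp0 R hR (fun g => Ideal.Quotient.mk J (c g))
    (fun g x => by
      show Ideal.Quotient.mk J (c _) = Ideal.Quotient.mk J (c _)
      congr 1
      exact Subtype.ext (isClassFunction_blockCoeff b g x))
    (fun y => by
      have h1 : ∑ g, c g * c (g⁻¹ * y) = c y := by
        apply Subtype.ext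
        have h2 := congrArg (fun a : MonoidAlgebra ℂ X => a.coeff y) (blockElt_mul_self b)
        simp only [coeff_mul_eq_sum, coeff_blockElt] at h2
        rw [AddSubmonoidClass.coe_finsetSum]
        exact h2
      have h3 := congrArg (Ideal.Quotient.mk J) h1
      rw [map_sum] at h3
      simpa only [map_mul] using h3)
    (fun y => by
      have h1 := hmem (∑ u : R, c (y * u)) (by
        rw [AddSubmonoidClass.coe_finsetSum]
        exact hcon y)
      rw [map_sum] at h1
      exact h1)
  obtain ⟨k, hk⟩ := exists_isDefectClass (M := M) hb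
  apply hk.2.1
  have h1 := congrFun h0 k
  exact Ideal.Quotient.eq_zero_iff_mem.1 h1

/-- Orbit sums for the action of a `p`-group: the sum of an invariant function outside the local ideal
has a fixed summand outside the local ideal. -/
theorem exists_fixed_of_sum_notMem (hM : IsPModular p M) {Q Y : Type*} [Group Q] [Finite Q] (hQ : IsPGroup p Q)
    [Fintype Y] [MulAction Q Y] (f : Y → ℂ) (hf : ∀ (q : Q) (y : Y), f (q • y) = f y)
    (hloc : ∀ y, MemLocalRing M (f y)) (h : ¬ MemLocalIdeal M (∑ y, f y)) :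
    ∃ y, (∀ q : Q, q • y = y) ∧ ¬ MemLocalIdeal M (f y) := by
  classical
  by_contra hcon
  push Not at hcon
  apply h
  letI : Fintype (Quotient (MulAction.orbitRel Q Y)) := Fintype.ofFinite _
  rw [← Equiv.sum_comp (MulAction.selfEquivSigmaOrbits Q Y).symm, Fintype.sum_sigma]
  refine memLocalIdeal_sum _ _ fun ω _ => ?_
  set y₀ := (Quotient.out ω : Y) with hy₀
  have h1 : ∀ z : MulAction.orbit Q y₀, f ((MulAction.selfEquivSigmaOrbits Q Y).symm ⟨ω, z⟩) = f y₀ := by
    rintro ⟨_, ⟨q, rfl⟩⟩
    exact hf q y₀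
  rw [Finset.sum_congr rfl fun z _ => h1 z, Finset.sum_const, nsmul_eq_mul]
  obtain ⟨n, hn⟩ := hQ.card_orbit y₀
  rw [Finset.card_univ, ← Nat.card_eq_fintype_card, hn]
  rcases n with _ | n
  · have hfix : ∀ q : Q, q • y₀ = y₀ := by
      intro q
      have h2 : Nat.card (MulAction.orbit Q y₀) = 1 := by simpa using hn
      haveI := (Nat.card_eq_one_iff_unique.1 h2).1
      have h3 : (⟨q • y₀, ⟨q, rfl⟩⟩ : MulAction.orbit Q y₀) = ⟨y₀, MulAction.mem_orbit_self y₀⟩ :=
        Subsingleton.elim _ _
      exact congrArg Subtype.val h3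
    have := hcon y₀ hfix
    simpa using this
  · have hp1 : MemLocalIdeal M ((p ^ (n + 1) : ℕ) : ℂ) :=
      (memLocalIdeal_natCast_iff hM).2 (dvd_pow_self p (Nat.succ_ne_zero n))
    exact memLocalIdeal_mul_right hp1 (hloc y₀)

/-- **The key theorem**: for a block `b` of `X` and a `p`-subgroup `R` of `X`, there is `g` with
coefficient in the idempotent of `b` outside the local ideal such that `R ∩ g R g⁻¹` centralizes `g`. -/
theorem exists_blockCoeff_notMem_centralizes (hM : IsPModular p M) (R : Subgroup X) (hR : IsPGroup p R)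
    {b : Set (IrrCharacter X)} (hb : IsPBlock M b) :
    ∃ g : X, ¬ MemLocalIdeal M (blockCoeff b g) ∧ ∀ q ∈ R, g⁻¹ * q * g ∈ R → q * g = g * q := by
  classical
  haveI : Fintype R := Fintype.ofFinite _
  obtain ⟨y, hy⟩ := exists_coset_sum_notMem hM R hR hb
  -- the intersection `Q`
  let Q : Subgroup X :=
    { carrier := {q | q ∈ R ∧ y⁻¹ * q * y ∈ R}
      mul_mem' := by
        rintro a c ⟨ha, ha'⟩ ⟨hc, hc'⟩
        refine ⟨R.mul_mem ha hc, ?_⟩
        have : y⁻¹ * (a * c) * y = (y⁻¹ * a * y) * (y⁻¹ * c * y) := by group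
        rw [this]
        exact R.mul_mem ha' hc'
      one_mem' := ⟨R.one_mem, by simpa using R.one_mem⟩
      inv_mem' := by
        rintro a ⟨ha, ha'⟩
        refine ⟨R.inv_mem ha, ?_⟩
        have : y⁻¹ * a⁻¹ * y = (y⁻¹ * a * y)⁻¹ := by group
        rw [this]
        exact R.inv_mem ha' }
  have hQR : Q ≤ R := fun q hq => hq.1
  have hQp : IsPGroup p Q := hR.to_le hQR
  letI act : MulAction Q R :=
    { smul := fun q u => ⟨y⁻¹ * (q : X) * y * (u : X) * (q : X)⁻¹,
        R.mul_mem (R.mul_mem q.2.2 u.2) (R.inv_mem q.2.1)⟩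
      one_smul := fun u => Subtype.ext (by
        show y⁻¹ * ((1 : Q) : X) * y * (u : X) * (((1 : Q) : X))⁻¹ = u
        simp)
      mul_smul := fun a c u => Subtype.ext (by
        show y⁻¹ * ((a * c : Q) : X) * y * (u : X) * (((a * c : Q) : X))⁻¹ =
          y⁻¹ * (a : X) * y * (y⁻¹ * (c : X) * y * (u : X) * (c : X)⁻¹) * (a : X)⁻¹
        simp only [Subgroup.coe_mul]
        group) }
  have hsmul : ∀ (q : Q) (u : R), ((q • u : R) : X) = y⁻¹ * (q : X) * y * (u : X) * (q : X)⁻¹ := fun _ _ => rfl
  obtain ⟨u, hfix, hu⟩ := exists_fixed_of_sum_notMem (p := p) (M := M) hM hQp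
    (fun u : R => blockCoeff b (y * u))
    (fun q u => by
      show blockCoeff b (y * ((q • u : R) : X)) = _
      rw [hsmul]
      have h1 := isClassFunction_blockCoeff b (y * (u : X)) (q : X)
      rw [← h1]
      congr 1
      group)
    (fun u => memLocalRing_blockCoeff hb _) hy
  refine ⟨y * u, hu, fun q hq hq' => ?_⟩
  have hq'' : y⁻¹ * q * y ∈ R := by
    have h1 : y⁻¹ * q * y = (u : X) * ((y * u)⁻¹ * q * (y * u)) * (u : X)⁻¹ := by group
    rw [h1]
    exact R.mul_mem (R.mul_mem u.2 hq') (R.inv_mem u.2)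
  have h2 := congrArg Subtype.val (hfix ⟨q, hq, hq''⟩)
  rw [hsmul] at h2
  simp only [] at h2
  rw [mul_inv_eq_iff_eq_mul] at h2
  calc q * (y * u) = y * (y⁻¹ * q * y * u) := by group
    _ = y * (u * q) := by rw [h2]
    _ = y * u * q := by group

end Block

end Cfsg.Agent.Lib.Blocks.Green
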