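import Mathlib
import Cfsg.Agent.Lib.Blocks.Covering
import Cfsg.Agent.Lib.Blocks.Covering2
import Cfsg.Agent.Lib.Blocks.Green
import Cfsg.Agent.Lib.Blocks.SecondMain

/-!
# Covered blocks and defect groups: graded nilpotence

`N` is a normal subgroup of `G`, and the block `B` of `G` covers the block `b` of `N`. A defect group of `b`
is `G`-conjugate into a defect group of `B`.

The block idempotent `e` of `B` is graded by `G / N`, with homogeneous pieces commuting with `N`. If the
claim fails, every product of these pieces of total degree `1` lies in the radical of the centre of the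
local group algebra of `N` (orbit sums of class sums, fixed points of `p`-groups, min-max). But an element
of the group algebra, not in the local ideal, killed by that radical, and fixed by `e`, produces, on
multiplying repeatedly by pieces of `e`, two positions of the same degree: a contradiction.
-/

set_option autoImplicit false
set_option linter.unusedSectionVars false
set_option linter.style.haveILetI false

namespace Cfsg.Agent.Lib.Blocks.Knorr

open Cfsg Cfsg.Agent.Lib.Blocks.Local Cfsg.Agent.Lib.Blocks.Central Cfsg.Agent.Lib.Blocks.Osima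
  Cfsg.Agent.Lib.Blocks.Covering Cfsg.Agent.Lib.Blocks.Twisted Cfsg.Agent.Lib.Blocks.Defect
open scoped ComplexConjugate

universe u

section Rad

variable {X : Type u} [Group X] [Fintype X] (M : Ideal AlgInt) [M.IsPrime]

/-- The radical of the local center: the elements killed by all central characters, modulo `M`. -/
def Rad (X : Type u) [Group X] [Fintype X] (M : Ideal AlgInt) [M.IsPrime] : Set (MonoidAlgebra ℂ X) :=
  {u | u ∈ localCenter X M ∧ ∀ ξ : IrrCharacter X, MemLocalIdeal M (omega (ξ : X → ℂ) u)}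

/-- The products of `k` elements of the radical. -/
def IsProd : ℕ → MonoidAlgebra ℂ X → Prop
  | 0, v => v = 1
  | k + 1, v => ∃ u ∈ Rad X M, ∃ v', IsProd k v' ∧ v = u * v'

variable {M}

lemma IsProd.mem_localCenter {k : ℕ} {v : MonoidAlgebra ℂ X} (h : IsProd M k v) : v ∈ localCenter X M := by
  induction k generalizing v with
  | zero =>
    have : v = 1 := h
    rw [this]
    exact (localCenter X M).one_mem
  | succ k ih =>
    obtain ⟨u, hu, v', hv', rfl⟩ := h
    exact (localCenter X M).mul_mem hu.1 (ih hv')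

/-- Any product of as many elements of the radical as there are irreducible characters is zero modulo `M`. -/
theorem exists_approx (s : Finset (IrrCharacter X)) :
    ∀ v : MonoidAlgebra ℂ X, IsProd M s.card v → ∃ w ∈ localCenter X M,
      CoeffIn (localIdeal M) (w - v) ∧ ∀ ξ ∈ s, omega (ξ : X → ℂ) w = 0 := by
  classical
  induction s using Finset.induction_on with
  | empty =>
    intro v hv
    have hv' : v = 1 := hv
    refine ⟨1, (localCenter X M).one_mem, ?_, by simp⟩
    rw [hv', sub_self]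
    exact coeffIn_zero
  | insert ξ s hξ ih =>
    intro v hv
    rw [Finset.card_insert_of_notMem hξ] at hv
    obtain ⟨u, hu, v', hv', rfl⟩ := hv
    obtain ⟨w, hw, hw1, hw2⟩ := ih v' hv'
    set c := omega (ξ : X → ℂ) u with hc
    have hcl : MemLocalIdeal M c := hu.2 ξ
    have hcr := memLocalRing_of_memLocalIdeal hcl
    refine ⟨(u - c • 1) * w, (localCenter X M).mul_mem
      ((localCenter X M).sub_mem hu.1 (algebraMap_mem_localCenter hcr)) hw, ?_, ?_⟩
    · have : (u - c • 1) * w - u * v' = u * (w - v') - c • w := by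
        rw [sub_mul, mul_sub, smul_mul_assoc, one_mul]
        abel
      rw [this]
      exact (CoeffIn.mul_left (coeffIn_top_iff.mpr hu.1.2) hw1).sub
        (Cfsg.Agent.Lib.Blocks.SecondMain.CoeffIn_smul hcl (coeffIn_top_iff.mpr hw.2))
    · intro θ hθ
      rw [omega_mul θ.2 ((localCenter X M).sub_mem hu.1 (algebraMap_mem_localCenter hcr)).1, omega_sub,
        omega_smul, omega_one θ.2, mul_one]
      rcases Finset.mem_insert.mp hθ with rfl | hθ
      · rw [← hc, sub_self, zero_mul]
      · rw [hw2 θ hθ, mul_zero]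

theorem coeffIn_of_isProd {v : MonoidAlgebra ℂ X}
    (hv : IsProd M (Finset.univ : Finset (IrrCharacter X)).card v) : CoeffIn (localIdeal M) v := by
  obtain ⟨w, hw, hw1, hw2⟩ := exists_approx Finset.univ v hv
  have h0 : w = 0 := by
    refine eq_of_omega_eq' hw.1 (localCenter X M).zero_mem.1 fun χ => ?_
    rw [hw2 χ (Finset.mem_univ _), omega_zero]
  rw [h0, zero_sub] at hw1
  simpa using hw1.neg

end Rad

section Graded

variable {G : Type u} [Group G] [Fintype G] {N : Subgroup G} [hN : N.Normal] [Fintype N]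
  {M : Ideal AlgInt} [M.IsPrime]

lemma coeffIn_push {I : Ideal (localRing M)} {a : MonoidAlgebra ℂ N} (ha : CoeffIn I a) :
    CoeffIn I (push N a) := fun x => by
  by_cases hx : x ∈ N
  · obtain ⟨c, hc, hc'⟩ := ha ⟨x, hx⟩
    refine ⟨c, hc, ?_⟩
    rw [hc']
    exact (coeff_push_coe N a ⟨x, hx⟩).symm
  · exact ⟨0, I.zero_mem, by rw [coeff_push_of_notMem N a hx]; rfl⟩

lemma push_one' : push N (1 : MonoidAlgebra ℂ N) = 1 := map_one _

/-- An element killed by the radical, after multiplying by a product of elements of the radical. -/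
theorem exists_killed {x : MonoidAlgebra ℂ G} (hx : ¬ CoeffIn (localIdeal M) x)
    (hxl : CoeffIn (⊤ : Ideal (localRing M)) x) :
    ∃ (k : ℕ) (v : MonoidAlgebra ℂ N), IsProd M k v ∧ ¬ CoeffIn (localIdeal M) (push N v * x) ∧
      ∀ u ∈ Rad N M, CoeffIn (localIdeal M) (push N u * (push N v * x)) := by
  classical
  have key : ∀ (j k : ℕ), k + j = (Finset.univ : Finset (IrrCharacter N)).card →
      ∀ v : MonoidAlgebra ℂ N, IsProd M k v → ¬ CoeffIn (localIdeal M) (push N v * x) →
      ∃ (k : ℕ) (v : MonoidAlgebra ℂ N), IsProd M k v ∧ ¬ CoeffIn (localIdeal M) (push N v * x) ∧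
        ∀ u ∈ Rad N M, CoeffIn (localIdeal M) (push N u * (push N v * x)) := by
    intro j
    induction j with
    | zero =>
      intro k hk v hv hn
      exfalso
      rw [add_zero] at hk
      rw [hk] at hv
      exact hn ((coeffIn_push (coeffIn_of_isProd hv)).mul_right hxl)
    | succ j ih =>
      intro k hk v hv hn
      by_cases h : ∀ u ∈ Rad N M, CoeffIn (localIdeal M) (push N u * (push N v * x))
      · exact ⟨k, v, hv, hn, h⟩
      · push Not at h
        obtain ⟨u, hu, hun⟩ := h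
        exact ih (k + 1) (by omega) (u * v) ⟨u, hu, v, hv, rfl⟩ (by
          rw [push_mul, mul_assoc]
          exact hun)
  exact key (Finset.univ : Finset (IrrCharacter N)).card 0 (by simp) 1 rfl (by simpa [push_one'] using hx)

/-- Homogeneous elements for the grading by `G / N`. -/
def Hom (c : G ⧸ N) (z : MonoidAlgebra ℂ G) : Prop := ∀ g : G, (g : G ⧸ N) ≠ c → z.coeff g = 0

/-- Elements commuting with `N`. -/
def NInv (N : Subgroup G) (z : MonoidAlgebra ℂ G) : Prop := ∀ n ∈ N, IsInv n z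

lemma Hom.mul {c d : G ⧸ N} {a b : MonoidAlgebra ℂ G} (ha : Hom c a) (hb : Hom d b) :
    Hom (c * d) (a * b) := by
  intro g hg
  rw [coeff_mul_eq_sum]
  refine Finset.sum_eq_zero fun x _ => ?_
  by_cases hx : (x : G ⧸ N) = c
  · rw [hb (x⁻¹ * g), mul_zero]
    intro h
    apply hg
    rw [← hx, ← h]
    simp
  · rw [ha x hx, zero_mul]

lemma hom_one : Hom (1 : G ⧸ N) (1 : MonoidAlgebra ℂ G) := by
  classical
  intro g hg
  rw [coeff_one_apply, if_neg]
  rintro rfl
  exact hg rfl

lemma NInv.mul {a b : MonoidAlgebra ℂ G} (ha : NInv N a) (hb : NInv N b) : NInv N (a * b) :=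
  fun n hn => (ha n hn).mul (hb n hn)

lemma nInv_one : NInv N (1 : MonoidAlgebra ℂ G) := fun n _ => isInv_one n

/-- Elements commuting with `N` commute with the group algebra of `N`. -/
lemma push_mul_comm (a : MonoidAlgebra ℂ N) {v : MonoidAlgebra ℂ G} (hv : NInv N v) :
    push N a * v = v * push N a := by
  apply ext_coeff
  intro g
  rw [coeff_mul_eq_sum, coeff_mul_eq_sum', sum_push_mul N a (fun x => v.coeff (x⁻¹ * g))]
  simp_rw [mul_comm (v.coeff _)]
  rw [sum_push_mul N a (fun y => v.coeff (g * y⁻¹))]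
  refine Finset.sum_congr rfl fun n _ => ?_
  congr 1
  have := hv n n.2 ((n : G)⁻¹ * g)
  rw [← this]
  congr 1
  group

open Classical in
/-- The homogeneous component of `e` of degree `c`. -/
noncomputable def comp (e : MonoidAlgebra ℂ G) (c : G ⧸ N) : MonoidAlgebra ℂ G :=
  ofFun (fun g => if (g : G ⧸ N) = c then e.coeff g else 0)

lemma hom_comp (e : MonoidAlgebra ℂ G) (c : G ⧸ N) : Hom c (comp e c) := by
  classical
  intro g hg
  simp [comp, hg]

lemma nInv_comp {e : MonoidAlgebra ℂ G} (he : IsClassFunction G e.coeff) (c : G ⧸ N) :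
    NInv N (comp e c) := by
  classical
  intro n hn g
  have h1 : ((n * g * n⁻¹ : G) : G ⧸ N) = (g : G ⧸ N) := by
    have hnn : ((n : G) : G ⧸ N) = 1 := (QuotientGroup.eq_one_iff n).2 hn
    rw [QuotientGroup.mk_mul, QuotientGroup.mk_mul, QuotientGroup.mk_inv, hnn]
    simp
  simp only [comp, coeff_ofFun, h1, he g n]

lemma coeffIn_top_comp {e : MonoidAlgebra ℂ G} (he : CoeffIn (⊤ : Ideal (localRing M)) e) (c : G ⧸ N) :
    CoeffIn (⊤ : Ideal (localRing M)) (comp e c) := by
  classical
  rw [coeffIn_top_iff] at he ⊢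
  intro g
  simp only [comp, coeff_ofFun]
  split_ifs
  · exact he g
  · exact memLocalRing_zero

lemma coeff_comp_of_eq {e : MonoidAlgebra ℂ G} {c : G ⧸ N} {g : G} (h : (g : G ⧸ N) = c) :
    (comp e c).coeff g = e.coeff g := by
  classical
  simp [comp, h]

lemma sum_comp [Fintype (G ⧸ N)] (e : MonoidAlgebra ℂ G) : ∑ c : G ⧸ N, comp e c = e := by
  classical
  apply ext_coeff
  intro g
  rw [MonoidAlgebra.coeff_sum, Finsupp.finsetSum_apply]
  simp only [comp, coeff_ofFun]
  simp

lemma coeffIn_sum {ι : Type*} {I : Ideal (localRing M)} (s : Finset ι) (f : ι → MonoidAlgebra ℂ G)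
    (h : ∀ i ∈ s, CoeffIn I (f i)) : CoeffIn I (∑ i ∈ s, f i) := by
  classical
  induction s using Finset.induction_on with
  | empty => simpa using coeffIn_zero
  | insert a s ha ih =>
    rw [Finset.sum_insert ha]
    exact (h a (Finset.mem_insert_self a s)).add (ih fun i hi => h i (Finset.mem_insert_of_mem hi))

/-- Restriction to `N` of an element supported on `N` and commuting with `N`. -/
lemma res_mem_localCenter {w : MonoidAlgebra ℂ G} (hw : NInv N w)
    (hl : CoeffIn (⊤ : Ideal (localRing M)) w) : res N w ∈ localCenter N M := by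
  refine ⟨fun n y => ?_, fun n => ?_⟩
  · rw [coeff_res, coeff_res]
    have := hw y y.2 (n : G)
    simpa using this
  · rw [coeff_res]
    exact coeffIn_top_iff.mp hl _

lemma push_res_of_hom {w : MonoidAlgebra ℂ G} (hw : Hom (1 : G ⧸ N) w) : push N (res N w) = w := by
  apply push_res
  intro x hx
  exact hw x fun h => hx ((QuotientGroup.eq_one_iff x).1 h)

end Graded

section Main

variable {G : Type u} [Group G] [Fintype G] {N : Subgroup G} [hN : N.Normal] [Fintype N]
  {M : Ideal AlgInt} {p : ℕ} [Fact p.Prime]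

/-- A `p`-subgroup centralizing an element in the support of the block idempotent is conjugate into a
defect group. -/
lemma exists_conj_le_of_blockCoeff {X : Type*} [Group X] [Fintype X] (hM : IsPModular p M)
    {B : Set (IrrCharacter X)} (hB : IsPBlock M B) {P : Subgroup X} (hP : IsDefectGroup p M B P) {s : X}
    (hs : ¬ MemLocalIdeal M (blockCoeff B s)) {R : Subgroup X} (hR : IsPGroup p R)
    (hRs : ∀ r ∈ R, r * s = s * r) : ∃ x : X, ∀ r ∈ R, x * r * x⁻¹ ∈ P := by
  haveI := isPrime_of_isPModular hM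
  obtain ⟨g₀, hdc, D, rfl⟩ := hP
  obtain ⟨x, Qs, hle⟩ := (min_max hM B hB g₀ hdc D s).1 (memLocalRing_blockCoeff hB s) hs
  obtain ⟨x', hx'⟩ := exists_le_map_conj Qs hR (fun r hr => mem_centralizer_singleton_iff.2 (hRs r hr))
  refine ⟨(x' * x)⁻¹, fun r hr => ?_⟩
  obtain ⟨d, hd, hd'⟩ := hx' hr
  obtain ⟨d₁, hd₁, hd₁'⟩ := hle hd
  have h1 : (x' * x)⁻¹ * r * ((x' * x)⁻¹)⁻¹ = d₁ := by
    simp only [MulEquiv.toMonoidHom_eq_coe, MonoidHom.coe_coe, MulAut.conj_apply] at hd' hd₁'
    rw [← hd', ← hd₁']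
    group
  rw [h1]
  exact hd₁

/-- A character with central character not in the local ideal: the defect group is conjugate into a
`p`-subgroup of the centralizer. -/
lemma exists_pgroup_of_centralChar {X : Type*} [Group X] [Fintype X] (hM : IsPModular p M)
    {b : Set (IrrCharacter X)} (hb : IsPBlock M b) {Q : Subgroup X} (hQ : IsDefectGroup p M b Q)
    {θ : IrrCharacter X} (hθ : θ ∈ b) {t : X} (ht : ¬ MemLocalIdeal M (centralChar (θ : X → ℂ) t)) :
    ∃ R : Subgroup X, IsPGroup p R ∧ (∀ r ∈ R, r * t = t * r) ∧ ∃ x : X, ∀ q ∈ Q, x * q * x⁻¹ ∈ R := by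
  obtain ⟨g₀, hdc, D, rfl⟩ := hQ
  obtain ⟨x, S, hle⟩ := (min_max hM b hb g₀ hdc D t).2 ⟨θ, hθ, ht⟩
  refine ⟨_, isPGroup_sylow_map S, fun r hr => mem_centralizer_singleton_iff.1 (sylow_map_le S hr), x,
    fun q hq => hle ⟨q, hq, ?_⟩⟩
  simp

/-- Fixed points of a `p`-subgroup of `N` in a coefficient of a product. -/
lemma exists_fixed_of_coeff [M.IsPrime] (hM : IsPModular p M) {y v : MonoidAlgebra ℂ G} {t : G} {R : Subgroup G}
    (hR : IsPGroup p R) (hRN : R ≤ N) (hy : NInv N y) (hv : NInv N v)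
    (hyl : CoeffIn (⊤ : Ideal (localRing M)) y) (hvl : CoeffIn (⊤ : Ideal (localRing M)) v)
    (hRt : ∀ r ∈ R, r * t = t * r) (h : ¬ MemLocalIdeal M ((y * v).coeff t)) :
    ∃ s, (∀ r ∈ R, r * s = s * r) ∧ ¬ MemLocalIdeal M (y.coeff s) := by
  classical
  letI act : MulAction R G :=
    { smul := fun r s => (r : G) * s * (r : G)⁻¹
      one_smul := fun s => by
        show ((1 : R) : G) * s * ((1 : R) : G)⁻¹ = s
        simp
      mul_smul := fun a b s => by
        show ((a * b : R) : G) * s * ((a * b : R) : G)⁻¹ = (a : G) * ((b : G) * s * (b : G)⁻¹) * (a : G)⁻¹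
        simp only [Subgroup.coe_mul]
        group }
  have hact : ∀ (r : R) (s : G), r • s = (r : G) * s * (r : G)⁻¹ := fun _ _ => rfl
  obtain ⟨s, hs, hs'⟩ := Cfsg.Agent.Lib.Blocks.Green.exists_fixed_of_sum_notMem hM hR (Y := G)
    (fun s => y.coeff s * v.coeff (s⁻¹ * t))
    (by
      intro r s
      simp only [hact]
      rw [hy r (hRN r.2) s]
      congr 1
      have h1 : ((r : G) * s * (r : G)⁻¹)⁻¹ * t = (r : G) * (s⁻¹ * t) * (r : G)⁻¹ := by
        have h2 : (r : G)⁻¹ * t = t * (r : G)⁻¹ := by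
          have := hRt r r.2
          calc (r : G)⁻¹ * t = (r : G)⁻¹ * (t * r) * (r : G)⁻¹ := by group
            _ = (r : G)⁻¹ * (r * t) * (r : G)⁻¹ := by rw [this]
            _ = t * (r : G)⁻¹ := by group
        calc ((r : G) * s * (r : G)⁻¹)⁻¹ * t = (r : G) * s⁻¹ * ((r : G)⁻¹ * t) := by group
          _ = (r : G) * s⁻¹ * (t * (r : G)⁻¹) := by rw [h2]
          _ = _ := by group
      rw [h1]
      exact hv r (hRN r.2) _)
    (fun s => memLocalRing_mul (coeffIn_top_iff.mp hyl s) (coeffIn_top_iff.mp hvl _))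
    (by rwa [coeff_mul_eq_sum] at h)
  refine ⟨s, fun r hr => ?_, fun h1 => hs' (memLocalIdeal_mul_right h1 (coeffIn_top_iff.mp hvl _))⟩
  have := hs ⟨r, hr⟩
  rw [hact] at this
  simp only at this
  rw [mul_inv_eq_iff_eq_mul] at this
  exact this

variable {B : Set (IrrCharacter G)} {b : Set (IrrCharacter N)} {P : Subgroup G} {Q : Subgroup N}

/-- The central characters of the characters of the orbit of `b` vanish modulo `M` on closed words. -/
theorem memLocalIdeal_omega_res [M.IsPrime] (hM : IsPModular p M) (hB : IsPBlock M B) (hP : IsDefectGroup p M B P)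
    (hb : IsPBlock M b) (hQ : IsDefectGroup p M b Q) (hno : ∀ g : G, ∃ q ∈ Q, g * (q : G) * g⁻¹ ∉ P)
    {y v : MonoidAlgebra ℂ G} (hy : NInv N y) (hv : NInv N v)
    (hyl : CoeffIn (⊤ : Ideal (localRing M)) y) (hvl : CoeffIn (⊤ : Ideal (localRing M)) v)
    (hyB : ∀ s, ¬ MemLocalIdeal M (y.coeff s) → ¬ MemLocalIdeal M (blockCoeff B s))
    {θ : IrrCharacter N} (hθ : θ ∈ conjOrbit (G := G) b) :
    MemLocalIdeal M (omega (θ : N → ℂ) (res N (y * v))) := by
  have hw : NInv N (y * v) := hy.mul hv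
  have hwl : CoeffIn (⊤ : Ideal (localRing M)) (y * v) := hyl.mul_left hvl
  rw [omega_eq_sum_centralChar (isClassFunction_of_irr θ.2) (res_mem_localCenter hw hwl).1]
  refine memLocalIdeal_sum _ _ fun K _ => ?_
  set t : N := K.out with ht
  by_contra hcon
  have h1 : ¬ MemLocalIdeal M ((y * v).coeff (t : G)) := by
    intro h2
    apply hcon
    rw [coeff_res]
    exact memLocalIdeal_mul_right h2 (memLocalRing_centralChar θ.2 _)
  have h2 : ¬ MemLocalIdeal M (centralChar (θ : N → ℂ) t) := by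
    intro h3
    apply hcon
    exact memLocalIdeal_mul_left ((res_mem_localCenter hw hwl).2 _) h3
  obtain ⟨g, θ₁, hθ₁, rfl⟩ := hθ
  rw [centralChar_conjIrr] at h2
  obtain ⟨R₁, hR₁, hR₁t, x₁, hx₁⟩ := exists_pgroup_of_centralChar hM hb hQ hθ₁ h2
  set R : Subgroup G := (R₁.map N.subtype).map (MulAut.conj g⁻¹).toMonoidHom with hRdef
  have hR : IsPGroup p R := (hR₁.map _).map _
  have hRN : R ≤ N := by
    rintro _ ⟨_, ⟨r, -, rfl⟩, rfl⟩
    have := hN.conj_mem r r.2 g⁻¹
    simpa using this
  have hRt : ∀ r ∈ R, r * (t : G) = (t : G) * r := by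
    rintro _ ⟨_, ⟨r, hr, rfl⟩, rfl⟩
    have h3 := congrArg Subtype.val (hR₁t r hr)
    have h4 : ((MulAut.conjNormal g t : N) : G) = g * t * g⁻¹ := by
      simp [MulAut.conjNormal_apply]
    simp only [Subgroup.coe_mul, h4] at h3
    simp only [MulEquiv.toMonoidHom_eq_coe, MonoidHom.coe_coe, MulAut.conj_apply, Subgroup.coe_subtype,
      inv_inv]
    calc g⁻¹ * (r : G) * g * (t : G) = g⁻¹ * ((r : G) * (g * t * g⁻¹)) * g := by group
      _ = g⁻¹ * ((g * t * g⁻¹) * (r : G)) * g := by rw [h3]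
      _ = (t : G) * (g⁻¹ * (r : G) * g) := by group
  obtain ⟨s, hs, hs'⟩ := exists_fixed_of_coeff hM hR hRN hy hv hyl hvl hRt h1
  obtain ⟨x, hx⟩ := exists_conj_le_of_blockCoeff hM hB hP (hyB s hs') hR hs
  obtain ⟨q, hq, hq'⟩ := hno (x * g⁻¹ * x₁)
  apply hq'
  have h5 : g⁻¹ * ((x₁ * q * x₁⁻¹ : N) : G) * g ∈ R := by
    refine ⟨_, ⟨_, hx₁ q hq, rfl⟩, ?_⟩
    simp
  have h6 := hx _ h5
  have h7 : x * (g⁻¹ * ((x₁ * q * x₁⁻¹ : N) : G) * g) * x⁻¹ =
      x * g⁻¹ * (x₁ : G) * (q : G) * (x * g⁻¹ * (x₁ : G))⁻¹ := by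
    simp only [Subgroup.coe_mul, Subgroup.coe_inv]
    group
  rw [h7] at h6
  exact h6

/-- The block idempotent lies in the orbit idempotent. -/
theorem blockElt_mul_push [M.IsPrime] (hB : IsPBlock M B) (hb : IsPBlock M b) {χ : IrrCharacter G}
    (hχ : χ ∈ B) {θ : IrrCharacter N} (hθ : θ ∈ b)
    (hcon : classInner (fun n : N => (χ : G → ℂ) n) (θ : N → ℂ) ≠ 0) :
    blockElt B * push N (blockElt (conjOrbit (G := G) b)) = blockElt B := by
  have hA := isConjStable_conjOrbit (G := G) b
  refine eq_of_omega_eq' (isClassFunction_mul (isClassFunction_blockElt B) (isClassFunction_pushBlock hA))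
    (isClassFunction_blockElt B) fun ξ => ?_
  rw [omega_mul ξ.2 (isClassFunction_blockElt B)]
  by_cases hξ : ξ ∈ B
  · rw [omega_blockElt_of_mem hξ, one_mul]
    obtain ⟨ψ₀, hψ₀⟩ := exists_constituent (N := N) ξ.2
    obtain ⟨χ₀, rfl⟩ := hB
    have hsb : SameBlock M (χ : G → ℂ) ξ := sameBlock_trans (sameBlock_symm hχ) hξ
    have h1 := mem_of_sameBlock_of_constituent hA
      (Cfsg.Agent.Lib.Blocks.Covering2.blockElt_conjOrbit_mem_localCenter hb).2 χ.2 ξ.2 hsb hcon
      (subset_conjOrbit b hθ) hψ₀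
    exact omega_pushBlock_of_mem hA ξ.2 hψ₀ h1
  · rw [omega_blockElt_of_notMem hξ, zero_mul]

/-- Elements killed by the radical, with `e` and `E` acting as the identity. -/
def Killed (M : Ideal AlgInt) [M.IsPrime] (N : Subgroup G) [Fintype N] (e E x : MonoidAlgebra ℂ G) : Prop :=
  CoeffIn (⊤ : Ideal (localRing M)) x ∧ e * x = x ∧ E * x = x ∧
    ∀ u ∈ Rad N M, CoeffIn (localIdeal M) (push N u * x)

lemma Killed.mul_left [M.IsPrime] {e x y : MonoidAlgebra ℂ G} {Ê : MonoidAlgebra ℂ N}
    (hx : Killed M N e (push N Ê) x)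
    (he : IsClassFunction G e.coeff) (hy : NInv N y) (hyl : CoeffIn (⊤ : Ideal (localRing M)) y) :
    Killed M N e (push N Ê) (y * x) := by
  obtain ⟨h1, h2, h3, h4⟩ := hx
  refine ⟨hyl.mul_left h1, ?_, ?_, fun u hu => ?_⟩
  · rw [← mul_assoc, mul_comm_of_isClassFunction he y, mul_assoc, h2]
  · rw [← mul_assoc, push_mul_comm Ê hy, mul_assoc, h3]
  · rw [← mul_assoc, push_mul_comm u hy, mul_assoc]
    exact hyl.mul_left (h4 u hu)

/-- The history of a position. -/
def Hist (M : Ideal AlgInt) [M.IsPrime] (N : Subgroup G) [N.Normal] [Fintype N] (e E : MonoidAlgebra ℂ G)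
    (X : Finset (G ⧸ N)) (q : G ⧸ N) (x : MonoidAlgebra ℂ G) : Prop :=
  ∀ r ∈ X, ∃ xr, Killed M N e E xr ∧ ∃ v, CoeffIn (⊤ : Ideal (localRing M)) v ∧ Hom (q * r⁻¹) v ∧
    NInv N v ∧ x = v * xr

theorem exists_conj_le_of_covers (hM : IsPModular p M) (hB : IsPBlock M B) (hP : IsDefectGroup p M B P)
    (hb : IsPBlock M b) (hQ : IsDefectGroup p M b Q) {χ : IrrCharacter G} (hχ : χ ∈ B)
    {θ : IrrCharacter N} (hθ : θ ∈ b) (hcon : classInner (fun n : N => (χ : G → ℂ) n) (θ : N → ℂ) ≠ 0) :
    ∃ g : G, ∀ q ∈ Q, g * (q : G) * g⁻¹ ∈ P := by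
  classical
  haveI := isPrime_of_isPModular hM
  haveI : Fintype (G ⧸ N) := Fintype.ofFinite _
  by_contra hno
  push Not at hno
  set e := blockElt B with he
  set Ê := blockElt (conjOrbit (G := G) b) with hÊ
  have heZ : e ∈ localCenter G M := blockElt_mem_localCenter hB
  have heΛ : CoeffIn (⊤ : Ideal (localRing M)) e := coeffIn_top_iff.mpr heZ.2
  have hÊZ : Ê ∈ localCenter N M := Cfsg.Agent.Lib.Blocks.Covering2.blockElt_conjOrbit_mem_localCenter hb
  have heE : e * push N Ê = e := blockElt_mul_push hB hb hχ hθ hcon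
  have hEe : push N Ê * e = e := by
    rw [← mul_comm_of_isClassFunction heZ.1, heE]
  have hne : ¬ CoeffIn (localIdeal M) e := by
    obtain ⟨g₀, hg₀⟩ := exists_isDefectClass (M := M) hB
    intro h
    apply hg₀.2.1
    have := coeffIn_localIdeal_iff.mp h g₀
    rwa [he, coeff_blockElt] at this
  obtain ⟨k, v₀, hv₀, hn₀, hk₀⟩ := exists_killed (N := N) hne heΛ
  set z := push N v₀ * e with hz
  have hv₀Z := hv₀.mem_localCenter
  have hkz : Killed M N e (push N Ê) z := by
    refine ⟨(coeffIn_push (coeffIn_top_iff.mpr hv₀Z.2)).mul_right heΛ, ?_, ?_, hk₀⟩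
    · rw [hz, ← mul_assoc, mul_comm_of_isClassFunction heZ.1 (push N v₀), mul_assoc, he, blockElt_mul_self]
    · rw [hz, ← mul_assoc, ← push_mul, mul_comm_of_isClassFunction hÊZ.1, push_mul, mul_assoc, hEe]
  have hcomp : ∀ c : G ⧸ N, NInv N (comp e c) := nInv_comp heZ.1
  have hcompl : ∀ c : G ⧸ N, CoeffIn (⊤ : Ideal (localRing M)) (comp e c) := coeffIn_top_comp heΛ
  -- one step of the path
  have step : ∀ (X : Finset (G ⧸ N)) (q : G ⧸ N) (x : MonoidAlgebra ℂ G),
      Killed M N e (push N Ê) x → ¬ CoeffIn (localIdeal M) x → Hist M N e (push N Ê) X q x →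
      ∃ q' ∉ X, ∃ x', Killed M N e (push N Ê) x' ∧ ¬ CoeffIn (localIdeal M) x' ∧
        Hist M N e (push N Ê) (insert q' X) q' x' := by
    intro X q x hkx hnx hist
    have h1 : ∃ c : G ⧸ N, ¬ CoeffIn (localIdeal M) (comp e c * x) := by
      by_contra hall
      push Not at hall
      apply hnx
      have h2 : x = ∑ c : G ⧸ N, comp e c * x := by
        rw [← Finset.sum_mul, sum_comp, hkx.2.1]
      rw [h2]
      exact coeffIn_sum _ _ fun c _ => hall c
    obtain ⟨c, hc⟩ := h1
    have hkx' := hkx.mul_left heZ.1 (hcomp c) (hcompl c)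
    refine ⟨c * q, ?_, _, hkx', hc, ?_⟩
    · intro hmem
      apply hc
      obtain ⟨xr, hxr, v, hvl, hvh, hvi, hxv⟩ := hist _ hmem
      have hdeg : q * (c * q)⁻¹ = c⁻¹ := by
        rw [mul_inv_rev]
        group
      rw [hdeg] at hvh
      have hw1 : Hom (1 : G ⧸ N) (comp e c * v) := by
        have := (hom_comp (N := N) e c).mul hvh
        rwa [mul_inv_cancel] at this
      have hwi := (hcomp c).mul hvi
      have hwl := (hcompl c).mul_left hvl
      set u₀ := res N (comp e c * v) with hu₀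
      have hu₀Z : u₀ ∈ localCenter N M := res_mem_localCenter hwi hwl
      have hu₀p : push N u₀ = comp e c * v := push_res_of_hom hw1
      have hu : u₀ * Ê ∈ Rad N M := by
        refine ⟨(localCenter N M).mul_mem hu₀Z hÊZ, fun ξ => ?_⟩
        rw [omega_mul ξ.2 hu₀Z.1]
        by_cases hξ : ξ ∈ conjOrbit (G := G) b
        · rw [hÊ, omega_blockElt_of_mem hξ, mul_one]
          refine memLocalIdeal_omega_res hM hB hP hb hQ hno (hcomp c) hvi (hcompl c) hvl (fun s hs => ?_) hξ
          intro h3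
          apply hs
          by_cases hsc : (s : G ⧸ N) = c
          · rw [coeff_comp_of_eq hsc, he, coeff_blockElt]
            exact h3
          · rw [hom_comp e c s hsc]
            exact memLocalIdeal_zero
        · rw [hÊ, omega_blockElt_of_notMem hξ, mul_zero]
          exact memLocalIdeal_zero
      have h4 := hxr.2.2.2 _ hu
      rw [push_mul, mul_assoc, hxr.2.2.1, hu₀p] at h4
      rw [hxv, ← mul_assoc]
      exact h4
    · intro r hr
      rcases Finset.mem_insert.1 hr with rfl | hr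
      · refine ⟨_, hkx', 1, coeffIn_top_one, ?_, nInv_one, by simp⟩
        rw [mul_inv_cancel]
        exact hom_one
      · obtain ⟨xr, hxr, v, hvl, hvh, hvi, hxv⟩ := hist r hr
        refine ⟨xr, hxr, comp e c * v, (hcompl c).mul_left hvl, ?_, (hcomp c).mul hvi, ?_⟩
        · have := (hom_comp (N := N) e c).mul hvh
          rwa [← mul_assoc] at this
        · rw [hxv, mul_assoc]
  -- iterate
  have path : ∀ (j : ℕ) (X : Finset (G ⧸ N)) (q : G ⧸ N) (x : MonoidAlgebra ℂ G),
      Xᶜ.card ≤ j → Killed M N e (push N Ê) x → ¬ CoeffIn (localIdeal M) x →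
      Hist M N e (push N Ê) X q x → False := by
    intro j
    induction j with
    | zero =>
      intro X q x hj hkx hnx hist
      obtain ⟨q', hq', -⟩ := step X q x hkx hnx hist
      have : q' ∈ Xᶜ := Finset.mem_compl.2 hq'
      have h0 := Finset.card_pos.2 ⟨q', this⟩
      omega
    | succ j ih =>
      intro X q x hj hkx hnx hist
      obtain ⟨q', hq', x', hkx', hnx', hist'⟩ := step X q x hkx hnx hist
      refine ih (insert q' X) q' x' ?_ hkx' hnx' hist'
      have h1 : (insert q' X)ᶜ = Xᶜ.erase q' := by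
        ext a
        simp
      rw [h1, Finset.card_erase_of_mem (Finset.mem_compl.2 hq')]
      omega
  refine path _ {1} 1 z le_rfl hkz hn₀ ?_
  intro r hr
  rw [Finset.mem_singleton] at hr
  subst hr
  refine ⟨z, hkz, 1, coeffIn_top_one, ?_, nInv_one, by simp⟩
  simpa using hom_one

end Main

end Cfsg.Agent.Lib.Blocks.Knorr
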