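import Mathlib
import Cfsg.Agent.Lib.Blocks.Knorr
import Cfsg.Agent.Lib.Blocks.FongReynolds
import Cfsg.Agent.Lib.Blocks.Principal

/-!
# Knörr's theorem: the intersection of a defect group with a normal subgroup
-/

set_option autoImplicit false
set_option linter.unusedSectionVars false
set_option linter.style.haveILetI false

namespace Cfsg.Agent.Lib.Blocks.Knorr

open Cfsg Cfsg.Agent.Lib.Blocks.Local Cfsg.Agent.Lib.Blocks.Central Cfsg.Agent.Lib.Blocks.Osima
  Cfsg.Agent.Lib.Blocks.Covering Cfsg.Agent.Lib.Blocks.Twisted Cfsg.Agent.Lib.Blocks.Defect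
  Cfsg.Agent.Lib.Blocks.FongReynolds
open scoped ComplexConjugate

universe u

section Union

variable {X : Type u} [Group X] [Fintype X] {M : Ideal AlgInt} [M.IsPrime]

/-- The idempotent coefficients of a union of blocks. -/
lemma exists_block_of_union {A : Set (IrrCharacter X)}
    (hA : ∀ θ ∈ A, blockOf M (θ : X → ℂ) ⊆ A) {n : X} (h : ¬ MemLocalIdeal M (blockCoeff A n)) :
    ∃ θ ∈ A, ¬ MemLocalIdeal M (blockCoeff (blockOf M (θ : X → ℂ)) n) := by
  classical
  by_contra hno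
  push Not at hno
  apply h
  set 𝔅 : Finset (Set (IrrCharacter X)) :=
    (Finset.univ.filter (· ∈ A)).image (fun θ : IrrCharacter X => blockOf M (θ : X → ℂ)) with h𝔅
  have key : blockCoeff A n = ∑ β ∈ 𝔅, blockCoeff β n := by
    simp only [blockCoeff_eq_sum]
    rw [← Finset.mul_sum]
    congr 1
    rw [← Finset.sum_fiberwise_of_maps_to (s := Finset.univ.filter (· ∈ A)) (t := 𝔅)
      (g := fun θ : IrrCharacter X => blockOf M (θ : X → ℂ)) (fun θ hθ => Finset.mem_image_of_mem _ hθ)]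
    refine Finset.sum_congr rfl fun β hβ => ?_
    obtain ⟨θ₁, hθ₁, rfl⟩ := Finset.mem_image.1 hβ
    have hθ₁A : θ₁ ∈ A := (Finset.mem_filter.1 hθ₁).2
    apply Finset.sum_congr _ fun _ _ => rfl
    ext θ
    simp only [Finset.mem_filter, Finset.mem_univ, true_and]
    constructor
    · rintro ⟨-, h2⟩
      rw [← h2]
      exact mem_blockOf_self θ
    · intro h2
      exact ⟨hA θ₁ hθ₁A h2, blockOf_eq_of_mem h2⟩
  rw [key]
  refine memLocalIdeal_sum _ _ fun β hβ => ?_
  obtain ⟨θ₁, hθ₁, rfl⟩ := Finset.mem_image.1 hβ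
  exact hno θ₁ (Finset.mem_filter.1 hθ₁).2

end Union

section Main

variable {G : Type u} [Group G] [Fintype G] {N : Subgroup G} [hN : N.Normal] [Fintype N]
  {M : Ideal AlgInt} {p : ℕ} [Fact p.Prime]

lemma blockOf_conjIrr [M.IsPrime] (g : G) (θ : IrrCharacter N) :
    blockOf M (conjIrr g θ : N → ℂ) = {θ' | conjIrr g⁻¹ θ' ∈ blockOf M (θ : N → ℂ)} := by
  ext θ'
  constructor
  · intro h
    have := sameBlock_conjIrr g⁻¹ h
    rwa [conjIrr_conjIrr, mul_inv_cancel, conjIrr_one] at this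
  · intro h
    have := sameBlock_conjIrr g h
    rwa [conjIrr_conjIrr, inv_mul_cancel, conjIrr_one] at this

variable {B : Set (IrrCharacter G)} {b : Set (IrrCharacter N)} {P : Subgroup G} {Q : Subgroup N}

/-- The upper bound in Knörr's theorem: `P ∩ N` is conjugate into `Q`. -/
theorem exists_conj_inf_le (hM : IsPModular p M) (hB : IsPBlock M B) (hP : IsDefectGroup p M B P)
    (hb : IsPBlock M b) (hQ : IsDefectGroup p M b Q) {χ : IrrCharacter G} (hχ : χ ∈ B)
    {θ : IrrCharacter N} (hθ : θ ∈ b) (hcon : classInner (fun n : N => (χ : G → ℂ) n) (θ : N → ℂ) ≠ 0) :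
    ∃ y : G, ∀ u ∈ P, ∀ hu : u ∈ N, ∃ q ∈ Q, (q : G) = y * u * y⁻¹ := by
  classical
  haveI := isPrime_of_isPModular hM
  obtain ⟨g₀, hdc, D, rfl⟩ := hP
  set P := (D : Subgroup (Subgroup.centralizer ({g₀} : Set G))).map
    (Subgroup.centralizer ({g₀} : Set G)).subtype with hPdef
  have hPp : IsPGroup p P := isPGroup_sylow_map D
  have hPc : ∀ u ∈ P, u * g₀ = g₀ * u := fun u hu => mem_centralizer_singleton_iff.1 (sylow_map_le D hu)
  set R : Subgroup N := P.subgroupOf N with hR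
  have hRp : IsPGroup p R := hPp.comap_of_injective _ N.subtype_injective |>.of_equiv (MulEquiv.refl _)
  set e := blockElt B with he
  set A := conjOrbit (G := G) b with hA
  have heZ : e ∈ localCenter G M := blockElt_mem_localCenter hB
  have hÊZ : blockElt A ∈ localCenter N M :=
    Cfsg.Agent.Lib.Blocks.Covering2.blockElt_conjOrbit_mem_localCenter hb
  have hEe : push N (blockElt A) * e = e := by
    rw [← mul_comm_of_isClassFunction heZ.1, he, blockElt_mul_push hB hb hχ hθ hcon]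
  have h1 : ¬ MemLocalIdeal M (∑ n : N, (blockElt A).coeff n * e.coeff ((n : G)⁻¹ * g₀)) := by
    intro h2
    apply hdc.2.1
    have h3 := congrArg (fun z => z.coeff g₀) hEe
    simp only [coeff_mul_eq_sum] at h3
    rw [sum_push_mul N _ (fun x => e.coeff (x⁻¹ * g₀))] at h3
    rw [h3, he, coeff_blockElt] at h2
    exact h2
  letI act : MulAction R N :=
    { smul := fun r n => (r : N) * n * (r : N)⁻¹
      one_smul := fun s => by
        show (((1 : R) : N)) * s * (((1 : R) : N))⁻¹ = s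
        simp
      mul_smul := fun a b s => by
        show (((a * b : R) : N)) * s * (((a * b : R) : N))⁻¹ = (a : N) * ((b : N) * s * (b : N)⁻¹) * (a : N)⁻¹
        simp only [Subgroup.coe_mul]
        group }
  have hact : ∀ (r : R) (n : N), r • n = (r : N) * n * (r : N)⁻¹ := fun _ _ => rfl
  obtain ⟨n, hn, hn'⟩ := Cfsg.Agent.Lib.Blocks.Green.exists_fixed_of_sum_notMem hM hRp (Y := N)
    (fun n => (blockElt A).coeff n * e.coeff ((n : G)⁻¹ * g₀))
    (by
      intro r n
      simp only [hact]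
      rw [hÊZ.1 n (r : N)]
      congr 1
      have hr1 : (((r : N) : G)) ∈ P := Subgroup.mem_subgroupOf.1 r.2
      have hr2 := hPc _ hr1
      have h2 : (((r : N) * n * (r : N)⁻¹ : N) : G)⁻¹ * g₀ =
          ((r : N) : G) * ((n : G)⁻¹ * g₀) * ((r : N) : G)⁻¹ := by
        have h3 : (((r : N) : G))⁻¹ * g₀ = g₀ * (((r : N) : G))⁻¹ := by
          calc (((r : N) : G))⁻¹ * g₀ = (((r : N) : G))⁻¹ * (g₀ * ((r : N) : G)) * (((r : N) : G))⁻¹ := by group
            _ = (((r : N) : G))⁻¹ * (((r : N) : G) * g₀) * (((r : N) : G))⁻¹ := by rw [hr2]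
            _ = g₀ * (((r : N) : G))⁻¹ := by group
        calc (((r : N) * n * (r : N)⁻¹ : N) : G)⁻¹ * g₀ =
            ((r : N) : G) * (n : G)⁻¹ * ((((r : N) : G))⁻¹ * g₀) := by
              simp only [Subgroup.coe_mul, Subgroup.coe_inv]
              group
          _ = ((r : N) : G) * (n : G)⁻¹ * (g₀ * (((r : N) : G))⁻¹) := by rw [h3]
          _ = _ := by group
      rw [h2]
      exact heZ.1 _ _)
    (fun n => memLocalRing_mul (hÊZ.2 n) (heZ.2 _))
    h1
  have h2 : ¬ MemLocalIdeal M (blockCoeff A n) := by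
    intro h3
    apply hn'
    rw [coeff_blockElt]
    exact memLocalIdeal_mul_right h3 (heZ.2 _)
  obtain ⟨θ', hθ', h3⟩ := exists_block_of_union
    (Cfsg.Agent.Lib.Blocks.Covering2.blockOf_subset_conjOrbit hb) h2
  obtain ⟨g, θ₁, hθ₁, rfl⟩ := hθ'
  have hbθ₁ : blockOf M (θ₁ : N → ℂ) = b := by
    obtain ⟨ξ, rfl⟩ := hb
    exact blockOf_eq_of_mem hθ₁
  rw [blockOf_conjIrr, hbθ₁, ← blockCoeff_conj_image] at h3
  set n₁ : N := ⟨g * n * g⁻¹, hN.conj_mem n n.2 g⟩ with hn₁
  set R₁ : Subgroup N := R.map (MulAut.conjNormal g).toMonoidHom with hR₁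
  have hR₁p : IsPGroup p R₁ := hRp.map _
  have hR₁c : ∀ r ∈ R₁, r * n₁ = n₁ * r := by
    rintro _ ⟨r, hr, rfl⟩
    have h4 := hn ⟨r, hr⟩
    rw [hact] at h4
    simp only at h4
    rw [mul_inv_eq_iff_eq_mul] at h4
    apply Subtype.ext
    have h5 := congrArg Subtype.val h4
    simp only [Subgroup.coe_mul] at h5
    simp only [MulEquiv.toMonoidHom_eq_coe, MonoidHom.coe_coe, MulAut.conjNormal_apply,
      Subgroup.coe_mul, hn₁]
    calc g * (r : G) * g⁻¹ * (g * n * g⁻¹) = g * ((r : G) * n) * g⁻¹ := by group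
      _ = g * ((n : G) * r) * g⁻¹ := by rw [h5]
      _ = _ := by group
  obtain ⟨x, hx⟩ := Knorr.exists_conj_le_of_blockCoeff hM hb hQ h3 hR₁p hR₁c
  refine ⟨(x : G) * g, fun u hu huN => ?_⟩
  have h6 : (MulAut.conjNormal g).toMonoidHom ⟨u, huN⟩ ∈ R₁ :=
    ⟨⟨u, huN⟩, Subgroup.mem_subgroupOf.2 hu, rfl⟩
  refine ⟨_, hx _ h6, ?_⟩
  simp only [MulEquiv.toMonoidHom_eq_coe, MonoidHom.coe_coe, MulAut.conjNormal_apply, Subgroup.coe_mul,
    Subgroup.coe_inv]
  group

/-- **Knörr's theorem**. -/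
theorem exists_defect_inf_eq (hM : IsPModular p M) (hB : IsPBlock M B) (hb : IsPBlock M b)
    (hQ : IsDefectGroup p M b Q) {χ : IrrCharacter G} (hχ : χ ∈ B)
    {θ : IrrCharacter N} (hθ : θ ∈ b) (hcon : classInner (fun n : N => (χ : G → ℂ) n) (θ : N → ℂ) ≠ 0) :
    ∃ P : Subgroup G, IsDefectGroup p M B P ∧ P ⊓ N = Q.map N.subtype := by
  classical
  haveI := isPrime_of_isPModular hM
  obtain ⟨g₀, hg₀⟩ := exists_isDefectClass (M := M) hB
  obtain ⟨D⟩ : Nonempty (Sylow p (Subgroup.centralizer ({g₀} : Set G))) := inferInstance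
  have hP₀ : IsDefectGroup p M B ((D : Subgroup (Subgroup.centralizer ({g₀} : Set G))).map
      (Subgroup.centralizer ({g₀} : Set G)).subtype) := ⟨g₀, hg₀, D, rfl⟩
  obtain ⟨g, hg⟩ := Knorr.exists_conj_le_of_covers hM hB hP₀ hb hQ hχ hθ hcon
  have hP := Cfsg.Agent.Lib.Blocks.Principal.isDefectGroup_map_conj hP₀ g⁻¹
  refine ⟨_, hP, ?_⟩
  set P := ((D : Subgroup (Subgroup.centralizer ({g₀} : Set G))).map
      (Subgroup.centralizer ({g₀} : Set G)).subtype).map (MulAut.conj g⁻¹).toMonoidHom with hPdef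
  obtain ⟨y, hy⟩ := exists_conj_inf_le hM hB hP hb hQ hχ hθ hcon
  have hle : Q.map N.subtype ≤ P ⊓ N := by
    rintro _ ⟨q, hq, rfl⟩
    refine ⟨⟨_, hg q hq, ?_⟩, q.2⟩
    simp
    group
  symm
  apply Subgroup.eq_of_le_of_card_ge hle
  -- the injection of `P ⊓ N` into the image of `Q`
  have hQc : Nat.card (Q.map N.subtype) = Nat.card Q :=
    Nat.card_congr (Q.equivMapOfInjective _ N.subtype_injective).toEquiv.symm
  rw [hQc]
  let f : ↥(P ⊓ N) → Q := fun u =>
    ⟨(hy u.1 u.2.1 u.2.2).choose, (hy u.1 u.2.1 u.2.2).choose_spec.1⟩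
  refine Nat.card_le_card_of_injective f fun u v huv => ?_
  have h1 := (hy u.1 u.2.1 u.2.2).choose_spec.2
  have h2 := (hy v.1 v.2.1 v.2.2).choose_spec.2
  have h3 : ((hy u.1 u.2.1 u.2.2).choose : N) = (hy v.1 v.2.1 v.2.2).choose :=
    congrArg (fun z : Q => (z : N)) huv
  rw [h3, h2] at h1
  apply Subtype.ext
  have := mul_left_cancel (mul_right_cancel h1)
  exact this.symm

end Main

end Cfsg.Agent.Lib.Blocks.Knorr
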