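import Mathlib
import Cfsg.Agent.Lib.Blocks.Knorr2
import Cfsg.Agent.Lib.Blocks.Principal
import Cfsg.Agent.Lib.Char.Integrality
import Cfsg.Agent.Lib.Solvable.PSeries
import Cfsg.Agent.Lib.Blocks.HeightZero

/-!
# Fong's theorem: blocks over an invariant character of a normal `p'`-subgroup

`K` is a normal `p'`-subgroup of `G` and `θ ∈ Irr(K)` is `G`-invariant. `L ⊇ K` is normal in `G` with `L / K` a
`p`-group, `Q` a Sylow `p`-subgroup of `L` with `C_G(Q) ≤ L`. Then the characters over `θ` form a block of `G`,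
with the Sylow `p`-subgroups of `G` as defect groups.
-/

set_option autoImplicit false
set_option linter.unusedSectionVars false
set_option linter.style.haveILetI false

namespace Cfsg.Agent.Lib.Blocks.Fong

open Cfsg Cfsg.Agent.Lib.Blocks.Local Cfsg.Agent.Lib.Blocks.Central Cfsg.Agent.Lib.Blocks.Osima
  Cfsg.Agent.Lib.Blocks.Covering Cfsg.Agent.Lib.Blocks.Defect Cfsg.Agent.Lib.Blocks.Knorr
  Cfsg.Agent.Lib.Blocks.FongReynolds Cfsg.Agent.Lib.Blocks.Transport
open scoped ComplexConjugate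

universe u

section General

variable {X : Type u} [Group X] [Fintype X] {M : Ideal AlgInt} {p : ℕ} [Fact p.Prime]

/-- If the idempotent coefficient at `1` is outside the local ideal, all Sylow subgroups are defect groups. -/
theorem isDefectGroup_sylow_of_blockCoeff_one (hM : IsPModular p M) {b : Set (IrrCharacter X)}
    (hb : IsPBlock M b) (h : ¬ MemLocalIdeal M (blockCoeff b 1)) (S : Sylow p X) :
    IsDefectGroup p M b (S : Subgroup X) := by
  haveI := isPrime_of_isPModular hM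
  obtain ⟨g₀, hg₀⟩ := exists_isDefectClass (M := M) hb
  obtain ⟨D⟩ : Nonempty (Sylow p (Subgroup.centralizer ({g₀} : Set X))) := inferInstance
  have hP : IsDefectGroup p M b ((D : Subgroup (Subgroup.centralizer ({g₀} : Set X))).map
      (Subgroup.centralizer ({g₀} : Set X)).subtype) := ⟨g₀, hg₀, D, rfl⟩
  obtain ⟨x, hx⟩ := exists_conj_le_of_blockCoeff hM hb hP h S.isPGroup' (fun r _ => by simp)
  have hle : (S : Subgroup X) ≤ ((D : Subgroup (Subgroup.centralizer ({g₀} : Set X))).map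
      (Subgroup.centralizer ({g₀} : Set X)).subtype).map (MulAut.conj x⁻¹).toMonoidHom := by
    intro r hr
    refine ⟨_, hx r hr, ?_⟩
    simp
    group
  have hp : IsPGroup p (((D : Subgroup (Subgroup.centralizer ({g₀} : Set X))).map
      (Subgroup.centralizer ({g₀} : Set X)).subtype).map (MulAut.conj x⁻¹).toMonoidHom) :=
    (isPGroup_sylow_map D).map _
  rw [← S.is_maximal' hp hle]
  exact Cfsg.Agent.Lib.Blocks.Principal.isDefectGroup_map_conj hP x⁻¹

lemma blockCoeff_singleton_one (θ : IrrCharacter X) :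
    blockCoeff {θ} (1 : X) = (Nat.card X : ℂ)⁻¹ * ((θ : X → ℂ) 1 * conj ((θ : X → ℂ) 1)) := by
  classical
  rw [blockCoeff_eq_sum]
  congr 1
  refine Finset.sum_eq_single_of_mem θ (by simp) fun a ha hne => ?_
  simp only [Finset.mem_filter, Finset.mem_univ, true_and, Set.mem_singleton_iff] at ha
  exact absurd ha hne

/-- The coefficient at `1` of the idempotent of a character of a `p'`-group is a unit. -/
theorem not_memLocalIdeal_blockCoeff_singleton [M.IsPrime] (hM : IsPModular p M) (hp : ¬ p ∣ Nat.card X)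
    (θ : IrrCharacter X) : ¬ MemLocalIdeal M (blockCoeff {θ} (1 : X)) := by
  obtain ⟨d, hd0, hd⟩ := Cfsg.Agent.Lib.Char.Ortho.irr_degree_pos θ.2
  rw [blockCoeff_singleton_one, hd, Complex.conj_natCast]
  intro h
  have hc : (Nat.card X : ℂ) ≠ 0 := Cfsg.Agent.Lib.Char.Induced.natCard_ne_zero_complex
  have h2 : MemLocalIdeal M (((d * d : ℕ) : ℂ)) := by
    have h3 := memLocalIdeal_mul_left (memLocalRing_natCast (M := M) (Nat.card X)) h
    have h4 : (Nat.card X : ℂ) * ((Nat.card X : ℂ)⁻¹ * ((d : ℂ) * d)) = ((d * d : ℕ) : ℂ) := by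
      push_cast
      field_simp
    rwa [h4] at h3
  rw [memLocalIdeal_natCast_iff hM] at h2
  have hdvd : d ∣ Nat.card X := by
    obtain ⟨n, ρ, hρ, hθ⟩ := θ.2
    have h1 := Cfsg.Agent.Lib.Char.Integrality.finrank_dvd_card ρ
    have h2 : (d : ℂ) = (n : ℂ) := by
      rw [← hd, ← hθ]
      simp
    have h3 : d = n := by exact_mod_cast h2
    rw [h3]
    simpa using h1
  have hpd : p ∣ d := by
    rcases (Nat.Prime.dvd_mul Fact.out).1 h2 with h | h <;> exact h
  exact hp (hpd.trans hdvd)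

end General

section Over

variable {H : Type u} [Group H] [Fintype H] {K : Subgroup H} [hK : K.Normal] [Fintype K]
  {M : Ideal AlgInt} {p : ℕ} [Fact p.Prime]

/-- The block idempotent of a block of characters lying over an invariant character. -/
theorem blockElt_eq_push {θ : IrrCharacter K} (hinv : IsConjStable (G := H) ({θ} : Set (IrrCharacter K)))
    {b : Set (IrrCharacter H)}
    (hb : ∀ ξ : IrrCharacter H, ξ ∈ b ↔ classInner (fun k : K => (ξ : H → ℂ) k) (θ : K → ℂ) ≠ 0) :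
    blockElt b = push K (blockElt ({θ} : Set (IrrCharacter K))) := by
  refine eq_of_omega_eq' (isClassFunction_blockElt b) (isClassFunction_pushBlock hinv) fun ξ => ?_
  by_cases hξ : ξ ∈ b
  · rw [omega_blockElt_of_mem hξ]
    exact (omega_pushBlock_of_mem hinv ξ.2 ((hb ξ).1 hξ) (Set.mem_singleton θ)).symm
  · rw [omega_blockElt_of_notMem hξ]
    obtain ⟨θ₁, hθ₁⟩ := exists_constituent (N := K) ξ.2
    have h1 : θ₁ ∉ ({θ} : Set (IrrCharacter K)) := by
      intro h
      rw [Set.mem_singleton_iff] at h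
      rw [h] at hθ₁
      exact hξ ((hb ξ).2 hθ₁)
    exact (omega_pushBlock_of_notMem hinv ξ.2 hθ₁ h1).symm

/-- A block of characters over an invariant character of a normal `p'`-subgroup has maximal defect. -/
theorem isDefectGroup_sylow_of_over (hM : IsPModular p M) (hp : ¬ p ∣ Nat.card K) {θ : IrrCharacter K}
    (hinv : IsConjStable (G := H) ({θ} : Set (IrrCharacter K))) {b : Set (IrrCharacter H)}
    (hbb : IsPBlock M b)
    (hb : ∀ ξ : IrrCharacter H, ξ ∈ b ↔ classInner (fun k : K => (ξ : H → ℂ) k) (θ : K → ℂ) ≠ 0)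
    (S : Sylow p H) : IsDefectGroup p M b (S : Subgroup H) := by
  haveI := isPrime_of_isPModular hM
  refine isDefectGroup_sylow_of_blockCoeff_one hM hbb ?_ S
  have h1 : blockCoeff b (1 : H) = blockCoeff ({θ} : Set (IrrCharacter K)) (1 : K) := by
    rw [← coeff_blockElt, blockElt_eq_push hinv hb]
    have := coeff_push_coe K (blockElt ({θ} : Set (IrrCharacter K))) 1
    rw [coeff_blockElt] at this
    rw [← this]
    rfl
  rw [h1]
  exact not_memLocalIdeal_blockCoeff_singleton hM hp θ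

/-- All characters in the block of a character over an invariant character `θ` of a normal `p'`-subgroup
lie over `θ`. -/
theorem over_of_sameBlock (hM : IsPModular p M) (hp : ¬ p ∣ Nat.card K) {θ : IrrCharacter K}
    (hinv : IsConjStable (G := H) ({θ} : Set (IrrCharacter K))) {χ ψ : IrrCharacter H}
    (h : SameBlock M (χ : H → ℂ) (ψ : H → ℂ))
    (hχ : classInner (fun k : K => (χ : H → ℂ) k) (θ : K → ℂ) ≠ 0) :
    classInner (fun k : K => (ψ : H → ℂ) k) (θ : K → ℂ) ≠ 0 := by
  haveI := isPrime_of_isPModular hM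
  obtain ⟨θ₁, hθ₁⟩ := exists_constituent (N := K) ψ.2
  have h1 := mem_of_sameBlock_of_constituent hinv
    (blockElt_mem_localCenter_of_not_dvd hM hp _).2 χ.2 ψ.2 h hχ (Set.mem_singleton θ) hθ₁
  rw [Set.mem_singleton_iff] at h1
  rwa [h1] at hθ₁

end Over

section Main

open Cfsg.Agent.Lib.Char.Basic Cfsg.Agent.Lib.Char.Ortho

variable {G : Type u} [Group G] [Fintype G] {K : Subgroup G} [hK : K.Normal] [Fintype K]
  {L : Subgroup G} [hLn : L.Normal] {M : Ideal AlgInt} {p : ℕ} [Fact p.Prime]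

lemma isConjStable_singleton {θ : IrrCharacter K} (hinv : ∀ g : G, conjIrr g θ = θ) :
    IsConjStable (G := G) ({θ} : Set (IrrCharacter K)) := by
  rintro g _ rfl
  exact hinv g

/-- Intermediate subgroups: a constituent of the restriction to `T` lying over `θ`. -/
theorem exists_intermediate {N T : Subgroup G} [Fintype N] [Fintype T] (hNT : N ≤ T) {χ : G → ℂ}
    (hχ : IsCharacter G χ) {θ : IrrCharacter N}
    (hcon : classInner (fun n : N => χ n) (θ : N → ℂ) ≠ 0) :
    ∃ η : IrrCharacter T, classInner (fun t : T => χ t) (η : T → ℂ) ≠ 0 ∧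
      classInner (fun n : N => (η : T → ℂ) (Subgroup.inclusion hNT n)) (θ : N → ℂ) ≠ 0 := by
  classical
  have hχT : IsCharacter T (fun t : T => χ t) := isCharacter_comp_hom hχ T.subtype
  have hdec := decomp_eq_sum_classInner hχT
  have h1 : (fun n : N => χ n) = ∑ η : IrrCharacter T, classInner (fun t : T => χ t) (η : T → ℂ) •
      (fun n : N => (η : T → ℂ) (Subgroup.inclusion hNT n)) := by
    funext n
    have := congrFun hdec (Subgroup.inclusion hNT n)
    simpa [Finset.sum_apply, Pi.smul_apply] using this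
  rw [h1, classInner_sum_left] at hcon
  obtain ⟨η, -, hη⟩ := Finset.exists_ne_zero_of_sum_ne_zero hcon
  rw [classInner_smul_left] at hη
  exact ⟨η, left_ne_zero_of_mul hη, right_ne_zero_of_mul hη⟩

variable {Q : Subgroup G}

lemma conjIrr_irrComap [Fintype L] [Fintype (K.subgroupOf L)] (hKL : K ≤ L) (l : L) (θ : IrrCharacter K) :
    conjIrr l (irrComap (Subgroup.subgroupOfEquivOfLe hKL) θ) =
      irrComap (Subgroup.subgroupOfEquivOfLe hKL) (conjIrr (l : G) θ) := by
  apply Subtype.ext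
  funext n
  rw [conjIrr_apply, coe_irrComap, coe_irrComap, conjIrr_apply]
  congr 1

/-- Characters over `θ` have all central characters at elements outside `L` in the local ideal. -/
theorem memLocalIdeal_centralChar_of_notMem [Fintype L] (hM : IsPModular p M) (hKp : ¬ p ∣ Nat.card K)
    (hKL : K ≤ L) (hL : ∃ k : ℕ, K.relIndex L = p ^ k) (hQL : Q ≤ L) (hQp : IsPGroup p Q)
    (hQS : ¬ p ∣ Q.relIndex L) (hCQ : Subgroup.centralizer (Q : Set G) ≤ L) {θ : IrrCharacter K}
    (hinv : ∀ g : G, conjIrr g θ = θ) {χ : IrrCharacter G}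
    (hχ : classInner (fun k : K => (χ : G → ℂ) k) (θ : K → ℂ) ≠ 0) {x : G} (hx : x ∉ L) :
    MemLocalIdeal M (centralChar (χ : G → ℂ) x) := by
  classical
  haveI := isPrime_of_isPModular hM
  haveI : Fintype (K.subgroupOf L) := Fintype.ofFinite _
  set e := Subgroup.subgroupOfEquivOfLe hKL with he
  set θ' : IrrCharacter (K.subgroupOf L) := irrComap e θ with hθ'
  obtain ⟨φ, hφ, hφθ⟩ := exists_intermediate hKL (isCharacter_of_isIrrCharacter χ.2) hχ
  have hp' : ¬ p ∣ Nat.card (K.subgroupOf L) := by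
    rwa [Nat.card_congr e.toEquiv]
  have hinv' : IsConjStable (G := L) ({θ'} : Set (IrrCharacter (K.subgroupOf L))) := by
    rintro l _ rfl
    rw [hθ', conjIrr_irrComap, hinv]
    rfl
  have hφθ' : classInner (fun k : K.subgroupOf L => (φ : L → ℂ) k) (θ' : K.subgroupOf L → ℂ) ≠ 0 := by
    rw [hθ', classInner_res hKL]
    exact hφθ
  have hb : IsPBlock M (blockOf M (φ : L → ℂ)) := ⟨φ, rfl⟩
  have hbover : ∀ ξ : IrrCharacter L, ξ ∈ blockOf M (φ : L → ℂ) ↔
      classInner (fun k : K.subgroupOf L => (ξ : L → ℂ) k) (θ' : K.subgroupOf L → ℂ) ≠ 0 := by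
    intro ξ
    constructor
    · intro h
      exact over_of_sameBlock hM hp' hinv' h hφθ'
    · intro h
      exact sameBlock_of_constituents hM hL hφθ' h (sameBlock_refl _)
  have hQp' : IsPGroup p (Q.subgroupOf L) :=
    hQp.comap_of_injective _ L.subtype_injective |>.of_equiv (MulEquiv.refl _)
  set S : Sylow p L := hQp'.toSylow hQS with hS
  have hSdef : IsDefectGroup p M (blockOf M (φ : L → ℂ)) (S : Subgroup L) :=
    isDefectGroup_sylow_of_over hM hp' hinv' hb hbover S
  have hB : IsPBlock M (blockOf M (χ : G → ℂ)) := ⟨χ, rfl⟩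
  have hχB : χ ∈ blockOf M (χ : G → ℂ) := sameBlock_refl _
  obtain ⟨g₀, hg₀⟩ := exists_isDefectClass (M := M) hB
  obtain ⟨D⟩ : Nonempty (Sylow p (Subgroup.centralizer ({g₀} : Set G))) := inferInstance
  have hP : IsDefectGroup p M (blockOf M (χ : G → ℂ))
      ((D : Subgroup (Subgroup.centralizer ({g₀} : Set G))).map
      (Subgroup.centralizer ({g₀} : Set G)).subtype) := ⟨g₀, hg₀, D, rfl⟩
  obtain ⟨g, hg⟩ := exists_conj_le_of_covers hM hB hP hb hSdef hχB (θ := φ) (sameBlock_refl _) hφ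
  by_contra hno
  obtain ⟨R, hR, hRx, y, hy⟩ := exists_pgroup_of_centralChar hM hB hP hχB hno
  apply hx
  have hc : (y * g)⁻¹ * x * (y * g) ∈ Subgroup.centralizer (Q : Set G) := by
    rw [Subgroup.mem_centralizer_iff]
    intro q hq
    have h1 := hg ⟨q, hQL hq⟩ hq
    have h2 := hRx _ (hy _ h1)
    simp only at h2
    calc q * ((y * g)⁻¹ * x * (y * g)) =
        (y * g)⁻¹ * ((y * (g * q * g⁻¹) * y⁻¹) * x) * (y * g) := by group
      _ = (y * g)⁻¹ * (x * (y * (g * q * g⁻¹) * y⁻¹)) * (y * g) := by rw [h2]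
      _ = ((y * g)⁻¹ * x * (y * g)) * q := by group
  have h3 := hLn.conj_mem _ (hCQ hc) (y * g)
  have h4 : (y * g) * ((y * g)⁻¹ * x * (y * g)) * (y * g)⁻¹ = x := by group
  rwa [h4] at h3

/-- Characters over `θ` lie in the same block. -/
theorem sameBlock_of_over [Fintype L] (hM : IsPModular p M) (hKp : ¬ p ∣ Nat.card K)
    (hKL : K ≤ L) (hL : ∃ k : ℕ, K.relIndex L = p ^ k) (hQL : Q ≤ L) (hQp : IsPGroup p Q)
    (hQS : ¬ p ∣ Q.relIndex L) (hCQ : Subgroup.centralizer (Q : Set G) ≤ L) {θ : IrrCharacter K}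
    (hinv : ∀ g : G, conjIrr g θ = θ) {χ ψ : IrrCharacter G}
    (hχ : classInner (fun k : K => (χ : G → ℂ) k) (θ : K → ℂ) ≠ 0)
    (hψ : classInner (fun k : K => (ψ : G → ℂ) k) (θ : K → ℂ) ≠ 0) :
    SameBlock M (χ : G → ℂ) (ψ : G → ℂ) := by
  classical
  haveI := isPrime_of_isPModular hM
  haveI : Fintype (K.subgroupOf L) := Fintype.ofFinite _
  obtain ⟨φ₁, hφ₁, hφ₁θ⟩ := exists_intermediate hKL (isCharacter_of_isIrrCharacter χ.2) hχ
  obtain ⟨φ₂, hφ₂, hφ₂θ⟩ := exists_intermediate hKL (isCharacter_of_isIrrCharacter ψ.2) hψ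
  have h12 : SameBlock M (φ₁ : L → ℂ) (φ₂ : L → ℂ) :=
    sameBlock_of_constituents hM hL (θ := irrComap (Subgroup.subgroupOfEquivOfLe hKL) θ)
      (θ' := irrComap (Subgroup.subgroupOfEquivOfLe hKL) θ)
      (by rw [classInner_res hKL]; exact hφ₁θ) (by rw [classInner_res hKL]; exact hφ₂θ) (sameBlock_refl _)
  intro x
  by_cases hx : x ∈ L
  · have h1 := Cfsg.Agent.Lib.Blocks.Covering2.centralChar_eq_inducedCentralChar χ.2 φ₁.2 hφ₁ ⟨x, hx⟩
    have h2 := Cfsg.Agent.Lib.Blocks.Covering2.centralChar_eq_inducedCentralChar ψ.2 φ₂.2 hφ₂ ⟨x, hx⟩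
    simp only at h1 h2
    rw [h1, h2]
    exact memLocalIdeal_inducedCentralChar_sub φ₁.2 φ₂.2 h12 x
  · exact memLocalIdeal_sub (memLocalIdeal_centralChar_of_notMem hM hKp hKL hL hQL hQp hQS hCQ hinv hχ hx)
      (memLocalIdeal_centralChar_of_notMem hM hKp hKL hL hQL hQp hQS hCQ hinv hψ hx)

/-- **Fong's theorem**. -/
theorem fong_main (hM : IsPModular p M) (hKp : ¬ p ∣ Nat.card K)
    (hKL : K ≤ L) (hL : ∃ k : ℕ, K.relIndex L = p ^ k) (hQL : Q ≤ L) (hQp : IsPGroup p Q)
    (hQS : ¬ p ∣ Q.relIndex L) (hCQ : Subgroup.centralizer (Q : Set G) ≤ L) {θ : IrrCharacter K}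
    (hinv : ∀ g : G, conjIrr g θ = θ) :
    ∃ B : Set (IrrCharacter G), IsPBlock M B ∧
      (∀ χ : IrrCharacter G, χ ∈ B ↔ classInner (fun k : K => (χ : G → ℂ) k) (θ : K → ℂ) ≠ 0) ∧
      ∀ S : Sylow p G, IsDefectGroup p M B (S : Subgroup G) := by
  classical
  haveI := isPrime_of_isPModular hM
  haveI : Fintype L := Fintype.ofFinite _
  obtain ⟨χ₀, hχ₀⟩ := exists_irr_of_constituent (N := K) θ.2
  have hstab := isConjStable_singleton hinv
  have hmem : ∀ χ : IrrCharacter G, χ ∈ blockOf M (χ₀ : G → ℂ) ↔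
      classInner (fun k : K => (χ : G → ℂ) k) (θ : K → ℂ) ≠ 0 := fun χ =>
    ⟨fun h => over_of_sameBlock hM hKp hstab h hχ₀,
      fun h => sameBlock_of_over hM hKp hKL hL hQL hQp hQS hCQ hinv hχ₀ h⟩
  have hB : IsPBlock M (blockOf M (χ₀ : G → ℂ)) := ⟨χ₀, rfl⟩
  exact ⟨_, hB, hmem, fun S => isDefectGroup_sylow_of_over hM hKp hstab hB hmem S⟩

end Main

section Core

open Cfsg.Agent.Lib.Solvable.PSeries Cfsg.Agent.Lib.Basic.PCore

variable {G : Type u} [Group G] [Finite G] {p : ℕ} [Fact p.Prime]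

lemma relIndex_mul_card_of_le' {H K : Subgroup G} (h : H ≤ K) : H.relIndex K * Nat.card H = Nat.card K := by
  rw [Subgroup.relIndex, ← Nat.card_congr (Subgroup.subgroupOfEquivOfLe h).toEquiv]
  exact Subgroup.index_mul_card _

/-- The image of a Sylow `p`-subgroup of `L` in `G / K` is all of `L / K`, when `K` is a `p'`-group and `L / K`
a `p`-group. -/
theorem map_eq_map_of_sylow {K L Q : Subgroup G} [K.Normal] (hKp : ¬ p ∣ Nat.card K) (hKL : K ≤ L)
    (hL : ∃ k : ℕ, K.relIndex L = p ^ k) (hQL : Q ≤ L) (hQp : IsPGroup p Q) (hQS : ¬ p ∣ Q.relIndex L) :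
    Q.map (QuotientGroup.mk' K) = L.map (QuotientGroup.mk' K) := by
  obtain ⟨k, hk⟩ := hL
  obtain ⟨a, ha⟩ := IsPGroup.iff_card.1 hQp
  have hpp : p.Prime := Fact.out
  have h1 : K.relIndex L * Nat.card K = Nat.card L := relIndex_mul_card_of_le' hKL
  have h2 : Q.relIndex L * Nat.card Q = Nat.card L := relIndex_mul_card_of_le' hQL
  have h3 : p ^ k * Nat.card K = Q.relIndex L * p ^ a := by
    rw [← hk, h1, ← ha, h2]
  have hka : k = a := by
    have hc1 : Nat.Coprime (p ^ a) (Nat.card K) :=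
      Nat.Coprime.pow_left a ((Nat.Prime.coprime_iff_not_dvd hpp).2 hKp)
    have hc2 : Nat.Coprime (p ^ k) (Q.relIndex L) :=
      Nat.Coprime.pow_left k ((Nat.Prime.coprime_iff_not_dvd hpp).2 hQS)
    have h4 : p ^ k ∣ p ^ a := hc2.dvd_of_dvd_mul_left (by rw [← h3]; exact dvd_mul_right _ _)
    have h5 : p ^ a ∣ p ^ k := hc1.dvd_of_dvd_mul_right (by rw [h3]; exact dvd_mul_left _ _)
    exact Nat.pow_right_injective hpp.two_le (Nat.dvd_antisymm h4 h5)
  have hbot : K.subgroupOf Q = ⊥ := by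
    rw [eq_bot_iff]
    intro q hq
    obtain ⟨n, hn⟩ := hQp q
    have h4 : orderOf ((q : Q) : G) ∣ Nat.card K := Subgroup.orderOf_dvd_natCard K (Subgroup.mem_subgroupOf.1 hq)
    have h5 : orderOf ((q : Q) : G) ∣ p ^ n := by
      apply orderOf_dvd_of_pow_eq_one
      have := congrArg Subtype.val hn
      simpa using this
    have h6 : Nat.Coprime (p ^ n) (Nat.card K) :=
      Nat.Coprime.pow_left n ((Nat.Prime.coprime_iff_not_dvd hpp).2 hKp)
    have h7 : orderOf ((q : Q) : G) = 1 := Nat.eq_one_of_dvd_coprimes h6 h5 h4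
    rw [Subgroup.mem_bot]
    apply Subtype.ext
    simpa using orderOf_eq_one_iff.1 h7
  have h8 : Nat.card (Q.map (QuotientGroup.mk' K)) = p ^ a := by
    rw [card_map_mk', Subgroup.relIndex, hbot, Subgroup.index_bot, ha]
  have h9 : Nat.card (L.map (QuotientGroup.mk' K)) = p ^ k := by
    rw [card_map_mk', hk]
  refine Subgroup.eq_of_le_of_card_ge (Subgroup.map_mono hQL) ?_
  rw [h8, h9, hka]

/-- Hall-Higman for the `p`-soluble case: a Sylow `p`-subgroup of `O_{p',p}(G)` contains its centralizer modulo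
`O_{p',p}(G)`. -/
theorem centralizer_sylow_le (hG : IsPSolvable p G) {Q : Subgroup G} (hQL : Q ≤ pPrimePCore p G)
    (hQp : IsPGroup p Q) (hQS : ¬ p ∣ Q.relIndex (pPrimePCore p G)) :
    Subgroup.centralizer (Q : Set G) ≤ pPrimePCore p G := by
  classical
  have hKp : ¬ p ∣ Nat.card (pPrimeCore p G) := fun h =>
    (Nat.Prime.coprime_iff_not_dvd (Fact.out : p.Prime)).1 (pPrimeCore_coprime (G := G) p).symm h
  have hL : ∃ k : ℕ, (pPrimeCore p G).relIndex (pPrimePCore p G) = p ^ k :=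
    relIndex_stepP (pPrimeCore p G)
  have hKL : pPrimeCore p G ≤ pPrimePCore p G := le_stepP p (pPrimeCore p G)
  have hmap := map_eq_map_of_sylow hKp hKL hL hQL hQp hQS
  have hcore : (pPrimePCore p G).map (QuotientGroup.mk' (pPrimeCore p G)) = pCore p (G ⧸ pPrimeCore p G) :=
    Subgroup.map_comap_eq_self_of_surjective (QuotientGroup.mk'_surjective _) _
  have hC := centralizer_pCore_le (isPSolvable_quotient hG (pPrimeCore p G)) (pPrimeCore_quotient p)
  intro x hx
  show (QuotientGroup.mk' (pPrimeCore p G)) x ∈ pCore p (G ⧸ pPrimeCore p G)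
  apply hC
  rw [Subgroup.mem_centralizer_iff]
  intro y hy
  have hy' : y ∈ Q.map (QuotientGroup.mk' (pPrimeCore p G)) := by
    rw [hmap, hcore]
    exact hy
  obtain ⟨q, hq, rfl⟩ := hy'
  rw [← map_mul, ← map_mul, Subgroup.mem_centralizer_iff.1 hx q hq]

end Core

end Cfsg.Agent.Lib.Blocks.Fong
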