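import Mathlib
import Cfsg.Prelude.Def_Blocks
import Cfsg.Prelude.Def_Local
import Cfsg.Agent.Lib.Blocks.BrauerMap
import Cfsg.Agent.Lib.Blocks.BlockHom
import Cfsg.Agent.Lib.Blocks.HeightZero
import Cfsg.Agent.Lib.Basic.PCore
import Cfsg.Agent.Lib.Solvable.PSeries
import Cfsg.Agent.Lib.Char.BlichfeldtB

/-!
# Blocks of a central extension of a group with trivial `p'`-core

Let `f : H → Ḡ` be surjective with central kernel of order prime to `p`, where `Ḡ` is `p`-soluble
with `O_{p'}(Ḡ) = 1`.  Two irreducible characters of `H` which agree on the kernel (up to degrees)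
lie in the same `p`-block.
-/

set_option autoImplicit false
set_option linter.unusedSectionVars false
set_option linter.style.haveILetI false

namespace Cfsg.Agent.Lib.Blocks.FongCentral

open Cfsg Cfsg.Agent.Lib.Blocks.Local Cfsg.Agent.Lib.Blocks.Central Cfsg.Agent.Lib.Blocks.BlockHom
open Cfsg.Agent.Lib.Blocks.BrauerMap Cfsg.Agent.Lib.Basic.PCore

universe u v

section PCore

variable {H : Type u} [Group H] [Finite H] {Gb : Type v} [Group Gb] [Finite Gb]

/-- The `p`-core maps onto the `p`-core under a central `p'`-extension. -/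
theorem map_pCore_eq {p : ℕ} [Fact p.Prime] (f : H →* Gb) (hf : Function.Surjective f)
    (hc : ∀ z ∈ f.ker, ∀ x, x * z = z * x) (hp' : ∀ z ∈ f.ker, (∃ k : ℕ, z ^ (p ^ k) = 1) → z = 1) :
    (pCore p H).map f = pCore p Gb := by
  apply le_antisymm (map_pCore_le_of_surjective hf)
  intro xb hxb
  obtain ⟨P₀⟩ : Nonempty (Sylow p H) := inferInstance
  have h0 : xb ∈ ((P₀.mapSurjective hf : Sylow p Gb) : Subgroup Gb) :=
    pCore_le_sylow _ hxb
  rw [Sylow.coe_mapSurjective] at h0
  obtain ⟨y, hy, rfl⟩ := h0
  refine ⟨y, mem_pCore_iff.2 fun P => ?_, rfl⟩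
  have h1 : f y ∈ ((P.mapSurjective hf : Sylow p Gb) : Subgroup Gb) := pCore_le_sylow _ hxb
  rw [Sylow.coe_mapSurjective] at h1
  obtain ⟨y', hy', hyy⟩ := h1
  have hz : y'⁻¹ * y ∈ f.ker := by
    rw [MonoidHom.mem_ker, map_mul, map_inv, hyy, inv_mul_cancel]
  obtain ⟨e, he⟩ := P₀.isPGroup' ⟨y, hy⟩
  obtain ⟨e', he'⟩ := P.isPGroup' ⟨y', hy'⟩
  have he1 : y ^ (p ^ e) = 1 := congrArg Subtype.val he
  have he2 : y' ^ (p ^ e') = 1 := congrArg Subtype.val he'
  set z := y'⁻¹ * y with hzdef
  have hyz : y = y' * z := by rw [hzdef]; group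
  have hcomm : Commute y' z := (hc z hz y')
  have hz1 : z ^ (p ^ (e + e')) = 1 := by
    have h2 : y ^ (p ^ (e + e')) = 1 := by rw [pow_add, pow_mul, he1, one_pow]
    rw [hyz, hcomm.mul_pow] at h2
    have h3 : y' ^ (p ^ (e + e')) = 1 := by rw [add_comm, pow_add, pow_mul, he2, one_pow]
    rwa [h3, one_mul] at h2
  have hz2 := hp' z hz ⟨_, hz1⟩
  rw [hyz, hz2, mul_one]
  exact hy'

end PCore

section Central

variable {H : Type u} [Group H] [Fintype H] {M : Ideal AlgInt} [hM : M.IsPrime]

/-- For `y` in a normal `p`-subgroup the central character at `y` is the class size modulo the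
local ideal. -/
theorem centralChar_sub_index_of_mem {p : ℕ} [Fact p.Prime] (hMp : IsPModular p M) (Q : Subgroup H)
    [hQn : Q.Normal] (hQ : IsPGroup p Q) {β : H → ℂ} (hβ : IsIrrCharacter H β) {y : H} (hy : y ∈ Q) :
    MemLocalIdeal M (centralChar β y - ((Subgroup.centralizer ({y} : Set H)).index : ℂ)) := by
  classical
  set n := (Subgroup.centralizer ({y} : Set H)).index with hn
  let a : MonoidAlgebra ℂ H := classSum y - (n : ℂ) • (1 : MonoidAlgebra ℂ H)
  have ha : a ∈ localCenter H M :=
    (localCenter H M).sub_mem (classSum_mem_localCenter y)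
      (algebraMap_mem_localCenter (memLocalRing_natCast n))
  have hcoeff : ∀ x, a.coeff x = (classSum y).coeff x - (n : ℂ) * (1 : MonoidAlgebra ℂ H).coeff x := by
    intro x
    simp [a]
  have h := memLocalIdeal_omega_of_coset_sum hMp Q hQ hβ ha (by
    intro g0 s hs
    have hzero : ∑ x ∈ s, a.coeff x = 0 := by
      by_cases hg0 : g0 ∈ Q
      · have hs' : ∀ x, x ∈ s ↔ x ∈ Q := by
          intro x
          rw [hs]
          constructor
          · intro h
            have := Q.mul_mem hg0 h
            simpa using this
          · intro h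
            exact Q.mul_mem (Q.inv_mem hg0) h
        have h1 : s = Finset.univ.filter (fun x => x ∈ Q) := by
          ext x
          simp [hs']
        simp_rw [hcoeff]
        rw [Finset.sum_sub_distrib, ← Finset.mul_sum]
        have h2 : ∑ x ∈ s, (classSum y).coeff x = (n : ℂ) := by
          have h3 : ∑ x ∈ s, (classSum y).coeff x =
              ∑ x ∈ s.filter (fun x => IsConj y x), (1 : ℂ) := by
            rw [Finset.sum_filter]
            refine Finset.sum_congr rfl fun x _ => ?_
            by_cases hx : IsConj y x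
            · rw [if_pos hx, coeff_classSum_of_isConj hx]
            · rw [if_neg hx, coeff_classSum_of_not_isConj hx]
          rw [h3, Finset.sum_const, nsmul_eq_mul, mul_one, hn,
            ← Cfsg.Agent.Lib.Char.Integrality.card_classFinset]
          congr 2
          ext x
          rw [Cfsg.Agent.Lib.Char.Integrality.mem_classFinset]
          simp only [Finset.mem_filter, hs']
          constructor
          · intro h
            exact h.2
          · intro h
            refine ⟨?_, h⟩
            obtain ⟨c, rfl⟩ := isConj_iff.1 h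
            exact hQn.conj_mem y hy c
        have h4 : ∑ x ∈ s, (1 : MonoidAlgebra ℂ H).coeff x = 1 := by
          rw [Finset.sum_eq_single (1 : H)]
          · rw [coeff_one_apply, if_pos rfl]
          · intro b _ hb
            rw [coeff_one_apply, if_neg hb]
          · intro h
            exact absurd ((hs' 1).2 Q.one_mem) h
        rw [h2, h4, mul_one, sub_self]
      · refine Finset.sum_eq_zero fun x hx => ?_
        have hxQ : x ∉ Q := by
          intro h
          apply hg0
          have := (hs x).1 hx
          have h2 := Q.mul_mem h (Q.inv_mem this)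
          simpa using h2
        rw [hcoeff, coeff_classSum_of_not_isConj, coeff_one_apply, if_neg, mul_zero, sub_zero]
        · rintro rfl
          exact hxQ Q.one_mem
        · intro h
          obtain ⟨c, rfl⟩ := isConj_iff.1 h
          exact hxQ (hQn.conj_mem y hy c)
    rw [hzero]
    exact memLocalIdeal_zero)
  have h5 : omega β a = centralChar β y - (n : ℂ) := by
    simp only [a]
    rw [omega_sub, omega_classSum (isClassFunction_of_irr hβ), omega_smul, omega_one hβ, mul_one]
  rw [h5] at h
  exact h

/-- **Central case of Fong's theorem.** -/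
theorem sameBlock_of_central {Gb : Type v} [Group Gb] [Finite Gb] {p : ℕ} [Fact p.Prime]
    (hMp : IsPModular p M) (f : H →* Gb) (hf : Function.Surjective f)
    (hc : ∀ z ∈ f.ker, ∀ x, x * z = z * x) (hp' : ∀ z ∈ f.ker, (∃ k : ℕ, z ^ (p ^ k) = 1) → z = 1)
    (hsolv : IsPSolvable p Gb) (hcore : pPrimeCore p Gb = ⊥)
    {β β' : H → ℂ} (hβ : IsIrrCharacter H β) (hβ' : IsIrrCharacter H β')
    (hagree : ∀ z ∈ f.ker, β z * β' 1 = β' z * β 1) : SameBlock M β β' := by
  classical
  intro g
  set Q := pCore p H with hQ
  haveI hQn : Q.Normal := pCore_normal p H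
  have hQp : IsPGroup p Q := pCore_isPGroup p
  by_cases hg : g ∈ Subgroup.centralizer (Q : Set H)
  · -- `g` lies in `Q` times the kernel
    have hmap := map_pCore_eq f hf hc hp'
    have hfg : f g ∈ pCore p Gb := by
      apply Cfsg.Agent.Lib.Solvable.PSeries.centralizer_pCore_le hsolv hcore
      rw [Subgroup.mem_centralizer_iff]
      intro w hw
      rw [← hmap] at hw
      obtain ⟨y, hy, rfl⟩ := hw
      rw [← map_mul, ← map_mul, (Subgroup.mem_centralizer_iff.1 hg) y hy]
    rw [← hmap] at hfg
    obtain ⟨y, hy, hyg⟩ := hfg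
    have hz : y⁻¹ * g ∈ f.ker := by
      rw [MonoidHom.mem_ker, map_mul, map_inv, hyg, inv_mul_cancel]
    set z := y⁻¹ * g with hzdef
    have hgz : g = z * y := by
      have h1 : g = y * z := by rw [hzdef]; group
      rw [h1, hc z hz y]
    have hzc : ∀ x, x * z = z * x := hc z hz
    obtain ⟨a, -, ha⟩ := Cfsg.Agent.Lib.Char.BlichfeldtB.irr_central_mul hβ z hzc
    obtain ⟨a', -, ha'⟩ := Cfsg.Agent.Lib.Char.BlichfeldtB.irr_central_mul hβ' z hzc
    have hb0 : β 1 ≠ 0 := Cfsg.Agent.Lib.Char.Ortho.irr_apply_one_ne_zero hβ
    have hb0' : β' 1 ≠ 0 := Cfsg.Agent.Lib.Char.Ortho.irr_apply_one_ne_zero hβ'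
    have haa : a = a' := by
      have h1 := hagree z hz
      have h2 := ha 1
      have h3 := ha' 1
      rw [mul_one] at h2 h3
      rw [h2, h3] at h1
      have h4 : (a - a') * (β 1 * β' 1) = 0 := by
        linear_combination h1
      rcases mul_eq_zero.1 h4 with h | h
      · exact sub_eq_zero.1 h
      · exact absurd h (mul_ne_zero hb0 hb0')
    have hcent : Subgroup.centralizer ({g} : Set H) = Subgroup.centralizer ({y} : Set H) := by
      ext x
      simp only [Subgroup.mem_centralizer_singleton_iff]
      constructor
      · intro h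
        have h1 : x * (z * y) = (z * y) * x := by rw [← hgz]; exact h
        have h2 : z * (x * y) = z * (y * x) := by
          calc z * (x * y) = (z * x) * y := by group
            _ = (x * z) * y := by rw [hzc]
            _ = x * (z * y) := by group
            _ = (z * y) * x := h1
            _ = z * (y * x) := by group
        exact mul_left_cancel h2
      · intro h
        rw [hgz]
        calc x * (z * y) = (x * z) * y := by group
          _ = (z * x) * y := by rw [hzc]
          _ = z * (x * y) := by group
          _ = z * (y * x) := by rw [h]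
          _ = (z * y) * x := by group
    have hval : ∀ {γ : H → ℂ} {c : ℂ}, (∀ x, γ (z * x) = c * γ x) →
        centralChar γ g = c * centralChar γ y := by
      intro γ c hγ
      unfold centralChar
      rw [hcent, hgz, hγ]
      ring
    rw [hval ha, hval ha', ← haa, ← mul_sub]
    -- `a` is a local integer
    have hza : MemLocalRing M a := by
      have hm : z ^ (Nat.card H) = 1 := pow_card_eq_one'
      have hpow : ∀ k : ℕ, ∀ x, β (z ^ k * x) = a ^ k * β x := by
        intro k
        induction k with
        | zero => intro x; simp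
        | succ k ih =>
            intro x
            rw [pow_succ, mul_assoc, ih, ha, pow_succ, mul_assoc]
      have h1 := hpow (Nat.card H) 1
      rw [hm, mul_one] at h1
      have h2 : a ^ Nat.card H = 1 := by
        have h3 : (a ^ Nat.card H - 1) * β 1 = 0 := by
          rw [sub_mul, one_mul, ← h1, sub_self]
        rcases mul_eq_zero.1 h3 with h | h
        · exact sub_eq_zero.1 h
        · exact absurd h hb0
      exact Cfsg.Agent.Lib.Blocks.HeightZero.memLocalRing_of_pow_eq_one Nat.card_pos h2
    apply memLocalIdeal_mul_left hza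
    have h1 := centralChar_sub_index_of_mem hMp Q hQp hβ hy
    have h2 := centralChar_sub_index_of_mem hMp Q hQp hβ' hy
    have h3 := memLocalIdeal_sub h1 h2
    convert h3 using 1
    ring
  · exact memLocalIdeal_sub
      (memLocalIdeal_centralChar_of_not_centralizer hMp Q hQp hβ hg)
      (memLocalIdeal_centralChar_of_not_centralizer hMp Q hQp hβ' hg)

end Central

end Cfsg.Agent.Lib.Blocks.FongCentral
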