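import Mathlib
import Cfsg.Prelude.Def_Blocks
import Cfsg.Agent.Lib.Blocks.FongCentral
import Cfsg.Agent.Lib.Char.FongTensor
import Cfsg.Agent.Lib.Char.QuotRep
import Cfsg.Agent.Lib.Char.Values
import Cfsg.Agent.Lib.Char.Basic

/-!
# Reduction of Fong's theorem to a central extension

For a `G`-invariant irreducible representation `Y` of `N ⊴ G`, let `Γ = Gam Y`.  The elements `(n, Y n)`
form a normal subgroup `kerY`, and `H = Γ / kerY` is a central extension of `G / N` by a group of order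
prime to `p`, when `p ∤ |N|`.
-/

set_option autoImplicit false
set_option linter.unusedSectionVars false
set_option linter.style.haveILetI false

namespace Cfsg.Agent.Lib.Blocks.FongGam

open Cfsg Module
open Cfsg.Agent.Lib.Char.DegreeDvd Cfsg.Agent.Lib.Char.FongTensor Cfsg.Agent.Lib.Char.QuotRep
open Cfsg.Agent.Lib.Blocks.Local Cfsg.Agent.Lib.Blocks.Central

universe u v

section Core

variable {G : Type u} [Group G] {N : Subgroup G} [hN : N.Normal]
  {W : Type v} [AddCommGroup W] [Module ℂ W] [FiniteDimensional ℂ W]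
  (Y : Representation ℂ N W)

/-- `p` lies over `N` and acts as `a` times `Y`. -/
def IsSc (s : Gam Y) (a : ℂ) : Prop :=
  ∃ h : s.1.1 ∈ N, ∀ w, s.1.2 w = a • Y ⟨s.1.1, h⟩ w

variable {Y}

theorem IsSc.mul {s t : Gam Y} {a b : ℂ} (hs : IsSc Y s a) (ht : IsSc Y t b) : IsSc Y (s * t) (a * b) := by
  obtain ⟨h1, h2⟩ := hs
  obtain ⟨h3, h4⟩ := ht
  refine ⟨N.mul_mem h1 h3, fun w => ?_⟩
  show s.1.2 (t.1.2 w) = _
  rw [h4, map_smul, h2, smul_smul, mul_comm b a, ← Module.End.mul_apply, ← map_mul]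
  rfl

theorem IsSc.one : IsSc Y (1 : Gam Y) 1 :=
  ⟨N.one_mem, fun w => by
    show w = (1 : ℂ) • Y ⟨1, N.one_mem⟩ w
    rw [one_smul]
    have h : (⟨1, N.one_mem⟩ : N) = 1 := rfl
    rw [h, map_one]
    rfl⟩

theorem IsSc.inv {s : Gam Y} {a : ℂ} (ha : a ≠ 0) (hs : IsSc Y s a) : IsSc Y s⁻¹ a⁻¹ := by
  obtain ⟨h1, h2⟩ := hs
  refine ⟨N.inv_mem h1, fun w => ?_⟩
  show (s.1.2⁻¹ : W ≃ₗ[ℂ] W) w = _
  apply s.1.2.injective
  have h3 : s.1.2 ((s.1.2⁻¹ : W ≃ₗ[ℂ] W) w) = w := s.1.2.apply_symm_apply w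
  rw [h3, map_smul, h2, smul_smul, inv_mul_cancel₀ ha, one_smul, ← Module.End.mul_apply, ← map_mul]
  have h4 : (⟨s.1.1, h1⟩ * ⟨(s⁻¹ : Gam Y).1.1, N.inv_mem h1⟩ : N) = 1 := by
    apply Subtype.ext
    show s.1.1 * s.1.1⁻¹ = 1
    group
  rw [h4, map_one]
  rfl

theorem IsSc.ne_zero [Nontrivial W] {s : Gam Y} {a : ℂ} (hs : IsSc Y s a) : a ≠ 0 := by
  rintro rfl
  obtain ⟨h1, h2⟩ := hs
  obtain ⟨w, hw⟩ := exists_ne (0 : W)
  have := h2 w
  rw [zero_smul] at this
  exact hw (s.1.2.map_eq_zero_iff.1 this)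

theorem IsSc.unique [Nontrivial W] {s : Gam Y} {a b : ℂ} (hs : IsSc Y s a) (ht : IsSc Y s b) : a = b := by
  obtain ⟨h1, h2⟩ := hs
  obtain ⟨h3, h4⟩ := ht
  obtain ⟨w, hw⟩ := exists_ne (0 : W)
  have h5 := h2 w
  rw [h4 w] at h5
  have h6 : (b - a) • Y ⟨s.1.1, h1⟩ w = 0 := by
    rw [sub_smul, h5, sub_self]
  rcases smul_eq_zero.1 h6 with h | h
  · exact (sub_eq_zero.1 h).symm
  · exfalso
    apply hw
    have h7 : Y ⟨s.1.1, h1⟩⁻¹ (Y ⟨s.1.1, h1⟩ w) = w := by
      rw [← Module.End.mul_apply, ← map_mul, inv_mul_cancel, map_one]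
      rfl
    rw [← h7, h, map_zero]

theorem IsSc.conj {s : Gam Y} {a : ℂ} (hs : IsSc Y s a) (x : Gam Y) : IsSc Y (x * s * x⁻¹) a := by
  obtain ⟨h1, h2⟩ := hs
  have hmem : (x * s * x⁻¹).1.1 ∈ N := by
    show x.1.1 * s.1.1 * x.1.1⁻¹ ∈ N
    exact hN.conj_mem _ h1 _
  refine ⟨hmem, fun w => ?_⟩
  show x.1.2 (s.1.2 ((x.1.2⁻¹ : W ≃ₗ[ℂ] W) w)) = _
  rw [h2, map_smul, gam_apply]
  have h3 : x.1.2 ((x.1.2⁻¹ : W ≃ₗ[ℂ] W) w) = w := x.1.2.apply_symm_apply w
  rw [h3]
  rfl

/-- Every element over `N` acts as a scalar multiple of `Y`. -/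
theorem exists_isSc [Y.IsIrreducible] (s : Gam Y) (hs : s.1.1 ∈ N) : ∃ a : ℂ, IsSc Y s a := by
  set n : N := ⟨s.1.1, hs⟩ with hn
  have hc : ∀ m : N, ((Y n⁻¹) ∘ₗ (s.1.2 : W →ₗ[ℂ] W)) ∘ₗ Y m =
      Y m ∘ₗ ((Y n⁻¹) ∘ₗ (s.1.2 : W →ₗ[ℂ] W)) := by
    intro m
    ext w
    show Y n⁻¹ (s.1.2 (Y m w)) = Y m (Y n⁻¹ (s.1.2 w))
    rw [gam_apply, ← Module.End.mul_apply, ← map_mul, ← Module.End.mul_apply, ← map_mul]
    congr 2
    apply Subtype.ext
    show (n : G)⁻¹ * (s.1.1 * m * s.1.1⁻¹) = m * (n : G)⁻¹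
    have : (n : G) = s.1.1 := rfl
    rw [this]
    group
  obtain ⟨a, ha⟩ := Cfsg.Agent.Lib.Char.Integrality.exists_smul_id_of_commute Y _ hc
  refine ⟨a, hs, fun w => ?_⟩
  have h1 := LinearMap.congr_fun ha w
  have h2 : Y n (Y n⁻¹ (s.1.2 w)) = s.1.2 w := by
    rw [← Module.End.mul_apply, ← map_mul, mul_inv_cancel, map_one]
    rfl
  rw [← h2]
  have h3 : Y n⁻¹ (s.1.2 w) = a • w := h1
  rw [h3, map_smul]

variable (Y)

/-- The normal subgroup of the elements `(n, Y n)`. -/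
def kerY : Subgroup (Gam Y) where
  carrier := {s | IsSc Y s 1}
  mul_mem' := by
    intro a b ha hb
    have := IsSc.mul ha hb
    rwa [mul_one] at this
  one_mem' := IsSc.one
  inv_mem' := by
    intro a ha
    have := IsSc.inv one_ne_zero ha
    rwa [inv_one] at this

theorem mem_kerY (s : Gam Y) : s ∈ kerY Y ↔ IsSc Y s 1 := Iff.rfl

instance kerY_normal : (kerY Y).Normal :=
  ⟨fun s hs x => IsSc.conj hs x⟩

/-- The quotient group `H`. -/
abbrev HH := Gam Y ⧸ kerY Y

/-- The map `H → G / N`. -/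
def fH : HH Y →* G ⧸ N :=
  QuotientGroup.lift (kerY Y) ((QuotientGroup.mk' N).comp (piG (Y := Y))) (by
    intro _ hs
    obtain ⟨h, -⟩ := hs
    exact (QuotientGroup.eq_one_iff _).2 h)

theorem fH_mk (s : Gam Y) : fH Y (s : HH Y) = ((s.1.1 : G) : G ⧸ N) := rfl

theorem fH_surjective [Finite G] (hW : 0 < finrank ℂ W)
    (hinv : ∀ (g : G) (n : N), Y.character (cn g n) = Y.character n) :
    Function.Surjective (fH Y) := by
  intro q
  obtain ⟨g, rfl⟩ := QuotientGroup.mk_surjective q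
  obtain ⟨s, hs⟩ := piG_surjective Y hW hinv g
  exact ⟨(s : HH Y), by rw [fH_mk]; exact congrArg _ hs⟩

theorem mem_ker_fH (s : Gam Y) : (s : HH Y) ∈ (fH Y).ker ↔ s.1.1 ∈ N := by
  rw [MonoidHom.mem_ker, fH_mk, QuotientGroup.eq_one_iff]

/-- The kernel of `fH` is central. -/
theorem ker_fH_central [Nontrivial W] [Y.IsIrreducible] (z : HH Y) (hz : z ∈ (fH Y).ker) (x : HH Y) :
    x * z = z * x := by
  obtain ⟨s, rfl⟩ := QuotientGroup.mk_surjective z
  obtain ⟨q, rfl⟩ := QuotientGroup.mk_surjective x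
  rw [mem_ker_fH] at hz
  obtain ⟨a, ha⟩ := exists_isSc s hz
  rw [← QuotientGroup.mk_mul, ← QuotientGroup.mk_mul, QuotientGroup.eq]
  have h1 := (IsSc.inv ha.ne_zero ha).mul (ha.conj q⁻¹)
  rw [inv_mul_cancel₀ ha.ne_zero] at h1
  have h2 : (q * s)⁻¹ * (s * q) = s⁻¹ * (q⁻¹ * s * q⁻¹⁻¹) := by group
  rw [h2]
  exact h1

/-- Elements of the kernel have order prime to `p`. -/
theorem ker_fH_pprime [Nontrivial W] [Finite G] [Y.IsIrreducible] {p : ℕ} (hp : p.Prime)
    (hNp : ¬ p ∣ Nat.card N) (z : HH Y) (hz : z ∈ (fH Y).ker)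
    (hpz : ∃ k : ℕ, z ^ (p ^ k) = 1) : z = 1 := by
  obtain ⟨s, rfl⟩ := QuotientGroup.mk_surjective z
  rw [mem_ker_fH] at hz
  obtain ⟨k, hk⟩ := hpz
  have hW : 0 < finrank ℂ W := Module.finrank_pos
  have h1 : (s ^ Nat.card N).1.1 = 1 := by
    have h2 : ((⟨s.1.1, hz⟩ : N) ^ Nat.card N) = 1 := pow_card_eq_one'
    have h3 : s.1.1 ^ Nat.card N = 1 := by
      have := congrArg Subtype.val h2
      rwa [SubgroupClass.coe_pow] at this
    have h4 : (s ^ Nat.card N).1.1 = s.1.1 ^ Nat.card N := map_pow (piG (Y := Y)) s _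
    rw [h4, h3]
  obtain ⟨c, hc1, hc2⟩ := exists_root_of_mem_ker Y (s ^ Nat.card N) h1
  have hpow : ∀ n : ℕ, (((s ^ Nat.card N) ^ n).1.2 : W →ₗ[ℂ] W) = c ^ n • LinearMap.id := by
    intro n
    induction n with
    | zero => simp
    | succ n ih =>
        rw [pow_succ]
        show (((s ^ Nat.card N) ^ n).1.2 : W →ₗ[ℂ] W) ∘ₗ ((s ^ Nat.card N).1.2 : W →ₗ[ℂ] W) = _
        rw [ih, hc2, pow_succ]
        ext w
        simp [smul_smul]
  have h5 : (s ^ Nat.card N) ^ finrank ℂ W = 1 := by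
    apply Subtype.ext
    apply Prod.ext
    · have h6 : ((s ^ Nat.card N) ^ finrank ℂ W).1.1 = (s ^ Nat.card N).1.1 ^ finrank ℂ W :=
        map_pow (piG (Y := Y)) _ _
      rw [h6, h1, one_pow]
      rfl
    · apply LinearEquiv.toLinearMap_injective
      rw [hpow, hc1, one_smul]
      rfl
  -- now combine
  have ht : finrank ℂ W ∣ Nat.card N := Cfsg.Agent.Lib.Char.Integrality.finrank_dvd_card Y
  have h7 : ((s : HH Y)) ^ (Nat.card N * finrank ℂ W) = 1 := by
    rw [← QuotientGroup.mk_pow, pow_mul, h5]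
    rfl
  have hcop : Nat.Coprime (p ^ k) (Nat.card N * finrank ℂ W) := by
    apply Nat.Coprime.pow_left
    apply (Nat.Prime.coprime_iff_not_dvd hp).2
    intro h
    rcases (Nat.Prime.dvd_mul hp).1 h with h | h
    · exact hNp h
    · exact hNp (h.trans ht)
  have h8 := orderOf_dvd_of_pow_eq_one hk
  have h9 := orderOf_dvd_of_pow_eq_one h7
  exact orderOf_eq_one_iff.1 (Nat.eq_one_of_dvd_coprimes hcop h8 h9)

end Core

section Rep

variable {G : Type u} [Group G] {N : Subgroup G} [hN : N.Normal]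
  {V : Type v} [AddCommGroup V] [Module ℂ V] [FiniteDimensional ℂ V]
  {W : Type v} [AddCommGroup W] [Module ℂ W] [FiniteDimensional ℂ W]
  (ρ : Representation ℂ G V) (Y : Representation ℂ N W)

/-- Action of an element with scalar `a` on `U`. -/
theorem repU_of_isSc {s : Gam Y} {a : ℂ} (ha0 : a ≠ 0) (hs : IsSc Y s a) :
    repU ρ Y s = a⁻¹ • (LinearMap.id : Uhom ρ Y →ₗ[ℂ] Uhom ρ Y) := by
  obtain ⟨h1, hT⟩ := hs
  ext f w
  obtain ⟨x, rfl⟩ := s.1.2.surjective w
  rw [repU_apply']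
  show ρ s.1.1 ((f : W →ₗ[ℂ] V) x) = a⁻¹ • (f : W →ₗ[ℂ] V) (s.1.2 x)
  rw [hT, map_smul, (mem_Uhom_iff ρ Y _).1 f.2 ⟨s.1.1, h1⟩ x, smul_smul, inv_mul_cancel₀ ha0, one_smul]

/-- The representation of `H` on `U`. -/
noncomputable def repH : Representation ℂ (HH Y) (Uhom ρ Y) :=
  quotRep (repU ρ Y) (kerY Y) (fun s hs => by
    rw [repU_of_isSc ρ Y one_ne_zero hs, inv_one, one_smul]
    rfl)

theorem repH_mk (s : Gam Y) : repH ρ Y (s : HH Y) = repU ρ Y s := rfl

theorem repH_isIrreducible [Finite G] [ρ.IsIrreducible] [Y.IsIrreducible]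
    (hinv : ∀ (g : G) (n : N), Y.character (cn g n) = Y.character n)
    (hU : 0 < finrank ℂ (Uhom ρ Y))
    (hdim : finrank ℂ (Uhom ρ Y) * finrank ℂ W = finrank ℂ V) : (repH ρ Y).IsIrreducible := by
  haveI hnt : Nontrivial W := Cfsg.Agent.Lib.Char.Integrality.nontrivial_of_isIrreducible Y
  haveI := repU_irreducible ρ Y Module.finrank_pos hinv hU hdim
  exact quotRep_isIrreducible (repU ρ Y) (kerY Y) _

theorem character_repH_of_isSc {s : Gam Y} {a : ℂ} (ha0 : a ≠ 0) (hs : IsSc Y s a) :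
    (repH ρ Y).character (s : HH Y) = a⁻¹ * (repH ρ Y).character 1 := by
  show LinearMap.trace ℂ _ (repU ρ Y s) = _
  rw [repU_of_isSc ρ Y ha0 hs, map_smul, smul_eq_mul, Representation.char_one, LinearMap.trace_id]

/-- The character of `H` on `U`. -/
noncomputable def betaH : HH Y → ℂ := (repH ρ Y).character

theorem betaH_one : betaH ρ Y 1 = (finrank ℂ (Uhom ρ Y) : ℂ) := Representation.char_one _

theorem betaH_of_isSc {s : Gam Y} {a : ℂ} (ha0 : a ≠ 0) (hs : IsSc Y s a) :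
    betaH ρ Y (s : HH Y) = a⁻¹ * betaH ρ Y 1 := character_repH_of_isSc ρ Y ha0 hs

theorem isIrr_betaH [Finite G] [ρ.IsIrreducible] [Y.IsIrreducible]
    (hinv : ∀ (g : G) (n : N), Y.character (cn g n) = Y.character n)
    (hU : 0 < finrank ℂ (Uhom ρ Y))
    (hdim : finrank ℂ (Uhom ρ Y) * finrank ℂ W = finrank ℂ V) :
    IsIrrCharacter (HH Y) (betaH ρ Y) := by
  haveI := repH_isIrreducible ρ Y hinv hU hdim
  exact Cfsg.Agent.Lib.Char.Basic.isIrrCharacter_of_rep _

/-- The tensor identity. -/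
theorem char_eq_betaH [Finite G] [ρ.IsIrreducible] [Y.IsIrreducible]
    (hinv : ∀ (g : G) (n : N), Y.character (cn g n) = Y.character n)
    (hU : 0 < finrank ℂ (Uhom ρ Y))
    (hdim : finrank ℂ (Uhom ρ Y) * finrank ℂ W = finrank ℂ V) (s : Gam Y) :
    ρ.character s.1.1 = betaH ρ Y (s : HH Y) * LinearMap.trace ℂ W (s.1.2 : W →ₗ[ℂ] W) := by
  haveI hnt : Nontrivial W := Cfsg.Agent.Lib.Char.Integrality.nontrivial_of_isIrreducible Y
  exact character_piG ρ Y Module.finrank_pos hinv hU hdim s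

end Rep

section Index

variable {H : Type*} [Group H] [Finite H] {Gb : Type*} [Group Gb] [Finite Gb]

/-- The centralizer of `x` has index prime to `p` in the preimage of the centralizer of its image,
for a central extension with kernel of order prime to `p`. -/
theorem not_dvd_relIndex {p : ℕ} [Fact p.Prime] (f : H →* Gb) (hc : ∀ z ∈ f.ker, ∀ x, x * z = z * x)
    (hp' : ∀ z ∈ f.ker, (∃ k : ℕ, z ^ (p ^ k) = 1) → z = 1) (x : H) :
    ¬ p ∣ (Subgroup.centralizer ({x} : Set H)).relIndex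
      ((Subgroup.centralizer ({f x} : Set Gb)).comap f) := by
  set A := (Subgroup.centralizer ({f x} : Set Gb)).comap f with hA
  set C := Subgroup.centralizer ({x} : Set H) with hC
  obtain ⟨S⟩ : Nonempty (Sylow p A) := inferInstance
  have hS : (S : Subgroup A) ≤ C.subgroupOf A := by
    intro y hy
    rw [Subgroup.mem_subgroupOf, hC, Subgroup.mem_centralizer_singleton_iff]
    obtain ⟨e, he⟩ := S.isPGroup' ⟨y, hy⟩
    have he1 : (y : H) ^ (p ^ e) = 1 := by
      have := congrArg (fun z : S => ((z : A) : H)) he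
      simpa using this
    have hyA : f (y : H) * f x = f x * f y :=
      Subgroup.mem_centralizer_singleton_iff.1 (show f (y : H) ∈ _ from y.2)
    set c := (y : H) * x * (y : H)⁻¹ * x⁻¹ with hcdef
    have hck : c ∈ f.ker := by
      rw [MonoidHom.mem_ker, hcdef]
      simp only [map_mul, map_inv]
      rw [hyA]
      group
    have hxc : (y : H) * x * (y : H)⁻¹ = c * x := by rw [hcdef]; group
    have hpow : ∀ n : ℕ, (y : H) ^ n * x * ((y : H) ^ n)⁻¹ = c ^ n * x := by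
      intro n
      induction n with
      | zero => simp
      | succ n ih =>
          calc (y : H) ^ (n + 1) * x * ((y : H) ^ (n + 1))⁻¹
              = (y : H) ^ n * ((y : H) * x * (y : H)⁻¹) * ((y : H) ^ n)⁻¹ := by
                rw [pow_succ]; group
            _ = (y : H) ^ n * (c * x) * ((y : H) ^ n)⁻¹ := by rw [hxc]
            _ = c * ((y : H) ^ n * x * ((y : H) ^ n)⁻¹) := by
                have h2 : (y : H) ^ n * c = c * (y : H) ^ n := hc c hck _
                calc (y : H) ^ n * (c * x) * ((y : H) ^ n)⁻¹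
                    = ((y : H) ^ n * c) * x * ((y : H) ^ n)⁻¹ := by group
                  _ = (c * (y : H) ^ n) * x * ((y : H) ^ n)⁻¹ := by rw [h2]
                  _ = _ := by group
            _ = c * (c ^ n * x) := by rw [ih]
            _ = c ^ (n + 1) * x := by rw [pow_succ']; group
    have h3 := hpow (p ^ e)
    rw [he1, one_mul, inv_one, mul_one] at h3
    have h4 : c ^ (p ^ e) = 1 := by
      have : c ^ (p ^ e) * x = 1 * x := by rw [← h3, one_mul]
      exact mul_right_cancel this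
    have h5 : c = 1 := hp' c hck ⟨e, h4⟩
    have h6 : (y : H) * x * (y : H)⁻¹ = x := by rw [hxc, h5, one_mul]
    exact (mul_inv_eq_iff_eq_mul.1 h6).symm ▸ rfl
  intro hdvd
  exact S.not_dvd_index (hdvd.trans (Subgroup.index_dvd_of_le hS))

/-- Comparison of the `p`-parts of class sizes. -/
theorem factorization_index_le {G : Type*} [Group G] [Finite G] {p : ℕ} [Fact p.Prime]
    (f : H →* Gb) (hf : Function.Surjective f) (hc : ∀ z ∈ f.ker, ∀ x, x * z = z * x)
    (hp' : ∀ z ∈ f.ker, (∃ k : ℕ, z ^ (p ^ k) = 1) → z = 1) (q : G →* Gb)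
    (hq : Function.Surjective q) {x : H} {g : G} (hxg : f x = q g) :
    ((Subgroup.centralizer ({x} : Set H)).index).factorization p ≤
      ((Subgroup.centralizer ({g} : Set G)).index).factorization p := by
  set A := (Subgroup.centralizer ({f x} : Set Gb)).comap f with hA
  have hCA : Subgroup.centralizer ({x} : Set H) ≤ A := by
    intro y hy
    have h1 : y * x = x * y := Subgroup.mem_centralizer_singleton_iff.1 hy
    show f y ∈ Subgroup.centralizer ({f x} : Set Gb)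
    rw [Subgroup.mem_centralizer_singleton_iff, ← map_mul, h1, map_mul]
  have h1 := Subgroup.relIndex_mul_index hCA
  have h2 : A.index = (Subgroup.centralizer ({f x} : Set Gb)).index :=
    Subgroup.index_comap_of_surjective _ hf
  have hw := not_dvd_relIndex f hc hp' x
  have hw0 : (Subgroup.centralizer ({x} : Set H)).relIndex A ≠ 0 := Subgroup.index_ne_zero_of_finite
  have hk0 : A.index ≠ 0 := Subgroup.index_ne_zero_of_finite
  rw [← h1, Nat.factorization_mul hw0 hk0, Finsupp.add_apply,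
    Nat.factorization_eq_zero_of_not_dvd hw, zero_add, h2, hxg]
  -- the class size in `G`
  set B := (Subgroup.centralizer ({q g} : Set Gb)).comap q with hB
  have hCB : Subgroup.centralizer ({g} : Set G) ≤ B := by
    intro y hy
    have h1 : y * g = g * y := Subgroup.mem_centralizer_singleton_iff.1 hy
    show q y ∈ Subgroup.centralizer ({q g} : Set Gb)
    rw [Subgroup.mem_centralizer_singleton_iff, ← map_mul, h1, map_mul]
  have h3 : B.index = (Subgroup.centralizer ({q g} : Set Gb)).index :=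
    Subgroup.index_comap_of_surjective _ hq
  have h4 : B.index ∣ (Subgroup.centralizer ({g} : Set G)).index := Subgroup.index_dvd_of_le hCB
  rw [h3] at h4
  have hn0 : (Subgroup.centralizer ({g} : Set G)).index ≠ 0 := Subgroup.index_ne_zero_of_finite
  have hd0 : (Subgroup.centralizer ({q g} : Set Gb)).index ≠ 0 := Subgroup.index_ne_zero_of_finite
  exact (Nat.factorization_le_iff_dvd hd0 hn0).2 h4 p

end Index

end Cfsg.Agent.Lib.Blocks.FongGam
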