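import Mathlib
import Cfsg.Agent.Lib.Blocks.Fong
import Cfsg.Agent.Lib.Blocks.FirstMain2
import Cfsg.Agent.Lib.Char.GlaubP
import Cfsg.Agent.Lib.Solvable.AxB

/-!
# Fong's theorem, local part: blocks of `C_G(R)` inducing the block over an invariant character

`K` is a normal `p'`-subgroup of `G`, `θ ∈ Irr(K)` is `G`-invariant, `L ⊇ K` normal with `L / K` a `p`-group,
`Q` a Sylow `p`-subgroup of `L` with `C_G(Q) ≤ L`.  For every `p`-subgroup `R` of `G` exactly one block of `C_G(R)`
induces the block of characters over `θ`.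
-/

set_option autoImplicit false
set_option linter.unusedSectionVars false
set_option linter.style.haveILetI false

namespace Cfsg.Agent.Lib.Blocks.FongLocal

open Cfsg Cfsg.Agent.Lib.Blocks.Local Cfsg.Agent.Lib.Blocks.Central Cfsg.Agent.Lib.Blocks.Osima
  Cfsg.Agent.Lib.Blocks.Covering Cfsg.Agent.Lib.Blocks.Defect Cfsg.Agent.Lib.Blocks.Knorr
  Cfsg.Agent.Lib.Blocks.FongReynolds Cfsg.Agent.Lib.Blocks.Transport Cfsg.Agent.Lib.Blocks.Fong
  Cfsg.Agent.Lib.Blocks.BrauerMap Cfsg.Agent.Lib.Blocks.Twisted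
open scoped ComplexConjugate

universe u

section Struct

open Cfsg.Agent.Lib.Solvable.PSeries Cfsg.Agent.Lib.Basic.PCore

variable {X : Type u} [Group X] [Finite X] {p : ℕ} [Fact p.Prime]

/-- If the `p'`-elements acting trivially on `O_{p',p}`-type quotient lie in `Y`, then a Sylow subgroup of the
`p`-step over `Y` contains its centralizer modulo the `p`-step. -/
theorem centralizer_le_stepP_of_star {Y Q : Subgroup X} [Y.Normal] (hYp : ¬ p ∣ Nat.card Y)
    (hstar : ∀ z : X, (orderOf z).Coprime p → (∀ u ∈ stepP p Y, z * u * z⁻¹ * u⁻¹ ∈ Y) → z ∈ Y)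
    (hQL : Q ≤ stepP p Y) (hQp : IsPGroup p Q) (hQS : ¬ p ∣ Q.relIndex (stepP p Y)) :
    Subgroup.centralizer (Q : Set X) ≤ stepP p Y := by
  classical
  have hmap := map_eq_map_of_sylow hYp (le_stepP p Y) (relIndex_stepP Y) hQL hQp hQS
  have hcore : (stepP p Y).map (QuotientGroup.mk' Y) = pCore p (X ⧸ Y) :=
    Subgroup.map_comap_eq_self_of_surjective (QuotientGroup.mk'_surjective _) _
  set A : Subgroup (X ⧸ Y) := Subgroup.centralizer (pCore p (X ⧸ Y) : Set (X ⧸ Y)) with hA
  have hAn : A.Normal := inferInstance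
  have hAp : IsPGroup p A := by
    intro a
    obtain ⟨x, hx⟩ := QuotientGroup.mk'_surjective Y (a : X ⧸ Y)
    have hx0 : orderOf x ≠ 0 := (orderOf_pos x).ne'
    obtain ⟨k, m, hpm, hkm⟩ := Nat.exists_eq_pow_mul_and_not_dvd hx0 p (Fact.out : p.Prime).ne_one
    refine ⟨k, ?_⟩
    apply Subtype.ext
    have hz : x ^ p ^ k ∈ Y := by
      apply hstar
      · have h1 : p ^ k ∣ orderOf x := by rw [hkm]; exact dvd_mul_right _ _
        rw [orderOf_pow_of_dvd (pow_ne_zero _ (Fact.out : p.Prime).ne_zero) h1]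
        have h2 : orderOf x / p ^ k = m := by
          rw [hkm]
          exact Nat.mul_div_cancel_left _ (pow_pos (Fact.out : p.Prime).pos _)
        rw [h2]
        exact ((Nat.Prime.coprime_iff_not_dvd (Fact.out : p.Prime)).2 hpm).symm
      · intro u hu
        have hu' : QuotientGroup.mk' Y u ∈ pCore p (X ⧸ Y) := hu
        have hc : Commute (QuotientGroup.mk' Y x) (QuotientGroup.mk' Y u) := by
          have := Subgroup.mem_centralizer_iff.1 a.2 _ hu'
          rw [← hx] at this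
          exact this.symm
        have hc2 := hc.pow_left (p ^ k)
        rw [← QuotientGroup.eq_one_iff]
        have : ((x ^ p ^ k * u * (x ^ p ^ k)⁻¹ * u⁻¹ : X) : X ⧸ Y) =
            QuotientGroup.mk' Y x ^ p ^ k * QuotientGroup.mk' Y u * (QuotientGroup.mk' Y x ^ p ^ k)⁻¹ *
              (QuotientGroup.mk' Y u)⁻¹ := by
          simp
        rw [this, hc2.eq]
        group
    have h3 := (QuotientGroup.eq_one_iff (x ^ p ^ k)).2 hz
    have h4 : ((x ^ p ^ k : X) : X ⧸ Y) = QuotientGroup.mk' Y x ^ p ^ k := by simp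
    rw [h4, hx] at h3
    simpa using h3
  intro x hx
  show (QuotientGroup.mk' Y) x ∈ pCore p (X ⧸ Y)
  apply le_pCore hAn hAp
  rw [hA, Subgroup.mem_centralizer_iff]
  intro y hy
  have hy' : y ∈ Q.map (QuotientGroup.mk' Y) := by
    rw [hmap, hcore]
    exact hy
  obtain ⟨q, hq, rfl⟩ := hy'
  rw [← map_mul, ← map_mul, Subgroup.mem_centralizer_iff.1 hx q hq]

variable {G : Type u} [Group G] [Finite G]

/-- The hypothesis of `centralizer_le_stepP_of_star` at the centralizer of a `p`-subgroup. -/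
theorem mem_of_centralizer_of_coprime {K L Q R : Subgroup G} [K.Normal] [L.Normal]
    (hKp : ¬ p ∣ Nat.card K) (hKL : K ≤ L) (hL : ∃ k : ℕ, K.relIndex L = p ^ k) (hQL : Q ≤ L)
    (hQp : IsPGroup p Q) (hQS : ¬ p ∣ Q.relIndex L) (hCQ : Subgroup.centralizer (Q : Set G) ≤ L)
    (hRp : IsPGroup p R) {z : G} (hzR : z ∈ Subgroup.centralizer (R : Set G))
    (hzord : (orderOf z).Coprime p)
    (hz : ∀ u ∈ L ⊓ Subgroup.centralizer (R : Set G), z * u * z⁻¹ * u⁻¹ ∈ K) : z ∈ K := by
  classical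
  set π := QuotientGroup.mk' K with hπ
  have hπs : Function.Surjective π := QuotientGroup.mk'_surjective K
  have hpp : p.Prime := Fact.out
  have hLp : IsPGroup p (L.map π) := by
    rw [isPGroup_iff_card, card_map_mk']
    exact hL
  have hLn : (L.map π).Normal := Subgroup.Normal.map inferInstance _ hπs
  -- `K ∩ p-group = 1`
  have hKinf : ∀ {P : Subgroup G}, IsPGroup p P → ∀ x ∈ P, x ∈ K → x = 1 := by
    intro P hP x hxP hxK
    obtain ⟨n, hn⟩ := hP ⟨x, hxP⟩
    have h4 : orderOf x ∣ Nat.card K := Subgroup.orderOf_dvd_natCard K hxK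
    have h5 : orderOf x ∣ p ^ n := by
      apply orderOf_dvd_of_pow_eq_one
      have := congrArg Subtype.val hn
      simpa using this
    have h6 : Nat.Coprime (p ^ n) (Nat.card K) :=
      Nat.Coprime.pow_left n ((Nat.Prime.coprime_iff_not_dvd hpp).2 hKp)
    exact orderOf_eq_one_iff.1 (Nat.eq_one_of_dvd_coprimes h6 h5 h4)
  -- a Sylow subgroup containing `R`
  obtain ⟨T, hRT⟩ := hRp.exists_le_sylow
  have hLT : L.map π ≤ (T : Subgroup G).map π := by
    have h2 := hLp.le_sylow_of_normal (T.mapSurjective hπs)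
    simpa using h2
  have hlift : ∀ l ∈ L, ∃ q ∈ (T : Subgroup G) ⊓ L, π q = π l := by
    intro l hl
    obtain ⟨t, ht, hlt⟩ := hLT ⟨l, hl, rfl⟩
    refine ⟨t, ⟨ht, ?_⟩, hlt⟩
    have h1 : l⁻¹ * t ∈ K := QuotientGroup.eq.1 hlt.symm
    have h2 : t = l * (l⁻¹ * t) := by group
    rw [h2]
    exact L.mul_mem hl (hKL h1)
  have hcomm : ∀ {x y : G}, x * y * x⁻¹ * y⁻¹ ∈ K ↔ π x * π y = π y * π x := by
    intro x y
    rw [← QuotientGroup.eq_one_iff]
    have : ((x * y * x⁻¹ * y⁻¹ : G) : G ⧸ K) = π x * π y * (π x)⁻¹ * (π y)⁻¹ := by simp [hπ]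
    rw [this]
    constructor
    · intro h
      have h3 := h
      rw [mul_inv_eq_one, mul_inv_eq_iff_eq_mul] at h3
      exact h3
    · intro h
      rw [h]
      group
  set A : Subgroup (G ⧸ K) := Subgroup.zpowers (π z) with hAdef
  have hcard : (orderOf (π z)).Coprime p :=
    Nat.Coprime.coprime_dvd_left (orderOf_map_dvd π z) hzord
  have hab : L.map π ≤ Subgroup.centralizer (A : Set (G ⧸ K)) := by
    apply Cfsg.Agent.Lib.Solvable.AxB.ab_lemma (p := p) (A := A) (B := R.map π) (P := L.map π) hLp (hRp.map π)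
    · rw [hAdef, Nat.card_zpowers]
      exact hcard
    · rw [hAdef, Subgroup.zpowers_le, Subgroup.mem_centralizer_iff]
      rintro _ ⟨r, hr, rfl⟩
      rw [← map_mul, ← map_mul, Subgroup.mem_centralizer_iff.1 hzR r hr]
    · rw [Subgroup.normalizer_eq_top_iff.2 hLn]
      exact le_top
    · rw [Subgroup.normalizer_eq_top_iff.2 hLn]
      exact le_top
    · rintro a ⟨⟨l, hl, rfl⟩, ha2⟩
      obtain ⟨q, ⟨hqT, hqL⟩, hq⟩ := hlift l hl
      have hqC : q ∈ Subgroup.centralizer (R : Set G) := by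
        rw [Subgroup.mem_centralizer_iff]
        intro r hr
        have hrT : r ∈ (T : Subgroup G) := hRT hr
        have h1 : r * q * r⁻¹ * q⁻¹ ∈ K := by
          rw [hcomm]
          have := Subgroup.mem_centralizer_iff.1 ha2 (π r) ⟨r, hr, rfl⟩
          rw [hq]
          exact this
        have h2 : r * q * r⁻¹ * q⁻¹ ∈ (T : Subgroup G) :=
          T.1.mul_mem (T.1.mul_mem (T.1.mul_mem hrT hqT) (T.1.inv_mem hrT)) (T.1.inv_mem hqT)
        have h3 := hKinf T.isPGroup' _ h2 h1
        have h4 : r * q * r⁻¹ = q := by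
          rwa [mul_inv_eq_one] at h3
        rwa [mul_inv_eq_iff_eq_mul] at h4
      have h5 := hcomm.1 (hz q ⟨hqL, hqC⟩)
      rw [hq] at h5
      rw [Subgroup.mem_centralizer_iff]
      intro b hb
      obtain ⟨n, rfl⟩ := Subgroup.mem_zpowers_iff.1 hb
      exact (Commute.zpow_left h5 n).eq
  have hzL' : ∀ l ∈ L, π z * π l = π l * π z := by
    intro l hl
    have := Subgroup.mem_centralizer_iff.1 (hab ⟨l, hl, rfl⟩) (π z) (Subgroup.mem_zpowers _)
    exact this
  -- the Frattini argument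
  have hQp' : IsPGroup p (Q.subgroupOf L) :=
    hQp.comap_of_injective _ L.subtype_injective |>.of_equiv (MulEquiv.refl _)
  set S : Sylow p L := hQp'.toSylow hQS with hS
  have hF := Sylow.normalizer_sup_eq_top S
  have hSQ : (S : Subgroup L).map L.subtype = Q := by
    show (Q.subgroupOf L).map L.subtype = Q
    rw [Subgroup.subgroupOf_map_subtype, inf_of_le_left hQL]
  have hzmem : z ∈ Subgroup.normalizer (Q : Set G) ⊔ L := by
    have : Subgroup.normalizer (Q : Set G) ⊔ L = ⊤ := by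
      rw [← hSQ]
      exact hF
    rw [this]
    exact Subgroup.mem_top z
  obtain ⟨w, hw, l, hl, hwl⟩ := Subgroup.mem_sup_of_normal_right.1 hzmem
  have hmap := map_eq_map_of_sylow hKp hKL hL hQL hQp hQS
  obtain ⟨q, hq, hql⟩ : π l ∈ Q.map π := by
    rw [hmap]
    exact ⟨l, hl, rfl⟩
  have hk : q⁻¹ * l ∈ K := QuotientGroup.eq.1 hql
  have hw' : w * q ∈ Subgroup.normalizer (Q : Set G) :=
    Subgroup.mul_mem _ hw (Subgroup.le_normalizer hq)
  have hzeq : z = (w * q) * (q⁻¹ * l) := by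
    rw [← hwl]
    group
  have hπk : π (q⁻¹ * l) = 1 := (QuotientGroup.eq_one_iff _).2 hk
  have hπw : π (w * q) = π z := by
    conv_rhs => rw [hzeq, map_mul, hπk, mul_one]
  have hwC : w * q ∈ Subgroup.centralizer (Q : Set G) := by
    rw [Subgroup.mem_centralizer_iff]
    intro q' hq'
    have h1 : (w * q) * q' * (w * q)⁻¹ * q'⁻¹ ∈ K := by
      rw [hcomm, hπw]
      exact hzL' q' (hQL hq')
    have h2 : (w * q) * q' * (w * q)⁻¹ * q'⁻¹ ∈ Q :=
      Q.mul_mem ((Subgroup.mem_normalizer_iff.1 hw' q').1 hq') (Q.inv_mem hq')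
    have h3 := hKinf hQp _ h2 h1
    have h4 : (w * q) * q' * (w * q)⁻¹ = q' := by
      rwa [mul_inv_eq_one] at h3
    rw [mul_inv_eq_iff_eq_mul] at h4
    exact h4.symm
  have hzL : z ∈ L := by
    rw [hzeq]
    exact L.mul_mem (hCQ hwC) (hKL hk)
  obtain ⟨n, hn⟩ := hLp ⟨π z, ⟨z, hzL, rfl⟩⟩
  have h5 : orderOf (π z) ∣ p ^ n := by
    apply orderOf_dvd_of_pow_eq_one
    have := congrArg Subtype.val hn
    simpa using this
  have h6 : Nat.Coprime (p ^ n) (orderOf (π z)) := (Nat.Coprime.pow_right n hcard).symm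
  have h7 := Nat.eq_one_of_dvd_coprimes h6 h5 dvd_rfl
  exact (QuotientGroup.eq_one_iff z).1 (orderOf_eq_one_iff.1 h7)

end Struct

section LocalFong

open Cfsg.Agent.Lib.Solvable.PSeries Cfsg.Agent.Lib.Basic.PCore

variable {X : Type u} [Group X] [Fintype X] {Y : Subgroup X} [Y.Normal] [Fintype Y] {M : Ideal AlgInt}
  {p : ℕ} [Fact p.Prime]

/-- Fong's theorem, given the structural hypothesis on the `p'`-elements. -/
theorem sameBlock_of_over_of_star (hM : IsPModular p M) (hYp : ¬ p ∣ Nat.card Y)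
    (hstar : ∀ z : X, (orderOf z).Coprime p → (∀ u ∈ stepP p Y, z * u * z⁻¹ * u⁻¹ ∈ Y) → z ∈ Y)
    {β : IrrCharacter Y} (hinv : ∀ x : X, conjIrr x β = β) {ξ₁ ξ₂ : IrrCharacter X}
    (h₁ : classInner (fun y : Y => (ξ₁ : X → ℂ) y) (β : Y → ℂ) ≠ 0)
    (h₂ : classInner (fun y : Y => (ξ₂ : X → ℂ) y) (β : Y → ℂ) ≠ 0) :
    SameBlock M (ξ₁ : X → ℂ) (ξ₂ : X → ℂ) := by
  classical
  haveI : Fintype (stepP p Y) := Fintype.ofFinite _
  obtain ⟨S⟩ : Nonempty (Sylow p (stepP p Y)) := inferInstance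
  set Q : Subgroup X := (S : Subgroup (stepP p Y)).map (stepP p Y).subtype with hQ
  have hQL : Q ≤ stepP p Y := Subgroup.map_subtype_le _
  have hQp : IsPGroup p Q := S.isPGroup'.map _
  have hQS : ¬ p ∣ Q.relIndex (stepP p Y) := by
    have : Q.subgroupOf (stepP p Y) = (S : Subgroup (stepP p Y)) :=
      Subgroup.comap_map_eq_self_of_injective (stepP p Y).subtype_injective _
    rw [Subgroup.relIndex, this]
    exact S.not_dvd_index
  exact sameBlock_of_over hM hYp (le_stepP p Y) (relIndex_stepP Y) hQL hQp hQS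
    (centralizer_le_stepP_of_star hYp hstar hQL hQp hQS) hinv h₁ h₂

end LocalFong

section Abstract

open Cfsg.Agent.Lib.Char.GlaubRel

variable {X : Type u} [Group X] [Fintype X] {Y : Subgroup X} [Fintype Y] {M : Ideal AlgInt}
  {p : ℕ} [Fact p.Prime]

/-- A central element `t` of `ℂ[X]` supported on `Y` with `t(y) = a conj f(y)`, where `f` is `± β` modulo `p`:
an irreducible `ξ` on which `t` does not vanish modulo `M` lies over `β`. -/
theorem over_of_not_memLocalIdeal_omega (hM : IsPModular p M) (hYp : ¬ p ∣ Nat.card Y)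
    {t : MonoidAlgebra ℂ X} (htc : IsClassFunction X t.coeff) (hts : ∀ x, x ∉ Y → t.coeff x = 0)
    {a : ℂ} (ha : MemLocalRing M a) {f : Y → ℂ} (hf : ∀ y : Y, t.coeff (y : X) = a * conj (f y))
    {β : IrrCharacter Y} (hβ : PRel p f β) {ξ : IrrCharacter X}
    (hξ : ¬ MemLocalIdeal M (omega (ξ : X → ℂ) t)) :
    classInner (fun y : Y => (ξ : X → ℂ) y) (β : Y → ℂ) ≠ 0 := by
  classical
  haveI := isPrime_of_isPModular hM
  obtain ⟨η, hη⟩ := exists_constituent (N := Y) ξ.2
  have ht : push Y (res Y t) = t := push_res Y hts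
  have h1 : omega (ξ : X → ℂ) t = omega (η : Y → ℂ) (res Y t) := by
    conv_lhs => rw [← ht]
    exact omega_push_eq_of_constituent ξ.2 η.2 hη (by rw [ht]; exact htc)
  obtain ⟨ε, hε, H⟩ := id hβ
  obtain ⟨m, hm, -⟩ := H η
  obtain ⟨d, hd0, hd⟩ := Cfsg.Agent.Lib.Char.Ortho.irr_degree_pos η.2
  have hdvd : d ∣ Nat.card Y := by
    obtain ⟨n, ρ, hρ, hθ⟩ := η.2
    have h1 := Cfsg.Agent.Lib.Char.Integrality.finrank_dvd_card ρ
    have h2 : (d : ℂ) = (n : ℂ) := by
      rw [← hd, ← hθ]
      simp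
    have h3 : d = n := by exact_mod_cast h2
    rw [h3]
    simpa using h1
  have hc : (Nat.card Y : ℂ) ≠ 0 := Cfsg.Agent.Lib.Char.Induced.natCard_ne_zero_complex
  have h2 : omega (η : Y → ℂ) (res Y t) = a * (Nat.card Y : ℂ) * (d : ℂ)⁻¹ * (m : ℂ) := by
    have h4 : ∑ y : Y, f y * conj ((η : Y → ℂ) y) = (Nat.card Y : ℂ) * m := by
      rw [← hm, classInner]
      field_simp
    have h5 : ∑ y : Y, (res Y t).coeff y * (η : Y → ℂ) y = a * ((Nat.card Y : ℂ) * m) := by
      have h6 := congrArg (starRingEnd ℂ) h4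
      rw [map_sum, map_mul, Complex.conj_natCast, Complex.conj_natCast] at h6
      rw [← h6, Finset.mul_sum]
      refine Finset.sum_congr rfl fun y _ => ?_
      rw [coeff_res, hf, map_mul, Complex.conj_conj]
      ring
    rw [omega, hd, h5]
    field_simp
  have hmp : ¬ p ∣ m := by
    intro hdv
    apply hξ
    rw [h1, h2]
    refine memLocalIdeal_mul_left ?_ ((memLocalIdeal_natCast_iff hM).2 hdv)
    have hd' : ¬ p ∣ d := fun h => hYp (h.trans hdvd)
    exact (localRing M).mul_mem ((localRing M).mul_mem ha (memLocalRing_natCast _))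
      (memLocalRing_inv_natCast hM hd')
  have h3 := hβ.eq_of_not_dvd hm hmp
  rw [← h3]
  exact hη

end Abstract

section Brauer

variable {G : Type u} [Group G] [Fintype G] {M : Ideal AlgInt} {p : ℕ} [Fact p.Prime]
  (R : Subgroup G) [Fintype (Subgroup.centralizer (R : Set G))]

lemma inducedCentralChar_eq_omega_brauer (ξ : Subgroup.centralizer (R : Set G) → ℂ) (g : G) :
    inducedCentralChar (Subgroup.centralizer (R : Set G)) ξ g =
      omega ξ (brauer R (Subgroup.centralizer (R : Set G)) (classSum g)) := by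
  rw [← brauerCentralChar_eq_omega, inducedCentralChar, brauerCentralChar]
  congr 1
  ext h
  simp only [Set.mem_ofPred_eq, h.2, and_true]

variable {R}

/-- If `ω_ξ ∘ brauer ≡ ω_χ` then the block of `ξ` induces the block of `χ`. -/
theorem isInducedBlock_of_brauer [M.IsPrime] {ξ : IrrCharacter (Subgroup.centralizer (R : Set G))} {χ : IrrCharacter G}
    (h : ∀ z : localCenter G M, MemLocalIdeal M
      (omega (ξ : Subgroup.centralizer (R : Set G) → ℂ) (brauer R (Subgroup.centralizer (R : Set G)) z.1) -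
        omega (χ : G → ℂ) z.1)) :
    IsInducedBlock M (Subgroup.centralizer (R : Set G))
      (blockOf M (ξ : Subgroup.centralizer (R : Set G) → ℂ)) (blockOf M (χ : G → ℂ)) := by
  refine ⟨⟨ξ, rfl⟩, ⟨χ, rfl⟩, fun ξ' hξ' χ' hχ' g => ?_⟩
  have h1 := memLocalIdeal_inducedCentralChar_sub ξ'.2 ξ.2 (sameBlock_symm hξ') g
  have h2 := h ⟨classSum g, classSum_mem_localCenter g⟩
  simp only at h2
  rw [← inducedCentralChar_eq_omega_brauer, omega_classSum (isClassFunction_of_irr χ.2)] at h2
  have h3 : MemLocalIdeal M (centralChar (χ : G → ℂ) g - centralChar (χ' : G → ℂ) g) := hχ' g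
  have h4 := memLocalIdeal_add (memLocalIdeal_add h1 h2) h3
  convert h4 using 1
  ring

/-- An idempotent of the center with a unit at `1` survives the Brauer map. -/
theorem exists_omega_brauer_not_mem [M.IsPrime] (hM : IsPModular p M) (hRp : IsPGroup p R)
    {e : MonoidAlgebra ℂ G} (he : e ∈ localCenter G M) (hee : e * e = e)
    (h1 : ¬ MemLocalIdeal M (e.coeff 1)) :
    ∃ ξ : IrrCharacter (Subgroup.centralizer (R : Set G)), ¬ MemLocalIdeal M
      (omega (ξ : Subgroup.centralizer (R : Set G) → ℂ) (brauer R (Subgroup.centralizer (R : Set G)) e)) := by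
  classical
  by_contra hno
  push_neg at hno
  set t := brauer R (Subgroup.centralizer (R : Set G)) e with htdef
  have hCN : Subgroup.centralizer (R : Set G) ≤ Subgroup.normalizer (R : Set G) :=
    Subgroup.centralizer_le_normalizer _
  have ht : t ∈ localCenter (Subgroup.centralizer (R : Set G)) M := brauer_mem_localCenter hCN he
  obtain ⟨s, hs0, hs⟩ := Cfsg.Agent.Lib.Blocks.SecondMain.exists_pow_coeffIn_of_omega ht hno
  have hΛ : CoeffIn (⊤ : Ideal (localRing M)) t := coeffIn_top_iff.mpr ht.2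
  have hsq : CoeffIn (localIdeal M) (t - t * t) := by
    rw [coeffIn_localIdeal_iff]
    intro c
    have := brauer_mul_sub_coeff hM hRp (le_refl _) he he c
    rwa [hee] at this
  have hpow : ∀ n : ℕ, CoeffIn (localIdeal M) (t ^ (n + 1) - t) := by
    intro n
    induction n with
    | zero => simpa using coeffIn_zero
    | succ n ih =>
      have h2 : t ^ (n + 1 + 1) - t = (t ^ (n + 1) - t) * t - (t - t * t) := by
        rw [pow_succ t (n + 1)]
        noncomm_ring
      rw [h2]
      exact (ih.mul_right hΛ).sub hsq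
  obtain ⟨n, rfl⟩ : ∃ n, s = n + 1 := ⟨s - 1, by omega⟩
  have h3 := hs.sub (hpow n)
  have h4 : t ^ (n + 1) - (t ^ (n + 1) - t) = t := by abel
  rw [h4, coeffIn_localIdeal_iff] at h3
  apply h1
  have h5 := h3 1
  have h6 : t.coeff 1 = e.coeff 1 := by
    rw [htdef, coeff_brauer, if_pos (1 : Subgroup.centralizer (R : Set G)).2]
    rfl
  rwa [h6] at h5

end Brauer

section Main

open Cfsg.Agent.Lib.Solvable.PSeries Cfsg.Agent.Lib.Char.GlaubRel Cfsg.Agent.Lib.Char.GlaubP

lemma blockCoeff_singleton {X : Type u} [Group X] [Fintype X] (θ : IrrCharacter X) (g : X) :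
    blockCoeff {θ} g = (Nat.card X : ℂ)⁻¹ * ((θ : X → ℂ) 1 * conj ((θ : X → ℂ) g)) := by
  classical
  rw [blockCoeff_eq_sum]
  congr 1
  refine Finset.sum_eq_single_of_mem θ (by simp) fun a ha hne => ?_
  simp only [Finset.mem_filter, Finset.mem_univ, true_and, Set.mem_singleton_iff] at ha
  exact absurd ha hne

variable {G : Type u} [Group G] [Fintype G] {K L Q : Subgroup G} [K.Normal] [L.Normal] [Fintype K]
  {M : Ideal AlgInt} {p : ℕ} [Fact p.Prime]

/-- **Fong**: for every `p`-subgroup `R`, exactly one block of `C_G(R)` induces the block over `θ`. -/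
theorem existsUnique_isInducedBlock (hM : IsPModular p M) (hKp : ¬ p ∣ Nat.card K) (hKL : K ≤ L)
    (hL : ∃ k : ℕ, K.relIndex L = p ^ k) (hQL : Q ≤ L) (hQp : IsPGroup p Q) (hQS : ¬ p ∣ Q.relIndex L)
    (hCQ : Subgroup.centralizer (Q : Set G) ≤ L) {θ : IrrCharacter K} (hinv : ∀ g : G, conjIrr g θ = θ)
    {B : Set (IrrCharacter G)} (hB : IsPBlock M B)
    (hBdef : ∀ χ : IrrCharacter G, χ ∈ B ↔ classInner (fun k : K => (χ : G → ℂ) k) (θ : K → ℂ) ≠ 0)
    {R : Subgroup G} (hRp : IsPGroup p R) :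
    ∃! f : Set (IrrCharacter (Subgroup.centralizer (R : Set G))),
      IsInducedBlock M (Subgroup.centralizer (R : Set G)) f B := by
  classical
  haveI := isPrime_of_isPModular hM
  haveI : Fintype (Subgroup.centralizer (R : Set G)) := Fintype.ofFinite _
  have hCN : Subgroup.centralizer (R : Set G) ≤ Subgroup.normalizer (R : Set G) :=
    Subgroup.centralizer_le_normalizer _
  have hstab := isConjStable_singleton hinv
  set e := blockElt B with he
  have hepush : e = push K (blockElt ({θ} : Set (IrrCharacter K))) := blockElt_eq_push hstab hBdef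
  have heloc : e ∈ localCenter G M := blockElt_mem_localCenter hB
  have hee : e * e = e := blockElt_mul_self B
  have he1 : ¬ MemLocalIdeal M (e.coeff 1) := by
    have h1 : e.coeff 1 = blockCoeff ({θ} : Set (IrrCharacter K)) (1 : K) := by
      rw [hepush]
      have := coeff_push_coe K (blockElt ({θ} : Set (IrrCharacter K))) 1
      rw [coeff_blockElt] at this
      rw [← this]
      rfl
    rw [h1]
    exact not_memLocalIdeal_blockCoeff_singleton hM hKp θ
  set t := brauer R (Subgroup.centralizer (R : Set G)) e with ht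
  have key : ∀ ξ : IrrCharacter (Subgroup.centralizer (R : Set G)), ∃ χ : IrrCharacter G,
      ∀ z : localCenter G M, MemLocalIdeal M
        (omega (ξ : Subgroup.centralizer (R : Set G) → ℂ) (brauer R (Subgroup.centralizer (R : Set G)) z.1) -
          omega (χ : G → ℂ) z.1) :=
    fun ξ => exists_irr_of_brauer hM hRp le_rfl hCN ξ.2
  have hB1 : ∀ ξ : IrrCharacter (Subgroup.centralizer (R : Set G)),
      ¬ MemLocalIdeal M (omega (ξ : Subgroup.centralizer (R : Set G) → ℂ) t) →
      IsInducedBlock M (Subgroup.centralizer (R : Set G))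
        (blockOf M (ξ : Subgroup.centralizer (R : Set G) → ℂ)) B := by
    intro ξ hξ
    obtain ⟨χ, hχ⟩ := key ξ
    have hχe : χ ∈ B := by
      by_contra hno
      apply hξ
      have := hχ ⟨e, heloc⟩
      simp only at this
      rw [omega_blockElt_of_notMem hno, sub_zero] at this
      exact this
    have hBχ : blockOf M (χ : G → ℂ) = B := by
      obtain ⟨χ₀, hχ₀⟩ := id hB
      rw [hχ₀] at hχe ⊢
      exact blockOf_eq_of_mem hχe
    rw [← hBχ]
    exact isInducedBlock_of_brauer hχ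
  have hB2 : ∀ f : Set (IrrCharacter (Subgroup.centralizer (R : Set G))),
      IsInducedBlock M (Subgroup.centralizer (R : Set G)) f B → ∀ ξ ∈ f,
      ¬ MemLocalIdeal M (omega (ξ : Subgroup.centralizer (R : Set G) → ℂ) t) := by
    intro f hf ξ hξ h0
    obtain ⟨χ, hχ⟩ := key ξ
    obtain ⟨χ₀, hχ₀⟩ := id hB
    have hχ₀m : χ₀ ∈ B := by rw [hχ₀]; exact mem_blockOf_self _
    have hχB : χ ∈ B := by
      rw [hχ₀]
      intro g
      have h1 := hf.2.2 ξ hξ χ₀ hχ₀m g
      have h2 := hχ ⟨classSum g, classSum_mem_localCenter g⟩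
      simp only at h2
      rw [← inducedCentralChar_eq_omega_brauer, omega_classSum (isClassFunction_of_irr χ.2)] at h2
      have h3 := memLocalIdeal_sub h2 h1
      convert h3 using 1
      ring
    have h3 := hχ ⟨e, heloc⟩
    simp only at h3
    rw [omega_blockElt_of_mem hχB] at h3
    apply not_memLocalIdeal_one (M := M)
    have h4 := memLocalIdeal_sub h0 h3
    convert h4 using 1
    ring
  -- the subgroup `C_K(R)` of `C_G(R)`
  have hle : K ⊓ Subgroup.centralizer (R : Set G) ≤ Subgroup.centralizer (R : Set G) := inf_le_right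
  set K₁ : Subgroup G := K ⊓ Subgroup.centralizer (R : Set G) with hK₁
  set Y : Subgroup (Subgroup.centralizer (R : Set G)) := K₁.subgroupOf (Subgroup.centralizer (R : Set G)) with hY
  have hYK : Y = K.subgroupOf (Subgroup.centralizer (R : Set G)) := Subgroup.inf_subgroupOf_right _ _
  haveI hYn : Y.Normal := by
    rw [hYK]
    exact Subgroup.Normal.subgroupOf inferInstance _
  haveI : Fintype Y := Fintype.ofFinite _
  haveI : Fintype K₁ := Fintype.ofFinite _
  set e₁ : Y ≃* K₁ := Subgroup.subgroupOfEquivOfLe hle with he₁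
  have hYp : ¬ p ∣ Nat.card Y := by
    rw [Nat.card_congr e₁.toEquiv]
    intro h
    exact hKp (h.trans (Subgroup.card_dvd_of_le inf_le_left))
  -- the Glauberman correspondent
  have hpp : p.Prime := Fact.out
  have hnorm : ∀ s ∈ R, ∀ g ∈ K, s * g * s⁻¹ ∈ K := fun s _ g hg => Subgroup.Normal.conj_mem inferInstance g hg s
  have hcop : (Nat.card K).Coprime (Nat.card R) := by
    obtain ⟨n, hn⟩ := IsPGroup.iff_card.1 hRp
    rw [hn]
    exact Nat.Coprime.pow_right n ((Nat.Prime.coprime_iff_not_dvd hpp).2 hKp).symm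
  obtain ⟨hc1, -, -⟩ := corr hpp _ R rfl hRp K K₁ hnorm hcop rfl inf_le_left
  obtain ⟨β₁, hβ₁⟩ := hc1 θ (fun s _ g g' hg => by
    have h1 := (conjIrr_apply (G := G) s θ g)
    rw [hinv s] at h1
    rw [h1]
    exact congrArg (θ : K → ℂ) (Subtype.ext hg))
  set β : IrrCharacter Y := irrComp e₁ β₁ with hβdef
  set fY : Y → ℂ := fun y => resC (inf_le_left : K₁ ≤ K) (θ : K → ℂ) (e₁ y) with hfY
  have hβ : PRel p fY β := PRel.comp_equiv e₁ hβ₁
  have hfconj : ∀ (x : Subgroup.centralizer (R : Set G)) (y : Y), fY (MulAut.conjNormal x y) = fY y := by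
    intro x y
    have hy : (((y : Subgroup.centralizer (R : Set G))) : G) ∈ K := y.2.1
    have h1 := conjIrr_apply (G := G) (x : G) θ ⟨_, hy⟩
    rw [hinv] at h1
    exact h1.symm
  have hβinv : ∀ x : Subgroup.centralizer (R : Set G), conjIrr x β = β := by
    intro x
    obtain ⟨m, hm, hnd, -⟩ := hβ.exists_not_dvd hpp
    refine hβ.eq_of_not_dvd (m := m) ?_ hnd
    rw [← hm]
    simp only [classInner]
    congr 1
    rw [← Equiv.sum_comp (MulAut.conjNormal x).toEquiv (fun n : Y => fY n * conj ((β : Y → ℂ) n))]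
    refine Finset.sum_congr rfl fun n _ => ?_
    have h1 : (conjIrr x β : Y → ℂ) n = (β : Y → ℂ) (MulAut.conjNormal x n) := rfl
    rw [h1]
    congr 1
    exact (hfconj x n).symm
  have hstar : ∀ z : Subgroup.centralizer (R : Set G), (orderOf z).Coprime p →
      (∀ u ∈ stepP p Y, z * u * z⁻¹ * u⁻¹ ∈ Y) → z ∈ Y := by
    intro z hz hu
    have hLC : L.subgroupOf (Subgroup.centralizer (R : Set G)) ≤ stepP p Y := by
      apply le_stepP_of_relIndex Y (Subgroup.Normal.subgroupOf inferInstance _)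
      obtain ⟨k, hk⟩ := hL
      have h1 : Y.relIndex (L.subgroupOf (Subgroup.centralizer (R : Set G))) ∣ p ^ k := by
        rw [hYK, ← hk, Subgroup.subgroupOf, Subgroup.relIndex_comap, Subgroup.subgroupOf,
          Subgroup.map_comap_eq, Subgroup.range_subtype]
        exact relIndex_dvd_relIndex_of_le_right K inf_le_right
      obtain ⟨m, -, hm⟩ := (Nat.dvd_prime_pow hpp).1 h1
      exact ⟨m, hm⟩
    have h1 : (z : G) ∈ K := by
      apply mem_of_centralizer_of_coprime hKp hKL hL hQL hQp hQS hCQ hRp z.2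
        (by rwa [Subgroup.orderOf_coe])
      rintro u ⟨huL, huC⟩
      have h2 := hu ⟨u, huC⟩ (hLC huL)
      exact h2.1
    exact ⟨h1, z.2⟩
  have hover : ∀ ξ : IrrCharacter (Subgroup.centralizer (R : Set G)),
      ¬ MemLocalIdeal M (omega (ξ : Subgroup.centralizer (R : Set G) → ℂ) t) →
      classInner (fun y : Y => (ξ : Subgroup.centralizer (R : Set G) → ℂ) y) (β : Y → ℂ) ≠ 0 := by
    intro ξ hξ
    obtain ⟨d, hd0, hd⟩ := Cfsg.Agent.Lib.Char.Ortho.irr_degree_pos θ.2
    refine over_of_not_memLocalIdeal_omega hM hYp (a := (Nat.card K : ℂ)⁻¹ * (θ : K → ℂ) 1)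
      (brauer_mem_localCenter hCN heloc).1 ?_ ?_ ?_ hβ hξ
    · intro x hx
      rw [coeff_brauer, if_pos x.2, hepush, coeff_push_of_notMem]
      intro hxK
      exact hx ⟨hxK, x.2⟩
    · rw [hd]
      exact (localRing M).mul_mem (memLocalRing_inv_natCast hM hKp) (memLocalRing_natCast _)
    · intro y
      have hyK : (((y : Subgroup.centralizer (R : Set G))) : G) ∈ K := y.2.1
      rw [coeff_brauer, if_pos (y : Subgroup.centralizer (R : Set G)).2, hepush]
      have h1 := coeff_push_coe K (blockElt ({θ} : Set (IrrCharacter K))) ⟨_, hyK⟩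
      rw [h1, coeff_blockElt, blockCoeff_singleton, mul_assoc]
      rfl
  obtain ⟨ξ₀, hξ₀⟩ := exists_omega_brauer_not_mem hM hRp heloc hee he1
  refine ⟨blockOf M (ξ₀ : Subgroup.centralizer (R : Set G) → ℂ), hB1 ξ₀ hξ₀, ?_⟩
  intro f hf
  obtain ⟨ξ, hfξ⟩ := id hf.1
  have hξf : ξ ∈ f := by rw [hfξ]; exact mem_blockOf_self _
  have h1 := hB2 f hf ξ hξf
  have h2 := sameBlock_of_over_of_star hM hYp hstar hβinv (hover ξ h1) (hover ξ₀ hξ₀)
  rw [hfξ]
  exact (blockOf_eq_of_mem h2).symm

end Main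

end Cfsg.Agent.Lib.Blocks.FongLocal
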