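import Mathlib
import Cfsg.Prelude.Def_Blocks
import Cfsg.Agent.Lib.Blocks.FongGam
import Cfsg.Agent.Lib.Blocks.Laradji
import Cfsg.Agent.Lib.Blocks.Covering
import Cfsg.Agent.Lib.Char.Values

/-!
# Fong's theorem: the characters over an invariant character of a normal `p'`-subgroup

Let `N ⊴ G` with `p ∤ |N|` and `G / N` `p`-soluble with `O_{p'}(G / N) = 1`.  Then the irreducible
characters of `G` over a `G`-invariant `θ ∈ Irr(N)` lie in one `p`-block, and their central characters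
at `g` vanish modulo `p` unless the image of `g` lies in `O_p(G / N)`.
-/

set_option autoImplicit false
set_option linter.unusedSectionVars false
set_option linter.style.haveILetI false

namespace Cfsg.Agent.Lib.Blocks.FongMain

open Cfsg Module
open Cfsg.Agent.Lib.Char.DegreeDvd Cfsg.Agent.Lib.Char.FongTensor Cfsg.Agent.Lib.Char.QuotRep
open Cfsg.Agent.Lib.Blocks.Local Cfsg.Agent.Lib.Blocks.Central Cfsg.Agent.Lib.Blocks.FongGam
open Cfsg.Agent.Lib.Char.Basic Cfsg.Agent.Lib.Char.Ortho Cfsg.Agent.Lib.Char.Induced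
  Cfsg.Agent.Lib.Char.Clifford Cfsg.Agent.Lib.Char.CliffordCorr

universe u

section Main

variable {G : Type u} [Group G] [Fintype G] {N : Subgroup G} [hN : N.Normal] [Fintype N]
variable {c d : ℕ} (ρ : Representation ℂ G (Fin c → ℂ)) (Y : Representation ℂ N (Fin d → ℂ))

/-- The dimension count. -/
theorem uhom_dims [hρ : ρ.IsIrreducible] [hY : Y.IsIrreducible]
    (hinv : ∀ (g : G) (n : N), Y.character (cn g n) = Y.character n)
    (hcon : classInner (fun n : N => ρ.character n) Y.character ≠ 0) :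
    0 < finrank ℂ (Uhom ρ Y) ∧
      finrank ℂ (Uhom ρ Y) * finrank ℂ (Fin d → ℂ) = finrank ℂ (Fin c → ℂ) := by
  classical
  have hone := apply_one_eq N Y.character ⊤ ⟨d, Y, hY, rfl⟩
    (fun g => ⟨fun _ n => hinv g n, fun _ => trivial⟩) ⟨c, ρ, hρ, rfl⟩ hcon
  have h1 : classInner (fun n : N => ρ.character n) Y.character =
      (finrank ℂ (Uhom ρ Y) : ℂ) := by
    have h2 := Representation.card_inv_mul_sum_char_mul_char_eq_finrank Y (ρ.comp N.subtype)
    rw [← (Representation.invariantsEquivIntertwiningMap Y (ρ.comp N.subtype)).finrank_eq] at h2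
    rw [← h2]
    unfold classInner
    congr 1
    refine Finset.sum_congr rfl (fun n _ => ?_)
    congr 1
    exact (character_inv_of_isCharacter (isCharacter_of_isIrrCharacter ⟨d, Y, hY, rfl⟩) n).symm
  refine ⟨?_, ?_⟩
  · apply Nat.pos_of_ne_zero
    intro h0
    apply hcon
    rw [h1, h0]
    simp
  · rw [h1] at hone
    simp only [Subgroup.index_top, Nat.cast_one, one_mul, Representation.char_one] at hone
    exact_mod_cast hone.symm

/-- The representation `T` of `Γ` on `W`. -/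
noncomputable def repTT : Representation ℂ (Gam Y) (Fin d → ℂ) where
  toFun s := (s.1.2 : (Fin d → ℂ) →ₗ[ℂ] (Fin d → ℂ))
  map_one' := rfl
  map_mul' _ _ := rfl

/-- The coefficient relating central characters of `G` and of `H`. -/
noncomputable def cc (s : Gam Y) : ℂ :=
  ((Subgroup.centralizer ({s.1.1} : Set G)).index : ℂ) /
      ((Subgroup.centralizer ({(s : HH Y)} : Set (HH Y))).index : ℂ) *
    (LinearMap.trace ℂ (Fin d → ℂ) (s.1.2 : (Fin d → ℂ) →ₗ[ℂ] (Fin d → ℂ)) / (d : ℂ))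

variable {M : Ideal AlgInt} [hM : M.IsPrime] {p : ℕ} [hp : Fact p.Prime]

/-- The coefficient is a local integer. -/
theorem memLocalRing_cc [hY : Y.IsIrreducible] (hMp : IsPModular p M) (hNp : ¬ p ∣ Nat.card N)
    (hinv : ∀ (g : G) (n : N), Y.character (cn g n) = Y.character n) (s : Gam Y) :
    MemLocalRing M (cc Y s) := by
  classical
  haveI hnt : Nontrivial (Fin d → ℂ) := Cfsg.Agent.Lib.Char.Integrality.nontrivial_of_isIrreducible Y
  have hW : 0 < finrank ℂ (Fin d → ℂ) := Module.finrank_pos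
  haveI hfin : Finite (Gam Y) := finite_gam Y hW
  have hdvd : d ∣ Nat.card N := by
    have := Cfsg.Agent.Lib.Char.Integrality.finrank_dvd_card Y
    simpa using this
  have hdp : ¬ p ∣ d := fun h => hNp (h.trans hdvd)
  have h1 : MemLocalRing M (((Subgroup.centralizer ({s.1.1} : Set G)).index : ℂ) /
      ((Subgroup.centralizer ({(s : HH Y)} : Set (HH Y))).index : ℂ)) := by
    apply Cfsg.Agent.Lib.Blocks.Laradji.memLocalRing_natCast_div hMp
      Subgroup.index_ne_zero_of_finite Subgroup.index_ne_zero_of_finite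
    exact factorization_index_le (fH Y) (fH_surjective Y hW hinv) (ker_fH_central Y)
      (ker_fH_pprime Y hp.out hNp) (QuotientGroup.mk' N) (QuotientGroup.mk'_surjective N)
      (fH_mk Y s)
  have h2 : MemLocalRing M (LinearMap.trace ℂ (Fin d → ℂ)
      (s.1.2 : (Fin d → ℂ) →ₗ[ℂ] (Fin d → ℂ))) :=
    memLocalRing_of_isIntegral (Cfsg.Agent.Lib.Char.Values.isIntegral_character (repTT Y) s)
  have h3 := memLocalRing_inv_natCast hMp hdp
  rw [cc, div_eq_mul_inv (LinearMap.trace ℂ (Fin d → ℂ)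
      (s.1.2 : (Fin d → ℂ) →ₗ[ℂ] (Fin d → ℂ)))]
  exact memLocalRing_mul h1 (memLocalRing_mul h2 h3)

/-- The relation between central characters. -/
theorem centralChar_eq_cc [hρ : ρ.IsIrreducible] [hY : Y.IsIrreducible]
    (hinv : ∀ (g : G) (n : N), Y.character (cn g n) = Y.character n)
    (hcon : classInner (fun n : N => ρ.character n) Y.character ≠ 0) (s : Gam Y) :
    centralChar ρ.character s.1.1 = cc Y s * centralChar (betaH ρ Y) (s : HH Y) := by
  classical
  haveI hnt : Nontrivial (Fin d → ℂ) := Cfsg.Agent.Lib.Char.Integrality.nontrivial_of_isIrreducible Y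
  have hW : 0 < finrank ℂ (Fin d → ℂ) := Module.finrank_pos
  haveI hfin : Finite (Gam Y) := finite_gam Y hW
  obtain ⟨hU, hdim⟩ := uhom_dims ρ Y hinv hcon
  have h1 := char_eq_betaH ρ Y hinv hU hdim s
  have hd0 : (d : ℂ) ≠ 0 := by
    have : d ≠ 0 := by
      rintro rfl
      simp at hW
    exact_mod_cast this
  have hu0 : (finrank ℂ (Uhom ρ Y) : ℂ) ≠ 0 := by exact_mod_cast hU.ne'
  have hi0 : ((Subgroup.centralizer ({(s : HH Y)} : Set (HH Y))).index : ℂ) ≠ 0 := by
    exact_mod_cast Subgroup.index_ne_zero_of_finite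
  have h5 := betaH_one ρ Y
  have h7 : ρ.character 1 = (finrank ℂ (Uhom ρ Y) : ℂ) * (d : ℂ) := by
    rw [Representation.char_one, ← hdim]
    simp
  unfold cc centralChar
  rw [h5, h7, h1]
  field_simp

/-- Value on `N`. -/
theorem character_mul_of_mem [hρ : ρ.IsIrreducible] [hY : Y.IsIrreducible]
    (hinv : ∀ (g : G) (n : N), Y.character (cn g n) = Y.character n)
    (hcon : classInner (fun n : N => ρ.character n) Y.character ≠ 0) (n : N) :
    ρ.character (n : G) * Y.character 1 = Y.character n * ρ.character 1 := by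
  classical
  haveI hnt : Nontrivial (Fin d → ℂ) := Cfsg.Agent.Lib.Char.Integrality.nontrivial_of_isIrreducible Y
  have hW : 0 < finrank ℂ (Fin d → ℂ) := Module.finrank_pos
  haveI hfin : Finite (Gam Y) := finite_gam Y hW
  obtain ⟨hU, hdim⟩ := uhom_dims ρ Y hinv hcon
  obtain ⟨s, hs⟩ := piG_surjective Y hW hinv (n : G)
  have hs' : s.1.1 = n := hs
  obtain ⟨a, ha⟩ := exists_isSc s (hs' ▸ n.2)
  have ha0 := ha.ne_zero
  have h1 := char_eq_betaH ρ Y hinv hU hdim s
  have h5 : betaH ρ Y (s : HH Y) = a⁻¹ * (finrank ℂ (Uhom ρ Y) : ℂ) := by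
    rw [betaH_of_isSc ρ Y ha0 ha, betaH_one]
  have h2 : ρ.character 1 = (finrank ℂ (Uhom ρ Y) : ℂ) * (d : ℂ) := by
    rw [Representation.char_one, ← hdim]
    simp
  obtain ⟨h6, h7⟩ := ha
  have h8 : (s.1.2 : (Fin d → ℂ) →ₗ[ℂ] (Fin d → ℂ)) = a • Y ⟨s.1.1, h6⟩ := by
    ext w
    exact congrFun (h7 _) _
  have h9 : (⟨s.1.1, h6⟩ : N) = n := Subtype.ext hs'
  rw [h8, h9, map_smul, smul_eq_mul] at h1
  rw [← hs']
  rw [h1, h5, h2, Representation.char_one Y]
  have h10 : LinearMap.trace ℂ (Fin d → ℂ) (Y n) = Y.character n := rfl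
  rw [h10]
  simp only [Module.finrank_fin_fun]
  field_simp

end Main

section Block

variable {G : Type u} [Group G] [Fintype G] {N : Subgroup G} [hN : N.Normal] [Fintype N]
variable {M : Ideal AlgInt} [hM : M.IsPrime] {p : ℕ} [hp : Fact p.Prime]

/-- **Fong's theorem (one block).** -/
theorem sameBlock_of_invariant (hMp : IsPModular p M) (hNp : ¬ p ∣ Nat.card N)
    (hsolv : IsPSolvable p (G ⧸ N)) (hcore : pPrimeCore p (G ⧸ N) = ⊥) {θ : N → ℂ}
    (hθ : IsIrrCharacter N θ) (hinv : ∀ (g : G) (n : N), θ (cn g n) = θ n)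
    {χ ψ : IrrCharacter G} (hχ : classInner (fun n : N => (χ : G → ℂ) n) θ ≠ 0)
    (hψ : classInner (fun n : N => (ψ : G → ℂ) n) θ ≠ 0) :
    SameBlock M (χ : G → ℂ) (ψ : G → ℂ) := by
  classical
  obtain ⟨d, Y, hY, rfl⟩ := hθ
  obtain ⟨χ, c₁, ρ₁, hρ₁, rfl⟩ := χ
  obtain ⟨ψ, c₂, ρ₂, hρ₂, rfl⟩ := ψ
  haveI hnt : Nontrivial (Fin d → ℂ) := Cfsg.Agent.Lib.Char.Integrality.nontrivial_of_isIrreducible Y
  have hW : 0 < finrank ℂ (Fin d → ℂ) := Module.finrank_pos
  haveI hfin : Finite (Gam Y) := finite_gam Y hW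
  haveI : Fintype (HH Y) := Fintype.ofFinite _
  obtain ⟨hU₁, hdim₁⟩ := uhom_dims ρ₁ Y hinv hχ
  obtain ⟨hU₂, hdim₂⟩ := uhom_dims ρ₂ Y hinv hψ
  have hβ₁ := isIrr_betaH ρ₁ Y hinv hU₁ hdim₁
  have hβ₂ := isIrr_betaH ρ₂ Y hinv hU₂ hdim₂
  have hsame : SameBlock M (betaH ρ₁ Y) (betaH ρ₂ Y) := by
    apply Cfsg.Agent.Lib.Blocks.FongCentral.sameBlock_of_central hMp (fH Y)
      (fH_surjective Y hW hinv) (ker_fH_central Y) (ker_fH_pprime Y hp.out hNp) hsolv hcore hβ₁ hβ₂
    intro z hz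
    obtain ⟨s, rfl⟩ := QuotientGroup.mk_surjective z
    rw [mem_ker_fH] at hz
    obtain ⟨a, ha⟩ := exists_isSc s hz
    rw [betaH_of_isSc ρ₁ Y ha.ne_zero ha, betaH_of_isSc ρ₂ Y ha.ne_zero ha]
    ring
  intro g
  obtain ⟨s, hs⟩ := piG_surjective Y hW hinv g
  have hs' : s.1.1 = g := hs
  show MemLocalIdeal M (centralChar ρ₁.character g - centralChar ρ₂.character g)
  rw [← hs', centralChar_eq_cc ρ₁ Y hinv hχ, centralChar_eq_cc ρ₂ Y hinv hψ, ← mul_sub]
  exact memLocalIdeal_mul_left (memLocalRing_cc Y hMp hNp hinv s) (hsame _)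

/-- **Central characters vanish modulo `p` outside `O_{p',p}(G)`.** -/
theorem memLocalIdeal_centralChar_of_notMem (hMp : IsPModular p M) (hNp : ¬ p ∣ Nat.card N)
    (hsolv : IsPSolvable p (G ⧸ N)) (hcore : pPrimeCore p (G ⧸ N) = ⊥) {θ : N → ℂ}
    (hθ : IsIrrCharacter N θ) (hinv : ∀ (g : G) (n : N), θ (cn g n) = θ n)
    {χ : IrrCharacter G} (hχ : classInner (fun n : N => (χ : G → ℂ) n) θ ≠ 0) {g : G}
    (hg : (g : G ⧸ N) ∉ pCore p (G ⧸ N)) : MemLocalIdeal M (centralChar (χ : G → ℂ) g) := by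
  classical
  obtain ⟨d, Y, hY, rfl⟩ := hθ
  obtain ⟨χ, c₁, ρ₁, hρ₁, rfl⟩ := χ
  haveI hnt : Nontrivial (Fin d → ℂ) := Cfsg.Agent.Lib.Char.Integrality.nontrivial_of_isIrreducible Y
  have hW : 0 < finrank ℂ (Fin d → ℂ) := Module.finrank_pos
  haveI hfin : Finite (Gam Y) := finite_gam Y hW
  haveI : Fintype (HH Y) := Fintype.ofFinite _
  obtain ⟨hU₁, hdim₁⟩ := uhom_dims ρ₁ Y hinv hχ
  have hβ₁ := isIrr_betaH ρ₁ Y hinv hU₁ hdim₁
  obtain ⟨s, hs⟩ := piG_surjective Y hW hinv g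
  have hs' : s.1.1 = g := hs
  show MemLocalIdeal M (centralChar ρ₁.character g)
  rw [← hs', centralChar_eq_cc ρ₁ Y hinv hχ]
  apply memLocalIdeal_mul_left (memLocalRing_cc Y hMp hNp hinv s)
  apply Cfsg.Agent.Lib.Blocks.BrauerMap.memLocalIdeal_centralChar_of_not_centralizer hMp
    (pCore p (HH Y)) (Cfsg.Agent.Lib.Basic.PCore.pCore_isPGroup p) hβ₁
  intro hcen
  apply hg
  have hmap := Cfsg.Agent.Lib.Blocks.FongCentral.map_pCore_eq (fH Y) (fH_surjective Y hW hinv)
    (ker_fH_central Y) (ker_fH_pprime Y hp.out hNp)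
  apply Cfsg.Agent.Lib.Solvable.PSeries.centralizer_pCore_le hsolv hcore
  rw [Subgroup.mem_centralizer_iff]
  intro w hw
  rw [← hmap] at hw
  obtain ⟨y, hy, rfl⟩ := hw
  have h1 : y * (s : HH Y) = (s : HH Y) * y := (Subgroup.mem_centralizer_iff.1 hcen) y hy
  have h2 : ((g : G) : G ⧸ N) = fH Y (s : HH Y) := by rw [fH_mk, hs']
  rw [h2, ← map_mul, ← map_mul, h1]

/-- The value of a character over an invariant character on `N`. -/
theorem character_mul_of_invariant {θ : N → ℂ} (hθ : IsIrrCharacter N θ)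
    (hinv : ∀ (g : G) (n : N), θ (cn g n) = θ n)
    {χ : IrrCharacter G} (hχ : classInner (fun n : N => (χ : G → ℂ) n) θ ≠ 0) (n : N) :
    (χ : G → ℂ) (n : G) * θ 1 = θ n * (χ : G → ℂ) 1 := by
  obtain ⟨d, Y, hY, rfl⟩ := hθ
  obtain ⟨χ, c₁, ρ₁, hρ₁, rfl⟩ := χ
  exact character_mul_of_mem ρ₁ Y hinv hχ n

end Block

end Cfsg.Agent.Lib.Blocks.FongMain
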