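import Mathlib
import Cfsg.Agent.Lib.Blocks.Knorr2
import Cfsg.Agent.Lib.Blocks.HeightZero
import Cfsg.Agent.S4436
import Cfsg.Prelude.Def_BlockLocal

/-!
# Knörr's theorem, in terms of the stabilizer
-/

set_option autoImplicit false
set_option linter.unusedSectionVars false
set_option linter.style.haveILetI false

namespace Cfsg.Agent.Lib.Blocks.Knorr

open Cfsg Cfsg.Agent.Lib.Blocks.Local Cfsg.Agent.Lib.Blocks.Central Cfsg.Agent.Lib.Blocks.Osima
  Cfsg.Agent.Lib.Blocks.Covering Cfsg.Agent.Lib.Blocks.Twisted Cfsg.Agent.Lib.Blocks.Defect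
  Cfsg.Agent.Lib.Blocks.FongReynolds Cfsg.Agent.Lib.Blocks.Transport
open scoped ComplexConjugate

universe u

variable {G : Type u} [Group G] [Fintype G] {N : Subgroup G} [hN : N.Normal] [Fintype N]
  {M : Ideal AlgInt} {p : ℕ} [Fact p.Prime]

/-- The stabilizer of a block of a normal subgroup. -/
def blockStabilizer [M.IsPrime] (b : Set (IrrCharacter N)) (hb : IsPBlock M b) : Subgroup G where
  carrier := {g | ∀ θ ∈ b, conjIrr g θ ∈ b}
  one_mem' := fun θ hθ => by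
    rw [conjIrr_one]
    exact hθ
  mul_mem' := fun {g h} hg hh θ hθ => by
    rw [← conjIrr_conjIrr]
    exact hh _ (hg θ hθ)
  inv_mem' := fun {g} hg θ hθ => by
    obtain ⟨ξ, rfl⟩ := id hb
    have h1 : SameBlock M (θ : N → ℂ) (conjIrr g θ : N → ℂ) :=
      sameBlock_trans (sameBlock_symm hθ) (hg θ hθ)
    have h2 := sameBlock_conjIrr g⁻¹ h1
    rw [conjIrr_conjIrr, mul_inv_cancel, conjIrr_one] at h2
    exact sameBlock_trans hθ (sameBlock_symm h2)

lemma isStabilizer_blockStabilizer [M.IsPrime] {b : Set (IrrCharacter N)} (hb : IsPBlock M b) :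
    IsStabilizer b (blockStabilizer (G := G) b hb) := fun _ => Iff.rfl

lemma conjIrr_of_mem (n : N) (θ : IrrCharacter N) : conjIrr (n : G) θ = θ := by
  apply Subtype.ext
  funext m
  rw [conjIrr_apply]
  have := Cfsg.Agent.Lib.Blocks.Central.isClassFunction_of_irr θ.2 m n
  rw [← this]
  congr 1

lemma le_blockStabilizer [M.IsPrime] {b : Set (IrrCharacter N)} (hb : IsPBlock M b) :
    N ≤ blockStabilizer (G := G) b hb := fun n hn θ hθ => by
  have := conjIrr_of_mem (G := G) ⟨n, hn⟩ θ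
  simp only at this
  rw [this]
  exact hθ

/-- The form of the stabilizer in the statements. -/
lemma forall_of_isStabilizer {b : Set (IrrCharacter N)} {T : Subgroup G} (hS : IsStabilizer b T) (g : G) :
    g ∈ T ↔ ∀ θ ∈ b, ∀ θ' : IrrCharacter N,
      (∀ n : N, (θ' : N → ℂ) n = (θ : N → ℂ) ⟨g * n * g⁻¹, hN.conj_mem n n.2 g⟩) → θ' ∈ b := by
  rw [hS]
  constructor
  · intro h θ hθ θ' hθ'
    have : θ' = conjIrr g θ := Subtype.ext (funext fun n => by rw [hθ', conjIrr_apply])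
    rw [this]
    exact h θ hθ
  · intro h θ hθ
    exact h θ hθ _ (conjIrr_apply g θ)

/-- **Knörr's theorem**, stabilizer form: the block `B` of `G` covering `b` has a defect group lying in the
stabilizer of `b` meeting `N` in a defect group of `b`. -/
theorem exists_defect_le_stabilizer (hM : IsPModular p M) {B : Set (IrrCharacter G)} (hB : IsPBlock M B)
    {b : Set (IrrCharacter N)} (hb : IsPBlock M b) {T : Subgroup G} (hS : IsStabilizer b T) (hNT : N ≤ T)
    {Q : Subgroup N} (hQ : IsDefectGroup p M b Q) {χ : IrrCharacter G} (hχ : χ ∈ B)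
    {θ : IrrCharacter N} (hθ : θ ∈ b) (hcon : classInner (fun n : N => (χ : G → ℂ) n) (θ : N → ℂ) ≠ 0) :
    ∃ D : Subgroup G, IsDefectGroup p M B D ∧ D ≤ T ∧ D ⊓ N = Q.map N.subtype := by
  classical
  haveI := isPrime_of_isPModular hM
  haveI : Fintype T := Fintype.ofFinite _
  haveI : Fintype (N.subgroupOf T) := Fintype.ofFinite _
  obtain ⟨B', hB', ⟨ψ, hψ, θ₂, hθ₂, hc⟩, hind⟩ := exists_induced_of_covers hNT hb hS hB hχ hθ hcon
  set e := Subgroup.subgroupOfEquivOfLe hNT with he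
  have hb' : IsPBlock M (bT hNT b) := isPBlock_blockMap _ hb
  have hQ' : IsDefectGroup p M (bT hNT b) (Q.comap e.toMonoidHom) := isDefectGroup_blockMap e hQ
  obtain ⟨D', hD', hD'N⟩ := exists_defect_inf_eq hM hB' hb' hQ' hψ
    (θ := irrComap e θ₂) (irrComap_mem_blockMap _ hθ₂) (by rwa [classInner_res])
  have hD := (Cfsg.Agent.S4436.result p M hM N b hb T (forall_of_isStabilizer hS) hNT B' hB'
    ⟨ψ, hψ, θ₂, hθ₂, hc⟩ B hind).1 D' hD'
  refine ⟨_, hD, ?_, ?_⟩
  · rintro _ ⟨d, -, rfl⟩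
    exact d.2
  · apply le_antisymm
    · rintro u ⟨⟨d, hd, rfl⟩, hu⟩
      have h1 : d ∈ D' ⊓ N.subgroupOf T := ⟨hd, Subgroup.mem_subgroupOf.2 hu⟩
      rw [hD'N] at h1
      obtain ⟨n', hn', hn'd⟩ := h1
      refine ⟨e n', hn', ?_⟩
      rw [← hn'd]
      rfl
    · rintro _ ⟨q, hq, rfl⟩
      have h1 : (⟨⟨q, hNT q.2⟩, q.2⟩ : N.subgroupOf T) ∈ Q.comap e.toMonoidHom := by
        show e ⟨⟨q, hNT q.2⟩, q.2⟩ ∈ Q
        exact hq
      have h2 : (⟨q, hNT q.2⟩ : T) ∈ D' ⊓ N.subgroupOf T := by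
        rw [hD'N]
        exact ⟨_, h1, rfl⟩
      exact ⟨⟨⟨q, hNT q.2⟩, h2.1, rfl⟩, q.2⟩

/-- A block of `N` stable under a defect group of `B`, covered by `B`, with defect group `P ∩ N`. -/
theorem exists_stable_block (hM : IsPModular p M) {B : Set (IrrCharacter G)} (hB : IsPBlock M B)
    {P : Subgroup G} (hP : IsDefectGroup p M B P) :
    ∃ c : Set (IrrCharacter N), IsPBlock M c ∧ (∀ x ∈ P, StabilizesBlock N c x) ∧
      (∃ χ ∈ B, ∃ θ ∈ c, classInner (fun n : N => (χ : G → ℂ) n) (θ : N → ℂ) ≠ 0) ∧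
      IsDefectGroup p M c ((P ⊓ N).subgroupOf N) := by
  classical
  haveI := isPrime_of_isPModular hM
  obtain ⟨χ, rfl⟩ := id hB
  have hχ : χ ∈ blockOf M (χ : G → ℂ) := mem_blockOf_self χ
  obtain ⟨θ, hcon⟩ := exists_constituent (N := N) χ.2
  set b := blockOf M (θ : N → ℂ) with hbdef
  have hb : IsPBlock M b := ⟨θ, rfl⟩
  have hθ : θ ∈ b := mem_blockOf_self θ
  have hS := isStabilizer_blockStabilizer (G := G) hb
  have hNT := le_blockStabilizer (G := G) hb
  set T := blockStabilizer (G := G) b hb with hT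
  obtain ⟨g₀, hg₀⟩ := exists_isDefectClass (M := M) hb
  obtain ⟨Q₀⟩ : Nonempty (Sylow p (Subgroup.centralizer ({g₀} : Set N))) := inferInstance
  have hQ : IsDefectGroup p M b ((Q₀ : Subgroup (Subgroup.centralizer ({g₀} : Set N))).map
      (Subgroup.centralizer ({g₀} : Set N)).subtype) := ⟨g₀, hg₀, Q₀, rfl⟩
  set Q := (Q₀ : Subgroup (Subgroup.centralizer ({g₀} : Set N))).map
      (Subgroup.centralizer ({g₀} : Set N)).subtype with hQdef
  obtain ⟨D, hD, hDT, hDN⟩ := exists_defect_le_stabilizer hM hB hb hS hNT hQ hχ hθ hcon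
  obtain ⟨x, hx⟩ := Cfsg.Agent.Lib.Blocks.HeightZero.exists_map_conj_eq_of_isDefectGroup hM hB hP hD
  set φ : N ≃* N := MulAut.conjNormal x⁻¹ with hφ
  have hirr : ∀ θ₁ : IrrCharacter N, irrComap φ θ₁ = conjIrr x⁻¹ θ₁ := fun _ => rfl
  refine ⟨blockMap φ b, isPBlock_blockMap φ hb, ?_, ?_, ?_⟩
  · intro y hy
    refine ⟨by rw [Subgroup.normalizer_eq_top N]; trivial, ?_⟩
    rintro _ ⟨θ₁, hθ₁, rfl⟩
    rw [← hx] at hy
    obtain ⟨d, hd, rfl⟩ := hy
    have hdT : d⁻¹ ∈ T := T.inv_mem (hDT hd)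
    refine ⟨irrComap φ (conjIrr d⁻¹ θ₁), ⟨_, hdT θ₁ hθ₁, rfl⟩, ?_⟩
    intro k k' hk'
    rw [hirr, hirr, conjIrr_apply, conjIrr_apply, conjIrr_apply]
    apply congrArg (θ₁ : N → ℂ)
    apply Subtype.ext
    simp only [hk', MulEquiv.toMonoidHom_eq_coe, MonoidHom.coe_coe, MulAut.conj_apply]
    group
  · refine ⟨χ, hχ, irrComap φ θ, ⟨θ, hθ, rfl⟩, ?_⟩
    rw [hirr, classInner_conjIrr (isClassFunction_of_irr χ.2)]
    exact hcon
  · have h1 := isDefectGroup_blockMap (p := p) φ hQ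
    convert h1 using 1
    ext n
    rw [Subgroup.mem_subgroupOf, Subgroup.mem_comap]
    show (n : G) ∈ P ⊓ N ↔ φ n ∈ Q
    have h2 : ((φ n : N) : G) = x⁻¹ * n * x := by
      simp [hφ, MulAut.conjNormal_apply]
    constructor
    · rintro ⟨hn, -⟩
      rw [← hx] at hn
      obtain ⟨d, hd, hd'⟩ := hn
      have h3 : d = ((φ n : N) : G) := by
        rw [h2, ← hd']
        simp
        group
      have h4 : d ∈ D ⊓ N := ⟨hd, by rw [h3]; exact (φ n).2⟩
      rw [hDN] at h4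
      obtain ⟨q, hq, hq'⟩ := h4
      have h5 : q = φ n := Subtype.ext (by
        rw [← h3, ← hq']
        rfl)
      rw [← h5]
      exact hq
    · intro hn
      refine ⟨?_, n.2⟩
      have h3 : ((φ n : N) : G) ∈ D ⊓ N := by
        rw [hDN]
        exact ⟨_, hn, rfl⟩
      rw [← hx]
      refine ⟨_, h3.1, ?_⟩
      rw [h2]
      simp
      group

end Cfsg.Agent.Lib.Blocks.Knorr
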