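import Mathlib
import Cfsg.Agent.S4492
import Cfsg.Agent.S4436
import Cfsg.Agent.Lib.Blocks.Knorr3
import Cfsg.Agent.Lib.Char.AbelianQuot
import Cfsg.Agent.Lib.Char.CoprimeCount
import Cfsg.Agent.Lib.Char.DegreeDvd
import Cfsg.Agent.Lib.Char.GallagherAvg

set_option autoImplicit false
set_option linter.style.haveILetI false
set_option linter.unusedSectionVars false

namespace Cfsg.Agent.Lib.Blocks.PSolvHeight

open Cfsg Cfsg.Agent.Lib.Char.Basic Cfsg.Agent.Lib.Char.Ortho Cfsg.Agent.Lib.Char.Induced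
open Cfsg.Agent.Lib.Blocks.Local Cfsg.Agent.Lib.Blocks.Central Cfsg.Agent.Lib.Blocks.Covering Cfsg.Agent.Lib.Blocks.Osima
  Cfsg.Agent.Lib.Blocks.FongReynolds Cfsg.Agent.Lib.Blocks.Knorr

universe u

variable {G : Type u} [Group G] [Fintype G]

/-- Transitivity of constituents. -/
theorem classInner_res_ne_zero_of_constituent {N H : Subgroup G} [N.Normal] [H.Normal] [Fintype N] [Fintype H]
    (hNH : N ≤ H) {χ : G → ℂ} (hχ : IsCharacter G χ) {μ : H → ℂ} (hμ : IsIrrCharacter H μ)
    (hμc : classInner (fun h : H => χ h) μ ≠ 0) {θ : N → ℂ} (hθ : IsIrrCharacter N θ)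
    (hcon : classInner (fun n : N => μ (Subgroup.inclusion hNH n)) θ ≠ 0) :
    classInner (fun n : N => χ n) θ ≠ 0 := by
  classical
  have hχH : IsCharacter H (fun h : H => χ h) := isCharacter_restrict hχ H
  obtain ⟨m, hm⟩ := exists_nat_decomp hχH
  have hμ' : IrrCharacter H := ⟨μ, hμ⟩
  have hres : (fun n : N => χ n) = ∑ ξ : IrrCharacter H, m ξ • (fun n : N => (ξ : H → ℂ) (Subgroup.inclusion hNH n)) := by
    funext n
    have h1 := congrFun hm (Subgroup.inclusion hNH n)
    simpa [Finset.sum_apply] using h1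
  rw [hres, classInner_sum_left]
  have hnat : ∀ ξ : IrrCharacter H, ∃ k : ℕ, classInner (m ξ • (fun n : N => (ξ : H → ℂ) (Subgroup.inclusion hNH n))) θ = k := by
    intro ξ
    have h2 : IsCharacter N (fun n : N => (ξ : H → ℂ) (Subgroup.inclusion hNH n)) :=
      isCharacter_comp_hom (isCharacter_of_isIrrCharacter ξ.2) (Subgroup.inclusion hNH)
    obtain ⟨k, hk⟩ := exists_nat_classInner_of_isCharacter h2 (isCharacter_of_isIrrCharacter hθ)
    refine ⟨m ξ * k, ?_⟩
    rw [← Nat.cast_smul_eq_nsmul ℂ, classInner_smul_left, hk]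
    push_cast
    rfl
  choose f hf using hnat
  simp only [hf]
  intro h0
  have h3 : (∑ ξ : IrrCharacter H, (f ξ : ℂ)) = ((∑ ξ : IrrCharacter H, f ξ : ℕ) : ℂ) := by push_cast; rfl
  rw [h3] at h0
  have h4 : ∑ ξ : IrrCharacter H, f ξ = 0 := by exact_mod_cast h0
  have h5 : f ⟨μ, hμ⟩ = 0 := (Finset.sum_eq_zero_iff.mp h4) _ (Finset.mem_univ _)
  have h6 := hf ⟨μ, hμ⟩
  rw [h5, ← Nat.cast_smul_eq_nsmul ℂ, classInner_smul_left] at h6
  simp only [Nat.cast_zero] at h6
  have hm0 : m ⟨μ, hμ⟩ ≠ 0 := by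
    intro hm0
    apply hμc
    have h7 := classInner_sum_irr (fun ξ => (m ξ : ℂ)) (⟨μ, hμ⟩ : IrrCharacter H)
    simp only [Nat.cast_smul_eq_nsmul] at h7
    rw [← hm] at h7
    rw [h7, hm0]
    simp
  have hm0' : (m ⟨μ, hμ⟩ : ℂ) ≠ 0 := by exact_mod_cast hm0
  exact hcon ((mul_eq_zero.mp h6).resolve_left hm0')


variable {p : ℕ} [hp : Fact p.Prime]

/-- The `p`-part of a degree over an invariant character, when `H/N` is an abelian `p`-group and `N` is a
`p'`-group. -/
theorem factorization_degree_le (N H : Subgroup G) [hN : N.Normal] [hH : H.Normal] [Fintype N] [Fintype H]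
    (hNH : N ≤ H) (hNp : ¬ p ∣ Nat.card N) (hrel : ∃ k : ℕ, N.relIndex H = p ^ k)
    (hab : ∀ x ∈ H, ∀ y ∈ H, x * y * x⁻¹ * y⁻¹ ∈ N) {θ : N → ℂ} (hθ : IsIrrCharacter N θ)
    (hinv : ∀ (g : G) (n : N), θ ⟨g * n * g⁻¹, hN.conj_mem n n.2 g⟩ = θ n)
    {χ : G → ℂ} (hχ : IsIrrCharacter G χ) (hcon : classInner (fun n : N => χ n) θ ≠ 0) :
    (charDegree χ).factorization p ≤ H.index.factorization p := by
  classical
  obtain ⟨μ, hμ⟩ := exists_constituent (N := H) hχ
  let N' : Subgroup H := N.subgroupOf H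
  haveI hN'n : N'.Normal := Subgroup.normal_subgroupOf
  haveI : Fintype N' := Fintype.ofFinite _
  let e : N' ≃* N := Subgroup.subgroupOfEquivOfLe hNH
  let θ' : N' → ℂ := fun x => θ (e x)
  have hθ' : IsIrrCharacter N' θ' := isIrrCharacter_comp_surjective hθ e.toMonoidHom e.surjective
  have hinv' : ∀ (g : H) (n : N'), θ' ⟨g * n * g⁻¹, hN'n.conj_mem (n : H) n.2 g⟩ = θ' n := by
    intro g n
    have := hinv (g : G) (e n)
    exact this
  have hNcop : (Nat.card N).Coprime p :=
    ((Nat.Prime.coprime_iff_not_dvd hp.out).2 hNp).symm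
  have hcop : Nat.Coprime (Nat.card N') N'.index := by
    have h1 : Nat.card N' = Nat.card N := Nat.card_congr e.toEquiv
    obtain ⟨k, hk⟩ := hrel
    have h2 : N'.index = p ^ k := hk
    rw [h1, h2]
    exact Nat.Coprime.pow_right k hNcop
  obtain ⟨θh, hθh, hext⟩ := Cfsg.Agent.Lib.Char.CoprimeCount.exists_ext_of_coprime N' hcop hθ' hinv'
  obtain ⟨ν, hν⟩ := exists_constituent (N := N') μ.2
  -- `ν` is `θ'`
  let ν₀ : N → ℂ := fun n => (ν : N' → ℂ) (e.symm n)
  have hν₀ : IsIrrCharacter N ν₀ := isIrrCharacter_comp_surjective ν.2 e.symm.toMonoidHom e.symm.surjective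
  have hνe : ∀ a : N', ν₀ (e a) = (ν : N' → ℂ) a := fun a => by simp [ν₀]
  have hν₀c : classInner (fun n : N => (μ : H → ℂ) (Subgroup.inclusion hNH n)) ν₀ ≠ 0 := by
    have h2 := Cfsg.Agent.Lib.Char.Clifford.classInner_comp_equiv e
      (fun n : N => (μ : H → ℂ) (Subgroup.inclusion hNH n)) ν₀
    rw [← h2]
    have h21 : (fun a : N' => (fun n : N => (μ : H → ℂ) (Subgroup.inclusion hNH n)) (e a)) =
        (fun n : N' => (μ : H → ℂ) n) := by
      funext a
      exact congrArg _ (Subtype.ext rfl)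
    have h22 : (fun a : N' => ν₀ (e a)) = (ν : N' → ℂ) := funext hνe
    rw [h21, h22]
    exact hν
  have h3 := classInner_res_ne_zero_of_constituent hNH (isCharacter_of_isIrrCharacter hχ) μ.2 hμ hν₀ hν₀c
  have hres := Cfsg.Agent.Lib.Char.GallagherAvg.res_eq_smul_of_invariant N hχ hθ hcon hinv
  rw [hres, Cfsg.Agent.Lib.Char.Ortho.classInner_smul_left] at h3
  have h4 : classInner θ ν₀ ≠ 0 := fun h => h3 (by rw [h, mul_zero])
  have h5 : θ = ν₀ := by
    by_contra hne
    exact h4 (classInner_irr_of_ne hθ hν₀ hne)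
  have hνθ : (ν : N' → ℂ) = θ' := by
    funext a
    rw [← hνe a, ← h5]
  have hμθ : classInner (fun n : N' => (μ : H → ℂ) n) θ' ≠ 0 := by
    rw [← hνθ]
    exact hν
  have hθhres : (fun n : N' => θh n) = θ' := funext hext
  have hθh1 : classInner (fun n : N' => θh n) θ' ≠ 0 := by
    rw [hθhres, classInner_irr_self hθ']
    exact one_ne_zero
  have hab' : ∀ x y : H, x * y * x⁻¹ * y⁻¹ ∈ N' := by
    intro x y
    rw [Subgroup.mem_subgroupOf]
    exact hab x x.2 y y.2
  have h6 := Cfsg.Agent.Lib.Char.AbelianQuot.classInner_res_eq_of_abelian N' hab' hθ' hinv' μ.2 hθh hμθ hθh1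
  have h7 : classInner (fun n : N' => (μ : H → ℂ) n) θ' = 1 := by
    rw [← h6, hθhres, classInner_irr_self hθ']
  have h8 := Cfsg.Agent.Lib.Char.GallagherAvg.res_eq_smul_of_invariant N' μ.2 hθ' hμθ hinv'
  rw [h7, one_smul] at h8
  have h9 : (μ : H → ℂ) 1 = θ 1 := by
    have h10 := congrFun h8 1
    have h11 : θ' 1 = θ 1 := by
      simp only [θ']
      congr 1
    rw [← h11]
    exact h10
  obtain ⟨d, hd, hd0, hdvd⟩ := Cfsg.Agent.Lib.Char.GlaubOver.exists_degree_dvd hθ
  have hdp : ¬ p ∣ d := fun h => hNp (h.trans hdvd)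
  obtain ⟨c, hc, hcdvd⟩ := Cfsg.Agent.Lib.Char.DegreeDvd.exists_degree_ratio H hχ μ.2 hμ
  have hχ1 : χ 1 = ((c * d : ℕ) : ℂ) := by
    rw [hc, h9, hd]
    push_cast
    rfl
  have hdeg : charDegree χ = c * d := Cfsg.Agent.Lib.Blocks.FongReynolds.charDegree_eq_of_apply_one hχ1
  have hidx0 : H.index ≠ 0 := Subgroup.index_ne_zero_of_finite
  have hc0 : c ≠ 0 := fun h => hidx0 (by rw [h, zero_dvd_iff] at hcdvd; exact hcdvd)
  rw [hdeg, Nat.factorization_mul hc0 hd0, Finsupp.add_apply, Nat.factorization_eq_zero_of_not_dvd hdp, add_zero]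
  exact (Nat.factorization_le_iff_dvd hc0 hidx0).2 hcdvd p

/-- The subgroup `Z(O_{p',p}(G)/O_{p'}(G))` controls the center of a Sylow subgroup. -/
theorem exists_subgroup_center (hsolv : IsPSolvable p G) (S : Sylow p G) :
    ∃ H : Subgroup G, H.Normal ∧ pPrimeCore p G ≤ H ∧ (∃ k : ℕ, (pPrimeCore p G).relIndex H = p ^ k) ∧
      (∀ x ∈ H, ∀ y ∈ H, x * y * x⁻¹ * y⁻¹ ∈ pPrimeCore p G) ∧
      H.index.factorization p ≤ (Subgroup.center (S : Subgroup G)).index.factorization p := by
  classical
  set N := pPrimeCore p G with hNdef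
  let f : G →* G ⧸ N := QuotientGroup.mk' N
  have hf : Function.Surjective f := QuotientGroup.mk'_surjective N
  set R := pCore p (G ⧸ N) with hR
  have hRp : IsPGroup p R := Cfsg.Agent.Lib.Basic.PCore.pCore_isPGroup p
  have hsolv' : IsPSolvable p (G ⧸ N) := Cfsg.Agent.Lib.Solvable.PSeries.isPSolvable_quotient hsolv N
  have hcore : pPrimeCore p (G ⧸ N) = ⊥ := Cfsg.Agent.Lib.Components.PComponent.pPrimeCore_quotient_eq_bot p
  have hCR : Subgroup.centralizer (R : Set (G ⧸ N)) ≤ R :=
    Cfsg.Agent.Lib.Solvable.PSeries.centralizer_pCore_le hsolv' hcore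
  set Zb : Subgroup (G ⧸ N) := R ⊓ Subgroup.centralizer (R : Set (G ⧸ N)) with hZb
  haveI hRn : R.Normal := pCore_normal p _
  haveI hCn : (Subgroup.centralizer (R : Set (G ⧸ N))).Normal := Subgroup.normal_centralizer
  haveI hZn : Zb.Normal := Subgroup.normal_inf_normal _ _
  have hZp : IsPGroup p Zb := hRp.to_le inf_le_left
  obtain ⟨c, hc⟩ := IsPGroup.iff_card.mp hZp
  refine ⟨Zb.comap f, Subgroup.Normal.comap hZn f, ?_, ?_, ?_, ?_⟩
  · intro n hn
    show f n ∈ Zb
    have : f n = 1 := (QuotientGroup.eq_one_iff n).2 hn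
    rw [this]
    exact Zb.one_mem
  · refine ⟨c, ?_⟩
    have h1 := Subgroup.relIndex_ker (f := f) (Zb.comap f)
    rw [QuotientGroup.ker_mk'] at h1
    rw [h1, Subgroup.map_comap_eq_self_of_surjective hf, hc]
  · intro x hx y hy
    have hxy : f (x * y * x⁻¹ * y⁻¹) = 1 := by
      have hc' : f x * f y = f y * f x :=
        Subgroup.mem_centralizer_iff.mp (show f y ∈ Subgroup.centralizer (R : Set (G ⧸ N)) from (hy : f y ∈ Zb).2) (f x) (hx : f x ∈ Zb).1
      simp only [map_mul, map_inv]
      rw [hc']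
      group
    exact (QuotientGroup.eq_one_iff _).1 hxy
  · rw [Subgroup.index_comap_of_surjective Zb hf]
    -- the map from the center of `S` to `Zb`
    have hmem : ∀ z : Subgroup.center (S : Subgroup G), f ((z : (S : Subgroup G)) : G) ∈ Zb := by
      intro z
      have hcomm : f ((z : (S : Subgroup G)) : G) ∈ Subgroup.centralizer (R : Set (G ⧸ N)) := by
        rw [Subgroup.mem_centralizer_iff]
        intro r hr
        have h1 : r ∈ ((S.mapSurjective hf : Sylow p (G ⧸ N)) : Subgroup (G ⧸ N)) :=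
          Cfsg.Agent.Lib.Basic.PCore.pCore_le_sylow _ hr
        obtain ⟨s, hs, rfl⟩ := h1
        rw [← map_mul, ← map_mul]
        congr 1
        have h2 := (Subgroup.mem_center_iff.mp z.2) (⟨s, hs⟩ : (S : Subgroup G))
        exact congrArg Subtype.val h2
      exact ⟨hCR hcomm, hcomm⟩
    let g : Subgroup.center (S : Subgroup G) →* Zb :=
      { toFun := fun z => ⟨f ((z : (S : Subgroup G)) : G), hmem z⟩
        map_one' := by
          apply Subtype.ext
          simp
        map_mul' := fun a b => by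
          apply Subtype.ext
          simp }
    have hginj : Function.Injective g := by
      rw [injective_iff_map_eq_one]
      intro z hz
      have h1 : f ((z : (S : Subgroup G)) : G) = 1 := congrArg Subtype.val hz
      have h2 : ((z : (S : Subgroup G)) : G) ∈ N := (QuotientGroup.eq_one_iff _).1 h1
      have h3 : orderOf ((z : (S : Subgroup G)) : G) ∣ Nat.card N := by
        have := orderOf_dvd_natCard (⟨_, h2⟩ : N)
        simpa [Subgroup.orderOf_mk] using this
      obtain ⟨k, hk⟩ := S.isPGroup' (z : (S : Subgroup G))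
      have h4 : orderOf ((z : (S : Subgroup G)) : G) ∣ p ^ k := by
        apply orderOf_dvd_of_pow_eq_one
        have := congrArg (fun u : (S : Subgroup G) => (u : G)) hk
        simpa using this
      have hcop : (Nat.card N).Coprime (p ^ k) :=
        Nat.Coprime.pow_right k (Cfsg.Agent.Lib.Solvable.PSeries.pPrimeCore_coprime p)
      have h5 := Nat.eq_one_of_dvd_coprimes hcop h3 h4
      have h6 := orderOf_eq_one_iff.1 h5
      apply Subtype.ext
      apply Subtype.ext
      simpa using h6
    have hdvd : Nat.card (Subgroup.center (S : Subgroup G)) ∣ Nat.card Zb :=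
      Subgroup.card_dvd_of_injective g hginj
    have hcardG : Nat.card G = Nat.card (G ⧸ N) * Nat.card N := Subgroup.card_eq_card_quotient_mul_card_subgroup N
    have hNfac : (Nat.card N).factorization p = 0 := by
      apply Nat.factorization_eq_zero_of_not_dvd
      intro h
      have h1 := Nat.Coprime.eq_one_of_dvd (Cfsg.Agent.Lib.Solvable.PSeries.pPrimeCore_coprime p (G := G)).symm h
      exact hp.out.one_lt.ne' h1
    have h1 : (Nat.card G).factorization p = (Nat.card (G ⧸ N)).factorization p := by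
      rw [hcardG, Nat.factorization_mul Nat.card_pos.ne' Nat.card_pos.ne', Finsupp.add_apply, hNfac, add_zero]
    have h2 : (Nat.card (G ⧸ N)).factorization p = Zb.index.factorization p + (Nat.card Zb).factorization p := by
      rw [← Subgroup.index_mul_card Zb, Nat.factorization_mul Subgroup.index_ne_zero_of_finite Nat.card_pos.ne',
        Finsupp.add_apply]
    have h3 : (Nat.card S).factorization p = (Subgroup.center (S : Subgroup G)).index.factorization p +
        (Nat.card (Subgroup.center (S : Subgroup G))).factorization p := by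
      rw [← Subgroup.index_mul_card (Subgroup.center (S : Subgroup G)), Nat.factorization_mul
        Subgroup.index_ne_zero_of_finite Nat.card_pos.ne', Finsupp.add_apply]
    have h4 : (Nat.card S).factorization p = (Nat.card G).factorization p := by
      rw [Sylow.card_eq_multiplicity]
      simp [Nat.Prime.factorization_pow hp.out]
    have h5 : (Nat.card (Subgroup.center (S : Subgroup G))).factorization p ≤ (Nat.card Zb).factorization p :=
      (Nat.factorization_le_iff_dvd Nat.card_pos.ne' Nat.card_pos.ne').2 hdvd p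
    omega


/-- For a group of order prime to `p`, blocks are singletons. -/
theorem eq_of_mem_blockOf {X : Type*} [Group X] [Fintype X] {M : Ideal AlgInt} [M.IsPrime] (hM : IsPModular p M)
    (hX : ¬ p ∣ Nat.card X) {θ ψ : IrrCharacter X} (h : ψ ∈ blockOf M (θ : X → ℂ)) : ψ = θ := by
  classical
  by_contra hne
  have h1 := Cfsg.Agent.Lib.Blocks.Central.memLocalIdeal_omega_sub θ.2 ψ.2 h
    (blockElt_mem_localCenter_of_not_dvd hM hX ({θ} : Set (IrrCharacter X)))
  rw [omega_blockElt_of_mem (Set.mem_singleton θ),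
    omega_blockElt_of_notMem (A := {θ}) (χ := ψ) (by simpa using hne), sub_zero] at h1
  exact not_memLocalIdeal_one h1

/-- Invariance of the index of the center. -/
theorem index_center_eq_of_mulEquiv {A B : Type*} [Group A] [Group B] [Finite A] [Finite B] (e : A ≃* B) :
    (Subgroup.center A).index = (Subgroup.center B).index := by
  have h1 := Subgroup.index_mul_card (Subgroup.center A)
  have h2 := Subgroup.index_mul_card (Subgroup.center B)
  have h3 : Nat.card (Subgroup.center A) = Nat.card (Subgroup.center B) :=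
    Nat.card_congr (Subgroup.centerCongr e).toEquiv
  have h4 : Nat.card A = Nat.card B := Nat.card_congr e.toEquiv
  rw [h4, ← h2, h3] at h1
  exact Nat.eq_of_mul_eq_mul_right Nat.card_pos h1

/-- **The height bound.** -/
theorem height_le {M : Ideal AlgInt} (hM : IsPModular p M) (n : ℕ) :
    ∀ (G : Type u) [Group G] [Fintype G], Nat.card G = n → IsPSolvable p G →
      ∀ (B : Set (IrrCharacter G)), IsPBlock M B → ∀ P : Subgroup G, IsDefectGroup p M B P →
      ∀ χ : IrrCharacter G, χ ∈ B →
        blockHeight p B (χ : G → ℂ) ≤ ((Subgroup.center P).index).factorization p := by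
  classical
  haveI hMp : M.IsPrime := isPrime_of_isPModular hM
  induction n using Nat.strong_induction_on with
  | _ n ih =>
    intro G _ _ hcard hsolv B hB P hP χ hχ
    haveI : Fintype (pPrimeCore p G) := Fintype.ofFinite _
    set N := pPrimeCore p G with hNdef
    have hNp : ¬ p ∣ Nat.card N := by
      intro h
      have h1 := Nat.Coprime.eq_one_of_dvd (Cfsg.Agent.Lib.Solvable.PSeries.pPrimeCore_coprime p (G := G)).symm h
      exact hp.out.one_lt.ne' h1
    obtain ⟨θ, hcon⟩ := exists_constituent (N := N) χ.2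
    set b := blockOf M (θ : N → ℂ) with hbdef
    have hb : IsPBlock M b := ⟨θ, rfl⟩
    have hθb : θ ∈ b := mem_blockOf_self θ
    have hS := isStabilizer_blockStabilizer (G := G) hb
    have hNT := le_blockStabilizer (G := G) hb
    set T := blockStabilizer (G := G) b hb with hT
    by_cases hTtop : T = ⊤
    · -- the invariant case
      have hinv : ∀ (g : G) (n : N), (θ : N → ℂ) ⟨g * n * g⁻¹, (inferInstance : N.Normal).conj_mem n n.2 g⟩ = (θ : N → ℂ) n := by
        intro g n
        have hg : g ∈ T := by rw [hTtop]; trivial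
        have h1 : conjIrr g θ ∈ b := hg θ hθb
        have h2 : conjIrr g θ = θ := eq_of_mem_blockOf hM hNp h1
        have h3 := conjIrr_apply g θ n
        rw [h2] at h3
        exact h3.symm
      obtain ⟨B₀, hB₀, hmem, -, hsyl⟩ := Cfsg.Agent.S4492.result p M hM hsolv N rfl θ hinv
      have hχ₀ : χ ∈ B₀ := (hmem χ).2 hcon
      have hBB : B₀ = B := by
        obtain ⟨ξ₀, rfl⟩ := hB₀
        obtain ⟨ξ, rfl⟩ := hB
        rw [← blockOf_eq_of_mem hχ₀, ← blockOf_eq_of_mem hχ]
      rw [hBB] at hsyl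
      obtain ⟨S, rfl⟩ := hsyl P hP
      obtain ⟨H, hHn, hNH, hrel, hab, hle⟩ := exists_subgroup_center hsolv S
      haveI := hHn
      haveI : Fintype H := Fintype.ofFinite _
      have h1 := factorization_degree_le N H hNH hNp hrel hab θ.2 hinv χ.2 hcon
      have h2 : blockHeight p B (χ : G → ℂ) ≤ (charDegree (χ : G → ℂ)).factorization p := Nat.sub_le _ _
      exact h2.trans (h1.trans hle)
    · -- reduction to the stabilizer
      obtain ⟨η, hη, he⟩ := exists_eq_indFun hNT hb hS χ.2 hθb hcon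
      set B' := blockOf M (η : T → ℂ) with hB'def
      have hB' : IsPBlock M B' := ⟨η, rfl⟩
      have hηB' : η ∈ B' := mem_blockOf_self η
      have hcov : ∃ ψ ∈ B', ∃ θ ∈ b, classInner (fun n : N => (ψ : T → ℂ) ⟨(n : G), hNT n.2⟩) (θ : N → ℂ) ≠ 0 :=
        ⟨η, hηB', θ, hθb, hη⟩
      have hind : IsInducedBlock M T B' B := by
        refine ⟨hB', hB, ?_⟩
        intro ξ hξ χ' hχ' g
        have h1 := memLocalIdeal_inducedCentralChar_sub ξ.2 η.2 (sameBlock_symm hξ) g
        have h2 : MemLocalIdeal M (centralChar (χ : G → ℂ) g - centralChar (χ' : G → ℂ) g) := by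
          obtain ⟨χ₁, rfl⟩ := hB
          exact sameBlock_trans (sameBlock_symm hχ) hχ' g
        have h3 : centralChar (χ : G → ℂ) g = inducedCentralChar T (η : T → ℂ) g := by
          rw [he]
          exact (Cfsg.Agent.S0932.result T _ (Cfsg.Agent.Lib.Char.Basic.isCharacter_of_isIrrCharacter η.2) g).symm
        rw [h3] at h2
        have := memLocalIdeal_add h1 h2
        rwa [sub_add_sub_cancel] at this
      obtain ⟨hdefect, hheight⟩ := Cfsg.Agent.S4436.result p M hM N b hb T (forall_of_isStabilizer hS) hNT B' hB'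
        hcov B hind
      obtain ⟨χ', hχ'B, hχ'e, hχ'h⟩ := hheight η hηB'
      have hχχ' : χ' = χ := by
        apply Subtype.ext
        rw [hχ'e, ← he]
      rw [hχχ'] at hχ'h
      rw [hχ'h]
      obtain ⟨g₀, hg₀⟩ := exists_isDefectClass (M := M) hB'
      obtain ⟨Q₀⟩ : Nonempty (Sylow p (Subgroup.centralizer ({g₀} : Set T))) := inferInstance
      set D := (Q₀ : Subgroup (Subgroup.centralizer ({g₀} : Set T))).map
        (Subgroup.centralizer ({g₀} : Set T)).subtype with hDdef
      have hD : IsDefectGroup p M B' D := ⟨g₀, hg₀, Q₀, rfl⟩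
      have hlt : Nat.card T < n := by
        rw [← hcard]
        have h1 : Nat.card T * T.index = Nat.card G := Subgroup.card_mul_index T
        have h2 : T.index ≠ 1 := fun h => hTtop (Subgroup.index_eq_one.1 h)
        have h3 : T.index ≠ 0 := Subgroup.index_ne_zero_of_finite
        have h4 : 2 ≤ T.index := by omega
        have h5 : 0 < Nat.card T := Nat.card_pos
        nlinarith
      have hmain := ih _ hlt T rfl (Cfsg.Agent.Lib.Solvable.PSeries.isPSolvable_subgroup hsolv T) B' hB' D hD η hηB'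
      refine hmain.trans (le_of_eq ?_)
      obtain ⟨x, hx⟩ := Cfsg.Agent.Lib.Blocks.HeightZero.exists_map_conj_eq_of_isDefectGroup hM hB hP (hdefect D hD)
      have e1 : D ≃* D.map T.subtype := Subgroup.equivMapOfInjective D T.subtype Subtype.val_injective
      have e2 : D.map T.subtype ≃* P := by
        rw [← hx]
        exact Subgroup.equivMapOfInjective _ _ (MulAut.conj x).injective
      rw [index_center_eq_of_mulEquiv (e1.trans e2)]

end Cfsg.Agent.Lib.Blocks.PSolvHeight
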