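/-
Brauer pairs: the principal block, and a normal `p`-subgroup.
-/
import Mathlib
import Cfsg.Agent.Lib.Blocks.Pairs8
import Cfsg.Agent.S0936
import Cfsg.Agent.Lib.Blocks.FirstMain2

set_option autoImplicit false

namespace Cfsg.Agent.Lib.Blocks.Pairs

open Cfsg Cfsg.Agent.Lib.Blocks.Local Cfsg.Agent.Lib.Blocks.Central Cfsg.Agent.Lib.Blocks.Osima
open Cfsg.Agent.Lib.Blocks.Covering Cfsg.Agent.Lib.Blocks.BrauerMap Cfsg.Agent.Lib.Blocks.Transport
open Cfsg.Agent.Lib.Blocks.BlockHom Cfsg.Agent.Lib.Blocks.Twisted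

universe u

section Third

variable {G : Type u} [Group G] [Fintype G] {M : Ideal AlgInt} [hM : M.IsPrime]
variable {p : ℕ} [Fact p.Prime]

lemma brauer_centralizer_eq_res (Q : Subgroup G) [Fintype (Subgroup.centralizer (Q : Set G))]
    (a : MonoidAlgebra ℂ G) :
    brauer Q (Subgroup.centralizer (Q : Set G)) a = res (Subgroup.centralizer (Q : Set G)) a := by
  classical
  apply ext_coeff
  intro h
  rw [coeff_brauer, coeff_res, if_pos h.2]

/-- The central characters induced from `C_G(Q)` are those of the Brauer map. -/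
lemma inducedCentralChar_centralizer (Q : Subgroup G) (ξ : Subgroup.centralizer (Q : Set G) → ℂ) (g : G) :
    inducedCentralChar (Subgroup.centralizer (Q : Set G)) ξ g =
      brauerCentralChar Q (Subgroup.centralizer (Q : Set G)) ξ g := by
  unfold inducedCentralChar brauerCentralChar
  have : {h : Subgroup.centralizer (Q : Set G) | IsConj g (h : G)} =
      {h : Subgroup.centralizer (Q : Set G) | IsConj g (h : G) ∧ (h : G) ∈ Subgroup.centralizer (Q : Set G)} := by
    ext h
    exact ⟨fun h1 => ⟨h1, h.2⟩, fun h1 => h1.1⟩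
  rw [this]

/-- `(Q, e)` is a pair of `blockOf χ` as soon as `ω_ξ ∘ Br ≡ ω_χ`, and `e` induces that block. -/
theorem isInducedBlock_centralizer {Q : Subgroup G} [Fintype (Subgroup.centralizer (Q : Set G))]
    {ξ : IrrCharacter (Subgroup.centralizer (Q : Set G))} {χ : IrrCharacter G}
    (h : ∀ z : localCenter G M, MemLocalIdeal M
      (omega (ξ : _ → ℂ) (res (Subgroup.centralizer (Q : Set G)) z.1) - omega (χ : G → ℂ) z.1)) :
    IsInducedBlock M (Subgroup.centralizer (Q : Set G)) (blockOf M (ξ : _ → ℂ)) (blockOf M (χ : G → ℂ)) := by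
  classical
  refine ⟨⟨ξ, rfl⟩, ⟨χ, rfl⟩, fun ξ' hξ' χ' hχ' g => ?_⟩
  rw [inducedCentralChar_centralizer, brauerCentralChar_eq_omega, brauer_centralizer_eq_res]
  have hcs : res (Subgroup.centralizer (Q : Set G)) (classSum g) ∈ localCenter (Subgroup.centralizer (Q : Set G)) M := by
    have hcl := classSum_mem_localCenter (M := M) g
    exact res_mem_localCenter' hcl.2 (fun x u _ => hcl.1 x u)
  have h1 : MemLocalIdeal M (omega (ξ' : _ → ℂ) (res (Subgroup.centralizer (Q : Set G)) (classSum g)) -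
      omega (ξ : _ → ℂ) (res (Subgroup.centralizer (Q : Set G)) (classSum g))) :=
    memLocalIdeal_omega_sub ξ'.2 ξ.2 (sameBlock_symm hξ') hcs
  have h2 := h ⟨classSum g, classSum_mem_localCenter g⟩
  simp only at h2
  rw [omega_classSum (isClassFunction_of_irr χ.2)] at h2
  have h3 : MemLocalIdeal M (centralChar (χ : G → ℂ) g - centralChar (χ' : G → ℂ) g) := hχ' g
  have h4 := memLocalIdeal_add (memLocalIdeal_add h1 h2) h3
  convert h4 using 1
  ring

/-- **S4663**: the Brauer pairs of the principal block. -/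
theorem isBrauerPairOf_principal_iff (hMp : IsPModular p M) {Q : Subgroup G} (hQ : IsPGroup p Q)
    {e : Set (IrrCharacter (Subgroup.centralizer (Q : Set G)))} (he : IsPBlock M e) :
    IsBrauerPairOf p M (principalBlock M G) Q e ↔
      e = principalBlock M (Subgroup.centralizer (Q : Set G)) := by
  classical
  obtain ⟨ξ, hξ⟩ := isPBlock_nonempty he
  obtain ⟨χ, hχ⟩ := exists_irr_of_brauer hMp hQ (le_refl _)
    (Cfsg.Agent.Lib.Blocks.FirstMain.centralizer_le_normalizer' Q) ξ.2
  have hχ' : ∀ z : localCenter G M, MemLocalIdeal M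
      (omega (ξ : _ → ℂ) (res (Subgroup.centralizer (Q : Set G)) z.1) - omega (χ : G → ℂ) z.1) := by
    intro z
    rw [← brauer_centralizer_eq_res]
    exact hχ z
  have hind := isInducedBlock_centralizer hχ'
  rw [← isPBlock_eq_blockOf he hξ] at hind
  have hB₀ : IsPBlock M (principalBlock M G) := Cfsg.Agent.Lib.Blocks.Principal.isPBlock_principalBlock M
  have hel := blockElt_mem_localCenter hB₀
  have h3 := Cfsg.Agent.S0936.result p M hMp (Subgroup.centralizer (Q : Set G)) e ⟨_, hind⟩
  rw [← h3]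
  constructor
  · intro hp
    rw [isBrauerPairOf_iff] at hp
    have h1 := hp.2.2 ξ hξ
    have h2 := hχ' ⟨blockElt _, hel⟩
    simp only at h2
    have h4 : χ ∈ principalBlock M G := by
      by_contra hcon
      rw [omega_blockElt_of_notMem hcon, sub_zero] at h2
      apply not_memLocalIdeal_one (M := M)
      have h5 := memLocalIdeal_sub h2 h1
      simpa [bv] using h5
    rwa [← isPBlock_eq_blockOf hB₀ h4] at hind
  · intro hi
    have heq : blockOf M (χ : G → ℂ) = principalBlock M G :=
      Cfsg.Agent.Lib.Blocks.FirstMain2.induced_unique hind hi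
    have h4 : χ ∈ principalBlock M G := by
      rw [← heq]
      exact mem_blockOf_self χ
    have h2 := hχ' ⟨blockElt _, hel⟩
    simp only at h2
    rw [omega_blockElt_of_mem h4] at h2
    rw [isBrauerPairOf_iff]
    refine ⟨⟨hQ, he⟩, hB₀, fun ξ' hξ' => ?_⟩
    exact memLocalIdeal_bv_sub_one_of_mem he hξ hξ' (brDom_blockElt (P := Q) hB₀).loc (brDom_blockElt (P := Q) hB₀).invC h2

end Third

section NormalP

variable {G : Type u} [Group G] [Fintype G] {M : Ideal AlgInt} [hM : M.IsPrime]
variable {p : ℕ} [Fact p.Prime]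

omit hM in
lemma conjB_inv_conjB {K : Subgroup G} {u : G} (hu : u ∈ Subgroup.normalizer (K : Set G))
    (hi : u⁻¹ ∈ Subgroup.normalizer (K : Set G)) (s : Set (IrrCharacter K)) :
    conjB u⁻¹ (map_conj_of_mem_normalizer hi) (conjB u (map_conj_of_mem_normalizer hu) s) = s := by
  have hm : u⁻¹ * u ∈ Subgroup.normalizer (K : Set G) := Subgroup.mul_mem _ hi hu
  rw [← conjB_mul (map_conj_of_mem_normalizer hi) (map_conj_of_mem_normalizer hu)
    (map_conj_of_mem_normalizer hm)]
  rw [conjB_congr (inv_mul_cancel u) (map_conj_of_mem_normalizer hm)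
    (map_conj_of_mem_normalizer (Subgroup.le_normalizer K.one_mem))]
  exact conjB_of_mem K.one_mem _ s

/-- **S4654**, second part. -/
theorem blockCoeff_eq_sum_conj (hMp : IsPModular p M) {P : Subgroup G} [P.Normal] {B : Set (IrrCharacter G)}
    {e : Set (IrrCharacter (Subgroup.centralizer (P : Set G)))} (hBe : IsBrauerPairOf p M B P e)
    {T : Subgroup G} (hT : ∀ x : G, x ∈ T ↔ StabilizesBlock (Subgroup.centralizer (P : Set G)) e x) (g : G) :
    blockCoeff B g = (Nat.card T : ℂ)⁻¹ * ∑ x : G, subgroupBlockCoeff (Subgroup.centralizer (P : Set G)) e (x⁻¹ * g * x) := by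
  classical
  have hP : IsPGroup p P := hBe.1.1
  have he : IsPBlock M e := hBe.1.2
  have hNP : ∀ x : G, x ∈ Subgroup.normalizer (P : Set G) := by
    intro x
    rw [Subgroup.mem_normalizer_iff]
    intro h
    have hn : P.Normal := inferInstance
    refine ⟨fun h1 => hn.conj_mem _ h1 x, fun h1 => ?_⟩
    have := hn.conj_mem _ h1 x⁻¹
    simpa [mul_assoc] using this
  have hNK : ∀ x : G, x ∈ Subgroup.normalizer ((Subgroup.centralizer (P : Set G) : Subgroup G) : Set G) :=
    fun x => normalizer_le_normalizer_centralizer P (hNP x)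
  have hXK : (⊤ : Subgroup G) ≤ Subgroup.normalizer ((Subgroup.centralizer (P : Set G) : Subgroup G) : Set G) :=
    fun x _ => hNK x
  obtain ⟨F, hF, hFc⟩ := exists_block_orbitU hMp hP (le_top : P ≤ ⊤) (le_top : Subgroup.centralizer (P : Set G) ≤ ⊤)
    (fun x _ => hNP x) hXK he
  set U := orbitU ⊤ (Subgroup.centralizer (P : Set G)) hXK e with hU
  have heU : e ⊆ U := subset_orbitU _ _ _ _
  -- transport to `G`
  let φ : G ≃* (⊤ : Subgroup G) := Subgroup.topEquiv.symm
  have hB' : IsPBlock M (blockMap φ F) := isPBlock_blockMap _ hF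
  have hc' : ∀ g : G, blockCoeff (blockMap φ F) g = subgroupBlockCoeff (Subgroup.centralizer (P : Set G)) U g := by
    intro g
    rw [blockCoeff_blockMap, hFc]
    rfl
  have hEE : blockElt (blockMap φ F) = EE (Subgroup.centralizer (P : Set G)) U := by
    apply ext_coeff
    intro g
    rw [coeff_blockElt, coeff_EE, hc']
  have hpair : IsBrauerPairOf p M (blockMap φ F) P e := by
    rw [isBrauerPairOf_iff]
    refine ⟨hBe.1, hB', fun ξ hξ => ?_⟩
    rw [hEE]
    unfold bv
    rw [res_EE, omega_blockElt_of_mem (heU hξ), sub_self]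
    exact memLocalIdeal_zero
  obtain ⟨B₀, -, hu⟩ := existsUnique_block_of_pair hMp hBe.1
  have hBB : blockMap φ F = B := by
    rw [hu _ hpair, hu _ hBe]
  rw [← hBB, hc']
  -- the sum
  let ψ : G → Blk M (Subgroup.centralizer (P : Set G)) := fun x =>
    ⟨conjB x (map_conj_of_mem_normalizer (hNK x)) e, isPBlock_conjB he⟩
  have hsum := EE_orbitU_eq_sum (M := M) hXK he (Finset.univ.image ψ) (fun b => by
    simp only [Finset.mem_image, Finset.mem_univ, true_and]
    constructor
    · rintro ⟨x, rfl⟩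
      exact ⟨⟨x, trivial⟩, rfl⟩
    · rintro ⟨u, hu⟩
      exact ⟨u, Subtype.ext hu.symm⟩)
  have hfib : ∀ b ∈ Finset.univ.image ψ, (Finset.univ.filter (fun x => ψ x = b)).card = Nat.card T := by
    intro b hb
    obtain ⟨x₀, -, rfl⟩ := Finset.mem_image.mp hb
    have hiff : ∀ y : G, ψ y = ψ x₀ ↔ x₀⁻¹ * y ∈ T := by
      intro y
      rw [hT, stabilizesBlock_iff]
      have hm := hNK (x₀⁻¹ * y)
      have e1 : conjB y (map_conj_of_mem_normalizer (hNK y)) e =
          conjB x₀ (map_conj_of_mem_normalizer (hNK x₀)) (conjB (x₀⁻¹ * y) (map_conj_of_mem_normalizer hm) e) := by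
        rw [← conjB_mul (map_conj_of_mem_normalizer (hNK x₀)) (map_conj_of_mem_normalizer hm)
          (map_conj_of_mem_normalizer (hNK (x₀ * (x₀⁻¹ * y))))]
        exact conjB_congr (by group) _ _ _
      constructor
      · intro h
        refine ⟨hm, ?_⟩
        have h1 : conjB y (map_conj_of_mem_normalizer (hNK y)) e = conjB x₀ (map_conj_of_mem_normalizer (hNK x₀)) e :=
          congrArg Subtype.val h
        rw [e1] at h1
        have h2 := congrArg (conjB x₀⁻¹ (map_conj_of_mem_normalizer (hNK x₀⁻¹))) h1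
        rwa [conjB_inv_conjB (hNK x₀) (hNK x₀⁻¹), conjB_inv_conjB (hNK x₀) (hNK x₀⁻¹)] at h2
      · rintro ⟨hh, h⟩
        apply Subtype.ext
        show conjB y (map_conj_of_mem_normalizer (hNK y)) e = conjB x₀ (map_conj_of_mem_normalizer (hNK x₀)) e
        rw [e1, h]
    have hequiv : T ≃ {y : G // ψ y = ψ x₀} :=
      { toFun := fun t => ⟨x₀ * t, (hiff _).mpr (by simp)⟩
        invFun := fun y => ⟨x₀⁻¹ * y.1, (hiff _).mp y.2⟩
        left_inv := fun t => Subtype.ext (by simp)
        right_inv := fun y => Subtype.ext (by simp) }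
    rw [Nat.card_congr hequiv, Nat.card_eq_fintype_card, Fintype.card_subtype]
  have hψ : ∀ x : G, subgroupBlockCoeff (Subgroup.centralizer (P : Set G)) e (x⁻¹ * g * x) =
      (EE (Subgroup.centralizer (P : Set G)) (ψ x).1).coeff g := by
    intro x
    have h1 := coeff_EE_conjB (map_conj_of_mem_normalizer (hNK x)) e (x⁻¹ * g * x)
    have h2 : x * (x⁻¹ * g * x) * x⁻¹ = g := by group
    rw [h2] at h1
    rw [← coeff_EE, ← h1]
  have hcomp := Finset.sum_comp (s := (Finset.univ : Finset G))
    (fun b : Blk M (Subgroup.centralizer (P : Set G)) => (EE (Subgroup.centralizer (P : Set G)) b.1).coeff g) ψ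
  have hne : (Nat.card T : ℂ) ≠ 0 := by
    exact_mod_cast Nat.card_pos.ne'
  rw [Finset.sum_congr rfl (fun x _ => hψ x), hcomp,
    Finset.sum_congr rfl (fun b hb => by rw [hfib b hb, nsmul_eq_mul]), ← Finset.mul_sum, ← mul_assoc,
    inv_mul_cancel₀ hne, one_mul, ← coeff_EE, hsum, MonoidAlgebra.coeff_sum, Finsupp.finsetSum_apply]

end NormalP

end Cfsg.Agent.Lib.Blocks.Pairs
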