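import Mathlib
import Cfsg.Prelude.Def_BrauerPairs
import Cfsg.Prelude.Def_BlockRank
import Cfsg.Agent.Lib.Blocks.Pairs9
import Cfsg.Agent.Lib.Blocks.PrincipalCen
import Cfsg.Agent.Lib.Blocks.Kernel
import Cfsg.Agent.Lib.Transfer.Frobenius
import Cfsg.Agent.Lib.Transfer.Basic

/-!
# The principal block and normal `p`-complements

* `stabilizesBlock_principalBlock`: the normalizer of `K` stabilizes the principal block of `K`.
* `hasNormalPComplement_iff_isNilpotentBlock`: `G` has a normal `p`-complement iff `B₀` is nilpotent.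
* `hasNormalPComplement_iff_blockRank`: iff `l(B₀) = 1`.
-/

set_option autoImplicit false

namespace Cfsg.Agent.Lib.Blocks.PrincipalNil

open Cfsg Cfsg.Agent.Lib.Blocks.Local Cfsg.Agent.Lib.Blocks.Central Cfsg.Agent.Lib.Blocks.Osima
open Cfsg.Agent.Lib.Blocks.Covering Cfsg.Agent.Lib.Blocks.BrauerMap Cfsg.Agent.Lib.Blocks.Transport
open Cfsg.Agent.Lib.Blocks.Pairs Cfsg.Agent.Lib.Blocks.Principal

universe u

variable {G : Type u} [Group G] [Fintype G] {M : Ideal AlgInt} [hMp : M.IsPrime] {p : ℕ} [hp : Fact p.Prime]

/-- A block containing the trivial character is the principal block. -/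
lemma eq_principalBlock_of_mem {H : Type u} [Group H] [Fintype H] {f : Set (IrrCharacter H)} (hf : IsPBlock M f)
    (h : trivChar H ∈ f) : f = principalBlock M H := by
  obtain ⟨χ, rfl⟩ := hf
  rw [principalBlock_eq]
  exact (blockOf_eq_of_mem h).symm

/-- The normalizer of a subgroup stabilizes its principal block. -/
theorem stabilizesBlock_principalBlock {K : Subgroup G} {x : G} (hx : x ∈ Subgroup.normalizer (K : Set G)) :
    StabilizesBlock K (principalBlock M K) x := by
  classical
  haveI : Fintype K := Fintype.ofFinite _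
  rw [stabilizesBlock_iff]
  refine ⟨hx, ?_⟩
  apply eq_principalBlock_of_mem (isPBlock_conjB (isPBlock_principalBlock M))
  rw [mem_conjB]
  have h1 : irrComap (conjEq x (map_conj_of_mem_normalizer hx)) (trivChar K) = trivChar K := by
    apply Subtype.ext
    rfl
  rw [h1]
  exact trivChar_mem_principalBlock

/-- `G` has a normal `p`-complement iff its principal block is nilpotent. -/
theorem hasNormalPComplement_iff_isNilpotentBlock (hM : IsPModular p M) :
    HasNormalPComplement p G ↔ IsNilpotentBlock p M (principalBlock M G) := by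
  constructor
  · intro h
    refine ⟨isPBlock_principalBlock M, fun Q e hQe x hx _ hreg => ?_⟩
    have hH := Cfsg.Agent.Lib.Transfer.Frobenius.frobeniusHyp_of_hasNormalPComplement h
    exact hH Q hQe.1.1 x hx ((Nat.Prime.coprime_iff_not_dvd hp.out).mpr hreg).symm
  · intro h
    apply Cfsg.Agent.Lib.Transfer.Frobenius.hasNormalPComplement_of_hyp
    intro Q hQ g hg hc
    refine h.2 Q (principalBlock M (Subgroup.centralizer (Q : Set G))) ?_ g hg ?_ ?_
    · exact (isBrauerPairOf_principal_iff hM hQ (isPBlock_principalBlock M)).mpr rfl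
    · exact stabilizesBlock_principalBlock (normalizer_le_normalizer_centralizer Q hg)
    · exact (Nat.Prime.coprime_iff_not_dvd hp.out).mp hc.symm

lemma pRegularPart_one_ne_zero : pRegularPart p (fun _ : G => (1 : ℂ)) ≠ 0 := by
  intro h
  have h1 := congrFun h 1
  have h2 : IsPRegular p (1 : G) := by
    rw [IsPRegular, orderOf_one]
    exact hp.out.one_lt.ne' ∘ Nat.dvd_one.mp
  simp [pRegularPart, h2] at h1

/-- `G` has a normal `p`-complement iff the principal block has one irreducible Brauer character. -/
theorem hasNormalPComplement_iff_blockRank (hM : IsPModular p M) :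
    HasNormalPComplement p G ↔ blockRank p (principalBlock M G) = 1 := by
  classical
  have hreg1 : pRegularPart p (fun _ : G => (1 : ℂ)) ≠ 0 := pRegularPart_one_ne_zero
  constructor
  · intro h
    obtain ⟨N, hn, hc, hq⟩ := Cfsg.Agent.Lib.Transfer.Basic.hasNormalPComplement_iff.mp h
    have hle : N ≤ pPrimeCore p G := le_sSup ⟨hn, hc⟩
    -- `p`-regular elements lie in `N`
    have hmem : ∀ y : G, IsPRegular p y → y ∈ N := by
      intro y hy
      obtain ⟨k, hk⟩ := hq (QuotientGroup.mk y : G ⧸ N)
      have h1 : y ^ p ^ k ∈ N := by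
        rw [← QuotientGroup.eq_one_iff, QuotientGroup.mk_pow]
        exact hk
      have h2 : Nat.Coprime (p ^ k) (orderOf y) :=
        Nat.Coprime.pow_left _ ((Nat.Prime.coprime_iff_not_dvd hp.out).mpr hy)
      obtain ⟨m, hm⟩ := exists_pow_eq_self_of_coprime h2
      rw [← hm]
      exact N.pow_mem h1 m
    have hspan : Submodule.span ℂ ((fun χ : IrrCharacter G => pRegularPart p (χ : G → ℂ)) '' principalBlock M G) =
        Submodule.span ℂ {pRegularPart p (fun _ : G => (1 : ℂ))} := by
      apply le_antisymm
      · rw [Submodule.span_le]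
        rintro _ ⟨χ, hχ, rfl⟩
        rw [SetLike.mem_coe, Submodule.mem_span_singleton]
        refine ⟨(χ : G → ℂ) 1, ?_⟩
        funext y
        simp only [Pi.smul_apply, smul_eq_mul, pRegularPart]
        by_cases hy : IsPRegular p y
        · simp only [hy, if_true, mul_one]
          exact (Cfsg.Agent.Lib.Blocks.PrincipalCen.apply_eq_of_mem_core hM hχ (hle (hmem y hy))).symm
        · simp [hy]
      · rw [Submodule.span_le]
        rintro _ rfl
        exact Submodule.subset_span ⟨trivChar G, trivChar_mem_principalBlock, rfl⟩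
    rw [blockRank, hspan]
    exact finrank_span_singleton hreg1
  · intro h
    rw [blockRank] at h
    set W := Submodule.span ℂ ((fun χ : IrrCharacter G => pRegularPart p (χ : G → ℂ)) '' principalBlock M G) with hW
    have h1mem : pRegularPart p (fun _ : G => (1 : ℂ)) ∈ W :=
      Submodule.subset_span ⟨trivChar G, trivChar_mem_principalBlock, rfl⟩
    have hK : ∀ y : G, IsPRegular p y → y ∈ Cfsg.Agent.Lib.Blocks.Kernel.blockKerSubgroup (principalBlock M G) := by
      intro y hy χ hχ
      have hχW : pRegularPart p (χ : G → ℂ) ∈ W := Submodule.subset_span ⟨χ, hχ, rfl⟩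
      obtain ⟨c, hc⟩ := (finrank_eq_one_iff_of_nonzero' (⟨_, h1mem⟩ : W)
        (fun h0 => hreg1 (congrArg Subtype.val h0))).mp h ⟨_, hχW⟩
      have hc' : c • pRegularPart p (fun _ : G => (1 : ℂ)) = pRegularPart p (χ : G → ℂ) :=
        congrArg Subtype.val hc
      have h1reg : IsPRegular p (1 : G) := by
        rw [IsPRegular, orderOf_one]
        exact hp.out.one_lt.ne' ∘ Nat.dvd_one.mp
      have h2 := congrFun hc' 1
      have h3 := congrFun hc' y
      simp only [Pi.smul_apply, smul_eq_mul, pRegularPart, h1reg, hy, if_true, mul_one] at h2 h3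
      rw [← h2, ← h3]
    refine Cfsg.Agent.Lib.Transfer.Basic.hasNormalPComplement_iff.mpr
      ⟨Cfsg.Agent.Lib.Blocks.Kernel.blockKerSubgroup (principalBlock M G), inferInstance, ?_, ?_⟩
    · have h4 := Cfsg.Agent.Lib.Blocks.Kernel.not_dvd_card_blockKerSubgroup hM
        (isPBlock_principalBlock (G := G) M) (trivChar_mem_principalBlock (G := G) (M := M))
      exact ((Nat.Prime.coprime_iff_not_dvd hp.out).mpr h4).symm
    · intro q
      induction q using QuotientGroup.induction_on with
      | H g =>
        set a := (Nat.card G).factorization p with ha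
        refine ⟨a, ?_⟩
        have hm : ¬ p ∣ ordCompl[p] (Nat.card G) := Nat.not_dvd_ordCompl hp.out Nat.card_pos.ne'
        have h5 : (g ^ p ^ a) ^ (ordCompl[p] (Nat.card G)) = 1 := by
          rw [← pow_mul, Nat.ordProj_mul_ordCompl_eq_self]
          exact pow_card_eq_one'
        have h6 : orderOf (g ^ p ^ a) ∣ ordCompl[p] (Nat.card G) := orderOf_dvd_of_pow_eq_one h5
        have h7 : IsPRegular p (g ^ p ^ a) := fun h8 => hm (h8.trans h6)
        have h8 := hK _ h7
        have h9 : ((g ^ p ^ a : G) : G ⧸ Cfsg.Agent.Lib.Blocks.Kernel.blockKerSubgroup (principalBlock M G)) = 1 :=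
          (QuotientGroup.eq_one_iff _).mpr h8
        rw [QuotientGroup.mk_pow] at h9
        exact h9

end Cfsg.Agent.Lib.Blocks.PrincipalNil
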