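import Mathlib
import Cfsg.Agent.Lib.Blocks.BlockCount
import Cfsg.Agent.Lib.Blocks.PrincipalNil
import Cfsg.Agent.Lib.Blocks.Fong
import Cfsg.Agent.Lib.Blocks.FongLocal
import Cfsg.Agent.Lib.Blocks.FongReynolds
import Cfsg.Agent.Lib.Blocks.Transport
import Cfsg.Agent.Lib.Blocks.HeightZero
import Cfsg.Agent.Lib.Blocks.FirstMain2
import Cfsg.Agent.S4436
import Cfsg.Agent.S4652
import Cfsg.Agent.S0916
import Cfsg.Agent.S0932
import Cfsg.Agent.Lib.Transfer.Frobenius
import Cfsg.Agent.Lib.Blocks.Knorr3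
import Cfsg.Agent.Lib.Blocks.PSolvHeight
import Cfsg.Agent.Lib.Blocks.BSInd

/-!
# Blocks with `k(B) - l(B) = 1`

* `AllConj p G`: all nontrivial `p`-elements are conjugate.
* `isElementaryAbelian_of_allConj`: if moreover the centralizers of these elements have normal `p`-complements,
  then the Sylow `p`-subgroups are elementary abelian (the point: an element inverting a central element of a
  Sylow subgroup induces a fixed point free automorphism of order two).
* `allConj_of_card`: the subsection count when every nontrivial `p`-element has a subsection in the block.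
-/

set_option autoImplicit false
set_option linter.unusedSectionVars false
set_option linter.style.haveILetI false

namespace Cfsg.Agent.Lib.Blocks.KLOne

open Cfsg Cfsg.Agent.Lib.Blocks.Local Cfsg.Agent.Lib.Blocks.Central Cfsg.Agent.Lib.Blocks.Osima
  Cfsg.Agent.Lib.Blocks.Sections Cfsg.Agent.Lib.Blocks.BlockCount Cfsg.Agent.Lib.Blocks.Principal
  Cfsg.Agent.Lib.Blocks.PrincipalCen Cfsg.Agent.Lib.Blocks.Transport Cfsg.Agent.Lib.Transfer.Frobenius

universe u

/-- All non-trivial `p`-elements are conjugate. -/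
def AllConj (p : ℕ) (G : Type u) [Group G] : Prop :=
  ∀ x y : G, x ≠ 1 → y ≠ 1 → (∃ k : ℕ, orderOf x = p ^ k) → (∃ k : ℕ, orderOf y = p ^ k) → IsConj x y

section Fusion

variable {G : Type u} [Group G] [Finite G] {p : ℕ} [hp : Fact p.Prime]

lemma orderOf_eq_of_isConj {x y : G} (h : IsConj x y) : orderOf x = orderOf y := by
  obtain ⟨g, rfl⟩ := isConj_iff.mp h
  exact (orderOf_injective (MulAut.conj g).toMonoidHom (MulAut.conj g).injective x).symm

theorem pow_eq_one_of_allConj (h : AllConj p G) {x : G} (hx : ∃ k : ℕ, orderOf x = p ^ k) : x ^ p = 1 := by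
  obtain ⟨k, hk⟩ := hx
  by_contra hne
  have hx1 : x ≠ 1 := by
    rintro rfl
    simp at hne
  have hk0 : k ≠ 0 := by
    rintro rfl
    rw [pow_zero, orderOf_eq_one_iff] at hk
    exact hx1 hk
  obtain ⟨j, rfl⟩ := Nat.exists_eq_succ_of_ne_zero hk0
  have hord : orderOf (x ^ p) = p ^ j := by
    rw [orderOf_pow_of_dvd hp.out.ne_zero (by rw [hk]; exact dvd_pow_self p (Nat.succ_ne_zero j)), hk,
      Nat.succ_eq_add_one, pow_succ]
    exact Nat.mul_div_cancel _ hp.out.pos
  have h1 := orderOf_eq_of_isConj (h x (x ^ p) hx1 hne ⟨_, hk⟩ ⟨_, hord⟩)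
  rw [hk, hord] at h1
  have := Nat.pow_right_injective hp.out.two_le h1
  omega

lemma orderOf_eq_pow_of_mem {D : Subgroup G} (hD : IsPGroup p D) {x : G} (hx : x ∈ D) :
    ∃ k : ℕ, orderOf x = p ^ k := by
  obtain ⟨k, hk⟩ := IsPGroup.iff_orderOf.mp hD ⟨x, hx⟩
  exact ⟨k, by rw [← hk, Subgroup.orderOf_mk]⟩

/-- A `p'`-element centralizing `u` and normalizing a `p`-subgroup of `C(u)` centralizes it. -/
lemma commute_of_frob {u : G} (hF : FrobeniusHyp p (Cen u)) {Q : Subgroup G} (hQ : IsPGroup p Q) (hQu : Q ≤ Cen u)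
    {t : G} (ht : t ∈ Cen u) (hn : t ∈ Subgroup.normalizer (Q : Set G)) (hc : Nat.Coprime (orderOf t) p)
    {q : G} (hq : q ∈ Q) : t * q = q * t := by
  have h1 : IsPGroup p (Q.subgroupOf (Cen u)) := hQ.comap_subtype
  have h2 : (⟨t, ht⟩ : Cen u) ∈ Subgroup.normalizer ((Q.subgroupOf (Cen u) : Subgroup (Cen u)) : Set (Cen u)) := by
    rw [Subgroup.mem_normalizer_iff]
    intro h
    have := Subgroup.mem_normalizer_iff.mp hn (h : G)
    simpa [Subgroup.mem_subgroupOf] using this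
  have h3 := hF _ h1 _ h2 (by rwa [Subgroup.orderOf_mk])
  have h4 := Subgroup.mem_centralizer_iff.mp h3 ⟨q, hQu hq⟩ (by
    show q ∈ Q
    exact hq)
  have h5 := congrArg Subtype.val h4
  simpa using h5.symm

/-- A fixed point free involutive automorphism of a finite group inverts it. -/
lemma inv_of_fpf {X : Type*} [Group X] [Finite X] (σ : X → X) (hm : ∀ a b, σ (a * b) = σ a * σ b)
    (hinv : ∀ a, σ (σ a) = a) (hfp : ∀ a, σ a = a → a = 1) (y : X) : σ y = y⁻¹ := by
  have hσinv : ∀ a, σ a⁻¹ = (σ a)⁻¹ := by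
    intro a
    have h1 : σ 1 = 1 := by
      have := hm 1 1
      rw [mul_one] at this
      exact left_eq_mul.mp this
    have h2 := hm a a⁻¹
    rw [mul_inv_cancel, h1] at h2
    exact (inv_eq_of_mul_eq_one_right h2.symm).symm
  let f : X → X := fun x => x⁻¹ * σ x
  have hf : Function.Injective f := by
    intro a b hab
    have h1 : b * a⁻¹ = σ (b * a⁻¹) := by
      rw [hm, hσinv]
      have h2 : a⁻¹ * σ a = b⁻¹ * σ b := hab
      have h3 : σ b = b * a⁻¹ * σ a := by
        rw [mul_assoc, h2, mul_inv_cancel_left]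
      rw [h3]
      group
    have h2 := hfp _ h1.symm
    exact (mul_inv_eq_one.mp h2).symm
  obtain ⟨x, rfl⟩ := (Finite.injective_iff_surjective.mp hf) y
  show σ (x⁻¹ * σ x) = (x⁻¹ * σ x)⁻¹
  rw [hm, hσinv, hinv, mul_inv_rev, inv_inv]

lemma sq_mul_of_conj_inv {X : Type*} [Group X] {t x : X} (h : t * x * t⁻¹ = x⁻¹) : t ^ 2 * x = x * t ^ 2 := by
  have h1 : t * x = x⁻¹ * t := by
    calc t * x = (t * x * t⁻¹) * t := by group
      _ = x⁻¹ * t := by rw [h]
  have h2 : t * x⁻¹ * t⁻¹ = x := by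
    have := congrArg (fun w => w⁻¹) h
    simpa [mul_assoc] using this
  have h3 : t * x⁻¹ = x * t := by
    calc t * x⁻¹ = (t * x⁻¹ * t⁻¹) * t := by group
      _ = x * t := by rw [h2]
  rw [pow_two, mul_assoc, h1, ← mul_assoc, h3, mul_assoc]

/-- The main group-theoretic lemma. -/
theorem commute_of_allConj (h : AllConj p G)
    (hF : ∀ u : G, u ≠ 1 → (∃ k : ℕ, orderOf u = p ^ k) → FrobeniusHyp p (Cen u))
    (P : Sylow p G) {a b : G} (ha : a ∈ (P : Subgroup G)) (hb : b ∈ (P : Subgroup G)) : a * b = b * a := by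
  classical
  have hPp : IsPGroup p (P : Subgroup G) := P.isPGroup'
  have hord : ∀ x ∈ (P : Subgroup G), ∃ k : ℕ, orderOf x = p ^ k := fun x hx => orderOf_eq_pow_of_mem hPp hx
  have hexp : ∀ x ∈ (P : Subgroup G), x ^ p = 1 := fun x hx => pow_eq_one_of_allConj h (hord x hx)
  by_cases hp2 : p = 2
  · subst hp2
    have h1 := hexp a ha
    have h2 := hexp b hb
    have h3 := hexp (a * b) (mul_mem ha hb)
    have h4 : a⁻¹ = a := inv_eq_of_mul_eq_one_left (by rw [← pow_two, h1])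
    have h5 : b⁻¹ = b := inv_eq_of_mul_eq_one_left (by rw [← pow_two, h2])
    have h6 : (a * b)⁻¹ = a * b := inv_eq_of_mul_eq_one_left (by rw [← pow_two, h3])
    rw [mul_inv_rev, h4, h5] at h6
    exact h6.symm
  by_cases hbot : (P : Subgroup G) = ⊥
  · rw [hbot, Subgroup.mem_bot] at ha hb
    rw [ha, hb]
  -- a central element
  haveI : Nontrivial (P : Subgroup G) := (Subgroup.nontrivial_iff_ne_bot _).mpr hbot
  haveI : Nontrivial (Subgroup.center (P : Subgroup G)) := hPp.center_nontrivial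
  obtain ⟨⟨z', hz'c⟩, hz'⟩ := exists_ne (1 : Subgroup.center (P : Subgroup G))
  set z : G := ((z' : (P : Subgroup G)) : G) with hz
  have hzP : z ∈ (P : Subgroup G) := z'.2
  have hz1 : z ≠ 1 := by
    intro h0
    apply hz'
    apply Subtype.ext
    apply Subtype.ext
    exact h0
  have hzc : ∀ x ∈ (P : Subgroup G), x * z = z * x := by
    intro x hx
    have := (Subgroup.mem_center_iff.mp hz'c) ⟨x, hx⟩
    exact congrArg Subtype.val this
  have hzinv : z⁻¹ ≠ z := by
    intro h0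
    have h1 : z ^ 2 = 1 := by rw [pow_two]; nth_rw 1 [← h0]; exact inv_mul_cancel z
    obtain ⟨k, hk⟩ := hord z hzP
    have h2 : orderOf z ∣ 2 := orderOf_dvd_of_pow_eq_one h1
    rw [hk] at h2
    have hk0 : k ≠ 0 := by
      rintro rfl
      rw [pow_zero, orderOf_eq_one_iff] at hk
      exact hz1 hk
    have h3 : p ∣ 2 := (dvd_pow_self p hk0).trans h2
    exact hp2 ((Nat.prime_dvd_prime_iff_eq hp.out Nat.prime_two).mp h3)
  obtain ⟨g, hg⟩ := isConj_iff.mp (h z z⁻¹ hz1 (inv_ne_one.mpr hz1) (hord z hzP) (hord _ (inv_mem hzP)))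
  -- Burnside
  have hPle : (P : Subgroup G) ≤ Cen z := by
    intro x hx
    rw [Subgroup.mem_centralizer_singleton_iff]
    exact hzc x hx
  have hQle : (P : Subgroup G).map (MulAut.conj g).toMonoidHom ≤ Cen z := by
    rintro _ ⟨x, hx, rfl⟩
    rw [Subgroup.mem_centralizer_singleton_iff]
    have h1 := hzc x hx
    have h2 : g * x * g⁻¹ * z⁻¹ = z⁻¹ * (g * x * g⁻¹) := by
      rw [← hg]
      have e1 : g * x * g⁻¹ * (g * z * g⁻¹) = g * (x * z) * g⁻¹ := by group
      have e2 : g * z * g⁻¹ * (g * x * g⁻¹) = g * (z * x) * g⁻¹ := by group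
      rw [e1, e2, h1]
    show g * x * g⁻¹ * z = z * (g * x * g⁻¹)
    have h3 : z * (g * x * g⁻¹ * z⁻¹) * z = z * (z⁻¹ * (g * x * g⁻¹)) * z := by rw [h2]
    simpa [mul_assoc] using h3.symm
  have hfac : (Nat.card (Cen z)).factorization p = (Nat.card G).factorization p := by
    apply le_antisymm
    · exact (Nat.factorization_le_iff_dvd Nat.card_pos.ne' Nat.card_pos.ne').2
        (Subgroup.card_subgroup_dvd_card _) p
    · have h1 : Nat.card (P : Subgroup G) ∣ Nat.card (Cen z) := Subgroup.card_dvd_of_le hPle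
      rw [P.card_eq_multiplicity] at h1
      exact (hp.out.pow_dvd_iff_le_factorization Nat.card_pos.ne').1 h1
  have hcP : Nat.card (P : Subgroup G) = p ^ (Nat.card (Cen z)).factorization p := by
    rw [hfac]
    exact P.card_eq_multiplicity
  have hcQ : Nat.card ((P : Subgroup G).map (MulAut.conj g).toMonoidHom : Subgroup G) =
      p ^ (Nat.card (Cen z)).factorization p := by
    rw [← hcP]
    exact Subgroup.card_map_of_injective (MulAut.conj g).injective
  obtain ⟨c, hcC, hcc⟩ := Cfsg.Agent.S0916.exists_conj_of_sylow (p := p) (H := Cen z) hPle hQle hcP hcQ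
  -- `n = c g` normalizes `P` and inverts `z`
  set n : G := c * g with hn
  have hnN : n ∈ Subgroup.normalizer ((P : Subgroup G) : Set G) := by
    rw [Subgroup.mem_normalizer_iff_map_conj_eq]
    have e : (MulAut.conj n).toMonoidHom = (MulAut.conj c).toMonoidHom.comp (MulAut.conj g).toMonoidHom := by
      ext x
      simp [hn, mul_assoc]
    have e2 : ((P : Subgroup G).map (MulAut.conj n).toMonoidHom) = (P : Subgroup G) := by
      rw [e, ← Subgroup.map_map]
      exact hcc.symm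
    exact e2
  have hcz : c * z = z * c := Subgroup.mem_centralizer_singleton_iff.mp hcC
  have hnz : n * z * n⁻¹ = z⁻¹ := by
    have h1 : c * z⁻¹ * c⁻¹ = z⁻¹ := by
      have h2 : c * z⁻¹ = z⁻¹ * c := by
        have := congrArg (fun w => z⁻¹ * w * z⁻¹) hcz
        simpa [mul_assoc] using this.symm
      rw [h2, mul_inv_cancel_right]
    calc n * z * n⁻¹ = c * (g * z * g⁻¹) * c⁻¹ := by rw [hn]; group
      _ = z⁻¹ := by rw [hg, h1]
  have hn2 : n ^ 2 ∈ Cen z := by
    rw [Subgroup.mem_centralizer_singleton_iff]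
    exact sq_mul_of_conj_inv hnz
  obtain ⟨k, m, hmo, hkm⟩ := Nat.exists_eq_two_pow_mul_odd (orderOf_pos n).ne'
  set t : G := n ^ m with ht
  have htord : orderOf t = 2 ^ k := by
    rw [ht, orderOf_pow_of_dvd hmo.pos.ne' ⟨2 ^ k, by rw [hkm]; ring⟩, hkm]
    exact Nat.mul_div_cancel _ hmo.pos
  have hcop : Nat.Coprime (orderOf t) p := by
    rw [htord]
    exact Nat.Coprime.pow_left _ ((Nat.coprime_primes Nat.prime_two hp.out).mpr (Ne.symm hp2))
  have htN : t ∈ Subgroup.normalizer ((P : Subgroup G) : Set G) := Subgroup.pow_mem _ hnN _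
  have htz : t * z * t⁻¹ = z⁻¹ := by
    obtain ⟨j, hj⟩ := hmo
    have h1 : t = (n ^ 2) ^ j * n := by rw [ht, hj, pow_succ, pow_mul]
    have h2 : (n ^ 2) ^ j ∈ Cen z := Subgroup.pow_mem _ hn2 _
    have h3 : (n ^ 2) ^ j * z⁻¹ * ((n ^ 2) ^ j)⁻¹ = z⁻¹ := by
      have h4 := Subgroup.mem_centralizer_singleton_iff.mp h2
      have h5 : (n ^ 2) ^ j * z⁻¹ = z⁻¹ * (n ^ 2) ^ j := by
        have := congrArg (fun w => z⁻¹ * w * z⁻¹) h4
        simpa [mul_assoc] using this.symm
      rw [h5, mul_inv_cancel_right]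
    calc t * z * t⁻¹ = (n ^ 2) ^ j * (n * z * n⁻¹) * ((n ^ 2) ^ j)⁻¹ := by rw [h1]; group
      _ = z⁻¹ := by rw [hnz, h3]
  have hPt : ∀ x ∈ (P : Subgroup G), t * x * t⁻¹ ∈ (P : Subgroup G) := fun x hx =>
    (Subgroup.mem_normalizer_iff.mp htN x).mp hx
  let σ : ↥(P : Subgroup G) → ↥(P : Subgroup G) := fun x => ⟨t * x * t⁻¹, hPt x x.2⟩
  have hσm : ∀ x y, σ (x * y) = σ x * σ y := by
    intro x y
    apply Subtype.ext
    show t * ((x : G) * y) * t⁻¹ = t * x * t⁻¹ * (t * y * t⁻¹)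
    group
  have hσσ : ∀ x, σ (σ x) = x := by
    intro x
    apply Subtype.ext
    show t * (t * (x : G) * t⁻¹) * t⁻¹ = x
    have h1 : t ^ 2 ∈ Cen z := by
      rw [Subgroup.mem_centralizer_singleton_iff]
      exact sq_mul_of_conj_inv htz
    have h5 := commute_of_frob (hF z hz1 (hord z hzP)) hPp hPle h1 (Subgroup.pow_mem _ htN 2)
      (Nat.Coprime.coprime_dvd_left (orderOf_pow_dvd 2) hcop) x.2
    have h6 : t * (t * (x : G) * t⁻¹) * t⁻¹ = t ^ 2 * x * (t ^ 2)⁻¹ := by rw [pow_two]; group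
    rw [h6, h5, mul_inv_cancel_right]
  have hσfp : ∀ x, σ x = x → x = 1 := by
    intro x hx
    by_contra hx1
    have hx1' : (x : G) ≠ 1 := fun h0 => hx1 (Subtype.ext h0)
    have hxt : t * (x : G) * t⁻¹ = x := congrArg Subtype.val hx
    have htC : t ∈ Cen (x : G) := by
      rw [Subgroup.mem_centralizer_singleton_iff]
      have := congrArg (fun w => w * t) hxt
      simpa using this
    have hzQ : z ∈ (P : Subgroup G) ⊓ Cen (x : G) := by
      refine ⟨hzP, ?_⟩
      exact Subgroup.mem_centralizer_singleton_iff.mpr (hzc x x.2).symm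
    have hQn : t ∈ Subgroup.normalizer (((P : Subgroup G) ⊓ Cen (x : G) : Subgroup G) : Set G) := by
      rw [Subgroup.mem_normalizer_iff]
      intro w
      constructor
      · intro hw
        obtain ⟨h1, h2⟩ := Subgroup.mem_inf.mp hw
        exact Subgroup.mem_inf.mpr ⟨hPt w h1, mul_mem (mul_mem htC h2) (inv_mem htC)⟩
      · intro hw
        obtain ⟨h1, h2⟩ := Subgroup.mem_inf.mp hw
        refine Subgroup.mem_inf.mpr ⟨(Subgroup.mem_normalizer_iff.mp htN w).mpr h1, ?_⟩
        have h3 : w = t⁻¹ * (t * w * t⁻¹) * t := by group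
        rw [h3]
        exact mul_mem (mul_mem (inv_mem htC) h2) htC
    have h1 := commute_of_frob (hF x hx1' (hord x x.2)) (hPp.to_le inf_le_left) inf_le_right htC hQn hcop hzQ
    apply hzinv
    rw [← htz, h1, mul_inv_cancel_right]
  have hinvP : ∀ y : (P : Subgroup G), σ y = y⁻¹ := inv_of_fpf σ hσm hσσ hσfp
  have h1 := hσm ⟨a, ha⟩ ⟨b, hb⟩
  rw [hinvP, hinvP, hinvP] at h1
  have h2 : (a * b)⁻¹ = a⁻¹ * b⁻¹ := congrArg Subtype.val h1
  apply inv_injective
  rw [h2, mul_inv_rev]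

/-- The conclusion of the group-theoretic analysis. -/
theorem isElementaryAbelian_of_allConj (h : AllConj p G)
    (hF : ∀ u : G, u ≠ 1 → (∃ k : ℕ, orderOf u = p ^ k) → FrobeniusHyp p (Cen u))
    (P : Sylow p G) : IsElementaryAbelian p (P : Subgroup G) := by
  refine ⟨⟨⟨fun a b => Subtype.ext (commute_of_allConj h hF P a.2 b.2)⟩⟩, fun a ha => ?_⟩
  exact pow_eq_one_of_allConj h (orderOf_eq_pow_of_mem P.isPGroup' ha)

end Fusion

section Count

variable {G : Type u} [Group G] [Fintype G] {M : Ideal AlgInt} [hMp : M.IsPrime] {p : ℕ} [hp : Fact p.Prime]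

/-- The isomorphism `C_G(1) ≃ G`. -/
noncomputable def cenOne (G : Type u) [Group G] : Cen (1 : G) ≃* G :=
  MulEquiv.ofBijective (Cen (1 : G)).subtype
    ⟨Subtype.val_injective, fun g => ⟨⟨g, Subgroup.mem_centralizer_singleton_iff.mpr (by simp)⟩, rfl⟩⟩

lemma cenOne_apply (c : Cen (1 : G)) : cenOne G c = (c : G) := rfl

/-- Induction from `C_G(1)` is the transport along `C_G(1) ≃ G`. -/
lemma indFun_cenOne {ψ : Cen (1 : G) → ℂ} (hψ : IsClassFunction (Cen (1 : G)) ψ) (g : G) :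
    indFun (Cen (1 : G)) ψ g = ψ ((cenOne G).symm g) := by
  classical
  have hc : Nat.card (Cen (1 : G)) = Nat.card G := Nat.card_congr (cenOne G).toEquiv
  have h0 : (Nat.card G : ℂ) ≠ 0 := Cfsg.Agent.Lib.Char.Induced.natCard_ne_zero_complex
  have h1 : ∀ x : G, extendByZero (Cen (1 : G)) ψ (x⁻¹ * g * x) = ψ ((cenOne G).symm g) := by
    intro x
    have hx : ((cenOne G).symm (x⁻¹ * g * x) : Cen (1 : G)) =
        ((cenOne G).symm x)⁻¹ * (cenOne G).symm g * (cenOne G).symm x := by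
      rw [map_mul, map_mul, map_inv]
    have h2 : ((x⁻¹ * g * x : G)) = (((cenOne G).symm (x⁻¹ * g * x) : Cen (1 : G)) : G) := by
      exact ((cenOne G).apply_symm_apply _).symm
    rw [h2, Cfsg.Agent.Lib.Char.Induced.extendByZero_coe, hx]
    have h3 := hψ ((cenOne G).symm g) ((cenOne G).symm x)⁻¹
    rw [inv_inv] at h3
    exact h3
  rw [Cfsg.Agent.Lib.Char.Induced.indFun_apply, Finset.sum_congr rfl (fun x _ => h1 x), hc,
    Finset.sum_const, Finset.card_univ, nsmul_eq_mul, ← Nat.card_eq_fintype_card, inv_mul_cancel_left₀ h0]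

/-- The inducers of `χ₀` in `C_G(1)` are the transport of the block of `χ₀`. -/
lemma inducers_one [Fintype (Cen (1 : G))] (χ₀ : G → ℂ) :
    inducers (Cen (1 : G)) M χ₀ = blockMap (cenOne G) (blockOf M χ₀) := by
  ext ψ
  rw [mem_blockMap_iff]
  have key : ∀ g : G, inducedCentralChar (Cen (1 : G)) (ψ : Cen (1 : G) → ℂ) g =
      centralChar ((irrComap (cenOne G).symm ψ : IrrCharacter G) : G → ℂ) g := by
    intro g
    rw [Cfsg.Agent.S0932.result (Cen (1 : G)) _ (Cfsg.Agent.Lib.Char.Basic.isCharacter_of_isIrrCharacter ψ.2) g]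
    congr 1
    funext h
    exact indFun_cenOne (isClassFunction_of_irr ψ.2) h
  constructor
  · intro h g
    have h1 := h g
    rw [key] at h1
    have h2 := memLocalIdeal_neg h1
    rwa [neg_sub] at h2
  · intro h g
    have h1 : MemLocalIdeal M (centralChar χ₀ g - centralChar ((irrComap (cenOne G).symm ψ : IrrCharacter G) : G → ℂ) g) := h g
    rw [key]
    have h2 := memLocalIdeal_neg h1
    rwa [neg_sub] at h2

lemma pRegularPart_irrComap (χ : IrrCharacter G) (c : Cen (1 : G)) :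
    pRegularPart p ((irrComap (cenOne G) χ : IrrCharacter (Cen (1 : G))) : Cen (1 : G) → ℂ) c =
      pRegularPart p (χ : G → ℂ) (cenOne G c) := by
  classical
  have h : IsPRegular p c ↔ IsPRegular p (cenOne G c) := by
    unfold IsPRegular
    rw [cenOne_apply, Subgroup.orderOf_coe]
  unfold pRegularPart
  simp only [h]
  rfl

/-- The rank of the inducers in `C_G(1)`. -/
lemma blockRank_inducers_one [Fintype (Cen (1 : G))] (χ₀ : G → ℂ) :
    blockRank p (inducers (Cen (1 : G)) M χ₀) = blockRank p (blockOf M χ₀) := by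
  classical
  rw [inducers_one]
  unfold blockRank
  let L : (G → ℂ) ≃ₗ[ℂ] (Cen (1 : G) → ℂ) := LinearEquiv.funCongrLeft ℂ ℂ (cenOne G).toEquiv
  have hL : ∀ (f : G → ℂ) (c : Cen (1 : G)), L f c = f (cenOne G c) := fun f c => rfl
  have h1 : (fun χ : IrrCharacter (Cen (1 : G)) => pRegularPart p (χ : Cen (1 : G) → ℂ)) ''
      blockMap (cenOne G) (blockOf M χ₀) =
      L '' ((fun χ : IrrCharacter G => pRegularPart p (χ : G → ℂ)) '' blockOf M χ₀) := by
    ext f
    constructor
    · rintro ⟨_, ⟨χ, hχ, rfl⟩, rfl⟩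
      refine ⟨_, ⟨χ, hχ, rfl⟩, ?_⟩
      funext c
      rw [hL]
      exact (pRegularPart_irrComap χ c).symm
    · rintro ⟨_, ⟨χ, hχ, rfl⟩, rfl⟩
      refine ⟨_, ⟨χ, hχ, rfl⟩, ?_⟩
      funext c
      rw [hL]
      exact pRegularPart_irrComap χ c
  have h2 : Submodule.span ℂ (L '' ((fun χ : IrrCharacter G => pRegularPart p (χ : G → ℂ)) '' blockOf M χ₀)) =
      (Submodule.span ℂ ((fun χ : IrrCharacter G => pRegularPart p (χ : G → ℂ)) '' blockOf M χ₀)).map
        (L : (G → ℂ) →ₗ[ℂ] (Cen (1 : G) → ℂ)) :=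
    (Submodule.map_span (L : (G → ℂ) →ₗ[ℂ] (Cen (1 : G) → ℂ)) _).symm
  rw [h1, h2]
  exact LinearEquiv.finrank_map_eq L _

/-- Representatives of classes of `p`-elements. -/
theorem exists_reps (p : ℕ) (G : Type u) [Group G] [Fintype G] :
    ∃ X : Finset G, 1 ∈ X ∧ (∀ x ∈ X, ∃ k : ℕ, orderOf x = p ^ k) ∧
      ∀ g : G, (∃ k : ℕ, orderOf g = p ^ k) → ∃! x, x ∈ X ∧ IsConj g x := by
  classical
  let r : G → G := fun g => Quotient.out (ConjClasses.mk g)
  have hr : ∀ g, IsConj (r g) g := fun g => ConjClasses.mk_eq_mk_iff_isConj.mp (Quotient.out_eq _)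
  have hr' : ∀ g h, IsConj g h → r g = r h := fun g h hgh => by
    show Quotient.out (ConjClasses.mk g) = Quotient.out (ConjClasses.mk h)
    rw [ConjClasses.mk_eq_mk_iff_isConj.mpr hgh]
  have hrr : ∀ g, r (r g) = r g := fun g => hr' _ _ (hr g)
  have hr1 : r 1 = 1 := isConj_one_left.mp (hr 1)
  let X : Finset G := Finset.univ.filter (fun x => (∃ k : ℕ, orderOf x = p ^ k) ∧ r x = x)
  refine ⟨X, ?_, ?_, ?_⟩
  · simp only [X, Finset.mem_filter, Finset.mem_univ, true_and]
    exact ⟨⟨0, by simp⟩, hr1⟩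
  · intro x hx
    exact (Finset.mem_filter.mp hx).2.1
  · rintro g ⟨k, hk⟩
    refine ⟨r g, ⟨?_, (hr g).symm⟩, ?_⟩
    · simp only [X, Finset.mem_filter, Finset.mem_univ, true_and]
      refine ⟨⟨k, ?_⟩, hrr g⟩
      rw [← hk]
      exact orderOf_eq_of_isConj (hr g)
    · rintro y ⟨hy, hgy⟩
      have h1 := (Finset.mem_filter.mp hy).2.2
      rw [← h1]
      exact (hr' _ _ hgy).symm

/-- `k(B) = l(B) + ∑_{x ≠ 1} l(x)`. -/
theorem card_eq_add [DecidableEq G] (hM : IsPModular p M) (χ₀ : IrrCharacter G) (X : Finset G) (h1 : (1 : G) ∈ X)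
    (hX : ∀ x ∈ X, ∃ k : ℕ, orderOf x = p ^ k)
    (hXrep : ∀ g : G, (∃ k : ℕ, orderOf g = p ^ k) → ∃! x, x ∈ X ∧ IsConj g x) :
    Nat.card (blockOf M (χ₀ : G → ℂ)) = blockRank p (blockOf M (χ₀ : G → ℂ)) +
      ∑ x ∈ X.erase 1, blockRank p (inducers (Cen x) M (χ₀ : G → ℂ)) := by
  classical
  letI : Fintype (Cen (1 : G)) := Fintype.ofFinite _
  rw [card_eq_sum_blockRank hM χ₀ X hX hXrep, ← Finset.add_sum_erase X _ h1, blockRank_inducers_one]

lemma one_le_blockRank {X : Type*} [Group X] [Finite X] {A : Set (IrrCharacter X)} {ξ : IrrCharacter X} (hξ : ξ ∈ A) :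
    1 ≤ blockRank p A := by
  classical
  letI := Fintype.ofFinite X
  unfold blockRank
  rw [Nat.succ_le_iff, Module.finrank_pos_iff_exists_ne_zero]
  refine ⟨⟨pRegularPart p (ξ : X → ℂ), Submodule.subset_span ⟨ξ, hξ, rfl⟩⟩, ?_⟩
  intro h0
  have h2 := congrFun (congrArg Subtype.val h0) 1
  have h3 := Cfsg.Agent.Lib.Char.Ortho.irr_apply_one_ne_zero ξ.2
  apply h3
  have h4 : IsPRegular p (1 : X) := by
    unfold IsPRegular
    rw [orderOf_one]
    exact hp.out.one_lt.ne' ∘ Nat.dvd_one.mp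
  simpa [pRegularPart, h4] using h2

/-- The count when each nontrivial `p`-element has a subsection. -/
theorem allConj_of_card (hM : IsPModular p M) (χ₀ : IrrCharacter G)
    (hk : Nat.card (blockOf M (χ₀ : G → ℂ)) = blockRank p (blockOf M (χ₀ : G → ℂ)) + 1)
    (hpos : ∀ u : G, u ≠ 1 → (∃ k : ℕ, orderOf u = p ^ k) → 1 ≤ blockRank p (inducers (Cen u) M (χ₀ : G → ℂ))) :
    AllConj p G ∧ ∀ u : G, u ≠ 1 → (∃ k : ℕ, orderOf u = p ^ k) →
      blockRank p (inducers (Cen u) M (χ₀ : G → ℂ)) = 1 := by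
  classical
  have hsum : ∀ X : Finset G, (1 : G) ∈ X → (∀ x ∈ X, ∃ k : ℕ, orderOf x = p ^ k) →
      (∀ g : G, (∃ k : ℕ, orderOf g = p ^ k) → ∃! x, x ∈ X ∧ IsConj g x) →
      ∑ x ∈ X.erase 1, blockRank p (inducers (Cen x) M (χ₀ : G → ℂ)) = 1 := by
    intro X h1 h2 h3
    have := card_eq_add hM χ₀ X h1 h2 h3
    omega
  have hconj : AllConj p G := by
    intro u v hu hv hup hvp
    obtain ⟨X, h1, h2, h3⟩ := exists_reps p G
    have hs := hsum X h1 h2 h3
    obtain ⟨x, ⟨hxX, hux⟩, -⟩ := h3 u hup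
    obtain ⟨y, ⟨hyX, hvy⟩, -⟩ := h3 v hvp
    have hx1 : x ≠ 1 := by
      rintro rfl
      exact hu (isConj_one_left.mp hux)
    have hy1 : y ≠ 1 := by
      rintro rfl
      exact hv (isConj_one_left.mp hvy)
    by_cases hxy : x = y
    · subst hxy
      exact hux.trans hvy.symm
    exfalso
    have hsub : ({x, y} : Finset G) ⊆ X.erase 1 := by
      intro w hw
      simp only [Finset.mem_insert, Finset.mem_singleton] at hw
      rcases hw with rfl | rfl
      · exact Finset.mem_erase.mpr ⟨hx1, hxX⟩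
      · exact Finset.mem_erase.mpr ⟨hy1, hyX⟩
    have h5 := Finset.sum_le_sum_of_subset (f := fun x => blockRank p (inducers (Cen x) M (χ₀ : G → ℂ))) hsub
    rw [Finset.sum_pair hxy, hs] at h5
    have h6 := hpos x hx1 (h2 x hxX)
    have h7 := hpos y hy1 (h2 y hyX)
    omega
  refine ⟨hconj, fun u hu hup => ?_⟩
  -- the representatives `{1, u}`
  have hs := hsum {1, u} (by simp) (by
    intro x hx
    simp only [Finset.mem_insert, Finset.mem_singleton] at hx
    rcases hx with rfl | rfl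
    · exact ⟨0, by simp⟩
    · exact hup) (by
    intro g hg
    by_cases hg1 : g = 1
    · subst hg1
      refine ⟨1, ⟨by simp, IsConj.refl _⟩, ?_⟩
      rintro y ⟨-, hy⟩
      exact (isConj_one_right.mp hy)
    · refine ⟨u, ⟨by simp, hconj g u hg1 hu hg hup⟩, ?_⟩
      rintro y ⟨hy, hgy⟩
      simp only [Finset.mem_insert, Finset.mem_singleton] at hy
      rcases hy with rfl | rfl
      · exact absurd (isConj_one_left.mp hgy) hg1
      · rfl)
  have he : ({1, u} : Finset G).erase 1 = {u} := by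
    ext w
    simp only [Finset.mem_erase, Finset.mem_insert, Finset.mem_singleton]
    constructor
    · rintro ⟨h1, h2 | h2⟩
      · exact absurd h2 h1
      · exact h2
    · rintro rfl
      exact ⟨hu, Or.inr rfl⟩
  rw [he, Finset.sum_singleton] at hs
  exact hs

/-- The principal block case. -/
theorem principal_case (hM : IsPModular p M)
    (hk : Nat.card (principalBlock M G) = blockRank p (principalBlock M G) + 1)
    {D : Subgroup G} (hD : IsDefectGroup p M (principalBlock M G) D) : IsElementaryAbelian p D := by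
  classical
  letI : ∀ x : G, Fintype (Cen x) := fun x => Fintype.ofFinite _
  rw [principalBlock_eq] at hk hD
  have hpos : ∀ u : G, u ≠ 1 → (∃ k : ℕ, orderOf u = p ^ k) →
      1 ≤ blockRank p (inducers (Cen u) M ((trivChar G : IrrCharacter G) : G → ℂ)) := by
    rintro u - ⟨k, hk⟩
    rw [inducers_trivChar hM hk]
    exact one_le_blockRank trivChar_mem_principalBlock
  obtain ⟨h1, h2⟩ := allConj_of_card hM (trivChar G) hk hpos
  have hF : ∀ u : G, u ≠ 1 → (∃ k : ℕ, orderOf u = p ^ k) → FrobeniusHyp p (Cen u) := by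
    intro u hu hup
    have h3 := h2 u hu hup
    obtain ⟨k, hk⟩ := hup
    rw [inducers_trivChar hM hk] at h3
    exact frobeniusHyp_of_hasNormalPComplement
      ((Cfsg.Agent.Lib.Blocks.PrincipalNil.hasNormalPComplement_iff_blockRank hM).mpr h3)
  rw [← principalBlock_eq] at hD
  obtain ⟨S, rfl⟩ := (Cfsg.Agent.S4652.result p M hM D).mp hD
  exact isElementaryAbelian_of_allConj h1 hF S

end Count

section PSolv

open Cfsg.Agent.Lib.Blocks.Covering Cfsg.Agent.Lib.Blocks.Fong Cfsg.Agent.Lib.Blocks.FongLocal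
  Cfsg.Agent.Lib.Solvable.PSeries Cfsg.Agent.Lib.Basic.PCore

lemma isElementaryAbelian_map {X Y : Type*} [Group X] [Group Y] {p : ℕ} (φ : X →* Y) {A : Subgroup X}
    (h : IsElementaryAbelian p A) : IsElementaryAbelian p (A.map φ) := by
  obtain ⟨⟨⟨h1⟩⟩, h2⟩ := h
  refine ⟨⟨⟨?_⟩⟩, ?_⟩
  · rintro ⟨_, a, ha, rfl⟩ ⟨_, b, hb, rfl⟩
    apply Subtype.ext
    have := congrArg Subtype.val (h1 ⟨a, ha⟩ ⟨b, hb⟩)
    show φ a * φ b = φ b * φ a
    rw [← map_mul, ← map_mul]
    exact congrArg φ this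
  · rintro _ ⟨a, ha, rfl⟩
    rw [← map_pow, h2 a ha, map_one]

variable {G : Type u} [Group G] [Fintype G] {M : Ideal AlgInt} {p : ℕ} [hp : Fact p.Prime]

lemma centralizer_zpowers_eq (u : G) : Subgroup.centralizer ((Subgroup.zpowers u : Subgroup G) : Set G) = Cen u := by
  apply le_antisymm
  · exact Subgroup.centralizer_le (by
      intro w hw
      rw [Set.mem_singleton_iff.mp hw]
      exact Subgroup.mem_zpowers u)
  · intro c hc
    rw [Subgroup.mem_centralizer_iff]
    rintro _ ⟨k, rfl⟩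
    have h1 : c * u = u * c := Subgroup.mem_centralizer_singleton_iff.mp hc
    exact ((Commute.zpow_left (show Commute u c from h1.symm) k))

lemma eq_one_of_mem_of_mem {D K : Subgroup G} (hD : IsPGroup p D) (hK : ¬ p ∣ Nat.card K) {w : G} (h1 : w ∈ D)
    (h2 : w ∈ K) : w = 1 := by
  by_contra hw
  obtain ⟨k, hk⟩ := orderOf_eq_pow_of_mem hD h1
  have hk0 : k ≠ 0 := by
    rintro rfl
    rw [pow_zero, orderOf_eq_one_iff] at hk
    exact hw hk
  apply hK
  have h3 : orderOf (⟨w, h2⟩ : K) ∣ Nat.card K := orderOf_dvd_natCard _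
  rw [Subgroup.orderOf_mk, hk] at h3
  exact (dvd_pow_self p hk0).trans h3

/-- The case of an invariant character of `O_{p'}(G)`. -/
theorem psolv_invariant (hM : IsPModular p M) {K L : Subgroup G} [K.Normal] [L.Normal] [Fintype K]
    (hKp : ¬ p ∣ Nat.card K) (hKL : K ≤ L) (hL : ∃ k : ℕ, K.relIndex L = p ^ k)
    (hCsyl : ∀ Q : Subgroup G, Q ≤ L → IsPGroup p Q → ¬ p ∣ Q.relIndex L → Subgroup.centralizer (Q : Set G) ≤ L)
    {θ : IrrCharacter K}
    (hinv : ∀ g : G, conjIrr g θ = θ) (χ₀ : IrrCharacter G)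
    (hχ₀ : classInner (fun k : K => (χ₀ : G → ℂ) k) (θ : K → ℂ) ≠ 0)
    (hk : Nat.card (blockOf M (χ₀ : G → ℂ)) = blockRank p (blockOf M (χ₀ : G → ℂ)) + 1)
    {D : Subgroup G} (hD : IsDefectGroup p M (blockOf M (χ₀ : G → ℂ)) D) : IsElementaryAbelian p D := by
  classical
  haveI hMp := isPrime_of_isPModular hM
  letI : ∀ x : G, Fintype (Cen x) := fun x => Fintype.ofFinite _
  obtain ⟨Q₀⟩ : Nonempty (Sylow p L) := inferInstance
  set Q : Subgroup G := (Q₀ : Subgroup L).map L.subtype with hQdef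
  have hQL : Q ≤ L := by
    rintro _ ⟨x, -, rfl⟩
    exact x.2
  have hQp : IsPGroup p Q := Q₀.isPGroup'.map _
  have hQS : ¬ p ∣ Q.relIndex L := by
    have h1 : Q.relIndex L = (Q₀ : Subgroup L).index := by
      show ((Q₀ : Subgroup L).map L.subtype).relIndex L = _
      unfold Subgroup.relIndex Subgroup.subgroupOf
      rw [Subgroup.comap_map_eq_self_of_injective L.subtype_injective]
    rw [h1]
    exact Q₀.not_dvd_index
  have hCQ : Subgroup.centralizer (Q : Set G) ≤ L := hCsyl Q hQL hQp hQS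
  obtain ⟨B, hB, hBmem, hBS⟩ := fong_main hM hKp hKL hL hQL hQp hQS hCQ hinv
  have hχB : χ₀ ∈ B := (hBmem χ₀).2 hχ₀
  have hBeq : blockOf M (χ₀ : G → ℂ) = B := by
    obtain ⟨ξ, rfl⟩ := hB
    exact blockOf_eq_of_mem hχB
  have hBmem' : ∀ χ : IrrCharacter G, χ ∈ blockOf M (χ₀ : G → ℂ) ↔
      classInner (fun k : K => (χ : G → ℂ) k) (θ : K → ℂ) ≠ 0 := by
    rw [hBeq]
    exact hBmem
  have hpos : ∀ u : G, u ≠ 1 → (∃ k : ℕ, orderOf u = p ^ k) →
      1 ≤ blockRank p (inducers (Cen u) M (χ₀ : G → ℂ)) := by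
    rintro u - ⟨k, hk⟩
    have hRp : IsPGroup p (Subgroup.zpowers u) := by
      apply IsPGroup.of_card (n := k)
      rw [Nat.card_zpowers, hk]
    obtain ⟨f, hf, -⟩ := existsUnique_isInducedBlock hM hKp hKL hL hQL hQp hQS hCQ hinv
      (B := blockOf M (χ₀ : G → ℂ)) ⟨χ₀, rfl⟩ hBmem' hRp
    have hex : ∃ f : Set (IrrCharacter (Cen u)), IsInducedBlock M (Cen u) f (blockOf M (χ₀ : G → ℂ)) := by
      rw [← centralizer_zpowers_eq u]
      exact ⟨f, hf⟩
    obtain ⟨f', hf'⟩ := hex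
    obtain ⟨ξ, hξ⟩ := hf'.1
    have hξf : ξ ∈ f' := by
      rw [hξ]
      exact sameBlock_refl _
    have hξi : ξ ∈ inducers (Cen u) M (χ₀ : G → ℂ) := fun g =>
      hf'.2.2 ξ hξf χ₀ (sameBlock_refl _) g
    exact one_le_blockRank hξi
  obtain ⟨hconj, -⟩ := allConj_of_card hM χ₀ hk hpos
  -- `D` is a Sylow subgroup
  rw [hBeq] at hD
  obtain ⟨S₀⟩ : Nonempty (Sylow p G) := inferInstance
  obtain ⟨x, hx⟩ := Cfsg.Agent.Lib.Blocks.HeightZero.exists_map_conj_eq_of_isDefectGroup hM hB hD (hBS S₀)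
  have hcardD : Nat.card D = p ^ (Nat.card G).factorization p := by
    rw [← hx, Subgroup.card_map_of_injective (MulAut.conj x).injective]
    exact S₀.card_eq_multiplicity
  let S : Sylow p G := Sylow.ofCard D hcardD
  have hSD : (S : Subgroup G) = D := rfl
  have hDp : IsPGroup p D := S.isPGroup'
  have hDind : ¬ p ∣ D.index := S.not_dvd_index
  refine ⟨⟨⟨?_⟩⟩, fun a ha => pow_eq_one_of_allConj hconj (orderOf_eq_pow_of_mem hDp ha)⟩
  rintro ⟨u, hu⟩ ⟨d, hd⟩
  apply Subtype.ext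
  show u * d = d * u
  by_cases hu1 : u = 1
  · rw [hu1, one_mul, mul_one]
  have hDbot : D ≠ ⊥ := by
    rintro h0
    rw [h0, Subgroup.mem_bot] at hu
    exact hu1 hu
  -- `Q ≠ 1`
  have hQbot : Q ≠ ⊥ := by
    intro h0
    have h1 : L = ⊤ := by
      rw [eq_top_iff]
      rw [h0] at hCQ
      intro g _
      exact hCQ (by simp [Subgroup.mem_centralizer_iff])
    rw [h0, h1, Subgroup.relIndex_top_right, Subgroup.index_bot] at hQS
    obtain ⟨k, hk⟩ := orderOf_eq_pow_of_mem hDp hu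
    have hk0 : k ≠ 0 := by
      rintro rfl
      rw [pow_zero, orderOf_eq_one_iff] at hk
      exact hu1 hk
    apply hQS
    have h3 : orderOf u ∣ Nat.card G := orderOf_dvd_natCard u
    rw [hk] at h3
    exact (dvd_pow_self p hk0).trans h3
  obtain ⟨x₀, hx₀, hx₀1⟩ := (Subgroup.bot_or_exists_ne_one Q).resolve_left hQbot
  have hDL : D ≤ L := by
    intro w hw
    by_cases hw1 : w = 1
    · rw [hw1]
      exact one_mem _
    obtain ⟨g, hg⟩ := isConj_iff.mp (hconj x₀ w hx₀1 hw1 (orderOf_eq_pow_of_mem hQp hx₀) (orderOf_eq_pow_of_mem hDp hw))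
    rw [← hg]
    exact Subgroup.Normal.conj_mem inferInstance _ (hQL hx₀) g
  have hDS : ¬ p ∣ D.relIndex L := fun h =>
    hDind (h.trans ⟨L.index, (Subgroup.relIndex_mul_index hDL).symm⟩)
  have hmap := map_eq_map_of_sylow hKp hKL hL hDL hDp hDS
  -- a central element of `D`
  haveI : Nontrivial D := (Subgroup.nontrivial_iff_ne_bot _).mpr hDbot
  haveI : Nontrivial (Subgroup.center D) := hDp.center_nontrivial
  obtain ⟨⟨z', hz'c⟩, hz'⟩ := exists_ne (1 : Subgroup.center D)
  set z : G := (z' : G) with hz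
  have hzD : z ∈ D := z'.2
  have hz1 : z ≠ 1 := by
    intro h0
    apply hz'
    apply Subtype.ext
    apply Subtype.ext
    exact h0
  have hzc : ∀ y ∈ D, y * z = z * y := by
    intro y hy
    exact congrArg Subtype.val ((Subgroup.mem_center_iff.mp hz'c) ⟨y, hy⟩)
  obtain ⟨g, hg⟩ := isConj_iff.mp (hconj z u hz1 hu1 (orderOf_eq_pow_of_mem hDp hzD) (orderOf_eq_pow_of_mem hDp hu))
  have he : g⁻¹ * d * g ∈ L := by
    have := Subgroup.Normal.conj_mem (inferInstance : L.Normal) d (hDL hd) g⁻¹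
    simpa using this
  have he' : (QuotientGroup.mk' K) (g⁻¹ * d * g) ∈ D.map (QuotientGroup.mk' K) := by
    rw [hmap]
    exact ⟨_, he, rfl⟩
  obtain ⟨d', hd', hdd⟩ := he'
  have hcomm : z * (g⁻¹ * d * g) * z⁻¹ * (g⁻¹ * d * g)⁻¹ ∈ K := by
    rw [← QuotientGroup.eq_one_iff, ← QuotientGroup.mk'_apply]
    rw [map_mul, map_mul, map_mul, map_inv, map_inv, ← hdd, ← map_inv, ← map_inv, ← map_mul, ← map_mul, ← map_mul]
    have h1 : z * d' * z⁻¹ * d'⁻¹ = 1 := by
      rw [← hzc d' hd']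
      group
    rw [h1, map_one]
  have hcK : u * d * u⁻¹ * d⁻¹ ∈ K := by
    have := Subgroup.Normal.conj_mem (inferInstance : K.Normal) _ hcomm g
    have e : g * (z * (g⁻¹ * d * g) * z⁻¹ * (g⁻¹ * d * g)⁻¹) * g⁻¹ = (g * z * g⁻¹) * d * (g * z * g⁻¹)⁻¹ * d⁻¹ := by
      group
    rw [e, hg] at this
    exact this
  have hcD : u * d * u⁻¹ * d⁻¹ ∈ D := mul_mem (mul_mem (mul_mem hu hd) (inv_mem hu)) (inv_mem hd)
  have h0 := eq_one_of_mem_of_mem hDp hKp hcD hcK
  have h1 : u * d * u⁻¹ = d := by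
    rw [mul_inv_eq_one] at h0
    exact h0
  rw [mul_inv_eq_iff_eq_mul] at h1
  exact h1

/-- An element and its `N`-translate have the same image modulo `N`, hence the same `p`-regularity. -/
lemma dvd_orderOf_iff_quot {N : Subgroup G} [N.Normal] (hN : ¬ p ∣ Nat.card N) (g : G) :
    p ∣ orderOf g ↔ p ∣ orderOf ((QuotientGroup.mk' N) g) := by
  constructor
  · intro h
    set o := orderOf ((QuotientGroup.mk' N) g) with ho
    have h1 : g ^ o ∈ N := by
      rw [← QuotientGroup.eq_one_iff, ← QuotientGroup.mk'_apply, map_pow, ho]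
      exact pow_orderOf_eq_one _
    have h2 : (g ^ o) ^ Nat.card N = 1 := by
      have := pow_card_eq_one' (G := N) (x := ⟨g ^ o, h1⟩)
      exact congrArg Subtype.val this
    rw [← pow_mul] at h2
    have h3 := (h.trans (orderOf_dvd_of_pow_eq_one h2))
    exact (hp.out.dvd_mul.mp h3).resolve_right hN
  · intro h
    exact h.trans (orderOf_map_dvd _ _)

lemma dvd_orderOf_mul_iff {N : Subgroup G} [N.Normal] (hN : ¬ p ∣ Nat.card N) {n : G} (hn : n ∈ N) (t : G) :
    p ∣ orderOf (n * t) ↔ p ∣ orderOf t := by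
  rw [dvd_orderOf_iff_quot hN, dvd_orderOf_iff_quot hN t, map_mul]
  have : (QuotientGroup.mk' N) n = 1 := (QuotientGroup.eq_one_iff n).mpr hn
  rw [this, one_mul]

open Cfsg.Agent.Lib.Blocks.FongReynolds Cfsg.Agent.Lib.Char.Induced

lemma pRegularPart_apply_of_regular {X : Type*} [Group X] (f : X → ℂ) {g : X} (hg : ¬ p ∣ orderOf g) :
    pRegularPart p f g = f g := by
  classical
  unfold pRegularPart
  exact if_pos hg

lemma pRegularPart_apply_of_singular {X : Type*} [Group X] (f : X → ℂ) {g : X} (hg : p ∣ orderOf g) :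
    pRegularPart p f g = 0 := by
  classical
  unfold pRegularPart
  exact if_neg (not_not.mpr hg)

lemma orderOf_conj_eq (x g : G) : orderOf (x⁻¹ * g * x) = orderOf g := by
  have h := orderOf_injective (MulAut.conj x⁻¹).toMonoidHom (MulAut.conj x⁻¹).injective g
  simpa using h

/-- Induction commutes with taking the regular part. -/
lemma pRegularPart_indFun (T : Subgroup G) (ψ : T → ℂ) :
    pRegularPart p (indFun T ψ) = indFun T (pRegularPart p ψ) := by
  classical
  funext g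
  by_cases hg : p ∣ orderOf g
  · rw [pRegularPart_apply_of_singular _ hg, indFun_apply]
    rw [Finset.sum_eq_zero, mul_zero]
    intro x _
    by_cases hx : x⁻¹ * g * x ∈ T
    · rw [extendByZero_of_mem T _ hx, pRegularPart_apply_of_singular]
      rw [Subgroup.orderOf_mk, orderOf_conj_eq]
      exact hg
    · rw [extendByZero_of_notMem T _ hx]
  · rw [pRegularPart_apply_of_regular _ hg, indFun_apply, indFun_apply]
    congr 1
    refine Finset.sum_congr rfl fun x _ => ?_
    by_cases hx : x⁻¹ * g * x ∈ T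
    · rw [extendByZero_of_mem T _ hx, extendByZero_of_mem T _ hx, pRegularPart_apply_of_regular]
      rw [Subgroup.orderOf_mk, orderOf_conj_eq]
      exact hg
    · rw [extendByZero_of_notMem T _ hx, extendByZero_of_notMem T _ hx]

variable {N : Subgroup G} [hN : N.Normal] [Fintype N] {b : Set (IrrCharacter N)} {T : Subgroup G} [Fintype T]

/-- The `p`-regular rank is preserved by the Fong-Reynolds correspondence over a `p'`-group. -/
theorem blockRank_eq_of_induced [M.IsPrime] (hNp : ¬ p ∣ Nat.card N) (hb : IsPBlock M b) (hS : IsStabilizer b T)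
    (hNT : N ≤ T) {B' : Set (IrrCharacter T)} {B : Set (IrrCharacter G)}
    (hall : ∀ ψ ∈ B', AllIn hNT b (ψ : T → ℂ))
    (hirr : ∀ ψ ∈ B', IsIrrCharacter G (indFun T (ψ : T → ℂ)))
    (hmem : ∀ χ : IrrCharacter G, χ ∈ B ↔ ∃ ψ ∈ B', (χ : G → ℂ) = indFun T (ψ : T → ℂ)) :
    blockRank p B = blockRank p B' := by
  classical
  unfold blockRank
  let Ψ : (T → ℂ) →ₗ[ℂ] (G → ℂ) :=
    { toFun := fun f => indFun T f
      map_add' := fun f g => Cfsg.Agent.Lib.Char.FrobeniusKernel.indFun_add_fun f g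
      map_smul' := fun c f => Cfsg.Agent.Lib.Char.FrobeniusKernel.indFun_smul_fun c f }
  let Pr : (G → ℂ) →ₗ[ℂ] (T → ℂ) :=
    { toFun := fun f t => ∑ n : N, blockCoeff b n * f ((n : G) * t)
      map_add' := fun f g => by
        funext t
        simp only [Pi.add_apply, mul_add, Finset.sum_add_distrib]
      map_smul' := fun c f => by
        funext t
        simp only [Pi.smul_apply, smul_eq_mul, RingHom.id_apply, Finset.mul_sum]
        refine Finset.sum_congr rfl fun n _ => ?_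
        ring }
  set W' := Submodule.span ℂ ((fun ψ : IrrCharacter T => pRegularPart p (ψ : T → ℂ)) '' B') with hW'
  have himg : (fun χ : IrrCharacter G => pRegularPart p (χ : G → ℂ)) '' B =
      Ψ '' ((fun ψ : IrrCharacter T => pRegularPart p (ψ : T → ℂ)) '' B') := by
    ext f
    constructor
    · rintro ⟨χ, hχ, rfl⟩
      obtain ⟨ψ, hψ, he⟩ := (hmem χ).1 hχ
      refine ⟨_, ⟨ψ, hψ, rfl⟩, ?_⟩
      show indFun T (pRegularPart p (ψ : T → ℂ)) = pRegularPart p (χ : G → ℂ)
      rw [he, pRegularPart_indFun]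
    · rintro ⟨_, ⟨ψ, hψ, rfl⟩, rfl⟩
      refine ⟨⟨_, hirr ψ hψ⟩, (hmem _).2 ⟨ψ, hψ, rfl⟩, ?_⟩
      show pRegularPart p (indFun T (ψ : T → ℂ)) = indFun T (pRegularPart p (ψ : T → ℂ))
      rw [pRegularPart_indFun]
  have hspan : Submodule.span ℂ ((fun χ : IrrCharacter G => pRegularPart p (χ : G → ℂ)) '' B) = W'.map Ψ := by
    rw [himg, hW', Submodule.map_span]
  have hleft : ∀ w ∈ W', Pr (Ψ w) = w := by
    intro w hw
    have h1 : W' ≤ LinearMap.eqLocus (Pr ∘ₗ Ψ) LinearMap.id := by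
      rw [hW', Submodule.span_le]
      rintro _ ⟨ψ, hψ, rfl⟩
      show Pr (Ψ (pRegularPart p (ψ : T → ℂ))) = pRegularPart p (ψ : T → ℂ)
      funext t
      show ∑ n : N, blockCoeff b n * indFun T (pRegularPart p (ψ : T → ℂ)) ((n : G) * t) =
        pRegularPart p (ψ : T → ℂ) t
      rw [← pRegularPart_indFun]
      by_cases ht : p ∣ orderOf t
      · rw [pRegularPart_apply_of_singular _ ht]
        refine Finset.sum_eq_zero fun n _ => ?_
        rw [pRegularPart_apply_of_singular, mul_zero]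
        rw [dvd_orderOf_mul_iff hNp n.2, Subgroup.orderOf_coe]
        exact ht
      · rw [pRegularPart_apply_of_regular _ ht]
        have h2 := sum_blockCoeff_indFun hb hS hNT
          (Cfsg.Agent.Lib.Char.Basic.isCharacter_of_isIrrCharacter ψ.2) (hall ψ hψ) t
        rw [← h2]
        refine Finset.sum_congr rfl fun n _ => ?_
        rw [pRegularPart_apply_of_regular]
        rw [dvd_orderOf_mul_iff hNp n.2, Subgroup.orderOf_coe]
        exact ht
    exact h1 hw
  have hinj : Function.Injective (Ψ.domRestrict W') := by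
    intro a c hac
    apply Subtype.ext
    rw [← hleft a a.2, ← hleft c c.2]
    exact congrArg Pr hac
  rw [hspan, ← LinearMap.range_domRestrict]
  exact LinearMap.finrank_range_of_inj hinj

/-- The main theorem for `p`-soluble groups. -/
theorem psolv_main (hM : IsPModular p M) : ∀ (n : ℕ) (G : Type u) [Group G] [Fintype G], Nat.card G = n →
    IsPSolvable p G → ∀ χ₀ : IrrCharacter G,
    Nat.card (blockOf M (χ₀ : G → ℂ)) = blockRank p (blockOf M (χ₀ : G → ℂ)) + 1 →
    ∀ D : Subgroup G, IsDefectGroup p M (blockOf M (χ₀ : G → ℂ)) D → IsElementaryAbelian p D := by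
  intro n
  induction n using Nat.strong_induction_on with
  | _ n ih =>
    intro G _ _ hn hs χ₀ hk D hD
    classical
    haveI hMp := isPrime_of_isPModular hM
    letI : Fintype (pPrimeCore p G) := Fintype.ofFinite _
    have hKp : ¬ p ∣ Nat.card (pPrimeCore p G) := fun h =>
      (Nat.Prime.coprime_iff_not_dvd hp.out).1 (pPrimeCore_coprime (G := G) p).symm h
    obtain ⟨θ, hθ⟩ := exists_constituent (N := pPrimeCore p G) χ₀.2
    by_cases hinv : ∀ g : G, conjIrr g θ = θ
    · exact psolv_invariant hM (L := pPrimePCore p G) hKp (le_stepP p _) (relIndex_stepP _)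
        (fun Q hQL hQp hQS => centralizer_sylow_le hs hQL hQp hQS) hinv χ₀ hθ hk hD
    -- the stabilizer
    have hb : IsPBlock M ({θ} : Set (IrrCharacter (pPrimeCore p G))) := by
      refine ⟨θ, ?_⟩
      ext ψ
      constructor
      · intro h
        rw [Set.mem_singleton_iff.mp h]
        exact sameBlock_refl _
      · intro h
        exact Cfsg.Agent.Lib.Blocks.PSolvHeight.eq_of_mem_blockOf hM hKp h
    let T : Subgroup G := Cfsg.Agent.Lib.Blocks.Knorr.blockStabilizer (G := G) _ hb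
    letI : Fintype T := Fintype.ofFinite _
    have hS : IsStabilizer ({θ} : Set (IrrCharacter (pPrimeCore p G))) T :=
      Cfsg.Agent.Lib.Blocks.Knorr.isStabilizer_blockStabilizer hb
    have hNT : pPrimeCore p G ≤ T := Cfsg.Agent.Lib.Blocks.Knorr.le_blockStabilizer hb
    have hTtop : T ≠ ⊤ := by
      intro h0
      apply hinv
      intro g
      have h1 : g ∈ T := by rw [h0]; trivial
      exact (hS g).1 h1 θ rfl
    have hTcard : Nat.card T < n := by
      rw [← hn]
      refine lt_of_le_of_ne (Subgroup.card_le_card_group T) fun h => hTtop ?_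
      exact Subgroup.eq_top_of_card_eq T h
    have hBb : IsPBlock M (blockOf M (χ₀ : G → ℂ)) := ⟨χ₀, rfl⟩
    obtain ⟨B', hB', ⟨ψ₀, hψ₀, θ', hθ', hc⟩, hind⟩ := exists_induced_of_covers hNT hb hS hBb (χ := χ₀)
      (sameBlock_refl _) (Set.mem_singleton θ) hθ
    obtain ⟨B₁, hi₁, -, hirr, hmem⟩ := induced_of_covers hNT hb hS hB' hψ₀ hθ' hc
    have hBB : blockOf M (χ₀ : G → ℂ) = B₁ := Cfsg.Agent.Lib.Blocks.FirstMain2.induced_unique hind hi₁
    rw [← hBB] at hmem
    have hall : ∀ ψ ∈ B', AllIn hNT ({θ} : Set (IrrCharacter (pPrimeCore p G))) (ψ : T → ℂ) := by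
      intro ψ hψ
      obtain ⟨ξ, rfl⟩ := id hB'
      exact allIn_of_sameBlock hNT hb hS ψ₀.2 ψ.2 (sameBlock_trans (sameBlock_symm hψ₀) hψ) hθ' hc
    -- the correspondence of characters
    have hcard : Nat.card B' = Nat.card (blockOf M (χ₀ : G → ℂ)) := by
      refine Nat.card_congr (Equiv.ofBijective
        (fun ψ : B' => (⟨⟨_, hirr ψ ψ.2⟩, (hmem _).2 ⟨ψ, ψ.2, rfl⟩⟩ : blockOf M (χ₀ : G → ℂ))) ⟨?_, ?_⟩)
      · rintro ⟨ψ, hψ⟩ ⟨η, hη⟩ h
        have h1 : indFun T (ψ : T → ℂ) = indFun T (η : T → ℂ) :=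
          congrArg (fun x : blockOf M (χ₀ : G → ℂ) => ((x.1 : IrrCharacter G) : G → ℂ)) h
        have h2 := eq_of_indFun_eq hb hS hNT (Cfsg.Agent.Lib.Char.Basic.isCharacter_of_isIrrCharacter ψ.2)
          (Cfsg.Agent.Lib.Char.Basic.isCharacter_of_isIrrCharacter η.2) (hall ψ hψ) (hall η hη) h1
        exact Subtype.ext (Subtype.ext h2)
      · rintro ⟨χ, hχ⟩
        obtain ⟨ψ, hψ, he⟩ := (hmem χ).1 hχ
        exact ⟨⟨ψ, hψ⟩, Subtype.ext (Subtype.ext he.symm)⟩
    have hrank : blockRank p (blockOf M (χ₀ : G → ℂ)) = blockRank p B' :=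
      blockRank_eq_of_induced hKp hb hS hNT hall hirr hmem
    obtain ⟨ξ, rfl⟩ := id hB'
    have hkT : Nat.card (blockOf M (ξ : T → ℂ)) = blockRank p (blockOf M (ξ : T → ℂ)) + 1 := by
      rw [hcard, ← hrank]
      exact hk
    -- a defect group of the block of `T`
    obtain ⟨g₀, hg₀⟩ := Cfsg.Agent.Lib.Blocks.Osima.exists_isDefectClass (M := M) hB'
    obtain ⟨P⟩ : Nonempty (Sylow p (Subgroup.centralizer ({g₀} : Set T))) := inferInstance
    have hD' : IsDefectGroup p M (blockOf M (ξ : T → ℂ))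
        ((P : Subgroup (Subgroup.centralizer ({g₀} : Set T))).map (Subgroup.centralizer ({g₀} : Set T)).subtype) :=
      ⟨g₀, hg₀, P, rfl⟩
    have hel := ih _ hTcard T rfl (isPSolvable_subgroup hs T) ξ hkT _ hD'
    have hT' : ∀ g : G, g ∈ T ↔ ∀ θ₁ ∈ ({θ} : Set (IrrCharacter (pPrimeCore p G))), ∀ θ₂ : IrrCharacter (pPrimeCore p G),
        (∀ n : pPrimeCore p G, (θ₂ : pPrimeCore p G → ℂ) n =
          (θ₁ : pPrimeCore p G → ℂ) ⟨g * n * g⁻¹, (inferInstance : (pPrimeCore p G).Normal).conj_mem n n.2 g⟩) →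
        θ₂ ∈ ({θ} : Set (IrrCharacter (pPrimeCore p G))) := by
      intro g
      rw [hS g]
      constructor
      · intro h θ₁ hθ₁ θ₂ hθ₂
        have h1 : θ₂ = conjIrr g θ₁ := by
          apply Subtype.ext
          funext m
          rw [conjIrr_apply, hθ₂ m]
        rw [h1]
        exact h θ₁ hθ₁
      · intro h θ₁ hθ₁
        exact h θ₁ hθ₁ _ (fun m => conjIrr_apply g θ₁ m)
    have hDT := (Cfsg.Agent.S4436.result p M hM (pPrimeCore p G) _ hb T hT' hNT _ hB'
      ⟨ψ₀, hψ₀, θ', hθ', hc⟩ _ hind).1 _ hD'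
    obtain ⟨x, hx⟩ := Cfsg.Agent.Lib.Blocks.HeightZero.exists_map_conj_eq_of_isDefectGroup hM hBb hD hDT
    rw [← hx]
    exact isElementaryAbelian_map _ (isElementaryAbelian_map _ hel)

end PSolv

/-- **`k(B) - l(B) = 1`.** -/
theorem main {G : Type u} [Group G] [Fintype G] {p : ℕ} [Fact p.Prime] {M : Ideal AlgInt} (hM : IsPModular p M)
    {B : Set (IrrCharacter G)} (hB : IsPBlock M B) {D : Subgroup G} (hD : IsDefectGroup p M B D)
    (hk : Nat.card B = blockRank p B + 1) (hB0 : B = principalBlock M G ∨ IsPSolvable p G) :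
    IsElementaryAbelian p D := by
  haveI := isPrime_of_isPModular hM
  rcases hB0 with rfl | hs
  · exact principal_case hM hk hD
  · obtain ⟨χ₀, rfl⟩ := hB
    exact psolv_main hM _ G rfl hs χ₀ hk D hD

end Cfsg.Agent.Lib.Blocks.KLOne
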