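import Mathlib
import Cfsg.Agent.Lib.Blocks.Knorr

/-!
# The path argument of Knörr's theorem, with an abstract hypothesis on closed words
-/

set_option autoImplicit false
set_option linter.unusedSectionVars false
set_option linter.style.haveILetI false

namespace Cfsg.Agent.Lib.Blocks.Knorr

open Cfsg Cfsg.Agent.Lib.Blocks.Local Cfsg.Agent.Lib.Blocks.Central Cfsg.Agent.Lib.Blocks.Osima
  Cfsg.Agent.Lib.Blocks.Covering Cfsg.Agent.Lib.Blocks.Twisted Cfsg.Agent.Lib.Blocks.Defect
open scoped ComplexConjugate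

universe u

section Path

variable {G : Type u} [Group G] [Fintype G] {N : Subgroup G} [hN : N.Normal] [Fintype N]
  {M : Ideal AlgInt} {p : ℕ} [Fact p.Prime]

variable {B : Set (IrrCharacter G)} {b : Set (IrrCharacter N)}

/-- The path argument: if all the closed words kill the orbit of `b` modulo `M`, then `B` does not cover `b`. -/
theorem false_of_closed_words [M.IsPrime] (hM : IsPModular p M) (hB : IsPBlock M B)
    (hb : IsPBlock M b) {χ : IrrCharacter G} (hχ : χ ∈ B)
    {θ : IrrCharacter N} (hθ : θ ∈ b) (hcon : classInner (fun n : N => (χ : G → ℂ) n) (θ : N → ℂ) ≠ 0)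
    (hyp : ∀ (c : G ⧸ N) (v : MonoidAlgebra ℂ G), CoeffIn (⊤ : Ideal (localRing M)) v → Hom c⁻¹ v → NInv N v →
      ∀ ξ ∈ conjOrbit (G := G) b, MemLocalIdeal M (omega (ξ : N → ℂ) (res N (comp (blockElt B) c * v)))) :
    False := by
  classical
  haveI : Fintype (G ⧸ N) := Fintype.ofFinite _
  set e := blockElt B with he
  set Ê := blockElt (conjOrbit (G := G) b) with hÊ
  have heZ : e ∈ localCenter G M := blockElt_mem_localCenter hB
  have heΛ : CoeffIn (⊤ : Ideal (localRing M)) e := coeffIn_top_iff.mpr heZ.2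
  have hÊZ : Ê ∈ localCenter N M := Cfsg.Agent.Lib.Blocks.Covering2.blockElt_conjOrbit_mem_localCenter hb
  have heE : e * push N Ê = e := blockElt_mul_push hB hb hχ hθ hcon
  have hEe : push N Ê * e = e := by
    rw [← mul_comm_of_isClassFunction heZ.1, heE]
  have hne : ¬ CoeffIn (localIdeal M) e := by
    obtain ⟨g₀, hg₀⟩ := exists_isDefectClass (M := M) hB
    intro h
    apply hg₀.2.1
    have := coeffIn_localIdeal_iff.mp h g₀
    rwa [he, coeff_blockElt] at this
  obtain ⟨k, v₀, hv₀, hn₀, hk₀⟩ := exists_killed (N := N) hne heΛ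
  set z := push N v₀ * e with hz
  have hv₀Z := hv₀.mem_localCenter
  have hkz : Killed M N e (push N Ê) z := by
    refine ⟨(coeffIn_push (coeffIn_top_iff.mpr hv₀Z.2)).mul_right heΛ, ?_, ?_, hk₀⟩
    · rw [hz, ← mul_assoc, mul_comm_of_isClassFunction heZ.1 (push N v₀), mul_assoc, he, blockElt_mul_self]
    · rw [hz, ← mul_assoc, ← push_mul, mul_comm_of_isClassFunction hÊZ.1, push_mul, mul_assoc, hEe]
  have hcomp : ∀ c : G ⧸ N, NInv N (comp e c) := nInv_comp heZ.1
  have hcompl : ∀ c : G ⧸ N, CoeffIn (⊤ : Ideal (localRing M)) (comp e c) := coeffIn_top_comp heΛ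
  -- one step of the path
  have step : ∀ (X : Finset (G ⧸ N)) (q : G ⧸ N) (x : MonoidAlgebra ℂ G),
      Killed M N e (push N Ê) x → ¬ CoeffIn (localIdeal M) x → Hist M N e (push N Ê) X q x →
      ∃ q' ∉ X, ∃ x', Killed M N e (push N Ê) x' ∧ ¬ CoeffIn (localIdeal M) x' ∧
        Hist M N e (push N Ê) (insert q' X) q' x' := by
    intro X q x hkx hnx hist
    have h1 : ∃ c : G ⧸ N, ¬ CoeffIn (localIdeal M) (comp e c * x) := by
      by_contra hall
      push Not at hall
      apply hnx
      have h2 : x = ∑ c : G ⧸ N, comp e c * x := by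
        rw [← Finset.sum_mul, sum_comp, hkx.2.1]
      rw [h2]
      exact coeffIn_sum _ _ fun c _ => hall c
    obtain ⟨c, hc⟩ := h1
    have hkx' := hkx.mul_left heZ.1 (hcomp c) (hcompl c)
    refine ⟨c * q, ?_, _, hkx', hc, ?_⟩
    · intro hmem
      apply hc
      obtain ⟨xr, hxr, v, hvl, hvh, hvi, hxv⟩ := hist _ hmem
      have hdeg : q * (c * q)⁻¹ = c⁻¹ := by
        rw [mul_inv_rev]
        group
      rw [hdeg] at hvh
      have hw1 : Hom (1 : G ⧸ N) (comp e c * v) := by
        have := (hom_comp (N := N) e c).mul hvh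
        rwa [mul_inv_cancel] at this
      have hwi := (hcomp c).mul hvi
      have hwl := (hcompl c).mul_left hvl
      set u₀ := res N (comp e c * v) with hu₀
      have hu₀Z : u₀ ∈ localCenter N M := res_mem_localCenter hwi hwl
      have hu₀p : push N u₀ = comp e c * v := push_res_of_hom hw1
      have hu : u₀ * Ê ∈ Rad N M := by
        refine ⟨(localCenter N M).mul_mem hu₀Z hÊZ, fun ξ => ?_⟩
        rw [omega_mul ξ.2 hu₀Z.1]
        by_cases hξ : ξ ∈ conjOrbit (G := G) b
        · rw [hÊ, omega_blockElt_of_mem hξ, mul_one]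
          exact hyp c v hvl hvh hvi ξ hξ
        · rw [hÊ, omega_blockElt_of_notMem hξ, mul_zero]
          exact memLocalIdeal_zero
      have h4 := hxr.2.2.2 _ hu
      rw [push_mul, mul_assoc, hxr.2.2.1, hu₀p] at h4
      rw [hxv, ← mul_assoc]
      exact h4
    · intro r hr
      rcases Finset.mem_insert.1 hr with rfl | hr
      · refine ⟨_, hkx', 1, coeffIn_top_one, ?_, nInv_one, by simp⟩
        rw [mul_inv_cancel]
        exact hom_one
      · obtain ⟨xr, hxr, v, hvl, hvh, hvi, hxv⟩ := hist r hr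
        refine ⟨xr, hxr, comp e c * v, (hcompl c).mul_left hvl, ?_, (hcomp c).mul hvi, ?_⟩
        · have := (hom_comp (N := N) e c).mul hvh
          rwa [← mul_assoc] at this
        · rw [hxv, mul_assoc]
  -- iterate
  have path : ∀ (j : ℕ) (X : Finset (G ⧸ N)) (q : G ⧸ N) (x : MonoidAlgebra ℂ G),
      Xᶜ.card ≤ j → Killed M N e (push N Ê) x → ¬ CoeffIn (localIdeal M) x →
      Hist M N e (push N Ê) X q x → False := by
    intro j
    induction j with
    | zero =>
      intro X q x hj hkx hnx hist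
      obtain ⟨q', hq', -⟩ := step X q x hkx hnx hist
      have : q' ∈ Xᶜ := Finset.mem_compl.2 hq'
      have h0 := Finset.card_pos.2 ⟨q', this⟩
      omega
    | succ j ih =>
      intro X q x hj hkx hnx hist
      obtain ⟨q', hq', x', hkx', hnx', hist'⟩ := step X q x hkx hnx hist
      refine ih (insert q' X) q' x' ?_ hkx' hnx' hist'
      have h1 : (insert q' X)ᶜ = Xᶜ.erase q' := by
        ext a
        simp
      rw [h1, Finset.card_erase_of_mem (Finset.mem_compl.2 hq')]
      omega
  refine path _ {1} 1 z le_rfl hkz hn₀ ?_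
  intro r hr
  rw [Finset.mem_singleton] at hr
  subst hr
  refine ⟨z, hkz, 1, coeffIn_top_one, ?_, nInv_one, by simp⟩
  simpa using hom_one

end Path

end Cfsg.Agent.Lib.Blocks.Knorr
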