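import Mathlib
import Cfsg.Agent.Lib.Blocks.MajorSub3
import Cfsg.Agent.Lib.Blocks.BinaryForm

/-!
# Major subsections with at most two Brauer characters (Robinson)

The `ℤ`-span `lat p b` of the regular parts of the characters of `b` carries the integral positive definite form
`SS f g = p^{d(b)} [f, g]`. If `l(b) ≤ 2` it has a reduced basis, and the functions `gg p b χ` have cyclotomic integer
coordinates with respect to it. This gives `k(B) ≤ p^d` for a major subsection.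
-/

set_option autoImplicit false

namespace Cfsg.Agent.Lib.Blocks.MajorLattice

open Cfsg Cfsg.Agent.Lib.Blocks.Local Cfsg.Agent.Lib.Blocks.Central Cfsg.Agent.Lib.Blocks.Osima
  Cfsg.Agent.Lib.Blocks.Regular Cfsg.Agent.Lib.Blocks.Cartan Cfsg.Agent.Lib.Blocks.Sections
  Cfsg.Agent.Lib.Blocks.BlockCount Cfsg.Agent.Lib.Blocks.HeightZero Cfsg.Agent.Lib.Blocks.MajorSub
  Cfsg.Agent.Lib.Blocks.MajorSub2 Cfsg.Agent.Lib.Blocks.MajorSub3 Cfsg.Agent.Lib.Blocks.MajorNum
  Cfsg.Agent.Lib.Blocks.CycloSums Cfsg.Agent.Lib.Blocks.BinaryForm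
open scoped ComplexConjugate

universe u

variable {G : Type u} [Group G] [Fintype G] {M : Ideal AlgInt} [hMp : M.IsPrime] {p : ℕ} [hp : Fact p.Prime]
variable {u : G} [Fintype (Cen u)] {b : Set (IrrCharacter (Cen u))}

open Classical

/-! ### The form -/

lemma SS_add_left (f f' g : Cen u → ℂ) : SS p b (f + f') g = SS p b f g + SS p b f' g := by
  rw [SS, SS, SS, classInner_add, mul_add]

lemma SS_add_right (f g g' : Cen u → ℂ) : SS p b f (g + g') = SS p b f g + SS p b f g' := by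
  simp only [SS, classInner, Pi.add_apply, map_add, mul_add, Finset.sum_add_distrib]

lemma SS_smul_left (c : ℂ) (f g : Cen u → ℂ) : SS p b (c • f) g = c * SS p b f g := by
  rw [SS, SS, Cfsg.Agent.Lib.Char.Ortho.classInner_smul_left]
  ring

lemma SS_smul_right (c : ℂ) (f g : Cen u → ℂ) : SS p b f (c • g) = conj c * SS p b f g := by
  rw [SS, SS, Cfsg.Agent.Lib.Char.Ortho.classInner_smul_right]
  ring

lemma SS_conj (f g : Cen u → ℂ) : conj (SS p b f g) = SS p b g f := by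
  rw [SS, SS, map_mul, map_pow, Complex.conj_natCast, Cfsg.Agent.Lib.Char.Ortho.classInner_conj_symm]

lemma SS_zero_left (g : Cen u → ℂ) : SS p b 0 g = 0 := by
  have := SS_smul_left (p := p) (b := b) 0 0 g
  simpa using this

lemma SS_zero_right (f : Cen u → ℂ) : SS p b f 0 = 0 := by
  have := SS_smul_right (p := p) (b := b) 0 f 0
  simpa using this

lemma SS_self_eq (f : Cen u → ℂ) :
    SS p b f f = (((p : ℝ) ^ blockDefect p b * ((Nat.card (Cen u) : ℝ)⁻¹ * ∑ c, ‖f c‖ ^ 2) : ℝ) : ℂ) := by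
  rw [SS, classInner_eq_sumInner, Cfsg.Agent.Lib.Blocks.SubsectionNorm.sumInner]
  push_cast
  congr 2
  refine Finset.sum_congr rfl fun c _ => ?_
  rw [Complex.mul_conj, Complex.normSq_eq_norm_sq]
  push_cast
  rfl

lemma SS_self_eq_zero {f : Cen u → ℂ} (h : SS p b f f = 0) : f = 0 := by
  rw [SS_self_eq] at h
  have h1 : (p : ℝ) ^ blockDefect p b * ((Nat.card (Cen u) : ℝ)⁻¹ * ∑ c, ‖f c‖ ^ 2) = 0 := by exact_mod_cast h
  have hp0 : (p : ℝ) ^ blockDefect p b ≠ 0 := pow_ne_zero _ (by exact_mod_cast hp.out.ne_zero)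
  have hc0 : (Nat.card (Cen u) : ℝ)⁻¹ ≠ 0 := inv_ne_zero (Nat.cast_ne_zero.mpr Nat.card_pos.ne')
  have h2 := (mul_eq_zero.mp ((mul_eq_zero.mp h1).resolve_left hp0)).resolve_left hc0
  funext c
  have h3 := (Finset.sum_eq_zero_iff_of_nonneg (fun _ _ => by positivity)).mp h2 c (Finset.mem_univ c)
  simpa using h3

lemma SS_self_nonneg (f : Cen u → ℂ) : ∃ r : ℝ, 0 ≤ r ∧ SS p b f f = r := by
  refine ⟨_, ?_, SS_self_eq f⟩
  positivity

/-- The lattice. -/
noncomputable def lat (p : ℕ) (b : Set (IrrCharacter (Cen u))) : Submodule ℤ (Cen u → ℂ) :=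
  Submodule.span ℤ ((fun μ : IrrCharacter (Cen u) => reg p (μ : Cen u → ℂ)) '' b)

lemma reg_mem_lat {μ : IrrCharacter (Cen u)} (hμ : μ ∈ b) : reg p (μ : Cen u → ℂ) ∈ lat p b :=
  Submodule.subset_span ⟨μ, hμ, rfl⟩

lemma SS_zsmul_left (m : ℤ) (f g : Cen u → ℂ) : SS p b (m • f) g = m * SS p b f g := by
  rw [← Int.cast_smul_eq_zsmul ℂ m f, SS_smul_left]

lemma SS_zsmul_right (m : ℤ) (f g : Cen u → ℂ) : SS p b f (m • g) = m * SS p b f g := by
  rw [← Int.cast_smul_eq_zsmul ℂ m g, SS_smul_right, map_intCast]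

lemma exists_int_SS_reg (hM : IsPModular p M) (μ : IrrCharacter (Cen u)) {y : Cen u → ℂ} (hy : y ∈ lat p b) :
    ∃ n : ℤ, SS p b (reg p (μ : Cen u → ℂ)) y = n := by
  induction hy using Submodule.span_induction with
  | mem x hx =>
    obtain ⟨μ', hμ', rfl⟩ := hx
    obtain ⟨n, hn⟩ := exists_int_pow_defect_mul hM μ hμ'
    exact ⟨n, by rw [SS, classInner_reg_reg, hn]⟩
  | zero => exact ⟨0, by rw [SS_zero_right]; simp⟩
  | add x y _ _ hx hy =>
    obtain ⟨n₁, h₁⟩ := hx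
    obtain ⟨n₂, h₂⟩ := hy
    exact ⟨n₁ + n₂, by rw [SS_add_right, h₁, h₂]; push_cast; rfl⟩
  | smul a x _ hx =>
    obtain ⟨n₁, h₁⟩ := hx
    exact ⟨a * n₁, by rw [SS_zsmul_right, h₁]; push_cast; rfl⟩

/-- The form is integral on the lattice. -/
theorem exists_int_SS (hM : IsPModular p M) {x y : Cen u → ℂ} (hx : x ∈ lat p b) (hy : y ∈ lat p b) :
    ∃ n : ℤ, SS p b x y = n := by
  induction hx using Submodule.span_induction with
  | mem x hx =>
    obtain ⟨μ, -, rfl⟩ := hx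
    exact exists_int_SS_reg hM μ hy
  | zero => exact ⟨0, by rw [SS_zero_left]; simp⟩
  | add x' y' _ _ hx hy =>
    obtain ⟨n₁, h₁⟩ := hx
    obtain ⟨n₂, h₂⟩ := hy
    exact ⟨n₁ + n₂, by rw [SS_add_left, h₁, h₂]; push_cast; rfl⟩
  | smul a x _ hx =>
    obtain ⟨n₁, h₁⟩ := hx
    exact ⟨a * n₁, by rw [SS_zsmul_left, h₁]; push_cast; rfl⟩

/-- The integral form as a bilinear map. -/
noncomputable def BB (hM : IsPModular p M) : lat p b →ₗ[ℤ] lat p b →ₗ[ℤ] ℤ :=
  LinearMap.mk₂ ℤ (fun x y => Classical.choose (exists_int_SS (p := p) (b := b) hM x.2 y.2))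
    (fun x x' y => by
      have h1 := Classical.choose_spec (exists_int_SS (p := p) (b := b) hM (x + x').2 y.2)
      have h2 := Classical.choose_spec (exists_int_SS (p := p) (b := b) hM x.2 y.2)
      have h3 := Classical.choose_spec (exists_int_SS (p := p) (b := b) hM x'.2 y.2)
      have h4 : SS p b ((x + x' : lat p b) : Cen u → ℂ) y = SS p b x y + SS p b x' y := SS_add_left _ _ _
      rw [h1, h2, h3] at h4
      exact_mod_cast h4)
    (fun m x y => by
      have h1 := Classical.choose_spec (exists_int_SS (p := p) (b := b) hM (m • x).2 y.2)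
      have h2 := Classical.choose_spec (exists_int_SS (p := p) (b := b) hM x.2 y.2)
      have h4 : SS p b ((m • x : lat p b) : Cen u → ℂ) y = m * SS p b x y := SS_zsmul_left _ _ _
      rw [h1, h2] at h4
      simp only [smul_eq_mul]
      exact_mod_cast h4)
    (fun x y y' => by
      have h1 := Classical.choose_spec (exists_int_SS (p := p) (b := b) hM x.2 (y + y').2)
      have h2 := Classical.choose_spec (exists_int_SS (p := p) (b := b) hM x.2 y.2)
      have h3 := Classical.choose_spec (exists_int_SS (p := p) (b := b) hM x.2 y'.2)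
      have h4 : SS p b x ((y + y' : lat p b) : Cen u → ℂ) = SS p b x y + SS p b x y' := SS_add_right _ _ _
      rw [h1, h2, h3] at h4
      exact_mod_cast h4)
    (fun m x y => by
      have h1 := Classical.choose_spec (exists_int_SS (p := p) (b := b) hM x.2 (m • y).2)
      have h2 := Classical.choose_spec (exists_int_SS (p := p) (b := b) hM x.2 y.2)
      have h4 : SS p b x ((m • y : lat p b) : Cen u → ℂ) = m * SS p b x y := SS_zsmul_right _ _ _
      rw [h1, h2] at h4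
      simp only [smul_eq_mul]
      exact_mod_cast h4)

lemma BB_spec (hM : IsPModular p M) (x y : lat p b) : ((BB hM x y : ℤ) : ℂ) = SS p b x y :=
  (Classical.choose_spec (exists_int_SS (p := p) (b := b) hM x.2 y.2)).symm

lemma BB_symm (hM : IsPModular p M) (x y : lat p b) : BB hM x y = BB hM y x := by
  have h1 := BB_spec hM x y
  have h2 := BB_spec hM y x
  have h3 := SS_conj (p := p) (b := b) (x : Cen u → ℂ) y
  rw [← h1, ← h2, map_intCast] at h3
  exact_mod_cast h3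

lemma BB_nonneg (hM : IsPModular p M) (x : lat p b) : 0 ≤ BB hM x x := by
  obtain ⟨r, hr, e⟩ := SS_self_nonneg (p := p) (b := b) (x : Cen u → ℂ)
  have h1 := BB_spec hM x x
  rw [e] at h1
  have h2 : ((BB hM x x : ℤ) : ℝ) = r := by exact_mod_cast h1
  have h3 : (0 : ℝ) ≤ ((BB hM x x : ℤ) : ℝ) := by rw [h2]; exact hr
  exact_mod_cast h3

lemma BB_eq_zero (hM : IsPModular p M) {x : lat p b} (h : BB hM x x = 0) : x = 0 := by
  have h1 := BB_spec hM x x
  rw [h] at h1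
  have h2 : SS p b (x : Cen u → ℂ) x = 0 := by rw [← h1]; simp
  exact Subtype.ext (SS_self_eq_zero h2)

lemma lat_le_regSpan {x : Cen u → ℂ} (hx : x ∈ lat p b) : x ∈ regSpan p b := by
  induction hx using Submodule.span_induction with
  | mem x hx =>
    obtain ⟨μ, hμ, rfl⟩ := hx
    refine Submodule.subset_span ⟨μ, hμ, ?_⟩
    exact pRegularPart_eq_reg p _
  | zero => exact Submodule.zero_mem _
  | add x y _ _ hx hy => exact Submodule.add_mem _ hx hy
  | smul a x _ hx =>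
    rw [← Int.cast_smul_eq_zsmul ℂ a x]
    exact Submodule.smul_mem _ _ hx

/-- **The reduced basis.** -/
theorem exists_reduced (hM : IsPModular p M) (hl : blockRank p b ≤ 2) :
    ∃ v w : Cen u → ℂ, v ∈ lat p b ∧ w ∈ lat p b ∧ (∀ x ∈ lat p b, ∃ m n : ℤ, x = (m : ℂ) • v + (n : ℂ) • w) ∧
      ∃ a₁ a₂ c : ℕ, SS p b v v = (a₁ : ℂ) + c ∧ SS p b w w = (a₂ : ℂ) + c ∧ SS p b v w = -(c : ℂ) ∧
        c ≤ a₁ ∧ c ≤ a₂ := by
  haveI hfin : Module.Finite ℤ (lat p b) := Module.Finite.span_of_finite ℤ (Set.toFinite _)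
  haveI : Module.Free ℤ (lat p b) := Module.free_of_finite_type_torsion_free'
  have hdep : ∀ x : Fin 3 → lat p b, ∃ c : Fin 3 → ℂ, c ≠ 0 ∧ ∀ y, ∑ i, c i * ((BB hM (x i) y : ℤ) : ℂ) = 0 := by
    intro x
    let x' : Fin 3 → regSpan p b := fun i => ⟨x i, lat_le_regSpan (x i).2⟩
    have hnot : ¬ LinearIndependent ℂ x' := by
      intro hli
      have h1 := hli.fintype_card_le_finrank
      rw [Fintype.card_fin, ← blockRank_eq] at h1
      omega
    obtain ⟨g, hg, i, hi⟩ := Fintype.not_linearIndependent_iff.mp hnot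
    refine ⟨g, fun h => hi (congrFun h i), fun y => ?_⟩
    have h2 : g 0 • ((x 0 : lat p b) : Cen u → ℂ) + g 1 • ((x 1 : lat p b) : Cen u → ℂ) +
        g 2 • ((x 2 : lat p b) : Cen u → ℂ) = 0 := by
      have := congrArg Subtype.val hg
      rw [Fin.sum_univ_three] at this
      exact this
    simp only [BB_spec]
    rw [Fin.sum_univ_three]
    have h3 := congrArg (fun f => SS p b f (y : Cen u → ℂ)) h2
    simp only [SS_add_left, SS_smul_left, SS_zero_left] at h3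
    exact h3
  obtain ⟨v₀, w₀, hgen⟩ := exists_gen_pair (BB hM) (BB_symm hM) (fun x h => BB_eq_zero hM h) hdep
  obtain ⟨v, w, hvw, a₁, a₂, c, h1, h2, h3, h4, h5⟩ :=
    exists_reduced_pair (BB hM) (BB_symm hM) (BB_nonneg hM) v₀ w₀ hgen
  refine ⟨v, w, v.2, w.2, fun x hx => ?_, a₁, a₂, c, ?_, ?_, ?_, h4, h5⟩
  · obtain ⟨m, n, e⟩ := hvw ⟨x, hx⟩
    refine ⟨m, n, ?_⟩
    have h6 := congrArg Subtype.val e
    rw [Int.cast_smul_eq_zsmul, Int.cast_smul_eq_zsmul]
    exact h6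
  · rw [← BB_spec hM, h1]
    push_cast
    rfl
  · rw [← BB_spec hM, h2]
    push_cast
    rfl
  · rw [← BB_spec hM, h3]
    push_cast
    rfl

lemma nu_mem {k : ℕ} (hk : orderOf u = p ^ k) (μ : IrrCharacter (Cen u)) : nu μ ∈ rootRing (p ^ (k + 1)) :=
  rootRing_mono (pow_dvd_pow p (Nat.le_succ k)) (root_mem_rootRing (nu_pow_eq hk μ))

/-- The coordinates of the section functions. -/
theorem gg_coords {k : ℕ} (hk : orderOf u = p ^ k) {v w : Cen u → ℂ}
    (hgen : ∀ x ∈ lat p b, ∃ m n : ℤ, x = (m : ℂ) • v + (n : ℂ) • w) (χ : IrrCharacter G) :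
    ∃ d₁ ∈ rootRing (p ^ (k + 1)), ∃ d₂ ∈ rootRing (p ^ (k + 1)), gg p b χ = d₁ • v + d₂ • w := by
  have h1 : ∀ μ : IrrCharacter (Cen u), ∃ m n : ℤ, μ ∈ b → reg p (μ : Cen u → ℂ) = (m : ℂ) • v + (n : ℂ) • w := by
    intro μ
    by_cases hμ : μ ∈ b
    · obtain ⟨m, n, e⟩ := hgen _ (reg_mem_lat hμ)
      exact ⟨m, n, fun _ => e⟩
    · exact ⟨0, 0, fun h => absurd h hμ⟩
  choose m₁ m₂ hm using h1
  refine ⟨∑ μ ∈ Finset.univ.filter (· ∈ b), ((mm χ μ : ℂ) * nu μ) * (m₁ μ : ℂ), ?_,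
    ∑ μ ∈ Finset.univ.filter (· ∈ b), ((mm χ μ : ℂ) * nu μ) * (m₂ μ : ℂ), ?_, ?_⟩
  · exact Subring.sum_mem _ fun μ _ => Subring.mul_mem _ (Subring.mul_mem _ (natCast_mem _ _) (nu_mem hk μ))
      (intCast_mem _ _)
  · exact Subring.sum_mem _ fun μ _ => Subring.mul_mem _ (Subring.mul_mem _ (natCast_mem _ _) (nu_mem hk μ))
      (intCast_mem _ _)
  · rw [gg_eq, Finset.sum_smul, Finset.sum_smul, ← Finset.sum_add_distrib]
    refine Finset.sum_congr rfl fun μ hμ => ?_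
    rw [hm μ (Finset.mem_filter.mp hμ).2, smul_add, smul_smul, smul_smul]

lemma SS_expand (d₁ d₂ : ℂ) (v w : Cen u → ℂ) :
    SS p b (d₁ • v + d₂ • w) (d₁ • v + d₂ • w) = d₁ * conj d₁ * SS p b v v + d₁ * conj d₂ * SS p b v w +
      d₂ * conj d₁ * SS p b w v + d₂ * conj d₂ * SS p b w w := by
  simp only [SS_add_left, SS_add_right, SS_smul_left, SS_smul_right]
  ring

/-- The case of a single coordinate. -/
lemma single_case {k : ℕ} {d : ℂ} {v : Cen u → ℂ} (hd : d ∈ rootRing (p ^ (k + 1))) (hv : v ∈ lat p b)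
    {n : ℕ} (hvv : SS p b v v = n) (hx : d • v ≠ 0) :
    2 ≤ aAvg (p ^ (k + 1)) (SS p b (d • v) (d • v)) ∨
      ∃ a ∈ rootRing (p ^ (k + 1)), ∃ v' ∈ lat p b, d • v = a • v' ∧ SS p b v' v' = 1 := by
  have hd0 : d ≠ 0 := by
    rintro rfl
    exact hx (zero_smul _ _)
  have hv0 : v ≠ 0 := by
    rintro rfl
    exact hx (smul_zero _)
  have hn0 : n ≠ 0 := by
    rintro rfl
    apply hv0
    apply SS_self_eq_zero (p := p) (b := b)
    rw [hvv]
    simp
  by_cases hn1 : n = 1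
  · right
    refine ⟨d, hd, v, hv, rfl, ?_⟩
    rw [hvv, hn1]
    simp
  · left
    have h1 : SS p b (d • v) (d • v) = (n : ℂ) * (d * conj d) := by
      rw [SS_smul_left, SS_smul_right, hvv]
      ring
    rw [h1, aAvg_natCast_mul, aAvg_mul_conj hd]
    have h2 := one_le_nAvg hd hd0
    have h3 : (2 : ℝ) ≤ n := by
      have : 2 ≤ n := by omega
      exact_mod_cast this
    nlinarith

/-- **The dichotomy.** -/
theorem dichotomy {k : ℕ} {v w : Cen u → ℂ} (hv : v ∈ lat p b) (hw : w ∈ lat p b) {a₁ a₂ c : ℕ}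
    (hvv : SS p b v v = (a₁ : ℂ) + c) (hww : SS p b w w = (a₂ : ℂ) + c) (hvw : SS p b v w = -(c : ℂ))
    (hc1 : c ≤ a₁) (hc2 : c ≤ a₂) {d₁ d₂ : ℂ} (hd₁ : d₁ ∈ rootRing (p ^ (k + 1))) (hd₂ : d₂ ∈ rootRing (p ^ (k + 1)))
    (hx : d₁ • v + d₂ • w ≠ 0) :
    2 ≤ aAvg (p ^ (k + 1)) (SS p b (d₁ • v + d₂ • w) (d₁ • v + d₂ • w)) ∨
      ∃ a ∈ rootRing (p ^ (k + 1)), ∃ v' ∈ lat p b, d₁ • v + d₂ • w = a • v' ∧ SS p b v' v' = 1 := by
  have hwv : SS p b w v = -(c : ℂ) := by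
    rw [← SS_conj, hvw, map_neg, Complex.conj_natCast]
  have hvv' : SS p b v v = ((a₁ + c : ℕ) : ℂ) := by rw [hvv]; push_cast; rfl
  have hww' : SS p b w w = ((a₂ + c : ℕ) : ℂ) := by rw [hww]; push_cast; rfl
  by_cases h2 : d₂ = 0 ∨ w = 0
  · have h3 : d₁ • v + d₂ • w = d₁ • v := by
      rcases h2 with h2 | h2
      · rw [h2, zero_smul, add_zero]
      · rw [h2, smul_zero, add_zero]
    rw [h3] at hx ⊢
    exact single_case hd₁ hv hvv' hx
  by_cases h1 : d₁ = 0 ∨ v = 0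
  · have h3 : d₁ • v + d₂ • w = d₂ • w := by
      rcases h1 with h1 | h1
      · rw [h1, zero_smul, zero_add]
      · rw [h1, smul_zero, zero_add]
    rw [h3] at hx ⊢
    exact single_case hd₂ hw hww' hx
  left
  simp only [not_or] at h1 h2
  have ha₁ : 1 ≤ a₁ := by
    by_contra hcon
    have h4 : a₁ = 0 := by omega
    have h5 : c = 0 := by omega
    apply h1.2
    apply SS_self_eq_zero (p := p) (b := b)
    rw [hvv, h4, h5]
    simp
  have ha₂ : 1 ≤ a₂ := by
    by_contra hcon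
    have h4 : a₂ = 0 := by omega
    have h5 : c = 0 := by omega
    apply h2.2
    apply SS_self_eq_zero (p := p) (b := b)
    rw [hww, h4, h5]
    simp
  have hexp : SS p b (d₁ • v + d₂ • w) (d₁ • v + d₂ • w) =
      (a₁ : ℂ) * (d₁ * conj d₁) + (a₂ : ℂ) * (d₂ * conj d₂) + (c : ℂ) * ((d₁ - d₂) * conj (d₁ - d₂)) := by
    rw [SS_expand, hvv, hww, hvw, hwv, map_sub]
    ring
  have hd₁₂ : d₁ - d₂ ∈ rootRing (p ^ (k + 1)) := Subring.sub_mem _ hd₁ hd₂
  rw [hexp, aAvg_add, aAvg_add, aAvg_natCast_mul, aAvg_natCast_mul, aAvg_natCast_mul, aAvg_mul_conj hd₁,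
    aAvg_mul_conj hd₂, aAvg_mul_conj hd₁₂]
  have h3 := one_le_nAvg hd₁ h1.1
  have h4 := one_le_nAvg hd₂ h2.1
  have h5 := nAvg_nonneg (n := p ^ (k + 1)) (d₁ - d₂)
  have h6 : (1 : ℝ) ≤ a₁ := by exact_mod_cast ha₁
  have h7 : (1 : ℝ) ≤ a₂ := by exact_mod_cast ha₂
  have h8 : (0 : ℝ) ≤ c := by positivity
  nlinarith [mul_nonneg h8 h5]

/-- **Robinson's theorem**: a major subsection with at most two Brauer characters. -/
theorem card_le_of_rank_le_two (hM : IsPModular p M) {k : ℕ} (hk : orderOf u = p ^ k) {B : Set (IrrCharacter G)}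
    (hind : IsInducedBlock M (Cen u) b B) (hd : blockDefect p b = blockDefect p B) (hl : blockRank p b ≤ 2) :
    (Finset.univ.filter (· ∈ B)).card ≤ p ^ blockDefect p b := by
  set S := Finset.univ.filter (· ∈ B) with hS
  obtain ⟨v, w, hv, hw, hgen, a₁, a₂, c, hvv, hww, hvw, hc1, hc2⟩ := exists_reduced (p := p) (b := b) hM hl
  obtain ⟨χ₁, hχ₁, h₁⟩ := exists_height_zero (p := p) (nonempty_of_isPBlock hind.2.1)
  have hpos : 0 < p ^ blockDefect p b := pow_pos hp.out.pos _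
  have hH := herm_XX hM hk hind
  have hmem : ∀ {χ : IrrCharacter G}, χ ∈ S → χ ∈ B := fun hχ => (Finset.mem_filter.mp hχ).2
  have hne : ∀ χ ∈ S, XX p b χ χ₁ ≠ 0 := fun χ hχ =>
    XX_ne_of_height_zero hM hk hind hd (hmem hχ) hχ₁ h₁
  have hgg : ∀ χ ∈ S, gg p b χ ≠ 0 := by
    intro χ hχ h0
    apply hne χ hχ
    rw [XX, h0, classInner_eq_sumInner, Cfsg.Agent.Lib.Blocks.SubsectionNorm.sumInner]
    simp
  by_cases hex : ∃ χ₀ ∈ S, blockHeight p B (χ₀ : G → ℂ) = 0 ∧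
      ∃ a ∈ rootRing (p ^ (k + 1)), ∃ v' ∈ lat p b, gg p b χ₀ = a • v' ∧ SS p b v' v' = 1
  · -- a row of norm `p^d`
    obtain ⟨χ₀, hχ₀, h00, a, ha, v', hv', ea, hv'1⟩ := hex
    have he : ∀ χ, SS p b (gg p b χ) v' ∈ rootRing (p ^ (k + 1)) := by
      intro χ
      obtain ⟨d₁, hd₁, d₂, hd₂, e⟩ := gg_coords hk hgen χ
      obtain ⟨n₁, h₁'⟩ := exists_int_SS (p := p) (b := b) hM hv hv'
      obtain ⟨n₂, h₂'⟩ := exists_int_SS (p := p) (b := b) hM hw hv'
      rw [e, SS_add_left, SS_smul_left, SS_smul_left, h₁', h₂']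
      exact Subring.add_mem _ (Subring.mul_mem _ hd₁ (intCast_mem _ _)) (Subring.mul_mem _ hd₂ (intCast_mem _ _))
    have he0 : ∀ χ ∈ S, SS p b (gg p b χ) v' ≠ 0 := by
      intro χ hχ h0
      apply XX_ne_of_height_zero hM hk hind hd (hmem hχ) (hmem hχ₀) h00
      rw [XX_eq_SS, ea, SS_smul_right, h0, mul_zero]
    have hframe := sum_SS hM hk hind (lat_le_regSpan hv') (lat_le_regSpan hv')
    rw [hv'1, mul_one] at hframe
    have hrow : ∑ χ ∈ S, SS p b (gg p b χ) v' * conj (SS p b (gg p b χ) v') =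
        ((p ^ blockDefect p b : ℕ) : ℂ) * 1 := by
      rw [mul_one, ← hframe]
      exact Finset.sum_congr rfl fun χ _ => mul_comm _ _
    have h1 := sum_nAvg_eq (n := p ^ (k + 1)) (fun χ _ => he χ) hrow
    have h2 : aAvg (p ^ (k + 1)) (1 : ℂ) = 1 := by
      have := aAvg_natCast (n := p ^ (k + 1)) 1
      simpa using this
    rw [h2, mul_one] at h1
    have h3 : (S.card : ℝ) ≤ ∑ χ ∈ S, nAvg (p ^ (k + 1)) (SS p b (gg p b χ) v') := by
      have h4 : ∑ _χ ∈ S, (1 : ℝ) ≤ ∑ χ ∈ S, nAvg (p ^ (k + 1)) (SS p b (gg p b χ) v') :=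
        Finset.sum_le_sum fun χ hχ => one_le_nAvg (he χ) (he0 χ hχ)
      simpa using h4
    rw [h1] at h3
    exact_mod_cast h3
  · -- all the averages are at least two
    have h2 : ∀ χ ∈ S, 2 ≤ aAvg (p ^ (k + 1)) (XX p b χ χ) := by
      intro χ hχ
      by_cases h0 : blockHeight p B (χ : G → ℂ) = 0
      · obtain ⟨d₁, hd₁, d₂, hd₂, e⟩ := gg_coords hk hgen χ
        have h3 := dichotomy (k := k) hv hw hvv hww hvw hc1 hc2 hd₁ hd₂ (e ▸ hgg χ hχ)
        rw [← e] at h3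
        rcases h3 with h3 | h3
        · exact h3
        · exact absurd ⟨χ, hχ, h0, h3⟩ hex
      · have e := XX_eq_pow_mul hM hind.1 hd (hmem hχ) χ
        have hpp : 0 < p ^ blockHeight p B (χ : G → ℂ) := pow_pos hp.out.pos _
        have e' : XX p b χ χ = ((p ^ blockHeight p B (χ : G → ℂ) : ℕ) : ℂ) * yy p b χ χ := by
          rw [e]
          push_cast
          rfl
        have ht := hH.totNonneg hpos hχ
        rw [e'] at ht
        have ht' := ht.natCast_mul hpp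
        have hy0 : yy p b χ χ ≠ 0 := by
          intro h0'
          apply hgg χ hχ
          apply SS_self_eq_zero (p := p) (b := b)
          rw [← XX_eq_SS, e', h0', mul_zero]
        have h3 := ht'.one_le_aAvg (yy_mem hM hk hind.1 hd (hmem hχ) χ) hy0
        rw [e', aAvg_natCast_mul]
        have h4 : (2 : ℝ) ≤ ((p ^ blockHeight p B (χ : G → ℂ) : ℕ) : ℝ) := by
          have h5 : 2 ≤ p ^ blockHeight p B (χ : G → ℂ) := by
            calc 2 ≤ p := hp.out.two_le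
              _ = p ^ 1 := (pow_one p).symm
              _ ≤ _ := Nat.pow_le_pow_right hp.out.pos (by omega)
          exact_mod_cast h5
        nlinarith
    have h3 := trace_XX hM hk hind
    have h4 : ∑ _χ ∈ S, (2 : ℝ) ≤ ∑ χ ∈ S, aAvg (p ^ (k + 1)) (XX p b χ χ) := Finset.sum_le_sum h2
    rw [h3, Finset.sum_const, nsmul_eq_mul] at h4
    have h5 : (blockRank p b : ℝ) ≤ 2 := by exact_mod_cast hl
    have h6 : (0 : ℝ) < ((p ^ blockDefect p b : ℕ) : ℝ) := by exact_mod_cast hpos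
    have h7 : (S.card : ℝ) ≤ ((p ^ blockDefect p b : ℕ) : ℝ) := by nlinarith
    exact_mod_cast h7

end Cfsg.Agent.Lib.Blocks.MajorLattice
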