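/-
Congruences for `p`-elements modulo the local ideal: a `p ^ k`-th root of unity is congruent to `1`,
and `χ x ≡ χ 1` for a character `χ` and a `p`-element `x`.
-/
import Mathlib
import Cfsg.Prelude.Def_Blocks
import Cfsg.Agent.Lib.Blocks.BlockHom
import Cfsg.Agent.Lib.Char.Values

set_option autoImplicit false

namespace Cfsg.Agent.Lib.Blocks.PElements

open Cfsg Cfsg.Agent.Lib.Blocks.Local Cfsg.Agent.Lib.Blocks.BlockHom

variable {p : ℕ} {M : Ideal AlgInt}

/-- A `p ^ k`-th root of unity is `1` modulo the local ideal. -/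
theorem memLocalIdeal_sub_one_of_pow (hM : IsPModular p M) {μ : ℂ} {k : ℕ} (h : μ ^ (p ^ k) = 1) :
    MemLocalIdeal M (μ - 1) := by
  have hMp := isPrime_of_isPModular hM
  have hpp := hM.1
  have : Fact p.Prime := ⟨hpp⟩
  have hint : IsIntegral ℤ μ :=
    IsIntegral.of_pow (pow_pos hpp.pos k) (by rw [h]; exact isIntegral_one)
  have hchar := charP_residue hM
  let z : localRing M := ⟨μ, memLocalRing_of_isIntegral hint⟩
  have hz : (z : ℂ) ^ (p ^ k) = 1 := h
  have hz' : z ^ (p ^ k) = 1 := Subtype.ext (by simpa using hz)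
  have h1 : (Ideal.Quotient.mk (localIdeal M) z - 1) ^ (p ^ k) = 0 := by
    rw [sub_pow_char_pow, ← map_pow, hz', map_one, one_pow, sub_self]
  have h2 : Ideal.Quotient.mk (localIdeal M) z - 1 = 0 := pow_eq_zero_iff (pow_pos hpp.pos k).ne' |>.mp h1
  have h3 : Ideal.Quotient.mk (localIdeal M) (z - 1) = 0 := by rw [map_sub, map_one, h2]
  have h4 := residue_eq_zero_iff.mp h3
  simpa [z] using h4

end Cfsg.Agent.Lib.Blocks.PElements
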