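/-
Brauer pairs: the fusion system of a block; fully centralized, fully normalized, centric subgroups.
-/
import Mathlib
import Cfsg.Agent.Lib.Blocks.Pairs9
import Cfsg.Agent.S0912
import Cfsg.Agent.Lib.Basic.PCore
import Cfsg.Prelude.Def_BlockFusion

set_option autoImplicit false

namespace Cfsg.Agent.Lib.Blocks.Pairs

open Cfsg Cfsg.Agent.Lib.Blocks.Local Cfsg.Agent.Lib.Blocks.Central Cfsg.Agent.Lib.Blocks.Osima
open Cfsg.Agent.Lib.Blocks.Covering Cfsg.Agent.Lib.Blocks.BrauerMap Cfsg.Agent.Lib.Blocks.Transport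
open Cfsg.Agent.Lib.Blocks.BlockHom Cfsg.Agent.Lib.Blocks.Twisted

universe u

section Fusion

variable {G : Type u} [Group G] [Fintype G] {M : Ideal AlgInt} [hM : M.IsPrime]
variable {p : ℕ} [Fact p.Prime]

lemma card_subgroupOf_inf_right (A K : Subgroup G) :
    Nat.card ((A ⊓ K).subgroupOf K) = Nat.card (A ⊓ K : Subgroup G) :=
  Nat.card_congr (Subgroup.subgroupOfEquivOfLe inf_le_right).toEquiv

lemma card_subgroupOf_of_le {A K : Subgroup G} (h : A ≤ K) :
    Nat.card (A.subgroupOf K) = Nat.card A :=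
  Nat.card_congr (Subgroup.subgroupOfEquivOfLe h).toEquiv

/-- Defect groups of a conjugate block have the same order. -/
lemma card_defect_conjBlock (hMp : IsPModular p M) {Q : Subgroup G}
    {f : Set (IrrCharacter (Subgroup.centralizer (Q : Set G)))} (hf : IsPBlock M f)
    {D : Subgroup (Subgroup.centralizer (Q : Set G))} (hD : IsDefectGroup p M f D) (x : G)
    {D' : Subgroup (Subgroup.centralizer ((Q.map (MulAut.conj x).toMonoidHom : Subgroup G) : Set G))}
    (hD' : IsDefectGroup p M (conjBlock Q x f) D') : Nat.card D' = Nat.card D := by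
  classical
  have hc := map_conj_centralizer Q x
  have hdef' := isDefectGroup_blockMap (conjEq x hc).symm hD
  have hfy' : blockMap (conjEq x hc).symm f = conjBlock Q x f := by
    rw [conjBlock_eq_conjB]
    rfl
  rw [hfy'] at hdef'
  have hfy : IsPBlock M (conjBlock Q x f) := by
    rw [conjBlock_eq_conjB]
    exact isPBlock_conjB hf
  rw [Cfsg.Agent.S0908.result p M hMp _ hfy _ hD', ← Cfsg.Agent.S0908.result p M hMp _ hfy _ hdef',
    card_comap]

variable {B : Set (IrrCharacter G)} {P Q : Subgroup G}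
  {e : Set (IrrCharacter (Subgroup.centralizer (P : Set G)))}
  {f : Set (IrrCharacter (Subgroup.centralizer (Q : Set G)))} {F : FusionSystem P}

/-- A conjugation carrying `(Q, f)` to a pair below `(P, e)` is a map of the fusion system. -/
lemma conjHom_mem_of_block (hF : IsBlockFusionSystemOn p M B P e F) (hQP : Q ≤ P)
    (hle : SubpairLE p M Q f P e) (g : G)
    (hle' : SubpairLE p M (Q.map (MulAut.conj g).toMonoidHom) (conjBlock Q g f) P e) :
    conjHom Q g ∈ F.Hom Q :=
  (hF.2 Q _).2 ⟨hQP, g, fun _ => rfl, SubpairLE.le hle', f, hle, hle'⟩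

lemma range_conjHom (Q : Subgroup G) (g : G) :
    (conjHom Q g).range = Q.map (MulAut.conj g).toMonoidHom := by
  ext y
  constructor
  · rintro ⟨u, rfl⟩
    exact ⟨u, u.2, rfl⟩
  · rintro ⟨u, hu, rfl⟩
    exact ⟨⟨u, hu⟩, rfl⟩

lemma isConj_of_block (hF : IsBlockFusionSystemOn p M B P e F) (hQP : Q ≤ P)
    (hle : SubpairLE p M Q f P e) (g : G)
    (hle' : SubpairLE p M (Q.map (MulAut.conj g).toMonoidHom) (conjBlock Q g f) P e) :
    F.IsConj Q (Q.map (MulAut.conj g).toMonoidHom) :=
  ⟨_, conjHom_mem_of_block hF hQP hle g hle', range_conjHom Q g⟩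

/-- The maps of the fusion system of a block, given the local block `f`. -/
lemma exists_of_mem_hom (hMp : IsPModular p M) (hF : IsBlockFusionSystemOn p M B P e F)
    (hle : SubpairLE p M Q f P e) {φ : Q →* G} (hφ : φ ∈ F.Hom Q) :
    ∃ g : G, (∀ u : Q, φ u = g * (u : G) * g⁻¹) ∧
      SubpairLE p M (Q.map (MulAut.conj g).toMonoidHom) (conjBlock Q g f) P e := by
  obtain ⟨-, g, hu, -, f', hf', hf''⟩ := (hF.2 Q φ).1 hφ
  have h : f' = f := eq_of_subpairLE hMp hF.1.1.1 hf' hle
  subst h
  exact ⟨g, hu, hf''⟩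

lemma exists_of_isConj (hMp : IsPModular p M) (hF : IsBlockFusionSystemOn p M B P e F)
    (hle : SubpairLE p M Q f P e) {R : Subgroup G} (h : F.IsConj Q R) :
    ∃ g : G, R = Q.map (MulAut.conj g).toMonoidHom ∧
      SubpairLE p M (Q.map (MulAut.conj g).toMonoidHom) (conjBlock Q g f) P e := by
  obtain ⟨φ, hφ, hr⟩ := h
  obtain ⟨g, hu, hg⟩ := exists_of_mem_hom hMp hF hle hφ
  refine ⟨g, ?_, hg⟩
  rw [← hr]
  ext y
  constructor
  · rintro ⟨u, rfl⟩
    exact ⟨u, u.2, (hu u).symm⟩
  · rintro ⟨u, hu', rfl⟩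
    exact ⟨⟨u, hu'⟩, hu _⟩

/-- The order of `C_P(Q^g)` is bounded by the defect of `f`. -/
lemma card_centralizerIn_le (hMp : IsPModular p M) (hPe : IsBrauerPair p M P e) (hf : IsPBlock M f)
    {D : Subgroup (Subgroup.centralizer (Q : Set G))} (hD : IsDefectGroup p M f D) (g : G)
    (hle' : SubpairLE p M (Q.map (MulAut.conj g).toMonoidHom) (conjBlock Q g f) P e) :
    Nat.card (P ⊓ Subgroup.centralizer ((Q.map (MulAut.conj g).toMonoidHom : Subgroup G) : Set G) : Subgroup G) ≤
      Nat.card D := by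
  have hfy : IsPBlock M (conjBlock Q g f) := by
    rw [conjBlock_eq_conjB]
    exact isPBlock_conjB hf
  obtain ⟨D', hD', hW⟩ := exists_defect_le_centralizer hMp hPe (SubpairLE.le hle') hfy hle'
  rw [← card_defect_conjBlock hMp hf hD g hD', ← card_subgroupOf_inf_right]
  exact Subgroup.card_le_of_le hW

/-- **S4678**. -/
theorem isFullyCentralized_iff (hMp : IsPModular p M) (hF : IsBlockFusionSystemOn p M B P e F)
    (hQP : Q ≤ P) (hf : IsPBlock M f) (hle : SubpairLE p M Q f P e) :
    F.IsFullyCentralized Q ↔ IsDefectGroup p M f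
      ((P ⊓ Subgroup.centralizer (Q : Set G)).subgroupOf (Subgroup.centralizer (Q : Set G))) := by
  have hPe := hF.1.1.1
  constructor
  · rintro ⟨-, hfc⟩
    obtain ⟨x, hx, hxD⟩ := exists_conj_isDefectGroup_centralizer hMp hF.1 hQP hf hle
    have h1 := hfc _ (isConj_of_block hF hQP hle x hx)
    obtain ⟨D, hD, hW⟩ := exists_defect_le_centralizer hMp hPe hQP hf hle
    have h2 := card_defect_conjBlock hMp hf hD x hxD
    have heq := Subgroup.eq_of_le_of_card_ge hW (by
      rw [← h2, card_subgroupOf_inf_right, card_subgroupOf_inf_right]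
      exact h1)
    rw [heq]
    exact hD
  · intro hD
    refine ⟨hQP, fun R hR => ?_⟩
    obtain ⟨g, rfl, hg⟩ := exists_of_isConj hMp hF hle hR
    have h1 := card_centralizerIn_le hMp hPe hf hD g hg
    rw [card_subgroupOf_inf_right] at h1
    exact h1

lemma card_inf_centralizer_conj (Q : Subgroup G) (g : G) :
    Nat.card (Q.map (MulAut.conj g).toMonoidHom ⊓
      Subgroup.centralizer ((Q.map (MulAut.conj g).toMonoidHom : Subgroup G) : Set G) : Subgroup G) =
      Nat.card (Q ⊓ Subgroup.centralizer (Q : Set G) : Subgroup G) := by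
  rw [← map_conj_centralizer, ← Subgroup.map_inf _ _ _ (MulAut.conj g).injective]
  exact Nat.card_congr (Subgroup.equivMapOfInjective _ _ (MulAut.conj g).injective).toEquiv.symm

/-- **S4680**. -/
theorem isCentric_iff (hMp : IsPModular p M) (hF : IsBlockFusionSystemOn p M B P e F)
    (hQP : Q ≤ P) (hf : IsPBlock M f) (hle : SubpairLE p M Q f P e) :
    F.IsCentric Q ↔ IsDefectGroup p M f
      ((Q ⊓ Subgroup.centralizer (Q : Set G)).subgroupOf (Subgroup.centralizer (Q : Set G))) := by
  have hPe := hF.1.1.1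
  constructor
  · rintro ⟨-, hc⟩
    obtain ⟨x, hx, hxD⟩ := exists_conj_isDefectGroup_centralizer hMp hF.1 hQP hf hle
    have h1 := hc _ (isConj_of_block hF hQP hle x hx)
    obtain ⟨D, hD, -⟩ := exists_defect_le_centralizer hMp hPe hQP hf hle
    have h2 := card_defect_conjBlock hMp hf hD x hxD
    have hn : ((Q ⊓ Subgroup.centralizer (Q : Set G)).subgroupOf (Subgroup.centralizer (Q : Set G))).Normal := by
      constructor
      intro a ha c
      rw [Subgroup.mem_subgroupOf] at ha ⊢
      have h3 : (c : G) * (a : G) * (c : G)⁻¹ = a := by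
        have := Subgroup.mem_centralizer_iff.mp c.2 _ ha.1
        rw [← this, mul_assoc, mul_inv_cancel, mul_one]
      simpa [h3] using ha
    have hp : IsPGroup p ((Q ⊓ Subgroup.centralizer (Q : Set G)).subgroupOf (Subgroup.centralizer (Q : Set G))) :=
      ((hPe.1.to_le hQP).to_le inf_le_left).comap_of_injective _ (Subgroup.subtype_injective _)
    have hZD := (Cfsg.Agent.Lib.Basic.PCore.le_pCore hn hp).trans (Cfsg.Agent.S0912.result p M hMp f hf D hD)
    have heq := Subgroup.eq_of_le_of_card_ge hZD (by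
      rw [← h2, card_subgroupOf_inf_right, card_subgroupOf_inf_right,
        ← card_inf_centralizer_conj Q x]
      exact Subgroup.card_le_of_le (le_inf h1 inf_le_right))
    rw [heq]
    exact hD
  · intro hD
    refine ⟨hQP, fun R hR => ?_⟩
    obtain ⟨g, rfl, hg⟩ := exists_of_isConj hMp hF hle hR
    have h1 := card_centralizerIn_le hMp hPe hf hD g hg
    rw [card_subgroupOf_inf_right, ← card_inf_centralizer_conj Q g] at h1
    have hle2 : (Q.map (MulAut.conj g).toMonoidHom ⊓
        Subgroup.centralizer ((Q.map (MulAut.conj g).toMonoidHom : Subgroup G) : Set G) : Subgroup G) ≤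
        P ⊓ Subgroup.centralizer ((Q.map (MulAut.conj g).toMonoidHom : Subgroup G) : Set G) :=
      inf_le_inf_right _ (SubpairLE.le hg)
    have heq := Subgroup.eq_of_le_of_card_ge hle2 h1
    show P ⊓ Subgroup.centralizer ((Q.map (MulAut.conj g).toMonoidHom : Subgroup G) : Set G) ≤ _
    rw [← heq]
    exact inf_le_left

/-- Two blocks with the same coefficients coincide. -/
lemma eq_of_blockCoeff_eq {H : Type*} [Group H] [Fintype H] {A A' : Set (IrrCharacter H)}
    (h : ∀ t : H, blockCoeff A t = blockCoeff A' t) : A = A' := by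
  classical
  apply blockElt_injective
  apply ext_coeff
  intro t
  rw [coeff_blockElt, coeff_blockElt, h]

/-- The normalizer of `Q` in `P` stabilizes the local block. -/
lemma normalizerIn_le_stabilizer (hMp : IsPModular p M) (hPe : IsBrauerPair p M P e) (hQP : Q ≤ P)
    (hle : SubpairLE p M Q f P e) {T : Subgroup G}
    (hT : ∀ y : G, y ∈ T ↔ y ∈ Subgroup.normalizer (Q : Set G) ∧
      StabilizesBlock (Subgroup.centralizer (Q : Set G)) f y) :
    P ⊓ Subgroup.normalizer (Q : Set G) ≤ T := by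
  obtain ⟨h, hn⟩ := exists_normal_subpair_normalizer hMp hPe hQP hle
  intro u hu
  exact (hT u).mpr ⟨hu.2, hn.2.2.2.2.1 u hu⟩

/-- The stabilizer of the conjugate pair. -/
lemma stabilizer_conj_spec {T : Subgroup G} (g : G)
    (hT : ∀ y : G, y ∈ T ↔ y ∈ Subgroup.normalizer (Q : Set G) ∧
      StabilizesBlock (Subgroup.centralizer (Q : Set G)) f y) :
    ∀ y : G, y ∈ T.map (MulAut.conj g).toMonoidHom ↔
      y ∈ Subgroup.normalizer ((Q.map (MulAut.conj g).toMonoidHom : Subgroup G) : Set G) ∧
      StabilizesBlock (Subgroup.centralizer ((Q.map (MulAut.conj g).toMonoidHom : Subgroup G) : Set G))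
        (conjBlock Q g f) y := by
  have h := map_conj_stabilizer (T' := Subgroup.normalizer ((Q.map (MulAut.conj g).toMonoidHom : Subgroup G) : Set G) ⊓
      blockStabilizer (Subgroup.centralizer ((Q.map (MulAut.conj g).toMonoidHom : Subgroup G) : Set G)) (conjBlock Q g f))
    g hT (fun u => Iff.rfl)
  intro y
  rw [h]
  exact Iff.rfl

/-- The block of the conjugate stabilizer. -/
lemma conj_stabilizer_block {T : Subgroup G} (g : G) {F₀ : Set (IrrCharacter T)}
    (hF₀c : ∀ t : T, blockCoeff F₀ t = subgroupBlockCoeff (Subgroup.centralizer (Q : Set G)) f t) :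
    ∀ t : T.map (MulAut.conj g).toMonoidHom, blockCoeff (blockMap (conjEq g rfl).symm F₀) t =
      subgroupBlockCoeff (Subgroup.centralizer ((Q.map (MulAut.conj g).toMonoidHom : Subgroup G) : Set G))
        (conjBlock Q g f) (t : G) := by
  intro t
  have hcQ := map_conj_centralizer Q g
  rw [blockCoeff_blockMap, hF₀c, conjBlock_eq_conjB]
  have h6 := subgroupBlockCoeff_conjB hcQ f (((conjEq g rfl).symm t : T) : G)
  rw [conjEq_symm_spec] at h6
  exact h6.symm

/-- The order of `N_P(Q^g)` is bounded by the defect of the block of the stabilizer. -/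
lemma card_normalizerIn_le (hMp : IsPModular p M) (hPe : IsBrauerPair p M P e)
    {T : Subgroup G} (hT : ∀ y : G, y ∈ T ↔ y ∈ Subgroup.normalizer (Q : Set G) ∧
      StabilizesBlock (Subgroup.centralizer (Q : Set G)) f y)
    {F₀ : Set (IrrCharacter T)} (hF₀ : IsPBlock M F₀)
    (hF₀c : ∀ t : T, blockCoeff F₀ t = subgroupBlockCoeff (Subgroup.centralizer (Q : Set G)) f t)
    {D : Subgroup T} (hD : IsDefectGroup p M F₀ D) (g : G)
    (hle' : SubpairLE p M (Q.map (MulAut.conj g).toMonoidHom) (conjBlock Q g f) P e) :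
    Nat.card (P ⊓ Subgroup.normalizer ((Q.map (MulAut.conj g).toMonoidHom : Subgroup G) : Set G) : Subgroup G) ≤
      Nat.card D := by
  have hT' := stabilizer_conj_spec g hT
  have hF'' : IsPBlock M (blockMap (conjEq g (rfl : T.map (MulAut.conj g).toMonoidHom = _)).symm F₀) :=
    isPBlock_blockMap _ hF₀
  have hc := conj_stabilizer_block g hF₀c
  obtain ⟨D', hD', hW⟩ := exists_defect_le_normalizer hMp hPe (SubpairLE.le hle') hle' hT' hF'' hc
  have hdef' := isDefectGroup_blockMap (conjEq g (rfl : T.map (MulAut.conj g).toMonoidHom = _)).symm hD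
  have hcard : Nat.card D' = Nat.card D := by
    rw [Cfsg.Agent.S0908.result p M hMp _ hF'' _ hD', ← Cfsg.Agent.S0908.result p M hMp _ hF'' _ hdef',
      card_comap]
  rw [← hcard, ← card_subgroupOf_of_le (normalizerIn_le_stabilizer hMp hPe (SubpairLE.le hle') hle' hT')]
  exact Subgroup.card_le_of_le hW

/-- **S4679**. -/
theorem isFullyNormalized_iff (hMp : IsPModular p M) (hF : IsBlockFusionSystemOn p M B P e F)
    (hQP : Q ≤ P) (hf : IsPBlock M f) (hle : SubpairLE p M Q f P e) {T : Subgroup G}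
    (hT : ∀ y : G, y ∈ T ↔ y ∈ Subgroup.normalizer (Q : Set G) ∧
      StabilizesBlock (Subgroup.centralizer (Q : Set G)) f y) :
    F.IsFullyNormalized Q ↔ ∃ F' : Set (IrrCharacter T), IsPBlock M F' ∧
      (∀ t : T, blockCoeff F' t = subgroupBlockCoeff (Subgroup.centralizer (Q : Set G)) f (t : G)) ∧
      IsDefectGroup p M F' ((P ⊓ Subgroup.normalizer (Q : Set G)).subgroupOf T) := by
  classical
  have hPe := hF.1.1.1
  have hQp : IsPGroup p Q := hPe.1.to_le hQP
  have hPT := normalizerIn_le_stabilizer hMp hPe hQP hle hT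
  constructor
  · rintro ⟨-, hfn⟩
    obtain ⟨F₀, hF₀, hF₀c⟩ := exists_block_of_stabilizer hMp hQp hf hT
    refine ⟨F₀, hF₀, hF₀c, ?_⟩
    obtain ⟨D, hD, hW⟩ := exists_defect_le_normalizer hMp hPe hQP hle hT hF₀ hF₀c
    obtain ⟨x, hx, hxD⟩ := exists_conj_isDefectGroup_normalizer hMp hF.1 hQP hf hle hT
    have h1 := hfn _ (isConj_of_block hF hQP hle x hx)
    obtain ⟨F', hF', hF'c, hF'D⟩ := hxD _ (stabilizer_conj_spec x hT)
    have hc := conj_stabilizer_block x hF₀c
    have hFF : blockMap (conjEq x (rfl : T.map (MulAut.conj x).toMonoidHom = _)).symm F₀ = F' :=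
      eq_of_blockCoeff_eq (fun t => by rw [hc, hF'c])
    have hdef' := isDefectGroup_blockMap (conjEq x (rfl : T.map (MulAut.conj x).toMonoidHom = _)).symm hD
    rw [hFF] at hdef'
    have hcard := Cfsg.Agent.S0908.result p M hMp _ hF' _ hF'D
    rw [← Cfsg.Agent.S0908.result p M hMp _ hF' _ hdef', card_comap,
      card_subgroupOf_of_le (normalizerIn_le_stabilizer hMp hPe (SubpairLE.le hx) hx (stabilizer_conj_spec x hT))] at hcard
    have heq := Subgroup.eq_of_le_of_card_ge hW (by
      rw [card_subgroupOf_of_le hPT, ← hcard]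
      exact h1)
    rw [heq]
    exact hD
  · rintro ⟨F', hF', hF'c, hD⟩
    refine ⟨hQP, fun R hR => ?_⟩
    obtain ⟨g, rfl, hg⟩ := exists_of_isConj hMp hF hle hR
    have h1 := card_normalizerIn_le hMp hPe hT hF' hF'c hD g hg
    rw [card_subgroupOf_of_le hPT] at h1
    exact h1

end Fusion

end Cfsg.Agent.Lib.Blocks.Pairs
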