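/-
Brauer pairs: idempotents of subgroup blocks in the group algebra of `G`, conjugation.
-/
import Mathlib
import Cfsg.Agent.Lib.Blocks.Pairs

set_option autoImplicit false

namespace Cfsg.Agent.Lib.Blocks.Pairs

open Cfsg Cfsg.Agent.Lib.Blocks.Local Cfsg.Agent.Lib.Blocks.Central Cfsg.Agent.Lib.Blocks.Osima
open Cfsg.Agent.Lib.Blocks.Covering Cfsg.Agent.Lib.Blocks.BrauerMap Cfsg.Agent.Lib.Blocks.Transport
open Cfsg.Agent.Lib.Blocks.BlockHom

universe u

section E

variable {G : Type u} [Group G] {M : Ideal AlgInt}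

omit [Group G] in
lemma subgroupBlockCoeff_of_mem [Group G] {K : Subgroup G} (f : Set (IrrCharacter K)) {g : G} (h : g ∈ K) :
    subgroupBlockCoeff K f g = blockCoeff f ⟨g, h⟩ := by
  classical
  unfold subgroupBlockCoeff
  simp [h]

lemma subgroupBlockCoeff_coe {K : Subgroup G} (f : Set (IrrCharacter K)) (k : K) :
    subgroupBlockCoeff K f (k : G) = blockCoeff f k :=
  subgroupBlockCoeff_of_mem f k.2

lemma subgroupBlockCoeff_of_notMem {K : Subgroup G} (f : Set (IrrCharacter K)) {g : G} (h : g ∉ K) :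
    subgroupBlockCoeff K f g = 0 := by
  classical
  unfold subgroupBlockCoeff
  simp [h]

variable [Fintype G]

/-- The idempotent of a set of irreducible characters of the subgroup `K`, in the algebra of `G`. -/
noncomputable def EE (K : Subgroup G) (f : Set (IrrCharacter K)) : MonoidAlgebra ℂ G :=
  ofFun (subgroupBlockCoeff K f)

lemma coeff_EE (K : Subgroup G) (f : Set (IrrCharacter K)) (g : G) :
    (EE K f).coeff g = subgroupBlockCoeff K f g := coeff_ofFun _ _

lemma coeff_EE_fun (K : Subgroup G) (f : Set (IrrCharacter K)) :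
    ((EE K f).coeff : G → ℂ) = subgroupBlockCoeff K f := funext (coeff_EE K f)

lemma EE_eq_push (K : Subgroup G) [Fintype K] (f : Set (IrrCharacter K)) :
    EE K f = push K (blockElt f) := by
  apply ext_coeff
  intro g
  rw [coeff_EE]
  by_cases hg : g ∈ K
  · have := coeff_push_coe K (blockElt f) ⟨g, hg⟩
    rw [this, coeff_blockElt, subgroupBlockCoeff_of_mem f hg]
  · rw [coeff_push_of_notMem K _ hg, subgroupBlockCoeff_of_notMem f hg]

lemma res_EE (K : Subgroup G) [Fintype K] (f : Set (IrrCharacter K)) :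
    res K (EE K f) = blockElt f := by
  rw [EE_eq_push, res_push]

lemma EE_mul (K : Subgroup G) (f f' : Set (IrrCharacter K)) :
    EE K f * EE K f' = EE K (f ∩ f') := by
  classical
  rw [EE_eq_push, EE_eq_push, EE_eq_push, ← push_mul, blockElt_mul]

lemma EE_mul_self (K : Subgroup G) (f : Set (IrrCharacter K)) : EE K f * EE K f = EE K f := by
  rw [EE_mul, Set.inter_self]

lemma EE_empty (K : Subgroup G) : EE K (∅ : Set (IrrCharacter K)) = 0 := by
  apply ext_coeff
  intro g
  rw [coeff_EE]
  by_cases hg : g ∈ K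
  · rw [subgroupBlockCoeff_of_mem _ hg]
    simp [blockCoeff]
  · rw [subgroupBlockCoeff_of_notMem _ hg]
    simp

lemma locCoeff_EE [M.IsPrime] {K : Subgroup G} {f : Set (IrrCharacter K)} (hf : IsPBlock M f) :
    LocCoeff M (EE K f) := by
  classical
  intro g
  rw [coeff_EE]
  by_cases hg : g ∈ K
  · rw [subgroupBlockCoeff_of_mem _ hg]
    exact memLocalRing_blockCoeff hf _
  · rw [subgroupBlockCoeff_of_notMem _ hg]
    exact memLocalRing_zero

lemma invBy_EE_self (K : Subgroup G) (f : Set (IrrCharacter K)) : InvBy K (EE K f) := by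
  classical
  intro x u hu
  rw [coeff_EE, coeff_EE]
  by_cases hx : x ∈ K
  · have h1 : u * x * u⁻¹ ∈ K := K.mul_mem (K.mul_mem hu hx) (K.inv_mem hu)
    rw [subgroupBlockCoeff_of_mem _ h1, subgroupBlockCoeff_of_mem _ hx]
    have := isClassFunction_blockCoeff f ⟨x, hx⟩ ⟨u, hu⟩
    rw [← this]
    rfl
  · have h1 : u * x * u⁻¹ ∉ K := by
      intro h
      apply hx
      have := K.mul_mem (K.mul_mem (K.inv_mem hu) h) hu
      simpa [mul_assoc] using this
    rw [subgroupBlockCoeff_of_notMem _ h1, subgroupBlockCoeff_of_notMem _ hx]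

lemma brauerOmega_subgroupBlockCoeff {P : Subgroup G} [Fintype (Subgroup.centralizer (P : Set G))]
    (K : Subgroup G) (f : Set (IrrCharacter K)) (ξ : Subgroup.centralizer (P : Set G) → ℂ) :
    brauerOmega P (subgroupBlockCoeff K f) ξ = bv P ξ (EE K f) := by
  rw [← brauerOmega_eq_bv, coeff_EE_fun]

lemma brauerOmega_blockCoeff {P : Subgroup G} [Fintype (Subgroup.centralizer (P : Set G))]
    (B : Set (IrrCharacter G)) (ξ : Subgroup.centralizer (P : Set G) → ℂ) :
    brauerOmega P (blockCoeff B) ξ = bv P ξ (blockElt B) := by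
  rw [← brauerOmega_eq_bv]
  congr 1
  funext g
  rw [coeff_blockElt]

/-- The block element of a block is in the domain of all Brauer maps. -/
lemma brDom_blockElt [M.IsPrime] {P : Subgroup G} {B : Set (IrrCharacter G)} (hB : IsPBlock M B) :
    BrDom M P (blockElt B) := by
  have h := blockElt_mem_localCenter hB
  exact ⟨h.2, fun x u _ => h.1 x u, fun x u _ => h.1 x u⟩

/-- The type of blocks. -/
abbrev Blk (M : Ideal AlgInt) (G : Type u) [Group G] := {f : Set (IrrCharacter G) // IsPBlock M f}

noncomputable instance {H : Type*} [Group H] [Finite H] : Fintype (Blk M H) := Fintype.ofFinite _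

/-- Blocks partition the irreducible characters: the sum of block elements is `1`. -/
theorem sum_blockElt_eq_one [M.IsPrime] :
    ∑ f : Blk M G, blockElt f.1 = (1 : MonoidAlgebra ℂ G) := by
  classical
  refine eq_of_omega_eq' ?_ isClassFunction_one fun χ => ?_
  · refine fun x y => ?_
    simp only [MonoidAlgebra.coeff_sum, Finsupp.finsetSum_apply, coeff_blockElt]
    refine Finset.sum_congr rfl fun f _ => ?_
    exact isClassFunction_blockCoeff _ _ _
  · rw [omega_sum, omega_one χ.2]
    have hχ : IsPBlock M (blockOf M (χ : G → ℂ)) := ⟨χ, rfl⟩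
    rw [Finset.sum_eq_single (⟨_, hχ⟩ : Blk M G)]
    · exact omega_blockElt_of_mem (mem_blockOf_self χ)
    · rintro ⟨f, ψ, rfl⟩ _ hne
      apply omega_blockElt_of_notMem
      intro h
      apply hne
      apply Subtype.ext
      show blockOf M (ψ : G → ℂ) = blockOf M (χ : G → ℂ)
      exact (blockOf_eq_of_mem h).symm
    · simp

/-- Pushing forward: the idempotents of the blocks of `K` sum to `1`. -/
theorem sum_EE_eq_one [M.IsPrime] (K : Subgroup G) :
    ∑ f : Blk M K, EE K f.1 = (1 : MonoidAlgebra ℂ G) := by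
  classical
  letI : Fintype K := Fintype.ofFinite K
  have h1 : ∑ f : Blk M K, EE K f.1 = push K (∑ f : Blk M K, blockElt f.1) := by
    unfold push
    rw [map_sum]
    exact Finset.sum_congr rfl fun f _ => EE_eq_push K f.1
  rw [h1, sum_blockElt_eq_one]
  unfold push
  rw [map_one]

/-- Two different blocks are disjoint. -/
lemma disjoint_of_isPBlock [M.IsPrime] {H : Type*} [Group H] [Finite H] {f f' : Set (IrrCharacter H)}
    (hf : IsPBlock M f) (hf' : IsPBlock M f') (hne : f ≠ f') : f ∩ f' = ∅ := by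
  classical
  letI := Fintype.ofFinite H
  obtain ⟨χ, rfl⟩ := hf
  obtain ⟨χ', rfl⟩ := hf'
  ext θ
  simp only [Set.mem_inter_iff, Set.mem_empty_iff_false, iff_false, not_and]
  intro h h'
  apply hne
  rw [← blockOf_eq_of_mem h, ← blockOf_eq_of_mem h']

end E

section Conj

variable {G : Type u} [Group G]

/-- Conjugation by `x` as an isomorphism between subgroups. -/
noncomputable def conjEq (x : G) {K K' : Subgroup G} (h : K.map (MulAut.conj x).toMonoidHom = K') :
    K ≃* K' :=
  ((MulAut.conj x).subgroupMap K).trans (MulEquiv.subgroupCongr h)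

@[simp] lemma coe_conjEq (x : G) {K K' : Subgroup G} (h : K.map (MulAut.conj x).toMonoidHom = K')
    (k : K) : ((conjEq x h k : K') : G) = x * k * x⁻¹ := rfl

lemma conjEq_symm_spec (x : G) {K K' : Subgroup G} (h : K.map (MulAut.conj x).toMonoidHom = K')
    (k : K') : x * ((conjEq x h).symm k : G) * x⁻¹ = k := by
  have := congrArg Subtype.val ((conjEq x h).apply_symm_apply k)
  rwa [coe_conjEq] at this

@[simp] lemma coe_conjEq_symm (x : G) {K K' : Subgroup G} (h : K.map (MulAut.conj x).toMonoidHom = K')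
    (k : K') : ((conjEq x h).symm k : G) = x⁻¹ * k * x := by
  have := conjEq_symm_spec x h k
  rw [← this]
  group

lemma mem_of_conj_mem (x : G) {K K' : Subgroup G} (h : K.map (MulAut.conj x).toMonoidHom = K') {g : G} :
    x * g * x⁻¹ ∈ K' ↔ g ∈ K := by
  subst h
  constructor
  · rintro ⟨k, hk, he⟩
    have : k = g := by
      have h1 : x * k * x⁻¹ = x * g * x⁻¹ := he
      simpa using h1
    rwa [← this]
  · intro hg
    exact ⟨g, hg, rfl⟩

lemma map_conj_centralizer (Q : Subgroup G) (x : G) :
    (Subgroup.centralizer (Q : Set G)).map (MulAut.conj x).toMonoidHom =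
      Subgroup.centralizer ((Q.map (MulAut.conj x).toMonoidHom : Subgroup G) : Set G) := by
  ext g
  constructor
  · rintro ⟨c, hc, rfl⟩
    rw [Subgroup.mem_centralizer_iff]
    rintro _ ⟨q, hq, rfl⟩
    have h1 := Subgroup.mem_centralizer_iff.mp hc q hq
    show (x * q * x⁻¹) * (x * c * x⁻¹) = (x * c * x⁻¹) * (x * q * x⁻¹)
    calc (x * q * x⁻¹) * (x * c * x⁻¹) = x * (q * c) * x⁻¹ := by group
      _ = x * (c * q) * x⁻¹ := by rw [h1]
      _ = _ := by group
  · intro hg
    refine ⟨x⁻¹ * g * x, ?_, ?_⟩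
    · rw [SetLike.mem_coe, Subgroup.mem_centralizer_iff]
      intro q hq
      have h1 := Subgroup.mem_centralizer_iff.mp hg (x * q * x⁻¹) ⟨q, hq, rfl⟩
      have h2 : x * (q * (x⁻¹ * g * x)) * x⁻¹ = x * ((x⁻¹ * g * x) * q) * x⁻¹ := by
        calc x * (q * (x⁻¹ * g * x)) * x⁻¹ = (x * q * x⁻¹) * g := by group
          _ = g * (x * q * x⁻¹) := h1
          _ = _ := by group
      simpa using h2
    · show x * (x⁻¹ * g * x) * x⁻¹ = g
      group

lemma map_conj_of_mem_normalizer {x : G} {K : Subgroup G} (hx : x ∈ Subgroup.normalizer (K : Set G)) :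
    K.map (MulAut.conj x).toMonoidHom = K := by
  ext g
  constructor
  · rintro ⟨k, hk, rfl⟩
    exact (Subgroup.mem_normalizer_iff.mp hx k).1 hk
  · intro hg
    refine ⟨x⁻¹ * g * x, ?_, ?_⟩
    · have := (Subgroup.mem_normalizer_iff.mp hx (x⁻¹ * g * x)).2
      apply this
      have h : x * (x⁻¹ * g * x) * x⁻¹ = g := by group
      rwa [h]
    · show x * (x⁻¹ * g * x) * x⁻¹ = g
      group

/-- The conjugate of a set of irreducible characters of `K`. -/
noncomputable def conjB (x : G) {K K' : Subgroup G} (h : K.map (MulAut.conj x).toMonoidHom = K')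
    (f : Set (IrrCharacter K)) : Set (IrrCharacter K') :=
  blockMap (conjEq x h).symm f

lemma mem_conjB {x : G} {K K' : Subgroup G} {h : K.map (MulAut.conj x).toMonoidHom = K'}
    {f : Set (IrrCharacter K)} {ξ : IrrCharacter K'} :
    ξ ∈ conjB x h f ↔ irrComap (conjEq x h) ξ ∈ f := by
  unfold conjB
  rw [mem_blockMap_iff]
  rfl

lemma conjBlock_eq_conjB (Q : Subgroup G) (x : G)
    (f : Set (IrrCharacter (Subgroup.centralizer (Q : Set G)))) :
    conjBlock Q x f = conjB x (map_conj_centralizer Q x) f := by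
  ext ξ'
  rw [mem_conjB]
  constructor
  · rintro ⟨ξ, hξ, h⟩
    convert hξ using 1
    apply Subtype.ext
    funext c
    exact h c _ rfl
  · intro h
    refine ⟨_, h, fun c c' hc => ?_⟩
    have h2 : c' = conjEq x (map_conj_centralizer Q x) c := Subtype.ext (by rw [hc]; rfl)
    rw [h2]
    rfl

lemma isPBlock_conjB {M : Ideal AlgInt} {x : G} {K K' : Subgroup G} {h : K.map (MulAut.conj x).toMonoidHom = K'}
    {f : Set (IrrCharacter K)} (hf : IsPBlock M f) : IsPBlock M (conjB x h f) :=
  isPBlock_blockMap _ hf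

lemma blockCoeff_conjB [Finite G] {x : G} {K K' : Subgroup G} (h : K.map (MulAut.conj x).toMonoidHom = K')
    (f : Set (IrrCharacter K)) (k : K') :
    blockCoeff (conjB x h f) k = blockCoeff f ((conjEq x h).symm k) :=
  blockCoeff_blockMap _ f k

lemma blockCoeff_conjB' [Finite G] {x : G} {K K' : Subgroup G} (h : K.map (MulAut.conj x).toMonoidHom = K')
    (f : Set (IrrCharacter K)) (k : K) :
    blockCoeff (conjB x h f) (conjEq x h k) = blockCoeff f k := by
  rw [blockCoeff_conjB, MulEquiv.symm_apply_apply]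

lemma subgroupBlockCoeff_conjB [Finite G] {x : G} {K K' : Subgroup G} (h : K.map (MulAut.conj x).toMonoidHom = K')
    (f : Set (IrrCharacter K)) (g : G) :
    subgroupBlockCoeff K' (conjB x h f) (x * g * x⁻¹) = subgroupBlockCoeff K f g := by
  by_cases hg : g ∈ K
  · rw [subgroupBlockCoeff_of_mem _ hg, subgroupBlockCoeff_of_mem _ ((mem_of_conj_mem x h).2 hg)]
    exact blockCoeff_conjB' h f ⟨g, hg⟩
  · rw [subgroupBlockCoeff_of_notMem _ hg,
      subgroupBlockCoeff_of_notMem _ (fun h' => hg ((mem_of_conj_mem x h).1 h'))]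

lemma conjB_subset_iff {x : G} {K K' : Subgroup G} {h : K.map (MulAut.conj x).toMonoidHom = K'}
    {f : Set (IrrCharacter K)} {f' : Set (IrrCharacter K')} :
    conjB x h f ⊆ f' ↔ ∀ χ ∈ f, irrComap (conjEq x h).symm χ ∈ f' := by
  constructor
  · intro hs χ hχ
    apply hs
    exact irrComap_mem_blockMap _ hχ
  · rintro hs _ ⟨χ, hχ, rfl⟩
    exact hs χ hχ

lemma ncard_conjB {x : G} {K K' : Subgroup G} (h : K.map (MulAut.conj x).toMonoidHom = K')
    (f : Set (IrrCharacter K)) : (conjB x h f).ncard = f.ncard :=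
  Set.ncard_image_of_injective _ (irrComap_injective _)

/-- Stabilizing a block means that the conjugate block is the block. -/
theorem stabilizesBlock_iff [Finite G] {K : Subgroup G} {f : Set (IrrCharacter K)} {x : G} :
    StabilizesBlock K f x ↔ ∃ hx : x ∈ Subgroup.normalizer (K : Set G),
      conjB x (map_conj_of_mem_normalizer hx) f = f := by
  constructor
  · rintro ⟨hx, hf⟩
    refine ⟨hx, ?_⟩
    have hs : conjB x (map_conj_of_mem_normalizer hx) f ⊆ f := by
      rw [conjB_subset_iff]
      intro χ hχ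
      obtain ⟨χ', hχ', hc⟩ := hf χ hχ
      convert hχ' using 1
      apply Subtype.ext
      funext k
      show (χ : K → ℂ) ((conjEq x (map_conj_of_mem_normalizer hx)).symm k) = (χ' : K → ℂ) k
      rw [← hc ((conjEq x (map_conj_of_mem_normalizer hx)).symm k) k]
      exact (conjEq_symm_spec _ _ _).symm
    exact Set.eq_of_subset_of_ncard_le hs (ncard_conjB _ _).ge (Set.toFinite _)
  · rintro ⟨hx, hf⟩
    refine ⟨hx, fun χ hχ => ?_⟩
    refine ⟨irrComap (conjEq x (map_conj_of_mem_normalizer hx)).symm χ, ?_, ?_⟩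
    · rw [← hf]
      exact irrComap_mem_blockMap _ hχ
    · intro k k' hk
      show (χ : K → ℂ) ((conjEq x (map_conj_of_mem_normalizer hx)).symm k') = (χ : K → ℂ) k
      have h2 : (conjEq x (map_conj_of_mem_normalizer hx)).symm k' = k := by
        rw [MulEquiv.symm_apply_eq]
        apply Subtype.ext
        rw [hk]
        rfl
      rw [h2]

/-- Inner conjugation fixes every set of irreducible characters. -/
lemma conjB_of_mem [Finite G] {K : Subgroup G} {x : G} (hx : x ∈ K)
    (h : K.map (MulAut.conj x).toMonoidHom = K) (f : Set (IrrCharacter K)) : conjB x h f = f := by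
  letI : Fintype K := Fintype.ofFinite K
  ext ξ
  rw [mem_conjB]
  have : irrComap (conjEq x h) ξ = ξ := by
    apply Subtype.ext
    funext k
    show (ξ : K → ℂ) (conjEq x h k) = (ξ : K → ℂ) k
    have h1 := Cfsg.Agent.Lib.Blocks.Central.isClassFunction_of_irr ξ.2 k ⟨x, hx⟩
    rw [← h1]
    congr 1
  rw [this]

lemma stabilizesBlock_of_mem [Finite G] {K : Subgroup G} {x : G} (hx : x ∈ K) (f : Set (IrrCharacter K)) :
    StabilizesBlock K f x := by
  rw [stabilizesBlock_iff]
  have hxn : x ∈ Subgroup.normalizer (K : Set G) := Subgroup.le_normalizer hx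
  exact ⟨hxn, conjB_of_mem hx _ f⟩

variable [Fintype G]

/-- The conjugate of the idempotent. -/
lemma coeff_EE_conjB {x : G} {K K' : Subgroup G} (h : K.map (MulAut.conj x).toMonoidHom = K')
    (f : Set (IrrCharacter K)) (g : G) :
    (EE K' (conjB x h f)).coeff (x * g * x⁻¹) = (EE K f).coeff g := by
  rw [coeff_EE, coeff_EE, subgroupBlockCoeff_conjB]

/-- A stable block has invariant idempotent. -/
lemma invBy_EE_of_stab {S K : Subgroup G} {f : Set (IrrCharacter K)}
    (h : ∀ u ∈ S, StabilizesBlock K f u) : InvBy S (EE K f) := by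
  intro x u hu
  obtain ⟨hx, hf⟩ := stabilizesBlock_iff.mp (h u hu)
  have := coeff_EE_conjB (map_conj_of_mem_normalizer hx) f x
  rwa [hf] at this

end Conj

section Subpair

variable {G : Type u} [Group G] [Fintype G] {M : Ideal AlgInt} [hM : M.IsPrime]

lemma normalizer_le_normalizer_centralizer (R : Subgroup G) :
    Subgroup.normalizer (R : Set G) ≤ Subgroup.normalizer
      ((Subgroup.centralizer (R : Set G) : Subgroup G) : Set G) := by
  intro u hu
  rw [Subgroup.mem_normalizer_iff]
  intro x
  exact (conj_mem_centralizer_iff' hu).symm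

/-- The truncation to `K`. -/
lemma invBy_push_res {K T : Subgroup G} [Fintype K] (hKN : T ≤ Subgroup.normalizer (K : Set G))
    {a : MonoidAlgebra ℂ G} (ha : InvBy T a) : InvBy T (push K (res K a)) := by
  intro x u hu
  have hux : u * x * u⁻¹ ∈ K ↔ x ∈ K := (Subgroup.mem_normalizer_iff.mp (hKN hu) x).symm
  by_cases hx : x ∈ K
  · have h1 := coeff_push_coe K (res K a) ⟨x, hx⟩
    have h2 := coeff_push_coe K (res K a) ⟨u * x * u⁻¹, hux.2 hx⟩
    rw [coeff_res] at h1 h2
    simp only at h1 h2
    rw [h1, h2]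
    exact ha _ _ hu
  · rw [coeff_push_of_notMem K _ hx, coeff_push_of_notMem K _ (fun h => hx (hux.1 h))]

lemma coeff_push_res_of_mem {K : Subgroup G} [Fintype K] (a : MonoidAlgebra ℂ G) {x : G} (hx : x ∈ K) :
    (push K (res K a)).coeff x = a.coeff x := by
  have h1 := coeff_push_coe K (res K a) ⟨x, hx⟩
  rw [coeff_res] at h1
  exact h1

lemma locCoeff_push_res {K : Subgroup G} [Fintype K] {a : MonoidAlgebra ℂ G} (ha : LocCoeff M a) :
    LocCoeff M (push K (res K a)) := by
  intro x
  by_cases hx : x ∈ K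
  · rw [coeff_push_res_of_mem a hx]
    exact ha x
  · rw [coeff_push_of_notMem K _ hx]
    exact memLocalRing_zero

variable {p : ℕ} [Fact p.Prime]

/-- **Transfer along a normal subpair**: if all central characters of the block `h` of `C_G(R)` kill
the Brauer map at `R` of `a`, then so does a central character at `S` occurring in the image of the
idempotent of `h`. -/
theorem memLocalIdeal_bv_of_subpair (hMp : IsPModular p M) {R S : Subgroup G} (hS : IsPGroup p S)
    [Fintype (Subgroup.centralizer (R : Set G))] [Fintype (Subgroup.centralizer (S : Set G))]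
    (hRS : R ≤ S) (hSN : S ≤ Subgroup.normalizer (R : Set G))
    {h : Set (IrrCharacter (Subgroup.centralizer (R : Set G)))} (hh : IsPBlock M h)
    (hst : ∀ u ∈ S, StabilizesBlock (Subgroup.centralizer (R : Set G)) h u)
    {ξ : Subgroup.centralizer (S : Set G) → ℂ} (hξ : IsIrrCharacter _ ξ)
    (hval : MemLocalIdeal M (bv S ξ (EE (Subgroup.centralizer (R : Set G)) h) - 1))
    {a : MonoidAlgebra ℂ G} (ha : BrDom M S a) (haC : InvBy (Subgroup.centralizer (R : Set G)) a)
    (ha0 : ∀ η ∈ h, MemLocalIdeal M (bv R (η : _ → ℂ) a)) : MemLocalIdeal M (bv S ξ a) := by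
  classical
  have hCS : Subgroup.centralizer (S : Set G) ≤ Subgroup.centralizer (R : Set G) :=
    Subgroup.centralizer_le hRS
  have hKN : S ≤ Subgroup.normalizer ((Subgroup.centralizer (R : Set G)) : Set G) :=
    hSN.trans (normalizer_le_normalizer_centralizer R)
  have hCKN : Subgroup.centralizer (S : Set G) ≤ Subgroup.normalizer ((Subgroup.centralizer (R : Set G)) : Set G) :=
    hCS.trans Subgroup.le_normalizer
  -- the two factors
  have hE : BrDom M S (EE (Subgroup.centralizer (R : Set G)) h) :=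
    ⟨locCoeff_EE hh, invBy_EE_of_stab hst, (invBy_EE_self (Subgroup.centralizer (R : Set G)) h).mono hCS⟩
  have hb : BrDom M S (push (Subgroup.centralizer (R : Set G)) (res (Subgroup.centralizer (R : Set G)) a)) :=
    ⟨locCoeff_push_res ha.loc, invBy_push_res hKN ha.invP, invBy_push_res hCKN ha.invC⟩
  -- the element in the center of `ℂ[(Subgroup.centralizer (R : Set G))]`
  have hRdom : BrDom M R a := ⟨ha.loc, ha.invP.mono hRS, haC⟩
  have hres : res (Subgroup.centralizer (R : Set G)) a ∈ localCenter (Subgroup.centralizer (R : Set G)) M := res_mem_localCenter hRdom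
  have hbe : blockElt h ∈ localCenter (Subgroup.centralizer (R : Set G)) M := blockElt_mem_localCenter hh
  have hy : blockElt h * res (Subgroup.centralizer (R : Set G)) a ∈ localCenter (Subgroup.centralizer (R : Set G)) M := (localCenter (Subgroup.centralizer (R : Set G)) M).mul_mem hbe hres
  have h0 : ∀ η : IrrCharacter (Subgroup.centralizer (R : Set G)), MemLocalIdeal M (omega (η : (Subgroup.centralizer (R : Set G)) → ℂ) (blockElt h * res (Subgroup.centralizer (R : Set G)) a)) := by
    intro η
    rw [omega_mul η.2 hbe.1]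
    by_cases hη : η ∈ h
    · exact memLocalIdeal_mul_left (memLocalRing_omega η.2 hbe) (ha0 η hη)
    · rw [omega_blockElt_of_notMem hη, zero_mul]
      exact memLocalIdeal_zero
  obtain ⟨t, -, ht⟩ := Cfsg.Agent.Lib.Blocks.SecondMain.exists_pow_coeffIn_of_omega hy h0
  rw [Cfsg.Agent.Lib.Blocks.Twisted.coeffIn_localIdeal_iff] at ht
  have hz : EE (Subgroup.centralizer (R : Set G)) h * push (Subgroup.centralizer (R : Set G)) (res (Subgroup.centralizer (R : Set G)) a) = push (Subgroup.centralizer (R : Set G)) (blockElt h * res (Subgroup.centralizer (R : Set G)) a) := by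
    rw [push_mul, EE_eq_push]
  have hzdom := hE.mul hb
  have hz0 : MemLocalIdeal M (bv S ξ (EE (Subgroup.centralizer (R : Set G)) h * push (Subgroup.centralizer (R : Set G)) (res (Subgroup.centralizer (R : Set G)) a))) := by
    apply memLocalIdeal_bv_of_pow hMp hS hξ hzdom (t := t)
    intro x hx
    rw [hz]
    have hxK : x ∈ (Subgroup.centralizer (R : Set G)) := hCS hx
    have : (push (Subgroup.centralizer (R : Set G)) (blockElt h * res (Subgroup.centralizer (R : Set G)) a)) ^ t = push (Subgroup.centralizer (R : Set G)) ((blockElt h * res (Subgroup.centralizer (R : Set G)) a) ^ t) := by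
      unfold push
      rw [map_pow]
    rw [this]
    have h1 := coeff_push_coe (Subgroup.centralizer (R : Set G)) ((blockElt h * res (Subgroup.centralizer (R : Set G)) a) ^ t) ⟨x, hxK⟩
    simp only at h1
    rw [h1]
    exact ht _
  have h1 := bv_mul hMp hS hξ hE hb
  have h2 : bv S ξ (push (Subgroup.centralizer (R : Set G)) (res (Subgroup.centralizer (R : Set G)) a)) = bv S ξ a := by
    apply bv_congr
    intro x hx
    exact coeff_push_res_of_mem a (hCS hx)
  rw [h2] at h1
  have h3 := memLocalIdeal_sub hz0 h1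
  have hl : MemLocalRing M (bv S ξ a) := memLocalRing_bv hξ ha
  have h4 := memLocalIdeal_mul_right hval hl
  have h5 := memLocalIdeal_sub h3 h4
  convert h5 using 1
  ring

/-- Transfer, with a constant. -/
theorem memLocalIdeal_bv_sub_of_subpair (hMp : IsPModular p M) {R S : Subgroup G} (hS : IsPGroup p S)
    [Fintype (Subgroup.centralizer (R : Set G))] [Fintype (Subgroup.centralizer (S : Set G))]
    (hRS : R ≤ S) (hSN : S ≤ Subgroup.normalizer (R : Set G))
    {h : Set (IrrCharacter (Subgroup.centralizer (R : Set G)))} (hh : IsPBlock M h)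
    (hst : ∀ u ∈ S, StabilizesBlock (Subgroup.centralizer (R : Set G)) h u)
    {ξ : Subgroup.centralizer (S : Set G) → ℂ} (hξ : IsIrrCharacter _ ξ)
    (hval : MemLocalIdeal M (bv S ξ (EE (Subgroup.centralizer (R : Set G)) h) - 1))
    {a : MonoidAlgebra ℂ G} (ha : BrDom M S a) (haC : InvBy (Subgroup.centralizer (R : Set G)) a)
    {c : ℂ} (hc : MemLocalRing M c)
    (ha0 : ∀ η ∈ h, MemLocalIdeal M (bv R (η : _ → ℂ) a - c)) : MemLocalIdeal M (bv S ξ a - c) := by
  have hc1 : BrDom M S (c • (1 : MonoidAlgebra ℂ G)) := brDom_one.smul hc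
  have h1 := memLocalIdeal_bv_of_subpair hMp hS hRS hSN hh hst hξ hval (a := a - c • 1) (ha.sub hc1)
    (haC.sub ((invBy_one _).smul c)) (fun η hη => ?_)
  · rwa [bv_sub, bv_smul, bv_one hξ, mul_one] at h1
  · rw [bv_sub, bv_smul, bv_one η.2, mul_one]
    exact ha0 η hη

end Subpair

end Cfsg.Agent.Lib.Blocks.Pairs
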