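/-
Brauer pairs: blocks of a subgroup `X` and of a normal subgroup `K` of `p`-power index.
-/
import Mathlib
import Cfsg.Agent.Lib.Blocks.Pairs21

set_option autoImplicit false

namespace Cfsg.Agent.Lib.Blocks.Pairs

open Cfsg Cfsg.Agent.Lib.Blocks.Local Cfsg.Agent.Lib.Blocks.Central Cfsg.Agent.Lib.Blocks.Osima
open Cfsg.Agent.Lib.Blocks.Covering Cfsg.Agent.Lib.Blocks.BrauerMap Cfsg.Agent.Lib.Blocks.Transport
open Cfsg.Agent.Lib.Blocks.BlockHom Cfsg.Agent.Lib.Blocks.Twisted Cfsg.Agent.Lib.Blocks.Dominate

universe u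

section PIndex

variable {G : Type u} [Group G] [Fintype G] {M : Ideal AlgInt} [hM : M.IsPrime] {p : ℕ} [Fact p.Prime]

/-- A value that is not in the ideal: a Brauer pair of the block. -/
lemma isBrauerPairOf_of_not_mem (hMp : IsPModular p M) {R : Subgroup G} [Fintype (Subgroup.centralizer (R : Set G))] (hR : IsPGroup p R)
    {F : Set (IrrCharacter (Subgroup.centralizer (R : Set G)))} (hF : IsPBlock M F)
    {B : Set (IrrCharacter G)} (hB : IsPBlock M B) {ψ : IrrCharacter (Subgroup.centralizer (R : Set G))}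
    (hψ : ψ ∈ F) (h : ¬ MemLocalIdeal M (bv R (ψ : _ → ℂ) (blockElt B))) : IsBrauerPairOf p M B R F := by
  classical
  rw [isBrauerPairOf_iff]
  have h2 := (bv_idem hMp hR ψ.2 (brDom_blockElt hB) (blockElt_mul_self B)).resolve_left h
  exact ⟨⟨hR, hF⟩, hB, fun ξ hξ => memLocalIdeal_bv_sub_one_of_mem hF hψ hξ (brDom_blockElt (P := R) hB).loc
    (brDom_blockElt (P := R) hB).invC h2⟩

/-- The block of `X` attached to the `X`-orbit of a block of `K`, `K` of `p`-power index in `X`. -/
theorem exists_block_orbitU_gen {K X : Subgroup G} (hCX : K ≤ X)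
    (hXK : X ≤ Subgroup.normalizer (K : Set G))
    (hsupp' : ∀ F : Set (IrrCharacter X), IsPBlock M F → ∀ t : X, (t : G) ∉ K → blockCoeff F t = 0)
    {e : Set (IrrCharacter K)} (he : IsPBlock M e) :
    ∃ F : Set (IrrCharacter X), IsPBlock M F ∧
      ∀ t : X, blockCoeff F t = subgroupBlockCoeff K
        (orbitU X K hXK e) t := by
  classical
  obtain ⟨θ₀, hθ₀⟩ := isPBlock_nonempty he
  set U := orbitU X K hXK e with hU
  have hUu : ∀ θ ∈ U, blockOf M (θ : _ → ℂ) ⊆ U := fun θ hθ => orbitU_union he hθ
  have hyloc : LocCoeff M (EE K U) := locCoeff_EE_of_union hUu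
  have hyX : InvBy X (EE K U) :=
    invBy_EE_of_stab fun u hu => stabilizesBlock_orbitU X _ hXK e hu
  have hsupp : ∀ x, x ∉ X → (EE K U).coeff x = 0 := by
    intro x hx
    rw [coeff_EE, subgroupBlockCoeff_of_notMem]
    exact fun h => hx (hCX h)
  have hpush : push X (res X (EE K U)) =
      EE K U := push_res X hsupp
  -- the element of the local center of `X`
  have hyXc : res X (EE K U) ∈ localCenter X M := by
    refine ⟨fun x y => ?_, fun x => ?_⟩
    · rw [coeff_res, coeff_res]
      have : ((y * x * y⁻¹ : X) : G) = (y : G) * x * (y : G)⁻¹ := by simp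
      rw [this]
      exact hyX _ _ y.2
    · rw [coeff_res]
      exact hyloc _
  have hidem : res X (EE K U) * res X (EE K U) =
      res X (EE K U) := by
    have h1 : push X (res X (EE K U) * res X (EE K U)) =
        push X (res X (EE K U)) := by
      rw [push_mul, hpush, EE_mul_self]
    have h2 := congrArg (res X) h1
    rwa [res_push, res_push] at h2
  have hyeq := eq_blockElt_idemSupp hyXc.1 hidem
  set A := idemSupp (res X (EE K U)) with hA
  -- `A` is not empty
  have hθU : θ₀ ∈ U := subset_orbitU _ _ _ _ hθ₀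
  have hne : ∃ χ₀, χ₀ ∈ A := by
    by_contra hcon
    push Not at hcon
    have h1 : A = ∅ := Set.eq_empty_of_forall_notMem hcon
    rw [h1] at hyeq
    have h2 : EE K U = 0 := by
      rw [← hpush, hyeq]
      apply ext_coeff
      intro g
      by_cases hg : g ∈ X
      · have := coeff_push_coe X (blockElt (∅ : Set (IrrCharacter X))) ⟨g, hg⟩
        simp only at this
        rw [this, coeff_blockElt]
        simp [blockCoeff]
      · rw [coeff_push_of_notMem X _ hg]
        simp
    have h3 := res_EE K U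
    rw [h2] at h3
    have h4 := omega_blockElt_of_mem hθU
    rw [← h3] at h4
    have h5 : res K (0 : MonoidAlgebra ℂ G) = 0 := by
      apply ext_coeff
      intro g
      simp
    rw [h5, omega_zero] at h4
    exact zero_ne_one h4
  obtain ⟨χ₀, hχ₀⟩ := hne
  -- the block
  have hFA : blockOf M (χ₀ : X → ℂ) ⊆ A := idemSupp_union hyXc hidem hχ₀
  have hFb : IsPBlock M (blockOf M (χ₀ : X → ℂ)) := ⟨χ₀, rfl⟩
  refine ⟨_, hFb, ?_⟩
  set F := blockOf M (χ₀ : X → ℂ) with hF
  have heF := blockElt_mem_localCenter hFb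
  -- the support of `z`
  have hzK : ∀ x, x ∉ K → (push X (blockElt F)).coeff x = 0 := by
    intro x hx
    by_cases hxX : x ∈ X
    · have h1 := coeff_push_coe X (blockElt F) ⟨x, hxX⟩
      simp only at h1
      rw [h1, coeff_blockElt]
      exact hsupp' F hFb ⟨x, hxX⟩ hx
    · rw [coeff_push_of_notMem X _ hxX]
  have hzpush := push_res K hzK
  set y' := res K (push X (blockElt F)) with hy'
  -- the invariance of `z`
  have hzX : InvBy X (push X (blockElt F)) := by
    intro x u hu
    by_cases hx : x ∈ X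
    · have h1 := coeff_push_coe X (blockElt F) ⟨x, hx⟩
      have h2 := coeff_push_coe X (blockElt F) (⟨u, hu⟩ * ⟨x, hx⟩ * ⟨u, hu⟩⁻¹)
      simp only [Subgroup.coe_mul, Subgroup.coe_inv] at h1 h2
      rw [h1, h2]
      exact heF.1 _ _
    · have hux : u * x * u⁻¹ ∉ X := fun h => hx (by
        have := X.mul_mem (X.mul_mem (X.inv_mem hu) h) hu
        simpa [mul_assoc] using this)
      rw [coeff_push_of_notMem X _ hx, coeff_push_of_notMem X _ hux]
  have hzloc : LocCoeff M (push X (blockElt F)) := by
    intro x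
    by_cases hx : x ∈ X
    · have h1 := coeff_push_coe X (blockElt F) ⟨x, hx⟩
      simp only at h1
      rw [h1]
      exact heF.2 _
    · rw [coeff_push_of_notMem X _ hx]
      exact memLocalRing_zero
  have hy'c : y' ∈ localCenter K M := by
    refine ⟨fun x y => ?_, fun x => ?_⟩
    · rw [hy', coeff_res, coeff_res]
      have : ((y * x * y⁻¹ : K) : G) = (y : G) * x * (y : G)⁻¹ := by simp
      rw [this]
      exact hzX _ _ (hCX y.2)
    · rw [hy', coeff_res]
      exact hzloc _
  have hFF : blockElt F * blockElt F = blockElt F := blockElt_mul_self F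
  have hy'idem : y' * y' = y' := by
    have h1 : push K (y' * y') = push K y' := by
      rw [push_mul, hzpush, ← push_mul, hFF]
    have h2 := congrArg (res K) h1
    rwa [res_push, res_push] at h2
  have hy'eq := eq_blockElt_idemSupp hy'c.1 hy'idem
  set A' := idemSupp y' with hA'
  have hzEE : push X (blockElt F) = EE K A' := by
    rw [EE_eq_push, ← hy'eq, hzpush]
  -- `A' ⊆ U`
  have hzy : push X (blockElt F) * EE K U = push X (blockElt F) := by
    rw [← hpush, ← push_mul, hyeq, blockElt_mul, Set.inter_eq_left.mpr hFA]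
  have hA'U : A' ⊆ U := by
    rw [hzEE, EE_mul] at hzy
    have h1 := congrArg (res K) hzy
    rw [res_EE, res_EE] at h1
    have h2 := blockElt_injective h1
    exact Set.inter_eq_left.mp h2
  -- `A'` is nonempty
  have hA'ne : ∃ θ, θ ∈ A' := by
    by_contra hcon
    push Not at hcon
    have h1 : A' = ∅ := Set.eq_empty_of_forall_notMem hcon
    rw [h1, EE_empty] at hzEE
    have h2 := congrArg (res X) hzEE
    rw [res_push] at h2
    have h3 : blockElt F = 0 := by
      rw [h2]
      apply ext_coeff
      intro g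
      simp
    have h4 := omega_blockElt_of_mem (mem_blockOf_self (M := M) χ₀)
    rw [← hF, h3, omega_zero] at h4
    exact zero_ne_one h4
  obtain ⟨θ₁, hθ₁⟩ := hA'ne
  -- `A'` is stable
  have hA'st : ∀ u : X, conjB (u : G) (map_conj_of_mem_normalizer (hXK u.2)) A' = A' := by
    intro u
    have h1 : EE K (conjB (u : G) (map_conj_of_mem_normalizer (hXK u.2)) A') =
        EE K A' := by
      apply ext_coeff
      intro g
      have h2 := coeff_EE_conjB (map_conj_of_mem_normalizer (hXK u.2)) A' ((u : G)⁻¹ * g * u)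
      have h3 : (u : G) * ((u : G)⁻¹ * g * u) * (u : G)⁻¹ = g := by group
      rw [h3] at h2
      rw [h2, ← hzEE]
      have h4 := hzX ((u : G)⁻¹ * g * u) u u.2
      rw [h3] at h4
      exact h4.symm
    have h2 := congrArg (res K) h1
    rw [res_EE, res_EE] at h2
    exact blockElt_injective h2
  -- `U ⊆ A'`
  have hUA' : U ⊆ A' := by
    obtain ⟨u, hu⟩ := hA'U hθ₁
    have h1 : conjB (u : G) (map_conj_of_mem_normalizer (hXK u.2)) e ⊆ A' := by
      rw [isPBlock_eq_blockOf (isPBlock_conjB he) hu]
      exact idemSupp_union hy'c hy'idem hθ₁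
    rintro θ ⟨v, hv⟩
    have h2 : conjB (v : G) (map_conj_of_mem_normalizer (hXK v.2)) e =
        conjB ((v * u⁻¹ : X) : G) (map_conj_of_mem_normalizer (hXK (v * u⁻¹ : X).2))
          (conjB (u : G) (map_conj_of_mem_normalizer (hXK u.2)) e) := by
      rw [← conjB_mul (map_conj_of_mem_normalizer (hXK (v * u⁻¹ : X).2)) (map_conj_of_mem_normalizer (hXK u.2))
        (by simpa using map_conj_of_mem_normalizer (hXK (v * u⁻¹ * u : X).2))]
      exact conjB_congr (by simp) _ _ _
    rw [h2] at hv
    have h3 := hA'st (v * u⁻¹)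
    rw [← h3]
    obtain ⟨χ, hχ, rfl⟩ := hv
    exact irrComap_mem_blockMap _ (h1 hχ)
  have hAU : A' = U := Set.Subset.antisymm hA'U hUA'
  -- conclusion
  have hfinal : push X (blockElt F) = EE K U := by
    rw [hzEE, hAU]
  intro t
  have h1 := coeff_push_coe X (blockElt F) t
  rw [hfinal, coeff_EE, coeff_blockElt] at h1
  exact h1.symm


/-- The idempotent of a block of `X` is supported in `K`, and lies in the center of `K`. -/
theorem exists_idem_of_block {K X : Subgroup G} [Fintype X] [Fintype K] (hCX : K ≤ X)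
    (hXK : X ≤ Subgroup.normalizer (K : Set G))
    (hsupp' : ∀ F : Set (IrrCharacter X), IsPBlock M F → ∀ t : X, (t : G) ∉ K → blockCoeff F t = 0)
    {F : Set (IrrCharacter X)} (hFb : IsPBlock M F) :
    ∃ A' : Set (IrrCharacter K), push X (blockElt F) = EE K A' ∧ (∃ θ, θ ∈ A') ∧
      (∀ θ ∈ A', blockOf M (θ : K → ℂ) ⊆ A') ∧
      ∀ u : X, conjB (u : G) (map_conj_of_mem_normalizer (hXK u.2)) A' = A' := by
  classical
  obtain ⟨χ₀, hχ₀⟩ := isPBlock_nonempty hFb
  have heF := blockElt_mem_localCenter hFb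
  have hzK : ∀ x, x ∉ K → (push X (blockElt F)).coeff x = 0 := by
    intro x hx
    by_cases hxX : x ∈ X
    · have h1 := coeff_push_coe X (blockElt F) ⟨x, hxX⟩
      simp only at h1
      rw [h1, coeff_blockElt]
      exact hsupp' F hFb ⟨x, hxX⟩ hx
    · rw [coeff_push_of_notMem X _ hxX]
  have hzpush := push_res K hzK
  set y' := res K (push X (blockElt F)) with hy'
  have hzX : InvBy X (push X (blockElt F)) := by
    intro x u hu
    by_cases hx : x ∈ X
    · have h1 := coeff_push_coe X (blockElt F) ⟨x, hx⟩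
      have h2 := coeff_push_coe X (blockElt F) (⟨u, hu⟩ * ⟨x, hx⟩ * ⟨u, hu⟩⁻¹)
      simp only [Subgroup.coe_mul, Subgroup.coe_inv] at h1 h2
      rw [h1, h2]
      exact heF.1 _ _
    · have hux : u * x * u⁻¹ ∉ X := fun h => hx (by
        have := X.mul_mem (X.mul_mem (X.inv_mem hu) h) hu
        simpa [mul_assoc] using this)
      rw [coeff_push_of_notMem X _ hx, coeff_push_of_notMem X _ hux]
  have hzloc : LocCoeff M (push X (blockElt F)) := by
    intro x
    by_cases hx : x ∈ X
    · have h1 := coeff_push_coe X (blockElt F) ⟨x, hx⟩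
      simp only at h1
      rw [h1]
      exact heF.2 _
    · rw [coeff_push_of_notMem X _ hx]
      exact memLocalRing_zero
  have hy'c : y' ∈ localCenter K M := by
    refine ⟨fun x y => ?_, fun x => ?_⟩
    · rw [hy', coeff_res, coeff_res]
      have : ((y * x * y⁻¹ : K) : G) = (y : G) * x * (y : G)⁻¹ := by simp
      rw [this]
      exact hzX _ _ (hCX y.2)
    · rw [hy', coeff_res]
      exact hzloc _
  have hFF : blockElt F * blockElt F = blockElt F := blockElt_mul_self F
  have hy'idem : y' * y' = y' := by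
    have h1 : push K (y' * y') = push K y' := by
      rw [push_mul, hzpush, ← push_mul, hFF]
    have h2 := congrArg (res K) h1
    rwa [res_push, res_push] at h2
  have hy'eq := eq_blockElt_idemSupp hy'c.1 hy'idem
  set A' := idemSupp y' with hA'
  have hzEE : push X (blockElt F) = EE K A' := by
    rw [EE_eq_push, ← hy'eq, hzpush]
  have hA'ne : ∃ θ, θ ∈ A' := by
    by_contra hcon
    push Not at hcon
    have h1 : A' = ∅ := Set.eq_empty_of_forall_notMem hcon
    rw [h1, EE_empty] at hzEE
    have h2 := congrArg (res X) hzEE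
    rw [res_push] at h2
    have h3 : blockElt F = 0 := by
      rw [h2]
      apply ext_coeff
      intro g
      simp
    have h4 := omega_blockElt_of_mem hχ₀
    rw [h3, omega_zero] at h4
    exact zero_ne_one h4
  have hA'st : ∀ u : X, conjB (u : G) (map_conj_of_mem_normalizer (hXK u.2)) A' = A' := by
    intro u
    have h1 : EE K (conjB (u : G) (map_conj_of_mem_normalizer (hXK u.2)) A') = EE K A' := by
      apply ext_coeff
      intro g
      have h2 := coeff_EE_conjB (map_conj_of_mem_normalizer (hXK u.2)) A' ((u : G)⁻¹ * g * u)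
      have h3 : (u : G) * ((u : G)⁻¹ * g * u) * (u : G)⁻¹ = g := by group
      rw [h3] at h2
      rw [h2, ← hzEE]
      have h4 := hzX ((u : G)⁻¹ * g * u) u u.2
      rw [h3] at h4
      exact h4.symm
    have h2 := congrArg (res K) h1
    rw [res_EE, res_EE] at h2
    exact blockElt_injective h2
  exact ⟨A', hzEE, hA'ne, fun θ hθ => idemSupp_union hy'c hy'idem hθ, hA'st⟩

/-- Every block of `X` comes from the `X`-orbit of a block of `K`. -/
theorem exists_orbit_of_block {K X : Subgroup G} (hCX : K ≤ X)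
    (hXK : X ≤ Subgroup.normalizer (K : Set G))
    (hsupp' : ∀ F : Set (IrrCharacter X), IsPBlock M F → ∀ t : X, (t : G) ∉ K → blockCoeff F t = 0)
    {F : Set (IrrCharacter X)} (hFb : IsPBlock M F) :
    ∃ b₀ : Set (IrrCharacter K), IsPBlock M b₀ ∧
      ∀ t : X, blockCoeff F t = subgroupBlockCoeff K (orbitU X K hXK b₀) t := by
  classical
  obtain ⟨A', hzEE, ⟨θ₁, hθ₁⟩, hun, hst⟩ := exists_idem_of_block hCX hXK hsupp' hFb
  have hb₀ : IsPBlock M (blockOf M (θ₁ : K → ℂ)) := ⟨θ₁, rfl⟩
  obtain ⟨F₂, hF₂, hF₂U⟩ := exists_block_orbitU_gen hCX hXK hsupp' hb₀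
  have hUA : orbitU X K hXK (blockOf M (θ₁ : K → ℂ)) ⊆ A' := by
    rintro θ ⟨u, hu⟩
    rw [← hst u]
    obtain ⟨χ, hχ, rfl⟩ := hu
    exact irrComap_mem_blockMap _ (hun θ₁ hθ₁ hχ)
  have hpF₂ : push X (blockElt F₂) = EE K (orbitU X K hXK (blockOf M (θ₁ : K → ℂ))) := by
    apply ext_coeff
    intro g
    rw [coeff_EE]
    by_cases hg : g ∈ X
    · have := coeff_push_coe X (blockElt F₂) ⟨g, hg⟩
      simp only at this
      rw [this, coeff_blockElt, hF₂U]
    · rw [coeff_push_of_notMem X _ hg, subgroupBlockCoeff_of_notMem]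
      exact fun h => hg (hCX h)
  have hprod : push X (blockElt F * blockElt F₂) = push X (blockElt F₂) := by
    rw [push_mul, hzEE, hpF₂, EE_mul, Set.inter_eq_right.mpr hUA]
  have h2 : blockElt F * blockElt F₂ = blockElt F₂ := by
    have := congrArg (res X) hprod
    rwa [res_push, res_push] at this
  have hFF₂ : F = F₂ := by
    by_contra hne
    rw [blockElt_mul, disjoint_of_isPBlock hFb hF₂ hne] at h2
    have h3 := blockElt_injective h2
    obtain ⟨χ, hχ⟩ := isPBlock_nonempty hF₂
    rw [← h3] at hχ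
    exact hχ
  rw [hFF₂]
  exact ⟨_, hb₀, hF₂U⟩

/-- A block `F` of `X` with idempotent that of `U`: if the central character of a member of `F` does
not kill an element `w` of the local center of `X` supported in `K`, that of some member of `U` does not. -/
theorem exists_not_mem_of_under {K X : Subgroup G} (hKX : K ≤ X) [Fintype X] [Fintype K]
    {F : Set (IrrCharacter X)} {U : Set (IrrCharacter K)} (hF : IsPBlock M F)
    (hFU : ∀ t : X, blockCoeff F t = subgroupBlockCoeff K U t)
    (hU : ∀ θ ∈ U, blockOf M (θ : K → ℂ) ⊆ U)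
    {w : MonoidAlgebra ℂ X} (hw : w ∈ localCenter X M) (hwK : ∀ t : X, (t : G) ∉ K → w.coeff t = 0)
    {ψ : IrrCharacter X} (hψ : ψ ∈ F) (hval : ¬ MemLocalIdeal M (omega (ψ : X → ℂ) w)) :
    ∃ ξ ∈ U, ¬ MemLocalIdeal M (omega (ξ : K → ℂ) (res K (push X w))) := by
  classical
  by_contra hcon
  push Not at hcon
  have he := blockElt_mem_localCenter hF
  have hy : blockElt F * w ∈ localCenter X M := (localCenter X M).mul_mem he hw
  have hpF : push X (blockElt F) = EE K U := by
    apply ext_coeff
    intro g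
    rw [coeff_EE]
    by_cases hg : g ∈ X
    · have := coeff_push_coe X (blockElt F) ⟨g, hg⟩
      simp only at this
      rw [this, coeff_blockElt, hFU]
    · rw [coeff_push_of_notMem X _ hg, subgroupBlockCoeff_of_notMem]
      exact fun h => hg (hKX h)
  have hpw : push K (res K (push X w)) = push X w := by
    apply push_res
    intro x hx
    by_cases hxX : x ∈ X
    · have := coeff_push_coe X w ⟨x, hxX⟩
      simp only at this
      rw [this]
      exact hwK _ hx
    · exact coeff_push_of_notMem X _ hxX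
  have hy2 : push K (blockElt U * res K (push X w)) = push X (blockElt F * w) := by
    rw [push_mul, hpw, ← EE_eq_push, ← hpF, ← push_mul]
  have hr : res K (push X w) ∈ localCenter K M := by
    refine ⟨fun x y => ?_, fun x => ?_⟩
    · rw [coeff_res, coeff_res]
      have h2 := coeff_push_coe X w ⟨x, hKX x.2⟩
      have h3 := coeff_push_coe X w (⟨y, hKX y.2⟩ * ⟨x, hKX x.2⟩ * ⟨y, hKX y.2⟩⁻¹)
      simp only [Subgroup.coe_mul, Subgroup.coe_inv] at h2 h3
      simp only [Subgroup.coe_mul, Subgroup.coe_inv]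
      rw [h2, h3]
      exact hw.1 _ _
    · rw [coeff_res]
      have h2 := coeff_push_coe X w ⟨x, hKX x.2⟩
      simp only at h2
      rw [h2]
      exact hw.2 _
  have hUl : blockElt U ∈ localCenter K M := blockElt_mem_localCenter_of_union hU
  have hz : blockElt U * res K (push X w) ∈ localCenter K M := (localCenter K M).mul_mem hUl hr
  have hωz : ∀ ξ : IrrCharacter K, MemLocalIdeal M (omega (ξ : K → ℂ) (blockElt U * res K (push X w))) := by
    intro ξ
    rw [omega_mul ξ.2 (isClassFunction_blockElt U)]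
    by_cases hξ : ξ ∈ U
    · rw [omega_blockElt_of_mem hξ, one_mul]
      exact hcon ξ hξ
    · rw [omega_blockElt_of_notMem hξ, zero_mul]
      exact memLocalIdeal_zero
  obtain ⟨t, ht0, ht⟩ := Cfsg.Agent.Lib.Blocks.SecondMain.exists_pow_coeffIn_of_omega hz hωz
  rw [coeffIn_localIdeal_iff] at ht
  have hcoef : ∀ c : X, MemLocalIdeal M (((blockElt F * w) ^ t).coeff c) := by
    intro c
    have h2 : push K ((blockElt U * res K (push X w)) ^ t) = push X ((blockElt F * w) ^ t) := by
      unfold push at hy2 ⊢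
      rw [map_pow, map_pow, hy2]
    have h4 := coeff_push_coe X ((blockElt F * w) ^ t) c
    rw [← h4, ← h2]
    by_cases hc : (c : G) ∈ K
    · have h3 := coeff_push_coe K ((blockElt U * res K (push X w)) ^ t) ⟨c, hc⟩
      simp only at h3
      rw [h3]
      exact ht _
    · rw [coeff_push_of_notMem K _ hc]
      exact memLocalIdeal_zero
  have hcl : IsClassFunction X (blockElt F * w).coeff :=
    isClassFunction_mul (isClassFunction_blockElt F) hw.1
  have hclt : IsClassFunction X ((blockElt F * w) ^ t).coeff := isClassFunction_pow hcl t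
  have h2 := memLocalIdeal_omega_of_coeff ψ.2 hclt hcoef
  rw [omega_pow ψ.2 hcl, omega_mul ψ.2 (isClassFunction_blockElt F), omega_blockElt_of_mem hψ, one_mul] at h2
  have hpr : (localIdeal M).IsPrime := by
    rw [localIdeal_eq_maximalIdeal]
    infer_instance
  have hloc := memLocalRing_omega (M := M) ψ.2 hw
  have h4 : (⟨_, hloc⟩ : localRing M) ^ t ∈ localIdeal M := by
    rw [mem_localIdeal]
    simpa using h2
  have h5 := hpr.mem_of_pow_mem _ h4
  rw [mem_localIdeal] at h5
  exact hval h5

end PIndex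

end Cfsg.Agent.Lib.Blocks.Pairs
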