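/-
Brauer pairs: uniqueness of the block of a pair, of normal subpairs and of subpairs.
-/
import Mathlib
import Cfsg.Agent.Lib.Blocks.Pairs2

set_option autoImplicit false

namespace Cfsg.Agent.Lib.Blocks.Pairs

open Cfsg Cfsg.Agent.Lib.Blocks.Local Cfsg.Agent.Lib.Blocks.Central Cfsg.Agent.Lib.Blocks.Osima
open Cfsg.Agent.Lib.Blocks.Covering Cfsg.Agent.Lib.Blocks.BrauerMap Cfsg.Agent.Lib.Blocks.Transport
open Cfsg.Agent.Lib.Blocks.BlockHom

universe u

section FixedSum

variable {F : Type*} [Field F] {p : ℕ} [Fact p.Prime] [CharP F p]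

/-- The sum of a `P`-invariant function in characteristic `p` is the sum over the fixed points. -/
theorem sum_eq_sum_fixed {P : Type*} [Group P] [Finite P] (hP : IsPGroup p P)
    {α : Type*} [Fintype α] [MulAction P α] {V : Type*} [AddCommGroup V] [Module F V] (f : α → V)
    (hf : ∀ (u : P) (a : α), f (u • a) = f a) [DecidablePred fun a : α => ∀ u : P, u • a = a] :
    ∑ a, f a = ∑ a ∈ Finset.univ.filter (fun a : α => ∀ u : P, u • a = a), f a := by
  classical
  rw [← Finset.sum_filter_add_sum_filter_not Finset.univ (fun a : α => ∀ u : P, u • a = a) f]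
  suffices h : ∑ a ∈ Finset.univ.filter (fun a : α => ¬ ∀ u : P, u • a = a), f a = 0 by
    rw [h, add_zero]
  have hinv : ∀ (u : P) (a : α), (¬ ∀ v : P, v • a = a) → ¬ ∀ v : P, v • (u • a) = u • a := by
    intro u a ha hfix
    apply ha
    intro v
    have h1 := hfix (u⁻¹)
    rw [inv_smul_smul] at h1
    have h2 := hfix v
    rw [← h1] at h2
    exact h2
  let β := {a : α // ¬ ∀ v : P, v • a = a}
  let _ : MulAction P β :=
    { smul := fun u a => ⟨u • a.1, hinv u a.1 a.2⟩
      one_smul := fun a => Subtype.ext (one_smul P a.1)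
      mul_smul := fun u v a => Subtype.ext (mul_smul u v a.1) }
  have h0 := Cfsg.Agent.Lib.Blocks.PFixed.sum_eq_zero_of_no_fixed (F := F) hP (α := β)
    (fun a => by
      by_contra hcon
      push Not at hcon
      exact a.2 fun v => congrArg Subtype.val (hcon v))
    (fun a : β => f a.1) (fun u a => hf u a.1)
  rw [← h0]
  exact (Finset.sum_subtype _ (by simp) _)

end FixedSum

section Main

variable {G : Type u} [Group G] [Fintype G] {M : Ideal AlgInt} [hM : M.IsPrime]
variable {p : ℕ} [Fact p.Prime]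

lemma memLocalIdeal_bv_sub_of_mem {P : Subgroup G} [Fintype (Subgroup.centralizer (P : Set G))]
    {e : Set (IrrCharacter (Subgroup.centralizer (P : Set G)))} (he : IsPBlock M e)
    {ξ ξ' : IrrCharacter (Subgroup.centralizer (P : Set G))} (hξ : ξ ∈ e) (hξ' : ξ' ∈ e)
    {a : MonoidAlgebra ℂ G} (ha : LocCoeff M a) (hc : InvBy (Subgroup.centralizer (P : Set G)) a) :
    MemLocalIdeal M (bv P (ξ : _ → ℂ) a - bv P (ξ' : _ → ℂ) a) := by
  classical
  obtain ⟨χ, rfl⟩ := he
  have h1 : SameBlock M χ.1 ξ.1 := hξ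
  have h2 : SameBlock M χ.1 ξ'.1 := hξ'
  exact memLocalIdeal_omega_sub ξ.2 ξ'.2 (sameBlock_trans (sameBlock_symm h1) h2)
    (res_mem_localCenter' ha hc)

/-- An idempotent value extends from one member of a block to all others. -/
lemma memLocalIdeal_bv_sub_one_of_mem {P : Subgroup G} [Fintype (Subgroup.centralizer (P : Set G))]
    {e : Set (IrrCharacter (Subgroup.centralizer (P : Set G)))} (he : IsPBlock M e)
    {ξ ξ' : IrrCharacter (Subgroup.centralizer (P : Set G))} (hξ : ξ ∈ e) (hξ' : ξ' ∈ e)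
    {a : MonoidAlgebra ℂ G} (ha : LocCoeff M a) (hc : InvBy (Subgroup.centralizer (P : Set G)) a)
    {c : ℂ} (h : MemLocalIdeal M (bv P (ξ : _ → ℂ) a - c)) :
    MemLocalIdeal M (bv P (ξ' : _ → ℂ) a - c) := by
  have := memLocalIdeal_sub h (memLocalIdeal_bv_sub_of_mem he hξ hξ' ha hc)
  convert this using 1
  ring

lemma isPBlock_nonempty {H : Type*} [Group H] {e : Set (IrrCharacter H)} (he : IsPBlock M e) [Fintype H] :
    ∃ ξ, ξ ∈ e := by
  obtain ⟨χ, rfl⟩ := he
  exact ⟨χ, mem_blockOf_self χ⟩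

/-- Two orthogonal idempotents cannot both have value `1`. -/
lemma not_both_one_of_mul_eq_zero (hMp : IsPModular p M) {P : Subgroup G} (hP : IsPGroup p P)
    [Fintype (Subgroup.centralizer (P : Set G))] {ξ : Subgroup.centralizer (P : Set G) → ℂ}
    (hξ : IsIrrCharacter _ ξ) {a b : MonoidAlgebra ℂ G} (ha : BrDom M P a) (hb : BrDom M P b)
    (hab : a * b = 0) (h1 : MemLocalIdeal M (bv P ξ a - 1)) (h2 : MemLocalIdeal M (bv P ξ b - 1)) :
    False := by
  have h3 := bv_mul hMp hP hξ ha hb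
  rw [hab, bv_zero, zero_sub] at h3
  have h4 := memLocalIdeal_neg h3
  rw [neg_neg] at h4
  have h5 := memLocalIdeal_mul_right h1 (memLocalRing_bv hξ hb)
  have h6 := memLocalIdeal_sub h4 h5
  have h7 := memLocalIdeal_sub h6 h2
  apply not_memLocalIdeal_one (M := M)
  convert h7 using 1
  ring

/-- `IsBrauerPairOf` for a pair, in terms of `bv`. -/
lemma isBrauerPairOf_iff {P : Subgroup G} [Fintype (Subgroup.centralizer (P : Set G))]
    {B : Set (IrrCharacter G)} {e : Set (IrrCharacter (Subgroup.centralizer (P : Set G)))} :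
    IsBrauerPairOf p M B P e ↔ IsBrauerPair p M P e ∧ IsPBlock M B ∧
      ∀ ξ ∈ e, MemLocalIdeal M (bv P (ξ : _ → ℂ) (blockElt B) - 1) := by
  unfold IsBrauerPairOf
  simp only [brauerOmega_blockCoeff]

/-- **S4657**: a Brauer pair belongs to exactly one block. -/
theorem existsUnique_block_of_pair (hMp : IsPModular p M) {P : Subgroup G}
    {e : Set (IrrCharacter (Subgroup.centralizer (P : Set G)))} (hPe : IsBrauerPair p M P e) :
    ∃! B : Set (IrrCharacter G), IsBrauerPairOf p M B P e := by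
  classical
  obtain ⟨ξ₀, hξ₀⟩ := isPBlock_nonempty hPe.2
  simp only [isBrauerPairOf_iff]
  have huniq : ∀ B B' : Set (IrrCharacter G), IsPBlock M B → IsPBlock M B' →
      MemLocalIdeal M (bv P (ξ₀ : _ → ℂ) (blockElt B) - 1) →
      MemLocalIdeal M (bv P (ξ₀ : _ → ℂ) (blockElt B') - 1) → B = B' := by
    intro B B' hB hB' h1 h2
    by_contra hne
    refine not_both_one_of_mul_eq_zero hMp hPe.1 ξ₀.2 (brDom_blockElt hB) (brDom_blockElt hB') ?_ h1 h2
    rw [blockElt_mul, disjoint_of_isPBlock hB hB' hne]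
    apply ext_coeff
    intro g
    simp [blockCoeff]
  have hsum : ∑ B : Blk M G, bv P (ξ₀ : _ → ℂ) (blockElt B.1) = 1 := by
    rw [← bv_sum, sum_blockElt_eq_one, bv_one ξ₀.2]
  have hex : ∃ B : Blk M G, ¬ MemLocalIdeal M (bv P (ξ₀ : _ → ℂ) (blockElt B.1)) := by
    by_contra hcon
    push Not at hcon
    have := memLocalIdeal_sum Finset.univ _ (fun B _ => hcon B)
    rw [hsum] at this
    exact not_memLocalIdeal_one this
  obtain ⟨⟨B, hB⟩, hB1⟩ := hex
  have hB2 : MemLocalIdeal M (bv P (ξ₀ : _ → ℂ) (blockElt B) - 1) :=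
    (bv_idem hMp hPe.1 ξ₀.2 (brDom_blockElt hB) (blockElt_mul_self B)).resolve_left hB1
  refine ⟨B, ⟨hPe, hB, fun ξ hξ => ?_⟩, ?_⟩
  · exact memLocalIdeal_bv_sub_one_of_mem hPe.2 hξ₀ hξ (brDom_blockElt (P := P) hB).loc (brDom_blockElt (P := P) hB).invC hB2
  · rintro B' ⟨-, hB', h⟩
    exact huniq _ _ hB' hB (h ξ₀ hξ₀) hB2

section Act

lemma conjB_mul {K K' K'' : Subgroup G} {x y : G} (hx : K'.map (MulAut.conj x).toMonoidHom = K'')
    (hy : K.map (MulAut.conj y).toMonoidHom = K') (hxy : K.map (MulAut.conj (x * y)).toMonoidHom = K'')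
    (f : Set (IrrCharacter K)) :
    conjB (x * y) hxy f = conjB x hx (conjB y hy f) := by
  ext ξ
  rw [mem_conjB, mem_conjB, mem_conjB]
  have : irrComap (conjEq (x * y) hxy) ξ = irrComap (conjEq y hy) (irrComap (conjEq x hx) ξ) := by
    apply Subtype.ext
    funext k
    show (ξ : K'' → ℂ) (conjEq (x * y) hxy k) = (ξ : K'' → ℂ) (conjEq x hx (conjEq y hy k))
    have h : conjEq (x * y) hxy k = conjEq x hx (conjEq y hy k) :=
      Subtype.ext (by simp only [coe_conjEq]; group)
    rw [h]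
  rw [this]

lemma conjB_congr {K K' : Subgroup G} {x y : G} (hxy : x = y)
    (hx : K.map (MulAut.conj x).toMonoidHom = K') (hy : K.map (MulAut.conj y).toMonoidHom = K')
    (f : Set (IrrCharacter K)) : conjB x hx f = conjB y hy f := by
  subst hxy
  rfl

/-- Conjugation action on the blocks of a subgroup `K`. -/
@[reducible] noncomputable def blkAct (T K : Subgroup G) (hT : T ≤ Subgroup.normalizer (K : Set G)) :
    MulAction T (Blk M K) where
  smul u f := ⟨conjB (u : G) (map_conj_of_mem_normalizer (hT u.2)) f.1, isPBlock_conjB f.2⟩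
  one_smul f := Subtype.ext (conjB_of_mem K.one_mem _ f.1)
  mul_smul a b f := Subtype.ext (conjB_mul (map_conj_of_mem_normalizer (hT a.2))
    (map_conj_of_mem_normalizer (hT b.2)) (map_conj_of_mem_normalizer (hT (a * b).2)) f.1)

end Act

lemma mem_centralizer_comm {P : Subgroup G} {u x : G} (hu : u ∈ P) (hx : x ∈ Subgroup.centralizer (P : Set G)) :
    u * x * u⁻¹ = x := by
  have := Subgroup.mem_centralizer_iff.mp hx u hu
  rw [this]
  group

/-- **S4656**: existence and uniqueness of the normal subpair. -/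
theorem existsUnique_normal_subpair (hMp : IsPModular p M) {P Q : Subgroup G}
    {e : Set (IrrCharacter (Subgroup.centralizer (P : Set G)))} (hPe : IsBrauerPair p M P e)
    (hQP : Q ≤ P) (hPN : P ≤ Subgroup.normalizer (Q : Set G)) :
    ∃! f : Set (IrrCharacter (Subgroup.centralizer (Q : Set G))), IsNormalSubpair p M Q f P e := by
  classical
  haveI hchar : CharP (localRing M ⧸ localIdeal M) p := charP_residue hMp
  obtain ⟨ξ₀, hξ₀⟩ := isPBlock_nonempty hPe.2
  have hCP : Subgroup.centralizer (P : Set G) ≤ Subgroup.centralizer (Q : Set G) :=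
    Subgroup.centralizer_le hQP
  have hKN : P ≤ Subgroup.normalizer ((Subgroup.centralizer (Q : Set G) : Subgroup G) : Set G) :=
    hPN.trans (normalizer_le_normalizer_centralizer Q)
  have hdom : ∀ f : Blk M (Subgroup.centralizer (Q : Set G)),
      LocCoeff M (EE _ f.1) ∧ InvBy (Subgroup.centralizer (P : Set G)) (EE _ f.1) :=
    fun f => ⟨locCoeff_EE f.2, (invBy_EE_self _ _).mono hCP⟩
  have hloc : ∀ f : Blk M (Subgroup.centralizer (Q : Set G)),
      MemLocalRing M (bv P (ξ₀ : _ → ℂ) (EE _ f.1)) :=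
    fun f => memLocalRing_bv' ξ₀.2 (hdom f).1 (hdom f).2
  let act := blkAct (M := M) P _ hKN
  let ff : Blk M (Subgroup.centralizer (Q : Set G)) → (localRing M ⧸ localIdeal M) :=
    fun f => residue M ⟨_, hloc f⟩
  have hsm : ∀ (u : P) (f : Blk M (Subgroup.centralizer (Q : Set G))),
      (u • f).1 = conjB (u : G) (map_conj_of_mem_normalizer (hKN u.2)) f.1 := fun _ _ => rfl
  have hff : ∀ (u : P) (f : Blk M (Subgroup.centralizer (Q : Set G))), ff (u • f) = ff f := by
    intro u f
    show residue M ⟨_, hloc (u • f)⟩ = residue M ⟨_, hloc f⟩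
    congr 2
    show bv P _ _ = bv P _ _
    apply bv_congr
    intro x hx
    rw [hsm]
    have h1 := coeff_EE_conjB (map_conj_of_mem_normalizer (hKN u.2)) f.1 x
    rwa [mem_centralizer_comm u.2 hx] at h1
  have hsum1 := sum_eq_sum_fixed (F := localRing M ⧸ localIdeal M) (hPe.1) ff hff
  -- the total sum is one
  have htot : ∑ f : Blk M (Subgroup.centralizer (Q : Set G)), bv P (ξ₀ : _ → ℂ) (EE _ f.1) = 1 := by
    rw [← bv_sum, sum_EE_eq_one, bv_one ξ₀.2]
  have htot2 : ∑ f, ff f = 1 := by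
    rw [← map_one (residue M), ← map_sum]
    congr 1
    apply Subtype.ext
    rw [AddSubmonoidClass.coe_finsetSum]
    exact htot
  -- so some fixed block has a nonzero value
  have hex : ∃ f : Blk M (Subgroup.centralizer (Q : Set G)), (∀ u : P, u • f = f) ∧ ff f ≠ 0 := by
    by_contra hcon
    push Not at hcon
    have h0 : ∑ f ∈ Finset.univ.filter
        (fun f : Blk M (Subgroup.centralizer (Q : Set G)) => ∀ u : P, u • f = f), ff f = 0 :=
      Finset.sum_eq_zero fun f hf => hcon f (Finset.mem_filter.mp hf).2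
    rw [← hsum1, htot2] at h0
    exact one_ne_zero h0
  obtain ⟨⟨f, hf⟩, hfix, hf0⟩ := hex
  have hst : ∀ u ∈ P, StabilizesBlock (Subgroup.centralizer (Q : Set G)) f u := by
    intro u hu
    rw [stabilizesBlock_iff]
    refine ⟨hKN hu, ?_⟩
    have := congrArg Subtype.val (hfix ⟨u, hu⟩)
    exact this
  have hdomf : ∀ {f : Set (IrrCharacter (Subgroup.centralizer (Q : Set G)))}, IsPBlock M f →
      (∀ u ∈ P, StabilizesBlock (Subgroup.centralizer (Q : Set G)) f u) → BrDom M P (EE _ f) :=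
    fun hf hst => ⟨locCoeff_EE hf, invBy_EE_of_stab hst, (invBy_EE_self _ _).mono hCP⟩
  have hone : MemLocalIdeal M (bv P (ξ₀ : _ → ℂ) (EE _ f) - 1) := by
    refine (bv_idem hMp hPe.1 ξ₀.2 (hdomf hf hst) (EE_mul_self _ f)).resolve_left ?_
    intro h0
    apply hf0
    show residue M _ = 0
    rw [residue_eq_zero_iff]
    exact h0
  refine ⟨f, ⟨⟨hPe.1.to_le hQP, hf⟩, hPe, hQP, hPN, hst, fun ξ hξ => ?_⟩, ?_⟩
  · rw [brauerOmega_subgroupBlockCoeff]
    exact memLocalIdeal_bv_sub_one_of_mem hPe.2 hξ₀ hξ (hdomf hf hst).loc (hdomf hf hst).invC hone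
  · rintro f' ⟨⟨-, hf'⟩, -, -, -, hst', hval⟩
    by_contra hne
    have h1 := hval ξ₀ hξ₀
    rw [brauerOmega_subgroupBlockCoeff] at h1
    refine not_both_one_of_mul_eq_zero hMp hPe.1 ξ₀.2 (hdomf hf' hst') (hdomf hf hst) ?_ h1 hone
    rw [EE_mul, disjoint_of_isPBlock hf' hf hne, EE_empty]

/-- `IsNormalSubpair`, in terms of `bv`. -/
lemma isNormalSubpair_iff {Q P : Subgroup G} [Fintype (Subgroup.centralizer (P : Set G))]
    {f : Set (IrrCharacter (Subgroup.centralizer (Q : Set G)))}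
    {e : Set (IrrCharacter (Subgroup.centralizer (P : Set G)))} :
    IsNormalSubpair p M Q f P e ↔ IsBrauerPair p M Q f ∧ IsBrauerPair p M P e ∧ Q ≤ P ∧
      P ≤ Subgroup.normalizer (Q : Set G) ∧
      (∀ x ∈ P, StabilizesBlock (Subgroup.centralizer (Q : Set G)) f x) ∧
      ∀ ξ ∈ e, MemLocalIdeal M (bv P (ξ : _ → ℂ) (EE (Subgroup.centralizer (Q : Set G)) f) - 1) := by
  unfold IsNormalSubpair
  simp only [brauerOmega_subgroupBlockCoeff]

lemma IsNormalSubpair.brDom {Q P : Subgroup G}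
    {f : Set (IrrCharacter (Subgroup.centralizer (Q : Set G)))}
    {e : Set (IrrCharacter (Subgroup.centralizer (P : Set G)))} (h : IsNormalSubpair p M Q f P e) :
    BrDom M P (EE (Subgroup.centralizer (Q : Set G)) f) :=
  ⟨locCoeff_EE h.1.2, invBy_EE_of_stab h.2.2.2.2.1, (invBy_EE_self _ _).mono (Subgroup.centralizer_le h.2.2.1)⟩

/-- A normal step with the same subgroup is trivial. -/
lemma eq_of_isNormalSubpair_self {Q : Subgroup G}
    {f e : Set (IrrCharacter (Subgroup.centralizer (Q : Set G)))} (h : IsNormalSubpair p M Q f Q e) :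
    f = e := by
  classical
  obtain ⟨hf, he, -, -, -, hval⟩ := isNormalSubpair_iff.mp h
  obtain ⟨ξ, hξ⟩ := isPBlock_nonempty he.2
  have h1 := hval ξ hξ
  have h2 : bv Q (ξ : _ → ℂ) (EE (Subgroup.centralizer (Q : Set G)) f) =
      omega (ξ : _ → ℂ) (blockElt f) := by
    unfold bv
    rw [res_EE]
  rw [h2] at h1
  by_contra hne
  have hξf : ξ ∉ f := by
    intro hm
    have : ξ ∈ f ∩ e := ⟨hm, hξ⟩
    rw [disjoint_of_isPBlock hf.2 he.2 hne] at this
    exact this
  rw [omega_blockElt_of_notMem hξf, zero_sub] at h1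
  apply not_memLocalIdeal_one (M := M)
  simpa using memLocalIdeal_neg h1

end Main

end Cfsg.Agent.Lib.Blocks.Pairs
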