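/-
Brauer pairs: blocks of subgroups between `C_G(Q)` and `N_G(Q)` from blocks of `C_G(Q)`.
-/
import Mathlib
import Cfsg.Agent.Lib.Blocks.Pairs4
import Cfsg.Agent.Lib.Blocks.CentSupport

set_option autoImplicit false

namespace Cfsg.Agent.Lib.Blocks.Pairs

open Cfsg Cfsg.Agent.Lib.Blocks.Local Cfsg.Agent.Lib.Blocks.Central Cfsg.Agent.Lib.Blocks.Osima
open Cfsg.Agent.Lib.Blocks.Covering Cfsg.Agent.Lib.Blocks.BrauerMap Cfsg.Agent.Lib.Blocks.Transport
open Cfsg.Agent.Lib.Blocks.BlockHom

universe u

section Idem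

variable {H : Type u} [Group H] [Fintype H] {M : Ideal AlgInt}

/-- The members of the block algebra of a central idempotent. -/
def idemSupp (y : MonoidAlgebra ℂ H) : Set (IrrCharacter H) := {χ | omega (χ : H → ℂ) y = 1}

theorem eq_blockElt_idemSupp {y : MonoidAlgebra ℂ H} (hy : IsClassFunction H y.coeff)
    (h2 : y * y = y) : y = blockElt (idemSupp y) := by
  classical
  refine eq_of_omega_eq' hy (isClassFunction_blockElt _) fun χ => ?_
  by_cases hχ : χ ∈ idemSupp y
  · rw [omega_blockElt_of_mem hχ]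
    exact hχ
  · rw [omega_blockElt_of_notMem hχ]
    have h3 := omega_mul χ.2 (a := y) (b := y) hy
    rw [h2] at h3
    have h4 : omega (χ : H → ℂ) y * (omega (χ : H → ℂ) y - 1) = 0 := by
      rw [mul_sub, mul_one, ← h3, sub_self]
    rcases mul_eq_zero.mp h4 with h5 | h5
    · exact h5
    · exact absurd (sub_eq_zero.mp h5) hχ

theorem blockElt_injective {A A' : Set (IrrCharacter H)} (h : blockElt A = blockElt A') : A = A' := by
  classical
  ext χ
  constructor
  · intro hχ
    by_contra hχ'
    have h1 := omega_blockElt_of_mem hχ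
    rw [h, omega_blockElt_of_notMem hχ'] at h1
    exact zero_ne_one h1
  · intro hχ
    by_contra hχ'
    have h1 := omega_blockElt_of_mem hχ
    rw [← h, omega_blockElt_of_notMem hχ'] at h1
    exact zero_ne_one h1

theorem idemSupp_union [M.IsPrime] {y : MonoidAlgebra ℂ H} (hy : y ∈ localCenter H M)
    (h2 : y * y = y) {θ : IrrCharacter H} (hθ : θ ∈ idemSupp y) :
    blockOf M (θ : H → ℂ) ⊆ idemSupp y := by
  apply blockOf_subset_of_local
  · intro g
    rw [← coeff_blockElt, ← eq_blockElt_idemSupp hy.1 h2]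
    exact hy.2 g
  · exact hθ

lemma isPBlock_eq_blockOf [M.IsPrime] {f : Set (IrrCharacter H)} (hf : IsPBlock M f)
    {θ : IrrCharacter H} (hθ : θ ∈ f) : f = blockOf M (θ : H → ℂ) := by
  obtain ⟨χ, rfl⟩ := hf
  exact (blockOf_eq_of_mem hθ).symm

end Idem

section Orbit

variable {G : Type u} [Group G] [Fintype G] {M : Ideal AlgInt} [hM : M.IsPrime]
variable {p : ℕ} [Fact p.Prime]

/-- The union of the `X`-conjugates of a set of irreducible characters of `K`. -/
def orbitU (X K : Subgroup G) (hX : X ≤ Subgroup.normalizer (K : Set G)) (e : Set (IrrCharacter K)) :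
    Set (IrrCharacter K) :=
  {θ | ∃ u : X, θ ∈ conjB (u : G) (map_conj_of_mem_normalizer (hX u.2)) e}

omit [Fintype G] hM in
lemma subset_orbitU [Finite G] (X K : Subgroup G) (hX : X ≤ Subgroup.normalizer (K : Set G)) (e : Set (IrrCharacter K)) :
    e ⊆ orbitU X K hX e := by
  intro θ hθ
  refine ⟨1, ?_⟩
  have : conjB ((1 : X) : G) (map_conj_of_mem_normalizer (hX (1 : X).2)) e = e :=
    conjB_of_mem K.one_mem _ e
  rw [this]
  exact hθ

omit hM in
lemma conjB_orbitU (X K : Subgroup G) (hX : X ≤ Subgroup.normalizer (K : Set G)) (e : Set (IrrCharacter K))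
    (v : X) : conjB (v : G) (map_conj_of_mem_normalizer (hX v.2)) (orbitU X K hX e) = orbitU X K hX e := by
  have hsub : ∀ v : X, conjB (v : G) (map_conj_of_mem_normalizer (hX v.2)) (orbitU X K hX e) ⊆
      orbitU X K hX e := by
    rintro v θ ⟨χ, ⟨u, hu⟩, rfl⟩
    refine ⟨v * u, ?_⟩
    have h : conjB ((v * u : X) : G) (map_conj_of_mem_normalizer (hX (v * u).2)) e =
        conjB (v : G) (map_conj_of_mem_normalizer (hX v.2))
          (conjB (u : G) (map_conj_of_mem_normalizer (hX u.2)) e) :=
      conjB_mul (map_conj_of_mem_normalizer (hX v.2)) (map_conj_of_mem_normalizer (hX u.2))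
        (map_conj_of_mem_normalizer (hX (v * u).2)) e
    rw [h]
    exact irrComap_mem_blockMap _ hu
  refine Set.eq_of_subset_of_ncard_le (hsub v) (ncard_conjB _ _).ge (Set.toFinite _)

omit hM in
lemma stabilizesBlock_orbitU (X K : Subgroup G) (hX : X ≤ Subgroup.normalizer (K : Set G))
    (e : Set (IrrCharacter K)) {v : G} (hv : v ∈ X) : StabilizesBlock K (orbitU X K hX e) v := by
  rw [stabilizesBlock_iff]
  exact ⟨hX hv, conjB_orbitU X K hX e ⟨v, hv⟩⟩

lemma orbitU_union {X K : Subgroup G} {hX : X ≤ Subgroup.normalizer (K : Set G)} {e : Set (IrrCharacter K)}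
    (he : IsPBlock M e) {θ : IrrCharacter K} (hθ : θ ∈ orbitU X K hX e) :
    blockOf M (θ : K → ℂ) ⊆ orbitU X K hX e := by
  classical
  letI : Fintype K := Fintype.ofFinite K
  obtain ⟨u, hu⟩ := hθ
  rw [← isPBlock_eq_blockOf (isPBlock_conjB he) hu]
  intro ψ hψ
  exact ⟨u, hψ⟩

lemma locCoeff_EE_of_union {K : Subgroup G} {U : Set (IrrCharacter K)}
    (hU : ∀ θ ∈ U, blockOf M (θ : K → ℂ) ⊆ U) : LocCoeff M (EE K U) := by
  classical
  letI : Fintype K := Fintype.ofFinite K
  have h1 := blockElt_mem_localCenter_of_union hU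
  intro g
  rw [coeff_EE]
  by_cases hg : g ∈ K
  · rw [subgroupBlockCoeff_of_mem _ hg]
    have := h1.2 ⟨g, hg⟩
    simpa using this
  · rw [subgroupBlockCoeff_of_notMem _ hg]
    exact memLocalRing_zero

/-- The block of `X` attached to the `X`-orbit of a block of `C_G(Q)`: its idempotent is the sum of the
idempotents in the orbit. -/
theorem exists_block_orbitU (hMp : IsPModular p M) {Q X : Subgroup G} (hQ : IsPGroup p Q) (hQX : Q ≤ X)
    (hCX : Subgroup.centralizer (Q : Set G) ≤ X) (hXN : X ≤ Subgroup.normalizer (Q : Set G))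
    (hXK : X ≤ Subgroup.normalizer ((Subgroup.centralizer (Q : Set G) : Subgroup G) : Set G))
    {e : Set (IrrCharacter (Subgroup.centralizer (Q : Set G)))} (he : IsPBlock M e) :
    ∃ F : Set (IrrCharacter X), IsPBlock M F ∧
      ∀ t : X, blockCoeff F t = subgroupBlockCoeff (Subgroup.centralizer (Q : Set G))
        (orbitU X (Subgroup.centralizer (Q : Set G)) hXK e) t := by
  classical
  obtain ⟨θ₀, hθ₀⟩ := isPBlock_nonempty he
  set U := orbitU X (Subgroup.centralizer (Q : Set G)) hXK e with hU
  have hUu : ∀ θ ∈ U, blockOf M (θ : _ → ℂ) ⊆ U := fun θ hθ => orbitU_union he hθ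
  have hyloc : LocCoeff M (EE (Subgroup.centralizer (Q : Set G)) U) := locCoeff_EE_of_union hUu
  have hyX : InvBy X (EE (Subgroup.centralizer (Q : Set G)) U) :=
    invBy_EE_of_stab fun u hu => stabilizesBlock_orbitU X _ hXK e hu
  have hsupp : ∀ x, x ∉ X → (EE (Subgroup.centralizer (Q : Set G)) U).coeff x = 0 := by
    intro x hx
    rw [coeff_EE, subgroupBlockCoeff_of_notMem]
    exact fun h => hx (hCX h)
  have hpush : push X (res X (EE (Subgroup.centralizer (Q : Set G)) U)) =
      EE (Subgroup.centralizer (Q : Set G)) U := push_res X hsupp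
  -- the element of the local center of `X`
  have hyXc : res X (EE (Subgroup.centralizer (Q : Set G)) U) ∈ localCenter X M := by
    refine ⟨fun x y => ?_, fun x => ?_⟩
    · rw [coeff_res, coeff_res]
      have : ((y * x * y⁻¹ : X) : G) = (y : G) * x * (y : G)⁻¹ := by simp
      rw [this]
      exact hyX _ _ y.2
    · rw [coeff_res]
      exact hyloc _
  have hidem : res X (EE (Subgroup.centralizer (Q : Set G)) U) * res X (EE (Subgroup.centralizer (Q : Set G)) U) =
      res X (EE (Subgroup.centralizer (Q : Set G)) U) := by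
    have h1 : push X (res X (EE (Subgroup.centralizer (Q : Set G)) U) * res X (EE (Subgroup.centralizer (Q : Set G)) U)) =
        push X (res X (EE (Subgroup.centralizer (Q : Set G)) U)) := by
      rw [push_mul, hpush, EE_mul_self]
    have h2 := congrArg (res X) h1
    rwa [res_push, res_push] at h2
  have hyeq := eq_blockElt_idemSupp hyXc.1 hidem
  set A := idemSupp (res X (EE (Subgroup.centralizer (Q : Set G)) U)) with hA
  -- `A` is not empty
  have hθU : θ₀ ∈ U := subset_orbitU _ _ _ _ hθ₀
  have hne : ∃ χ₀, χ₀ ∈ A := by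
    by_contra hcon
    push Not at hcon
    have h1 : A = ∅ := Set.eq_empty_of_forall_notMem hcon
    rw [h1] at hyeq
    have h2 : EE (Subgroup.centralizer (Q : Set G)) U = 0 := by
      rw [← hpush, hyeq]
      apply ext_coeff
      intro g
      by_cases hg : g ∈ X
      · have := coeff_push_coe X (blockElt (∅ : Set (IrrCharacter X))) ⟨g, hg⟩
        simp only at this
        rw [this, coeff_blockElt]
        simp [blockCoeff]
      · rw [coeff_push_of_notMem X _ hg]
        simp
    have h3 := res_EE (Subgroup.centralizer (Q : Set G)) U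
    rw [h2] at h3
    have h4 := omega_blockElt_of_mem hθU
    rw [← h3] at h4
    have h5 : res (Subgroup.centralizer (Q : Set G)) (0 : MonoidAlgebra ℂ G) = 0 := by
      apply ext_coeff
      intro g
      simp
    rw [h5, omega_zero] at h4
    exact zero_ne_one h4
  obtain ⟨χ₀, hχ₀⟩ := hne
  -- the block
  have hFA : blockOf M (χ₀ : X → ℂ) ⊆ A := idemSupp_union hyXc hidem hχ₀
  have hFb : IsPBlock M (blockOf M (χ₀ : X → ℂ)) := ⟨χ₀, rfl⟩
  refine ⟨_, hFb, ?_⟩
  set F := blockOf M (χ₀ : X → ℂ) with hF
  have heF := blockElt_mem_localCenter hFb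
  -- the support of `z`
  have hzK : ∀ x, x ∉ Subgroup.centralizer (Q : Set G) → (push X (blockElt F)).coeff x = 0 := by
    intro x hx
    by_cases hxX : x ∈ X
    · have h1 := coeff_push_coe X (blockElt F) ⟨x, hxX⟩
      simp only at h1
      rw [h1, coeff_blockElt]
      haveI hQn : (Q.subgroupOf X).Normal :=
        (Subgroup.normal_subgroupOf_iff_le_normalizer hQX).mpr hXN
      haveI hKn : ((Subgroup.centralizer (Q : Set G)).subgroupOf X).Normal :=
        (Subgroup.normal_subgroupOf_iff_le_normalizer hCX).mpr hXK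
      refine Cfsg.Agent.Lib.Blocks.CentSupport.blockCoeff_eq_zero_of_notMem hMp (Q.subgroupOf X)
        (hQ.comap_of_injective _ (Subgroup.subtype_injective _))
        ((Subgroup.centralizer (Q : Set G)).subgroupOf X) ?_ hFb ?_
      · intro t ht
        rw [Subgroup.mem_subgroupOf, Subgroup.mem_centralizer_iff]
        intro q hq
        have h2 := Subgroup.mem_centralizer_iff.mp ht ⟨q, hQX hq⟩ (Subgroup.mem_subgroupOf.mpr hq)
        exact congrArg Subtype.val h2
      · rw [Subgroup.mem_subgroupOf]
        exact hx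
    · rw [coeff_push_of_notMem X _ hxX]
  have hzpush := push_res (Subgroup.centralizer (Q : Set G)) hzK
  set y' := res (Subgroup.centralizer (Q : Set G)) (push X (blockElt F)) with hy'
  -- the invariance of `z`
  have hzX : InvBy X (push X (blockElt F)) := by
    intro x u hu
    by_cases hx : x ∈ X
    · have h1 := coeff_push_coe X (blockElt F) ⟨x, hx⟩
      have h2 := coeff_push_coe X (blockElt F) (⟨u, hu⟩ * ⟨x, hx⟩ * ⟨u, hu⟩⁻¹)
      simp only [Subgroup.coe_mul, Subgroup.coe_inv] at h1 h2
      rw [h1, h2]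
      exact heF.1 _ _
    · have hux : u * x * u⁻¹ ∉ X := fun h => hx (by
        have := X.mul_mem (X.mul_mem (X.inv_mem hu) h) hu
        simpa [mul_assoc] using this)
      rw [coeff_push_of_notMem X _ hx, coeff_push_of_notMem X _ hux]
  have hzloc : LocCoeff M (push X (blockElt F)) := by
    intro x
    by_cases hx : x ∈ X
    · have h1 := coeff_push_coe X (blockElt F) ⟨x, hx⟩
      simp only at h1
      rw [h1]
      exact heF.2 _
    · rw [coeff_push_of_notMem X _ hx]
      exact memLocalRing_zero
  have hy'c : y' ∈ localCenter (Subgroup.centralizer (Q : Set G)) M := by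
    refine ⟨fun x y => ?_, fun x => ?_⟩
    · rw [hy', coeff_res, coeff_res]
      have : ((y * x * y⁻¹ : Subgroup.centralizer (Q : Set G)) : G) = (y : G) * x * (y : G)⁻¹ := by simp
      rw [this]
      exact hzX _ _ (hCX y.2)
    · rw [hy', coeff_res]
      exact hzloc _
  have hFF : blockElt F * blockElt F = blockElt F := blockElt_mul_self F
  have hy'idem : y' * y' = y' := by
    have h1 : push (Subgroup.centralizer (Q : Set G)) (y' * y') = push (Subgroup.centralizer (Q : Set G)) y' := by
      rw [push_mul, hzpush, ← push_mul, hFF]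
    have h2 := congrArg (res (Subgroup.centralizer (Q : Set G))) h1
    rwa [res_push, res_push] at h2
  have hy'eq := eq_blockElt_idemSupp hy'c.1 hy'idem
  set A' := idemSupp y' with hA'
  have hzEE : push X (blockElt F) = EE (Subgroup.centralizer (Q : Set G)) A' := by
    rw [EE_eq_push, ← hy'eq, hzpush]
  -- `A' ⊆ U`
  have hzy : push X (blockElt F) * EE (Subgroup.centralizer (Q : Set G)) U = push X (blockElt F) := by
    rw [← hpush, ← push_mul, hyeq, blockElt_mul, Set.inter_eq_left.mpr hFA]
  have hA'U : A' ⊆ U := by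
    rw [hzEE, EE_mul] at hzy
    have h1 := congrArg (res (Subgroup.centralizer (Q : Set G))) hzy
    rw [res_EE, res_EE] at h1
    have h2 := blockElt_injective h1
    exact Set.inter_eq_left.mp h2
  -- `A'` is nonempty
  have hA'ne : ∃ θ, θ ∈ A' := by
    by_contra hcon
    push Not at hcon
    have h1 : A' = ∅ := Set.eq_empty_of_forall_notMem hcon
    rw [h1, EE_empty] at hzEE
    have h2 := congrArg (res X) hzEE
    rw [res_push] at h2
    have h3 : blockElt F = 0 := by
      rw [h2]
      apply ext_coeff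
      intro g
      simp
    have h4 := omega_blockElt_of_mem (mem_blockOf_self (M := M) χ₀)
    rw [← hF, h3, omega_zero] at h4
    exact zero_ne_one h4
  obtain ⟨θ₁, hθ₁⟩ := hA'ne
  -- `A'` is stable
  have hA'st : ∀ u : X, conjB (u : G) (map_conj_of_mem_normalizer (hXK u.2)) A' = A' := by
    intro u
    have h1 : EE (Subgroup.centralizer (Q : Set G)) (conjB (u : G) (map_conj_of_mem_normalizer (hXK u.2)) A') =
        EE (Subgroup.centralizer (Q : Set G)) A' := by
      apply ext_coeff
      intro g
      have h2 := coeff_EE_conjB (map_conj_of_mem_normalizer (hXK u.2)) A' ((u : G)⁻¹ * g * u)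
      have h3 : (u : G) * ((u : G)⁻¹ * g * u) * (u : G)⁻¹ = g := by group
      rw [h3] at h2
      rw [h2, ← hzEE]
      have h4 := hzX ((u : G)⁻¹ * g * u) u u.2
      rw [h3] at h4
      exact h4.symm
    have h2 := congrArg (res (Subgroup.centralizer (Q : Set G))) h1
    rw [res_EE, res_EE] at h2
    exact blockElt_injective h2
  -- `U ⊆ A'`
  have hUA' : U ⊆ A' := by
    obtain ⟨u, hu⟩ := hA'U hθ₁
    have h1 : conjB (u : G) (map_conj_of_mem_normalizer (hXK u.2)) e ⊆ A' := by
      rw [isPBlock_eq_blockOf (isPBlock_conjB he) hu]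
      exact idemSupp_union hy'c hy'idem hθ₁
    rintro θ ⟨v, hv⟩
    have h2 : conjB (v : G) (map_conj_of_mem_normalizer (hXK v.2)) e =
        conjB ((v * u⁻¹ : X) : G) (map_conj_of_mem_normalizer (hXK (v * u⁻¹ : X).2))
          (conjB (u : G) (map_conj_of_mem_normalizer (hXK u.2)) e) := by
      rw [← conjB_mul (map_conj_of_mem_normalizer (hXK (v * u⁻¹ : X).2)) (map_conj_of_mem_normalizer (hXK u.2))
        (by simpa using map_conj_of_mem_normalizer (hXK (v * u⁻¹ * u : X).2))]
      exact conjB_congr (by simp) _ _ _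
    rw [h2] at hv
    have h3 := hA'st (v * u⁻¹)
    rw [← h3]
    obtain ⟨χ, hχ, rfl⟩ := hv
    exact irrComap_mem_blockMap _ (h1 hχ)
  have hAU : A' = U := Set.Subset.antisymm hA'U hUA'
  -- conclusion
  have hfinal : push X (blockElt F) = EE (Subgroup.centralizer (Q : Set G)) U := by
    rw [hzEE, hAU]
  intro t
  have h1 := coeff_push_coe X (blockElt F) t
  rw [hfinal, coeff_EE, coeff_blockElt] at h1
  exact h1.symm

end Orbit

end Cfsg.Agent.Lib.Blocks.Pairs
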