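/-
Brauer pairs: growth of pairs, maximal pairs and defect groups.
-/
import Mathlib
import Cfsg.Agent.Lib.Blocks.Pairs5
import Cfsg.Agent.Lib.Blocks.BrauerCoeff
import Cfsg.Agent.Lib.Blocks.FirstMain
import Cfsg.Agent.Lib.Blocks.HeightZero
import Cfsg.Agent.S0912

set_option autoImplicit false

namespace Cfsg.Agent.Lib.Blocks.Pairs

open Cfsg Cfsg.Agent.Lib.Blocks.Local Cfsg.Agent.Lib.Blocks.Central Cfsg.Agent.Lib.Blocks.Osima
open Cfsg.Agent.Lib.Blocks.Covering Cfsg.Agent.Lib.Blocks.BrauerMap Cfsg.Agent.Lib.Blocks.Transport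
open Cfsg.Agent.Lib.Blocks.BlockHom Cfsg.Agent.Lib.Blocks.Twisted

universe u

section Growth

variable {G : Type u} [Group G] [Fintype G] {M : Ideal AlgInt} [hM : M.IsPrime]
variable {p : ℕ} [Fact p.Prime]

/-- **Growth of pairs.** A nonzero coefficient at an element centralizing `S` gives a pair on `S`. -/
theorem exists_normal_subpair_of_coeff (hMp : IsPModular p M) {Q S : Subgroup G} (hS : IsPGroup p S)
    (hQS : Q ≤ S) (hSN : S ≤ Subgroup.normalizer (Q : Set G))
    {f : Set (IrrCharacter (Subgroup.centralizer (Q : Set G)))} (hf : IsPBlock M f)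
    (hst : ∀ u ∈ S, StabilizesBlock (Subgroup.centralizer (Q : Set G)) f u) {x : G}
    (hxS : x ∈ Subgroup.centralizer (S : Set G))
    (hx : ¬ MemLocalIdeal M ((EE (Subgroup.centralizer (Q : Set G)) f).coeff x)) :
    ∃ h : Set (IrrCharacter (Subgroup.centralizer (S : Set G))), IsNormalSubpair p M Q f S h := by
  classical
  have hdom : BrDom M S (EE (Subgroup.centralizer (Q : Set G)) f) :=
    ⟨locCoeff_EE hf, invBy_EE_of_stab hst, (invBy_EE_self _ _).mono (Subgroup.centralizer_le hQS)⟩
  have hy := res_mem_localCenter hdom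
  -- some central character does not vanish
  have hex : ∃ ξ₀ : IrrCharacter (Subgroup.centralizer (S : Set G)),
      ¬ MemLocalIdeal M (bv S (ξ₀ : _ → ℂ) (EE (Subgroup.centralizer (Q : Set G)) f)) := by
    by_contra hcon
    push Not at hcon
    obtain ⟨t, ht0, ht⟩ := Cfsg.Agent.Lib.Blocks.SecondMain.exists_pow_coeffIn_of_omega hy hcon
    obtain ⟨s, rfl⟩ : ∃ s, t = s + 1 := ⟨t - 1, by omega⟩
    have h2 : CoeffIn (localIdeal M) (res (Subgroup.centralizer (S : Set G)) (EE (Subgroup.centralizer (Q : Set G)) f) -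
        res (Subgroup.centralizer (S : Set G)) (EE (Subgroup.centralizer (Q : Set G)) f) *
        res (Subgroup.centralizer (S : Set G)) (EE (Subgroup.centralizer (Q : Set G)) f)) := by
      rw [coeffIn_localIdeal_iff]
      intro h
      have := res_mul_sub_coeff hMp hS hdom.loc hdom.invP hdom.loc hdom.invP h
      rwa [EE_mul_self] at this
    have h3 := Cfsg.Agent.Lib.Blocks.BrauerCoeff.coeffIn_pow_sub_of
      (coeffIn_top_iff.mpr hy.2) h2 s
    have h4 := ht.sub h3
    rw [sub_sub_cancel, coeffIn_localIdeal_iff] at h4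
    have h5 := h4 ⟨x, hxS⟩
    rw [coeff_res] at h5
    exact hx h5
  obtain ⟨ξ₀, hξ₀⟩ := hex
  have hone := (bv_idem hMp hS ξ₀.2 hdom (EE_mul_self _ f)).resolve_left hξ₀
  refine ⟨blockOf M (ξ₀ : _ → ℂ), ?_⟩
  rw [isNormalSubpair_iff]
  refine ⟨⟨hS.to_le hQS, hf⟩, ⟨hS, ⟨ξ₀, rfl⟩⟩, hQS, hSN, hst, fun ξ hξ => ?_⟩
  exact memLocalIdeal_bv_sub_one_of_mem ⟨ξ₀, rfl⟩ (mem_blockOf_self ξ₀) hξ hdom.loc hdom.invC hone

/-- Conversely a normal subpair gives a nonzero coefficient at an element centralizing `S`. -/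
theorem exists_coeff_of_normal_subpair {Q S : Subgroup G}
    {f : Set (IrrCharacter (Subgroup.centralizer (Q : Set G)))}
    {h : Set (IrrCharacter (Subgroup.centralizer (S : Set G)))} (hn : IsNormalSubpair p M Q f S h) :
    ∃ x ∈ Subgroup.centralizer (S : Set G),
      ¬ MemLocalIdeal M ((EE (Subgroup.centralizer (Q : Set G)) f).coeff x) := by
  classical
  obtain ⟨ξ, hξ⟩ := isPBlock_nonempty hn.2.1.2
  by_contra hcon
  push Not at hcon
  have h1 := memLocalIdeal_bv_of_coeff ξ.2 (IsNormalSubpair.brDom hn).invC hcon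
  have h2 := (isNormalSubpair_iff.mp hn).2.2.2.2.2 ξ hξ
  apply not_memLocalIdeal_one (M := M)
  have := memLocalIdeal_sub h1 h2
  simpa using this

end Growth

section Fixed

variable {G : Type u} [Group G] [Fintype G] {M : Ideal AlgInt} [hM : M.IsPrime]
variable {p : ℕ} [Fact p.Prime]

/-- The idempotent of an orbit is the sum of the idempotents of the blocks in the orbit. -/
lemma EE_orbitU_eq_sum {X K : Subgroup G} (hXK : X ≤ Subgroup.normalizer (K : Set G))
    {e : Set (IrrCharacter K)} (he : IsPBlock M e) (O : Finset (Blk M K))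
    (hO : ∀ b : Blk M K, b ∈ O ↔ ∃ u : X, b.1 = conjB (u : G) (map_conj_of_mem_normalizer (hXK u.2)) e) :
    EE K (orbitU X K hXK e) = ∑ b ∈ O, EE K b.1 := by
  classical
  letI : Fintype K := Fintype.ofFinite K
  have h1 : ∑ b ∈ O, EE K b.1 = push K (∑ b ∈ O, blockElt b.1) := by
    unfold push
    rw [map_sum]
    exact Finset.sum_congr rfl fun b _ => EE_eq_push K b.1
  rw [h1, EE_eq_push]
  congr 1
  refine eq_of_omega_eq' (isClassFunction_blockElt _) ?_ fun θ => ?_
  · refine fun x y => ?_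
    simp only [MonoidAlgebra.coeff_sum, Finsupp.finsetSum_apply, coeff_blockElt]
    refine Finset.sum_congr rfl fun f _ => ?_
    exact isClassFunction_blockCoeff _ _ _
  rw [omega_sum]
  by_cases hθ : θ ∈ orbitU X K hXK e
  · rw [omega_blockElt_of_mem hθ]
    obtain ⟨u, hu⟩ := hθ
    have hb : IsPBlock M (conjB (u : G) (map_conj_of_mem_normalizer (hXK u.2)) e) := isPBlock_conjB he
    rw [Finset.sum_eq_single (⟨_, hb⟩ : Blk M K)]
    · exact (omega_blockElt_of_mem hu).symm
    · rintro b _ hne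
      apply omega_blockElt_of_notMem
      intro h
      apply hne
      apply Subtype.ext
      rw [isPBlock_eq_blockOf b.2 h, ← isPBlock_eq_blockOf hb hu]
    · intro h
      exact absurd ((hO _).mpr ⟨u, rfl⟩) h
  · rw [omega_blockElt_of_notMem hθ]
    symm
    apply Finset.sum_eq_zero
    intro b hb
    apply omega_blockElt_of_notMem
    intro h
    apply hθ
    obtain ⟨u, hu⟩ := (hO b).mp hb
    refine ⟨u, ?_⟩
    rwa [← hu]

/-- **Fixed blocks in the orbit.** -/
theorem exists_stable_conj (hMp : IsPModular p M) {X K : Subgroup G} (hXK : X ≤ Subgroup.normalizer (K : Set G))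
    {e : Set (IrrCharacter K)} (he : IsPBlock M e) {D : Subgroup G} (hD : IsPGroup p D) (hDX : D ≤ X)
    {x : G} (hxD : x ∈ Subgroup.centralizer (D : Set G))
    (hx : ¬ MemLocalIdeal M ((EE K (orbitU X K hXK e)).coeff x)) :
    ∃ v : X, (∀ d ∈ D, StabilizesBlock K e ((v : G)⁻¹ * d * v)) ∧
      ¬ MemLocalIdeal M ((EE K e).coeff ((v : G)⁻¹ * x * v)) := by
  classical
  haveI hchar : CharP (localRing M ⧸ localIdeal M) p := charP_residue hMp
  let α := {b : Blk M K // ∃ u : X, b.1 = conjB (u : G) (map_conj_of_mem_normalizer (hXK u.2)) e}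
  have hDK : D ≤ Subgroup.normalizer (K : Set G) := hDX.trans hXK
  let act0 := blkAct (M := M) D K hDK
  have hsm0 : ∀ (d : D) (b : Blk M K), (d • b).1 = conjB (d : G) (map_conj_of_mem_normalizer (hDK d.2)) b.1 :=
    fun _ _ => rfl
  have hinv : ∀ (d : D) (b : α), ∃ u : X, (d • b.1).1 = conjB (u : G) (map_conj_of_mem_normalizer (hXK u.2)) e := by
    rintro d ⟨b, u, hu⟩
    refine ⟨⟨d, hDX d.2⟩ * u, ?_⟩
    rw [hsm0]
    simp only
    rw [hu]
    exact (conjB_mul (map_conj_of_mem_normalizer (hDK d.2)) (map_conj_of_mem_normalizer (hXK u.2))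
      (map_conj_of_mem_normalizer (hXK (⟨d, hDX d.2⟩ * u : X).2)) e).symm
  let _ : MulAction D α :=
    { smul := fun d b => ⟨d • b.1, hinv d b⟩
      one_smul := fun b => Subtype.ext (one_smul D b.1)
      mul_smul := fun u v b => Subtype.ext (mul_smul u v b.1) }
  have hsm : ∀ (d : D) (b : α), (d • b).1 = d • b.1 := fun _ _ => rfl
  have hloc : ∀ b : α, MemLocalRing M ((EE K b.1.1).coeff x) := fun b => locCoeff_EE b.1.2 x
  let ff : α → (localRing M ⧸ localIdeal M) := fun b => residue M ⟨_, hloc b⟩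
  have hff : ∀ (d : D) (b : α), ff (d • b) = ff b := by
    intro d b
    show residue M ⟨_, hloc (d • b)⟩ = residue M ⟨_, hloc b⟩
    congr 2
    show (EE K (d • b.1).1).coeff x = (EE K b.1.1).coeff x
    rw [hsm0]
    have h1 := coeff_EE_conjB (map_conj_of_mem_normalizer (hDK d.2)) b.1.1 x
    rwa [mem_centralizer_comm d.2 hxD] at h1
  have hsum1 := sum_eq_sum_fixed (F := localRing M ⧸ localIdeal M) hD ff hff
  -- the total sum
  let O : Finset (Blk M K) := Finset.univ.filter
    (fun b => ∃ u : X, b.1 = conjB (u : G) (map_conj_of_mem_normalizer (hXK u.2)) e)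
  have hsumE := EE_orbitU_eq_sum (M := M) hXK he O (fun b => by simp [O])
  have htot : ∑ b : α, (EE K b.1.1).coeff x = (EE K (orbitU X K hXK e)).coeff x := by
    rw [hsumE, MonoidAlgebra.coeff_sum, Finsupp.finsetSum_apply]
    exact (Finset.sum_subtype O (fun b => by simp [O]) (fun b => (EE K b.1).coeff x)).symm
  have hlocU : MemLocalRing M ((EE K (orbitU X K hXK e)).coeff x) :=
    locCoeff_EE_of_union (fun θ hθ => orbitU_union he hθ) x
  have htot2 : ∑ b, ff b = residue M ⟨_, hlocU⟩ := by
    rw [← map_sum]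
    congr 1
    apply Subtype.ext
    rw [AddSubmonoidClass.coe_finsetSum]
    exact htot
  have hne : ∑ b, ff b ≠ 0 := by
    rw [htot2]
    intro h0
    apply hx
    rwa [residue_eq_zero_iff] at h0
  -- so some fixed block has a nonzero value
  have hex : ∃ b : α, (∀ d : D, d • b = b) ∧ ff b ≠ 0 := by
    by_contra hcon
    push Not at hcon
    apply hne
    rw [hsum1]
    exact Finset.sum_eq_zero fun f hf => hcon f (Finset.mem_filter.mp hf).2
  obtain ⟨⟨⟨b, hb⟩, v, hv⟩, hfix, hb0⟩ := hex
  have hv' : b = conjB (v : G) (map_conj_of_mem_normalizer (hXK v.2)) e := hv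
  refine ⟨v, fun d hd => ?_, ?_⟩
  · -- stability
    have hvi : (v : G)⁻¹ * d * v ∈ Subgroup.normalizer (K : Set G) :=
      Subgroup.mul_mem _ (Subgroup.mul_mem _ (Subgroup.inv_mem _ (hXK v.2)) (hDK hd)) (hXK v.2)
    rw [stabilizesBlock_iff]
    refine ⟨hvi, ?_⟩
    have h1 : conjB d (map_conj_of_mem_normalizer (hDK hd)) b = b :=
      congrArg (fun c : α => c.1.1) (hfix ⟨d, hd⟩)
    rw [hv'] at h1
    have h2 := conjB_mul (map_conj_of_mem_normalizer (hDK hd)) (map_conj_of_mem_normalizer (hXK v.2))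
      (map_conj_of_mem_normalizer (Subgroup.mul_mem _ (hDK hd) (hXK v.2))) e
    rw [← h2] at h1
    have h3 : d * (v : G) = (v : G) * ((v : G)⁻¹ * d * v) := by group
    have h4 := conjB_mul (map_conj_of_mem_normalizer (hXK v.2)) (map_conj_of_mem_normalizer hvi)
      (map_conj_of_mem_normalizer (Subgroup.mul_mem _ (hXK v.2) hvi)) e
    rw [conjB_congr h3 _ (map_conj_of_mem_normalizer (Subgroup.mul_mem _ (hXK v.2) hvi)), h4] at h1
    have h5 := congrArg (conjB (v : G)⁻¹ (map_conj_of_mem_normalizer (Subgroup.inv_mem _ (hXK v.2)))) h1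
    have hcancel : ∀ s : Set (IrrCharacter K),
        conjB (v : G)⁻¹ (map_conj_of_mem_normalizer (Subgroup.inv_mem _ (hXK v.2)))
          (conjB (v : G) (map_conj_of_mem_normalizer (hXK v.2)) s) = s := by
      intro s
      have hm : (v : G)⁻¹ * v ∈ Subgroup.normalizer (K : Set G) :=
        Subgroup.mul_mem _ (Subgroup.inv_mem _ (hXK v.2)) (hXK v.2)
      rw [← conjB_mul (map_conj_of_mem_normalizer (Subgroup.inv_mem _ (hXK v.2))) (map_conj_of_mem_normalizer (hXK v.2))
        (map_conj_of_mem_normalizer hm)]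
      rw [conjB_congr (inv_mul_cancel (v : G)) (map_conj_of_mem_normalizer hm)
        (map_conj_of_mem_normalizer (Subgroup.le_normalizer K.one_mem))]
      exact conjB_of_mem K.one_mem _ s
    rw [hcancel, hcancel] at h5
    exact h5
  · -- the coefficient
    have h1 := coeff_EE_conjB (map_conj_of_mem_normalizer (hXK v.2)) e ((v : G)⁻¹ * x * v)
    have h2 : (v : G) * ((v : G)⁻¹ * x * v) * (v : G)⁻¹ = x := by group
    rw [h2, ← hv'] at h1
    rw [← h1]
    intro h0
    apply hb0
    show residue M _ = 0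
    rw [residue_eq_zero_iff]
    exact h0

end Fixed

section Over

variable {G : Type u} [Group G] [Fintype G] {M : Ideal AlgInt} [hM : M.IsPrime]
variable {p : ℕ} [Fact p.Prime]

omit hM in
lemma isClassFunction_pow {H : Type u} [Group H] [Fintype H] {y : MonoidAlgebra ℂ H}
    (hy : IsClassFunction H y.coeff) (t : ℕ) : IsClassFunction H (y ^ t).coeff := by
  induction t with
  | zero => rw [pow_zero]; exact isClassFunction_one
  | succ t ih => rw [pow_succ]; exact isClassFunction_mul ih hy

omit hM in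
lemma omega_pow {H : Type u} [Group H] [Fintype H] {χ : H → ℂ} (hχ : IsIrrCharacter H χ)
    {y : MonoidAlgebra ℂ H} (hy : IsClassFunction H y.coeff) (t : ℕ) :
    omega χ (y ^ t) = omega χ y ^ t := by
  induction t with
  | zero => rw [pow_zero, pow_zero, omega_one hχ]
  | succ t ih =>
    rw [pow_succ, pow_succ, omega_mul hχ (a := y ^ t) (b := y) (isClassFunction_pow hy t), ih]

/-- A block `F` of `X` with idempotent that of `U`: if the central character of a member of `U` does
not kill an element `w` of the local center of `X` supported in `K`, neither does a member of `F`. -/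
theorem not_memLocalIdeal_omega_of_over {K X : Subgroup G} (hKX : K ≤ X) [Fintype X] [Fintype K]
    {F : Set (IrrCharacter X)} {U : Set (IrrCharacter K)} (hF : IsPBlock M F)
    (hFU : ∀ t : X, blockCoeff F t = subgroupBlockCoeff K U t)
    {w : MonoidAlgebra ℂ X} (hw : w ∈ localCenter X M) (hwK : ∀ t : X, (t : G) ∉ K → w.coeff t = 0)
    {ξ : IrrCharacter K} (hξ : ξ ∈ U)
    (hval : ¬ MemLocalIdeal M (omega (ξ : K → ℂ) (res K (push X w))))
    {ψ : IrrCharacter X} (hψ : ψ ∈ F) : ¬ MemLocalIdeal M (omega (ψ : X → ℂ) w) := by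
  classical
  intro h0
  have he := blockElt_mem_localCenter hF
  have hy : blockElt F * w ∈ localCenter X M := (localCenter X M).mul_mem he hw
  have h1 : ∀ ψ' : IrrCharacter X, MemLocalIdeal M (omega (ψ' : X → ℂ) (blockElt F * w)) := by
    intro ψ'
    rw [omega_mul ψ'.2 he.1]
    by_cases hψ' : ψ' ∈ F
    · rw [omega_blockElt_of_mem hψ', one_mul]
      have hs : SameBlock M ψ.1 ψ'.1 := by
        rw [isPBlock_eq_blockOf hF hψ] at hψ'
        exact hψ'
      have h2 := memLocalIdeal_omega_sub ψ.2 ψ'.2 hs hw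
      have h3 := memLocalIdeal_sub h0 h2
      simpa using h3
    · rw [omega_blockElt_of_notMem hψ', zero_mul]
      exact memLocalIdeal_zero
  obtain ⟨t, -, ht⟩ := Cfsg.Agent.Lib.Blocks.SecondMain.exists_pow_coeffIn_of_omega hy h1
  rw [coeffIn_localIdeal_iff] at ht
  have hpF : push X (blockElt F) = EE K U := by
    apply ext_coeff
    intro g
    rw [coeff_EE]
    by_cases hg : g ∈ X
    · have := coeff_push_coe X (blockElt F) ⟨g, hg⟩
      simp only at this
      rw [this, coeff_blockElt, hFU]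
    · rw [coeff_push_of_notMem X _ hg, subgroupBlockCoeff_of_notMem]
      exact fun h => hg (hKX h)
  have hpw : push K (res K (push X w)) = push X w := by
    apply push_res
    intro x hx
    by_cases hxX : x ∈ X
    · have := coeff_push_coe X w ⟨x, hxX⟩
      simp only at this
      rw [this]
      exact hwK _ hx
    · exact coeff_push_of_notMem X _ hxX
  have hy2 : push K (blockElt U * res K (push X w)) = push X (blockElt F * w) := by
    rw [push_mul, hpw, ← EE_eq_push, ← hpF, ← push_mul]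
  have hr : res K (push X w) ∈ localCenter K M := by
    refine ⟨fun x y => ?_, fun x => ?_⟩
    · rw [coeff_res, coeff_res]
      have h2 := coeff_push_coe X w ⟨x, hKX x.2⟩
      have h3 := coeff_push_coe X w (⟨y, hKX y.2⟩ * ⟨x, hKX x.2⟩ * ⟨y, hKX y.2⟩⁻¹)
      simp only [Subgroup.coe_mul, Subgroup.coe_inv] at h2 h3
      simp only [Subgroup.coe_mul, Subgroup.coe_inv]
      rw [h2, h3]
      exact hw.1 _ _
    · rw [coeff_res]
      have h2 := coeff_push_coe X w ⟨x, hKX x.2⟩
      simp only at h2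
      rw [h2]
      exact hw.2 _
  have hcl : IsClassFunction K (blockElt U * res K (push X w)).coeff :=
    isClassFunction_mul (isClassFunction_blockElt U) hr.1
  have hcoef : ∀ c : K, MemLocalIdeal M (((blockElt U * res K (push X w)) ^ t).coeff c) := by
    intro c
    have h2 : push K ((blockElt U * res K (push X w)) ^ t) = push X ((blockElt F * w) ^ t) := by
      unfold push at hy2 ⊢
      rw [map_pow, map_pow, hy2]
    have h3 := coeff_push_coe K ((blockElt U * res K (push X w)) ^ t) c
    rw [h2] at h3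
    have h4 := coeff_push_coe X ((blockElt F * w) ^ t) ⟨c, hKX c.2⟩
    simp only at h4
    rw [← h3, h4]
    exact ht _
  have hclt : IsClassFunction K ((blockElt U * res K (push X w)) ^ t).coeff :=
    isClassFunction_pow hcl t
  have h2 := memLocalIdeal_omega_of_coeff ξ.2 hclt hcoef
  rw [omega_pow ξ.2 hcl, omega_mul ξ.2 (isClassFunction_blockElt U), omega_blockElt_of_mem hξ, one_mul] at h2
  have hpr : (localIdeal M).IsPrime := by
    rw [localIdeal_eq_maximalIdeal]
    infer_instance
  have hloc := memLocalRing_omega (M := M) ξ.2 hr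
  have h4 : (⟨_, hloc⟩ : localRing M) ^ t ∈ localIdeal M := by
    rw [mem_localIdeal]
    simpa using h2
  have h5 := hpr.mem_of_pow_mem _ h4
  rw [mem_localIdeal] at h5
  exact hval h5

/-- The block of the normalizer attached to a pair of `B` induces `B`. -/
theorem isInducedBlock_of_pair (hMp : IsPModular p M) {P : Subgroup G} {B : Set (IrrCharacter G)}
    {e U : Set (IrrCharacter (Subgroup.centralizer (P : Set G)))} (hBe : IsBrauerPairOf p M B P e)
    (heU : e ⊆ U) {F : Set (IrrCharacter (Subgroup.normalizer (P : Set G)))} (hF : IsPBlock M F)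
    (hFU : ∀ t : Subgroup.normalizer (P : Set G), blockCoeff F t =
      subgroupBlockCoeff (Subgroup.centralizer (P : Set G)) U t) :
    IsInducedBlock M (Subgroup.normalizer (P : Set G)) F B := by
  classical
  rw [isBrauerPairOf_iff] at hBe
  obtain ⟨⟨hP, he⟩, hB, hval⟩ := hBe
  obtain ⟨ψ, hψ⟩ := isPBlock_nonempty hF
  obtain ⟨ξ₀, hξ₀⟩ := isPBlock_nonempty he
  have hCX : Subgroup.centralizer (P : Set G) ≤ Subgroup.normalizer (P : Set G) :=
    Cfsg.Agent.Lib.Blocks.FirstMain.centralizer_le_normalizer' P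
  have hPX : P ≤ Subgroup.normalizer (P : Set G) := Subgroup.le_normalizer
  obtain ⟨χ, hχ⟩ := exists_irr_of_brauer hMp hP hCX le_rfl ψ.2
  have hχB : χ ∈ B := by
    by_contra hcon
    have hel := blockElt_mem_localCenter hB
    have h1 := hχ ⟨blockElt B, hel⟩
    simp only at h1
    rw [omega_blockElt_of_notMem hcon, sub_zero] at h1
    refine not_memLocalIdeal_omega_of_over hCX hF hFU
      (brauer_mem_localCenter le_rfl hel) ?_ (heU hξ₀) ?_ hψ h1
    · intro t ht
      rw [coeff_brauer, if_neg ht]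
    · have h2 : res (Subgroup.centralizer (P : Set G))
          (push (Subgroup.normalizer (P : Set G)) (brauer P (Subgroup.normalizer (P : Set G)) (blockElt B))) =
          res (Subgroup.centralizer (P : Set G)) (blockElt B) := by
        apply ext_coeff
        intro c
        rw [coeff_res, coeff_res]
        have := coeff_push_coe (Subgroup.normalizer (P : Set G))
          (brauer P (Subgroup.normalizer (P : Set G)) (blockElt B)) ⟨c, hCX c.2⟩
        simp only at this
        rw [this, coeff_brauer, if_pos c.2]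
      rw [h2]
      intro h3
      have h4 := hval ξ₀ hξ₀
      apply not_memLocalIdeal_one (M := M)
      have h5 := memLocalIdeal_sub h3 h4
      simpa [bv] using h5
  have h1 := Cfsg.Agent.Lib.Blocks.BrauerCoeff.isInducedBlock_of_brauer hMp hP hPX le_rfl hχ
  rwa [← isPBlock_eq_blockOf hF hψ, ← isPBlock_eq_blockOf hB hχB] at h1

/-- Coefficients of `B` on `C_G(R)` for a pair `(R, g)` of `B`. -/
theorem exists_coeff_of_pair {R : Subgroup G} {B : Set (IrrCharacter G)}
    {g : Set (IrrCharacter (Subgroup.centralizer (R : Set G)))} (hBg : IsBrauerPairOf p M B R g) :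
    ∃ x ∈ Subgroup.centralizer (R : Set G), ¬ MemLocalIdeal M (blockCoeff B x) := by
  classical
  rw [isBrauerPairOf_iff] at hBg
  obtain ⟨⟨hR, hg⟩, hB, hval⟩ := hBg
  obtain ⟨ξ, hξ⟩ := isPBlock_nonempty hg
  by_contra hcon
  push Not at hcon
  have h1 : MemLocalIdeal M (bv R (ξ : _ → ℂ) (blockElt B)) := by
    apply memLocalIdeal_bv_of_coeff ξ.2 (brDom_blockElt hB).invC
    intro x hx
    rw [coeff_blockElt]
    exact hcon x hx
  apply not_memLocalIdeal_one (M := M)
  have h2 := memLocalIdeal_sub h1 (hval ξ hξ)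
  simpa using h2

omit hM in
/-- A `p`-subgroup centralizing an element with nonzero coefficient of a block is contained in a defect
group. -/
theorem exists_le_conj_of_coeff (hMp : IsPModular p M) {H : Type u} [Group H] [Fintype H]
    {B : Set (IrrCharacter H)} (hB : IsPBlock M B) {D : Subgroup H} (hD : IsDefectGroup p M B D) {x : H}
    (hx : ¬ MemLocalIdeal M (blockCoeff B x)) {R : Subgroup H} (hR : IsPGroup p R)
    (hRx : R ≤ Subgroup.centralizer ({x} : Set H)) :
    ∃ y : H, R ≤ D.map (MulAut.conj y).toMonoidHom := by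
  haveI : M.IsPrime := hMp.2.1.isPrime
  obtain ⟨g₀, hg₀, S, rfl⟩ := hD
  obtain ⟨x', Q, hQ⟩ := (Cfsg.Agent.Lib.Blocks.Defect.min_max hMp B hB g₀ hg₀ S x).1
    (memLocalRing_blockCoeff hB x) hx
  obtain ⟨y, hy⟩ := Cfsg.Agent.Lib.Blocks.Defect.exists_le_map_conj Q hR hRx
  refine ⟨y * x', hy.trans ?_⟩
  intro a ha
  obtain ⟨b, hb, rfl⟩ := ha
  obtain ⟨c, hc, rfl⟩ := hQ hb
  refine ⟨c, hc, ?_⟩
  show y * x' * c * (y * x')⁻¹ = y * (x' * c * x'⁻¹) * y⁻¹
  group

/-- The order of the subgroup of a pair of `B` is at most the order of a defect group. -/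
theorem card_le_of_pair (hMp : IsPModular p M) {R D : Subgroup G} {B : Set (IrrCharacter G)}
    {g : Set (IrrCharacter (Subgroup.centralizer (R : Set G)))} (hBg : IsBrauerPairOf p M B R g)
    (hD : IsDefectGroup p M B D) : Nat.card R ≤ Nat.card D := by
  obtain ⟨x, hx, hx'⟩ := exists_coeff_of_pair hBg
  obtain ⟨y, hy⟩ := exists_le_conj_of_coeff hMp hBg.2.1 hD hx' hBg.1.1
    (Cfsg.Agent.Lib.Blocks.Defect.le_centralizer_singleton_iff.2 hx)
  calc Nat.card R ≤ Nat.card (D.map (MulAut.conj y).toMonoidHom) := Subgroup.card_le_of_le hy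
    _ = Nat.card D := Cfsg.Agent.S0916.card_map_conj y D

/-- **The block of the normalizer has `P` as a defect group**, for `(P, e)` a maximal pair of `B`. -/
theorem isDefectGroup_normalizer_of_maximal (hMp : IsPModular p M) {B : Set (IrrCharacter G)} {P : Subgroup G}
    {e : Set (IrrCharacter (Subgroup.centralizer (P : Set G)))}
    (hmax : IsMaximalBrauerPair p M B P e) {F : Set (IrrCharacter (Subgroup.normalizer (P : Set G)))}
    (hF : IsPBlock M F)
    (hFU : ∀ t : Subgroup.normalizer (P : Set G), blockCoeff F t =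
      subgroupBlockCoeff (Subgroup.centralizer (P : Set G))
        (orbitU (Subgroup.normalizer (P : Set G)) (Subgroup.centralizer (P : Set G))
          (normalizer_le_normalizer_centralizer P) e) t) :
    IsDefectGroup p M F (P.subgroupOf (Subgroup.normalizer (P : Set G))) := by
  classical
  obtain ⟨hBe, hmaxR⟩ := hmax
  have he : IsPBlock M e := hBe.1.2
  have hP : IsPGroup p P := hBe.1.1
  obtain ⟨x, hx⟩ := exists_isDefectClass hF
  obtain ⟨S⟩ : Nonempty (Sylow p (Subgroup.centralizer ({x} : Set (Subgroup.normalizer (P : Set G))))) := inferInstance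
  set D₀ : Subgroup (Subgroup.normalizer (P : Set G)) :=
    (S : Subgroup (Subgroup.centralizer ({x} : Set (Subgroup.normalizer (P : Set G))))).map
      (Subgroup.centralizer ({x} : Set (Subgroup.normalizer (P : Set G)))).subtype with hD₀
  have hdef : IsDefectGroup p M F D₀ := ⟨x, hx, S, rfl⟩
  set D : Subgroup G := D₀.map (Subgroup.normalizer (P : Set G)).subtype with hD
  have hD₀p : IsPGroup p D₀ := Cfsg.Agent.Lib.Blocks.Defect.isPGroup_sylow_map S
  have hDp : IsPGroup p D := hD₀p.map _
  have hDX : D ≤ Subgroup.normalizer (P : Set G) := Subgroup.map_subtype_le _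
  have hxD : (x : G) ∈ Subgroup.centralizer (D : Set G) := by
    rw [Subgroup.mem_centralizer_iff]
    rintro _ ⟨d, hd, rfl⟩
    have h1 := Cfsg.Agent.Lib.Blocks.Defect.sylow_map_le S hd
    have h2 := Cfsg.Agent.Lib.Blocks.Defect.mem_centralizer_singleton_iff.1 h1
    exact congrArg Subtype.val h2
  have hxcoef : ¬ MemLocalIdeal M ((EE (Subgroup.centralizer (P : Set G))
      (orbitU (Subgroup.normalizer (P : Set G)) (Subgroup.centralizer (P : Set G))
          (normalizer_le_normalizer_centralizer P) e)).coeff x) := by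
    rw [coeff_EE, ← hFU]
    exact hx.2.1
  obtain ⟨v, hst, hvc⟩ := exists_stable_conj hMp (normalizer_le_normalizer_centralizer P) he hDp hDX hxD hxcoef
  -- `P ≤ D`
  have hPD₀ : P.subgroupOf (Subgroup.normalizer (P : Set G)) ≤ D₀ := by
    have hn : (P.subgroupOf (Subgroup.normalizer (P : Set G))).Normal :=
      (Subgroup.normal_subgroupOf_iff_le_normalizer Subgroup.le_normalizer).mpr le_rfl
    have h1 := Cfsg.Agent.S0912.result p M hMp F hF D₀ hdef
    exact (Cfsg.Agent.Lib.Basic.PCore.le_pCore hn (hP.comap_of_injective _ (Subgroup.subtype_injective _))).trans h1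
  have hPD : P ≤ D := by
    intro a ha
    exact ⟨⟨a, Subgroup.le_normalizer ha⟩, hPD₀ (Subgroup.mem_subgroupOf.mpr ha), rfl⟩
  -- conjugating by `v⁻¹`
  set D₁ : Subgroup G := D.map (MulAut.conj (v : G)⁻¹).toMonoidHom with hD₁
  have hvinv : (v : G)⁻¹ ∈ Subgroup.normalizer (P : Set G) := Subgroup.inv_mem _ v.2
  have hPD₁ : P ≤ D₁ := by
    have h1 := Subgroup.map_mono (f := (MulAut.conj (v : G)⁻¹).toMonoidHom) hPD
    rwa [map_conj_of_mem_normalizer hvinv] at h1
  have hD₁p : IsPGroup p D₁ := isPGroup_map_conj _ hDp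
  have hD₁N : D₁ ≤ Subgroup.normalizer (P : Set G) := by
    rintro _ ⟨d, hd, rfl⟩
    exact Subgroup.mul_mem _ (Subgroup.mul_mem _ hvinv (hDX hd)) (Subgroup.inv_mem _ hvinv)
  have hst₁ : ∀ u ∈ D₁, StabilizesBlock (Subgroup.centralizer (P : Set G)) e u := by
    rintro _ ⟨d, hd, rfl⟩
    have := hst d hd
    have h2 : (MulAut.conj (v : G)⁻¹).toMonoidHom d = (v : G)⁻¹ * d * v := by
      show (v : G)⁻¹ * d * ((v : G)⁻¹)⁻¹ = _
      group
    rwa [h2]
  have hxD₁ : (v : G)⁻¹ * x * v ∈ Subgroup.centralizer (D₁ : Set G) := by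
    rw [Subgroup.mem_centralizer_iff]
    rintro _ ⟨d, hd, rfl⟩
    have h1 := Subgroup.mem_centralizer_iff.mp hxD d hd
    show (v : G)⁻¹ * d * ((v : G)⁻¹)⁻¹ * ((v : G)⁻¹ * x * v) = ((v : G)⁻¹ * x * v) * ((v : G)⁻¹ * d * ((v : G)⁻¹)⁻¹)
    calc (v : G)⁻¹ * d * ((v : G)⁻¹)⁻¹ * ((v : G)⁻¹ * x * v) = (v : G)⁻¹ * (d * x) * v := by group
      _ = (v : G)⁻¹ * (x * d) * v := by rw [h1]
      _ = _ := by group
  obtain ⟨h, hn⟩ := exists_normal_subpair_of_coeff hMp hD₁p hPD₁ hD₁N he hst₁ hxD₁ hvc
  have hB₁ := isBrauerPairOf_up hMp hBe hn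
  have heq : D₁ = P := hmaxR _ _ hB₁ (Relation.ReflTransGen.single hn)
  have hcard : Nat.card D ≤ Nat.card P := by
    rw [← heq, hD₁, Cfsg.Agent.S0916.card_map_conj]
  have hDP : D = P := (Subgroup.eq_of_le_of_card_ge hPD hcard).symm
  have hfinal : D₀ = P.subgroupOf (Subgroup.normalizer (P : Set G)) := by
    ext d
    rw [Subgroup.mem_subgroupOf]
    have h1 : (d : G) ∈ D ↔ d ∈ D₀ := ⟨fun ⟨d', hd', he⟩ => by
      have : d' = d := Subtype.ext he
      rwa [← this], fun hd => ⟨d, hd, rfl⟩⟩
    rw [← h1, hDP]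
  rwa [hfinal] at hdef

/-- **S4659**: the subgroup of a maximal Brauer pair is a defect group. -/
theorem isDefectGroup_of_maximal (hMp : IsPModular p M) {B : Set (IrrCharacter G)} {P : Subgroup G}
    {e : Set (IrrCharacter (Subgroup.centralizer (P : Set G)))}
    (hmax : IsMaximalBrauerPair p M B P e) : IsDefectGroup p M B P := by
  classical
  have hBe := hmax.1
  obtain ⟨F, hF, hFU⟩ := exists_block_orbitU hMp hBe.1.1 Subgroup.le_normalizer
    (Cfsg.Agent.Lib.Blocks.FirstMain.centralizer_le_normalizer' P) le_rfl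
    (normalizer_le_normalizer_centralizer P) hBe.1.2
  have hdef := isDefectGroup_normalizer_of_maximal hMp hmax hF hFU
  have hind := isInducedBlock_of_pair hMp hBe (subset_orbitU _ _ _ _) hF hFU
  exact Cfsg.Agent.Lib.Blocks.FirstMain.isDefectGroup_of_induced hMp hBe.1.1 hF hBe.2.1 hind hdef

end Over

end Cfsg.Agent.Lib.Blocks.Pairs
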