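/-
Projective indecomposable lattices, without modules: conjugacy of primitive idempotents of the
local group ring, the trace attached to a conjugacy class of primitive idempotents.
-/
import Mathlib
import Cfsg.Agent.Lib.Blocks.BP2
import Cfsg.Agent.Lib.Blocks.NilpY
import Cfsg.Agent.Lib.Blocks.NilpExact

set_option autoImplicit false

namespace Cfsg.Agent.Lib.Blocks.Pim

open Cfsg Cfsg.Agent.Lib.Blocks.Local Cfsg.Agent.Lib.Blocks.Central Cfsg.Agent.Lib.Blocks.Osima
open Cfsg.Agent.Lib.Blocks.Covering Cfsg.Agent.Lib.Blocks.BlockHom Cfsg.Agent.Lib.Blocks.Pairs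
open Cfsg.Agent.Lib.Blocks.Twisted Cfsg.Agent.Lib.Blocks.Nilp

universe u

section Equiv

variable {G : Type u} [Group G] [Fintype G] {M : Ideal AlgInt} [hM : M.IsPrime]
variable {p : ℕ} [hp : Fact p.Prime]

lemma invBy_bot (a : MonoidAlgebra ℂ G) : InvBy ⊥ a := by
  intro x u hu
  rw [Subgroup.mem_bot.mp hu]
  simp

/-- Conjugacy of idempotents over the local ring. -/
def PEquiv (M : Ideal AlgInt) [M.IsPrime] (j k : MonoidAlgebra ℂ G) : Prop :=
  ∃ α β : MonoidAlgebra ℂ G, LocCoeff M α ∧ LocCoeff M β ∧ j * α = α ∧ α * k = α ∧ k * β = β ∧ β * j = β ∧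
    α * β = j ∧ β * α = k

lemma PEquiv.refl {j : MonoidAlgebra ℂ G} (hl : LocCoeff M j) (h2 : j * j = j) : PEquiv M j j :=
  ⟨j, j, hl, hl, h2, h2, h2, h2, h2, h2⟩

lemma PEquiv.symm {j k : MonoidAlgebra ℂ G} (h : PEquiv M j k) : PEquiv M k j := by
  obtain ⟨α, β, hα, hβ, h1, h2, h3, h4, h5, h6⟩ := h
  exact ⟨β, α, hβ, hα, h3, h4, h1, h2, h6, h5⟩

lemma PEquiv.trans {j k l : MonoidAlgebra ℂ G} (h : PEquiv M j k) (h' : PEquiv M k l) : PEquiv M j l := by
  obtain ⟨α, β, hα, hβ, h1, h2, h3, h4, h5, h6⟩ := h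
  obtain ⟨α', β', hα', hβ', h1', h2', h3', h4', h5', h6'⟩ := h'
  refine ⟨α * α', β' * β, hα.mul hα', hβ'.mul hβ, ?_, ?_, ?_, ?_, ?_, ?_⟩
  · rw [← mul_assoc, h1]
  · rw [mul_assoc, h2']
  · rw [← mul_assoc, h3']
  · rw [mul_assoc, h4]
  · calc α * α' * (β' * β) = α * (α' * β') * β := by simp only [mul_assoc]
      _ = α * k * β := by rw [h5']
      _ = j := by rw [h2, h5]
  · calc β' * β * (α * α') = β' * (β * α) * α' := by simp only [mul_assoc]
      _ = β' * k * α' := by rw [h6]
      _ = l := by rw [h4', h6']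

/-- A nonzero residue yields conjugacy. -/
theorem PEquiv.of_rsd (hMp : IsPModular p M) {j k α β : MonoidAlgebra ℂ G} (hj : IsPrimIdem M ⊥ j)
    (hk : IsPrimIdem M ⊥ k) (hα : LocCoeff M α) (hβ : LocCoeff M β) (h1 : j * α = α) (h2 : α * k = α)
    (h3 : k * β = β) (h4 : β * j = β) (hr : rsd M j (α * β) ≠ 0) : PEquiv M j k := by
  have hcor : Cor M ⊥ j (α * β) :=
    ⟨hα.mul hβ, invBy_bot _, by rw [← mul_assoc, h1], by rw [mul_assoc, h4]⟩
  obtain ⟨v, hv, hv1, hv2⟩ := hj.exists_inv_of_rsd hMp hcor hr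
  have h5 : α * (β * v) = j := by rw [← mul_assoc]; exact hv1
  have h3' : k * (β * v) = β * v := by rw [← mul_assoc, h3]
  have h4' : (β * v) * j = β * v := by rw [mul_assoc, hv.right]
  have hl' : LocCoeff M (β * v) := hβ.mul hv.loc
  set β' := β * v with hβ'
  set e := β' * α with he
  have hee : e * e = e := by
    calc β' * α * (β' * α) = β' * (α * β') * α := by simp only [mul_assoc]
      _ = β' * j * α := by rw [h5]
      _ = β' * α := by rw [h4']
  have hke : k * e = e := by rw [he, ← mul_assoc, h3']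
  have hek : e * k = e := by rw [he, mul_assoc, h2]
  have hne : e ≠ 0 := by
    intro h0
    apply hj.ne
    calc j = j * j := hj.idem.symm
      _ = (α * β') * (α * β') := by rw [h5]
      _ = α * (β' * α) * β' := by simp only [mul_assoc]
      _ = 0 := by rw [← he, h0]; simp
  have hel : LocCoeff M e := hl'.mul hα
  have hkl := hk.loc
  have hsubl : LocCoeff M (k - e) := hkl.sub hel
  have h1e : (k - e) * (k - e) = k - e := by
    rw [mul_sub, sub_mul, sub_mul, hk.idem, hke, hek, hee]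
    abel
  have h2e : e * (k - e) = 0 := by rw [mul_sub, hek, hee, sub_self]
  have h3e : (k - e) * e = 0 := by rw [sub_mul, hke, hee, sub_self]
  rcases hk.prim e (k - e) hel (invBy_bot _) hsubl (invBy_bot _) hee h1e h2e h3e (add_sub_cancel e k) with h | h
  · exact absurd h hne
  · exact ⟨α, β', hα, hl', h1, h2, h3', h4', h5, (sub_eq_zero.mp h).symm⟩

/-- Cross terms between non-conjugate primitive idempotents vanish. -/
lemma rsd_mul_eq_zero (hMp : IsPModular p M) {j k : MonoidAlgebra ℂ G} (hj : IsPrimIdem M ⊥ j)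
    (hk : IsPrimIdem M ⊥ k) (hn : ¬ PEquiv M j k) {a b : MonoidAlgebra ℂ G} (ha : LocCoeff M a)
    (hb : LocCoeff M b) : rsd M j (a * k * b) = 0 := by
  by_contra h
  apply hn
  refine PEquiv.of_rsd hMp hj hk (α := j * a * k) (β := k * b * j) ((hj.loc.mul ha).mul hk.loc)
    ((hk.loc.mul hb).mul hj.loc) ?_ ?_ ?_ ?_ ?_
  · rw [← mul_assoc, ← mul_assoc, hj.idem]
  · rw [mul_assoc, hk.idem]
  · rw [← mul_assoc, ← mul_assoc, hk.idem]
  · rw [mul_assoc, hj.idem]
  · have e : rsd M j (j * a * k * (k * b * j)) = rsd M j (a * k * b) := by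
      apply rsd_congr_sandwich hj.idem
      calc j * (j * a * k * (k * b * j)) * j = (j * j) * a * (k * k) * b * (j * j) := by
            simp only [mul_assoc]
        _ = j * (a * k * b) * j := by rw [hj.idem, hk.idem]; simp only [mul_assoc]
    rwa [e]

/-- The trace relation between primitive corners. -/
lemma rsd_mul_cross (hMp : IsPModular p M) {j k : MonoidAlgebra ℂ G} (hj : IsPrimIdem M ⊥ j)
    (hk : IsPrimIdem M ⊥ k) {a b : MonoidAlgebra ℂ G} (ha : LocCoeff M a) (hb : LocCoeff M b) :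
    rsd M j (a * k * b) = rsd M k (b * j * a) := by
  have e1 : rsd M j (j * a * k * (k * b * j)) = rsd M j (a * k * b) := by
    apply rsd_congr_sandwich hj.idem
    calc j * (j * a * k * (k * b * j)) * j = (j * j) * a * (k * k) * b * (j * j) := by
          simp only [mul_assoc]
      _ = j * (a * k * b) * j := by rw [hj.idem, hk.idem]; simp only [mul_assoc]
  have e2 : rsd M k (k * b * j * (j * a * k)) = rsd M k (b * j * a) := by
    apply rsd_congr_sandwich hk.idem
    calc k * (k * b * j * (j * a * k)) * k = (k * k) * b * (j * j) * a * (k * k) := by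
          simp only [mul_assoc]
      _ = k * (b * j * a) * k := by rw [hj.idem, hk.idem]; simp only [mul_assoc]
  rw [← e1, ← e2]
  refine hj.rsd_cross hMp hk ((hj.loc.mul ha).mul hk.loc) (invBy_bot _) ((hk.loc.mul hb).mul hj.loc)
    (invBy_bot _) ?_ ?_ ?_ ?_
  · rw [← mul_assoc, ← mul_assoc, hj.idem]
  · rw [mul_assoc, hk.idem]
  · rw [← mul_assoc, ← mul_assoc, hk.idem]
  · rw [mul_assoc, hj.idem]

/-- Scalars pull out of the residue. -/
lemma rsd_scalar (hMp : IsPModular p M) {j a : MonoidAlgebra ℂ G} (hj : IsPrimIdem M ⊥ j)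
    (ha : LocCoeff M a) (q : localRing M) :
    rsd M j (iL q * a) = residue M q * rsd M j a := by
  obtain ⟨l, hl, hr⟩ := hj.exists_rsd hMp ha (invBy_bot a)
  have h1 : IsRes M j (iL q * a) (q * l) := by
    have e : j * (iL q * a) * j - iL (q * l) * j = iL q * (j * a * j - iL l * j) := by
      have e1 : j * iL q = iL q * j := (iL_comm q j).symm
      rw [iL_mul, mul_sub]
      congr 1
      · rw [← mul_assoc, e1]
        simp only [mul_assoc]
      · rw [mul_assoc]
    rw [IsRes, e]
    exact Nl.scalar q (((hj.loc.mul ha).mul hj.loc).sub ((locCoeff_algebraMap l).mul hj.loc)) hl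
  rw [hj.rsd_eq hMp ((locCoeff_algebraMap q).mul ha) h1, hr, map_mul]

/-- The trace attached to a class of primitive idempotents. -/
noncomputable def tauC (M : Ideal AlgInt) [M.IsPrime] (J : Finset (MonoidAlgebra ℂ G))
    (c a : MonoidAlgebra ℂ G) : localRing M ⧸ localIdeal M := by
  classical
  exact ∑ j ∈ J.filter (fun j => PEquiv M j c), rsd M j a

lemma tauC_def (J : Finset (MonoidAlgebra ℂ G)) (c a : MonoidAlgebra ℂ G) [DecidablePred (fun j => PEquiv M j c)] :
    tauC M J c a = ∑ j ∈ J.filter (fun j => PEquiv M j c), rsd M j a := by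
  unfold tauC
  congr

lemma tauC_sum (hMp : IsPModular p M) {y : MonoidAlgebra ℂ G} {J : Finset (MonoidAlgebra ℂ G)}
    (hJ : Dec M ⊥ y J) (c : MonoidAlgebra ℂ G) {ι : Type*} (s : Finset ι) (f : ι → MonoidAlgebra ℂ G)
    (hf : ∀ i ∈ s, LocCoeff M (f i)) : tauC M J c (∑ i ∈ s, f i) = ∑ i ∈ s, tauC M J c (f i) := by
  classical
  simp only [tauC_def]
  rw [Finset.sum_comm]
  refine Finset.sum_congr rfl fun j hj => ?_
  exact (hJ.prim j (Finset.mem_filter.mp hj).1).rsd_sum hMp s f hf (fun i _ => invBy_bot _)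

lemma tauC_scalar (hMp : IsPModular p M) {y : MonoidAlgebra ℂ G} {J : Finset (MonoidAlgebra ℂ G)}
    (hJ : Dec M ⊥ y J) (c : MonoidAlgebra ℂ G) (q : localRing M) {a : MonoidAlgebra ℂ G} (ha : LocCoeff M a) :
    tauC M J c (iL q * a) = residue M q * tauC M J c a := by
  classical
  simp only [tauC_def]
  rw [Finset.mul_sum]
  refine Finset.sum_congr rfl fun j hj => ?_
  exact rsd_scalar hMp (hJ.prim j (Finset.mem_filter.mp hj).1) ha q

open Classical in
/-- Residues on a decomposition. -/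
lemma tauC_prim (hMp : IsPModular p M) {y : MonoidAlgebra ℂ G} {J : Finset (MonoidAlgebra ℂ G)}
    (hJ : Dec M ⊥ y J) (c : MonoidAlgebra ℂ G) {r : MonoidAlgebra ℂ G} (hr : r ∈ J) :
    tauC M J c r = if PEquiv M r c then 1 else 0 := by
  classical
  simp only [tauC_def]
  have hz : ∀ j ∈ J.filter (fun j => PEquiv M j c), j ≠ r → rsd M j r = 0 := by
    intro j hj hne
    have hj' := (Finset.mem_filter.mp hj).1
    have hjp := hJ.prim j hj'
    have : rsd M j r = rsd M j 0 := by
      apply rsd_congr_sandwich hjp.idem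
      rw [hJ.orth j hj' r hr hne]
      simp
    rw [this, hjp.rsd_zero hMp]
  by_cases hc : PEquiv M r c
  · rw [if_pos hc, Finset.sum_eq_single r hz]
    · exact (hJ.prim r hr).rsd_self hMp
    · intro h
      exact absurd (Finset.mem_filter.mpr ⟨hr, hc⟩) h
  · rw [if_neg hc]
    refine Finset.sum_eq_zero fun j hj => hz j hj ?_
    rintro rfl
    exact hc (Finset.mem_filter.mp hj).2

/-- Expansion of a residue along the decomposition. -/
lemma rsd_mul_eq_sum (hMp : IsPModular p M) {y : MonoidAlgebra ℂ G} {J : Finset (MonoidAlgebra ℂ G)}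
    (hJ : Dec M ⊥ y J) {c j : MonoidAlgebra ℂ G} (hj : IsPrimIdem M ⊥ j) (hjc : PEquiv M j c)
    {a b : MonoidAlgebra ℂ G} (ha : LocCoeff M a) (hb : LocCoeff M b) (hay : a * y = a)
    [DecidablePred (fun k => PEquiv M k c)] :
    rsd M j (a * b) = ∑ k ∈ J.filter (fun k => PEquiv M k c), rsd M j (a * k * b) := by
  classical
  have e : a * b = ∑ k ∈ J, a * k * b := by
    rw [← Finset.sum_mul, ← Finset.mul_sum, hJ.sum, hay]
  rw [e, hj.rsd_sum hMp J _ (fun k hk => (ha.mul (hJ.prim k hk).loc).mul hb) (fun _ _ => invBy_bot _)]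
  rw [Finset.sum_filter]
  refine Finset.sum_congr rfl fun k hk => ?_
  split_ifs with h
  · rfl
  · exact rsd_mul_eq_zero hMp hj (hJ.prim k hk) (fun h' => h (h'.symm.trans hjc)) ha hb

/-- The class trace is a trace. -/
theorem tauC_comm (hMp : IsPModular p M) {y : MonoidAlgebra ℂ G} {J : Finset (MonoidAlgebra ℂ G)}
    (hJ : Dec M ⊥ y J) (c : MonoidAlgebra ℂ G) {a b : MonoidAlgebra ℂ G} (ha : LocCoeff M a)
    (hb : LocCoeff M b) (hay : a * y = a) (hby : b * y = b) :
    tauC M J c (a * b) = tauC M J c (b * a) := by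
  classical
  simp only [tauC_def]
  calc ∑ j ∈ J.filter (fun j => PEquiv M j c), rsd M j (a * b)
      = ∑ j ∈ J.filter (fun j => PEquiv M j c), ∑ k ∈ J.filter (fun k => PEquiv M k c), rsd M j (a * k * b) :=
        Finset.sum_congr rfl fun j hj => rsd_mul_eq_sum hMp hJ (hJ.prim j (Finset.mem_filter.mp hj).1)
          (Finset.mem_filter.mp hj).2 ha hb hay
    _ = ∑ k ∈ J.filter (fun k => PEquiv M k c), ∑ j ∈ J.filter (fun j => PEquiv M j c), rsd M k (b * j * a) := by
        rw [Finset.sum_comm]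
        refine Finset.sum_congr rfl fun k hk => Finset.sum_congr rfl fun j hj => ?_
        exact rsd_mul_cross hMp (hJ.prim j (Finset.mem_filter.mp hj).1) (hJ.prim k (Finset.mem_filter.mp hk).1) ha hb
    _ = ∑ k ∈ J.filter (fun k => PEquiv M k c), rsd M k (b * a) :=
        Finset.sum_congr rfl fun k hk => (rsd_mul_eq_sum hMp hJ (hJ.prim k (Finset.mem_filter.mp hk).1)
          (Finset.mem_filter.mp hk).2 hb ha hby).symm

lemma locCoeff_single1 (x : G) : LocCoeff M (MonoidAlgebra.single x 1 : MonoidAlgebra ℂ G) := by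
  classical
  intro y
  by_cases h : x = y
  · subst h
    simpa using memLocalRing_one
  · simpa [MonoidAlgebra.coeff_single, Finsupp.single_apply, h] using memLocalRing_zero

/-- An integer multiple. -/
lemma coeff_iL (q : localRing M) (a : MonoidAlgebra ℂ G) (g : G) : (iL q * a).coeff g = (q : ℂ) * a.coeff g := by
  have : (iL q * a : MonoidAlgebra ℂ G) = (q : ℂ) • a := by
    rw [iL, Algebra.algebraMap_eq_smul_one, smul_mul_assoc, one_mul]
    rfl
  rw [this]
  simp

lemma single_eq_iL_mul (g : G) (q : localRing M) :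
    (MonoidAlgebra.single g (q : ℂ) : MonoidAlgebra ℂ G) = iL q * MonoidAlgebra.single g 1 := by
  apply ext_coeff
  intro x
  rw [coeff_iL]
  by_cases h : g = x
  · subst h
    simp
  · simp [MonoidAlgebra.coeff_single, Finsupp.single_apply, h]

/-- Splitting a corner element along the group. -/
lemma eq_sum_iL_mul {E w : MonoidAlgebra ℂ G} (hw : LocCoeff M w) (hEw : E * w = w) :
    w = ∑ g : G, iL (⟨w.coeff g, hw g⟩ : localRing M) * (E * MonoidAlgebra.single g 1) := by
  classical
  have h1 : w = ∑ g : G, MonoidAlgebra.single g (w.coeff g) := by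
    apply ext_coeff
    intro x
    have := coeff_ofFun (fun g => w.coeff g) x
    rw [ofFun] at this
    rw [this]
  calc w = E * w := hEw.symm
    _ = E * ∑ g : G, MonoidAlgebra.single g (w.coeff g) := by rw [← h1]
    _ = ∑ g : G, iL (⟨w.coeff g, hw g⟩ : localRing M) * (E * MonoidAlgebra.single g 1) := by
        rw [Finset.mul_sum]
        refine Finset.sum_congr rfl fun g _ => ?_
        have := single_eq_iL_mul (M := M) g ⟨w.coeff g, hw g⟩
        simp only at this
        rw [this, ← mul_assoc, ← mul_assoc, iL_comm]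

/-- The value of the class trace on a group element is a class function. -/
lemma tauC_conj (hMp : IsPModular p M) {E : MonoidAlgebra ℂ G}
    {J : Finset (MonoidAlgebra ℂ G)} (hJ : Dec M ⊥ E J) (hEl : LocCoeff M E) (hE2 : E * E = E)
    (hEc : ∀ a : MonoidAlgebra ℂ G, E * a = a * E) (c : MonoidAlgebra ℂ G) (s g : G) :
    tauC M J c (E * MonoidAlgebra.single (s * g * s⁻¹) 1) = tauC M J c (E * MonoidAlgebra.single g 1) := by
  have hs : ∀ x : G, LocCoeff M (MonoidAlgebra.single x 1 : MonoidAlgebra ℂ G) := fun x =>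
    locCoeff_single1 x
  have key := tauC_comm hMp hJ c (a := E * MonoidAlgebra.single s 1)
    (b := MonoidAlgebra.single (g * s⁻¹) 1 * E) (hEl.mul (hs _)) ((hs _).mul hEl)
    (by rw [mul_assoc, ← hEc, ← mul_assoc, hE2]) (by rw [mul_assoc, hE2])
  have e1 : E * MonoidAlgebra.single s 1 * (MonoidAlgebra.single (g * s⁻¹) 1 * E) =
      E * MonoidAlgebra.single (s * g * s⁻¹) 1 := by
    rw [mul_assoc, ← mul_assoc _ _ E, ← hEc, ← mul_assoc, ← mul_assoc, hE2, mul_assoc,
      MonoidAlgebra.single_mul_single, mul_one, mul_assoc]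
  have e2 : MonoidAlgebra.single (g * s⁻¹) 1 * E * (E * MonoidAlgebra.single s 1) =
      E * MonoidAlgebra.single g 1 := by
    rw [mul_assoc, ← mul_assoc E, hE2, ← mul_assoc, ← hEc, mul_assoc,
      MonoidAlgebra.single_mul_single, mul_one, inv_mul_cancel_right]
  rw [← e1, ← e2]
  exact key

/-- The class trace sees only the class sums. -/
theorem tauC_eq_zero_of_classTrace (hMp : IsPModular p M) {E : MonoidAlgebra ℂ G}
    {J : Finset (MonoidAlgebra ℂ G)} (hJ : Dec M ⊥ E J) (hEl : LocCoeff M E) (hE2 : E * E = E)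
    (hEc : ∀ a : MonoidAlgebra ℂ G, E * a = a * E) (c : MonoidAlgebra ℂ G)
    {w : MonoidAlgebra ℂ G} (hw : LocCoeff M w) (hEw : E * w = w)
    (hcl : ∀ g₀ : G, Cfsg.Agent.Lib.Blocks.Necklace.classTrace g₀ w = 0) : tauC M J c w = 0 := by
  classical
  have hs : ∀ x : G, LocCoeff M (E * MonoidAlgebra.single x 1 : MonoidAlgebra ℂ G) := fun x =>
    hEl.mul (locCoeff_single1 x)
  rw [eq_sum_iL_mul hw hEw, tauC_sum hMp hJ c _ _ (fun g _ => (locCoeff_algebraMap _).mul (hs g))]
  simp only [tauC_scalar hMp hJ c _ (hs _)]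
  rw [← Finset.sum_fiberwise Finset.univ (ConjClasses.mk : G → ConjClasses G)]
  refine Finset.sum_eq_zero fun C _ => ?_
  obtain ⟨g₀, rfl⟩ := ConjClasses.exists_rep C
  have hcj : ∀ g ∈ Finset.univ.filter (fun g : G => ConjClasses.mk g = ConjClasses.mk g₀),
      tauC M J c (E * MonoidAlgebra.single g 1) = tauC M J c (E * MonoidAlgebra.single g₀ 1) := by
    intro g hg
    have h1 := (Finset.mem_filter.mp hg).2
    obtain ⟨s, hs'⟩ := isConj_iff.mp (ConjClasses.mk_eq_mk_iff_isConj.mp h1)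
    rw [← hs']
    exact (tauC_conj hMp hJ hEl hE2 hEc c s g).symm
  have hcj' : ∀ g ∈ Finset.univ.filter (fun g : G => ConjClasses.mk g = ConjClasses.mk g₀),
      residue M (⟨w.coeff g, hw g⟩ : localRing M) * tauC M J c (E * MonoidAlgebra.single g 1) =
        residue M (⟨w.coeff g, hw g⟩ : localRing M) * tauC M J c (E * MonoidAlgebra.single g₀ 1) :=
    fun g hg => by rw [hcj g hg]
  rw [Finset.sum_congr rfl hcj', ← Finset.sum_mul, ← map_sum]
  have h0 : (∑ g ∈ Finset.univ.filter (fun g : G => ConjClasses.mk g = ConjClasses.mk g₀),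
      (⟨w.coeff g, hw g⟩ : localRing M)) = 0 := by
    apply Subtype.ext
    have h2 := hcl g₀
    rw [Cfsg.Agent.Lib.Blocks.Necklace.classTrace] at h2
    push_cast
    rw [Finset.sum_filter]
    refine Eq.trans (Finset.sum_congr rfl fun g _ => ?_) h2
    by_cases h : IsConj g₀ g
    · rw [if_pos h, if_pos (ConjClasses.mk_eq_mk_iff_isConj.mpr h.symm)]
    · rw [if_neg h, if_neg]
      intro h'
      exact h (ConjClasses.mk_eq_mk_iff_isConj.mp h').symm
  rw [h0, map_zero, zero_mul]

end Equiv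

end Cfsg.Agent.Lib.Blocks.Pim
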