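/-
Decomposition numbers as traces of primitive idempotents; decomposition of idempotents along a
fixed decomposition of a central idempotent; independence of the projective characters.
-/
import Mathlib
import Cfsg.Agent.Lib.Blocks.Pim1
import Cfsg.Agent.Lib.Blocks.BP3
import Cfsg.Agent.Lib.Blocks.Hattori
import Cfsg.Agent.Lib.Char.CompleteCor
import Cfsg.Agent.Lib.Char.Values

set_option autoImplicit false

namespace Cfsg.Agent.Lib.Blocks.Pim

open Cfsg Cfsg.Agent.Lib.Blocks.Local Cfsg.Agent.Lib.Blocks.Central Cfsg.Agent.Lib.Blocks.Osima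
open Cfsg.Agent.Lib.Blocks.Covering Cfsg.Agent.Lib.Blocks.BlockHom Cfsg.Agent.Lib.Blocks.Pairs
open Cfsg.Agent.Lib.Blocks.Twisted Cfsg.Agent.Lib.Blocks.Nilp
open scoped ComplexConjugate

universe u

section Two

variable {G : Type u} [Group G] [Fintype G] {M : Ideal AlgInt} [hM : M.IsPrime]
variable {p : ℕ} [hp : Fact p.Prime]

/-- The trace of a character on an idempotent is a natural number. -/
theorem exists_nat_twTrace_idem {χ : G → ℂ} (hχ : IsCharacter G χ) {y : MonoidAlgebra ℂ G} (hy : y * y = y) :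
    ∃ n : ℕ, twTrace χ 1 y = n := by
  have h := Cfsg.Agent.Lib.Blocks.Nilp.isCharacter_twTrace_idem hχ hy ⊥ (invBy_bot y)
  have h1 := Cfsg.Agent.Lib.Char.Values.IsCharacter.charDegree_cast h
  refine ⟨Cfsg.charDegree (fun a : (⊥ : Subgroup G) => twTrace χ 1 (MonoidAlgebra.single (a : G) (1 : ℂ) * y)), ?_⟩
  rw [h1]
  simp only [OneMemClass.coe_one]
  have : (MonoidAlgebra.single (1 : G) (1 : ℂ) : MonoidAlgebra ℂ G) = 1 := rfl
  rw [this, one_mul]

/-- Symmetry of the trace of a class function. -/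
lemma twTrace_comm {t : G → ℂ} (ht : IsClassFunction G t) (a b : MonoidAlgebra ℂ G) :
    twTrace t 1 (a * b) = twTrace t 1 (b * a) :=
  twTrace_mul_comm ht 1 a b (by intro x; simp)

lemma PEquiv.twTrace_eq {j k : MonoidAlgebra ℂ G} (h : PEquiv M j k) {t : G → ℂ}
    (ht : IsClassFunction G t) : twTrace t 1 j = twTrace t 1 k := by
  obtain ⟨α, β, -, -, -, -, -, -, h5, h6⟩ := h
  rw [← h5, ← h6]
  exact twTrace_comm ht α β

/-- A primitive idempotent below a sum is conjugate to a summand. -/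
theorem exists_equiv_of_prim (hMp : IsPModular p M) {E : MonoidAlgebra ℂ G}
    {J : Finset (MonoidAlgebra ℂ G)} (hJ : Dec M ⊥ E J) {k : MonoidAlgebra ℂ G} (hk : IsPrimIdem M ⊥ k)
    (hEk : E * k = k) : ∃ j ∈ J, PEquiv M k j := by
  classical
  by_contra hn
  push Not at hn
  have h1 : k = ∑ j ∈ J, k * j * k := by
    rw [← Finset.sum_mul, ← Finset.mul_sum, hJ.sum, mul_assoc, hEk, hk.idem]
  have h2 : rsd M k (∑ j ∈ J, k * j * k) = 1 := by
    rw [← h1]
    exact hk.rsd_self hMp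
  rw [hk.rsd_sum hMp J _ (fun j hj => (hk.loc.mul (hJ.prim j hj).loc).mul hk.loc)
    (fun _ _ => invBy_bot _)] at h2
  rw [Finset.sum_eq_zero (fun j hj => rsd_mul_eq_zero hMp hk (hJ.prim j hj) (hn j hj) hk.loc hk.loc)] at h2
  exact zero_ne_one h2

/-- Representatives for an equivalence on a finite set. -/
lemma exists_reps {X : Type*} [DecidableEq X] (J : Finset X) (r : X → X → Prop) (hsymm : ∀ a b, r a b → r b a)
    (htrans : ∀ a b c, r a b → r b c → r a c) (hrefl : ∀ a ∈ J, r a a) :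
    ∃ R ⊆ J, (∀ j ∈ J, ∃ a ∈ R, r j a) ∧ ∀ a ∈ R, ∀ b ∈ R, r a b → a = b := by
  classical
  induction J using Finset.induction_on with
  | empty => exact ⟨∅, subset_rfl, by simp, by simp⟩
  | insert a J' _ ih =>
    obtain ⟨R, hRJ, h1, h2⟩ := ih (fun b hb => hrefl b (Finset.mem_insert_of_mem hb))
    by_cases hex : ∃ c ∈ R, r a c
    · refine ⟨R, hRJ.trans (Finset.subset_insert _ _), ?_, h2⟩
      intro j hj
      rcases Finset.mem_insert.mp hj with rfl | hj'
      · exact hex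
      · exact h1 j hj'
    · refine ⟨insert a R, Finset.insert_subset_insert _ hRJ, ?_, ?_⟩
      · intro j hj
        rcases Finset.mem_insert.mp hj with rfl | hj'
        · exact ⟨j, Finset.mem_insert_self _ _, hrefl j (Finset.mem_insert_self _ _)⟩
        · obtain ⟨c, hc, hjc⟩ := h1 j hj'
          exact ⟨c, Finset.mem_insert_of_mem hc, hjc⟩
      · intro x hx y hy hxy
        rcases Finset.mem_insert.mp hx with rfl | hx' <;> rcases Finset.mem_insert.mp hy with rfl | hy'
        · rfl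
        · exact absurd ⟨y, hy', hxy⟩ hex
        · exact absurd ⟨x, hx', hsymm _ _ hxy⟩ hex
        · exact h2 x hx' y hy' hxy

/-- Representatives for conjugacy of primitive idempotents in a decomposition. -/
lemma exists_pim_reps {E : MonoidAlgebra ℂ G} {J : Finset (MonoidAlgebra ℂ G)} (hJ : Dec M ⊥ E J) :
    ∃ R ⊆ J, (∀ j ∈ J, ∃ a ∈ R, PEquiv M j a) ∧ ∀ a ∈ R, ∀ b ∈ R, PEquiv M a b → a = b := by
  classical
  exact exists_reps J (PEquiv M) (fun _ _ h => h.symm) (fun _ _ _ h h' => h.trans h')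
    (fun a ha => PEquiv.refl (hJ.prim a ha).loc (hJ.prim a ha).idem)

/-- Every idempotent of the corner decomposes along the representatives. -/
theorem exists_mult (hMp : IsPModular p M) {E : MonoidAlgebra ℂ G}
    {J R : Finset (MonoidAlgebra ℂ G)} (hJ : Dec M ⊥ E J)
    (hRJ : ∀ j ∈ J, ∃ a ∈ R, PEquiv M j a) (hEl : LocCoeff M E) (hE2 : E * E = E)
    (hEc : ∀ a : MonoidAlgebra ℂ G, E * a = a * E) {y : MonoidAlgebra ℂ G} (hyl : LocCoeff M y)
    (hy2 : y * y = y) :
    ∃ m : MonoidAlgebra ℂ G → ℕ, ∀ t : G → ℂ, IsClassFunction G t →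
      twTrace t 1 (y * E) = ∑ r ∈ R, (m r : ℂ) * twTrace t 1 r := by
  classical
  have hi : y * E * (y * E) = y * E := by
    calc y * E * (y * E) = y * (E * y) * E := by simp only [mul_assoc]
      _ = y * (y * E) * E := by rw [hEc]
      _ = (y * y) * (E * E) := by simp only [mul_assoc]
      _ = y * E := by rw [hy2, hE2]
  obtain ⟨K, hK⟩ := exists_dec (M := M) ⊥ (hyl.mul hEl) (invBy_bot _) hi
  have hk : ∀ k ∈ K, ∃ r ∈ R, PEquiv M k r := by
    intro k hk
    have hkp := hK.prim k hk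
    have hEk : E * k = k := by
      have h1 := hK.mul_left hk
      rw [← h1, ← mul_assoc, ← mul_assoc, hEc y, mul_assoc y E E, hE2]
    obtain ⟨j, hj, hkj⟩ := exists_equiv_of_prim hMp hJ hkp hEk
    obtain ⟨r, hr, hjr⟩ := hRJ j hj
    exact ⟨r, hr, hkj.trans hjr⟩
  choose! f hfR hf using hk
  refine ⟨fun r => (K.filter (fun k => f k = r)).card, ?_⟩
  intro t ht
  rw [← hK.sum, twTrace_sum, Finset.sum_congr rfl (fun k hk => (hf k hk).twTrace_eq ht)]
  rw [← Finset.sum_fiberwise_of_maps_to hfR]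
  refine Finset.sum_congr rfl fun r _ => ?_
  rw [Finset.sum_congr rfl (g := fun _ => twTrace t 1 r) (fun k hk => by rw [(Finset.mem_filter.mp hk).2]),
    Finset.sum_const, nsmul_eq_mul]

/-- The column orthogonality formula for traces. -/
theorem sum_conj_twTrace [Fintype (IrrCharacter G)] (g₀ : G) (w : MonoidAlgebra ℂ G) :
    ∑ χ : IrrCharacter G, conj ((χ : G → ℂ) g₀) * twTrace (χ : G → ℂ) 1 w =
      (Nat.card (Subgroup.centralizer ({g₀} : Set G)) : ℂ) * Necklace.classTrace g₀ w := by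
  classical
  simp only [twTrace, mul_one, Finset.mul_sum]
  rw [Finset.sum_comm, Necklace.classTrace, Finset.mul_sum]
  refine Finset.sum_congr rfl fun h _ => ?_
  have e : ∀ χ : IrrCharacter G, conj ((χ : G → ℂ) g₀) * (w.coeff h * (χ : G → ℂ) h) =
      w.coeff h * ((χ : G → ℂ) h * conj ((χ : G → ℂ) g₀)) := fun χ => by ring
  simp only [e, ← Finset.mul_sum]
  by_cases hc : IsConj g₀ h
  · have e2 : ∀ χ : IrrCharacter G, (χ : G → ℂ) h = (χ : G → ℂ) g₀ := by
      intro χ
      obtain ⟨c, hc'⟩ := isConj_iff.mp hc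
      rw [← hc']
      exact isClassFunction_of_irr χ.2 g₀ c
    simp only [e2]
    rw [if_pos hc, Cfsg.Agent.Lib.Char.CompleteCor.column_orth_conj (IsConj.refl g₀)]
    ring
  · rw [if_neg hc, Cfsg.Agent.Lib.Char.CompleteCor.column_orth_not_conj (fun h' => hc h'.symm)]
    ring

lemma classTrace_eq_zero_of_twTrace {w : MonoidAlgebra ℂ G}
    (h : ∀ χ : IrrCharacter G, twTrace (χ : G → ℂ) 1 w = 0) (g₀ : G) : Necklace.classTrace g₀ w = 0 := by
  classical
  letI : Fintype (IrrCharacter G) := Fintype.ofFinite _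
  have h1 := sum_conj_twTrace g₀ w
  simp only [h, mul_zero, Finset.sum_const_zero] at h1
  have h2 : (Nat.card (Subgroup.centralizer ({g₀} : Set G)) : ℂ) ≠ 0 := by
    exact_mod_cast Nat.card_pos.ne'
  exact (mul_eq_zero.mp h1.symm).resolve_left h2

lemma locCoeff_sum' {ι : Type*} (s : Finset ι) (f : ι → MonoidAlgebra ℂ G) (h : ∀ i ∈ s, LocCoeff M (f i)) :
    LocCoeff M (∑ i ∈ s, f i) := by
  classical
  induction s using Finset.induction_on with
  | empty => simpa using locCoeff_zero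
  | insert a s ha ih =>
    rw [Finset.sum_insert ha]
    exact (h a (Finset.mem_insert_self _ _)).add (ih fun i hi => h i (Finset.mem_insert_of_mem hi))

/-- Divisibility: the primitive idempotents in a system of representatives are independent modulo `p`. -/
theorem dvd_of_sum_eq_zero (hMp : IsPModular p M) {E : MonoidAlgebra ℂ G}
    {J R : Finset (MonoidAlgebra ℂ G)} (hJ : Dec M ⊥ E J) (hEl : LocCoeff M E) (hE2 : E * E = E)
    (hEc : ∀ a : MonoidAlgebra ℂ G, E * a = a * E) (hRs : R ⊆ J)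
    (hR : ∀ a ∈ R, ∀ b ∈ R, PEquiv M a b → a = b) (b : MonoidAlgebra ℂ G → ℤ)
    (hb : ∀ χ : IrrCharacter G, ∑ r ∈ R, (b r : ℂ) * twTrace (χ : G → ℂ) 1 r = 0) {c : MonoidAlgebra ℂ G}
    (hc : c ∈ R) : (p : ℤ) ∣ b c := by
  classical
  set w : MonoidAlgebra ℂ G := ∑ r ∈ R, iL ((b r : ℤ) : localRing M) * r with hw
  have hrl : ∀ r ∈ R, LocCoeff M r := fun r hr => (hJ.prim r (hRs hr)).loc
  have hwl : LocCoeff M w := locCoeff_sum' _ _ fun r hr => (locCoeff_algebraMap _).mul (hrl r hr)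
  have hEw : E * w = w := by
    rw [hw, Finset.mul_sum]
    refine Finset.sum_congr rfl fun r hr => ?_
    rw [← mul_assoc, ← iL_comm _ E, mul_assoc, hJ.mul_left (hRs hr)]
  have htw : ∀ χ : IrrCharacter G, twTrace (χ : G → ℂ) 1 w = 0 := by
    intro χ
    rw [hw, twTrace_sum, ← hb χ]
    refine Finset.sum_congr rfl fun r _ => ?_
    rw [twTrace_algebraMap_mul]
    norm_cast
  have h0 := tauC_eq_zero_of_classTrace hMp hJ hEl hE2 hEc c hwl hEw (classTrace_eq_zero_of_twTrace htw)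
  rw [hw, tauC_sum hMp hJ c _ _ (fun r hr => (locCoeff_algebraMap _).mul (hrl r hr))] at h0
  rw [Finset.sum_congr rfl (fun r hr => tauC_scalar hMp hJ c _ (hrl r hr))] at h0
  rw [Finset.sum_congr rfl (fun r hr => by rw [tauC_prim hMp hJ c (hRs hr)])] at h0
  rw [Finset.sum_eq_single c] at h0
  · rw [if_pos (PEquiv.refl (hrl c hc) (hJ.prim c (hRs hc)).idem), mul_one] at h0
    have h1 : ((b c : ℤ) : localRing M) ∈ localIdeal M := Ideal.Quotient.eq_zero_iff_mem.mp h0
    have h2 : MemLocalIdeal M ((b c : ℤ) : ℂ) := by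
      have h3 : MemLocalIdeal M ((((b c : ℤ) : localRing M) : localRing M) : ℂ) := h1
      simpa using h3
    exact (memLocalIdeal_intCast_iff hMp).mp h2
  · intro r hr hrc
    rw [if_neg (fun h => hrc (hR r hr c hc h)), mul_zero]
  · intro h
    exact absurd hc h

/-- The projective characters attached to representatives are linearly independent. -/
theorem eq_zero_of_sum_eq_zero (hMp : IsPModular p M) {E : MonoidAlgebra ℂ G}
    {J R : Finset (MonoidAlgebra ℂ G)} (hJ : Dec M ⊥ E J) (hEl : LocCoeff M E) (hE2 : E * E = E)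
    (hEc : ∀ a : MonoidAlgebra ℂ G, E * a = a * E) (hRs : R ⊆ J)
    (hR : ∀ a ∈ R, ∀ b ∈ R, PEquiv M a b → a = b) (b : MonoidAlgebra ℂ G → ℤ)
    (hb : ∀ χ : IrrCharacter G, ∑ r ∈ R, (b r : ℂ) * twTrace (χ : G → ℂ) 1 r = 0) {c : MonoidAlgebra ℂ G}
    (hc : c ∈ R) : b c = 0 := by
  have hpp : 2 ≤ p := hp.out.two_le
  have key : ∀ (n : ℕ) (b : MonoidAlgebra ℂ G → ℤ),
      (∀ χ : IrrCharacter G, ∑ r ∈ R, (b r : ℂ) * twTrace (χ : G → ℂ) 1 r = 0) →
      ∀ c ∈ R, ((p : ℤ) ^ n) ∣ b c := by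
    intro n
    induction n with
    | zero => intro b _ c _; simp
    | succ n ih =>
      intro b hb c hc
      have h1 : ∀ r ∈ R, b r = (p : ℤ) * (b r / p) := fun r hr =>
        (Int.mul_ediv_cancel' (dvd_of_sum_eq_zero hMp hJ hEl hE2 hEc hRs hR b hb hr)).symm
      have hp0 : (p : ℂ) ≠ 0 := by exact_mod_cast hMp.1.ne_zero
      have h2 : ∀ χ : IrrCharacter G, ∑ r ∈ R, (((b r / p : ℤ)) : ℂ) * twTrace (χ : G → ℂ) 1 r = 0 := by
        intro χ
        have h3 := hb χ
        rw [Finset.sum_congr rfl (fun r hr => by rw [h1 r hr])] at h3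
        push_cast at h3
        simp only [mul_assoc] at h3
        rw [← Finset.mul_sum] at h3
        exact (mul_eq_zero.mp h3).resolve_left hp0
      obtain ⟨d, hd⟩ := ih _ h2 c hc
      rw [h1 c hc, hd, pow_succ']
      exact ⟨d, by ring⟩
  have h1 := key ((b c).natAbs + 1) b hb c hc
  refine Int.eq_zero_of_abs_lt_dvd h1 ?_
  rw [Int.abs_eq_natAbs]
  have h2 : (b c).natAbs < p ^ ((b c).natAbs + 1) :=
    (Nat.lt_pow_self (by omega)).trans_le (Nat.pow_le_pow_right (by omega) (by omega))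
  exact_mod_cast h2

end Two

end Cfsg.Agent.Lib.Blocks.Pim
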