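/-
Brauer: a generalized character vanishing on the `p`-singular elements is an integral combination
of characters of idempotents of the local group ring.
-/
import Mathlib
import Cfsg.Agent.Lib.Blocks.Pim2
import Cfsg.Agent.Lib.Blocks.RegInt

set_option autoImplicit false

namespace Cfsg.Agent.Lib.Blocks.Pim

open Cfsg Cfsg.Agent.Lib.Blocks.Local Cfsg.Agent.Lib.Blocks.Central Cfsg.Agent.Lib.Blocks.Osima
open Cfsg.Agent.Lib.Blocks.Covering Cfsg.Agent.Lib.Blocks.BlockHom Cfsg.Agent.Lib.Blocks.Pairs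
open Cfsg.Agent.Lib.Blocks.Twisted Cfsg.Agent.Lib.Blocks.Nilp
open Cfsg.Agent.Lib.Char.Ortho Cfsg.Agent.Lib.Char.BrauerInd Cfsg.Agent.Lib.Char.Induced
open scoped ComplexConjugate

universe u

section Three

variable {G : Type u} [Group G] [Fintype G] {M : Ideal AlgInt} [hM : M.IsPrime]
variable {p : ℕ} [hp : Fact p.Prime]

/-- Characters of idempotents of the local group ring. -/
def PGen (M : Ideal AlgInt) [M.IsPrime] (G : Type u) [Group G] [Fintype G] : Set (G → ℂ) :=
  {F | IsClassFunction G F ∧ ∃ y : MonoidAlgebra ℂ G, LocCoeff M y ∧ y * y = y ∧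
    ∀ η : G → ℂ, IsClassFunction G η → classInner η F = twTrace η 1 y}

/-- Integral combinations of characters of idempotents. -/
def Pl (M : Ideal AlgInt) [M.IsPrime] (G : Type u) [Group G] [Fintype G] : AddSubgroup (G → ℂ) :=
  AddSubgroup.closure (PGen M G)

lemma locCoeff_push (K : Subgroup G) [Fintype K] {y : MonoidAlgebra ℂ K} (hy : LocCoeff M y) :
    LocCoeff M (push K y) := by
  intro x
  by_cases hx : x ∈ K
  · have := coeff_push_coe K y ⟨x, hx⟩
    simp only at this
    rw [this]
    exact hy _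
  · rw [coeff_push_of_notMem K _ hx]
    exact memLocalRing_zero

lemma twTrace_push (K : Subgroup G) [Fintype K] (η : G → ℂ) (y : MonoidAlgebra ℂ K) :
    twTrace η 1 (push K y) = twTrace (fun k : K => η k) 1 y := by
  classical
  simp only [twTrace, mul_one]
  symm
  refine Fintype.sum_of_injective (fun k : K => (k : G)) Subtype.val_injective _ _ ?_ ?_
  · intro g hg
    have : g ∉ K := fun h => hg ⟨⟨g, h⟩, rfl⟩
    rw [coeff_push_of_notMem K _ this, zero_mul]
  · intro k
    rw [coeff_push_coe]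

/-- Induction preserves the class. -/
theorem ind_mem_Pl (K : Subgroup G) [Fintype K] {F : K → ℂ} (hF : F ∈ Pl M K) : indFun K F ∈ Pl M G := by
  change indAdd K F ∈ Pl M G
  refine AddSubgroup.closure_induction (p := fun F _ => indAdd K F ∈ Pl M G) ?_ ?_ ?_ ?_ hF
  · rintro F ⟨-, y, hyl, hy2, hy⟩
    refine AddSubgroup.subset_closure ⟨indFun_isClassFunction K F, push K y, locCoeff_push K hyl, ?_, ?_⟩
    · rw [← push_mul, hy2]
    · intro η hη
      have h1 := frobenius_reciprocity K F η hη
      have hη' : IsClassFunction K (fun k : K => η k) := fun k s => by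
        have := hη (k : G) (s : G)
        simpa using this
      calc classInner η (indAdd K F) = conj (classInner (indFun K F) η) := (classInner_conj_symm _ _).symm
        _ = conj (classInner F (fun k : K => η k)) := by rw [h1]
        _ = classInner (fun k : K => η k) F := classInner_conj_symm _ _
        _ = twTrace (fun k : K => η k) 1 y := hy _ hη'
        _ = twTrace η 1 (push K y) := (twTrace_push K η y).symm
  · rw [map_zero]
    exact AddSubgroup.zero_mem _
  · intro a b _ _ ha hb
    rw [map_add]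
    exact AddSubgroup.add_mem _ ha hb
  · intro a _ ha
    rw [map_neg]
    exact AddSubgroup.neg_mem _ ha

lemma zsmul_mem_Pl {F : G → ℂ} (hF : F ∈ Pl M G) (n : ℤ) : (n : ℂ) • F ∈ Pl M G := by
  have : (n : ℂ) • F = n • F := by
    funext g
    simp
  rw [this]
  exact AddSubgroup.zsmul_mem _ hF n

/-- A linear character of a `p'`-group. -/
theorem linear_mem_Pl (hMp : IsPModular p M) (hK : ¬ p ∣ Nat.card G) (μ : G →* ℂˣ) :
    (fun k => ((μ k : ℂˣ) : ℂ)) ∈ Pl M G := by
  classical
  have hchar := Cfsg.Agent.Lib.Char.Basic.isCharacter_of_isIrrCharacter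
    (Cfsg.Agent.Lib.Char.LinearChars.isIrr_of_hom μ)
  have hne : (Nat.card G : ℂ) ≠ 0 := by exact_mod_cast Nat.card_pos.ne'
  set y : MonoidAlgebra ℂ G := ofFun (fun k => (Nat.card G : ℂ)⁻¹ * ((μ k⁻¹ : ℂˣ) : ℂ)) with hy
  have hc : ∀ k, y.coeff k = (Nat.card G : ℂ)⁻¹ * ((μ k⁻¹ : ℂˣ) : ℂ) := fun k => coeff_ofFun _ _
  refine AddSubgroup.subset_closure ⟨fun k s => ?_, y, ?_, ?_, ?_⟩
  · simp [map_mul, mul_comm]
  · intro k
    rw [hc]
    refine memLocalRing_mul (memLocalRing_inv_natCast hMp hK) (memLocalRing_of_isIntegral ?_)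
    refine IsIntegral.of_pow (n := orderOf k⁻¹) (orderOf_pos _) ?_
    rw [← Units.val_pow_eq_pow_val, ← map_pow, pow_orderOf_eq_one, map_one, Units.val_one]
    exact isIntegral_one
  · apply ext_coeff
    intro x
    rw [coeff_mul_eq_sum, hc]
    have e : ∀ a : G, y.coeff a * y.coeff (a⁻¹ * x) =
        (Nat.card G : ℂ)⁻¹ * ((Nat.card G : ℂ)⁻¹ * ((μ x⁻¹ : ℂˣ) : ℂ)) := by
      intro a
      rw [hc, hc]
      have : ((μ a⁻¹ : ℂˣ) : ℂ) * ((μ (a⁻¹ * x)⁻¹ : ℂˣ) : ℂ) = ((μ x⁻¹ : ℂˣ) : ℂ) := by
        rw [← Units.val_mul]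
        congr 1
        rw [mul_inv_rev, inv_inv, map_mul, map_inv, mul_comm (μ x⁻¹), inv_mul_cancel_left]
      calc _ = (Nat.card G : ℂ)⁻¹ * ((Nat.card G : ℂ)⁻¹ * (((μ a⁻¹ : ℂˣ) : ℂ) * ((μ (a⁻¹ * x)⁻¹ : ℂˣ) : ℂ))) := by ring
        _ = _ := by rw [this]
    simp only [e, Finset.sum_const, Finset.card_univ, ← Nat.card_eq_fintype_card, nsmul_eq_mul]
    field_simp
  · intro η _
    rw [Cfsg.Agent.Lib.Char.Complete.classInner_def]
    simp only [twTrace, mul_one, hc, Finset.mul_sum]
    refine Finset.sum_congr rfl fun k _ => ?_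
    have h1 : conj ((μ k : ℂˣ) : ℂ) = ((μ k⁻¹ : ℂˣ) : ℂ) := conj_of_isCharacter hchar k
    rw [h1]
    ring

/-- Characters of a `p'`-group. -/
theorem isCharacter_mem_Pl (hMp : IsPModular p M) (hG : ¬ p ∣ Nat.card G) {χ : G → ℂ} (hχ : IsCharacter G χ) :
    χ ∈ Pl M G := by
  classical
  obtain ⟨l, hl, rfl⟩ := exists_list_of_isCharacter hχ
  refine AddSubgroup.list_sum_mem _ ?_
  intro F hF
  obtain ⟨t, -, rfl⟩ := List.mem_map.mp hF
  refine zsmul_mem_Pl ?_ _
  letI : Fintype t.1 := Fintype.ofFinite _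
  refine ind_mem_Pl t.1 (linear_mem_Pl hMp ?_ t.2.1)
  intro h
  exact hG (h.trans (Subgroup.card_subgroup_dvd_card _))

lemma isGeneralized_mem_Pl (hMp : IsPModular p M) (hG : ¬ p ∣ Nat.card G) {χ : G → ℂ}
    (hχ : IsGeneralizedCharacter G χ) : χ ∈ Pl M G := by
  obtain ⟨a, b, ha, hb, rfl⟩ := hχ
  exact AddSubgroup.sub_mem _ (isCharacter_mem_Pl hMp hG ha) (isCharacter_mem_Pl hMp hG hb)

/-- The quotient map onto a normal complement. -/
lemma exists_retraction {E : Type u} [Group E] [Finite E] {H P : Subgroup E} [P.Normal] (hd : H ⊓ P = ⊥)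
    (hc : Nat.card H * Nat.card P = Nat.card E) : ∃ π : E →* H, ∀ h : H, π h = h := by
  classical
  let f : H →* E ⧸ P := (QuotientGroup.mk' P).comp H.subtype
  have hinj : Function.Injective f := by
    rw [injective_iff_map_eq_one]
    intro h hh
    have h1 : (h : E) ∈ P := by
      have : (QuotientGroup.mk' P) (h : E) = 1 := hh
      exact (QuotientGroup.eq_one_iff _).mp this
    have h2 : (h : E) ∈ H ⊓ P := ⟨h.2, h1⟩
    rw [hd] at h2
    exact Subtype.ext (Subgroup.mem_bot.mp h2)
  have hcard : Nat.card H = Nat.card (E ⧸ P) := by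
    have h1 := Subgroup.card_mul_index P
    have h2 : P.index = Nat.card (E ⧸ P) := rfl
    rw [← h2]
    have hpos : 0 < Nat.card P := Nat.card_pos
    apply Nat.eq_of_mul_eq_mul_right hpos
    rw [hc, mul_comm, h1]
  have hbij : Function.Bijective f := (Nat.bijective_iff_injective_and_card f).mpr ⟨hinj, hcard⟩
  let e : H ≃* E ⧸ P := MulEquiv.ofBijective f hbij
  refine ⟨e.symm.toMonoidHom.comp (QuotientGroup.mk' P), fun h => ?_⟩
  show e.symm (f h) = h
  exact e.symm_apply_apply h

/-- A normal `p`-complement of an elementary group, with a complement. -/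
lemma exists_complements {E : Type u} [Group E] [Finite E] {q : ℕ} (hq : q.Prime) (h : IsElementary q E) :
    ∃ H P : Subgroup E, H.Normal ∧ P.Normal ∧ ¬ p ∣ Nat.card H ∧ (∃ k, H.index = p ^ k) ∧ H ⊓ P = ⊥ ∧
      Nat.card H * Nat.card P = Nat.card E := by
  obtain ⟨H, hn, hH, k, hk⟩ := Cfsg.Agent.Lib.Blocks.RegLift.exists_normal_pComplement (p := p) hq h
  haveI := Fact.mk hq
  have hnil : Group.IsNilpotent E := IsElementary.isNilpotent hq h
  obtain ⟨S⟩ : Nonempty (Sylow p E) := inferInstance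
  have hS : (S : Subgroup E).Normal := inferInstance
  have hpp := hp.out
  have hcard : Nat.card H * p ^ k = Nat.card E := by
    rw [← hk]
    exact Subgroup.card_mul_index H
  have hS2 : Nat.card (S : Subgroup E) = p ^ k := by
    rw [Sylow.card_eq_multiplicity S, ← hcard]
    rw [Nat.factorization_mul Nat.card_pos.ne' (pow_pos hpp.pos k).ne', Finsupp.add_apply,
      Nat.factorization_eq_zero_of_not_dvd hH, zero_add, hpp.factorization_pow]
    simp
  refine ⟨H, S, hn, hS, hH, ⟨k, hk⟩, ?_, ?_⟩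
  · apply Subgroup.inf_eq_bot_of_coprime
    rw [hS2]
    exact Nat.Coprime.pow_right _ ((Nat.Prime.coprime_iff_not_dvd hpp).mpr hH).symm
  · rw [hS2, hcard]

/-- A generalized character of a group with normal `p`-complement vanishing off it. -/
theorem mem_Pl_of_vanish (hMp : IsPModular p M) {E : Type u} [Group E] [Fintype E] {H P : Subgroup E}
    [hHn : H.Normal] [hPn : P.Normal] (hH : ¬ p ∣ Nat.card H) (hd : H ⊓ P = ⊥)
    (hc : Nat.card H * Nat.card P = Nat.card E) {f : E → ℂ} (hf : IsGeneralizedCharacter E f)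
    (hv : ∀ e, e ∉ H → f e = 0) : f ∈ Pl M E := by
  classical
  letI : Fintype H := Fintype.ofFinite _
  obtain ⟨π, hπ⟩ := exists_retraction hd hc
  have hfc : IsClassFunction E f := by
    obtain ⟨a, b, ha, hb, rfl⟩ := hf
    intro g h
    have h1 := Cfsg.Agent.Lib.Char.Basic.isClassFunction_of_isCharacter ha g h
    have h2 := Cfsg.Agent.Lib.Char.Basic.isClassFunction_of_isCharacter hb g h
    simp only [Pi.sub_apply, h1, h2]
  set β : H → ℂ := fun h => (H.index : ℂ)⁻¹ * f h with hβdef
  have hidx : (Nat.card H : ℂ) * (H.index : ℂ) = Nat.card E := by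
    exact_mod_cast Subgroup.card_mul_index H
  have hH0 : (Nat.card H : ℂ) ≠ 0 := by exact_mod_cast Nat.card_pos.ne'
  have hI0 : (H.index : ℂ) ≠ 0 := by exact_mod_cast Subgroup.index_ne_zero_of_finite
  have hβc : IsClassFunction H β := by
    intro g h
    simp only [hβdef]
    have := hfc (g : E) (h : E)
    simp only [Subgroup.coe_mul, Subgroup.coe_inv]
    rw [this]
  have hβ : IsGeneralizedCharacter H β := by
    refine Cfsg.Agent.Lib.Blocks.RegInt.isGeneralized_of_forall_int hβc fun ξ => ?_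
    have hξ : IsCharacter H (ξ : H → ℂ) := Cfsg.Agent.Lib.Char.Basic.isCharacter_of_isIrrCharacter ξ.2
    have hξ' : IsCharacter E (fun e => (ξ : H → ℂ) (π e)) :=
      Cfsg.Agent.Lib.Char.Basic.isCharacter_comp_hom hξ π
    obtain ⟨n, hn⟩ := Cfsg.Agent.Lib.Char.Virtual.exists_int_classInner hf
      (Cfsg.Agent.Lib.Char.Virtual.isGeneralized_of_isCharacter hξ')
    refine ⟨n, ?_⟩
    rw [← hn, Cfsg.Agent.Lib.Char.Complete.classInner_def, Cfsg.Agent.Lib.Char.Complete.classInner_def]
    have e1 : ∑ e : E, f e * conj ((ξ : H → ℂ) (π e)) = ∑ h : H, f h * conj ((ξ : H → ℂ) h) := by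
      symm
      refine Fintype.sum_of_injective (fun h : H => (h : E)) Subtype.val_injective _ _ ?_ ?_
      · intro g hg
        have : g ∉ H := fun h => hg ⟨⟨g, h⟩, rfl⟩
        rw [hv g this, zero_mul]
      · intro h
        rw [hπ]
    rw [e1, ← hidx, Finset.mul_sum, Finset.mul_sum]
    refine Finset.sum_congr rfl fun h _ => ?_
    simp only [hβdef]
    rw [mul_inv]
    ring
  have hind := ind_mem_Pl H (isGeneralized_mem_Pl (M := M) hMp hH hβ)
  have hfin : indFun H β = f := by
    funext g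
    rw [indFun_apply]
    by_cases hg : g ∈ H
    · have e : ∀ x : E, extendByZero H β (x⁻¹ * g * x) = (H.index : ℂ)⁻¹ * f g := by
        intro x
        have hm : x⁻¹ * g * x ∈ H := by
          have := hHn.conj_mem g hg x⁻¹
          simpa using this
        rw [extendByZero_of_mem _ _ hm]
        simp only [hβdef]
        have := hfc g x⁻¹
        simp only [inv_inv] at this
        rw [this]
      simp only [e, Finset.sum_const, Finset.card_univ, ← Nat.card_eq_fintype_card, nsmul_eq_mul]
      rw [← hidx]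
      field_simp
    · have e : ∀ x : E, extendByZero H β (x⁻¹ * g * x) = 0 := by
        intro x
        have hm : x⁻¹ * g * x ∉ H := by
          intro h
          apply hg
          have := hHn.conj_mem _ h x
          simpa [mul_assoc] using this
        rw [extendByZero_of_notMem _ _ hm]
      simp only [e, Finset.sum_const_zero, mul_zero]
      rw [hv g hg]
  rwa [hfin] at hind

/-- **Brauer**: a generalized character vanishing on the `p`-singular elements is an integral combination of
characters of idempotents of the local group ring. -/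
theorem mem_Pl_of_vanish_singular (hMp : IsPModular p M) {F : G → ℂ} (hF : IsGeneralizedCharacter G F)
    (hv : ∀ y, p ∣ orderOf y → F y = 0) : F ∈ Pl M G := by
  classical
  obtain ⟨l, hl, hl1⟩ := exists_list_of_isCharacter (Cfsg.Agent.Lib.Char.Basic.isCharacter_one (G := G))
  have hFc : IsClassFunction G F := by
    obtain ⟨a, b, ha, hb, rfl⟩ := hF
    intro g h
    have h1 := Cfsg.Agent.Lib.Char.Basic.isClassFunction_of_isCharacter ha g h
    have h2 := Cfsg.Agent.Lib.Char.Basic.isClassFunction_of_isCharacter hb g h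
    simp only [Pi.sub_apply, h1, h2]
  have hF1 : F = (l.map fun t => (t.2.2 : ℂ) • indFun t.1 (fun e => ((t.2.1 e : ℂˣ) : ℂ) * F e)).sum := by
    calc F = 1 * F := (one_mul F).symm
      _ = _ := by
        rw [hl1, ← List.sum_map_mul_right]
        congr 1
        refine List.map_congr_left fun t _ => ?_
        rw [smul_mul_assoc, indFun_mul_class _ _ hFc]
  rw [hF1]
  refine AddSubgroup.list_sum_mem _ ?_
  intro f hf
  obtain ⟨t, ht, rfl⟩ := List.mem_map.mp hf
  refine zsmul_mem_Pl ?_ _
  letI : Fintype t.1 := Fintype.ofFinite _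
  refine ind_mem_Pl t.1 ?_
  obtain ⟨q, hq, hel⟩ := hl t ht
  obtain ⟨H, P, hHn, hPn, hH, ⟨k, hk⟩, hd, hc⟩ := exists_complements (p := p) hq hel
  haveI := hHn
  haveI := hPn
  refine mem_Pl_of_vanish hMp hH hd hc ?_ ?_
  · obtain ⟨a, b, ha, hb, hab⟩ := hF
    have hlam := Cfsg.Agent.Lib.Char.Basic.isCharacter_of_isIrrCharacter
      (Cfsg.Agent.Lib.Char.LinearChars.isIrr_of_hom t.2.1)
    refine ⟨_, _, Cfsg.Agent.Lib.Char.Basic.isCharacter_mul hlam (Cfsg.Agent.Lib.Char.Basic.isCharacter_restrict ha t.1),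
      Cfsg.Agent.Lib.Char.Basic.isCharacter_mul hlam (Cfsg.Agent.Lib.Char.Basic.isCharacter_restrict hb t.1), ?_⟩
    funext e
    simp only [hab, Pi.sub_apply, Pi.mul_apply]
    ring
  · intro e he
    have h1 : p ∣ orderOf e := by
      by_contra h
      exact he ((Cfsg.Agent.Lib.Blocks.RegLift.mem_iff_not_dvd_of_complement hH hk e).mpr h)
    have h2 : p ∣ orderOf (e : G) := by rwa [Subgroup.orderOf_coe]
    rw [hv _ h2, mul_zero]

end Three

end Cfsg.Agent.Lib.Blocks.Pim
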