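/-
Numerics of the projective characters of a block: `g` dividing all degrees divides the multiplicity
of each primitive idempotent; blocks with all degrees equal have a single class of primitive idempotents.
-/
import Mathlib
import Cfsg.Agent.Lib.Blocks.Pim3
import Cfsg.Agent.Lib.Blocks.NilpLink
import Cfsg.Agent.Lib.Blocks.NilpSec

set_option autoImplicit false

namespace Cfsg.Agent.Lib.Blocks.Pim

open Cfsg Cfsg.Agent.Lib.Blocks.Local Cfsg.Agent.Lib.Blocks.Central Cfsg.Agent.Lib.Blocks.Osima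
open Cfsg.Agent.Lib.Blocks.Covering Cfsg.Agent.Lib.Blocks.BlockHom Cfsg.Agent.Lib.Blocks.Pairs
open Cfsg.Agent.Lib.Blocks.Twisted Cfsg.Agent.Lib.Blocks.Nilp Cfsg.Agent.Lib.Blocks.Sections
open Cfsg.Agent.Lib.Blocks.Regular Cfsg.Agent.Lib.Blocks.SecondMain
open Cfsg.Agent.Lib.Char.Ortho
open scoped ComplexConjugate

universe u

section Four

variable {G : Type u} [Group G] [Fintype G] {M : Ideal AlgInt} [hM : M.IsPrime]
variable {p : ℕ} [hp : Fact p.Prime] {B : Set (IrrCharacter G)}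

lemma charDegree_cast_irr (χ : IrrCharacter G) : (χ : G → ℂ) 1 = (charDegree (χ : G → ℂ) : ℂ) :=
  (Cfsg.Agent.Lib.Blocks.RegInt.charDegree_cast χ).symm

lemma E_loc (hB : IsPBlock M B) : LocCoeff M (blockElt B) := (blockElt_mem_localCenter hB).2

lemma E_idem : blockElt B * blockElt B = blockElt B := blockElt_mul_self B

lemma E_comm (a : MonoidAlgebra ℂ G) : blockElt B * a = a * blockElt B :=
  (commute_of_suppOn (K := ⊤) (fun g hg => absurd (Subgroup.mem_top g) hg)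
    (fun g x _ => isClassFunction_blockElt B g x) : Commute a (blockElt B)).eq.symm

lemma twTrace_smul' (t : G → ℂ) (h : G) (c : ℂ) (a : MonoidAlgebra ℂ G) :
    twTrace t h (c • a) = c * twTrace t h a := by
  simp [twTrace, Finset.mul_sum, mul_assoc]

lemma exists_blockDec (hB : IsPBlock M B) : ∃ J R : Finset (MonoidAlgebra ℂ G),
    Dec M ⊥ (blockElt B) J ∧ R ⊆ J ∧ (∀ j ∈ J, ∃ a ∈ R, PEquiv M j a) ∧
      ∀ a ∈ R, ∀ b ∈ R, PEquiv M a b → a = b := by
  obtain ⟨J, hJ⟩ := exists_dec (M := M) ⊥ (E_loc hB) (invBy_bot _) E_idem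
  obtain ⟨R, h1, h2, h3⟩ := exists_pim_reps hJ
  exact ⟨J, R, hJ, h1, h2, h3⟩

/-- A trace on the corner of a block vanishes for a character outside the block. -/
lemma twTrace_of_notMem {χ : IrrCharacter G} (hχ : χ ∉ B) {r : MonoidAlgebra ℂ G} (hr : blockElt B * r = r) :
    twTrace (χ : G → ℂ) 1 r = 0 := by
  rw [← hr, twTrace_central_mul χ.2 1 (isClassFunction_blockElt B), omega_blockElt_of_notMem hχ, zero_mul]

open Classical in
/-- Multiplicity of a class of idempotents in the decomposition. -/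
noncomputable def Nm (M : Ideal AlgInt) [M.IsPrime] (J : Finset (MonoidAlgebra ℂ G)) (r : MonoidAlgebra ℂ G) : ℕ :=
  (J.filter (fun j => PEquiv M j r)).card

/-- The regular character of a block. -/
lemma twTrace_sum_Nm {J R : Finset (MonoidAlgebra ℂ G)} {E : MonoidAlgebra ℂ G} (hJ : Dec M ⊥ E J)
    (hRs : R ⊆ J) (hRJ : ∀ j ∈ J, ∃ a ∈ R, PEquiv M j a)
    (hR : ∀ a ∈ R, ∀ b ∈ R, PEquiv M a b → a = b) {t : G → ℂ} (ht : IsClassFunction G t) :
    twTrace t 1 E = ∑ r ∈ R, (Nm M J r : ℂ) * twTrace t 1 r := by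
  classical
  choose! f hfR hf using hRJ
  rw [← hJ.sum, twTrace_sum, ← Finset.sum_fiberwise_of_maps_to hfR]
  refine Finset.sum_congr rfl fun r hr => ?_
  have hset : J.filter (fun j => f j = r) = J.filter (fun j => PEquiv M j r) := by
    ext j
    simp only [Finset.mem_filter, and_congr_right_iff]
    intro hj
    constructor
    · rintro rfl
      exact hf j hj
    · intro h
      exact hR _ (hfR j hj) _ hr ((hf j hj).symm.trans h)
  rw [hset, Finset.sum_congr rfl (g := fun _ => twTrace t 1 r)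
    (fun j hj => (Finset.mem_filter.mp hj).2.twTrace_eq ht), Finset.sum_const, nsmul_eq_mul, Nm]

lemma one_le_Nm {J : Finset (MonoidAlgebra ℂ G)} {r : MonoidAlgebra ℂ G} (hr : r ∈ J) (hl : LocCoeff M r)
    (h2 : r * r = r) : 1 ≤ Nm M J r := by
  classical
  exact Finset.card_pos.mpr ⟨r, Finset.mem_filter.mpr ⟨hr, PEquiv.refl hl h2⟩⟩

/-- Expansion of an element of `Pl` along the representatives. -/
lemma exists_expand (hMp : IsPModular p M) (hB : IsPBlock M B) {J R : Finset (MonoidAlgebra ℂ G)}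
    (hJ : Dec M ⊥ (blockElt B) J) (hRJ : ∀ j ∈ J, ∃ a ∈ R, PEquiv M j a) {F : G → ℂ} (hF : F ∈ Pl M G) :
    ∃ A : MonoidAlgebra ℂ G → ℤ, ∀ χ ∈ B, classInner (χ : G → ℂ) F = ∑ r ∈ R, (A r : ℂ) * twTrace (χ : G → ℂ) 1 r := by
  classical
  refine AddSubgroup.closure_induction (p := fun F _ => ∃ A : MonoidAlgebra ℂ G → ℤ, ∀ χ ∈ B,
    classInner (χ : G → ℂ) F = ∑ r ∈ R, (A r : ℂ) * twTrace (χ : G → ℂ) 1 r) ?_ ?_ ?_ ?_ hF
  · rintro F ⟨-, y, hyl, hy2, hy⟩
    obtain ⟨m, hm⟩ := exists_mult hMp hJ hRJ (E_loc hB) E_idem E_comm hyl hy2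
    refine ⟨fun r => (m r : ℤ), fun χ hχ => ?_⟩
    have hcl := isClassFunction_of_irr χ.2
    rw [hy _ hcl, ← twTrace_blockElt_mul B hχ 1 y, E_comm, hm _ hcl]
    simp
  · refine ⟨0, fun χ _ => ?_⟩
    simp [classInner_zero_right]
  · rintro a b _ _ ⟨A, hA⟩ ⟨A', hA'⟩
    refine ⟨A + A', fun χ hχ => ?_⟩
    rw [classInner_add_right, hA χ hχ, hA' χ hχ, ← Finset.sum_add_distrib]
    refine Finset.sum_congr rfl fun r _ => ?_
    simp only [Pi.add_apply]
    push_cast
    ring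
  · rintro a _ ⟨A, hA⟩
    refine ⟨-A, fun χ hχ => ?_⟩
    have e : (-a : G → ℂ) = (-1 : ℂ) • a := by
      funext g
      simp
    rw [e, classInner_smul_right, hA χ hχ, Finset.mul_sum]
    refine Finset.sum_congr rfl fun r _ => ?_
    simp only [Pi.neg_apply]
    push_cast
    simp

/-- The virtual projective character attached to a common divisor of the degrees. -/
noncomputable def FF (B : Set (IrrCharacter G)) (g : ℕ) : G → ℂ := by
  classical
  exact fun x => ∑ χ ∈ (Finset.univ : Finset (IrrCharacter G)).filter (· ∈ B),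
    ((charDegree (χ : G → ℂ) / g : ℕ) : ℂ) * (χ : G → ℂ) x

open Classical in
lemma FF_apply (g : ℕ) (x : G) : FF B g x = ∑ χ ∈ (Finset.univ : Finset (IrrCharacter G)).filter (· ∈ B),
    ((charDegree (χ : G → ℂ) / g : ℕ) : ℂ) * (χ : G → ℂ) x := by
  unfold FF
  congr

lemma FF_isGeneralized (g : ℕ) : IsGeneralizedCharacter G (FF B g) := by
  classical
  have e : FF B g = ∑ χ ∈ (Finset.univ : Finset (IrrCharacter G)).filter (· ∈ B),
      (((charDegree (χ : G → ℂ) / g : ℕ) : ℤ) : ℂ) • (χ : G → ℂ) := by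
    funext x
    rw [FF_apply, Finset.sum_apply]
    refine Finset.sum_congr rfl fun χ _ => ?_
    simp only [Pi.smul_apply, smul_eq_mul, Int.cast_natCast]
  rw [e]
  refine Cfsg.Agent.Lib.Char.Virtual.isGeneralized_finset_sum _ fun χ _ => ?_
  exact Cfsg.Agent.Lib.Char.Virtual.isGeneralized_intCast_smul
    (Cfsg.Agent.Lib.Char.Virtual.isGeneralized_of_isIrr χ.2) _

lemma FF_singular (hMp : IsPModular p M) (hB : IsPBlock M B) {g : ℕ} (hg0 : g ≠ 0)
    (hg : ∀ χ ∈ B, g ∣ charDegree (χ : G → ℂ)) {y : G} (hy : p ∣ orderOf y) : FF B g y = 0 := by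
  classical
  have h0 := blockCoeff_eq_zero_of_dvd hMp hB hy
  rw [blockCoeff_eq_sum] at h0
  have hG : ((Nat.card G : ℂ)⁻¹) ≠ 0 := inv_ne_zero (by exact_mod_cast Nat.card_pos.ne')
  have h1 := (mul_eq_zero.mp h0).resolve_left hG
  have hg' : (g : ℂ) ≠ 0 := by exact_mod_cast hg0
  have h2 : (g : ℂ) * FF B g y = conj (∑ χ ∈ (Finset.univ : Finset (IrrCharacter G)).filter (· ∈ B),
      (χ : G → ℂ) 1 * conj ((χ : G → ℂ) y)) := by
    rw [FF_apply, map_sum, Finset.mul_sum]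
    refine Finset.sum_congr rfl fun χ hχ => ?_
    have hd := hg χ (Finset.mem_filter.mp hχ).2
    rw [map_mul, Complex.conj_conj, charDegree_cast_irr, Complex.conj_natCast, ← mul_assoc]
    congr 1
    rw [← Nat.cast_mul, Nat.mul_div_cancel' hd]
  rw [h1, map_zero] at h2
  exact (mul_eq_zero.mp h2).resolve_left hg'

lemma classInner_FF {χ : IrrCharacter G} (hχ : χ ∈ B) (g : ℕ) :
    classInner (χ : G → ℂ) (FF B g) = ((charDegree (χ : G → ℂ) / g : ℕ) : ℂ) := by
  classical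
  have e : FF B g = ∑ ψ ∈ (Finset.univ : Finset (IrrCharacter G)).filter (· ∈ B),
      ((charDegree (ψ : G → ℂ) / g : ℕ) : ℂ) • (ψ : G → ℂ) := by
    funext x
    rw [FF_apply, Finset.sum_apply]
    refine Finset.sum_congr rfl fun ψ _ => ?_
    simp
  rw [e, classInner_sum_right]
  rw [Finset.sum_eq_single χ]
  · rw [classInner_smul_right, classInner_irr_self χ.2, mul_one, Complex.conj_natCast]
  · intro ψ _ hne
    rw [classInner_smul_right, classInner_irr_of_ne χ.2 ψ.2 (fun h => hne (Subtype.ext h.symm)), mul_zero]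
  · intro h
    exact absurd (Finset.mem_filter.mpr ⟨Finset.mem_univ _, hχ⟩) h

/-- A common divisor of the degrees divides the multiplicities of the primitive idempotents. -/
theorem exists_A (hMp : IsPModular p M) (hB : IsPBlock M B) {J R : Finset (MonoidAlgebra ℂ G)}
    (hJ : Dec M ⊥ (blockElt B) J) (hRs : R ⊆ J) (hRJ : ∀ j ∈ J, ∃ a ∈ R, PEquiv M j a)
    (hR : ∀ a ∈ R, ∀ b ∈ R, PEquiv M a b → a = b) {g : ℕ} (hg0 : g ≠ 0)
    (hg : ∀ χ ∈ B, g ∣ charDegree (χ : G → ℂ)) :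
    ∃ A : MonoidAlgebra ℂ G → ℕ, (∀ r ∈ R, Nm M J r = g * A r) ∧ (∀ r ∈ R, 1 ≤ A r) ∧
      ∀ χ ∈ B, ((charDegree (χ : G → ℂ) / g : ℕ) : ℂ) = ∑ r ∈ R, (A r : ℂ) * twTrace (χ : G → ℂ) 1 r := by
  classical
  have hFP : FF B g ∈ Pl M G := mem_Pl_of_vanish_singular hMp (FF_isGeneralized g)
    (fun y hy => FF_singular hMp hB hg0 hg hy)
  obtain ⟨A, hA⟩ := exists_expand hMp hB hJ hRJ hFP
  have hA1 : ∀ χ ∈ B, ((charDegree (χ : G → ℂ) / g : ℕ) : ℂ) = ∑ r ∈ R, (A r : ℂ) * twTrace (χ : G → ℂ) 1 r :=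
    fun χ hχ => by rw [← classInner_FF hχ g, hA χ hχ]
  have hE : ∀ r ∈ R, blockElt B * r = r := fun r hr => hJ.mul_left (hRs hr)
  have hb : ∀ χ : IrrCharacter G, ∑ r ∈ R, (((Nm M J r : ℤ) - g * A r : ℤ) : ℂ) * twTrace (χ : G → ℂ) 1 r = 0 := by
    intro χ
    by_cases hχ : χ ∈ B
    · have h1 := twTrace_sum_Nm hJ hRs hRJ hR (isClassFunction_of_irr χ.2)
      rw [twTrace_blockElt, omega_blockElt_of_mem hχ, one_mul] at h1
      have h2 := hA1 χ hχ
      have h3 : (charDegree (χ : G → ℂ) : ℂ) = (g : ℂ) * ((charDegree (χ : G → ℂ) / g : ℕ) : ℂ) := by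
        rw [← Nat.cast_mul, Nat.mul_div_cancel' (hg χ hχ)]
      rw [h2, Finset.mul_sum, ← charDegree_cast_irr, h1] at h3
      rw [← sub_eq_zero, ← Finset.sum_sub_distrib] at h3
      rw [← h3]
      refine Finset.sum_congr rfl fun r _ => ?_
      push_cast
      ring
    · refine Finset.sum_eq_zero fun r hr => ?_
      rw [twTrace_of_notMem hχ (hE r hr), mul_zero]
  have h0 : ∀ r ∈ R, (Nm M J r : ℤ) = g * A r := fun r hr =>
    sub_eq_zero.mp (eq_zero_of_sum_eq_zero hMp hJ (E_loc hB) E_idem E_comm hRs hR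
      (fun r => (Nm M J r : ℤ) - g * A r) hb hr)
  have hpos : ∀ r ∈ R, 1 ≤ A r := by
    intro r hr
    have h1 := one_le_Nm (hRs hr) (hJ.prim r (hRs hr)).loc (hJ.prim r (hRs hr)).idem
    have h2 := h0 r hr
    have h3 : (0 : ℤ) < g := by exact_mod_cast Nat.pos_of_ne_zero hg0
    by_contra hn
    push Not at hn
    have h4 : A r ≤ 0 := by omega
    have h5 : (g : ℤ) * A r ≤ 0 := mul_nonpos_of_nonneg_of_nonpos h3.le h4
    have h6 : (Nm M J r : ℤ) ≤ 0 := by rw [h2]; exact h5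
    have h7 : (1 : ℤ) ≤ Nm M J r := by exact_mod_cast h1
    linarith
  refine ⟨fun r => (A r).toNat, ?_, ?_, ?_⟩
  · intro r hr
    have h1 := h0 r hr
    have h2 := hpos r hr
    have h3 : (((A r).toNat : ℕ) : ℤ) = A r := Int.toNat_of_nonneg (by omega)
    have h4 : ((Nm M J r : ℕ) : ℤ) = ((g * (A r).toNat : ℕ) : ℤ) := by
      push_cast
      rw [h3]
      exact h1
    exact_mod_cast h4
  · intro r hr
    have h2 := hpos r hr
    have h3 : (((A r).toNat : ℕ) : ℤ) = A r := Int.toNat_of_nonneg (by omega)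
    have h4 : (1 : ℤ) ≤ ((A r).toNat : ℕ) := by rw [h3]; exact h2
    exact_mod_cast h4
  · intro χ hχ
    rw [hA1 χ hχ]
    refine Finset.sum_congr rfl fun r hr => ?_
    have h2 := hpos r hr
    congr 1
    have h3 : (((A r).toNat : ℤ)) = A r := Int.toNat_of_nonneg (by omega)
    conv_lhs => rw [← h3]
    exact Int.cast_natCast _

end Four

end Cfsg.Agent.Lib.Blocks.Pim
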