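/-
Blocks all of whose characters have the same degree: one class of primitive idempotents.
-/
import Mathlib
import Cfsg.Agent.Lib.Blocks.Pim4

set_option autoImplicit false

namespace Cfsg.Agent.Lib.Blocks.Pim

open Cfsg Cfsg.Agent.Lib.Blocks.Local Cfsg.Agent.Lib.Blocks.Central Cfsg.Agent.Lib.Blocks.Osima
open Cfsg.Agent.Lib.Blocks.Covering Cfsg.Agent.Lib.Blocks.BlockHom Cfsg.Agent.Lib.Blocks.Pairs
open Cfsg.Agent.Lib.Blocks.Twisted Cfsg.Agent.Lib.Blocks.Nilp Cfsg.Agent.Lib.Blocks.Sections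
open Cfsg.Agent.Lib.Blocks.Regular Cfsg.Agent.Lib.Blocks.SecondMain
open Cfsg.Agent.Lib.Char.Ortho
open scoped ComplexConjugate

universe u

section Five

variable {G : Type u} [Group G] [Fintype G] {M : Ideal AlgInt} [hM : M.IsPrime]
variable {p : ℕ} [hp : Fact p.Prime] {B : Set (IrrCharacter G)}

/-- A natural-number linear form with value one. -/
lemma exists_unique_term {X : Type*} [DecidableEq X] (R : Finset X) (A d : X → ℕ) (hA : ∀ r ∈ R, 1 ≤ A r)
    (h : ∑ r ∈ R, A r * d r = 1) : ∃ r ∈ R, d r = 1 ∧ A r = 1 ∧ ∀ s ∈ R, s ≠ r → d s = 0 := by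
  have hex : ∃ r ∈ R, A r * d r ≠ 0 := by
    by_contra hn
    push Not at hn
    rw [Finset.sum_eq_zero hn] at h
    exact zero_ne_one h
  obtain ⟨r, hr, hne⟩ := hex
  have h1 : ∑ s ∈ R.erase r, A s * d s + A r * d r = 1 := by rw [Finset.sum_erase_add _ _ hr, h]
  have h2 : A r * d r = 1 := by omega
  have h3 : ∑ s ∈ R.erase r, A s * d s = 0 := by omega
  refine ⟨r, hr, Nat.eq_one_of_mul_eq_one_left h2, Nat.eq_one_of_mul_eq_one_right h2, ?_⟩
  intro s hs hsr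
  have h4 := (Finset.sum_eq_zero_iff.mp h3) s (Finset.mem_erase.mpr ⟨hsr, hs⟩)
  rcases Nat.mul_eq_zero.mp h4 with h5 | h5
  · have := hA s hs
    omega
  · exact h5

/-- A representative has a nonzero trace on some character of the block. -/
lemma exists_char_ne (hMp : IsPModular p M) (hB : IsPBlock M B) {J R : Finset (MonoidAlgebra ℂ G)}
    (hJ : Dec M ⊥ (blockElt B) J) (hRs : R ⊆ J) (hR : ∀ a ∈ R, ∀ b ∈ R, PEquiv M a b → a = b)
    {r : MonoidAlgebra ℂ G} (hr : r ∈ R) : ∃ χ ∈ B, twTrace (χ : G → ℂ) 1 r ≠ 0 := by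
  classical
  by_contra hn
  push Not at hn
  have h0 := eq_zero_of_sum_eq_zero hMp hJ (E_loc hB) E_idem E_comm hRs hR (fun s => if s = r then 1 else 0) ?_ hr
  · simp at h0
  · intro χ
    rw [Finset.sum_eq_single r]
    · by_cases hχ : χ ∈ B
      · rw [hn χ hχ, mul_zero]
      · rw [twTrace_of_notMem hχ (hJ.mul_left (hRs hr)), mul_zero]
    · intro s _ hs
      simp [hs]
    · intro h
      exact absurd hr h

/-- Expansion of the values on `p`-regular elements along the representatives. -/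
lemma exists_reg_coeff (hMp : IsPModular p M) (hB : IsPBlock M B) {J R : Finset (MonoidAlgebra ℂ G)}
    (hJ : Dec M ⊥ (blockElt B) J) (hRJ : ∀ j ∈ J, ∃ a ∈ R, PEquiv M j a) {x : G} (hx : ¬ p ∣ orderOf x) :
    ∃ c : MonoidAlgebra ℂ G → ℂ, ∀ χ ∈ B, (χ : G → ℂ) x = ∑ r ∈ R, c r * twTrace (χ : G → ℂ) 1 r := by
  classical
  set m := orderOf x with hm
  have hm0 : m ≠ 0 := (orderOf_pos x).ne'
  have hxm : x ^ m = 1 := pow_orderOf_eq_one x
  have hω := Complex.isPrimitiveRoot_exp m hm0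
  set ω := Complex.exp (2 * Real.pi * Complex.I / m) with hωdef
  have hω0 : ω ≠ 0 := hω.ne_zero hm0
  have hωint : MemLocalRing M ω :=
    memLocalRing_of_isIntegral (hω.isIntegral (Nat.pos_of_ne_zero hm0))
  have hminv : MemLocalRing M ((m : ℂ)⁻¹) := memLocalRing_inv_natCast hMp hx
  have hel : ∀ j, LocCoeff M (Hattori.eta x ω m j) := by
    intro j
    have h1 : Hattori.eta x ω m j ∈ Hattori.coeffSubring (localRing M) G := by
      unfold Hattori.eta Hattori.avg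
      refine Hattori.smul_mem_coeffSubring ?_ hminv
      refine Subring.sum_mem _ fun i _ => Subring.pow_mem _ ?_ _
      exact Hattori.single_mem_coeffSubring _ (memLocalRing_pow hωint j)
    exact h1
  have hx1 : (MonoidAlgebra.single x 1 : MonoidAlgebra ℂ G) =
      ∑ j ∈ Finset.range m, ((ω ^ j)⁻¹) • Hattori.eta x ω m j := by
    have := Hattori.sum_eta (x := x) hm0 hω
    calc (MonoidAlgebra.single x 1 : MonoidAlgebra ℂ G)
        = MonoidAlgebra.single x 1 * ∑ j ∈ Finset.range m, Hattori.eta x ω m j := by rw [this, mul_one]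
      _ = _ := by
        rw [Finset.mul_sum]
        exact Finset.sum_congr rfl fun j _ => Hattori.single_mul_eta hxm hω.pow_eq_one hω0 j
  have hex := fun j => exists_mult hMp hJ hRJ (E_loc hB) E_idem E_comm (hel j)
    (Hattori.eta_mul_eta hm0 hxm hω.pow_eq_one j)
  choose n hn using hex
  refine ⟨fun r => ∑ j ∈ Finset.range m, (ω ^ j)⁻¹ * (n j r : ℂ), fun χ hχ => ?_⟩
  have hcl := isClassFunction_of_irr χ.2
  have h1 : twTrace (χ : G → ℂ) 1 (MonoidAlgebra.single x 1) = (χ : G → ℂ) x := by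
    rw [twTrace_single]
    simp
  rw [← h1, hx1, twTrace_sum]
  simp only [Finset.sum_mul]
  rw [Finset.sum_comm]
  refine Finset.sum_congr rfl fun j _ => ?_
  rw [twTrace_smul', ← twTrace_blockElt_mul B hχ 1, E_comm, hn j _ hcl, Finset.mul_sum]
  refine Finset.sum_congr rfl fun r _ => ?_
  ring

/-- The set of characters of the block on which a representative has nonzero trace is closed. -/
lemma isClosed_support (hMp : IsPModular p M) (hB : IsPBlock M B) {r : MonoidAlgebra ℂ G} (hr : IsPrimIdem M ⊥ r)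
    (hEr : blockElt B * r = r) (h01 : ∀ χ ∈ B, twTrace (χ : G → ℂ) 1 r = 0 ∨ twTrace (χ : G → ℂ) 1 r = 1)
    (hreg : ∀ χ ∈ B, ∀ χ' ∈ B, twTrace (χ : G → ℂ) 1 r = 1 → twTrace (χ' : G → ℂ) 1 r = 1 →
      ∀ x, ¬ p ∣ orderOf x → (χ : G → ℂ) x = (χ' : G → ℂ) x) :
    Cfsg.Agent.Lib.Blocks.BlockCount.IsClosed M {χ : IrrCharacter G | χ ∈ B ∧ twTrace (χ : G → ℂ) 1 r = 1} := by
  classical
  set S : Set (IrrCharacter G) := {χ : IrrCharacter G | χ ∈ B ∧ twTrace (χ : G → ℂ) 1 r = 1} with hS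
  have hD : ∀ ψ : IrrCharacter G, twTrace (ψ : G → ℂ) 1 r = if ψ ∈ S then 1 else 0 := by
    intro ψ
    by_cases hψ : ψ ∈ S
    · rw [if_pos hψ]
      exact hψ.2
    · rw [if_neg hψ]
      by_cases hψB : ψ ∈ B
      · rcases h01 ψ hψB with h | h
        · exact h
        · exact absurd ⟨hψB, h⟩ hψ
      · exact twTrace_of_notMem hψB hEr
  refine isClosed_of_orth hMp ?_
  intro χ hχ χ' hχ'
  set T := (Finset.univ : Finset (IrrCharacter G)).filter (· ∈ S) with hT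
  have hmpos : (T.card : ℂ) ≠ 0 := by
    have : 0 < T.card := Finset.card_pos.mpr ⟨χ, Finset.mem_filter.mpr ⟨Finset.mem_univ _, hχ⟩⟩
    exact_mod_cast this.ne'
  have hreg' : reg p (χ : G → ℂ) = (T.card : ℂ)⁻¹ • ∑ ψ ∈ T, (ψ : G → ℂ) := by
    funext x
    simp only [Pi.smul_apply, Finset.sum_apply, smul_eq_mul]
    by_cases hx : p ∣ orderOf x
    · rw [reg_of_dvd _ hx]
      have h1 := sum_conj_twTrace x r
      rw [Hattori.classTrace_eq_zero_of_idempotent hMp r hr.idem hr.loc x hx, mul_zero] at h1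
      have h2 : conj (∑ ψ ∈ T, (ψ : G → ℂ) x) = 0 := by
        rw [map_sum, ← h1, hT, Finset.sum_filter]
        refine Finset.sum_congr rfl fun ψ _ => ?_
        by_cases hψ : ψ ∈ S
        · have e : twTrace (ψ : G → ℂ) 1 r = 1 := hψ.2
          rw [if_pos hψ, e, mul_one]
        · have e := hD ψ
          rw [if_neg hψ] at e
          rw [if_neg hψ, e, mul_zero]
      have h3 : (∑ ψ ∈ T, (ψ : G → ℂ) x) = 0 := (map_eq_zero (starRingEnd ℂ)).mp h2
      rw [h3, mul_zero]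
    · rw [reg_of_not_dvd _ hx]
      have h1 : ∑ ψ ∈ T, (ψ : G → ℂ) x = (T.card : ℂ) * (χ : G → ℂ) x := by
        rw [Finset.sum_congr rfl (g := fun _ => (χ : G → ℂ) x), Finset.sum_const, nsmul_eq_mul]
        intro ψ hψ
        have hψ' := (Finset.mem_filter.mp hψ).2
        exact hreg ψ hψ'.1 χ hχ.1 hψ'.2 hχ.2 x hx
      rw [h1]
      field_simp
  rw [hreg', classInner_smul_left, classInner_sum_left]
  rw [Finset.sum_eq_zero, mul_zero]
  intro ψ hψ
  have hψ' := (Finset.mem_filter.mp hψ).2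
  refine classInner_irr_of_ne ψ.2 χ'.2 ?_
  intro h
  exact hχ' (by rwa [show χ' = ψ from Subtype.ext h.symm])

/-- **Blocks with equal degrees**: all primitive idempotents are conjugate, their traces are one, and the
characters agree on the `p`-regular elements. -/
theorem pim_of_equal_degree (hMp : IsPModular p M) (hB : IsPBlock M B) {n : ℕ}
    (hn : ∀ χ ∈ B, charDegree (χ : G → ℂ) = n) :
    ∃ (J : Finset (MonoidAlgebra ℂ G)) (y₀ : MonoidAlgebra ℂ G), Dec M ⊥ (blockElt B) J ∧ y₀ ∈ J ∧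
      (∀ j ∈ J, PEquiv M j y₀) ∧ (∀ χ ∈ B, twTrace (χ : G → ℂ) 1 y₀ = 1) ∧ J.card = n ∧
      ∀ χ ∈ B, ∀ χ' ∈ B, ∀ x, ¬ p ∣ orderOf x → (χ : G → ℂ) x = (χ' : G → ℂ) x := by
  classical
  obtain ⟨J, R, hJ, hRs, hRJ, hR⟩ := exists_blockDec hB
  obtain ⟨χ₀, hχ₀⟩ := isPBlock_nonempty hB
  have hn0 : n ≠ 0 := by
    rw [← hn χ₀ hχ₀]
    exact Cfsg.Agent.Lib.Blocks.RegInt.charDegree_ne_zero χ₀
  obtain ⟨A, hA1, hA2, hA3⟩ := exists_A hMp hB hJ hRs hRJ hR hn0 (g := n) (fun χ hχ => by rw [hn χ hχ])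
  have hrp : ∀ r ∈ R, IsPrimIdem M ⊥ r := fun r hr => hJ.prim r (hRs hr)
  have hnat : ∀ (χ : IrrCharacter G) (r : MonoidAlgebra ℂ G), ∃ d : ℕ, r ∈ R → twTrace (χ : G → ℂ) 1 r = d := by
    intro χ r
    by_cases hr : r ∈ R
    · obtain ⟨d, hd⟩ := exists_nat_twTrace_idem
        (Cfsg.Agent.Lib.Char.Basic.isCharacter_of_isIrrCharacter χ.2) (hrp r hr).idem
      exact ⟨d, fun _ => hd⟩
    · exact ⟨0, fun h => absurd h hr⟩
  choose d hd using hnat
  have hterm : ∀ χ ∈ B, ∃ r ∈ R, d χ r = 1 ∧ A r = 1 ∧ ∀ s ∈ R, s ≠ r → d χ s = 0 := by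
    intro χ hχ
    refine exists_unique_term R A (d χ) hA2 ?_
    have h1 := hA3 χ hχ
    rw [hn χ hχ, Nat.div_self (Nat.pos_of_ne_zero hn0), Finset.sum_congr rfl (fun r hr => by rw [hd χ r hr])] at h1
    exact_mod_cast h1.symm
  have hone : ∀ χ ∈ B, ∀ r ∈ R, twTrace (χ : G → ℂ) 1 r = 0 ∨ twTrace (χ : G → ℂ) 1 r = 1 := by
    intro χ hχ r hr
    obtain ⟨r', hr', h1, -, h3⟩ := hterm χ hχ
    by_cases h : r = r'
    · right
      rw [hd χ r hr, h, h1]
      simp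
    · left
      rw [hd χ r hr, h3 r hr h]
      simp
  have hunique : ∀ χ ∈ B, ∀ r ∈ R, ∀ r' ∈ R, twTrace (χ : G → ℂ) 1 r = 1 → twTrace (χ : G → ℂ) 1 r' = 1 → r = r' := by
    intro χ hχ r hr r' hr' h h'
    obtain ⟨s, hs, -, -, h3⟩ := hterm χ hχ
    have hrs : r = s := by
      by_contra hne
      have := h3 r hr hne
      rw [hd χ r hr, this] at h
      simp at h
    have hrs' : r' = s := by
      by_contra hne
      have := h3 r' hr' hne
      rw [hd χ r' hr', this] at h'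
      simp at h'
    rw [hrs, hrs']
  have hregc : ∀ r ∈ R, ∀ χ ∈ B, ∀ χ' ∈ B, twTrace (χ : G → ℂ) 1 r = 1 → twTrace (χ' : G → ℂ) 1 r = 1 →
      ∀ x, ¬ p ∣ orderOf x → (χ : G → ℂ) x = (χ' : G → ℂ) x := by
    intro r hr χ hχ χ' hχ' h h' x hx
    obtain ⟨c, hc⟩ := exists_reg_coeff hMp hB hJ hRJ hx
    have hval : ∀ ψ ∈ B, twTrace (ψ : G → ℂ) 1 r = 1 → (ψ : G → ℂ) x = c r := by
      intro ψ hψ hψr
      rw [hc ψ hψ, Finset.sum_eq_single r]
      · rw [hψr, mul_one]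
      · intro s hs hsr
        rcases hone ψ hψ s hs with h0 | h1
        · rw [h0, mul_zero]
        · exact absurd (hunique ψ hψ s hs r hr h1 hψr) hsr
      · intro h0
        exact absurd hr h0
    rw [hval χ hχ h, hval χ' hχ' h']
  -- every representative has trace one on the whole block
  have hall : ∀ r ∈ R, ∀ χ ∈ B, twTrace (χ : G → ℂ) 1 r = 1 := by
    intro r hr χ hχ
    obtain ⟨χ₁, hχ₁, hne⟩ := exists_char_ne hMp hB hJ hRs hR hr
    have h1 : twTrace (χ₁ : G → ℂ) 1 r = 1 := (hone χ₁ hχ₁ r hr).resolve_left hne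
    have hcl := isClosed_support hMp hB (hrp r hr) (hJ.mul_left (hRs hr)) (fun ψ hψ => hone ψ hψ r hr)
      (fun ψ hψ ψ' hψ' => hregc r hr ψ hψ ψ' hψ')
    have h2 := hcl χ₁ ⟨hχ₁, h1⟩
    rw [← isPBlock_eq_blockOf hB hχ₁] at h2
    exact (h2 hχ).2
  have hRne : R.Nonempty := by
    by_contra h
    rw [Finset.not_nonempty_iff_eq_empty] at h
    have h1 := hA3 χ₀ hχ₀
    rw [h, hn χ₀ hχ₀, Nat.div_self (Nat.pos_of_ne_zero hn0)] at h1
    simp at h1
  obtain ⟨y₀, hy₀⟩ := hRne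
  have hRuniq : ∀ r ∈ R, r = y₀ := fun r hr =>
    hunique χ₀ hχ₀ r hr y₀ hy₀ (hall r hr χ₀ hχ₀) (hall y₀ hy₀ χ₀ hχ₀)
  have hJeq : ∀ j ∈ J, PEquiv M j y₀ := by
    intro j hj
    obtain ⟨a, ha, hja⟩ := hRJ j hj
    rwa [hRuniq a ha] at hja
  refine ⟨J, y₀, hJ, hRs hy₀, hJeq, fun χ hχ => hall y₀ hy₀ χ hχ, ?_, ?_⟩
  · obtain ⟨-, -, hA1', -⟩ := hterm χ₀ hχ₀ |>.imp fun s h => h
    have h1 := hA1 y₀ hy₀
    obtain ⟨r, hr, -, hAr, -⟩ := hterm χ₀ hχ₀
    rw [hRuniq r hr] at hAr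
    rw [hAr, mul_one] at h1
    rw [← h1, Nm, Finset.filter_true_of_mem hJeq]
  · intro χ hχ χ' hχ' x hx
    exact hregc y₀ hy₀ χ hχ χ' hχ' (hall y₀ hy₀ χ hχ) (hall y₀ hy₀ χ' hχ') x hx

end Five

end Cfsg.Agent.Lib.Blocks.Pim
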