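/-
Blocks with equal degrees: the reduced trace `x ↦ ∑ χ(x) e_χ` preserves local coefficients.
-/
import Mathlib
import Cfsg.Agent.Lib.Blocks.Pim5
import Cfsg.Agent.Lib.Blocks.ModBlock

set_option autoImplicit false

namespace Cfsg.Agent.Lib.Blocks.Pim

open Cfsg Cfsg.Agent.Lib.Blocks.Local Cfsg.Agent.Lib.Blocks.Central Cfsg.Agent.Lib.Blocks.Osima
open Cfsg.Agent.Lib.Blocks.Covering Cfsg.Agent.Lib.Blocks.BlockHom Cfsg.Agent.Lib.Blocks.Pairs
open Cfsg.Agent.Lib.Blocks.Twisted Cfsg.Agent.Lib.Blocks.Nilp Cfsg.Agent.Lib.Blocks.Sections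
open Cfsg.Agent.Lib.Blocks.Regular Cfsg.Agent.Lib.Blocks.SecondMain
open Cfsg.Agent.Lib.Char.Ortho
open scoped ComplexConjugate

universe u

section Rank

/-- A rank one idempotent endomorphism. -/
lemma exists_sandwich_of_trace_one {V : Type*} [AddCommGroup V] [Module ℂ V] [FiniteDimensional ℂ V]
    {P : V →ₗ[ℂ] V} (hP : P * P = P) (ht : LinearMap.trace ℂ V P = 1) (A : V →ₗ[ℂ] V) :
    ∃ a : ℂ, P * A * P = a • P := by
  classical
  have hproj : LinearMap.IsProj (LinearMap.range P) P := LinearMap.IsIdempotentElem.isProj_range P hP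
  have h1 : Module.finrank ℂ (LinearMap.range P) = 1 := by
    have h2 := hproj.trace
    rw [ht] at h2
    exact_mod_cast h2.symm
  obtain ⟨v, hv0, hv⟩ := finrank_eq_one_iff'.mp h1
  have hPv : P v = v := hproj.map_id _ v.2
  obtain ⟨a, ha⟩ := hv ⟨P (A v), LinearMap.mem_range_self _ _⟩
  have ha' : a • (v : V) = P (A v) := congrArg Subtype.val ha
  refine ⟨a, ?_⟩
  ext w
  obtain ⟨c, hc⟩ := hv ⟨P w, LinearMap.mem_range_self _ _⟩
  have hc' : c • (v : V) = P w := congrArg Subtype.val hc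
  simp only [Module.End.mul_apply, LinearMap.smul_apply]
  rw [← hc', map_smul, map_smul, ← ha', smul_comm]

end Rank

section Six

variable {G : Type u} [Group G] [Fintype G] {M : Ideal AlgInt} [hM : M.IsPrime]
variable {p : ℕ} [hp : Fact p.Prime] {B : Set (IrrCharacter G)}

/-- Multiplicativity on the corner of a rank one idempotent. -/
theorem twTrace_mul_of_rank_one {χ : G → ℂ} (hχ : IsCharacter G χ) {y u v : MonoidAlgebra ℂ G} (hy : y * y = y)
    (hy1 : twTrace χ 1 y = 1) (hu : y * u * y = u) (hv : y * v * y = v) :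
    twTrace χ 1 (u * v) = twTrace χ 1 u * twTrace χ 1 v := by
  classical
  obtain ⟨n, ρ, rfl⟩ := hχ
  rw [← Nilp.trace_asAlgebraHom] at hy1
  have hP : ρ.asAlgebraHom y * ρ.asAlgebraHom y = ρ.asAlgebraHom y := by rw [← map_mul, hy]
  have hform : ∀ w : MonoidAlgebra ℂ G, y * w * y = w →
      ρ.asAlgebraHom w = LinearMap.trace ℂ _ (ρ.asAlgebraHom w) • ρ.asAlgebraHom y := by
    intro w hw
    obtain ⟨a, ha⟩ := exists_sandwich_of_trace_one hP hy1 (ρ.asAlgebraHom w)
    have h1 : ρ.asAlgebraHom w = a • ρ.asAlgebraHom y := by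
      rw [← ha, ← map_mul, ← map_mul, hw]
    have h2 : LinearMap.trace ℂ _ (ρ.asAlgebraHom w) = a := by
      rw [h1, map_smul, hy1, smul_eq_mul, mul_one]
    rw [h2]
    exact h1
  rw [← Nilp.trace_asAlgebraHom, ← Nilp.trace_asAlgebraHom, ← Nilp.trace_asAlgebraHom, map_mul]
  have hu' := hform u hu
  have hv' := hform v hv
  generalize LinearMap.trace ℂ _ (ρ.asAlgebraHom u) = a at hu' ⊢
  generalize LinearMap.trace ℂ _ (ρ.asAlgebraHom v) = b at hv' ⊢
  rw [hu', hv', smul_mul_smul_comm, hP, map_smul, hy1, smul_eq_mul, mul_one]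

open Classical in
/-- The reduced trace of the block algebra. -/
noncomputable def zOf (B : Set (IrrCharacter G)) (x : MonoidAlgebra ℂ G) : MonoidAlgebra ℂ G :=
  ∑ χ ∈ (Finset.univ : Finset (IrrCharacter G)).filter (· ∈ B), twTrace (χ : G → ℂ) 1 x • blockElt ({χ} : Set (IrrCharacter G))

lemma twTrace_singleton_mul (ψ χ : IrrCharacter G) (c : MonoidAlgebra ℂ G) :
    twTrace (χ : G → ℂ) 1 (blockElt ({ψ} : Set (IrrCharacter G)) * c) = if χ = ψ then twTrace (χ : G → ℂ) 1 c else 0 := by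
  rw [twTrace_central_mul χ.2 1 (isClassFunction_blockElt _)]
  by_cases h : χ = ψ
  · rw [if_pos h, omega_blockElt_of_mem (by rw [h]; exact Set.mem_singleton _), one_mul]
  · rw [if_neg h, omega_blockElt_of_notMem (by simpa using h), zero_mul]

open Classical in
lemma twTrace_zOf_mul (χ : IrrCharacter G) (x c : MonoidAlgebra ℂ G) :
    twTrace (χ : G → ℂ) 1 (zOf B x * c) = if χ ∈ B then twTrace (χ : G → ℂ) 1 x * twTrace (χ : G → ℂ) 1 c else 0 := by
  classical
  rw [zOf, Finset.sum_mul, twTrace_sum]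
  simp only [smul_mul_assoc, twTrace_smul', twTrace_singleton_mul]
  by_cases h : χ ∈ B
  · rw [if_pos h, Finset.sum_eq_single χ]
    · rw [if_pos rfl]
    · intro ψ _ hne
      rw [if_neg (fun h' => hne h'.symm), mul_zero]
    · intro h'
      exact absurd (Finset.mem_filter.mpr ⟨Finset.mem_univ _, h⟩) h'
  · rw [if_neg h]
    refine Finset.sum_eq_zero fun ψ hψ => ?_
    have : χ ≠ ψ := fun h' => h (h' ▸ (Finset.mem_filter.mp hψ).2)
    rw [if_neg this, mul_zero]

lemma coeff_mul_single_one (a : MonoidAlgebra ℂ G) (g : G) :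
    (a * MonoidAlgebra.single g⁻¹ 1).coeff 1 = a.coeff g := by
  classical
  rw [coeff_mul_eq_sum', Finset.sum_eq_single g⁻¹]
  · simp
  · intro y _ hy
    simp [MonoidAlgebra.coeff_single, Finsupp.single_apply, Ne.symm hy]
  · simp

lemma classTrace_one (a : MonoidAlgebra ℂ G) : Necklace.classTrace (1 : G) a = a.coeff 1 := by
  classical
  rw [Necklace.classTrace, Finset.sum_eq_single 1]
  · rw [if_pos (IsConj.refl _)]
  · intro h _ hh
    rw [if_neg]
    intro hc
    exact hh (isConj_one_right.mp hc)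
  · simp

/-- Elements of the group algebra are separated by the traces of irreducible characters. -/
lemma eq_of_twTrace_mul {w w' : MonoidAlgebra ℂ G}
    (h : ∀ (χ : IrrCharacter G) (c : MonoidAlgebra ℂ G), twTrace (χ : G → ℂ) 1 (w * c) = twTrace (χ : G → ℂ) 1 (w' * c)) :
    w = w' := by
  apply ext_coeff
  intro g
  have h1 : ∀ χ : IrrCharacter G, twTrace (χ : G → ℂ) 1 ((w - w') * MonoidAlgebra.single g⁻¹ 1) = 0 := by
    intro χ
    rw [sub_mul, twTrace_sub, h χ, sub_self]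
  have h2 := classTrace_eq_zero_of_twTrace h1 1
  rw [classTrace_one, coeff_mul_single_one] at h2
  have h3 : w.coeff g - w'.coeff g = 0 := by simpa using h2
  exact sub_eq_zero.mp h3

/-- One term of the matrix units expansion. -/
lemma twTrace_unit_term {t : G → ℂ} (hcl : IsCharacter G t) {y₀ a b a' b' x c : MonoidAlgebra ℂ G}
    (hy2 : y₀ * y₀ = y₀) (hy1 : twTrace t 1 y₀ = 1) (h1 : y₀ * b = b) (h2 : a * y₀ = a) (h3 : y₀ * b' = b')
    (h4 : a' * y₀ = a') :
    twTrace t 1 (a' * b * x * a * b' * c) = twTrace t 1 (x * (a * b)) * twTrace t 1 (c * (a' * b')) := by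
  have e1 : twTrace t 1 (a' * b * x * a * b' * c) = twTrace t 1 ((b * x * a) * (b' * c * a')) := by
    have e0 : a' * b * x * a * b' * c = a' * (b * x * a * b' * c) := by simp only [mul_assoc]
    have e2 : (b * x * a) * (b' * c * a') = (b * x * a * b' * c) * a' := by simp only [mul_assoc]
    rw [e0, e2]
    exact twTrace_one_comm hcl _ _
  have e3 : twTrace t 1 (b * x * a) = twTrace t 1 (x * (a * b)) := by
    have e0 : b * x * a = b * (x * a) := by simp only [mul_assoc]
    have e2 : x * (a * b) = (x * a) * b := by simp only [mul_assoc]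
    rw [e0, e2]
    exact twTrace_one_comm hcl _ _
  have e4 : twTrace t 1 (b' * c * a') = twTrace t 1 (c * (a' * b')) := by
    have e0 : b' * c * a' = b' * (c * a') := by simp only [mul_assoc]
    have e2 : c * (a' * b') = (c * a') * b' := by simp only [mul_assoc]
    rw [e0, e2]
    exact twTrace_one_comm hcl _ _
  have h5 : y₀ * (b * x * a) * y₀ = b * x * a := by
    calc y₀ * (b * x * a) * y₀ = (y₀ * b) * x * (a * y₀) := by simp only [mul_assoc]
      _ = _ := by rw [h1, h2]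
  have h6 : y₀ * (b' * c * a') * y₀ = b' * c * a' := by
    calc y₀ * (b' * c * a') * y₀ = (y₀ * b') * c * (a' * y₀) := by simp only [mul_assoc]
      _ = _ := by rw [h3, h4]
  rw [e1, twTrace_mul_of_rank_one hcl hy2 hy1 h5 h6, e3, e4]

/-- The reduced trace computed with matrix units. -/
theorem zOf_eq_sum {J : Finset (MonoidAlgebra ℂ G)} {y₀ : MonoidAlgebra ℂ G} {α β : MonoidAlgebra ℂ G → MonoidAlgebra ℂ G}
    (hJ : ∑ j ∈ J, j = blockElt B) (hy2 : y₀ * y₀ = y₀)
    (hy1 : ∀ χ ∈ B, twTrace (χ : G → ℂ) 1 y₀ = 1) (h1 : ∀ j ∈ J, blockElt B * α j = α j)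
    (h2 : ∀ j ∈ J, α j * y₀ = α j)
    (h3 : ∀ j ∈ J, y₀ * β j = β j) (h5 : ∀ j ∈ J, α j * β j = j) (x : MonoidAlgebra ℂ G) :
    zOf B x = ∑ j ∈ J, ∑ j' ∈ J, α j' * β j * x * α j * β j' := by
  classical
  apply eq_of_twTrace_mul
  intro χ c
  rw [twTrace_zOf_mul]
  by_cases hχ : χ ∈ B
  · rw [if_pos hχ]
    have hcl := Cfsg.Agent.Lib.Char.Basic.isCharacter_of_isIrrCharacter χ.2
    have key : ∀ j ∈ J, ∀ j' ∈ J, twTrace (χ : G → ℂ) 1 (α j' * β j * x * α j * β j' * c) =
        twTrace (χ : G → ℂ) 1 (x * j) * twTrace (χ : G → ℂ) 1 (c * j') := by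
      intro j hj j' hj'
      have := twTrace_unit_term (x := x) (c := c) hcl hy2 (hy1 χ hχ) (h3 j hj) (h2 j hj) (h3 j' hj') (h2 j' hj')
      rw [h5 j hj, h5 j' hj'] at this
      exact this
    have hs : ∀ a : MonoidAlgebra ℂ G, ∑ j ∈ J, twTrace (χ : G → ℂ) 1 (a * j) = twTrace (χ : G → ℂ) 1 a := by
      intro a
      rw [← twTrace_sum, ← Finset.mul_sum, hJ, ← E_comm, twTrace_blockElt_mul B hχ]
    have e : twTrace (χ : G → ℂ) 1 ((∑ j ∈ J, ∑ j' ∈ J, α j' * β j * x * α j * β j') * c) =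
        ∑ j ∈ J, ∑ j' ∈ J, twTrace (χ : G → ℂ) 1 (x * j) * twTrace (χ : G → ℂ) 1 (c * j') := by
      rw [Finset.sum_mul, twTrace_sum]
      refine Finset.sum_congr rfl fun j hj => ?_
      rw [Finset.sum_mul, twTrace_sum]
      exact Finset.sum_congr rfl fun j' hj' => key j hj j' hj'
    rw [e]
    simp only [← Finset.mul_sum, ← Finset.sum_mul]
    rw [hs x, hs c]
  · rw [if_neg hχ]
    symm
    apply twTrace_of_notMem hχ
    rw [← mul_assoc, Finset.mul_sum]
    congr 1
    refine Finset.sum_congr rfl fun j _ => ?_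
    rw [Finset.mul_sum]
    refine Finset.sum_congr rfl fun j' hj' => ?_
    have : blockElt B * (α j' * β j * x * α j * β j') = (blockElt B * α j') * β j * x * α j * β j' := by
      simp only [mul_assoc]
    rw [this, h1 j' hj']

/-- **Azumaya**: the reduced trace of a block with equal degrees preserves local coefficients. -/
theorem locCoeff_zOf (hMp : IsPModular p M) (hB : IsPBlock M B) {n : ℕ}
    (hn : ∀ χ ∈ B, charDegree (χ : G → ℂ) = n) {x : MonoidAlgebra ℂ G} (hx : LocCoeff M x) :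
    LocCoeff M (zOf B x) := by
  classical
  obtain ⟨J, y₀, hJ, hy₀, hJeq, hy1, -, -⟩ := pim_of_equal_degree hMp hB hn
  choose! α β hα hβ h1 h2 h3 h4 h5 h6 using hJeq
  rw [zOf_eq_sum hJ.sum (hJ.prim y₀ hy₀).idem hy1 (α := α) (β := β) ?_ h2 h3 h5 x]
  · refine locCoeff_sum' _ _ fun j hj => locCoeff_sum' _ _ fun j' hj' => ?_
    exact (((((hα j' hj').mul (hβ j hj)).mul hx).mul (hα j hj)).mul (hβ j' hj'))
  · intro j hj
    rw [← h1 j hj, ← mul_assoc, hJ.mul_left hj]

end Six

end Cfsg.Agent.Lib.Blocks.Pim
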