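/-
Blocks with equal degrees: the Brauer map at a defect group is injective on the centre.
-/
import Mathlib
import Cfsg.Agent.Lib.Blocks.Pim6
import Cfsg.Agent.Lib.Blocks.Pairs3

set_option autoImplicit false

namespace Cfsg.Agent.Lib.Blocks.Pim

open Cfsg Cfsg.Agent.Lib.Blocks.Local Cfsg.Agent.Lib.Blocks.Central Cfsg.Agent.Lib.Blocks.Osima
open Cfsg.Agent.Lib.Blocks.Covering Cfsg.Agent.Lib.Blocks.BlockHom Cfsg.Agent.Lib.Blocks.Pairs
open Cfsg.Agent.Lib.Blocks.Twisted Cfsg.Agent.Lib.Blocks.Nilp Cfsg.Agent.Lib.Blocks.Sections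
open Cfsg.Agent.Lib.Blocks.Regular Cfsg.Agent.Lib.Blocks.SecondMain
open Cfsg.Agent.Lib.Char.Ortho Polynomial
open scoped ComplexConjugate

universe u

section Seven

variable {G : Type u} [Group G] [Fintype G] {M : Ideal AlgInt} [hM : M.IsPrime]
variable {p : ℕ} [hp : Fact p.Prime] {B : Set (IrrCharacter G)}

lemma twTrace_single_one (t : G → ℂ) (g : G) : twTrace t 1 (MonoidAlgebra.single g 1) = t g := by
  rw [twTrace_single]
  simp

lemma zOf_sum {ι : Type*} (s : Finset ι) (f : ι → MonoidAlgebra ℂ G) :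
    zOf B (∑ i ∈ s, f i) = ∑ i ∈ s, zOf B (f i) := by
  classical
  simp only [zOf, twTrace_sum, Finset.sum_smul]
  rw [Finset.sum_comm]

lemma zOf_smul (c : ℂ) (x : MonoidAlgebra ℂ G) : zOf B (c • x) = c • zOf B x := by
  classical
  simp only [zOf, twTrace_smul', Finset.smul_sum, smul_smul]

lemma zOf_expand (y : MonoidAlgebra ℂ G) : zOf B y = ∑ g : G, y.coeff g • zOf B (MonoidAlgebra.single g 1) := by
  classical
  have h0 : y = ∑ g : G, MonoidAlgebra.single g (y.coeff g) := by
    apply ext_coeff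
    intro x
    have := coeff_ofFun (fun g => y.coeff g) x
    rw [ofFun] at this
    rw [this]
  have h1 : ∀ g : G, (MonoidAlgebra.single g (y.coeff g) : MonoidAlgebra ℂ G) =
      y.coeff g • MonoidAlgebra.single g 1 := by
    intro g
    simp [MonoidAlgebra.smul_single]
  conv_lhs => rw [h0]
  rw [zOf_sum]
  refine Finset.sum_congr rfl fun g _ => ?_
  rw [h1 g, zOf_smul]

lemma zOf_single_conj (t g : G) :
    zOf B (MonoidAlgebra.single (t * g * t⁻¹) 1) = zOf B (MonoidAlgebra.single g 1) := by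
  classical
  simp only [zOf, twTrace_single_one]
  refine Finset.sum_congr rfl fun χ _ => ?_
  rw [isClassFunction_of_irr χ.2 g t]

lemma central_comm {W : MonoidAlgebra ℂ G} (hW : IsClassFunction G W.coeff) (a : MonoidAlgebra ℂ G) :
    a * W = W * a :=
  (commute_of_suppOn (K := ⊤) (fun g hg => absurd (Subgroup.mem_top g) hg)
    (fun g x _ => hW g x) : Commute a W).eq

lemma zOf_central_mul {W : MonoidAlgebra ℂ G} (hW : IsClassFunction G W.coeff) (x : MonoidAlgebra ℂ G) :
    zOf B (W * x) = W * zOf B x := by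
  classical
  simp only [zOf, Finset.mul_sum]
  refine Finset.sum_congr rfl fun χ _ => ?_
  rw [twTrace_central_mul χ.2 1 hW, mul_smul_comm, ← central_comm hW, Cfsg.Agent.Lib.Blocks.ModBlock.blockElt_singleton_mul hW, smul_smul, mul_comm]

lemma isClassFunction_zOf (x : MonoidAlgebra ℂ G) : IsClassFunction G (zOf B x).coeff := by
  classical
  intro g s
  simp only [zOf, MonoidAlgebra.coeff_sum, Finsupp.finsetSum_apply]
  refine Finset.sum_congr rfl fun χ _ => ?_
  exact isClassFunction_smul _ (isClassFunction_blockElt _) g s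

lemma zOf_mul_singleton {χ : IrrCharacter G} (hχ : χ ∈ B) (x : MonoidAlgebra ℂ G) :
    zOf B x * blockElt ({χ} : Set (IrrCharacter G)) = twTrace (χ : G → ℂ) 1 x • blockElt ({χ} : Set (IrrCharacter G)) := by
  classical
  rw [zOf, Finset.sum_mul, Finset.sum_eq_single χ]
  · rw [smul_mul_assoc, blockElt_mul_self]
  · intro ψ _ hne
    rw [smul_mul_assoc, blockElt_mul]
    have : ({ψ} : Set (IrrCharacter G)) ∩ {χ} = ∅ := by
      ext a
      simp only [Set.mem_inter_iff, Set.mem_singleton_iff, Set.mem_empty_iff_false, iff_false, not_and]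
      rintro rfl
      exact hne
    rw [this, blockElt_empty, smul_zero]
  · intro h
    exact absurd (Finset.mem_filter.mpr ⟨Finset.mem_univ _, hχ⟩) h

/-- A polynomial annihilating a central element on a set of characters. -/
lemma exists_poly_annihilates (z : MonoidAlgebra ℂ G) (a : IrrCharacter G → localRing M)
    (T : Finset (IrrCharacter G))
    (hz : ∀ ψ ∈ T, z * blockElt ({ψ} : Set (IrrCharacter G)) = iL (a ψ) * blockElt ({ψ} : Set (IrrCharacter G)))
    (ha : ∀ ψ ∈ T, a ψ ∉ localIdeal M) :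
    ∃ q : (localRing M)[X], (∀ ψ ∈ T, aeval z q * blockElt ({ψ} : Set (IrrCharacter G)) = 0) ∧
      q.coeff 0 ∉ localIdeal M := by
  classical
  induction T using Finset.induction_on with
  | empty =>
    refine ⟨1, by simp, ?_⟩
    rw [Polynomial.coeff_one_zero]
    exact fun h => not_memLocalIdeal_one h
  | insert b T hb ih =>
    obtain ⟨q, hq, hq0⟩ := ih (fun ψ hψ => hz ψ (Finset.mem_insert_of_mem hψ))
      (fun ψ hψ => ha ψ (Finset.mem_insert_of_mem hψ))
    refine ⟨q * (X - C (a b)), ?_, ?_⟩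
    · intro ψ hψ
      rcases Finset.mem_insert.mp hψ with rfl | hψ'
      · rw [map_mul, map_sub, aeval_X, aeval_C, mul_assoc, sub_mul, hz ψ (Finset.mem_insert_self _ _), sub_self,
          mul_zero]
      · rw [mul_comm, map_mul, mul_assoc, hq ψ hψ', mul_zero]
    · rw [Polynomial.mul_coeff_zero, Polynomial.coeff_sub, Polynomial.coeff_X_zero, Polynomial.coeff_C_zero, zero_sub]
      intro h
      rcases (Ideal.IsPrime.mem_or_mem inferInstance h) with h1 | h1
      · exact hq0 h1
      · exact ha b (Finset.mem_insert_self _ _) (by simpa using (localIdeal M).neg_mem h1)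

/-- A central element with unit central characters is invertible in the block. -/
theorem exists_inv_of_central (hB : IsPBlock M B) {z : MonoidAlgebra ℂ G} (hzl : LocCoeff M z)
    (a : IrrCharacter G → localRing M)
    (hz : ∀ ψ ∈ B, z * blockElt ({ψ} : Set (IrrCharacter G)) = iL (a ψ) * blockElt ({ψ} : Set (IrrCharacter G)))
    (ha : ∀ ψ ∈ B, a ψ ∉ localIdeal M) :
    ∃ z' : MonoidAlgebra ℂ G, LocCoeff M z' ∧ z * z' = blockElt B := by
  classical
  set T := (Finset.univ : Finset (IrrCharacter G)).filter (· ∈ B) with hT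
  obtain ⟨q, hq, hq0⟩ := exists_poly_annihilates z a T (fun ψ hψ => hz ψ (Finset.mem_filter.mp hψ).2)
    (fun ψ hψ => ha ψ (Finset.mem_filter.mp hψ).2)
  have hE : blockElt B = ∑ ψ ∈ T, blockElt ({ψ} : Set (IrrCharacter G)) := by
    have h1 := Cfsg.Agent.Lib.Blocks.ModBlock.blockElt_mul_classFun (G := G) B (a := 1)
      (by simpa using isClassFunction_one)
    rw [mul_one] at h1
    rw [h1]
    refine Finset.sum_congr rfl fun ψ _ => ?_
    rw [omega_one ψ.2, one_smul]
  have h0 : aeval z q * blockElt B = 0 := by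
    rw [hE, Finset.mul_sum]
    exact Finset.sum_eq_zero fun ψ hψ => hq ψ hψ
  have hq1 : q = X * divX q + C (q.coeff 0) := by
    conv_lhs => rw [← divX_mul_X_add q]
    rw [mul_comm]
  set c := q.coeff 0 with hc
  have hc' : ¬ MemLocalIdeal M ((c : localRing M) : ℂ) := hq0
  set r : localRing M := ⟨((c : localRing M) : ℂ)⁻¹, memLocalRing_inv_of_not_memLocalIdeal c.2 hc'⟩ with hr
  have hrc : r * c = 1 := by
    apply Subtype.ext
    have h2 : ((c : localRing M) : ℂ) ≠ 0 := ne_zero_of_not_memLocalIdeal hc'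
    simp [hr, h2]
  set g := aeval z (divX q) with hg
  have h1 : (z * g + iL c) * blockElt B = 0 := by
    have : aeval z q = z * g + iL c := by
      conv_lhs => rw [hq1]
      rw [map_add, map_mul, aeval_X, aeval_C]
    rw [← this, h0]
  have hl : LocCoeff M (-(iL r * (g * blockElt B))) := by
    have := (locCoeff_zero (M := M) (G := G)).sub ((locCoeff_algebraMap r).mul ((locCoeff_aeval hzl (divX q)).mul (E_loc hB)))
    rwa [zero_sub] at this
  refine ⟨-(iL r * (g * blockElt B)), hl, ?_⟩
  have h2 : z * g * blockElt B = - (iL c * blockElt B) := by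
    rw [add_mul] at h1
    exact eq_neg_of_add_eq_zero_left h1
  calc z * -(iL r * (g * blockElt B)) = - (iL r * (z * g * blockElt B)) := by
        rw [mul_neg, ← mul_assoc, ← iL_comm r z, mul_assoc, mul_assoc]
    _ = iL r * (iL c * blockElt B) := by rw [h2, mul_neg, neg_neg]
    _ = blockElt B := by rw [← mul_assoc, ← iL_mul, hrc, iL_one, one_mul]

lemma iL_mul_eq_smul (q : localRing M) (a : MonoidAlgebra ℂ G) : iL q * a = (q : ℂ) • a := by
  apply ext_coeff
  intro g
  rw [coeff_iL]
  simp

lemma coeff_mul_single1 (a : MonoidAlgebra ℂ G) (c g : G) :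
    (a * MonoidAlgebra.single c 1).coeff g = a.coeff (g * c⁻¹) := by
  classical
  rw [coeff_mul_eq_sum', Finset.sum_eq_single c]
  · simp
  · intro y _ hy
    simp [MonoidAlgebra.coeff_single, Finsupp.single_apply, Ne.symm hy]
  · simp

/-- A type synonym carrying the conjugation action. -/
def CjT (G : Type u) : Type u := G

instance : Fintype (CjT G) := inferInstanceAs (Fintype G)

lemma conj_one_aux (D : Subgroup G) (g : G) : ((1 : D) : G) * g * ((1 : D) : G)⁻¹ = g := by simp

lemma conj_mul_aux (D : Subgroup G) (u v : D) (g : G) :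
    ((u * v : D) : G) * g * ((u * v : D) : G)⁻¹ = (u : G) * ((v : G) * g * (v : G)⁻¹) * (u : G)⁻¹ := by
  simp only [Subgroup.coe_mul, mul_inv_rev]
  group

instance (D : Subgroup G) : MulAction D (CjT G) where
  smul u g := ((u : G) * (show G from g) * (u : G)⁻¹ : G)
  one_smul g := conj_one_aux D g
  mul_smul u v g := conj_mul_aux D u v g

/-- A conjugation invariant sum over a `p`-group is determined modulo the ideal by the centralizer. -/
theorem memLocalIdeal_sum_of_invariant (hMp : IsPModular p M) {D : Subgroup G} (hDp : IsPGroup p D) {φ : G → ℂ}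
    (hl : ∀ g, MemLocalRing M (φ g)) (hinv : ∀ u ∈ D, ∀ g, φ (u * g * u⁻¹) = φ g)
    (hfix : ∀ g ∈ Subgroup.centralizer (D : Set G), MemLocalIdeal M (φ g)) :
    MemLocalIdeal M (∑ g, φ g) := by
  classical
  haveI : CharP (localRing M ⧸ localIdeal M) p := charP_residue hMp
  set f : CjT G → localRing M ⧸ localIdeal M := fun g => residue M ⟨φ g, hl g⟩ with hf
  have hf1 : ∀ (u : D) (a : CjT G), f (u • a) = f a := by
    intro u a
    simp only [hf]
    congr 2
    exact hinv u u.2 a
  have hsum := sum_eq_sum_fixed (F := localRing M ⧸ localIdeal M) hDp f hf1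
  have h0 : ∑ a ∈ Finset.univ.filter (fun a : CjT G => ∀ u : D, u • a = a), f a = 0 := by
    refine Finset.sum_eq_zero fun a ha => ?_
    have h1 := (Finset.mem_filter.mp ha).2
    have h2 : (show G from a) ∈ Subgroup.centralizer (D : Set G) := by
      rw [Subgroup.mem_centralizer_iff]
      intro u hu
      have h3 : (u : G) * (show G from a) * u⁻¹ = a := h1 ⟨u, hu⟩
      calc u * (show G from a) = (u * (show G from a) * u⁻¹) * u := by group
        _ = _ := by rw [h3]
    exact Ideal.Quotient.eq_zero_iff_mem.mpr (hfix _ h2)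
  rw [h0] at hsum
  have h3 : ∑ a : CjT G, f a = residue M ⟨∑ g, φ g, memLocalRing_sum _ _ fun g _ => hl g⟩ := by
    have h4 : (⟨∑ g, φ g, memLocalRing_sum _ _ fun g _ => hl g⟩ : localRing M) = ∑ g, (⟨φ g, hl g⟩ : localRing M) :=
      Subtype.ext (by push_cast; rfl)
    rw [h4, map_sum]
    rfl
  rw [h3] at hsum
  exact Ideal.Quotient.eq_zero_iff_mem.mp hsum

/-- **Key**: when the reduced trace is local, the Brauer map at a `p`-subgroup centralizing an element with unit
character values is injective on the centre of the block. -/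
theorem memLocalIdeal_of_centralizer (hMp : IsPModular p M) (hB : IsPBlock M B)
    (hAz : ∀ x : MonoidAlgebra ℂ G, LocCoeff M x → LocCoeff M (zOf B x)) {D : Subgroup G} (hDp : IsPGroup p D)
    {c₀ : G} (hc₀ : ∀ u ∈ D, u * c₀ = c₀ * u) (hχ : ∀ χ ∈ B, ¬ MemLocalIdeal M ((χ : G → ℂ) c₀))
    {W : MonoidAlgebra ℂ G} (hWc : IsClassFunction G W.coeff) (hWl : LocCoeff M W) (hEW : blockElt B * W = W)
    (hC : ∀ g ∈ Subgroup.centralizer (D : Set G), MemLocalIdeal M (W.coeff g)) :
    ∀ g, MemLocalIdeal M (W.coeff g) := by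
  classical
  have hsl : ∀ g : G, LocCoeff M (MonoidAlgebra.single g 1 : MonoidAlgebra ℂ G) := fun g => locCoeff_single1 g
  set z₀ := zOf B (MonoidAlgebra.single c₀ 1) with hz₀
  have hz₀l : LocCoeff M z₀ := hAz _ (hsl c₀)
  -- the inverse of `z₀`
  have hval : ∀ ψ : IrrCharacter G, MemLocalRing M ((ψ : G → ℂ) c₀) := fun ψ =>
    memLocalRing_of_isIntegral (isIntegral_irr ψ.2 c₀)
  obtain ⟨z', hz'l, hz'⟩ := exists_inv_of_central hB hz₀l (fun ψ => ⟨(ψ : G → ℂ) c₀, hval ψ⟩)
    (fun ψ hψ => by
      have h1 := zOf_mul_singleton hψ (MonoidAlgebra.single c₀ (1 : ℂ))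
      rw [twTrace_single_one] at h1
      rw [hz₀, h1, iL_mul_eq_smul])
    (fun ψ hψ => hχ ψ hψ)
  -- the translate of `W`
  set y := W * MonoidAlgebra.single c₀ 1 with hy
  have hyc : ∀ g, y.coeff g = W.coeff (g * c₀⁻¹) := fun g => coeff_mul_single1 W c₀ g
  have hWz : W * z₀ = zOf B y := by
    rw [hy, zOf_central_mul hWc]
  have hcoeff : ∀ h, MemLocalIdeal M ((W * z₀).coeff h) := by
    intro h
    rw [hWz, zOf_expand y]
    have e : (∑ g : G, y.coeff g • zOf B (MonoidAlgebra.single g 1)).coeff h =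
        ∑ g : G, y.coeff g * (zOf B (MonoidAlgebra.single g 1)).coeff h := by
      simp [MonoidAlgebra.coeff_sum, Finsupp.finsetSum_apply]
    rw [e]
    refine memLocalIdeal_sum_of_invariant hMp hDp ?_ ?_ ?_
    · intro g
      exact memLocalRing_mul (by rw [hyc]; exact hWl _) (hAz _ (hsl g) h)
    · intro u hu g
      rw [hyc, hyc, zOf_single_conj]
      congr 1
      have h1 : u * g * u⁻¹ * c₀⁻¹ = u * (g * c₀⁻¹) * u⁻¹ := by
        have h2 : u⁻¹ * c₀⁻¹ = c₀⁻¹ * u⁻¹ := by
          have := hc₀ u hu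
          rw [← mul_inv_rev, ← mul_inv_rev, this]
        simp only [mul_assoc, h2]
      rw [h1]
      exact hWc _ u
    · intro g hg
      refine memLocalIdeal_mul_right ?_ (hAz _ (hsl g) h)
      rw [hyc]
      refine hC _ ?_
      refine Subgroup.mul_mem _ hg (Subgroup.inv_mem _ ?_)
      rw [Subgroup.mem_centralizer_iff]
      exact fun u hu => hc₀ u hu
  intro g
  have h1 : W = W * z₀ * z' := by
    rw [mul_assoc, hz', central_comm (isClassFunction_blockElt B), hEW]
  have h2 : CoeffIn (localIdeal M) (W * z₀ * z') :=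
    coeffIn_mul_loc (coeffIn_localIdeal_iff.mpr hcoeff) hz'l
  rw [← h1] at h2
  exact coeffIn_localIdeal_iff.mp h2 g

end Seven

end Cfsg.Agent.Lib.Blocks.Pim
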