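/-
The centre of a block with a central defect group with as many characters as the order of the defect group.
-/
import Mathlib
import Cfsg.Agent.Lib.Blocks.Pim7

set_option autoImplicit false

namespace Cfsg.Agent.Lib.Blocks.Pim

open Cfsg Cfsg.Agent.Lib.Blocks.Local Cfsg.Agent.Lib.Blocks.Central Cfsg.Agent.Lib.Blocks.Osima
open Cfsg.Agent.Lib.Blocks.Covering Cfsg.Agent.Lib.Blocks.BlockHom Cfsg.Agent.Lib.Blocks.Pairs
open Cfsg.Agent.Lib.Blocks.Twisted Cfsg.Agent.Lib.Blocks.Nilp Cfsg.Agent.Lib.Blocks.Sections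
open Cfsg.Agent.Lib.Blocks.Regular Cfsg.Agent.Lib.Blocks.SecondMain
open Cfsg.Agent.Lib.Char.Ortho
open scoped ComplexConjugate

universe u

section Eight

variable {H : Type u} [Group H] [Fintype H] {M : Ideal AlgInt} [hM : M.IsPrime]
variable {p : ℕ} [hp : Fact p.Prime] {e : Set (IrrCharacter H)}

/-- Multiplying a regular element by a nontrivial central `p`-element makes it singular. -/
lemma dvd_orderOf_mul {w c : H} (hcomm : Commute w c) {k : ℕ} (hw : orderOf w = p ^ k) (hw1 : w ≠ 1)
    (hc : ¬ p ∣ orderOf c) : p ∣ orderOf (w * c) := by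
  by_contra hn
  set m := orderOf (w * c) with hm
  have h1 : w ^ m * c ^ m = 1 := by
    rw [← hcomm.mul_pow, hm, pow_orderOf_eq_one]
  have h2 : w ^ m = (c ^ m)⁻¹ := eq_inv_of_mul_eq_one_left h1
  have h3 : orderOf (w ^ m) ∣ p ^ k := by
    rw [← hw]
    exact orderOf_pow_dvd m
  have h4 : orderOf (w ^ m) ∣ orderOf c := by
    rw [h2, orderOf_inv]
    exact orderOf_pow_dvd m
  have h5 : Nat.Coprime (p ^ k) (orderOf c) :=
    Nat.Coprime.pow_left _ ((Nat.Prime.coprime_iff_not_dvd hp.out).mpr hc)
  have h6 : orderOf (w ^ m) = 1 := Nat.eq_one_of_dvd_coprimes h5 h3 h4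
  have h7 : w ^ m = 1 := orderOf_eq_one_iff.mp h6
  have h8 : p ^ k ∣ m := by
    rw [← hw]
    exact orderOf_dvd_of_pow_eq_one h7
  have hk : k ≠ 0 := by
    rintro rfl
    apply hw1
    rw [pow_zero] at hw
    exact orderOf_eq_one_iff.mp hw
  exact hn ((dvd_pow_self p hk).trans h8)

lemma not_dvd_of_blockCoeff_ne (hMp : IsPModular p M) (he : IsPBlock M e) {c : H} (hc : blockCoeff e c ≠ 0) :
    ¬ p ∣ orderOf c := fun h => hc (blockCoeff_eq_zero_of_dvd hMp he h)

lemma blockCoeff_mul_eq_zero (hMp : IsPModular p M) (he : IsPBlock M e) {Z : Subgroup H} (hZp : IsPGroup p Z)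
    (hZ : ∀ z ∈ Z, ∀ g : H, z * g = g * z) {c : H} (hc : blockCoeff e c ≠ 0) {w : H} (hw : w ∈ Z) (hw1 : w ≠ 1) :
    blockCoeff e (w * c) = 0 := by
  apply blockCoeff_eq_zero_of_dvd hMp he
  obtain ⟨k, hk⟩ := (IsPGroup.iff_orderOf.mp hZp) ⟨w, hw⟩
  have hk' : orderOf w = p ^ k := by
    rw [← hk]
    exact (Subgroup.orderOf_mk w hw).symm
  exact dvd_orderOf_mul (hZ w hw c) hk' hw1 (not_dvd_of_blockCoeff_ne hMp he hc)

/-- The coefficients of the central translates of the block idempotent. -/
lemma coeff_single_mul1 (a : MonoidAlgebra ℂ H) (c g : H) :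
    (MonoidAlgebra.single c 1 * a).coeff g = a.coeff (c⁻¹ * g) := by
  classical
  rw [coeff_mul_eq_sum, Finset.sum_eq_single c]
  · simp
  · intro y _ hy
    simp [MonoidAlgebra.coeff_single, Finsupp.single_apply, Ne.symm hy]
  · simp

/-- **Lemma**: the centre of a block with central defect group and few characters. -/
theorem central_expand (hMp : IsPModular p M) (he : IsPBlock M e) {Z : Subgroup H} [Fintype Z] (hZp : IsPGroup p Z)
    (hZ : ∀ z ∈ Z, ∀ g : H, z * g = g * z) (hk : Nat.card e ≤ Nat.card Z) {c : H} (hc : blockCoeff e c ≠ 0)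
    {X : MonoidAlgebra ℂ H} (hXc : IsClassFunction H X.coeff) (hEX : blockElt e * X = X) (g : H) :
    X.coeff g = ∑ u : Z, (X.coeff ((u : H) * c) / blockCoeff e c) * blockCoeff e ((u : H)⁻¹ * g) := by
  classical
  set T := (Finset.univ : Finset (IrrCharacter H)).filter (· ∈ e) with hT
  set V : Submodule ℂ (MonoidAlgebra ℂ H) := Submodule.span ℂ
    (Set.range fun ψ : T => blockElt ({(ψ : IrrCharacter H)} : Set (IrrCharacter H))) with hV
  have hVfin : Module.finrank ℂ V ≤ Fintype.card Z := by
    refine (finrank_range_le_card _).trans ?_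
    have h1 : Fintype.card T = Nat.card e := by
      rw [Fintype.card_coe, Nat.card_eq_card_toFinset]
      congr 1
      ext x
      simp [hT]
    rw [h1, ← Nat.card_eq_fintype_card]
    exact hk
  have hmem : ∀ a : MonoidAlgebra ℂ H, IsClassFunction H a.coeff → blockElt e * a ∈ V := by
    intro a ha
    rw [Cfsg.Agent.Lib.Blocks.ModBlock.blockElt_mul_classFun e ha]
    refine Submodule.sum_mem _ fun χ hχ => Submodule.smul_mem _ _ (Submodule.subset_span ?_)
    exact ⟨⟨χ, hχ⟩, rfl⟩
  set b : Z → MonoidAlgebra ℂ H := fun u => MonoidAlgebra.single (u : H) 1 * blockElt e with hb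
  have hbc : ∀ u : Z, IsClassFunction H (MonoidAlgebra.single (u : H) (1 : ℂ)).coeff := by
    intro u g x
    have h1 : x * g * x⁻¹ = (u : H) ↔ g = (u : H) := by
      constructor
      · intro h
        have h2 : g = x⁻¹ * (u : H) * x := by rw [← h]; group
        rw [h2, mul_assoc, hZ u u.2 x]; simp
      · rintro rfl
        rw [← hZ u u.2 x]; simp
    simp only [MonoidAlgebra.coeff_single, Finsupp.single_apply]
    by_cases h : g = (u : H)
    · rw [if_pos (h1.mpr h |>.symm), if_pos h.symm]
    · rw [if_neg (fun h' => h (h1.mp h'.symm)), if_neg (fun h' => h h'.symm)]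
  have hbclass : ∀ u, IsClassFunction H (b u).coeff := fun u =>
    isClassFunction_mul (hbc u) (isClassFunction_blockElt e)
  have hbE : ∀ u, blockElt e * b u = b u := by
    intro u
    simp only [hb]
    rw [← mul_assoc, ← central_comm (isClassFunction_blockElt e) (MonoidAlgebra.single (u : H) 1), mul_assoc, blockElt_mul_self]
  have hbmem : ∀ u, b u ∈ V := fun u => by
    have := hmem (b u) (hbclass u)
    rwa [hbE] at this
  have hcoef0 : ∀ (u : Z) (g : H), (b u).coeff g = blockCoeff e ((u : H)⁻¹ * g) := by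
    intro u g
    simp only [hb]
    rw [coeff_single_mul1, coeff_blockElt]
  have hcoef : ∀ u v : Z, (b u).coeff ((v : H) * c) = if u = v then blockCoeff e c else 0 := by
    intro u v
    rw [hcoef0]
    by_cases huv : u = v
    · subst huv
      rw [if_pos rfl, inv_mul_cancel_left]
    · rw [if_neg huv, ← mul_assoc]
      refine blockCoeff_mul_eq_zero hMp he hZp hZ hc (Subgroup.mul_mem _ (Subgroup.inv_mem _ u.2) v.2) ?_
      intro h
      apply huv
      have h1 : (u : H) = v := by
        have := congrArg (fun x => (u : H) * x) h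
        simpa using this.symm
      exact Subtype.ext h1
  have hli : LinearIndependent ℂ b := by
    rw [Fintype.linearIndependent_iff]
    intro l h v
    have h1 := congrArg (fun x : MonoidAlgebra ℂ H => x.coeff ((v : H) * c)) h
    simp only [MonoidAlgebra.coeff_sum, Finsupp.finsetSum_apply] at h1
    have h2 : ∀ u : Z, (l u • b u).coeff ((v : H) * c) = l u * (if u = v then blockCoeff e c else 0) := by
      intro u
      rw [← hcoef]
      simp
    simp only [h2] at h1
    rw [Finset.sum_eq_single v] at h1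
    · rw [if_pos rfl] at h1
      have h3 : l v * blockCoeff e c = 0 := by simpa using h1
      exact (mul_eq_zero.mp h3).resolve_right hc
    · intro u _ hu
      rw [if_neg hu, mul_zero]
    · simp
  have hspan : Submodule.span ℂ (Set.range b) = V := by
    refine Submodule.eq_of_le_of_finrank_le ?_ ?_
    · refine Submodule.span_le.mpr ?_
      rintro _ ⟨u, rfl⟩
      exact hbmem u
    · rw [finrank_span_eq_card hli]
      exact hVfin
  have hX : X ∈ V := by
    rw [← hEX]
    exact hmem X hXc
  rw [← hspan] at hX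
  obtain ⟨l, hl⟩ := (Submodule.mem_span_range_iff_exists_fun ℂ).mp hX
  have hXcoeff : ∀ g, X.coeff g = ∑ u, l u * blockCoeff e ((u : H)⁻¹ * g) := by
    intro g
    rw [← hl]
    simp only [MonoidAlgebra.coeff_sum, Finsupp.finsetSum_apply]
    refine Finset.sum_congr rfl fun u _ => ?_
    rw [← hcoef0]
    simp
  have hval : ∀ v : Z, X.coeff ((v : H) * c) = l v * blockCoeff e c := by
    intro v
    rw [hXcoeff, Finset.sum_eq_single v]
    · rw [inv_mul_cancel_left]
    · intro u _ hu
      rw [← mul_assoc, blockCoeff_mul_eq_zero hMp he hZp hZ hc (Subgroup.mul_mem _ (Subgroup.inv_mem _ u.2) v.2), mul_zero]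
      intro h
      apply hu
      have h1 : (u : H) = v := by
        have := congrArg (fun x => (u : H) * x) h
        simpa using this.symm
      exact Subtype.ext h1
    · simp
  rw [hXcoeff]
  refine Finset.sum_congr rfl fun u _ => ?_
  rw [hval, mul_div_cancel_right₀ _ hc]

end Eight

end Cfsg.Agent.Lib.Blocks.Pim
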