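/-
Blocks with equal degrees: the pair through which the reduced trace is a unit.
-/
import Mathlib
import Cfsg.Agent.Lib.Blocks.Pim8
import Cfsg.Agent.Lib.Blocks.FirstMain2
import Cfsg.Agent.Lib.Blocks.Pairs22

set_option autoImplicit false

namespace Cfsg.Agent.Lib.Blocks.Pim

open Cfsg Cfsg.Agent.Lib.Blocks.Local Cfsg.Agent.Lib.Blocks.Central Cfsg.Agent.Lib.Blocks.Osima
open Cfsg.Agent.Lib.Blocks.Covering Cfsg.Agent.Lib.Blocks.BlockHom Cfsg.Agent.Lib.Blocks.Pairs
open Cfsg.Agent.Lib.Blocks.Twisted Cfsg.Agent.Lib.Blocks.Nilp Cfsg.Agent.Lib.Blocks.Sections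
open Cfsg.Agent.Lib.Blocks.Regular Cfsg.Agent.Lib.Blocks.SecondMain
open Cfsg.Agent.Lib.Char.Ortho
open scoped ComplexConjugate

universe u

section Nine

variable {G : Type u} [Group G] [Fintype G] {M : Ideal AlgInt} [hM : M.IsPrime] {p : ℕ} [hp : Fact p.Prime]
  {B : Set (IrrCharacter G)}

/-- **Key**: when the reduced trace is local, an element of the centre of the block is determined modulo the ideal by
its product with a `D`-invariant element with unit trace, on the centralizer of `D`. -/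
theorem memLocalIdeal_of_centralizer' (hMp : IsPModular p M) (hB : IsPBlock M B)
    (hAz : ∀ x : MonoidAlgebra ℂ G, LocCoeff M x → LocCoeff M (zOf B x)) {D : Subgroup G} (hDp : IsPGroup p D)
    {c : MonoidAlgebra ℂ G} (hcl : LocCoeff M c) (hci : InvBy D c) {χ₀ : IrrCharacter G} (hχ₀ : χ₀ ∈ B)
    (hu : ¬ MemLocalIdeal M (twTrace (χ₀ : G → ℂ) 1 c))
    {W : MonoidAlgebra ℂ G} (hWc : IsClassFunction G W.coeff) (hWl : LocCoeff M W) (hEW : blockElt B * W = W)
    (hC : ∀ g ∈ Subgroup.centralizer (D : Set G), MemLocalIdeal M ((W * c).coeff g)) :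
    ∀ g, MemLocalIdeal M (W.coeff g) := by
  classical
  have hsl : ∀ g : G, LocCoeff M (MonoidAlgebra.single g 1 : MonoidAlgebra ℂ G) := fun g => locCoeff_single1 g
  set z₀ := zOf B c with hz₀
  have hz₀l : LocCoeff M z₀ := hAz _ hcl
  have hz₀c : IsClassFunction G z₀.coeff := isClassFunction_zOf c
  have hz₀Z : z₀ ∈ localCenter G M := ⟨hz₀c, hz₀l⟩
  have hval : ∀ ψ : IrrCharacter G, MemLocalRing M (twTrace (ψ : G → ℂ) 1 c) := fun ψ =>
    memLocalRing_sum _ _ fun g _ => memLocalRing_mul (hcl g)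
      (memLocalRing_of_isIntegral (isIntegral_irr ψ.2 _))
  have hom : ∀ ψ ∈ B, omega (ψ : G → ℂ) z₀ = twTrace (ψ : G → ℂ) 1 c := by
    intro ψ hψ
    have h1 := congrArg (omega (ψ : G → ℂ)) (zOf_mul_singleton (B := B) hψ c)
    rw [omega_mul ψ.2 hz₀c, omega_smul, omega_blockElt_of_mem (Set.mem_singleton ψ), mul_one, mul_one] at h1
    exact h1
  have hunit : ∀ ψ ∈ B, ¬ MemLocalIdeal M (twTrace (ψ : G → ℂ) 1 c) := by
    intro ψ hψ h
    apply hu
    obtain ⟨χ', rfl⟩ := id hB
    have hsame : SameBlock M (χ₀ : G → ℂ) (ψ : G → ℂ) := by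
      have h1 : SameBlock M (χ' : G → ℂ) (χ₀ : G → ℂ) := hχ₀
      have h2 : SameBlock M (χ' : G → ℂ) (ψ : G → ℂ) := hψ
      intro g
      have h3 := memLocalIdeal_sub (h2 g) (h1 g)
      convert h3 using 1
      ring
    have h1 := memLocalIdeal_omega_sub χ₀.2 ψ.2 hsame hz₀Z
    rw [hom χ₀ hχ₀, hom ψ hψ] at h1
    have h2 := memLocalIdeal_add h1 h
    rwa [sub_add_cancel] at h2
  obtain ⟨z', hz'l, hz'⟩ := exists_inv_of_central hB hz₀l (fun ψ => ⟨twTrace (ψ : G → ℂ) 1 c, hval ψ⟩)
    (fun ψ hψ => by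
      have h1 := zOf_mul_singleton (B := B) hψ c
      rw [hz₀, h1, iL_mul_eq_smul])
    (fun ψ hψ => hunit ψ hψ)
  set y := W * c with hy
  have hyi : InvBy D y := InvBy.mul (fun x u _ => hWc x u) hci
  have hyl : LocCoeff M y := hWl.mul hcl
  have hWz : W * z₀ = zOf B y := by
    rw [hy, zOf_central_mul hWc]
  have hcoeff : ∀ h, MemLocalIdeal M ((W * z₀).coeff h) := by
    intro h
    rw [hWz, zOf_expand y]
    have e : (∑ g : G, y.coeff g • zOf B (MonoidAlgebra.single g 1)).coeff h =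
        ∑ g : G, y.coeff g * (zOf B (MonoidAlgebra.single g 1)).coeff h := by
      simp [MonoidAlgebra.coeff_sum, Finsupp.finsetSum_apply]
    rw [e]
    refine memLocalIdeal_sum_of_invariant hMp hDp ?_ ?_ ?_
    · intro g
      exact memLocalRing_mul (hyl g) (hAz _ (hsl g) h)
    · intro u hu g
      rw [zOf_single_conj, hyi g u hu]
    · intro g hg
      exact memLocalIdeal_mul_right (hC g hg) (hAz _ (hsl g) h)
  intro g
  have h1 : W = W * z₀ * z' := by
    rw [mul_assoc, hz', central_comm (isClassFunction_blockElt B), hEW]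
  have h2 : CoeffIn (localIdeal M) (W * z₀ * z') :=
    coeffIn_mul_loc (coeffIn_localIdeal_iff.mpr hcoeff) hz'l
  rw [← h1] at h2
  exact coeffIn_localIdeal_iff.mp h2 g

/-- Every element is a sum over the blocks of a subgroup: a unit value lives in one of the blocks, and the pair is a
pair of the block. -/
theorem exists_pair_unit (hMp : IsPModular p M) (hB : IsPBlock M B) {D : Subgroup G}
    [Fintype (Subgroup.centralizer (D : Set G))] (hDp : IsPGroup p D) {c₀ : G}
    (hc₀ : c₀ ∈ Subgroup.centralizer (D : Set G)) {χ₀ : IrrCharacter G} (hχ₀ : χ₀ ∈ B)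
    (hu : ¬ MemLocalIdeal M ((χ₀ : G → ℂ) c₀)) :
    ∃ e : Set (IrrCharacter (Subgroup.centralizer (D : Set G))), IsBrauerPairOf p M B D e ∧
      ¬ MemLocalIdeal M (twTrace (χ₀ : G → ℂ) 1
        (MonoidAlgebra.single c₀ 1 * EE (Subgroup.centralizer (D : Set G)) e)) := by
  classical
  set C := Subgroup.centralizer (D : Set G) with hCdef
  have hsum := sum_EE_eq_one (M := M) (G := G) C
  have hχ₀l : ∀ g, MemLocalRing M ((χ₀ : G → ℂ) g) := fun g =>
    memLocalRing_of_isIntegral (isIntegral_irr χ₀.2 g)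
  have hex : ∃ f : Blk M C, ¬ MemLocalIdeal M (twTrace (χ₀ : G → ℂ) 1 (MonoidAlgebra.single c₀ 1 * EE C f.1)) := by
    by_contra hcon
    push Not at hcon
    apply hu
    have h1 : twTrace (χ₀ : G → ℂ) 1 (MonoidAlgebra.single c₀ 1) = (χ₀ : G → ℂ) c₀ := twTrace_single_one _ _
    rw [← h1]
    have h2 : (MonoidAlgebra.single c₀ 1 : MonoidAlgebra ℂ G) =
        ∑ f : Blk M C, MonoidAlgebra.single c₀ 1 * EE C f.1 := by
      rw [← Finset.mul_sum, hsum, mul_one]
    rw [h2, twTrace_sum]
    exact memLocalIdeal_sum _ _ fun f _ => hcon f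
  obtain ⟨⟨e, he⟩, hf⟩ := hex
  refine ⟨e, ?_, hf⟩
  obtain ⟨ψ, hψ⟩ := isPBlock_nonempty he
  by_contra hne
  have hbv : ∀ ξ ∈ e, MemLocalIdeal M (bv D (ξ : C → ℂ) (blockElt B)) := by
    intro ξ hξ
    by_contra h
    exact hne (isBrauerPairOf_of_not_mem hMp hDp he hB hξ h)
  apply hf
  set E := blockElt B with hE
  have hEd : BrDom M D E := brDom_blockElt hB
  set v : MonoidAlgebra ℂ C := res C E * blockElt e with hv
  have hresZ : res C E ∈ localCenter C M := res_mem_localCenter hEd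
  have heZ : blockElt e ∈ localCenter C M := blockElt_mem_localCenter he
  have hvZ : v ∈ localCenter C M := (localCenter C M).mul_mem hresZ heZ
  have hv0 : CoeffIn (localIdeal M) (v - 0) := by
    refine Cfsg.Agent.Lib.Blocks.FirstMain2.coeffIn_sub_of_omega hvZ (localCenter C M).zero_mem ?_ (mul_zero 0) ?_
    · have h1 : v - v * v = (res C E - res C E * res C E) * blockElt e := by
        have h2 : v * v = res C E * res C E * blockElt e := by
          rw [hv, mul_assoc, ← mul_assoc (blockElt e), ← central_comm heZ.1 (res C E), mul_assoc (res C E),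
            blockElt_mul_self, mul_assoc]
        rw [h2, hv, sub_mul]
      rw [h1]
      refine coeffIn_mul_loc ?_ heZ.2
      rw [coeffIn_localIdeal_iff]
      intro h
      have h3 := res_mul_sub_coeff hMp hDp hEd.loc hEd.invP hEd.loc hEd.invP h
      rw [hE, blockElt_mul_self, ← hE] at h3
      exact h3
    · intro ξ
      rw [omega_zero, sub_zero, hv, omega_mul ξ.2 hresZ.1]
      by_cases hξ : ξ ∈ e
      · rw [omega_blockElt_of_mem hξ, mul_one]
        exact hbv ξ hξ
      · rw [omega_blockElt_of_notMem hξ, mul_zero]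
        exact memLocalIdeal_zero
  rw [sub_zero] at hv0
  set c := (MonoidAlgebra.single c₀ 1 : MonoidAlgebra ℂ G) * EE C e with hc
  have hcl : LocCoeff M c := (locCoeff_single1 c₀).mul (locCoeff_EE he)
  have hs0 : InvBy D (MonoidAlgebra.single c₀ (1 : ℂ)) := by
    intro x u hu
    have h1 : u * c₀ * u⁻¹ = c₀ := by
      rw [Subgroup.mem_centralizer_iff.mp hc₀ u hu]
      group
    have h2 : u * x * u⁻¹ = c₀ ↔ x = c₀ := by
      constructor
      · intro h
        rw [← h1] at h
        exact mul_left_cancel (mul_right_cancel h)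
      · rintro rfl
        exact h1
    simp only [MonoidAlgebra.coeff_single, Finsupp.single_apply]
    by_cases hx : x = c₀
    · rw [if_pos (h2.mpr hx).symm, if_pos hx.symm]
    · rw [if_neg (fun h => hx (h2.mp h.symm)), if_neg (fun h => hx h.symm)]
  have hci : InvBy D c := hs0.mul (invBy_EE_centralizer D e)
  set k₀ : C := ⟨c₀, hc₀⟩ with hk₀
  have hpush : push C ((MonoidAlgebra.single k₀ 1 : MonoidAlgebra ℂ C) * blockElt e) = c := by
    rw [push_mul, ← EE_eq_push]
    congr 1
    simp [push, hk₀]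
  have hresc : res C c = (MonoidAlgebra.single k₀ 1 : MonoidAlgebra ℂ C) * blockElt e := by
    rw [← hpush, res_push]
  have hprod : CoeffIn (localIdeal M) (res C E * res C c) := by
    have h1 : res C E * res C c = (MonoidAlgebra.single k₀ 1 : MonoidAlgebra ℂ C) * v := by
      rw [hresc, hv, ← mul_assoc, ← mul_assoc, ← central_comm hresZ.1]
    rw [h1]
    exact coeffIn_loc_mul (locCoeff_single1 k₀) hv0
  have hEc : ∀ g ∈ C, MemLocalIdeal M ((E * c).coeff g) := by
    intro g hg
    have h1 := res_mul_sub_coeff hMp hDp hEd.loc hEd.invP hcl hci ⟨g, hg⟩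
    have h2 := coeffIn_localIdeal_iff.mp hprod ⟨g, hg⟩
    have h3 := memLocalIdeal_add h1 h2
    have h4 : ((res C (E * c) - res C E * res C c).coeff ⟨g, hg⟩ + (res C E * res C c).coeff ⟨g, hg⟩) =
        (res C (E * c)).coeff ⟨g, hg⟩ := by
      rw [MonoidAlgebra.coeff_sub, Finsupp.sub_apply, sub_add_cancel]
    rw [h4, coeff_res] at h3
    exact h3
  have htr : CoeffIn (localIdeal M) (tr C (E * c)) := by
    rw [coeffIn_localIdeal_iff]
    intro g
    by_cases hg : g ∈ C
    · rw [coeff_tr_of_mem _ hg]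
      exact hEc g hg
    · rw [coeff_tr_of_notMem _ hg]
      exact memLocalIdeal_zero
  have h1 := twTrace_sub_tr_mem hMp hDp (hEd.loc.mul hcl) (hEd.invP.mul hci) hχ₀l (isClassFunction_of_irr χ₀.2)
  have h2 := memLocalIdeal_add h1 (memLocalIdeal_twTrace htr hχ₀l 1)
  rw [sub_add_cancel, hE, twTrace_blockElt_mul B hχ₀] at h2
  exact h2

end Nine

end Cfsg.Agent.Lib.Blocks.Pim
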