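/-
Blocks with equal degrees: the centre injects into the functions on the orbits of the inertial group on the defect group.
-/
import Mathlib
import Cfsg.Agent.Lib.Blocks.Pim9
import Cfsg.Agent.Lib.Blocks.AbelianCount
import Cfsg.Agent.S4690
import Cfsg.Agent.Lib.Blocks.ModBlock

set_option autoImplicit false

namespace Cfsg.Agent.Lib.Blocks.Pim

open Cfsg Cfsg.Agent.Lib.Blocks.Local Cfsg.Agent.Lib.Blocks.Central Cfsg.Agent.Lib.Blocks.Osima
open Cfsg.Agent.Lib.Blocks.Covering Cfsg.Agent.Lib.Blocks.BlockHom Cfsg.Agent.Lib.Blocks.Pairs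
open Cfsg.Agent.Lib.Blocks.Twisted Cfsg.Agent.Lib.Blocks.Nilp Cfsg.Agent.Lib.Blocks.Sections
open Cfsg.Agent.Lib.Blocks.Regular Cfsg.Agent.Lib.Blocks.SecondMain
open Cfsg.Agent.Lib.Char.Ortho
open scoped ComplexConjugate

universe u

section Ten

variable {G : Type u} [Group G] [Fintype G] {M : Ideal AlgInt} [hM : M.IsPrime] {p : ℕ} [hp : Fact p.Prime]
  {B : Set (IrrCharacter G)}

/-- The block of the centralizer of a maximal pair with abelian subgroup is nilpotent. -/
theorem isNilpotentBlock_of_central {H : Type u} [Group H] [Fintype H] {e : Set (IrrCharacter H)}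
    (hMp : IsPModular p M) (he : IsPBlock M e) {Z : Subgroup H} (hdef : IsDefectGroup p M e Z)
    (hZ : ∀ z ∈ Z, ∀ g : H, z * g = g * z) : IsNilpotentBlock p M e := by
  refine ⟨he, fun Q f hQf x _ _ _ => ?_⟩
  obtain ⟨y, hy, hyc⟩ := exists_coeff_of_pair hQf
  have hQp : IsPGroup p Q := hQf.1.1
  have hQy : Q ≤ Subgroup.centralizer ({y} : Set H) := by
    intro q hq
    rw [Subgroup.mem_centralizer_singleton_iff]
    exact (Subgroup.mem_centralizer_iff.mp hy q hq).symm ▸ rfl
  obtain ⟨w, hw⟩ := exists_le_conj_of_coeff hMp he hdef hyc hQp hQy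
  rw [Subgroup.mem_centralizer_iff]
  intro q hq
  obtain ⟨d, hd, hdq⟩ := hw hq
  have h1 : q = d := by
    rw [← hdq]
    simp [MulAut.conj_apply, ← hZ d hd w]
  rw [h1]
  exact hZ d (h1 ▸ hd) x

/-- The block of the centralizer of a maximal pair with abelian subgroup has few characters. -/
theorem card_le_of_maximal_pair (hMp : IsPModular p M) {D : Subgroup G}
    [Fintype (Subgroup.centralizer (D : Set G))] {e : Set (IrrCharacter (Subgroup.centralizer (D : Set G)))}
    (hmax : IsMaximalBrauerPair p M B D e) (hab : ∀ x ∈ D, ∀ y ∈ D, x * y = y * x) :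
    Nat.card e ≤ Nat.card (D.subgroupOf (Subgroup.centralizer (D : Set G))) := by
  classical
  have he : IsPBlock M e := hmax.1.1.2
  have hdef := Cfsg.Agent.Lib.Blocks.AbelianCount.isDefectGroup_of_abelian hMp hmax hab le_rfl he
    Relation.ReflTransGen.refl
  have hZ : ∀ z ∈ D.subgroupOf (Subgroup.centralizer (D : Set G)), ∀ g : Subgroup.centralizer (D : Set G),
      z * g = g * z := by
    intro z hz g
    exact Subtype.ext (Subgroup.mem_centralizer_iff.mp g.2 z (Subgroup.mem_subgroupOf.mp hz))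
  have hnil := isNilpotentBlock_of_central hMp he hdef hZ
  obtain ⟨Φ, -⟩ := Cfsg.Agent.S4690.result p M hMp e hnil _ hdef
  rw [Nat.card_congr Φ, Cfsg.Agent.Lib.Char.CompleteCor.card_irr_eq_card_conjClasses]
  exact Nat.card_le_card_of_surjective ConjClasses.mk ConjClasses.mk_surjective

lemma res_mul_push (K : Subgroup G) [Fintype K] (a : MonoidAlgebra ℂ G) (v : MonoidAlgebra ℂ K) :
    res K (a * push K v) = res K a * v := by
  classical
  apply ext_coeff
  intro k
  rw [coeff_res, coeff_mul_eq_sum', coeff_mul_eq_sum',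
    sum_eq_sum_subgroup (H := K) _ (fun x hx => by rw [coeff_push_of_notMem K v hx, mul_zero])]
  refine Finset.sum_congr rfl fun x _ => ?_
  rw [coeff_push_coe, coeff_res]
  simp

lemma invBy_single_of_comm {D : Subgroup G} {c₀ : G} (hc₀ : ∀ u ∈ D, u * c₀ = c₀ * u) :
    InvBy D (MonoidAlgebra.single c₀ (1 : ℂ)) := by
  classical
  intro x u hu
  have h1 : u * c₀ * u⁻¹ = c₀ := by
    rw [hc₀ u hu]
    group
  have h2 : u * x * u⁻¹ = c₀ ↔ x = c₀ := by
    constructor
    · intro h
      rw [← h1] at h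
      exact mul_left_cancel (mul_right_cancel h)
    · rintro rfl
      exact h1
  simp only [MonoidAlgebra.coeff_single, Finsupp.single_apply]
  by_cases hx : x = c₀
  · rw [if_pos (h2.mpr hx).symm, if_pos hx.symm]
  · rw [if_neg (fun h => hx (h2.mp h.symm)), if_neg (fun h => hx h.symm)]

/-- The key injectivity: a central element of the block whose product with the block idempotent of the centralizer
vanishes modulo the ideal on the orbit representatives vanishes modulo the ideal. -/
theorem memLocalIdeal_of_orbit (hMp : IsPModular p M) (hB : IsPBlock M B)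
    (hAz : ∀ x : MonoidAlgebra ℂ G, LocCoeff M x → LocCoeff M (zOf B x)) {D : Subgroup G} (hDp : IsPGroup p D)
    {C : Subgroup G} [Fintype C] (hCD : ∀ g, g ∈ C ↔ ∀ u ∈ D, u * g = g * u) (hDC : D ≤ C)
    {e : Set (IrrCharacter C)}
    (he : IsPBlock M e) (hk : Nat.card e ≤ Nat.card (D.subgroupOf C))
    {c₀ : G} (hc₀ : c₀ ∈ C) {χ₀ : IrrCharacter G} (hχ₀ : χ₀ ∈ B)
    (hu : ¬ MemLocalIdeal M (twTrace (χ₀ : G → ℂ) 1 (MonoidAlgebra.single c₀ 1 * EE C e)))
    {k₁ : C} (hk₁ : ¬ MemLocalIdeal M (blockCoeff e k₁))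
    {T : Subgroup G} (hTN : T ≤ Subgroup.normalizer (D : Set G))
    (hTs : ∀ t ∈ T, StabilizesBlock C e t)
    {R : Finset G} (hR : ∀ y ∈ D, y ≠ 1 → ∃ r ∈ R, ∃ t ∈ T, t * y * t⁻¹ = r)
    {W : MonoidAlgebra ℂ G} (hWc : IsClassFunction G W.coeff) (hWl : LocCoeff M W) (hEW : blockElt B * W = W)
    (hW1 : MemLocalIdeal M ((W * EE C e).coeff (k₁ : G)))
    (hW0 : ∀ r ∈ R, MemLocalIdeal M ((W * EE C e).coeff (r * (k₁ : G)))) :
    ∀ g, MemLocalIdeal M (W.coeff g) := by
  classical
  set Eh := EE C e with hEh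
  have hEhp : Eh = push C (blockElt e) := EE_eq_push C e
  set X : MonoidAlgebra ℂ C := res C W * blockElt e with hX
  have hXres : ∀ g : C, X.coeff g = (W * Eh).coeff g := by
    intro g
    rw [hX, ← res_mul_push, ← hEhp, coeff_res]
  have hresc : IsClassFunction C (res C W).coeff := by
    intro g x
    rw [coeff_res, coeff_res]
    exact hWc _ _
  have heZ : blockElt e ∈ localCenter C M := blockElt_mem_localCenter he
  have hXc : IsClassFunction C X.coeff := isClassFunction_mul hresc heZ.1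
  have hEX : blockElt e * X = X := by
    rw [hX, ← mul_assoc, ← central_comm heZ.1 (res C W), mul_assoc, blockElt_mul_self]
  haveI : Fintype (D.subgroupOf C) := Fintype.ofFinite _
  have hZp : IsPGroup p (D.subgroupOf C) := hDp.comap_of_injective C.subtype Subtype.val_injective
  have hZ : ∀ z ∈ D.subgroupOf C, ∀ g : C, z * g = g * z := by
    intro z hz g
    exact Subtype.ext ((hCD g).mp g.2 z (Subgroup.mem_subgroupOf.mp hz))
  have hc1 : blockCoeff e k₁ ≠ 0 := ne_zero_of_not_memLocalIdeal hk₁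
  have hexp := central_expand hMp he hZp hZ hk hc1 hXc hEX
  have hEinv : InvBy T Eh := invBy_EE_of_stab hTs
  have hEcoeff : ∀ g : C, Eh.coeff g = blockCoeff e g := by
    intro g
    rw [hEhp, coeff_push_coe, coeff_blockElt]
  set F : G → ℂ := fun y => (W * Eh).coeff (y * (k₁ : G)) with hF
  have hXF : ∀ y : D.subgroupOf C, X.coeff ((y : C) * k₁) = F ((y : C) : G) := by
    intro y
    rw [hXres]
    rfl
  -- invariance
  have hWEinv : InvBy T (W * Eh) := InvBy.mul (fun x u _ => hWc x u) hEinv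
  have hFinv : ∀ t ∈ T, ∀ y ∈ D, F (t * y * t⁻¹) = F y := by
    intro t ht y hy
    have htN := hTN ht
    have hty : t * y * t⁻¹ ∈ D := (Subgroup.mem_normalizer_iff.mp htN y).mp hy
    have htC : t * (k₁ : G) * t⁻¹ ∈ C := by
      have h1 := (hTs t ht).1
      exact (Subgroup.mem_normalizer_iff.mp h1 k₁).mp k₁.2
    have hyC : y ∈ C := hDC hy
    have hgC : t * (y * (k₁ : G)) * t⁻¹ ∈ C := by
      have h1 : t * (y * (k₁ : G)) * t⁻¹ = (t * y * t⁻¹) * (t * (k₁ : G) * t⁻¹) := by group
      rw [h1]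
      exact C.mul_mem (hDC hty) htC
    set g : C := ⟨t * (y * (k₁ : G)) * t⁻¹, hgC⟩ with hg
    set v : D.subgroupOf C := ⟨⟨t * y * t⁻¹, hDC hty⟩, Subgroup.mem_subgroupOf.mpr hty⟩ with hv
    have hg1 : X.coeff g = F y := by
      rw [hXres]
      exact hWEinv (y * (k₁ : G)) t ht
    have hsum := hexp g
    have hvg : ∀ u : D.subgroupOf C, blockCoeff e (((u : C))⁻¹ * g) =
        Eh.coeff ((t⁻¹ * (((u : C) : G))⁻¹ * t * y) * (k₁ : G)) := by
      intro u
      rw [← hEcoeff, ← hEinv ((t⁻¹ * (((u : C) : G))⁻¹ * t * y) * (k₁ : G)) t ht]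
      congr 1
      simp only [hg, Subgroup.coe_mul, Subgroup.coe_inv]
      group
    rw [hg1, Finset.sum_eq_single v] at hsum
    · rw [hXF, hvg] at hsum
      have h1 : t⁻¹ * (((v : C) : G))⁻¹ * t * y = 1 := by
        simp only [hv]
        group
      rw [h1, one_mul, hEcoeff, div_mul_cancel₀ _ hc1] at hsum
      exact hsum.symm
    · intro u _ huv
      rw [hvg]
      have hwD : t⁻¹ * (((u : C) : G))⁻¹ * t * y ∈ D := by
        refine D.mul_mem ?_ hy
        have h2 := (Subgroup.mem_normalizer_iff.mp (Subgroup.inv_mem _ htN)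
          (((u : C) : G))⁻¹).mp (D.inv_mem (Subgroup.mem_subgroupOf.mp u.2))
        simpa using h2
      have hwne : t⁻¹ * (((u : C) : G))⁻¹ * t * y ≠ 1 := by
        intro h
        apply huv
        have h2 : ((u : C) : G) = t * y * t⁻¹ := by
          have h3 : (((u : C) : G))⁻¹ = t * y⁻¹ * t⁻¹ := by
            have h4 : t⁻¹ * (((u : C) : G))⁻¹ * t = y⁻¹ := eq_inv_of_mul_eq_one_left h
            rw [← h4]
            group
          have h5 := congrArg (·⁻¹) h3
          simp only [inv_inv] at h5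
          rw [h5]
          group
        exact Subtype.ext (Subtype.ext h2)
      have h6 := hEcoeff (⟨_, hDC hwD⟩ * k₁)
      have h7 := blockCoeff_mul_eq_zero hMp he hZp hZ hc1 (w := ⟨_, hDC hwD⟩)
        (Subgroup.mem_subgroupOf.mpr hwD) (fun h => hwne (congrArg Subtype.val h))
      rw [h7] at h6
      have h8 : Eh.coeff ((t⁻¹ * (((u : C) : G))⁻¹ * t * y) * (k₁ : G)) = 0 := h6
      rw [h8, mul_zero]
    · simp
  have hF0 : ∀ y ∈ D, MemLocalIdeal M (F y) := by
    intro y hy
    by_cases hy1 : y = 1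
    · subst hy1
      simp only [hF, one_mul]
      exact hW1
    · obtain ⟨r, hr, t, ht, rfl⟩ := hR y hy hy1
      rw [← hFinv t ht y hy]
      exact hW0 _ hr
  have hinvl : MemLocalRing M (blockCoeff e k₁)⁻¹ :=
    memLocalRing_inv_of_not_memLocalIdeal (memLocalRing_blockCoeff he k₁) hk₁
  have hX0 : ∀ g : C, MemLocalIdeal M (X.coeff g) := by
    intro g
    rw [hexp g]
    refine memLocalIdeal_sum _ _ fun u _ => memLocalIdeal_mul_right ?_ (memLocalRing_blockCoeff he _)
    rw [hXF, div_eq_mul_inv]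
    exact memLocalIdeal_mul_right (hF0 _ (Subgroup.mem_subgroupOf.mp u.2)) hinvl
  have hcent : ∀ g, g ∈ Subgroup.centralizer (D : Set G) → g ∈ C := fun g hg =>
    (hCD g).mpr fun u hu => Subgroup.mem_centralizer_iff.mp hg u hu
  have hs0 : InvBy D (MonoidAlgebra.single c₀ (1 : ℂ)) := invBy_single_of_comm ((hCD c₀).mp hc₀)
  have hci : InvBy D (MonoidAlgebra.single c₀ (1 : ℂ) * Eh) := hs0.mul ((invBy_EE_self C e).mono hDC)
  have hcl : LocCoeff M (MonoidAlgebra.single c₀ (1 : ℂ) * Eh) := (locCoeff_single1 c₀).mul (locCoeff_EE he)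
  refine memLocalIdeal_of_centralizer' hMp hB hAz hDp hcl hci hχ₀ hu hWc hWl hEW fun g hg => ?_
  have hsupp : SuppOn C (MonoidAlgebra.single c₀ (1 : ℂ)) := by
    intro x hx
    simp only [MonoidAlgebra.coeff_single, Finsupp.single_apply]
    rw [if_neg]
    rintro rfl
    exact hx hc₀
  have hcomm : Commute (MonoidAlgebra.single c₀ (1 : ℂ)) Eh := commute_of_suppOn hsupp (invBy_EE_self C e)
  have h1 : W * (MonoidAlgebra.single c₀ (1 : ℂ) * Eh) = W * Eh * MonoidAlgebra.single c₀ (1 : ℂ) := by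
    rw [hcomm.eq, mul_assoc]
  rw [h1, coeff_mul_single1]
  have hgc : g * c₀⁻¹ ∈ C := C.mul_mem (hcent g hg) (C.inv_mem hc₀)
  have h2 := hX0 ⟨_, hgc⟩
  rw [hXres] at h2
  exact h2

open Cfsg.Agent.Lib.Blocks.ModBlock in
open Classical in
/-- The number of characters of the block is bounded by the number of orbits on the defect group. -/
theorem card_le_of_orbit (hMp : IsPModular p M) (hB : IsPBlock M B)
    (hAz : ∀ x : MonoidAlgebra ℂ G, LocCoeff M x → LocCoeff M (zOf B x)) {D : Subgroup G} (hDp : IsPGroup p D)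
    {C : Subgroup G} [Fintype C] (hCD : ∀ g, g ∈ C ↔ ∀ u ∈ D, u * g = g * u) (hDC : D ≤ C)
    {e : Set (IrrCharacter C)}
    (he : IsPBlock M e) (hk : Nat.card e ≤ Nat.card (D.subgroupOf C))
    {c₀ : G} (hc₀ : c₀ ∈ C) {χ₀ : IrrCharacter G} (hχ₀ : χ₀ ∈ B)
    (hu : ¬ MemLocalIdeal M (twTrace (χ₀ : G → ℂ) 1 (MonoidAlgebra.single c₀ 1 * EE C e)))
    {k₁ : C} (hk₁ : ¬ MemLocalIdeal M (blockCoeff e k₁))
    {T : Subgroup G} (hTN : T ≤ Subgroup.normalizer (D : Set G))
    (hTs : ∀ t ∈ T, StabilizesBlock C e t)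
    {R : Finset G} (hR : ∀ y ∈ D, y ≠ 1 → ∃ r ∈ R, ∃ t ∈ T, t * y * t⁻¹ = r) :
    (Finset.univ.filter (· ∈ B)).card ≤ R.card + 1 := by
  set a : MonoidAlgebra (localRing M) G := lcL (blockElt B) (blockElt_mem_localCenter hB) with ha0
  have ha : iota G M a = blockElt B := iota_lcL _ _
  refine (card_le_finrank_span_mul_csL ha).trans ?_
  set kk := localRing M ⧸ localIdeal M with hkk
  set Zs := Submodule.span kk (Set.range fun K : ConjClasses G => piR G M a * piR G M (csL K.out)) with hZs
  have hEl : LocCoeff M (EE C e) := locCoeff_EE he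
  set y' : MonoidAlgebra (localRing M) G := liftLocal (EE C e) hEl with hy'
  have hy'i : iota G M y' = EE C e := mapRingHom_liftLocal _ _
  set S := Option R with hS
  set pt : S → G := fun s => match s with
    | none => (k₁ : G)
    | some r => (r : G) * (k₁ : G) with hpt
  let L : Zs →ₗ[kk] (S → kk) :=
    { toFun := fun z s => ((z : MonoidAlgebra kk G) * piR G M y').coeff (pt s)
      map_add' := fun x y => by
        funext s
        simp [add_mul, MonoidAlgebra.coeff_add]
      map_smul' := fun c x => by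
        funext s
        simp [smul_mul_assoc, MonoidAlgebra.coeff_smul_apply] }
  have hLinj : Function.Injective L := by
    rw [injective_iff_map_eq_zero]
    intro z hz0
    have hzval : ∀ s, ((z : MonoidAlgebra kk G) * piR G M y').coeff (pt s) = 0 := fun s => congrFun hz0 s
    obtain ⟨y, hy, hyc⟩ := exists_lift_of_mem_Zs ha z.2
    have hzE : piR G M a * (z : MonoidAlgebra kk G) = z := by
      have h1 := z.2
      refine Submodule.span_induction (p := fun x _ => piR G M a * x = x) ?_ ?_ ?_ ?_ h1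
      · rintro _ ⟨K, rfl⟩
        simp only
        rw [← mul_assoc, piR_mul_self ha]
      · rw [mul_zero]
      · intro x y _ _ hx hy
        rw [mul_add, hx, hy]
      · intro c x _ hx
        rw [mul_smul_comm, hx]
    set w := a * y with hw
    have hwz : piR G M w = z := by
      rw [hw, map_mul, hy, hzE]
    have hwW : iota G M w = blockElt B * iota G M y := by
      rw [hw, map_mul, ha]
    have hWc : IsClassFunction G (iota G M w).coeff := by
      rw [hwW]
      exact isClassFunction_mul (isClassFunction_blockElt B) hyc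
    have hWl : LocCoeff M (iota G M w) := fun g => by
      rw [coeff_iota]
      exact (w.coeff g).2
    have hEW : blockElt B * iota G M w = iota G M w := by
      rw [hwW, ← mul_assoc, blockElt_mul_self]
    have hval : ∀ s, MemLocalIdeal M ((iota G M w * EE C e).coeff (pt s)) := by
      intro s
      have h1 := hzval s
      rw [← hwz, ← map_mul, coeff_piR] at h1
      have h2 : (w * y').coeff (pt s) ∈ localIdeal M := Ideal.Quotient.eq_zero_iff_mem.mp h1
      rw [← hy'i, ← map_mul, coeff_iota]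
      exact h2
    have hzero := memLocalIdeal_of_orbit hMp hB hAz hDp hCD hDC he hk hc₀ hχ₀ hu hk₁ hTN hTs hR hWc hWl hEW
      (hval none) (fun r hr => hval (some ⟨r, hr⟩))
    have h3 : piR G M w = 0 := by
      rw [piR_eq_zero_iff]
      intro g
      have := hzero g
      rwa [coeff_iota] at this
    apply Subtype.ext
    rw [← hwz, h3]
    rfl
  have h1 := LinearMap.finrank_le_finrank_of_injective hLinj
  rw [Module.finrank_fintype_fun_eq_card] at h1
  refine h1.trans (le_of_eq ?_)
  simp [hS]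

end Ten

end Cfsg.Agent.Lib.Blocks.Pim
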