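/-
Blocks with equal degrees and an abelian defect group are nilpotent.
-/
import Mathlib
import Cfsg.Agent.Lib.Blocks.Pim10
import Cfsg.Agent.S4649
import Cfsg.Agent.S4687
import Cfsg.Agent.S0908

set_option autoImplicit false

namespace Cfsg.Agent.Lib.Blocks.Pim

open Cfsg Cfsg.Agent.Lib.Blocks.Local Cfsg.Agent.Lib.Blocks.Central Cfsg.Agent.Lib.Blocks.Osima
open Cfsg.Agent.Lib.Blocks.Covering Cfsg.Agent.Lib.Blocks.BlockHom Cfsg.Agent.Lib.Blocks.Pairs
open Cfsg.Agent.Lib.Blocks.Twisted Cfsg.Agent.Lib.Blocks.Nilp Cfsg.Agent.Lib.Blocks.Sections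
open Cfsg.Agent.Lib.Blocks.Regular Cfsg.Agent.Lib.Blocks.SecondMain
open Cfsg.Agent.Lib.Char.Ortho
open scoped ComplexConjugate

universe u

section Eleven

variable {G : Type u} [Group G] [Fintype G] {M : Ideal AlgInt} [hM : M.IsPrime] {p : ℕ} [hp : Fact p.Prime]
  {B : Set (IrrCharacter G)}

/-- Agreeing on the `p`-regular elements: rank one. -/
theorem blockRank_eq_one_of_reg (hB : IsPBlock M B)
    (hreg : ∀ χ ∈ B, ∀ χ' ∈ B, ∀ x : G, ¬ p ∣ orderOf x → (χ : G → ℂ) x = (χ' : G → ℂ) x) :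
    blockRank p B = 1 := by
  classical
  obtain ⟨χ₀, hχ₀⟩ := Cfsg.Agent.Lib.Blocks.HeightZero.nonempty_of_isPBlock hB
  unfold blockRank
  have h1 : (fun χ : IrrCharacter G => pRegularPart p (χ : G → ℂ)) '' B = {pRegularPart p (χ₀ : G → ℂ)} := by
    ext f
    constructor
    · rintro ⟨χ, hχ, rfl⟩
      rw [Set.mem_singleton_iff]
      funext x
      simp only [pRegularPart]
      split_ifs with h
      · exact hreg χ hχ χ₀ hχ₀ x h
      · rfl
    · rintro rfl
      exact ⟨χ₀, hχ₀, rfl⟩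
  rw [h1]
  refine finrank_span_singleton ?_
  intro h
  have h2 := congrFun h 1
  have hreg1 : IsPRegular p (1 : G) := by
    show ¬ p ∣ orderOf (1 : G)
    rw [orderOf_one]
    exact fun h => hp.out.one_lt.ne' (Nat.dvd_one.mp h)
  simp only [pRegularPart, if_pos hreg1, Pi.zero_apply] at h2
  exact irr_apply_one_ne_zero χ₀.2 h2

/-- **The reduction**: an abelian defect group, equal degrees: nilpotent. -/
theorem isNilpotentBlock_of_equal_degree (hMp : IsPModular p M) (hB : IsPBlock M B) {D : Subgroup G}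
    (hD : IsDefectGroup p M B D) (hab : ∀ x ∈ D, ∀ y ∈ D, x * y = y * x) {n : ℕ}
    (hn : ∀ χ ∈ B, charDegree (χ : G → ℂ) = n) : IsNilpotentBlock p M B := by
  classical
  obtain ⟨J, y₀, -, -, -, -, -, hreg⟩ := pim_of_equal_degree hMp hB hn
  have hl : blockRank p B = 1 := blockRank_eq_one_of_reg hB hreg
  have hAz : ∀ x : MonoidAlgebra ℂ G, LocCoeff M x → LocCoeff M (zOf B x) := fun x hx => locCoeff_zOf hMp hB hn hx
  have hcD := Cfsg.Agent.S0908.result p M hMp B hB D hD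
  have hDp : IsPGroup p D := IsPGroup.of_card hcD
  obtain ⟨c₀, hdc, S, hS⟩ := id hD
  have hDc₀ : D ≤ Subgroup.centralizer ({c₀} : Set G) := by
    rw [hS]
    intro x hx
    obtain ⟨y, -, rfl⟩ := hx
    exact y.2
  have hc₀C : c₀ ∈ Subgroup.centralizer (D : Set G) := by
    rw [Subgroup.mem_centralizer_iff]
    intro u hu
    exact (Subgroup.mem_centralizer_singleton_iff.mp (hDc₀ hu)).symm ▸ rfl
  obtain ⟨χ₀, hχ₀, h0⟩ := Cfsg.Agent.Lib.Blocks.HeightZero.exists_height_zero (p := p)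
    (Cfsg.Agent.Lib.Blocks.HeightZero.nonempty_of_isPBlock hB)
  have hu0 : ¬ MemLocalIdeal M ((χ₀ : G → ℂ) c₀) := by
    have := Cfsg.Agent.Lib.Blocks.HeightZero.not_memLocalIdeal_of_defect_class hMp hB hdc hχ₀ h0 (x := 1)
      (Commute.one_left _) (k := 0) (by simp)
    rwa [one_mul] at this
  letI : Fintype (Subgroup.centralizer (D : Set G)) := Fintype.ofFinite _
  obtain ⟨e, hBe, hu⟩ := exists_pair_unit hMp hB hDp hc₀C hχ₀ hu0
  have hmax : IsMaximalBrauerPair p M B D e := by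
    refine ⟨hBe, fun R g hRg hle => ?_⟩
    exact (Subgroup.eq_of_le_of_card_ge (SubpairLE.le hle) (card_le_of_pair hMp hRg hD)).symm
  have hk := card_le_of_maximal_pair hMp hmax hab
  have he : IsPBlock M e := hBe.1.2
  have hDC : D ≤ Subgroup.centralizer (D : Set G) := fun u hu =>
    Subgroup.mem_centralizer_iff.mpr fun v hv => hab v hv u hu
  have hCD : ∀ g, g ∈ Subgroup.centralizer (D : Set G) ↔ ∀ u ∈ D, u * g = g * u := fun g =>
    Subgroup.mem_centralizer_iff
  obtain ⟨x₁, -, hx₁, -⟩ := exists_isDefectGroup hMp he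
  set T : Subgroup G := Subgroup.normalizer (D : Set G) ⊓
    blockStabilizer (Subgroup.centralizer (D : Set G)) e with hTdef
  have hT : ∀ g : G, g ∈ T ↔ g ∈ Subgroup.normalizer (D : Set G) ∧
      StabilizesBlock (Subgroup.centralizer (D : Set G)) e g := fun g => Iff.rfl
  have hTD : ∀ t ∈ T, ∀ y ∈ D, t * y * t⁻¹ ∈ D := fun t ht y hy =>
    (Subgroup.mem_normalizer_iff.mp ((hT t).mp ht).1 y).mp hy
  obtain ⟨R, hR, hR', hRc⟩ := Cfsg.Agent.S4648.exists_orbit_reps T D hTD
  have hcard := card_le_of_orbit hMp hB hAz hDp hCD hDC he hk hc₀C hχ₀ hu hx₁.2.1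
    (T := T) (fun t ht => ((hT t).mp ht).1) (fun t ht => ((hT t).mp ht).2) (R := R)
    (fun y hy hy1 => by
      obtain ⟨r, ⟨hr, t, ht, h⟩, -⟩ := hR' y hy hy1
      exact ⟨r, hr, t, ht, h⟩)
  rw [Cfsg.Agent.S4649.card_eq_of_degree_eq hMp hB hl hn hD, ← hcD] at hcard
  have hRD : R.card + 1 ≤ Nat.card D := by
    have h1 : (insert (1 : G) R).card = R.card + 1 :=
      Finset.card_insert_of_notMem fun h => (hR 1 h).2 rfl
    have h3 : Nat.card D = (D : Set G).ncard := Nat.card_coe_set_eq _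
    rw [← h1, ← Set.ncard_coe_finset, h3]
    refine Set.ncard_le_ncard ?_ (Set.toFinite _)
    intro y hy
    rcases Finset.mem_insert.mp (Finset.mem_coe.mp hy) with rfl | hy
    · exact D.one_mem
    · exact (hR y hy).1
  have hTC := hRc (le_antisymm hRD hcard)
  rw [Cfsg.Agent.S4687.result p M hMp _ D e hmax hab]
  intro x hxN hxS
  rw [Subgroup.mem_centralizer_iff]
  intro y hy
  have h := hTC x ((hT x).mpr ⟨hxN, hxS⟩) y hy
  calc y * x = x * y * x⁻¹ * x := by rw [h]
    _ = x * y := by group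

end Eleven

end Cfsg.Agent.Lib.Blocks.Pim
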