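/-
The sum of the squares of the degrees of a block: the exact power of `p`.
-/
import Mathlib
import Cfsg.Agent.Lib.Blocks.Pim11

set_option autoImplicit false

namespace Cfsg.Agent.Lib.Blocks.Pim

open Cfsg Cfsg.Agent.Lib.Blocks.Local Cfsg.Agent.Lib.Blocks.Central Cfsg.Agent.Lib.Blocks.Osima
open Cfsg.Agent.Lib.Blocks.Covering Cfsg.Agent.Lib.Blocks.BlockHom Cfsg.Agent.Lib.Blocks.Pairs
open Cfsg.Agent.Lib.Blocks.Twisted Cfsg.Agent.Lib.Blocks.Nilp Cfsg.Agent.Lib.Blocks.Sections
open Cfsg.Agent.Lib.Blocks.Regular Cfsg.Agent.Lib.Blocks.SecondMain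
open Cfsg.Agent.Lib.Char.Ortho
open scoped ComplexConjugate

universe u

section Twelve

variable {G : Type u} [Group G] [Fintype G] {M : Ideal AlgInt} [hM : M.IsPrime] {p : ℕ} [hp : Fact p.Prime]
  {B : Set (IrrCharacter G)}

lemma orderOf_eq_of_isConj {a b : G} (h : IsConj a b) : orderOf b = orderOf a := by
  obtain ⟨x, rfl⟩ := isConj_iff.mp h
  exact orderOf_injective (MulAut.conj x).toMonoidHom (MulAut.conj x).injective a

open Classical in
lemma blockElt_eq_sum {H : Type u} [Group H] [Fintype H] (e : Set (IrrCharacter H)) :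
    blockElt e = ∑ ψ ∈ (Finset.univ : Finset (IrrCharacter H)).filter (· ∈ e), blockElt ({ψ} : Set (IrrCharacter H)) := by
  have h1 := Cfsg.Agent.Lib.Blocks.ModBlock.blockElt_mul_classFun (G := H) e (a := 1)
    (by simpa using isClassFunction_one)
  rw [mul_one] at h1
  rw [h1]
  refine Finset.sum_congr rfl fun ψ _ => ?_
  rw [omega_one ψ.2, one_smul]

/-- A nilpotent block with an abelian defect group: all characters agree on the `p`-regular elements. -/
theorem reg_eq_of_nilpotent_abelian {H : Type u} [Group H] [Fintype H] {e : Set (IrrCharacter H)} (hMp : IsPModular p M)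
    (he : IsPBlock M e) {D : Subgroup H} (hD : IsDefectGroup p M e D) (hab : ∀ x ∈ D, ∀ y ∈ D, x * y = y * x)
    (hnil : IsNilpotentBlock p M e) :
    ∀ χ ∈ e, ∀ χ' ∈ e, ∀ x : H, ¬ p ∣ orderOf x → (χ : H → ℂ) x = (χ' : H → ℂ) x := by
  classical
  have hl := (Cfsg.Agent.S4689.result p M hMp e hnil).1
  obtain ⟨φ, d, -, hφ, hsum⟩ := Cfsg.Agent.S4675.result p M hMp e he D hD hl
  obtain ⟨Φ, -⟩ := Cfsg.Agent.S4690.result p M hMp e hnil D hD
  have hreg1 : IsPRegular p (1 : H) := by
    show ¬ p ∣ orderOf (1 : H)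
    rw [orderOf_one]
    exact fun h => hp.out.one_lt.ne' (Nat.dvd_one.mp h)
  set T := (Finset.univ : Finset (IrrCharacter H)).filter (· ∈ e) with hT
  have hsum' : ∑ χ ∈ T, d χ ^ 2 = Nat.card D := by
    rw [← hsum, finsum_mem_eq_finite_toFinset_sum _ (Set.toFinite e)]
    refine Finset.sum_congr ?_ fun _ _ => rfl
    ext x
    simp [hT]
  have hfil : Nat.card e = T.card := by
    rw [Nat.card_eq_fintype_card, Fintype.card_subtype]
  have hcc : Nat.card (ConjClasses D) = Nat.card D := by
    refine Nat.card_congr (Equiv.ofBijective (ConjClasses.mk (α := D)) ⟨?_, ConjClasses.mk_surjective⟩).symm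
    intro a b h
    obtain ⟨c, hc⟩ := isConj_iff.mp (ConjClasses.mk_eq_mk_iff_isConj.mp h)
    have h1 : (c : D) * a = a * c := Subtype.ext (hab _ c.2 _ a.2)
    rw [h1, mul_inv_cancel_right] at hc
    exact hc
  have hcard : T.card = Nat.card D := by
    rw [← hfil, Nat.card_congr Φ, Cfsg.Agent.Lib.Char.CompleteCor.card_irr_eq_card_conjClasses, hcc]
  have hd1 : ∀ χ ∈ e, 1 ≤ d χ := by
    intro χ hχ
    have h1 := hφ χ hχ 1 hreg1
    rw [Nat.one_le_iff_ne_zero]
    intro h0
    rw [h0] at h1
    simp only [Nat.cast_zero, zero_mul] at h1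
    exact irr_apply_one_ne_zero χ.2 h1
  have hall : ∀ χ ∈ T, (1 : ℕ) = d χ ^ 2 := by
    have h2 : ∑ χ ∈ T, (1 : ℕ) = ∑ χ ∈ T, d χ ^ 2 := by
      rw [hsum', Finset.sum_const, smul_eq_mul, mul_one, hcard]
    refine (Finset.sum_eq_sum_iff_of_le ?_).mp h2
    intro χ hχ
    exact Nat.one_le_pow _ _ (hd1 χ (Finset.mem_filter.mp hχ).2)
  have hdeq : ∀ χ ∈ e, d χ = 1 := by
    intro χ hχ
    have h1 := hall χ (Finset.mem_filter.mpr ⟨Finset.mem_univ _, hχ⟩)
    have h2 : d χ ^ 2 = 1 := h1.symm
    rcases Nat.pow_eq_one.mp h2 with h3 | h3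
    · exact h3
    · omega
  intro χ hχ χ' hχ' x hx
  rw [hφ χ hχ x hx, hφ χ' hχ' x hx, hdeq χ hχ, hdeq χ' hχ']

/-- The block of the centralizer of a maximal pair has the centre of the subgroup as a defect group. -/
theorem isDefectGroup_center_of_maximal (hMp : IsPModular p M) {D : Subgroup G}
    [Fintype (Subgroup.centralizer (D : Set G))] {f : Set (IrrCharacter (Subgroup.centralizer (D : Set G)))}
    (hmax : IsMaximalBrauerPair p M B D f) :
    IsDefectGroup p M f ((D ⊓ Subgroup.centralizer (D : Set G)).subgroupOf (Subgroup.centralizer (D : Set G))) := by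
  have hf : IsPBlock M f := hmax.1.1.2
  obtain ⟨x₀, hx₀, hx₀D⟩ := exists_conj_isDefectGroup_centralizer hMp hmax le_rfl hf Relation.ReflTransGen.refl
  obtain ⟨D₀, hD₀, hW⟩ := exists_defect_le_centralizer hMp hmax.1.1 le_rfl hf Relation.ReflTransGen.refl
  have h2 := card_defect_conjBlock hMp hf hD₀ x₀ hx₀D
  have hle := SubpairLE.le hx₀
  have hmapeq : D.map (MulAut.conj x₀).toMonoidHom = D := by
    refine Subgroup.eq_of_le_of_card_ge hle (le_of_eq ?_)
    exact (Nat.card_congr (Subgroup.equivMapOfInjective D _ (MulAut.conj x₀).injective).toEquiv)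
  have heq := Subgroup.eq_of_le_of_card_ge hW (by
    rw [← h2, card_subgroupOf_inf_right, card_subgroupOf_inf_right, hmapeq])
  rw [heq]
  exact hD₀

/-- The block of the centralizer of a pair of the block on a defect group: all characters agree on the `p`-regular
elements. -/
theorem reg_eq_of_pair (hMp : IsPModular p M) {D : Subgroup G} (hD : IsDefectGroup p M B D)
    [Fintype (Subgroup.centralizer (D : Set G))] {f : Set (IrrCharacter (Subgroup.centralizer (D : Set G)))}
    (hBf : IsBrauerPairOf p M B D f) :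
    ∀ ξ ∈ f, ∀ ξ' ∈ f, ∀ x : Subgroup.centralizer (D : Set G), ¬ p ∣ orderOf x →
      (ξ : _ → ℂ) x = (ξ' : _ → ℂ) x := by
  have hf : IsPBlock M f := hBf.1.2
  have hmax : IsMaximalBrauerPair p M B D f := by
    refine ⟨hBf, fun R g hRg hle => ?_⟩
    exact (Subgroup.eq_of_le_of_card_ge (SubpairLE.le hle) (card_le_of_pair hMp hRg hD)).symm
  have hD₀ := isDefectGroup_center_of_maximal hMp hmax
  have hZ : ∀ z ∈ (D ⊓ Subgroup.centralizer (D : Set G)).subgroupOf (Subgroup.centralizer (D : Set G)),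
      ∀ g : Subgroup.centralizer (D : Set G), z * g = g * z := by
    intro z hz g
    rw [Subgroup.mem_subgroupOf] at hz
    exact Subtype.ext (Subgroup.mem_centralizer_iff.mp g.2 z hz.1)
  have hnil := isNilpotentBlock_of_central hMp hf hD₀ hZ
  exact reg_eq_of_nilpotent_abelian hMp hf hD₀ (fun x hx y _ => hZ x hx y) hnil

/-- The inverse of a central element in the block, itself central. -/
theorem exists_central_inv (hB : IsPBlock M B) {z : MonoidAlgebra ℂ G} (hzc : IsClassFunction G z.coeff)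
    (hzl : LocCoeff M z) (hz : ∀ ψ ∈ B, ¬ MemLocalIdeal M (omega (ψ : G → ℂ) z)) :
    ∃ z' : MonoidAlgebra ℂ G, LocCoeff M z' ∧ IsClassFunction G z'.coeff ∧ z * z' = blockElt B ∧
      blockElt B * z' = z' := by
  classical
  have hZ : z ∈ localCenter G M := ⟨hzc, hzl⟩
  have hval : ∀ ψ : IrrCharacter G, MemLocalRing M (omega (ψ : G → ℂ) z) := fun ψ =>
    memLocalRing_omega ψ.2 hZ
  obtain ⟨z₁, hz₁l, hz₁⟩ := exists_inv_of_central hB hzl (fun ψ => ⟨omega (ψ : G → ℂ) z, hval ψ⟩)
    (fun ψ hψ => by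
      rw [iL_mul_eq_smul, central_comm (isClassFunction_blockElt _),
        Cfsg.Agent.Lib.Blocks.ModBlock.blockElt_singleton_mul hzc])
    (fun ψ hψ => hz ψ hψ)
  set T := (Finset.univ : Finset (IrrCharacter G)).filter (· ∈ B) with hT
  set z₂ : MonoidAlgebra ℂ G := ∑ ψ ∈ T, (omega (ψ : G → ℂ) z)⁻¹ • blockElt ({ψ} : Set (IrrCharacter G)) with hz₂
  have hz₂c : IsClassFunction G z₂.coeff := by
    intro g x
    simp only [hz₂, MonoidAlgebra.coeff_sum, Finsupp.finsetSum_apply]
    refine Finset.sum_congr rfl fun χ _ => ?_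
    exact isClassFunction_smul _ (isClassFunction_blockElt _) g x
  have hE : blockElt B = ∑ ψ ∈ T, blockElt ({ψ} : Set (IrrCharacter G)) := by
    have h1 := Cfsg.Agent.Lib.Blocks.ModBlock.blockElt_mul_classFun (G := G) B (a := 1)
      (by simpa using isClassFunction_one)
    rw [mul_one] at h1
    rw [h1]
    refine Finset.sum_congr rfl fun ψ _ => ?_
    rw [omega_one ψ.2, one_smul]
  have hzz₂ : z₂ * z = blockElt B := by
    rw [hz₂, Finset.sum_mul, hE]
    refine Finset.sum_congr rfl fun ψ hψ => ?_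
    rw [smul_mul_assoc, Cfsg.Agent.Lib.Blocks.ModBlock.blockElt_singleton_mul hzc, smul_smul,
      inv_mul_cancel₀ (ne_zero_of_not_memLocalIdeal (hz ψ (Finset.mem_filter.mp hψ).2)), one_smul]
  have hEz₂ : z₂ * blockElt B = z₂ := by
    rw [hz₂, Finset.sum_mul]
    refine Finset.sum_congr rfl fun ψ hψ => ?_
    rw [smul_mul_assoc, blockElt_mul, Set.inter_eq_left.mpr
      (Set.singleton_subset_iff.mpr (Finset.mem_filter.mp hψ).2)]
  have h1 : z₂ = z₂ * z * z₁ := by
    rw [mul_assoc, hz₁, hEz₂]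
  have h2 : z₂ = blockElt B * z₁ := by
    rw [← hzz₂]
    exact h1
  refine ⟨z₂, ?_, hz₂c, ?_, ?_⟩
  · rw [h2]
    exact (E_loc hB).mul hz₁l
  · rw [← central_comm hzc, hzz₂]
  · rw [← central_comm (isClassFunction_blockElt B), hEz₂]

/-- The value at `1` of the product with a class sum. -/
lemma coeff_mul_classSum_one {Y : MonoidAlgebra ℂ G} (hY : IsClassFunction G Y.coeff) (g : G) :
    (Y * classSum g).coeff 1 = ((Subgroup.centralizer ({g} : Set G)).index : ℂ) * Y.coeff g⁻¹ := by
  classical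
  rw [coeff_mul_eq_sum]
  have h1 : ∀ x : G, Y.coeff x * (classSum g).coeff (x⁻¹ * 1) = (classSum g).coeff x⁻¹ * Y.coeff g⁻¹ := by
    intro x
    rw [mul_one]
    by_cases hx : IsConj g x⁻¹
    · rw [coeff_classSum_of_isConj hx, one_mul, mul_comm, one_mul]
      obtain ⟨c, hc⟩ := isConj_iff.mp hx
      have h2 : x = c * g⁻¹ * c⁻¹ := by
        have h3 := congrArg (·⁻¹) hc
        simp only [inv_inv, mul_inv_rev] at h3
        rw [← h3]
        group
      rw [h2]
      exact hY _ _
    · rw [coeff_classSum_of_not_isConj hx, mul_zero, zero_mul]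
  rw [Finset.sum_congr rfl fun x _ => h1 x, ← Finset.sum_mul]
  congr 1
  have h5 : ∑ i : G, (classSum g).coeff i⁻¹ = ∑ i : G, (classSum g).coeff i :=
    Equiv.sum_comp (Equiv.inv G) (fun x => (classSum g).coeff x)
  rw [h5, ← Cfsg.Agent.Lib.Char.Integrality.card_classFinset]
  simp only [classSum, coeff_ofFun]
  rw [Finset.sum_boole]
  congr 2

/-- A block of the centralizer which does not form a pair with the block: the product vanishes modulo the ideal. -/
lemma coeffIn_res_mul_of_not_pair (hMp : IsPModular p M) (hB : IsPBlock M B) {D : Subgroup G}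
    [Fintype (Subgroup.centralizer (D : Set G))] (hDp : IsPGroup p D)
    {e : Set (IrrCharacter (Subgroup.centralizer (D : Set G)))} (he : IsPBlock M e)
    (hne : ¬ IsBrauerPairOf p M B D e) :
    CoeffIn (localIdeal M) (res (Subgroup.centralizer (D : Set G)) (blockElt B) * blockElt e) := by
  classical
  have hbv : ∀ ξ ∈ e, MemLocalIdeal M (bv D (ξ : Subgroup.centralizer (D : Set G) → ℂ) (blockElt B)) := by
    intro ξ hξ
    by_contra h
    exact hne (isBrauerPairOf_of_not_mem hMp hDp he hB hξ h)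
  set E := blockElt B with hE
  have hEd : BrDom M D E := brDom_blockElt hB
  set v : MonoidAlgebra ℂ (Subgroup.centralizer (D : Set G)) := res (Subgroup.centralizer (D : Set G)) E * blockElt e with hv
  have hresZ : res (Subgroup.centralizer (D : Set G)) E ∈ localCenter (Subgroup.centralizer (D : Set G)) M := res_mem_localCenter hEd
  have heZ : blockElt e ∈ localCenter (Subgroup.centralizer (D : Set G)) M := blockElt_mem_localCenter he
  have hvZ : v ∈ localCenter (Subgroup.centralizer (D : Set G)) M := (localCenter (Subgroup.centralizer (D : Set G)) M).mul_mem hresZ heZ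
  have hv0 : CoeffIn (localIdeal M) (v - 0) := by
    refine Cfsg.Agent.Lib.Blocks.FirstMain2.coeffIn_sub_of_omega hvZ (localCenter (Subgroup.centralizer (D : Set G)) M).zero_mem ?_ (mul_zero 0) ?_
    · have h1 : v - v * v = (res (Subgroup.centralizer (D : Set G)) E - res (Subgroup.centralizer (D : Set G)) E * res (Subgroup.centralizer (D : Set G)) E) * blockElt e := by
        have h2 : v * v = res (Subgroup.centralizer (D : Set G)) E * res (Subgroup.centralizer (D : Set G)) E * blockElt e := by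
          rw [hv, mul_assoc, ← mul_assoc (blockElt e), ← central_comm heZ.1 (res (Subgroup.centralizer (D : Set G)) E), mul_assoc (res (Subgroup.centralizer (D : Set G)) E),
            blockElt_mul_self, mul_assoc]
        rw [h2, hv, sub_mul]
      rw [h1]
      refine coeffIn_mul_loc ?_ heZ.2
      rw [coeffIn_localIdeal_iff]
      intro h
      have h3 := res_mul_sub_coeff hMp hDp hEd.loc hEd.invP hEd.loc hEd.invP h
      rw [hE, blockElt_mul_self, ← hE] at h3
      exact h3
    · intro ξ
      rw [omega_zero, sub_zero, hv, omega_mul ξ.2 hresZ.1]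
      by_cases hξ : ξ ∈ e
      · rw [omega_blockElt_of_mem hξ, mul_one]
        exact hbv ξ hξ
      · rw [omega_blockElt_of_notMem hξ, mul_zero]
        exact memLocalIdeal_zero
  rwa [sub_zero] at hv0

/-- The key computation: the class sum of a `p`-regular element acts on the Brauer image of the block idempotent as
the central character. -/
theorem coeff_classSum_sub (hMp : IsPModular p M) (hB : IsPBlock M B) {D : Subgroup G} (hD : IsDefectGroup p M B D)
    [Fintype (Subgroup.centralizer (D : Set G))] (hDp : IsPGroup p D) {c : G} (hc : ¬ p ∣ orderOf c)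
    {χ₀ : IrrCharacter G} (hχ₀ : χ₀ ∈ B) :
    ∀ g ∈ Subgroup.centralizer (D : Set G), MemLocalIdeal M
      ((classSum c * blockElt B - omega (χ₀ : G → ℂ) (classSum c) • blockElt B).coeff g) := by
  classical
  set C := Subgroup.centralizer (D : Set G) with hCdef
  set E := blockElt B with hE
  set Kh := classSum c with hKh
  set ω := omega (χ₀ : G → ℂ) Kh with hω
  have hKZ : Kh ∈ localCenter G M := classSum_mem_localCenter c
  have hKd : BrDom M D Kh := ⟨hKZ.2, fun x u _ => hKZ.1 x u, fun x u _ => hKZ.1 x u⟩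
  have hEd : BrDom M D E := brDom_blockElt hB
  have hωl : MemLocalRing M ω := memLocalRing_omega χ₀.2 hKZ
  have hresE : res C E ∈ localCenter C M := res_mem_localCenter hEd
  have hresK : res C Kh ∈ localCenter C M := res_mem_localCenter hKd
  have hone : (1 : MonoidAlgebra ℂ C) ∈ localCenter C M := (localCenter C M).one_mem
  set Y : MonoidAlgebra ℂ C := (res C Kh - ω • (1 : MonoidAlgebra ℂ C)) * res C E with hY
  have hsml : LocCoeff M (ω • (1 : MonoidAlgebra ℂ C)) := by
    intro g
    rw [MonoidAlgebra.coeff_smul_apply]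
    exact memLocalRing_mul hωl (hone.2 g)
  have hK1l : LocCoeff M (res C Kh - ω • (1 : MonoidAlgebra ℂ C)) := LocCoeff.sub hresK.2 hsml
  have hYf : ∀ f : Blk M C, CoeffIn (localIdeal M) (Y * blockElt f.1) := by
    rintro ⟨f, hf⟩
    by_cases hpair : IsBrauerPairOf p M B D f
    · obtain ⟨ξ₁, hξ₁⟩ := isPBlock_nonempty hf
      have hreg := reg_eq_of_pair hMp hD hpair
      set β := omega (ξ₁ : C → ℂ) (res C Kh) with hβ
      have hβω : MemLocalIdeal M (β - ω) := by
        have hind := isInducedBlock_of_brauerPair hMp hpair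
        exact memLocalIdeal_omega_restr_sub (isClassFunction_of_irr χ₀.2) hKZ (hind.2.2 ξ₁ hξ₁ χ₀ hχ₀)
      have hom : ∀ ξ ∈ f, omega (ξ : C → ℂ) (res C Kh) = β := by
        intro ξ hξ
        have h1 : (ξ : C → ℂ) 1 = (ξ₁ : C → ℂ) 1 := hreg ξ hξ ξ₁ hξ₁ 1 (by
          rw [orderOf_one]
          exact fun h => hp.out.one_lt.ne' (Nat.dvd_one.mp h))
        rw [hβ, omega, omega, h1]
        congr 1
        refine Finset.sum_congr rfl fun g _ => ?_
        rw [coeff_res]
        by_cases hg : IsConj c (g : G)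
        · have h2 : ¬ p ∣ orderOf g := by
            rw [← Subgroup.orderOf_coe, orderOf_eq_of_isConj hg]
            exact hc
          rw [hreg ξ hξ ξ₁ hξ₁ g h2]
        · rw [hKh, coeff_classSum_of_not_isConj hg, zero_mul, zero_mul]
      have hmul : res C Kh * blockElt f = β • blockElt f := by
        rw [central_comm (isClassFunction_blockElt f),
          Cfsg.Agent.Lib.Blocks.ModBlock.blockElt_mul_classFun f hresK.1, blockElt_eq_sum f, Finset.smul_sum]
        exact Finset.sum_congr rfl fun ξ hξ => by rw [hom ξ (Finset.mem_filter.mp hξ).2]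
      have h2 : Y * blockElt f = res C E * ((β - ω) • blockElt f) := by
        rw [hY, mul_assoc, ← central_comm hresE.1 (blockElt f), ← mul_assoc, ← central_comm hresE.1, sub_mul, hmul,
          smul_mul_assoc, one_mul, ← sub_smul]
      rw [h2]
      refine coeffIn_loc_mul hresE.2 ?_
      rw [coeffIn_localIdeal_iff]
      intro g
      rw [MonoidAlgebra.coeff_smul_apply]
      exact memLocalIdeal_mul_right hβω (memLocalRing_blockCoeff hf g |> fun h => by simpa using h)
    · have h1 := coeffIn_res_mul_of_not_pair hMp hB hDp hf hpair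
      have h2 : Y * blockElt f = (res C Kh - ω • (1 : MonoidAlgebra ℂ C)) * (res C E * blockElt f) := by
        rw [hY, mul_assoc]
      rw [h2]
      exact coeffIn_loc_mul hK1l h1
  have hYc : CoeffIn (localIdeal M) Y := by
    have h1 : Y = ∑ f : Blk M C, Y * blockElt f.1 := by
      rw [← Finset.mul_sum, sum_blockElt_eq_one, mul_one]
    rw [h1, coeffIn_localIdeal_iff]
    intro g
    rw [MonoidAlgebra.coeff_sum, Finsupp.finsetSum_apply]
    exact memLocalIdeal_sum _ _ fun f _ => coeffIn_localIdeal_iff.mp (hYf f) g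
  intro g hg
  have h1 := res_mul_sub_coeff hMp hDp hKd.loc hKd.invP hEd.loc hEd.invP ⟨g, hg⟩
  have h2 := coeffIn_localIdeal_iff.mp hYc ⟨g, hg⟩
  have h3 := memLocalIdeal_add h1 h2
  have h4 : (res C (Kh * E) - res C Kh * res C E).coeff ⟨g, hg⟩ + Y.coeff ⟨g, hg⟩ =
      (Kh * E - ω • E).coeff g := by
    have h5 : Y = res C Kh * res C E - ω • res C E := by
      rw [hY, sub_mul, smul_mul_assoc, one_mul]
    rw [h5]
    simp only [MonoidAlgebra.coeff_sub, Finsupp.sub_apply, MonoidAlgebra.coeff_smul_apply, coeff_res]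
    ring
  rwa [h4] at h3

/-- **The exact power**: the coefficient at `1` of the block idempotent is the size of a defect class times a unit. -/
theorem exists_unit_coeff_one (hMp : IsPModular p M) (hB : IsPBlock M B) {D : Subgroup G}
    (hD : IsDefectGroup p M B D) :
    ∃ (c₀ : G) (w : ℂ), IsDefectClass M B c₀ ∧ MemLocalRing M w ∧ ¬ MemLocalIdeal M w ∧
      (blockElt B).coeff 1 = ((Subgroup.centralizer ({c₀} : Set G)).index : ℂ) * w := by
  classical
  have hcD := Cfsg.Agent.S0908.result p M hMp B hB D hD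
  have hDp : IsPGroup p D := IsPGroup.of_card hcD
  obtain ⟨c₀, hdc, S, hS⟩ := id hD
  have hDc₀ : D ≤ Subgroup.centralizer ({c₀} : Set G) := by
    rw [hS]
    intro x hx
    obtain ⟨y, -, rfl⟩ := hx
    exact y.2
  have hc₀C : c₀ ∈ Subgroup.centralizer (D : Set G) := by
    rw [Subgroup.mem_centralizer_iff]
    intro u hu
    exact (Subgroup.mem_centralizer_singleton_iff.mp (hDc₀ hu)).symm ▸ rfl
  letI : Fintype (Subgroup.centralizer (D : Set G)) := Fintype.ofFinite _
  have hreg := Cfsg.Agent.Lib.Blocks.HeightZero.isPRegular_of_isDefectClass hMp hB hdc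
  have hregi : ¬ p ∣ orderOf c₀⁻¹ := by
    rwa [orderOf_inv]
  obtain ⟨χ₀, hχ₀⟩ := isPBlock_nonempty hB
  have hzZ : classSum c₀ ∈ localCenter G M := classSum_mem_localCenter c₀
  obtain ⟨z', hz'l, hz'c, hz', hEz'⟩ := exists_central_inv hB hzZ.1 hzZ.2 (fun ψ hψ => by
    rw [omega_classSum (isClassFunction_of_irr ψ.2)]
    exact hdc.2.2 ψ hψ)
  set idx : ℂ := ((Subgroup.centralizer ({c₀} : Set G)).index : ℂ) with hidx
  have hidx0 : idx ≠ 0 := by
    rw [hidx]
    exact_mod_cast (Subgroup.index_ne_zero_of_finite)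
  set E := blockElt B with hE
  have hEc : IsClassFunction G E.coeff := isClassFunction_blockElt B
  have hform : ∀ Y : MonoidAlgebra ℂ G, IsClassFunction G Y.coeff → blockElt B * Y = Y →
      Y.coeff 1 = idx * (Y * z').coeff c₀⁻¹ := by
    intro Y hYc hEY
    have h1 : Y = Y * z' * classSum c₀ := by
      rw [mul_assoc, central_comm hzZ.1 z', hz', central_comm hEc Y, hEY]
    conv_lhs => rw [h1]
    exact coeff_mul_classSum_one (isClassFunction_mul hYc hz'c) c₀
  have hE1 : E.coeff 1 = idx * z'.coeff c₀⁻¹ := by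
    have := hform E hEc (blockElt_mul_self B)
    rwa [hEz'] at this
  set ω := omega (χ₀ : G → ℂ) (classSum c₀⁻¹) with hω
  set W := classSum c₀⁻¹ * E - ω • E with hW
  have hWc : IsClassFunction G W.coeff := by
    intro g x
    simp only [hW, MonoidAlgebra.coeff_sub, Finsupp.sub_apply]
    rw [isClassFunction_mul (isClassFunction_classSum c₀⁻¹) hEc g x, isClassFunction_smul _ hEc g x]
  have hEW : blockElt B * W = W := by
    rw [hW, mul_sub, mul_smul_comm, blockElt_mul_self, ← mul_assoc, ← central_comm hEc, mul_assoc, blockElt_mul_self]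
  have hW1 := hform W hWc hEW
  have hKi : (Subgroup.centralizer ({c₀⁻¹} : Set G)).index = (Subgroup.centralizer ({c₀} : Set G)).index := by
    congr 1
    ext x
    simp only [Subgroup.mem_centralizer_singleton_iff]
    show Commute x c₀⁻¹ ↔ Commute x c₀
    exact Commute.inv_right_iff
  have hWval : W.coeff 1 = idx * E.coeff c₀ - ω * E.coeff 1 := by
    have h1 : (classSum c₀⁻¹ * E).coeff 1 = idx * E.coeff c₀ := by
      rw [central_comm hEc (classSum c₀⁻¹), coeff_mul_classSum_one hEc, hKi, inv_inv]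
    simp only [hW, MonoidAlgebra.coeff_sub, Finsupp.sub_apply, MonoidAlgebra.coeff_smul_apply, smul_eq_mul, h1]
  have hWl : LocCoeff M W := by
    have h1 : LocCoeff M (classSum c₀⁻¹ * E) := LocCoeff.mul (classSum_mem_localCenter c₀⁻¹).2 (E_loc hB)
    refine h1.sub fun g => ?_
    rw [MonoidAlgebra.coeff_smul_apply]
    exact memLocalRing_mul (memLocalRing_omega χ₀.2 (classSum_mem_localCenter c₀⁻¹)) (E_loc hB g)
  have hmem : MemLocalIdeal M ((W * z').coeff c₀⁻¹) := by
    have hcinv : c₀⁻¹ ∈ Subgroup.centralizer (D : Set G) := Subgroup.inv_mem _ hc₀C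
    have h1 := res_mul_sub_coeff hMp hDp hWl (fun x u _ => hWc x u) hz'l (fun x u _ => hz'c x u) ⟨c₀⁻¹, hcinv⟩
    have h2 : CoeffIn (localIdeal M) (res (Subgroup.centralizer (D : Set G)) W) := by
      rw [coeffIn_localIdeal_iff]
      intro g
      rw [coeff_res]
      exact coeff_classSum_sub hMp hB hD hDp hregi hχ₀ g g.2
    have hz'r : LocCoeff M (res (Subgroup.centralizer (D : Set G)) z') := fun g => by
      rw [coeff_res]
      exact hz'l g
    have h3 := coeffIn_localIdeal_iff.mp (coeffIn_mul_loc h2 hz'r) ⟨c₀⁻¹, hcinv⟩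
    have h4 := memLocalIdeal_add h1 h3
    rw [MonoidAlgebra.coeff_sub, Finsupp.sub_apply, sub_add_cancel, coeff_res] at h4
    exact h4
  have hrel : E.coeff c₀ = (W * z').coeff c₀⁻¹ + ω * z'.coeff c₀⁻¹ := by
    have h1 : idx * E.coeff c₀ - ω * (idx * z'.coeff c₀⁻¹) = idx * (W * z').coeff c₀⁻¹ := by
      rw [← hE1, ← hWval, hW1]
    apply mul_left_cancel₀ hidx0
    rw [mul_add, ← h1]
    ring
  have hu : ¬ MemLocalIdeal M (z'.coeff c₀⁻¹) := by
    intro h
    apply hdc.2.1
    rw [← coeff_blockElt, ← hE, hrel]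
    exact memLocalIdeal_add hmem (memLocalIdeal_mul_left (memLocalRing_omega χ₀.2 (classSum_mem_localCenter c₀⁻¹)) h)
  exact ⟨c₀, z'.coeff c₀⁻¹, hdc, hz'l _, hu, hE1⟩

end Twelve

end Cfsg.Agent.Lib.Blocks.Pim
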