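/-
A dichotomy for ring homomorphisms on a block, and the group algebra map to a quotient group.
-/
import Mathlib
import Cfsg.Agent.Lib.Blocks.Pim12
import Cfsg.Agent.Lib.Blocks.Dominate

set_option autoImplicit false

namespace Cfsg.Agent.Lib.Blocks.Pim

open Cfsg Cfsg.Agent.Lib.Blocks.Local Cfsg.Agent.Lib.Blocks.Central Cfsg.Agent.Lib.Blocks.Osima
open Cfsg.Agent.Lib.Blocks.Covering Cfsg.Agent.Lib.Blocks.BlockHom Cfsg.Agent.Lib.Blocks.Pairs
open Cfsg.Agent.Lib.Blocks.Twisted Cfsg.Agent.Lib.Blocks.Nilp Cfsg.Agent.Lib.Blocks.Sections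
open Cfsg.Agent.Lib.Blocks.Regular Cfsg.Agent.Lib.Blocks.SecondMain Cfsg.Agent.Lib.Blocks.Dominate
open Cfsg.Agent.Lib.Char.Ortho
open scoped ComplexConjugate

universe u v

section Dichotomy

variable {H : Type u} [Group H] [Fintype H] {M : Ideal AlgInt} [hM : M.IsPrime]

/-- A ring homomorphism `Φ` on `ℂ[H]`, a block `e` of `H`, and a local central `a` with idempotent
image: the image of `a` acts on the image of the block idempotent as `0` or as `1`. -/
theorem phi_dichotomy {R : Type v} [Ring R] (Φ : MonoidAlgebra ℂ H →+* R) {e : Set (IrrCharacter H)}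
    (he : IsPBlock M e) {a : MonoidAlgebra ℂ H} (hac : IsClassFunction H a.coeff) (hal : LocCoeff M a)
    (hid : Φ a * Φ a = Φ a) :
    Φ a * Φ (blockElt e) = 0 ∨ Φ a * Φ (blockElt e) = Φ (blockElt e) := by
  classical
  obtain ⟨ξ, hξ⟩ := isPBlock_nonempty he
  have heZ : blockElt e ∈ localCenter H M := blockElt_mem_localCenter he
  have haZ : a ∈ localCenter H M := ⟨hac, hal⟩
  have hsame : ∀ ψ ∈ e, MemLocalIdeal M (omega (ψ : H → ℂ) a - omega (ξ : H → ℂ) a) := by
    intro ψ hψ
    have h1 : ψ ∈ blockOf M (ξ : H → ℂ) := by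
      rw [← isPBlock_eq_blockOf he hξ]
      exact hψ
    exact memLocalIdeal_omega_sub ψ.2 ξ.2 (sameBlock_symm h1) haZ
  by_cases h : MemLocalIdeal M (omega (ξ : H → ℂ) a)
  · left
    have hall : ∀ ψ ∈ e, MemLocalIdeal M (omega (ψ : H → ℂ) a) := by
      intro ψ hψ
      have := memLocalIdeal_add (hsame ψ hψ) h
      simpa using this
    have hzZ : blockElt e - a * blockElt e ∈ localCenter H M :=
      (localCenter H M).sub_mem heZ ((localCenter H M).mul_mem haZ heZ)
    have hz : ∀ ψ ∈ e, ¬ MemLocalIdeal M (omega (ψ : H → ℂ) (blockElt e - a * blockElt e)) := by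
      intro ψ hψ hin
      rw [omega_sub, omega_mul ψ.2 hac, omega_blockElt_of_mem hψ, mul_one] at hin
      have := memLocalIdeal_add hin (hall ψ hψ)
      rw [sub_add_cancel] at this
      exact not_memLocalIdeal_one this
    obtain ⟨z', -, -, hzz', -⟩ := exists_central_inv he hzZ.1 hzZ.2 hz
    have h1 : (Φ (blockElt e) - Φ a * Φ (blockElt e)) * Φ z' = Φ (blockElt e) := by
      rw [← map_mul, ← map_sub, ← map_mul, hzz']
    calc Φ a * Φ (blockElt e)
        = Φ a * ((Φ (blockElt e) - Φ a * Φ (blockElt e)) * Φ z') := by rw [h1]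
      _ = (Φ a * Φ (blockElt e) - (Φ a * Φ a) * Φ (blockElt e)) * Φ z' := by noncomm_ring
      _ = 0 := by rw [hid]; simp
  · right
    have hall : ∀ ψ ∈ e, ¬ MemLocalIdeal M (omega (ψ : H → ℂ) a) := by
      intro ψ hψ hin
      have := memLocalIdeal_sub hin (hsame ψ hψ)
      rw [sub_sub_cancel] at this
      exact h this
    have hzZ : a * blockElt e ∈ localCenter H M := (localCenter H M).mul_mem haZ heZ
    have hz : ∀ ψ ∈ e, ¬ MemLocalIdeal M (omega (ψ : H → ℂ) (a * blockElt e)) := by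
      intro ψ hψ
      rw [omega_mul ψ.2 hac, omega_blockElt_of_mem hψ, mul_one]
      exact hall ψ hψ
    obtain ⟨z', -, -, hzz', -⟩ := exists_central_inv he hzZ.1 hzZ.2 hz
    have h1 : Φ a * Φ (blockElt e) * Φ z' = Φ (blockElt e) := by
      rw [← map_mul, ← map_mul, hzz']
    calc Φ a * Φ (blockElt e)
        = Φ a * (Φ a * Φ (blockElt e) * Φ z') := by rw [h1]
      _ = (Φ a * Φ a) * Φ (blockElt e) * Φ z' := by noncomm_ring
      _ = Φ (blockElt e) := by rw [hid, h1]

end Dichotomy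

section Quot

variable {G : Type u} [Group G] [Fintype G] {M : Ideal AlgInt} [hM : M.IsPrime]
variable (N : Subgroup G) [hN : N.Normal]

/-- The ring map `ℂ[G] → ℂ[G/N]`. -/
noncomputable def piN : MonoidAlgebra ℂ G →+* MonoidAlgebra ℂ (G ⧸ N) :=
  MonoidAlgebra.mapDomainRingHom ℂ (QuotientGroup.mk' N)

open Classical in
lemma coeff_piN (a : MonoidAlgebra ℂ G) (c : G ⧸ N) :
    (piN N a).coeff c = ∑ x ∈ Finset.univ.filter (fun x : G => (x : G ⧸ N) = c), a.coeff x := by
  show Finsupp.mapDomain (QuotientGroup.mk' N) a.coeff c = _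
  rw [Finsupp.mapDomain, Finsupp.sum_apply, Finsupp.sum_fintype _ _ (by simp), Finset.sum_filter]
  refine Finset.sum_congr rfl fun x _ => ?_
  rw [Finsupp.single_apply]
  rfl

lemma piN_eq_deflate [Fintype (G ⧸ N)] (a : MonoidAlgebra ℂ G) : piN N a = deflate N a := by
  classical
  apply ext_coeff
  intro c
  rw [coeff_piN, deflate, coeff_ofFun]

lemma coeffIn_piN {a : MonoidAlgebra ℂ G} (h : CoeffIn (localIdeal M) a) : CoeffIn (localIdeal M) (piN N a) := by
  classical
  rw [coeffIn_localIdeal_iff] at h ⊢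
  intro c
  rw [coeff_piN]
  exact memLocalIdeal_sum _ _ fun x _ => h x

lemma locCoeff_piN {a : MonoidAlgebra ℂ G} (h : LocCoeff M a) : LocCoeff M (piN N a) := by
  classical
  intro c
  rw [coeff_piN]
  exact memLocalRing_sum _ _ fun x _ => h x

lemma cj_piN [Fintype (G ⧸ N)] (x : G) (a : MonoidAlgebra ℂ G) : cj (x : G ⧸ N) (piN N a) = piN N (cj x a) := by
  classical
  apply ext_coeff
  intro c
  rw [coeff_cj, coeff_piN, coeff_piN]
  refine Finset.sum_bij' (fun g _ => x * g * x⁻¹) (fun g _ => x⁻¹ * g * x) ?_ ?_ ?_ ?_ ?_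
  · intro g hg
    simp only [Finset.mem_filter, Finset.mem_univ, true_and] at hg ⊢
    rw [QuotientGroup.mk_mul, QuotientGroup.mk_mul, hg, QuotientGroup.mk_inv]
    group
  · intro g hg
    simp only [Finset.mem_filter, Finset.mem_univ, true_and] at hg ⊢
    rw [QuotientGroup.mk_mul, QuotientGroup.mk_mul, hg, QuotientGroup.mk_inv]
  · intro g _
    group
  · intro g _
    group
  · intro g _
    rw [coeff_cj]
    congr 2
    group

end Quot

end Cfsg.Agent.Lib.Blocks.Pim
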