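/-
Blocks of the centralizer of a normal `p`-subgroup and of the centralizer of its image in a quotient.
-/
import Mathlib
import Cfsg.Agent.Lib.Blocks.Pim14

set_option autoImplicit false

namespace Cfsg.Agent.Lib.Blocks.Pim

open Cfsg Cfsg.Agent.Lib.Blocks.Local Cfsg.Agent.Lib.Blocks.Central Cfsg.Agent.Lib.Blocks.Osima
open Cfsg.Agent.Lib.Blocks.Covering Cfsg.Agent.Lib.Blocks.BlockHom Cfsg.Agent.Lib.Blocks.Pairs
open Cfsg.Agent.Lib.Blocks.Twisted Cfsg.Agent.Lib.Blocks.Nilp Cfsg.Agent.Lib.Blocks.Sections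
open Cfsg.Agent.Lib.Blocks.Regular Cfsg.Agent.Lib.Blocks.SecondMain Cfsg.Agent.Lib.Blocks.Dominate
open Cfsg.Agent.Lib.Char.Ortho
open scoped ComplexConjugate

universe u

section Setting

variable {G : Type u} [Group G] [Fintype G] {M : Ideal AlgInt} [hM : M.IsPrime] {p : ℕ} [hp : Fact p.Prime]
variable (N : Subgroup G) [hN : N.Normal] (D : Subgroup G)

local notation "C1" => Subgroup.centralizer (D : Set G)
local notation "Cb" => Subgroup.centralizer ((D.map (QuotientGroup.mk' N) : Subgroup (G ⧸ N)) : Set (G ⧸ N))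

lemma mk_mem_Cb {c : G} (hc : c ∈ C1) : (c : G ⧸ N) ∈ Cb := by
  rw [Subgroup.mem_centralizer_iff] at hc ⊢
  rintro _ ⟨u, hu, rfl⟩
  have := hc u hu
  show (u : G ⧸ N) * c = c * u
  rw [← QuotientGroup.mk_mul, this, QuotientGroup.mk_mul]

/-- The hypotheses on the quotient. -/
structure QSet (p : ℕ) : Prop where
  inj : ∀ c c' : G, c ∈ C1 → ¬ p ∣ orderOf c → ¬ p ∣ orderOf c' → (c : G ⧸ N) = c' → c = c'
  surj : ∀ l : G ⧸ N, l ∈ Cb → ¬ p ∣ orderOf l → ∃ c ∈ C1, ¬ p ∣ orderOf c ∧ (c : G ⧸ N) = l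
  down : ∀ g : G, ¬ p ∣ orderOf g → (g : G ⧸ N) ∈ Cb → g ∈ C1

/-- Pull-back to the `p`-regular elements of the centralizer. -/
noncomputable def pbN [Fintype C1] (p : ℕ) (ε : MonoidAlgebra ℂ (G ⧸ N)) : MonoidAlgebra ℂ C1 :=
  ofFun (fun c : C1 => if p ∣ orderOf (c : G) then 0 else ε.coeff ((c : G) : G ⧸ N))

variable {N D} [Fintype (Subgroup.centralizer (D : Set G))]

lemma coeff_pbN (ε : MonoidAlgebra ℂ (G ⧸ N)) (c : C1) :
    (pbN N D p ε).coeff c = if p ∣ orderOf (c : G) then 0 else ε.coeff ((c : G) : G ⧸ N) := by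
  rw [pbN, coeff_ofFun]

lemma piN_push_pbN (h : QSet N D p) {ε : MonoidAlgebra ℂ (G ⧸ N)}
    (hε : ∀ l : G ⧸ N, ε.coeff l ≠ 0 → l ∈ Cb ∧ ¬ p ∣ orderOf l) :
    piN N (push C1 (pbN N D p ε)) = ε := by
  classical
  apply ext_coeff
  intro l
  rw [coeff_piN]
  by_cases h0 : ε.coeff l = 0
  · rw [h0]
    refine Finset.sum_eq_zero fun x hx => ?_
    have hx' : (x : G ⧸ N) = l := (Finset.mem_filter.1 hx).2
    by_cases hxC : x ∈ C1
    · have := coeff_push_coe C1 (pbN N D p ε) ⟨x, hxC⟩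
      simp only at this
      rw [this, coeff_pbN]
      simp only [hx', h0, ite_self]
    · exact coeff_push_of_notMem C1 _ hxC
  · obtain ⟨hl, hlr⟩ := hε l h0
    obtain ⟨c, hc, hcr, rfl⟩ := h.surj l hl hlr
    rw [Finset.sum_eq_single c]
    · have := coeff_push_coe C1 (pbN N D p ε) ⟨c, hc⟩
      simp only at this
      rw [this, coeff_pbN, if_neg hcr]
    · intro x hx hne
      have hx' : (x : G ⧸ N) = c := (Finset.mem_filter.1 hx).2
      by_cases hxC : x ∈ C1
      · have := coeff_push_coe C1 (pbN N D p ε) ⟨x, hxC⟩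
        simp only at this
        rw [this, coeff_pbN]
        by_cases hxr : p ∣ orderOf x
        · simp [hxr]
        · exact absurd (h.inj c x hc hcr hxr hx'.symm).symm hne
      · exact coeff_push_of_notMem C1 _ hxC
    · intro hh
      exact absurd (by simp) hh

lemma isClassFunction_pbN {ε : MonoidAlgebra ℂ (G ⧸ N)} (hε : InvBy Cb ε) :
    IsClassFunction C1 (pbN N D p ε).coeff := by
  classical
  intro c t
  rw [coeff_pbN, coeff_pbN]
  have h1 : orderOf (((t * c * t⁻¹ : C1) : G)) = orderOf (c : G) :=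
    orderOf_eq_of_isConj (isConj_iff.2 ⟨(t : G), by simp⟩) 
  have h2 : (((t * c * t⁻¹ : C1) : G) : G ⧸ N) =
      ((t : G) : G ⧸ N) * ((c : G) : G ⧸ N) * ((t : G) : G ⧸ N)⁻¹ := by
    simp
  rw [h1, h2, hε _ _ (mk_mem_Cb N D t.2)]

lemma locCoeff_pbN {ε : MonoidAlgebra ℂ (G ⧸ N)} (hε : LocCoeff M ε) : LocCoeff M (pbN N D p ε) := by
  classical
  intro c
  rw [coeff_pbN]
  split_ifs
  · exact memLocalRing_zero
  · exact hε _

variable [Fintype (G ⧸ N)]

/-- The image of the block idempotent of `C_G(D)` lies in one block of the centralizer of the image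
of `D`, or annihilates it. -/
theorem EE_mul_P (hMp : IsPModular p M) (h : QSet N D p) {e : Set (IrrCharacter C1)} (he : IsPBlock M e)
    {f : Set (IrrCharacter Cb)} (hf : IsPBlock M f) :
    EE Cb f * piN N (EE C1 e) = 0 ∨ EE Cb f * piN N (EE C1 e) = piN N (EE C1 e) := by
  classical
  letI : Fintype Cb := Fintype.ofFinite _
  set ε := EE Cb f with hε
  have hε0 : ∀ l : G ⧸ N, ε.coeff l ≠ 0 → l ∈ Cb ∧ ¬ p ∣ orderOf l := by
    intro l hl
    have hlC : l ∈ Cb := by
      by_contra hn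
      apply hl
      rw [hε, coeff_EE, subgroupBlockCoeff_of_notMem _ hn]
    refine ⟨hlC, fun hdvd => hl ?_⟩
    rw [hε, coeff_EE, subgroupBlockCoeff_of_mem _ hlC]
    apply Covering.blockCoeff_eq_zero_of_dvd hMp hf
    rwa [Subgroup.orderOf_mk]
  let Φ : MonoidAlgebra ℂ C1 →+* MonoidAlgebra ℂ (G ⧸ N) :=
    (piN N).comp (MonoidAlgebra.mapDomainRingHom ℂ (C1).subtype)
  have hΦ : ∀ a, Φ a = piN N (push C1 a) := fun a => rfl
  have hphi : Φ (pbN N D p ε) = ε := by
    rw [hΦ]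
    exact piN_push_pbN h hε0
  have hid : Φ (pbN N D p ε) * Φ (pbN N D p ε) = Φ (pbN N D p ε) := by
    rw [hphi, hε, EE_mul_self]
  have hd := phi_dichotomy Φ he (isClassFunction_pbN (invBy_EE_self _ f)) (locCoeff_pbN (locCoeff_EE hf)) hid
  rw [hphi, hΦ (blockElt e), ← EE_eq_push] at hd
  exact hd

lemma coeff_P (hMp : IsPModular p M) (h : QSet N D p) {e : Set (IrrCharacter C1)} (he : IsPBlock M e)
    {c : G} (hc : c ∈ C1) (hcr : ¬ p ∣ orderOf c) :
    (piN N (EE C1 e)).coeff (c : G ⧸ N) = (EE C1 e).coeff c := by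
  classical
  rw [coeff_piN, Finset.sum_eq_single c]
  · intro x hx hne
    have hx' : (x : G ⧸ N) = c := (Finset.mem_filter.1 hx).2
    rw [coeff_EE]
    by_cases hxC : x ∈ C1
    · rw [subgroupBlockCoeff_of_mem _ hxC]
      by_cases hxr : p ∣ orderOf x
      · apply Covering.blockCoeff_eq_zero_of_dvd hMp he
        rwa [Subgroup.orderOf_mk]
      · exact absurd (h.inj c x hc hcr hxr hx'.symm).symm hne
    · exact subgroupBlockCoeff_of_notMem _ hxC
  · intro hh
    exact absurd (by simp) hh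

lemma not_coeffIn_P (hMp : IsPModular p M) (h : QSet N D p) {e : Set (IrrCharacter C1)} (he : IsPBlock M e) :
    ¬ CoeffIn (localIdeal M) (piN N (EE C1 e)) := by
  classical
  intro hin
  rw [coeffIn_localIdeal_iff] at hin
  obtain ⟨c, hc⟩ := exists_isDefectClass he
  have hnot : ¬ MemLocalIdeal M (blockCoeff e c) := hc.2.1
  have hcr : ¬ p ∣ orderOf (c : G) := by
    intro hdvd
    apply hnot
    rw [Covering.blockCoeff_eq_zero_of_dvd hMp he (by rwa [Subgroup.orderOf_coe] at hdvd)]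
    exact memLocalIdeal_zero
  have h1 := hin ((c : G) : G ⧸ N)
  rw [coeff_P hMp h he c.2 hcr, coeff_EE, subgroupBlockCoeff_of_mem _ c.2] at h1
  exact hnot h1

lemma P_ne_zero (hMp : IsPModular p M) (h : QSet N D p) {e : Set (IrrCharacter C1)} (he : IsPBlock M e) :
    piN N (EE C1 e) ≠ 0 := by
  intro h0
  apply not_coeffIn_P hMp h he
  rw [h0, coeffIn_localIdeal_iff]
  intro g
  simpa using memLocalIdeal_zero

/-- The block of the centralizer of the image. -/
theorem exists_block_P (hMp : IsPModular p M) (h : QSet N D p) {e : Set (IrrCharacter C1)} (he : IsPBlock M e) :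
    ∃ f : Set (IrrCharacter Cb), IsPBlock M f ∧ EE Cb f * piN N (EE C1 e) = piN N (EE C1 e) := by
  classical
  by_contra hno
  push Not at hno
  apply P_ne_zero hMp h he
  have h1 : ∀ b : Blk M Cb, EE Cb b.1 * piN N (EE C1 e) = 0 := fun b =>
    (EE_mul_P hMp h he b.2).resolve_right (hno b.1 b.2)
  calc piN N (EE C1 e) = (∑ b : Blk M Cb, EE Cb b.1) * piN N (EE C1 e) := by
        rw [sum_EE_eq_one, one_mul]
    _ = 0 := by
        rw [Finset.sum_mul]
        exact Finset.sum_eq_zero fun b _ => h1 b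

theorem block_P_unique (hMp : IsPModular p M) (h : QSet N D p) {e : Set (IrrCharacter C1)} (he : IsPBlock M e)
    {f f' : Set (IrrCharacter Cb)} (hf : IsPBlock M f) (hf' : IsPBlock M f')
    (h1 : EE Cb f * piN N (EE C1 e) = piN N (EE C1 e)) (h2 : EE Cb f' * piN N (EE C1 e) = piN N (EE C1 e)) :
    f = f' := by
  classical
  by_contra hne
  apply P_ne_zero hMp h he
  have hdis : f ∩ f' = ∅ := by
    ext ξ
    simp only [Set.mem_inter_iff, Set.mem_empty_iff_false, iff_false, not_and]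
    intro h3 h4
    exact hne ((isPBlock_eq_blockOf hf h3).trans (isPBlock_eq_blockOf hf' h4).symm)
  calc piN N (EE C1 e) = EE Cb f * (EE Cb f' * piN N (EE C1 e)) := by rw [h2, h1]
    _ = 0 := by
        rw [← mul_assoc, EE_mul, hdis, EE_empty, zero_mul]

/-- The block of the centralizer of the image is stable under what stabilizes `e`. -/
theorem stabilizes_block_P (hMp : IsPModular p M) (h : QSet N D p) {e : Set (IrrCharacter C1)} (he : IsPBlock M e)
    {f : Set (IrrCharacter Cb)} (hf : IsPBlock M f)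
    (h1 : EE Cb f * piN N (EE C1 e) = piN N (EE C1 e)) {x : G} (hx : StabilizesBlock C1 e x)
    (hn : (x : G ⧸ N) ∈ Subgroup.normalizer ((Cb : Subgroup (G ⧸ N)) : Set (G ⧸ N))) :
    StabilizesBlock Cb f (x : G ⧸ N) := by
  classical
  rw [stabilizesBlock_iff] at hx ⊢
  obtain ⟨hxn, hxe⟩ := hx
  refine ⟨hn, ?_⟩
  have hP : cj (x : G ⧸ N) (piN N (EE C1 e)) = piN N (EE C1 e) := by
    rw [cj_piN, cj_EE_conjB (map_conj_of_mem_normalizer hxn), hxe]
  have h2 := congrArg (cj (x : G ⧸ N)) h1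
  rw [cj_mul, hP, cj_EE_conjB (map_conj_of_mem_normalizer hn)] at h2
  exact block_P_unique hMp h he (isPBlock_conjB hf) hf h2 h1

end Setting

end Cfsg.Agent.Lib.Blocks.Pim
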