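/-
A block of the quotient attached to the block of the centralizer of the image.
-/
import Mathlib
import Cfsg.Agent.Lib.Blocks.Pim15

set_option autoImplicit false

namespace Cfsg.Agent.Lib.Blocks.Pim

open Cfsg Cfsg.Agent.Lib.Blocks.Local Cfsg.Agent.Lib.Blocks.Central Cfsg.Agent.Lib.Blocks.Osima
open Cfsg.Agent.Lib.Blocks.Covering Cfsg.Agent.Lib.Blocks.BlockHom Cfsg.Agent.Lib.Blocks.Pairs
open Cfsg.Agent.Lib.Blocks.Twisted Cfsg.Agent.Lib.Blocks.Nilp Cfsg.Agent.Lib.Blocks.Sections
open Cfsg.Agent.Lib.Blocks.Regular Cfsg.Agent.Lib.Blocks.SecondMain Cfsg.Agent.Lib.Blocks.Dominate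
open Cfsg.Agent.Lib.Char.Ortho
open scoped ComplexConjugate

universe u

section General

variable {G : Type u} [Group G] [Fintype G] {M : Ideal AlgInt} [hM : M.IsPrime] {p : ℕ} [hp : Fact p.Prime]

lemma coeffIn_push {K : Subgroup G} [Fintype K] {a : MonoidAlgebra ℂ K} (h : CoeffIn (localIdeal M) a) :
    CoeffIn (localIdeal M) (push K a) := by
  classical
  rw [coeffIn_localIdeal_iff] at h ⊢
  intro g
  by_cases hg : g ∈ K
  · have := coeff_push_coe K a ⟨g, hg⟩
    simp only at this
    rw [this]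
    exact h _
  · rw [coeff_push_of_notMem K a hg]
    exact memLocalIdeal_zero

/-- For a Brauer pair of the block, the Brauer image acts as the identity on the block idempotent of the
centralizer, modulo the local ideal. -/
lemma coeffIn_tr_mul_EE_sub (hMp : IsPModular p M) {B : Set (IrrCharacter G)} {D : Subgroup G}
    [Fintype (Subgroup.centralizer (D : Set G))] {e : Set (IrrCharacter (Subgroup.centralizer (D : Set G)))}
    (hpair : IsBrauerPairOf p M B D e) :
    CoeffIn (localIdeal M) (tr (Subgroup.centralizer (D : Set G)) (blockElt B) * EE (Subgroup.centralizer (D : Set G)) e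
      - EE (Subgroup.centralizer (D : Set G)) e) := by
  classical
  have hB : IsPBlock M B := hpair.2.1
  have he : IsPBlock M e := hpair.1.2
  have hDp : IsPGroup p D := hpair.1.1
  have hbv : ∀ ξ ∈ e, MemLocalIdeal M (bv D (ξ : Subgroup.centralizer (D : Set G) → ℂ) (blockElt B) - 1) :=
    (isBrauerPairOf_iff.1 hpair).2.2
  set E := blockElt B with hE
  have hEd : BrDom M D E := brDom_blockElt hB
  set v : MonoidAlgebra ℂ (Subgroup.centralizer (D : Set G)) := res (Subgroup.centralizer (D : Set G)) E * blockElt e with hv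
  have hresZ : res (Subgroup.centralizer (D : Set G)) E ∈ localCenter (Subgroup.centralizer (D : Set G)) M := res_mem_localCenter hEd
  have heZ : blockElt e ∈ localCenter (Subgroup.centralizer (D : Set G)) M := blockElt_mem_localCenter he
  have hvZ : v ∈ localCenter (Subgroup.centralizer (D : Set G)) M := (localCenter (Subgroup.centralizer (D : Set G)) M).mul_mem hresZ heZ
  have hv0 : CoeffIn (localIdeal M) (v - blockElt e) := by
    refine Cfsg.Agent.Lib.Blocks.FirstMain2.coeffIn_sub_of_omega hvZ heZ ?_ (blockElt_mul_self e) ?_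
    · have h1 : v - v * v = (res (Subgroup.centralizer (D : Set G)) E - res (Subgroup.centralizer (D : Set G)) E * res (Subgroup.centralizer (D : Set G)) E) * blockElt e := by
        have h2 : v * v = res (Subgroup.centralizer (D : Set G)) E * res (Subgroup.centralizer (D : Set G)) E * blockElt e := by
          rw [hv, mul_assoc, ← mul_assoc (blockElt e), ← central_comm heZ.1 (res (Subgroup.centralizer (D : Set G)) E), mul_assoc (res (Subgroup.centralizer (D : Set G)) E),
            blockElt_mul_self, mul_assoc]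
        rw [h2, hv, sub_mul]
      rw [h1]
      refine coeffIn_mul_loc ?_ heZ.2
      rw [coeffIn_localIdeal_iff]
      intro h
      have h3 := res_mul_sub_coeff hMp hDp hEd.loc hEd.invP hEd.loc hEd.invP h
      rw [hE, blockElt_mul_self, ← hE] at h3
      exact h3
    · intro ξ
      rw [hv, omega_mul ξ.2 hresZ.1]
      by_cases hξ : ξ ∈ e
      · rw [omega_blockElt_of_mem hξ, mul_one]
        exact hbv ξ hξ
      · rw [omega_blockElt_of_notMem hξ, mul_zero, sub_zero]
        exact memLocalIdeal_zero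
  have h5 : tr (Subgroup.centralizer (D : Set G)) E * EE (Subgroup.centralizer (D : Set G)) e - EE (Subgroup.centralizer (D : Set G)) e
      = push (Subgroup.centralizer (D : Set G)) (v - blockElt e) := by
    rw [tr_eq_push, EE_eq_push, ← push_mul, ← hv]
    unfold push
    rw [map_sub]
  rw [h5]
  exact coeffIn_push hv0

end General

section Setting

variable {G : Type u} [Group G] [Fintype G] {M : Ideal AlgInt} [hM : M.IsPrime] {p : ℕ} [hp : Fact p.Prime]
variable {N : Subgroup G} [hN : N.Normal] {D : Subgroup G}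

local notation "C1" => Subgroup.centralizer (D : Set G)
local notation "Db" => (D.map (QuotientGroup.mk' N) : Subgroup (G ⧸ N))
local notation "Cb" => Subgroup.centralizer ((D.map (QuotientGroup.mk' N) : Subgroup (G ⧸ N)) : Set (G ⧸ N))

variable [Fintype (G ⧸ N)]

lemma tr_piN (hMp : IsPModular p M) (h : QSet N D p) {B : Set (IrrCharacter G)} (hB : IsPBlock M B) :
    tr Cb (piN N (blockElt B)) = piN N (tr C1 (blockElt B)) := by
  classical
  apply ext_coeff
  intro l
  rw [coeff_piN]
  by_cases hl : l ∈ Cb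
  · rw [coeff_tr_of_mem _ hl, coeff_piN]
    refine Finset.sum_congr rfl fun x hx => ?_
    have hx' : (x : G ⧸ N) = l := (Finset.mem_filter.1 hx).2
    by_cases hxC : x ∈ C1
    · rw [coeff_tr_of_mem _ hxC]
    · rw [coeff_tr_of_notMem _ hxC]
      by_cases hxr : p ∣ orderOf x
      · rw [coeff_blockElt]
        exact Covering.blockCoeff_eq_zero_of_dvd hMp hB hxr
      · exact absurd (h.down x hxr (by rw [hx']; exact hl)) hxC
  · rw [coeff_tr_of_notMem _ hl]
    symm
    refine Finset.sum_eq_zero fun x hx => ?_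
    have hx' : (x : G ⧸ N) = l := (Finset.mem_filter.1 hx).2
    refine coeff_tr_of_notMem _ fun hxC => hl ?_
    rw [← hx']
    exact mk_mem_Cb N D hxC

variable [Fintype (Subgroup.centralizer (D : Set G))]

/-- The main step: a block `A` of the quotient, all of whose characters inflate into `B`, with `(D/N, f)` a pair of `A`. -/
theorem exists_block_of_P (hMp : IsPModular p M) (h : QSet N D p) (hDb : IsPGroup p Db)
    {B : Set (IrrCharacter G)} {e : Set (IrrCharacter C1)} (hpair : IsBrauerPairOf p M B D e)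
    {f : Set (IrrCharacter Cb)} (hf : IsPBlock M f) (hfP : EE Cb f * piN N (EE C1 e) = piN N (EE C1 e)) :
    ∃ A : Set (IrrCharacter (G ⧸ N)), IsPBlock M A ∧
      (∀ χ ∈ A, ∀ ψ : IrrCharacter G, (ψ : G → ℂ) = (χ : G ⧸ N → ℂ) ∘ QuotientGroup.mk → ψ ∈ B) ∧
      IsBrauerPairOf p M A Db f := by
  classical
  letI : Fintype Cb := Fintype.ofFinite _
  have hB : IsPBlock M B := hpair.2.1
  have he : IsPBlock M e := hpair.1.2
  obtain ⟨ξ, hξ⟩ := isPBlock_nonempty hf
  -- the block `A`
  obtain ⟨A, hA⟩ : ∃ A : Blk M (G ⧸ N), ¬ MemLocalIdeal M (bv Db (ξ : Cb → ℂ) (blockElt A.1)) := by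
    by_contra hno
    push Not at hno
    have h1 : bv Db (ξ : Cb → ℂ) (∑ A : Blk M (G ⧸ N), blockElt A.1) = 1 := by
      rw [sum_blockElt_eq_one, bv_one ξ.2]
    rw [bv_sum] at h1
    have h2 := memLocalIdeal_sum (M := M) Finset.univ (fun A : Blk M (G ⧸ N) => bv Db (ξ : Cb → ℂ) (blockElt A.1)) fun A _ => hno A
    rw [h1] at h2
    exact not_memLocalIdeal_one h2
  have hApair : IsBrauerPairOf p M A.1 Db f := isBrauerPairOf_of_not_mem hMp hDb hf A.2 hξ hA
  refine ⟨A.1, A.2, ?_, hApair⟩
  intro χ hχ ψ hψ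
  by_contra hψB
  -- the inflated characters are not in `B`
  have hirr : ∀ θ : IrrCharacter (G ⧸ N), IsIrrCharacter G ((θ : G ⧸ N → ℂ) ∘ QuotientGroup.mk) := fun θ =>
    Cfsg.Agent.Lib.Char.Basic.isIrrCharacter_comp_surjective θ.2 (QuotientGroup.mk' N)
      (QuotientGroup.mk'_surjective N)
  have hnot : ∀ χ' ∈ A.1, (⟨(χ' : G ⧸ N → ℂ) ∘ QuotientGroup.mk, hirr χ'⟩ : IrrCharacter G) ∉ B := by
    intro χ' hχ' hin
    apply hψB
    have h1 : χ' ∈ blockOf M (χ : G ⧸ N → ℂ) := by
      rw [← isPBlock_eq_blockOf A.2 hχ]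
      exact hχ'
    have h2 : SameBlock M ((χ' : G ⧸ N → ℂ) ∘ QuotientGroup.mk) ((χ : G ⧸ N → ℂ) ∘ QuotientGroup.mk) :=
      sameBlock_comp_mk N χ'.2 χ.2 (sameBlock_symm h1)
    rw [isPBlock_eq_blockOf hB hin]
    show SameBlock M _ _
    rw [hψ]
    exact h2
  set E := blockElt B with hE
  have hEZ : deflate N E ∈ localCenter (G ⧸ N) M := deflate_mem_localCenter N (blockElt_mem_localCenter hB)
  have hEp : piN N E = deflate N E := piN_eq_deflate N E
  have hZ : blockElt A.1 * piN N E = 0 := by
    rw [hEp, Cfsg.Agent.Lib.Blocks.ModBlock.blockElt_mul_classFun _ hEZ.1]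
    refine Finset.sum_eq_zero fun χ' hχ' => ?_
    have hχ'' : χ' ∈ A.1 := (Finset.mem_filter.1 hχ').2
    rw [omega_deflate]
    have h3 := omega_blockElt_of_notMem (hnot χ' hχ'')
    simp only at h3
    rw [h3, zero_smul]
  -- pieces
  have hEZ' : piN N E ∈ localCenter (G ⧸ N) M := by rw [hEp]; exact hEZ
  have hAZ : blockElt A.1 ∈ localCenter (G ⧸ N) M := blockElt_mem_localCenter A.2
  have hU : CoeffIn (localIdeal M) (tr Cb (blockElt A.1) * tr Cb (piN N E)) := by
    have h1 : CoeffIn (localIdeal M) (res Cb (blockElt A.1) * res Cb (piN N E)) := by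
      rw [coeffIn_localIdeal_iff]
      intro k
      have h2 := res_mul_sub_coeff hMp hDb hAZ.2 (fun x u _ => hAZ.1 x u) hEZ'.2 (fun x u _ => hEZ'.1 x u) k
      rw [hZ] at h2
      have h3 : (res Cb (0 : MonoidAlgebra ℂ (G ⧸ N))) = 0 := by
        apply ext_coeff
        intro c
        rw [coeff_res]
        rfl
      rw [h3, zero_sub] at h2
      have h6 : (-(res Cb (blockElt A.1) * res Cb (piN N E))).coeff k = -((res Cb (blockElt A.1) * res Cb (piN N E)).coeff k) := rfl
      rw [h6] at h2
      have h4 := memLocalIdeal_neg h2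
      rwa [neg_neg] at h4
    have h2 := coeffIn_push h1
    rwa [show push Cb (res Cb (blockElt A.1) * res Cb (piN N E)) = tr Cb (blockElt A.1) * tr Cb (piN N E) by
      rw [tr_eq_push, tr_eq_push, ← push_mul]] at h2
  have hT : CoeffIn (localIdeal M) (tr Cb (piN N E) * piN N (EE C1 e) - piN N (EE C1 e)) := by
    have h1 := coeffIn_piN N (coeffIn_tr_mul_EE_sub hMp hpair)
    rw [map_sub, map_mul, ← tr_piN hMp h hB] at h1
    exact h1
  have hF : CoeffIn (localIdeal M) (tr Cb (blockElt A.1) * EE Cb f - EE Cb f) :=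
    coeffIn_tr_mul_EE_sub hMp hApair
  have hPl : LocCoeff M (piN N (EE C1 e)) := locCoeff_piN N (locCoeff_EE he)
  have hUl : LocCoeff M (tr Cb (blockElt A.1)) := locCoeff_tr _ hAZ.2
  -- the chain
  have s1 : CoeffIn (localIdeal M) (tr Cb (blockElt A.1) * piN N (EE C1 e) - piN N (EE C1 e)) := by
    have := coeffIn_mul_loc hF hPl
    rwa [sub_mul, mul_assoc, hfP] at this
  have s2 : CoeffIn (localIdeal M) (tr Cb (blockElt A.1) * (tr Cb (piN N E) * piN N (EE C1 e)) -
      tr Cb (blockElt A.1) * piN N (EE C1 e)) := by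
    have := coeffIn_loc_mul hUl hT
    rwa [mul_sub] at this
  have s3 : CoeffIn (localIdeal M) (tr Cb (blockElt A.1) * (tr Cb (piN N E) * piN N (EE C1 e))) := by
    rw [← mul_assoc]
    exact coeffIn_mul_loc hU hPl
  apply not_coeffIn_P hMp h he
  have := (s3.sub s2).sub s1
  convert this using 1
  abel

end Setting

end Cfsg.Agent.Lib.Blocks.Pim
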