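/-
Normal defect group, equal degrees on height zero: the stabilizer of a maximal pair centralizes modulo a `p`-group.
-/
import Mathlib
import Cfsg.Agent.Lib.Blocks.Pim16
import Cfsg.Agent.Lib.Blocks.QuotDefect
import Cfsg.Agent.Lib.PGroup.FrattiniBasis
import Cfsg.Agent.Lib.Solvable.PSeries3
import Cfsg.Agent.S0169
import Cfsg.Agent.S0908

set_option autoImplicit false

namespace Cfsg.Agent.Lib.Blocks.Pim

open Cfsg Cfsg.Agent.Lib.Blocks.Local Cfsg.Agent.Lib.Blocks.Central Cfsg.Agent.Lib.Blocks.Osima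
open Cfsg.Agent.Lib.Blocks.Covering Cfsg.Agent.Lib.Blocks.BlockHom Cfsg.Agent.Lib.Blocks.Pairs
open Cfsg.Agent.Lib.Blocks.Twisted Cfsg.Agent.Lib.Blocks.Nilp Cfsg.Agent.Lib.Blocks.Sections
open Cfsg.Agent.Lib.Blocks.Regular Cfsg.Agent.Lib.Blocks.SecondMain Cfsg.Agent.Lib.Blocks.Dominate
open Cfsg.Agent.Lib.Char.Ortho
open scoped ComplexConjugate commutatorElement

universe u

section QS

variable {G : Type u} [Group G] {p : ℕ} [hp : Fact p.Prime]

/-- A `p`-regular element of a quotient has a `p`-regular preimage. -/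
lemma exists_regular_lift [Finite G] (N : Subgroup G) [N.Normal] {l : G ⧸ N} (hl : ¬ p ∣ orderOf l) :
    ∃ g : G, ¬ p ∣ orderOf g ∧ (g : G ⧸ N) = l := by
  classical
  obtain ⟨g₀, rfl⟩ := QuotientGroup.mk_surjective l
  by_cases h1 : orderOf (g₀ : G ⧸ N) = 1
  · refine ⟨1, by simpa using hp.out.one_lt.ne', ?_⟩
    rw [orderOf_eq_one_iff] at h1
    rw [h1]
    rfl
  · have hpos : 0 < orderOf (g₀ : G ⧸ N) := orderOf_pos _
    have hgt : 1 < orderOf (g₀ : G ⧸ N) := by omega
    obtain ⟨a, b, hb, hab⟩ := Nat.exists_eq_pow_mul_and_not_dvd (orderOf_pos g₀).ne' p hp.out.ne_one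
    have hcop : Nat.Coprime (p ^ a) (orderOf (g₀ : G ⧸ N)) :=
      Nat.Coprime.pow_left a ((Nat.Prime.coprime_iff_not_dvd hp.out).2 hl)
    obtain ⟨r, -, hr⟩ := Nat.exists_mul_mod_eq_one_of_coprime hcop hgt
    refine ⟨g₀ ^ (p ^ a * r), ?_, ?_⟩
    · have h2 : (g₀ ^ (p ^ a * r)) ^ b = 1 := by
        rw [← pow_mul, show p ^ a * r * b = (p ^ a * b) * r by ring, ← hab, pow_mul, pow_orderOf_eq_one, one_pow]
      intro h3
      exact hb (h3.trans (orderOf_dvd_of_pow_eq_one h2))
    · rw [QuotientGroup.mk_pow, ← pow_mod_orderOf, hr, pow_one]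

variable [Finite G] {D : Subgroup G} [hDn : D.Normal]

local notation "C1" => Subgroup.centralizer (D : Set G)
local notation "NN" => (⁅D, D⁆ : Subgroup G)
local notation "Cb" => Subgroup.centralizer ((D.map (QuotientGroup.mk' (⁅D, D⁆ : Subgroup G)) : Subgroup (G ⧸ (⁅D, D⁆ : Subgroup G))) : Set (G ⧸ (⁅D, D⁆ : Subgroup G)))

lemma down_of_comm (hDp : IsPGroup p D) {g : G} (hg : ¬ p ∣ orderOf g) (hgb : (g : G ⧸ NN) ∈ Cb) : g ∈ C1 := by
  classical
  have hA : Subgroup.zpowers g ≤ Subgroup.normalizer (D : Set G) := by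
    rw [Subgroup.normalizer_eq_top_iff.2 hDn]
    exact le_top
  have hcop : (Nat.card (Subgroup.zpowers g)).Coprime p := by
    rw [Nat.card_zpowers]
    exact Nat.Coprime.symm ((Nat.Prime.coprime_iff_not_dvd hp.out).2 hg)
  have hcomm : ⁅D, Subgroup.zpowers g⁆ ≤ (frattini D).map D.subtype := by
    rw [Subgroup.commutator_le]
    intro u hu a ha
    have h1 : (a : G ⧸ NN) ∈ Cb := by
      obtain ⟨k, rfl⟩ := ha
      simp only
      rw [QuotientGroup.mk_zpow]
      exact zpow_mem hgb k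
    have h2 : ⁅u, a⁆ ∈ NN := by
      rw [← QuotientGroup.eq_one_iff]
      have h3 := Subgroup.mem_centralizer_iff.1 h1 (u : G ⧸ NN) ⟨u, hu, rfl⟩
      rw [commutatorElement_def, QuotientGroup.mk_mul, QuotientGroup.mk_mul, QuotientGroup.mk_mul, h3,
        QuotientGroup.mk_inv, QuotientGroup.mk_inv]
      group
    have h4 : NN ≤ (frattini D).map D.subtype := by
      rw [← Subgroup.map_subtype_commutator]
      exact Subgroup.map_mono (Cfsg.Agent.Lib.PGroup.FrattiniBasis.commutator_le_frattini hDp)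
    exact h4 h2
  have h5 := Cfsg.Agent.Lib.Solvable.PSeries3.le_centralizer_of_commutator_le_frattini hDp hA hcop hcomm
  rw [Subgroup.mem_centralizer_iff]
  intro u hu
  exact (Subgroup.mem_centralizer_iff.1 (h5 hu) g (Subgroup.mem_zpowers g)).symm

theorem qset_commutator (hDp : IsPGroup p D) : QSet NN D p where
  inj := by
    intro c c' hc hcr hc'r hmk
    have hz : c⁻¹ * c' ∈ NN := QuotientGroup.eq.1 hmk
    have hzD : c⁻¹ * c' ∈ D := Subgroup.commutator_le_left D D hz
    have hcz : c' = c * (c⁻¹ * c') := by group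
    set z := c⁻¹ * c' with hzdef
    have hcomm : Commute c z := (Subgroup.mem_centralizer_iff.1 hc z hzD).symm
    have hm : z ^ (orderOf c * orderOf c') = 1 := by
      have h1 : c' ^ (orderOf c * orderOf c') = 1 := by
        rw [mul_comm, pow_mul, pow_orderOf_eq_one, one_pow]
      have h2 : c ^ (orderOf c * orderOf c') = 1 := by
        rw [pow_mul, pow_orderOf_eq_one, one_pow]
      have h3 : (c * z) ^ (orderOf c * orderOf c') = 1 := by
        rw [← hcz]
        exact h1
      rw [hcomm.mul_pow, h2, one_mul] at h3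
      exact h3
    obtain ⟨k, hk⟩ := (IsPGroup.iff_orderOf.1 hDp) ⟨z, hzD⟩
    rw [Subgroup.orderOf_mk] at hk
    have hd : orderOf z ∣ orderOf c * orderOf c' := orderOf_dvd_of_pow_eq_one hm
    have hk0 : k = 0 := by
      by_contra hne
      have h3 : p ∣ orderOf z := by
        rw [hk]
        exact dvd_pow_self p hne
      rcases (Nat.Prime.dvd_mul hp.out).1 (h3.trans hd) with h4 | h4
      · exact hcr h4
      · exact hc'r h4
    have hz1 : z = 1 := by
      rw [← orderOf_eq_one_iff, hk, hk0, pow_zero]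
    rw [hcz, hz1, mul_one]
  surj := by
    intro l hl hlr
    obtain ⟨g, hg, rfl⟩ := exists_regular_lift (p := p) NN hlr
    exact ⟨g, down_of_comm hDp hg hl, hg, rfl⟩
  down := fun g hg hgb => down_of_comm hDp hg hgb

lemma index_map_mk (N : Subgroup G) [N.Normal] (hND : N ≤ D) : (D.map (QuotientGroup.mk' N)).index = D.index := by
  rw [Subgroup.index_map, QuotientGroup.ker_mk', sup_eq_left.2 hND,
    (MonoidHom.range_eq_top (f := QuotientGroup.mk' N)).2 (QuotientGroup.mk'_surjective N), Subgroup.index_top, mul_one]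

lemma comm_of_mem_map {a b : G ⧸ NN} (ha : a ∈ D.map (QuotientGroup.mk' NN)) (hb : b ∈ D.map (QuotientGroup.mk' NN)) :
    a * b = b * a := by
  obtain ⟨u, hu, rfl⟩ := ha
  obtain ⟨v, hv, rfl⟩ := hb
  show (u : G ⧸ NN) * v = v * u
  rw [← QuotientGroup.mk_mul, ← QuotientGroup.mk_mul, QuotientGroup.eq]
  have := Subgroup.commutator_mem_commutator (inv_mem hv) (inv_mem hu)
  convert this using 1
  simp [commutatorElement_def]
  group

end QS

section Ito

variable {G : Type u} [Group G] [Fintype G] {M : Ideal AlgInt} [hM : M.IsPrime] {p : ℕ} [hp : Fact p.Prime]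

lemma charDegree_dvd_index_abelian {H : Type u} [Group H] [Fintype H] (χ : IrrCharacter H) (A : Subgroup H) [A.Normal]
    (hA : ∀ a ∈ A, ∀ b ∈ A, a * b = b * a) : charDegree (χ : H → ℂ) ∣ A.index := by
  obtain ⟨m, ρ, hρ, hχ⟩ := χ.2
  haveI := hρ
  have h1 := Cfsg.Agent.S0169.result ρ A hA
  have h2 : charDegree (χ : H → ℂ) = m := by
    have : ((charDegree (χ : H → ℂ) : ℕ) : ℂ) = (m : ℂ) := by
      rw [Cfsg.Agent.Lib.Blocks.RegInt.charDegree_cast χ, ← hχ]
      simp [Representation.char_one]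
    exact_mod_cast this
  rw [h2]
  simpa using h1

lemma height_zero_of_dvd_index (hMp : IsPModular p M) {B : Set (IrrCharacter G)} (hB : IsPBlock M B)
    {D : Subgroup G} (hD : IsDefectGroup p M B D) {ψ : IrrCharacter G} (hψ : ψ ∈ B)
    (h : charDegree (ψ : G → ℂ) ∣ D.index) : blockHeight p B (ψ : G → ℂ) = 0 := by
  classical
  have hcard : Nat.card D * D.index = Nat.card G := Subgroup.card_mul_index D
  have hD0 := Cfsg.Agent.S0908.result p M hMp B hB D hD
  have hidx : D.index ≠ 0 := Subgroup.index_ne_zero_of_finite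
  have hfac : (Nat.card G).factorization p = blockDefect p B + D.index.factorization p := by
    rw [← hcard, hD0, Nat.factorization_mul (pow_ne_zero _ hp.out.ne_zero) hidx, Finsupp.add_apply,
      hp.out.factorization_pow]
    simp
  have hle : (charDegree (ψ : G → ℂ)).factorization p ≤ D.index.factorization p :=
    (Nat.factorization_le_iff_dvd (Cfsg.Agent.Lib.Blocks.RegInt.charDegree_ne_zero ψ) hidx).2 h p
  have hle2 : (charDegree (ψ : G → ℂ)).factorization p ≤ (Nat.card G).factorization p := by omega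
  set s := sInf ((fun χ : IrrCharacter G => (charDegree (χ : G → ℂ)).factorization p) '' B) with hs
  have hs1 : s ≤ (charDegree (ψ : G → ℂ)).factorization p := Nat.sInf_le ⟨ψ, hψ, rfl⟩
  have hdef : blockDefect p B = (Nat.card G).factorization p - s := rfl
  have hht : blockHeight p B (ψ : G → ℂ) = (charDegree (ψ : G → ℂ)).factorization p - s := rfl
  rw [hht]
  omega

/-- **The normal defect group case at the top of the chain.** -/
theorem stabilizer_centralizes (hMp : IsPModular p M) {B : Set (IrrCharacter G)} (hB : IsPBlock M B)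
    {D : Subgroup G} (hD : IsDefectGroup p M B D) (hDn : D.Normal) {d : ℕ}
    (hd : ∀ χ : IrrCharacter G, χ ∈ B → blockHeight p B (χ : G → ℂ) = 0 → charDegree (χ : G → ℂ) = d)
    {e : Set (IrrCharacter (Subgroup.centralizer (D : Set G)))} (hpair : IsBrauerPairOf p M B D e) {x : G}
    (hx : StabilizesBlock (Subgroup.centralizer (D : Set G)) e x) (hxr : ¬ p ∣ orderOf x) :
    x ∈ Subgroup.centralizer (D : Set G) := by
  classical
  haveI := hDn
  letI : Fintype (G ⧸ (⁅D, D⁆ : Subgroup G)) := Fintype.ofFinite _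
  letI : Fintype (Subgroup.centralizer (D : Set G)) := Fintype.ofFinite _
  have hcD := Cfsg.Agent.S0908.result p M hMp B hB D hD
  have hDp : IsPGroup p D := IsPGroup.of_card hcD
  have h : QSet (⁅D, D⁆ : Subgroup G) D p := qset_commutator hDp
  have hDb : IsPGroup p (D.map (QuotientGroup.mk' (⁅D, D⁆ : Subgroup G))) := hDp.map _
  have he : IsPBlock M e := hpair.1.2
  obtain ⟨f, hf, hfP⟩ := exists_block_P hMp h he
  obtain ⟨A, hA, hsub, hApair⟩ := exists_block_of_P hMp h hDb hpair hf hfP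
  haveI hDbn : (D.map (QuotientGroup.mk' (⁅D, D⁆ : Subgroup G))).Normal :=
    Subgroup.Normal.map hDn _ (QuotientGroup.mk'_surjective _)
  have hCbn : ((x : G ⧸ (⁅D, D⁆ : Subgroup G))) ∈ Subgroup.normalizer
      ((Subgroup.centralizer ((D.map (QuotientGroup.mk' (⁅D, D⁆ : Subgroup G)) : Subgroup (G ⧸ (⁅D, D⁆ : Subgroup G))) : Set (G ⧸ (⁅D, D⁆ : Subgroup G))) : Subgroup (G ⧸ (⁅D, D⁆ : Subgroup G))) : Set (G ⧸ (⁅D, D⁆ : Subgroup G))) := by
    rw [Subgroup.normalizer_eq_top_iff.2 Subgroup.normal_centralizer]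
    exact Subgroup.mem_top _
  have hstab := stabilizes_block_P hMp h he hf hfP hx hCbn
  -- equal degrees on the block of the quotient
  have hn : ∀ χ ∈ A, charDegree (χ : G ⧸ (⁅D, D⁆ : Subgroup G) → ℂ) = d := by
    intro χ hχ
    let ψ : IrrCharacter G := ⟨(χ : G ⧸ (⁅D, D⁆ : Subgroup G) → ℂ) ∘ QuotientGroup.mk,
      Cfsg.Agent.Lib.Char.Basic.isIrrCharacter_comp_surjective χ.2 (QuotientGroup.mk' _)
        (QuotientGroup.mk'_surjective _)⟩
    have hψ : ψ ∈ B := hsub χ hχ ψ rfl
    have hdeg : charDegree (ψ : G → ℂ) = charDegree (χ : G ⧸ (⁅D, D⁆ : Subgroup G) → ℂ) := by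
      simp [charDegree, ψ]
    have hdvd : charDegree (ψ : G → ℂ) ∣ D.index := by
      rw [hdeg, ← index_map_mk (⁅D, D⁆ : Subgroup G) (Subgroup.commutator_le_left D D)]
      exact charDegree_dvd_index_abelian χ _ fun a ha b hb => comm_of_mem_map ha hb
    rw [← hdeg]
    exact hd ψ hψ (height_zero_of_dvd_index hMp hB hD hψ hdvd)
  -- the defect group of the block of the quotient is abelian
  obtain ⟨_, _, -, hD₀⟩ := Cfsg.Agent.Lib.Blocks.Pairs.exists_isDefectGroup hMp hA
  obtain ⟨P, hP, hle⟩ := Cfsg.Agent.Lib.Blocks.QuotDefect.exists_isDefectGroup_le hMp _ hA hB hsub hD₀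
  obtain ⟨t, ht⟩ := Cfsg.Agent.Lib.Blocks.HeightZero.exists_map_conj_eq_of_isDefectGroup hMp hB hD hP
  have hPD : P ≤ D := by
    intro u hu
    have h1 : t * u * t⁻¹ ∈ D := by
      rw [← ht]
      exact ⟨u, hu, rfl⟩
    have h2 := hDn.conj_mem _ h1 t⁻¹
    rw [inv_inv] at h2
    have h3 : t⁻¹ * (t * u * t⁻¹) * t = u := by group
    rwa [h3] at h2
  have hle2 := hle.trans (Subgroup.map_mono hPD)
  have hnil := isNilpotentBlock_of_equal_degree hMp hA hD₀ (fun a ha b hb => comm_of_mem_map (hle2 ha) (hle2 hb)) hn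
  have hreg : IsPRegular p (x : G ⧸ (⁅D, D⁆ : Subgroup G)) := by
    intro h3
    exact hxr (h3.trans (orderOf_map_dvd (QuotientGroup.mk' _) x))
  have hmem := hnil.2 _ f hApair (x : G ⧸ (⁅D, D⁆ : Subgroup G))
    (by rw [Subgroup.normalizer_eq_top_iff.2 hDbn]; exact Subgroup.mem_top _) hstab hreg
  exact h.down x hxr hmem

end Ito

end Cfsg.Agent.Lib.Blocks.Pim
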