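/-
Normal defect group: nilpotency from the top of the chain of Brauer pairs.
-/
import Mathlib
import Cfsg.Agent.Lib.Blocks.Pim17
import Cfsg.Agent.Lib.Blocks.Pairs8
import Cfsg.Agent.Lib.Blocks.NilpPair

set_option autoImplicit false

namespace Cfsg.Agent.Lib.Blocks.Pim

open Cfsg Cfsg.Agent.Lib.Blocks.Local Cfsg.Agent.Lib.Blocks.Central Cfsg.Agent.Lib.Blocks.Osima
open Cfsg.Agent.Lib.Blocks.Covering Cfsg.Agent.Lib.Blocks.BlockHom Cfsg.Agent.Lib.Blocks.Pairs
open Cfsg.Agent.Lib.Blocks.Twisted Cfsg.Agent.Lib.Blocks.Nilp Cfsg.Agent.Lib.Blocks.Sections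
open Cfsg.Agent.Lib.Blocks.Regular Cfsg.Agent.Lib.Blocks.SecondMain Cfsg.Agent.Lib.Blocks.Dominate
open Cfsg.Agent.Lib.Char.Ortho
open scoped ComplexConjugate

universe u

section Orbit

variable {G : Type u} [Group G] [Fintype G] {M : Ideal AlgInt} [hM : M.IsPrime] {p : ℕ} [hp : Fact p.Prime]

/-- Two normal overpairs of a pair on one subgroup `R` normalized by `C_G(Q)` are conjugate under `C_G(Q)`. -/
theorem orbit_of_normal_subpairs (hMp : IsPModular p M) {Q R : Subgroup G}
    (hRn : Subgroup.centralizer (Q : Set G) ≤ Subgroup.normalizer (R : Set G))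
    {f : Set (IrrCharacter (Subgroup.centralizer (Q : Set G)))}
    {g₁ g₂ : Set (IrrCharacter (Subgroup.centralizer (R : Set G)))}
    (h₁ : IsNormalSubpair p M Q f R g₁) (h₂ : IsNormalSubpair p M Q f R g₂) :
    ∃ k ∈ Subgroup.centralizer (Q : Set G),
      ∃ hk : (Subgroup.centralizer (R : Set G)).map (MulAut.conj k).toMonoidHom = Subgroup.centralizer (R : Set G),
        g₂ = conjB k hk g₁ := by
  classical
  letI : Fintype (Subgroup.centralizer (R : Set G)) := Fintype.ofFinite _
  letI : Fintype (Subgroup.centralizer (Q : Set G)) := Fintype.ofFinite _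
  have hQR : Q ≤ R := h₁.2.2.1
  have hRp : IsPGroup p R := h₁.2.1.1
  have hf : IsPBlock M f := h₁.1.2
  have hg₁ : IsPBlock M g₁ := h₁.2.1.2
  have hg₂ : IsPBlock M g₂ := h₂.2.1.2
  have hKX : Subgroup.centralizer (R : Set G) ≤ Subgroup.centralizer (Q : Set G) :=
    Subgroup.centralizer_le hQR
  have hX : Subgroup.centralizer (Q : Set G) ≤ Subgroup.normalizer ((Subgroup.centralizer (R : Set G) : Subgroup G) : Set G) :=
    hRn.trans (normalizer_le_normalizer_centralizer R)
  set U := orbitU (Subgroup.centralizer (Q : Set G)) (Subgroup.centralizer (R : Set G)) hX g₁ with hU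
  set w := EE (Subgroup.centralizer (R : Set G)) U with hw
  set y := EE (Subgroup.centralizer (Q : Set G)) f with hy
  have hwl : LocCoeff M w := locCoeff_EE_of_union fun θ hθ => orbitU_union hg₁ hθ
  have hwid : w * w = w := EE_mul_self _ _
  have hwX : InvBy (Subgroup.centralizer (Q : Set G)) w :=
    invBy_EE_of_stab fun v hv => stabilizesBlock_orbitU _ _ hX g₁ hv
  have hwR : InvBy R w :=
    invBy_EE_of_stab fun v hv => stabilizesBlock_of_centralizes (Subgroup.mem_centralizer_iff.2 fun c hc => (Subgroup.mem_centralizer_iff.1 hc v hv).symm) U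
  have hwK : InvBy (Subgroup.centralizer (R : Set G)) w := invBy_EE_self _ _
  have hwd : BrDom M R w := ⟨hwl, hwR, hwK⟩
  have hyd : BrDom M R y :=
    ⟨locCoeff_EE hf, invBy_EE_of_stab h₁.2.2.2.2.1, (invBy_EE_self _ f).mono hKX⟩
  -- the dichotomy
  have hpw : push (Subgroup.centralizer (Q : Set G)) (res (Subgroup.centralizer (Q : Set G)) w) = w := by
    rw [← tr_eq_push]
    apply ext_coeff
    intro c
    by_cases hc : c ∈ Subgroup.centralizer (Q : Set G)
    · rw [coeff_tr_of_mem _ hc]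
    · rw [coeff_tr_of_notMem _ hc, hw, coeff_EE, subgroupBlockCoeff_of_notMem _ (fun h => hc (hKX h))]
  have hresid : res (Subgroup.centralizer (Q : Set G)) w * res (Subgroup.centralizer (Q : Set G)) w =
      res (Subgroup.centralizer (Q : Set G)) w := by
    have h3 := res_mul_push (Subgroup.centralizer (Q : Set G)) w (res (Subgroup.centralizer (Q : Set G)) w)
    rw [hpw, hwid] at h3
    exact h3.symm
  have hac : IsClassFunction (Subgroup.centralizer (Q : Set G)) (res (Subgroup.centralizer (Q : Set G)) w).coeff := by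
    intro c t
    rw [coeff_res, coeff_res]
    have := hwX (c : G) t t.2
    simpa using this
  have hal : LocCoeff M (res (Subgroup.centralizer (Q : Set G)) w) := by
    intro c
    rw [coeff_res]
    exact hwl _
  have hd := phi_dichotomy (M := M) (RingHom.id _) hf hac hal (by simpa using hresid)
  simp only [RingHom.id_apply] at hd
  have hd' : w * y = 0 ∨ w * y = y := by
    have hyp : y = push (Subgroup.centralizer (Q : Set G)) (blockElt f) := EE_eq_push _ _
    have hmul : w * y = push (Subgroup.centralizer (Q : Set G)) (res (Subgroup.centralizer (Q : Set G)) w * blockElt f) := by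
      rw [push_mul, hpw, ← hyp]
    rcases hd with h | h
    · left
      rw [hmul, h]
      unfold push
      rw [map_zero]
    · right
      rw [hmul, h, ← hyp]
  have hbvw : ∀ ζ : IrrCharacter (Subgroup.centralizer (R : Set G)),
      bv R (ζ : _ → ℂ) w = if ζ ∈ U then 1 else 0 := by
    intro ζ
    unfold bv
    rw [hw, res_EE]
    split_ifs with h
    · exact omega_blockElt_of_mem h
    · exact omega_blockElt_of_notMem h
  have hbvy₁ := (isNormalSubpair_iff.mp h₁).2.2.2.2.2
  have hbvy₂ := (isNormalSubpair_iff.mp h₂).2.2.2.2.2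
  -- the idempotent acts as the identity
  have hone : w * y = y := by
    refine hd'.resolve_left fun h0 => ?_
    obtain ⟨ζ, hζ⟩ := isPBlock_nonempty hg₁
    have hζU : ζ ∈ U := subset_orbitU _ _ _ _ hζ
    have h1 := bv_mul hMp hRp ζ.2 hwd hyd
    rw [h0, hbvw, if_pos hζU, one_mul] at h1
    have h2 : bv R (ζ : _ → ℂ) (0 : MonoidAlgebra ℂ G) = 0 := by
      unfold bv
      rw [show res (Subgroup.centralizer (R : Set G)) (0 : MonoidAlgebra ℂ G) = 0 by
        apply ext_coeff
        intro c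
        rw [coeff_res]
        rfl]
      exact omega_zero _
    rw [h2, zero_sub] at h1
    have h3 := memLocalIdeal_add (memLocalIdeal_neg h1) (memLocalIdeal_neg (hbvy₁ ζ hζ))
    have h4 : -(-bv R (ζ : _ → ℂ) y) + -(bv R (ζ : _ → ℂ) y - 1) = 1 := by ring
    rw [h4] at h3
    exact not_memLocalIdeal_one h3
  -- so `g₂` lies in the orbit
  obtain ⟨ζ₂, hζ₂⟩ := isPBlock_nonempty hg₂
  have hζ₂U : ζ₂ ∈ U := by
    by_contra hn
    have h1 := bv_mul hMp hRp ζ₂.2 hwd hyd
    rw [hone, hbvw, if_neg hn, zero_mul, sub_zero] at h1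
    have h3 := memLocalIdeal_sub h1 (hbvy₂ ζ₂ hζ₂)
    rw [sub_sub_cancel] at h3
    exact not_memLocalIdeal_one h3
  obtain ⟨u, hu⟩ := hζ₂U
  refine ⟨u, u.2, map_conj_of_mem_normalizer (hX u.2), ?_⟩
  rw [isPBlock_eq_blockOf hg₂ hζ₂, ← isPBlock_eq_blockOf (isPBlock_conjB hg₁) hu]

end Orbit

section Top

variable {G : Type u} [Group G] [Fintype G] {M : Ideal AlgInt} [hM : M.IsPrime] {p : ℕ} [hp : Fact p.Prime]

lemma mem_normalizer_inf_of_normal {D Q : Subgroup G} (hDn : D.Normal) {t : G}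
    (ht : t ∈ Subgroup.normalizer (Q : Set G)) :
    t ∈ Subgroup.normalizer ((D ⊓ Subgroup.normalizer (Q : Set G) : Subgroup G) : Set G) := by
  rw [Subgroup.mem_normalizer_iff]
  intro h
  constructor
  · rintro ⟨h1, h2⟩
    exact ⟨hDn.conj_mem h h1 t, Subgroup.mul_mem _ (Subgroup.mul_mem _ ht h2) (Subgroup.inv_mem _ ht)⟩
  · rintro ⟨h1, h2⟩
    have e : t⁻¹ * (t * h * t⁻¹) * t = h := by group
    refine ⟨?_, ?_⟩
    · have h3 := hDn.conj_mem _ h1 t⁻¹
      rw [inv_inv, e] at h3
      exact h3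
    · rw [← e]
      exact Subgroup.mul_mem _ (Subgroup.mul_mem _ (Subgroup.inv_mem _ ht) h2) ht

/-- The reduction to the top of the chain. -/
theorem isNilpotentBlock_of_top (hMp : IsPModular p M) {B : Set (IrrCharacter G)} (hB : IsPBlock M B)
    {D : Subgroup G} (hD : IsDefectGroup p M B D) (hDn : D.Normal)
    (hTop : ∀ e : Set (IrrCharacter (Subgroup.centralizer (D : Set G))), IsBrauerPairOf p M B D e → ∀ x : G,
      StabilizesBlock (Subgroup.centralizer (D : Set G)) e x → ¬ p ∣ orderOf x →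
      x ∈ Subgroup.centralizer (D : Set G)) :
    IsNilpotentBlock p M B := by
  classical
  have hDp : IsPGroup p D := IsPGroup.of_card (Cfsg.Agent.S0908.result p M hMp B hB D hD)
  have key : ∀ n : ℕ, ∀ (Q : Subgroup G) (f : Set (IrrCharacter (Subgroup.centralizer (Q : Set G)))),
      Nat.card D - Nat.card Q = n → IsBrauerPairOf p M B Q f → ∀ x : G, x ∈ Subgroup.normalizer (Q : Set G) →
      StabilizesBlock (Subgroup.centralizer (Q : Set G)) f x → ¬ p ∣ orderOf x →
      x ∈ Subgroup.centralizer (Q : Set G) := by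
    intro n
    induction n using Nat.strong_induction_on with
    | _ n ih =>
    intro Q f hn hBf x hxN hst hxr
    obtain ⟨P, e, hmax, hle⟩ := exists_maximal_above hBf
    have hPdef := isDefectGroup_of_maximal hMp hmax
    obtain ⟨t, ht⟩ := Cfsg.Agent.Lib.Blocks.HeightZero.exists_map_conj_eq_of_isDefectGroup hMp hB hD hPdef
    have hPD : P ≤ D := by
      intro u hu
      have h1 : t * u * t⁻¹ ∈ D := by
        rw [← ht]
        exact ⟨u, hu, rfl⟩
      have h2 := hDn.conj_mem _ h1 t⁻¹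
      rw [inv_inv] at h2
      have h3 : t⁻¹ * (t * u * t⁻¹) * t = u := by group
      rwa [h3] at h2
    have hPeq : P = D := by
      refine Subgroup.eq_of_le_of_card_ge hPD ?_
      rw [Cfsg.Agent.S0908.result p M hMp B hB D hD, Cfsg.Agent.S0908.result p M hMp B hB P hPdef]
    subst hPeq
    have hQD : Q ≤ P := SubpairLE.le hle
    by_cases hQeq : Q = P
    · subst hQeq
      exact hTop f hBf x hst hxr
    have hlt : Q < P := lt_of_le_of_ne hQD hQeq
    obtain ⟨g, hg⟩ := exists_normal_subpair_normalizer hMp hmax.1.1 hQD hle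
    have hRpair := isBrauerPairOf_up hMp hBf hg
    obtain ⟨R', hQR', hR'P, hR'N⟩ := exists_normalizer_gt hDp hlt
    have hQR : Q < P ⊓ Subgroup.normalizer (Q : Set G) := lt_of_lt_of_le hQR' (le_inf hR'P hR'N)
    -- `x` normalizes everything
    have hxR := mem_normalizer_inf_of_normal hDn hxN
    have hCQR : Subgroup.centralizer (Q : Set G) ≤
        Subgroup.normalizer ((P ⊓ Subgroup.normalizer (Q : Set G) : Subgroup G) : Set G) := fun c hc =>
      mem_normalizer_inf_of_normal hDn (Cfsg.Agent.Lib.Blocks.FirstMain.centralizer_le_normalizer' Q hc)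
    have hcQ := map_conj_of_mem_normalizer (normalizer_le_normalizer_centralizer Q hxN)
    have hcR := map_conj_of_mem_normalizer (normalizer_le_normalizer_centralizer _ hxR)
    have hg' := isNormalSubpair_conj x (map_conj_of_mem_normalizer hxN) (map_conj_of_mem_normalizer hxR) hcQ hcR hg
    obtain ⟨hst1, hst2⟩ := stabilizesBlock_iff.mp hst
    have hfeq : conjB x hcQ f = f := hst2
    rw [hfeq] at hg'
    obtain ⟨k, hk, hkc, hgk⟩ := orbit_of_normal_subpairs hMp hCQR hg hg'
    -- `y = k⁻¹ x` stabilizes the block `g`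
    have hkN : k ∈ Subgroup.normalizer (Q : Set G) := Cfsg.Agent.Lib.Blocks.FirstMain.centralizer_le_normalizer' Q hk
    have hyN : k⁻¹ * x ∈ Subgroup.normalizer ((P ⊓ Subgroup.normalizer (Q : Set G) : Subgroup G) : Set G) :=
      Subgroup.mul_mem _ (Subgroup.inv_mem _ (hCQR hk)) hxR
    have hcyN : k⁻¹ * x ∈ Subgroup.normalizer ((Subgroup.centralizer ((P ⊓ Subgroup.normalizer (Q : Set G) : Subgroup G) : Set G) : Subgroup G) : Set G) :=
      normalizer_le_normalizer_centralizer _ hyN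
    have hyst : StabilizesBlock (Subgroup.centralizer ((P ⊓ Subgroup.normalizer (Q : Set G) : Subgroup G) : Set G)) g (k⁻¹ * x) := by
      by_contra hns
      have hg0 := EE_mul_cj_eq_zero (M := M) hg.2.1.2 hcyN hns
      have hcx : cj x (EE _ g) = cj k (EE (Subgroup.centralizer ((P ⊓ Subgroup.normalizer (Q : Set G) : Subgroup G) : Set G)) g) := by
        rw [cj_EE_conjB hcR, hgk, cj_EE_conjB hkc]
      rw [cj_cj, hcx, ← cj_cj, inv_mul_cancel, cj_one', EE_mul_self] at hg0
      exact EE_ne_zero _ hg.2.1.2 hg0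
    -- the `p`-regular part
    obtain ⟨a, b, hb, hab⟩ := Nat.exists_eq_pow_mul_and_not_dvd (orderOf_pos (k⁻¹ * x)).ne' p hp.out.ne_one
    have hreg : ¬ p ∣ orderOf ((k⁻¹ * x) ^ (p ^ a)) := by
      have h2 : ((k⁻¹ * x) ^ (p ^ a)) ^ b = 1 := by
        rw [← pow_mul, ← hab, pow_orderOf_eq_one]
      intro h3
      exact hb (h3.trans (orderOf_dvd_of_pow_eq_one h2))
    have hw₀N := Subgroup.pow_mem _ hyN (p ^ a)
    have hw₀st : StabilizesBlock (Subgroup.centralizer ((P ⊓ Subgroup.normalizer (Q : Set G) : Subgroup G) : Set G)) g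
        ((k⁻¹ * x) ^ (p ^ a)) := by
      have := Subgroup.pow_mem (blockStabilizer (Subgroup.centralizer ((P ⊓ Subgroup.normalizer (Q : Set G) : Subgroup G) : Set G)) g) hyst (p ^ a)
      exact this
    have hcardlt : Nat.card Q < Nat.card (P ⊓ Subgroup.normalizer (Q : Set G) : Subgroup G) :=
      Pairs.card_lt_of_lt hQR
    have hcardle : Nat.card (P ⊓ Subgroup.normalizer (Q : Set G) : Subgroup G) ≤ Nat.card P :=
      Subgroup.card_le_of_le inf_le_left
    have hIH := ih (Nat.card P - Nat.card (P ⊓ Subgroup.normalizer (Q : Set G) : Subgroup G)) (by omega) _ g rfl hRpair _ hw₀N hw₀st hreg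
    have hw₀Q : (k⁻¹ * x) ^ (p ^ a) ∈ Subgroup.centralizer (Q : Set G) := Subgroup.centralizer_le hQR.le hIH
    -- compare the conjugation actions on `Q`
    have hxQ : ∀ u ∈ Q, x * u * x⁻¹ ∈ Q := fun u hu => (Subgroup.mem_normalizer_iff.1 hxN u).1 hu
    have hy1 : ∀ u ∈ Q, (k⁻¹ * x) * u * (k⁻¹ * x)⁻¹ = x * u * x⁻¹ := by
      intro u hu
      have h1 := Subgroup.mem_centralizer_iff.1 hk _ (hxQ u hu)
      calc (k⁻¹ * x) * u * (k⁻¹ * x)⁻¹ = k⁻¹ * ((x * u * x⁻¹) * k) := by group
        _ = k⁻¹ * (k * (x * u * x⁻¹)) := by rw [h1]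
        _ = x * u * x⁻¹ := by group
    have hyn : ∀ n : ℕ, ∀ u ∈ Q, (k⁻¹ * x) ^ n * u * ((k⁻¹ * x) ^ n)⁻¹ = x ^ n * u * (x ^ n)⁻¹ := by
      intro n
      induction n with
      | zero => intro u _; simp
      | succ n ih2 =>
        intro u hu
        have h1 := ih2 _ (hxQ u hu)
        calc (k⁻¹ * x) ^ (n + 1) * u * ((k⁻¹ * x) ^ (n + 1))⁻¹
            = (k⁻¹ * x) ^ n * ((k⁻¹ * x) * u * (k⁻¹ * x)⁻¹) * ((k⁻¹ * x) ^ n)⁻¹ := by
              rw [pow_succ]; group
          _ = x ^ n * (x * u * x⁻¹) * (x ^ n)⁻¹ := by rw [hy1 u hu, h1]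
          _ = x ^ (n + 1) * u * (x ^ (n + 1))⁻¹ := by rw [pow_succ]; group
    have hxp : x ^ (p ^ a) ∈ Subgroup.centralizer (Q : Set G) := by
      rw [Subgroup.mem_centralizer_iff]
      intro u hu
      have h1 := hyn (p ^ a) u hu
      have h2 := Subgroup.mem_centralizer_iff.1 hw₀Q u hu
      have h3 : (k⁻¹ * x) ^ p ^ a * u * ((k⁻¹ * x) ^ p ^ a)⁻¹ = u := by
        rw [← h2]
        group
      rw [h3] at h1
      have h4 : x ^ p ^ a * u = x ^ p ^ a * u * (x ^ p ^ a)⁻¹ * x ^ p ^ a := by group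
      rw [h4, ← h1]
    have hcop : (p ^ a).Coprime (orderOf x) :=
      Nat.Coprime.pow_left a ((Nat.Prime.coprime_iff_not_dvd hp.out).2 hxr)
    obtain ⟨m, hm⟩ := exists_pow_eq_self_of_coprime hcop
    rw [← hm]
    exact Subgroup.pow_mem _ hxp m
  exact ⟨hB, fun Q e hpair x hxN hst hreg => key _ Q e rfl hpair x hxN hst hreg⟩

end Top

end Cfsg.Agent.Lib.Blocks.Pim
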