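import Mathlib

/-! Arithmetic of the orbit equation for primitive linear groups of degree two. -/

set_option autoImplicit false

namespace Cfsg.Agent.Lib.Blocks.Prim2A

lemma one_div_le_of_le {a b : ℕ} (ha : 0 < a) (h : a ≤ b) : (1:ℚ) / b ≤ 1 / a := by
  apply one_div_le_one_div_of_le (by exact_mod_cast ha) (by exact_mod_cast h)

lemma tri {a b c n : ℕ} (ha : 2 ≤ a) (hab : a ≤ b) (hbc : b ≤ c) (hn : 2 * c < n)
    (h : (1:ℚ) + 2 / n = 1 / a + 1 / b + 1 / c) : n = 12 ∨ n = 24 ∨ n = 60 := by
  have hn0 : (0:ℚ) < n := by
    have : 0 < n := by omega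
    exact_mod_cast this
  have h2n : (0:ℚ) < 2 / n := by positivity
  have h3a : a < 3 := by
    by_contra hcon
    have h3 : 3 ≤ a := by omega
    have h1 := one_div_le_of_le (a := 3) (b := a) (by norm_num) h3
    have h2 := one_div_le_of_le (a := 3) (b := b) (by norm_num) (by omega)
    have h4 := one_div_le_of_le (a := 3) (b := c) (by norm_num) (by omega)
    push_cast at h1 h2 h4
    linarith
  have ha2 : a = 2 := by omega
  subst ha2
  have hb4 : b < 4 := by
    by_contra hcon
    have h2 := one_div_le_of_le (a := 4) (b := b) (by norm_num) (by omega)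
    have h4 := one_div_le_of_le (a := 4) (b := c) (by norm_num) (by omega)
    push_cast at h h2 h4
    linarith
  have hb : b = 2 ∨ b = 3 := by omega
  rcases hb with rfl | rfl
  · -- n = 2c
    exfalso
    have hc0 : (0:ℚ) < c := by
      have : 0 < c := by omega
      exact_mod_cast this
    have h5 : (2:ℚ) / n = 1 / c := by
      push_cast at h
      linarith
    have h6 : (2:ℚ) * c = n := by
      field_simp at h5
      linarith
    have h7 : 2 * c = n := by exact_mod_cast h6
    omega
  · have hc6 : c < 6 := by
      by_contra hcon
      have h4 := one_div_le_of_le (a := 6) (b := c) (by norm_num) (by omega)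
      push_cast at h h4
      linarith
    have hc3 : 3 ≤ c := hbc
    interval_cases c
    · left
      norm_num at h
      have h5 : (2:ℚ) / n = 1 / 6 := by linarith
      have h6 : (n:ℚ) = 12 := by
        field_simp at h5
        linarith
      exact_mod_cast h6
    · right; left
      norm_num at h
      have h5 : (2:ℚ) / n = 1 / 12 := by linarith
      have h6 : (n:ℚ) = 24 := by
        field_simp at h5
        linarith
      exact_mod_cast h6
    · right; right
      norm_num at h
      have h5 : (2:ℚ) / n = 1 / 30 := by linarith
      have h6 : (n:ℚ) = 60 := by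
        field_simp at h5
        linarith
      exact_mod_cast h6

/-- weight of an orbit. -/
def wt (a e : ℕ) : ℚ := ((a:ℚ) - 1) / (e * a)

lemma wt_one {a : ℕ} (ha : 2 ≤ a) : wt a 1 = 1 - 1 / a := by
  have : (a:ℚ) ≠ 0 := by
    have : a ≠ 0 := by omega
    exact_mod_cast this
  unfold wt
  field_simp
  simp

lemma wt_two {a : ℕ} (ha : 2 ≤ a) : wt a 2 = (1 - 1 / a) / 2 := by
  have : (a:ℚ) ≠ 0 := by
    have : a ≠ 0 := by omega
    exact_mod_cast this
  unfold wt
  field_simp
  simp

lemma one_div_le_half {a : ℕ} (ha : 2 ≤ a) : (1:ℚ) / a ≤ 1 / 2 :=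
  by simpa using one_div_le_of_le (a := 2) (b := a) (by norm_num) ha

lemma wt_ge {a e : ℕ} (ha : 2 ≤ a) (he : e = 1 ∨ e = 2) : (1:ℚ) / 4 ≤ wt a e := by
  have h := one_div_le_half ha
  rcases he with rfl | rfl
  · rw [wt_one ha]; linarith
  · rw [wt_two ha]; linarith

theorem arith {ι : Type*} (I : Finset ι) (a e : ι → ℕ) (n : ℕ)
    (ha : ∀ i ∈ I, 2 ≤ a i) (he : ∀ i ∈ I, e i = 1 ∨ e i = 2) (hn : ∀ i ∈ I, 2 * a i < n)
    (hn1 : 1 < n) (h : ∑ i ∈ I, wt (a i) (e i) = 1 - 1 / n) :
    n = 12 ∨ n = 24 ∨ n = 60 := by
  classical
  have hn0 : (0:ℚ) < n := by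
    have : 0 < n := by omega
    exact_mod_cast this
  have hn1q : (1:ℚ) < n := by exact_mod_cast hn1
  have hpos : (0:ℚ) < 1 / n := by positivity
  have hlt : (1:ℚ) / n < 1 := by
    rw [div_lt_one hn0]; exact hn1q
  have hcard : I.card ≤ 3 := by
    by_contra hcon
    have h4 : 4 ≤ I.card := by omega
    have h5 : (I.card : ℚ) * (1 / 4) ≤ ∑ i ∈ I, wt (a i) (e i) := by
      have := Finset.card_nsmul_le_sum I (fun i => wt (a i) (e i)) (1 / 4)
        (fun i hi => wt_ge (ha i hi) (he i hi))
      simpa [nsmul_eq_mul] using this
    have h6 : (4:ℚ) ≤ I.card := by exact_mod_cast h4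
    rw [h] at h5
    nlinarith
  have hcases : I.card = 0 ∨ I.card = 1 ∨ I.card = 2 ∨ I.card = 3 := by omega
  rcases hcases with h0 | h1 | h2 | h3
  · exfalso
    rw [Finset.card_eq_zero] at h0
    subst h0
    rw [Finset.sum_empty] at h
    linarith
  · exfalso
    obtain ⟨i, rfl⟩ := Finset.card_eq_one.mp h1
    simp only [Finset.sum_singleton] at h
    have hai := ha i (by simp)
    have hni := hn i (by simp)
    have hai0 : (0:ℚ) < a i := by
      have : 0 < a i := by omega
      exact_mod_cast this
    have h2n : (2:ℚ) * a i < n := by exact_mod_cast hni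
    have hh : (1:ℚ) / n < 1 / a i := by
      apply one_div_lt_one_div_of_lt hai0
      linarith
    have hq := one_div_le_half hai
    rcases he i (by simp) with he1 | he1 <;> rw [he1] at h
    · rw [wt_one hai] at h
      linarith
    · rw [wt_two hai] at h
      have : (1:ℚ) / n ≤ 1 / 4 := by
        have h5 : (4:ℚ) ≤ n := by
          have : (2:ℚ) ≤ a i := by exact_mod_cast hai
          linarith
        rw [div_le_div_iff₀ hn0 (by norm_num)]
        linarith
      have h7 : (0:ℚ) < 1 / a i := by positivity
      linarith
  · obtain ⟨i, j, hij, rfl⟩ := Finset.card_eq_two.mp h2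
    rw [Finset.sum_pair hij] at h
    have hai := ha i (by simp)
    have haj := ha j (by simp)
    have hni := hn i (by simp)
    have hnj := hn j (by simp)
    have key : ∀ {b c : ℕ}, 2 ≤ b → 2 ≤ c → 2 * b < n → 2 * c < n →
        wt b 1 + wt c 2 = 1 - 1 / n → n = 12 := by
      intro b c hb hc hnb hnc hh
      rw [wt_one hb, wt_two hc] at hh
      have hb0 : (0:ℚ) < b := by
        have : 0 < b := by omega
        exact_mod_cast this
      have hc0 : (0:ℚ) < c := by
        have : 0 < c := by omega
        exact_mod_cast this
      have hb4 : b < 4 := by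
        by_contra hcon
        have h1 := one_div_le_of_le (a := 4) (b := b) (by norm_num) (by omega)
        have h2 := one_div_le_half hc
        push_cast at h1
        linarith
      have hb' : b = 2 ∨ b = 3 := by omega
      rcases hb' with rfl | rfl
      · exfalso
        have h2 : (2:ℚ) * c = n := by
          push_cast at hh
          have h3 : (1:ℚ) / n = 1 / (2 * c) := by
            have : (1:ℚ) / (2 * c) = (1 / c) / 2 := by field_simp
            rw [this]
            linarith
          field_simp at h3
          linarith
        have h3 : 2 * c = n := by exact_mod_cast h2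
        omega
      · have hc3 : c < 3 := by
          by_contra hcon
          have h2 := one_div_le_of_le (a := 3) (b := c) (by norm_num) (by omega)
          push_cast at h2 hh
          linarith
        have hc2 : c = 2 := by omega
        subst hc2
        push_cast at hh
        have h5 : (1:ℚ) / n = 1 / 12 := by linarith
        have h6 : (n:ℚ) = 12 := by
          field_simp at h5
          linarith
        exact_mod_cast h6
    have hi0 : (0:ℚ) < a i := by
      have : 0 < a i := by omega
      exact_mod_cast this
    have hj0 : (0:ℚ) < a j := by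
      have : 0 < a j := by omega
      exact_mod_cast this
    have hqi := one_div_le_half hai
    have hqj := one_div_le_half haj
    rcases he i (by simp) with he1 | he1 <;> rcases he j (by simp) with he2 | he2 <;>
      rw [he1, he2] at h
    · exfalso
      rw [wt_one hai, wt_one haj] at h
      linarith
    · left; exact key hai haj hni hnj h
    · left; exact key haj hai hnj hni (by rw [add_comm]; exact h)
    · exfalso
      rw [wt_two hai, wt_two haj] at h
      have h1 : (2:ℚ) * a i < n := by exact_mod_cast hni
      have h2 : (1:ℚ) / n < 1 / (2 * a i) := by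
        apply one_div_lt_one_div_of_lt (by positivity) h1
      have h3 : (1:ℚ) / (2 * a i) = (1 / a i) / 2 := by
        field_simp
      have h4 : (1:ℚ) / n ≤ 1 / 4 := by
        have h5 : (4:ℚ) ≤ n := by
          have : (2:ℚ) ≤ a i := by exact_mod_cast hai
          linarith
        rw [div_le_div_iff₀ hn0 (by norm_num)]
        linarith
      have h8 : (0:ℚ) < 1 / a i := by positivity
      have h9 : (0:ℚ) < 1 / a j := by positivity
      have h10 : (1:ℚ) / a j ≥ 0 := by positivity
      -- 1 - 1/n = 1 - (1/a_i + 1/a_j)/2 gives 1/n = (1/a_i+1/a_j)/2 ≥ 1/(2 a_i)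
      linarith
  · obtain ⟨i, j, k, hij, hik, hjk, rfl⟩ := Finset.card_eq_three.mp h3
    rw [Finset.sum_insert (by simp [hij, hik]), Finset.sum_pair hjk] at h
    have hai := ha i (by simp)
    have haj := ha j (by simp)
    have hak := ha k (by simp)
    have hni := hn i (by simp)
    have hnj := hn j (by simp)
    have hnk := hn k (by simp)
    have hwi := wt_ge hai (he i (by simp))
    have hwj := wt_ge haj (he j (by simp))
    have hwk := wt_ge hak (he k (by simp))
    have hqi := one_div_le_half hai
    have hqj := one_div_le_half haj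
    have hqk := one_div_le_half hak
    have hei : e i = 2 := by
      rcases he i (by simp) with he1 | he1
      · exfalso
        rw [he1, wt_one hai] at h
        linarith
      · exact he1
    have hej : e j = 2 := by
      rcases he j (by simp) with he1 | he1
      · exfalso
        rw [he1, wt_one haj] at h
        linarith
      · exact he1
    have hek : e k = 2 := by
      rcases he k (by simp) with he1 | he1
      · exfalso
        rw [he1, wt_one hak] at h
        linarith
      · exact he1
    rw [hei, hej, hek, wt_two hai, wt_two haj, wt_two hak] at h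
    have hsum : (1:ℚ) + 2 / n = 1 / a i + 1 / a j + 1 / a k := by
      have : (2:ℚ) / n = 2 * (1 / n) := by ring
      rw [this]
      linarith
    rcases le_total (a i) (a j) with h1 | h1 <;> rcases le_total (a j) (a k) with h2 | h2 <;>
      rcases le_total (a i) (a k) with h4 | h4
    · exact tri hai h1 h2 hnk hsum
    · exact tri hai h1 h2 hnk hsum
    · exact tri hai h4 h2 hnj (by rw [hsum]; ring)
    · exact tri hak h4 h1 hnj (by rw [hsum]; ring)
    · exact tri haj h1 h4 hnk (by rw [hsum]; ring)
    · exact tri haj h2 h4 hni (by rw [hsum]; ring)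
    · exact tri hak h2 h1 hni (by rw [hsum]; ring)
    · exact tri hak h2 h1 hni (by rw [hsum]; ring)

end Cfsg.Agent.Lib.Blocks.Prim2A
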