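import Cfsg.Agent.Lib.Blocks.Prim2A

/-! Groups in which commuting is transitive off the centre, with normalizers of centralizers
of index at most two over them: the orbit equation. -/

set_option autoImplicit false

namespace Cfsg.Agent.Lib.Blocks.Prim2G

open Cfsg.Agent.Lib.Blocks.Prim2A MulAction

section Orbit

variable {H X : Type*} [Group H] [Finite H] [MulAction H X] [Fintype X]
  [Fintype (orbitRel.Quotient H X)]

theorem sum_eq_orbits (f : X → ℚ) (hf : ∀ (g : H) (x : X), f (g • x) = f x) :
    ∑ x, f x = ∑ ω : orbitRel.Quotient H X,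
      ((Nat.card H : ℚ) / Nat.card (stabilizer H ω.out)) * f ω.out := by
  classical
  rw [← (selfEquivSigmaOrbits H X).symm.sum_comp f, Fintype.sum_sigma]
  refine Finset.sum_congr rfl fun ω _ => ?_
  have h1 : ∀ y : orbit H ω.out, f ((selfEquivSigmaOrbits H X).symm ⟨ω, y⟩) = f ω.out := by
    intro y
    obtain ⟨y, g, hg⟩ := y
    have : (selfEquivSigmaOrbits H X).symm ⟨ω, ⟨y, ⟨g, hg⟩⟩⟩ = y := by
      simp [selfEquivSigmaOrbits, selfEquivSigmaOrbits', Equiv.setCongr]
      rfl
    rw [this, ← hg]
    exact hf g _
  simp_rw [h1]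
  rw [Finset.sum_const, nsmul_eq_mul, Finset.card_univ]
  congr 1
  have h2 : Nat.card (stabilizer H ω.out) * (stabilizer H ω.out).index = Nat.card H :=
    Subgroup.card_mul_index _
  have h3 : (stabilizer H ω.out).index = Fintype.card (orbit H ω.out) := by
    rw [index_stabilizer, Set.ncard_eq_toFinset_card', Set.toFinset_card]
  rw [← h3, ← h2]
  have h4 : (Nat.card (stabilizer H ω.out) : ℚ) ≠ 0 := by
    exact_mod_cast Nat.card_pos.ne'
  push_cast
  field_simp

end Orbit

variable {G : Type*} [Group G] [Finite G]

/-- conjugation action on subgroups. -/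
@[reducible] def conjAct : MulAction G (Subgroup G) where
  smul g A := A.map (MulAut.conj g).toMonoidHom
  one_smul A := by
    change A.map (MulAut.conj (1:G)).toMonoidHom = A
    ext x
    simp
  mul_smul g h A := by
    change A.map (MulAut.conj (g * h)).toMonoidHom =
      (A.map (MulAut.conj h).toMonoidHom).map (MulAut.conj g).toMonoidHom
    rw [Subgroup.map_map]
    congr 1
    ext x
    simp [mul_assoc]

/-- the centralizer of one element. -/
abbrev cen (g : G) : Subgroup G := Subgroup.centralizer {g}

omit [Finite G] in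
lemma mem_cen {g x : G} : x ∈ cen g ↔ x * g = g * x := by
  rw [Subgroup.mem_centralizer_singleton_iff]

omit [Finite G] in
lemma center_le_cen (g : G) : Subgroup.center G ≤ cen g := by
  intro x hx
  rw [mem_cen]
  exact (Subgroup.mem_center_iff.mp hx g).symm

omit [Finite G] in
lemma map_cen (x g : G) : (cen g).map (MulAut.conj x).toMonoidHom = cen (x * g * x⁻¹) := by
  ext y
  simp only [Subgroup.mem_map, MulEquiv.coe_toMonoidHom, MulAut.conj_apply, mem_cen]
  constructor
  · rintro ⟨w, hw, rfl⟩
    calc x * w * x⁻¹ * (x * g * x⁻¹) = x * (w * g) * x⁻¹ := by group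
      _ = x * (g * w) * x⁻¹ := by rw [hw]
      _ = _ := by group
  · intro hy
    refine ⟨x⁻¹ * y * x, ?_, by group⟩
    have : x⁻¹ * y * x * g = x⁻¹ * (y * (x * g * x⁻¹)) * x := by group
    rw [this, hy]
    group

omit [Finite G] in
lemma conj_not_mem_center {g : G} (hg : g ∉ Subgroup.center G) (x : G) :
    x * g * x⁻¹ ∉ Subgroup.center G := by
  intro h
  apply hg
  have h1 : x⁻¹ * (x * g * x⁻¹) * x⁻¹⁻¹ ∈ Subgroup.center G :=
    (inferInstance : (Subgroup.center G).Normal).conj_mem _ h x⁻¹
  simpa [mul_assoc] using h1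

lemma card_eq_relIndex_mul {H K : Subgroup G} (h : H ≤ K) :
    Nat.card K = H.relIndex K * Nat.card H := by
  have h1 := Subgroup.relIndex_mul_index h
  have h2 := Subgroup.card_mul_index H
  have h3 := Subgroup.card_mul_index K
  have h4 : 0 < K.index := Nat.pos_of_ne_zero (Subgroup.index_ne_zero_of_finite)
  apply Nat.eq_of_mul_eq_mul_right h4
  rw [h3, ← h2, ← h1]
  ring

theorem main
    (hCA : ∀ g : G, g ∉ Subgroup.center G → ∀ x ∈ cen g, ∀ y ∈ cen g, x * y = y * x)
    (hE : ∀ g : G, g ∉ Subgroup.center G → (cen g).relIndex (Subgroup.normalizer (cen g : Set G)) ≤ 2)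
    (hI : ∀ g : G, g ∉ Subgroup.center G → 2 < (cen g).index)
    (hne : ∃ g : G, g ∉ Subgroup.center G) :
    (Subgroup.center G).index = 12 ∨ (Subgroup.center G).index = 24 ∨
      (Subgroup.center G).index = 60 := by
  classical
  letI : MulAction G (Subgroup G) := conjAct
  haveI : Fintype G := Fintype.ofFinite G
  haveI : Fintype (Subgroup G) := Fintype.ofFinite _
  haveI : Fintype (orbitRel.Quotient G (Subgroup G)) := Fintype.ofFinite _
  set Z := Subgroup.center G with hZ
  let IsC : Subgroup G → Prop := fun A => ∃ g, g ∉ Z ∧ A = cen g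
  set z : ℕ := Nat.card Z with hz
  set N : ℕ := Nat.card G with hN
  set n : ℕ := Z.index with hn
  have hzn : z * n = N := Subgroup.card_mul_index Z
  have hz0 : 0 < z := Nat.card_pos
  have hN0 : 0 < N := Nat.card_pos
  have hn0 : 0 < n := Nat.pos_of_mul_pos_left (by omega : 0 < z * n) |> fun h => by
    rcases Nat.eq_zero_or_pos n with h0 | h0
    · rw [h0, mul_zero] at hzn; omega
    · exact h0
  have hcen_eq : ∀ g h : G, g ∉ Z → h ∉ Z → g ∈ cen h → cen g = cen h := by
    intro g h hg hh hgh
    have hhg : h ∈ cen g := by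
      rw [mem_cen] at hgh ⊢
      exact hgh.symm
    apply le_antisymm
    · intro y hy
      rw [mem_cen]
      exact hCA g hg y hy h hhg
    · intro y hy
      rw [mem_cen]
      exact hCA h hh y hy g hgh
  -- the function on subgroups
  let f : Subgroup G → ℚ := fun A => if IsC A then ((Nat.card A : ℚ) - z) else 0
  have hsmul : ∀ (x : G) (A : Subgroup G), x • A = A.map (MulAut.conj x).toMonoidHom :=
    fun _ _ => rfl
  have hf : ∀ (x : G) (A : Subgroup G), f (x • A) = f A := by
    intro x A
    have h1 : IsC (x • A) ↔ IsC A := by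
      constructor
      · rintro ⟨g, hg, hA⟩
        refine ⟨x⁻¹ * g * x⁻¹⁻¹, conj_not_mem_center hg _, ?_⟩
        rw [← map_cen, ← hA, hsmul, Subgroup.map_map]
        ext y
        simp only [Subgroup.mem_map, MonoidHom.comp_apply, MulEquiv.coe_toMonoidHom,
          MulAut.conj_apply]
        constructor
        · intro hy
          exact ⟨y, hy, by group⟩
        · rintro ⟨w, hw, rfl⟩
          convert hw using 1
          group
      · rintro ⟨g, hg, rfl⟩
        exact ⟨x * g * x⁻¹, conj_not_mem_center hg _, map_cen _ _⟩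
    have h2 : Nat.card (x • A : Subgroup G) = Nat.card A := by
      rw [hsmul]
      exact Nat.card_congr (A.equivMapOfInjective _ (MulEquiv.injective _)).toEquiv.symm
    simp only [f, h1, h2]
  have hsum : ∑ A, f A = (N:ℚ) - z := by
    let φ : {g : G // g ∉ Z} → Subgroup G := fun g => cen g.1
    have h1 : Fintype.card {g : G // g ∉ Z} = N - z := by
      have h3 := Fintype.card_subtype_compl (fun g : G => g ∈ Z)
      rw [h3, hN, hz, Nat.card_eq_fintype_card, Nat.card_eq_fintype_card]
    have h2 : Fintype.card {g : G // g ∉ Z} = ∑ A, Fintype.card {g : {g : G // g ∉ Z} // φ g = A} := by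
      rw [← Fintype.card_sigma]
      exact Fintype.card_congr (Equiv.sigmaFiberEquiv φ).symm
    have h3 : ∀ A : Subgroup G, (Fintype.card {g : {g : G // g ∉ Z} // φ g = A} : ℚ) = f A := by
      intro A
      by_cases hA : IsC A
      · obtain ⟨h, hh, rfl⟩ := id hA
        simp only [f, if_pos hA]
        have hZA : Z ≤ cen h := center_le_cen h
        have h4 : Fintype.card {g : {g : G // g ∉ Z} // φ g = cen h} + z = Nat.card (cen h) := by
          let e : ({g : {g : G // g ∉ Z} // φ g = cen h} ⊕ Z) ≃ cen h :=
            { toFun := fun w => match w with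
                | Sum.inl g => ⟨g.1.1, by
                    have : g.1.1 ∈ cen g.1.1 := by rw [mem_cen]
                    have h5 : cen g.1.1 = cen h := g.2
                    rwa [h5] at this⟩
                | Sum.inr w => ⟨w.1, hZA w.2⟩
              invFun := fun w => if hw : w.1 ∈ Z then Sum.inr ⟨w.1, hw⟩
                else Sum.inl ⟨⟨w.1, hw⟩, hcen_eq _ _ hw hh w.2⟩
              left_inv := by
                intro w
                rcases w with g | w
                · have : g.1.1 ∉ Z := g.1.2
                  simp [this]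
                · simp
              right_inv := by
                intro w
                by_cases hw : w.1 ∈ Z <;> simp [hw] }
          rw [hz, Nat.card_congr e.symm, Nat.card_sum, Nat.card_eq_fintype_card,
            Nat.card_eq_fintype_card]
        rw [← h4]
        push_cast
        ring
      · simp only [f, if_neg hA]
        have : IsEmpty {g : {g : G // g ∉ Z} // φ g = A} := by
          constructor
          rintro ⟨g, hg⟩
          exact hA ⟨g.1, g.2, hg.symm⟩
        rw [Fintype.card_eq_zero]
        simp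
    have hzN : z ≤ N := by
      rw [← hzn]
      exact Nat.le_mul_of_pos_right z hn0
    calc ∑ A, f A = ∑ A, (Fintype.card {g : {g : G // g ∉ Z} // φ g = A} : ℚ) :=
          Finset.sum_congr rfl (fun A _ => (h3 A).symm)
      _ = ((∑ A, Fintype.card {g : {g : G // g ∉ Z} // φ g = A} : ℕ) : ℚ) := by push_cast; rfl
      _ = ((N - z : ℕ) : ℚ) := by rw [← h2, h1]
      _ = (N:ℚ) - z := by rw [Nat.cast_sub hzN]
  have horb := sum_eq_orbits f hf
  rw [hsum] at horb
  -- stabilizers are normalizers
  have hstab : ∀ A : Subgroup G, stabilizer G A = Subgroup.normalizer (A : Set G) := by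
    intro A
    ext x
    rw [mem_stabilizer_iff, hsmul, Subgroup.mem_normalizer_iff_map_conj_eq]
    rfl
  -- restrict to good orbits
  let I : Finset (orbitRel.Quotient G (Subgroup G)) := Finset.univ.filter (fun ω => IsC ω.out)
  let a : orbitRel.Quotient G (Subgroup G) → ℕ := fun ω => Z.relIndex ω.out
  let e : orbitRel.Quotient G (Subgroup G) → ℕ := fun ω =>
    ω.out.relIndex (Subgroup.normalizer (ω.out : Set G))
  have hNq : (N:ℚ) ≠ 0 := by exact_mod_cast hN0.ne'
  have hzq : (z:ℚ) ≠ 0 := by exact_mod_cast hz0.ne'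
  have hnq : (n:ℚ) ≠ 0 := by exact_mod_cast hn0.ne'
  have hgood : ∀ ω ∈ I, 2 ≤ a ω ∧ (e ω = 1 ∨ e ω = 2) ∧ 2 * a ω < n := by
    intro ω hω
    obtain ⟨g, hg, hA⟩ := (Finset.mem_filter.mp hω).2
    have hZA : Z ≤ ω.out := by rw [hA]; exact center_le_cen g
    have ha0 : a ω ≠ 0 := Subgroup.index_ne_zero_of_finite
    have ha1 : a ω ≠ 1 := by
      intro h1
      have h2 : ω.out ≤ Z := Subgroup.relIndex_eq_one.mp h1
      apply hg
      apply h2
      rw [hA, mem_cen]
    have he0 : e ω ≠ 0 := Subgroup.index_ne_zero_of_finite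
    have he2 : e ω ≤ 2 := by
      have := hE g hg
      simp only [e]
      rw [hA]
      exact this
    have hi2 : 2 < (ω.out).index := by
      rw [hA]
      exact hI g hg
    have hmul : a ω * (ω.out).index = n := Subgroup.relIndex_mul_index hZA
    refine ⟨by omega, by omega, ?_⟩
    rw [← hmul]
    have : 1 ≤ a ω := by omega
    nlinarith
  have hkey : ∑ ω ∈ I, wt (a ω) (e ω) = 1 - 1 / (n:ℚ) := by
    have h1 : ((N:ℚ) - z) / N = 1 - 1 / n := by
      rw [← hzn]
      push_cast
      field_simp
    have h2 : ((N:ℚ) - z) / N = ∑ ω : orbitRel.Quotient G (Subgroup G),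
        f ω.out / (Nat.card (stabilizer G ω.out) : ℚ) := by
      rw [horb, Finset.sum_div]
      refine Finset.sum_congr rfl fun ω _ => ?_
      have : (Nat.card (stabilizer G ω.out) : ℚ) ≠ 0 := by
        exact_mod_cast Nat.card_pos.ne'
      field_simp
      rw [← hN]
      ring
    rw [← h1, h2, Finset.sum_filter]
    refine Finset.sum_congr rfl fun ω _ => ?_
    by_cases hω : IsC ω.out
    · rw [if_pos hω]
      simp only [f, if_pos hω]
      obtain ⟨g, hg, hA⟩ := id hω
      have hZA : Z ≤ ω.out := by rw [hA]; exact center_le_cen g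
      have hc1 : Nat.card (ω.out) = a ω * z := card_eq_relIndex_mul hZA
      have hc2 : Nat.card (stabilizer G ω.out) = e ω * Nat.card (ω.out) := by
        rw [hstab]
        exact card_eq_relIndex_mul Subgroup.le_normalizer
      rw [hc2, hc1]
      have hgd := hgood ω (Finset.mem_filter.mpr ⟨Finset.mem_univ _, hω⟩)
      have ha0 : (a ω : ℚ) ≠ 0 := by
        have : a ω ≠ 0 := by omega
        exact_mod_cast this
      have he0 : (e ω : ℚ) ≠ 0 := by
        have : e ω ≠ 0 := by
          rcases hgd.2.1 with h | h <;> omega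
        exact_mod_cast this
      unfold wt
      push_cast
      field_simp
    · rw [if_neg hω]
      simp [f, if_neg hω]
  have hn1 : 1 < n := by
    have h1 : n ≠ 1 := by
      intro h1
      obtain ⟨g, hg⟩ := hne
      have h2 : Z = ⊤ := Subgroup.index_eq_one.mp h1
      exact hg (by rw [h2]; exact Subgroup.mem_top g)
    omega
  exact arith I a e n (fun i hi => (hgood i hi).1) (fun i hi => (hgood i hi).2.1)
    (fun i hi => (hgood i hi).2.2) hn1 hkey

end Cfsg.Agent.Lib.Blocks.Prim2G
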