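import Cfsg.Agent.Lib.Blocks.Prim2G
import Cfsg.Agent.Lib.Char.PrimeCod
import Cfsg.Agent.Lib.Char.FrobPair
import Cfsg.Agent.Lib.Char.Values

/-! Primitive linear groups of degree two: the centre has index 12, 24 or 60. -/

set_option autoImplicit false

namespace Cfsg.Agent.Lib.Blocks.Prim2R

open Cfsg Cfsg.Agent.Lib.Blocks.Prim2G Module

section Linear

variable {V : Type*} [AddCommGroup V] [Module ℂ V]

lemma repr_apply (b : Basis (Fin 2) ℂ V) (T : V →ₗ[ℂ] V) (μ : Fin 2 → ℂ)
    (hT : ∀ i, T (b i) = μ i • b i) (v : V) (j : Fin 2) :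
    b.repr (T v) j = μ j * b.repr v j := by
  have h : (b.coord j).comp T = μ j • b.coord j := by
    apply b.ext
    intro k
    simp only [LinearMap.comp_apply, LinearMap.smul_apply, hT, map_smul, Basis.coord_apply,
      Basis.repr_self, smul_eq_mul, Finsupp.single_apply]
    split_ifs with hkj
    · rw [hkj]
    · simp
  have := LinearMap.congr_fun h v
  simpa using this

lemma diag_of_commute (b : Basis (Fin 2) ℂ V) (T S : V →ₗ[ℂ] V) (μ : Fin 2 → ℂ)
    (hT : ∀ i, T (b i) = μ i • b i) (hμ : μ 0 ≠ μ 1) (hS : ∀ v, T (S v) = S (T v)) :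
    ∃ ν : Fin 2 → ℂ, ∀ i, S (b i) = ν i • b i := by
  refine ⟨fun i => b.repr (S (b i)) i, fun i => ?_⟩
  have hcoef : ∀ j, j ≠ i → b.repr (S (b i)) j = 0 := by
    intro j hji
    have h1 := repr_apply b T μ hT (S (b i)) j
    rw [hS, hT, map_smul] at h1
    simp only [map_smul, Finsupp.smul_apply, smul_eq_mul] at h1
    have hμij : μ i ≠ μ j := by
      have : (i = 0 ∧ j = 1) ∨ (i = 1 ∧ j = 0) := by omega
      rcases this with ⟨rfl, rfl⟩ | ⟨rfl, rfl⟩
      · exact hμ
      · exact hμ.symm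
    have h2 : (μ i - μ j) * b.repr (S (b i)) j = 0 := by
      rw [sub_mul, h1, sub_self]
    exact (mul_eq_zero.mp h2).resolve_left (sub_ne_zero.mpr hμij)
  apply b.repr.injective
  ext j
  by_cases hji : j = i
  · subst hji
    simp
  · rw [hcoef j hji]
    simp [Ne.symm hji]

end Linear

section Rep

variable {G : Type*} [Group G] [Finite G] (ρ : Representation ℂ G (Fin 2 → ℂ))

omit [Finite G] in
lemma inj_of (hinj : ∀ g, ρ g = 1 → g = 1) {a b : G} (h : ρ a = ρ b) : a = b := by
  have h1 : ρ (a * b⁻¹) = 1 := by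
    rw [map_mul, h, ← map_mul, mul_inv_cancel, map_one]
  have := hinj _ h1
  exact mul_inv_eq_one.mp this

/-- Eigendata for a nonscalar element. -/
lemma exists_eigen (hinj : ∀ g, ρ g = 1 → g = 1) (g : G) (hg : g ∉ Subgroup.center G) :
    ∃ (b : Basis (Fin 2) ℂ (Fin 2 → ℂ)) (μ : Fin 2 → ℂ), (∀ i, ρ g (b i) = μ i • b i) ∧ μ 0 ≠ μ 1 := by
  have hf : finrank ℂ (Fin 2 → ℂ) = 2 := by simp
  have hg1 : (ρ g) ^ orderOf g = 1 := by
    rw [← map_pow, pow_orderOf_eq_one, map_one]
  obtain ⟨b, μ, hb, -⟩ := Cfsg.Agent.Lib.Char.Values.exists_eigenbasis (ρ g)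
    (orderOf_pos g) hg1
  refine ⟨b.reindex (finCongr hf), μ ∘ (finCongr hf).symm, ?_, ?_⟩
  · intro i
    simp [Basis.reindex_apply, hb]
  · intro hμ
    apply hg
    rw [Subgroup.mem_center_iff]
    intro x
    -- ρ g is scalar
    have hsc : ρ g = (μ ((finCongr hf).symm 0)) • LinearMap.id := by
      apply (b.reindex (finCongr hf)).ext
      intro i
      have hi : i = 0 ∨ i = 1 := by omega
      have := hb ((finCongr hf).symm i)
      simp only [Basis.reindex_apply, LinearMap.smul_apply, LinearMap.id_apply]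
      rw [this]
      rcases hi with rfl | rfl
      · rfl
      · congr 1
        exact hμ.symm
    apply inj_of ρ hinj
    rw [map_mul, map_mul, hsc]
    ext v
    simp

lemma comm_of_cen (hinj : ∀ g, ρ g = 1 → g = 1) (g : G) (hg : g ∉ Subgroup.center G)
    (x : G) (hx : x ∈ cen g) (y : G) (hy : y ∈ cen g) : x * y = y * x := by
  obtain ⟨b, μ, hb, hμ⟩ := exists_eigen ρ hinj g hg
  have hc : ∀ z ∈ cen g, ∀ v, ρ g (ρ z v) = ρ z (ρ g v) := by
    intro z hz v
    have h1 : ρ (z * g) = ρ (g * z) := by rw [mem_cen.mp hz]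
    rw [map_mul, map_mul] at h1
    exact (LinearMap.congr_fun h1 v).symm
  obtain ⟨ν₁, h₁⟩ := diag_of_commute b (ρ g) (ρ x) μ hb hμ (hc x hx)
  obtain ⟨ν₂, h₂⟩ := diag_of_commute b (ρ g) (ρ y) μ hb hμ (hc y hy)
  apply inj_of ρ hinj
  rw [map_mul, map_mul]
  apply b.ext
  intro i
  simp only [Module.End.mul_apply, h₁, h₂, map_smul]
  rw [smul_comm]

lemma relIndex_le (hinj : ∀ g, ρ g = 1 → g = 1) (g : G) (hg : g ∉ Subgroup.center G) :
    (cen g).relIndex (Subgroup.normalizer (cen g : Set G)) ≤ 2 := by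
  classical
  obtain ⟨b, μ, hb, hμ⟩ := exists_eigen ρ hinj g hg
  have hc : ∀ z ∈ cen g, ∀ v, ρ g (ρ z v) = ρ z (ρ g v) := by
    intro z hz v
    have h1 : ρ (z * g) = ρ (g * z) := by rw [mem_cen.mp hz]
    rw [map_mul, map_mul] at h1
    exact (LinearMap.congr_fun h1 v).symm
  -- the swap alternative
  have halt : ∀ x ∈ Subgroup.normalizer (cen g : Set G), x ∉ cen g →
      ρ (x * g * x⁻¹) (b 0) = μ 1 • b 0 ∧ ρ (x * g * x⁻¹) (b 1) = μ 0 • b 1 := by
    intro x hxN hxC
    have hmem : x * g * x⁻¹ ∈ cen g := by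
      have h1 : g ∈ cen g := by rw [mem_cen]
      exact (Subgroup.mem_normalizer_iff.mp hxN g).mp h1
    obtain ⟨ν, hν⟩ := diag_of_commute b (ρ g) (ρ (x * g * x⁻¹)) μ hb hμ (hc _ hmem)
    -- every ν i is an eigenvalue of ρ g
    have hev : ∀ i, ν i = μ 0 ∨ ν i = μ 1 := by
      intro i
      have hw : ρ x⁻¹ (b i) ≠ 0 := by
        intro h0
        have h1 : ρ x (ρ x⁻¹ (b i)) = b i := by
          rw [← Module.End.mul_apply, ← map_mul, mul_inv_cancel, map_one, Module.End.one_apply]
        rw [h0, map_zero] at h1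
        exact b.ne_zero i h1.symm
      have heig : ρ g (ρ x⁻¹ (b i)) = ν i • ρ x⁻¹ (b i) := by
        have h1 : ρ x⁻¹ (ρ (x * g * x⁻¹) (b i)) = ρ g (ρ x⁻¹ (b i)) := by
          rw [← Module.End.mul_apply, ← map_mul, ← Module.End.mul_apply, ← map_mul]
          congr 2
          group
        rw [← h1, hν, map_smul]
      have hne : b.repr (ρ x⁻¹ (b i)) ≠ 0 := by
        intro h0
        exact hw (b.repr.map_eq_zero_iff.mp h0)
      obtain ⟨j, hj⟩ := Finsupp.ne_iff.mp hne
      have h2 := repr_apply b (ρ g) μ hb (ρ x⁻¹ (b i)) j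
      rw [heig] at h2
      simp only [map_smul, Finsupp.smul_apply, smul_eq_mul] at h2
      have hj' : b.repr (ρ x⁻¹ (b i)) j ≠ 0 := by simpa using hj
      have h3 : ν i = μ j := mul_right_cancel₀ hj' h2
      have : j = 0 ∨ j = 1 := by omega
      rcases this with rfl | rfl
      · exact Or.inl h3
      · exact Or.inr h3
    -- ν 0 ≠ ν 1
    have hνne : ν 0 ≠ ν 1 := by
      intro hνeq
      have hsc : ρ (x * g * x⁻¹) = (ν 0) • LinearMap.id := by
        apply b.ext
        intro i
        have hi : i = 0 ∨ i = 1 := by omega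
        rw [hν]
        rcases hi with rfl | rfl
        · simp
        · simp [hνeq]
      have hgsc : ρ g = (ν 0) • LinearMap.id := by
        have h1 : ρ g = ρ x⁻¹ * ρ (x * g * x⁻¹) * ρ x := by
          rw [← map_mul, ← map_mul]
          congr 1
          group
        rw [h1, hsc]
        refine LinearMap.ext fun v => ?_
        simp only [Module.End.mul_apply, LinearMap.smul_apply, LinearMap.id_apply, map_smul]
        rw [← Module.End.mul_apply (ρ x⁻¹), ← map_mul, inv_mul_cancel, map_one, Module.End.one_apply]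
      apply hμ
      have h0 := hb 0
      have h1 := hb 1
      rw [hgsc] at h0 h1
      simp only [LinearMap.smul_apply, LinearMap.id_apply] at h0 h1
      have h2 : ν 0 = μ 0 := smul_left_injective ℂ (b.ne_zero 0) h0
      have h3 : ν 0 = μ 1 := smul_left_injective ℂ (b.ne_zero 1) h1
      rw [← h2, h3]
    have hnotid : ¬ (ν 0 = μ 0 ∧ ν 1 = μ 1) := by
      rintro ⟨h0, h1⟩
      apply hxC
      rw [mem_cen]
      have h2 : ρ (x * g * x⁻¹) = ρ g := by
        apply b.ext
        intro i
        have hi : i = 0 ∨ i = 1 := by omega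
        rw [hν, hb]
        rcases hi with rfl | rfl
        · rw [h0]
        · rw [h1]
      have h3 := inj_of ρ hinj h2
      calc x * g = x * g * x⁻¹ * x := by group
        _ = g * x := by rw [h3]
    rcases hev 0 with h0 | h0 <;> rcases hev 1 with h1 | h1
    · exact absurd (h0.trans h1.symm) hνne
    · exact absurd ⟨h0, h1⟩ hnotid
    · rw [hν, hν, h0, h1]
      exact ⟨rfl, rfl⟩
    · exact absurd (h0.trans h1.symm) hνne
  -- any two elements outside lie in the same coset
  have hsame : ∀ x ∈ Subgroup.normalizer (cen g : Set G), x ∉ cen g →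
      ∀ y ∈ Subgroup.normalizer (cen g : Set G), y ∉ cen g → x⁻¹ * y ∈ cen g := by
    intro x hxN hxC y hyN hyC
    obtain ⟨h1, h2⟩ := halt x hxN hxC
    obtain ⟨h3, h4⟩ := halt y hyN hyC
    have h5 : ρ (x * g * x⁻¹) = ρ (y * g * y⁻¹) := by
      apply b.ext
      intro i
      have hi : i = 0 ∨ i = 1 := by omega
      rcases hi with rfl | rfl
      · rw [h1, h3]
      · rw [h2, h4]
    have h6 := inj_of ρ hinj h5
    rw [mem_cen]
    calc x⁻¹ * y * g = x⁻¹ * (y * g * y⁻¹) * y := by group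
      _ = x⁻¹ * (x * g * x⁻¹) * y := by rw [h6]
      _ = g * (x⁻¹ * y) := by group
  set K := Subgroup.normalizer (cen g : Set G) with hK
  -- injection of the coset space into Bool
  let q : (K ⧸ (cen g).subgroupOf K) → Bool := fun c =>
    decide (c = QuotientGroup.mk (1 : K))
  have hq : Function.Injective q := by
    intro c₁ c₂ h
    obtain ⟨x, rfl⟩ := QuotientGroup.mk_surjective c₁
    obtain ⟨y, rfl⟩ := QuotientGroup.mk_surjective c₂
    simp only [q, decide_eq_decide] at h
    by_cases hx : (QuotientGroup.mk x : K ⧸ (cen g).subgroupOf K) = QuotientGroup.mk (1 : K)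
    · rw [hx, h.mp hx]
    · have hy : (QuotientGroup.mk y : K ⧸ (cen g).subgroupOf K) ≠ QuotientGroup.mk (1 : K) :=
        fun hy => hx (h.mpr hy)
      have hxC : (x : G) ∉ cen g := by
        intro hc
        apply hx
        rw [QuotientGroup.eq]
        rw [Subgroup.mem_subgroupOf]
        simpa using hc
      have hyC : (y : G) ∉ cen g := by
        intro hc
        apply hy
        rw [QuotientGroup.eq]
        rw [Subgroup.mem_subgroupOf]
        simpa using hc
      rw [QuotientGroup.eq, Subgroup.mem_subgroupOf]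
      exact hsame x x.2 hxC y y.2 hyC
  have := Nat.card_le_card_of_injective q hq
  simpa [Subgroup.relIndex, Subgroup.index] using this

end Rep

theorem main {G : Type*} [Group G] [Fintype G] (χ : Cfsg.IrrCharacter G)
    (hfaith : ∀ g : G, (χ : G → ℂ) g = (χ : G → ℂ) 1 → g = 1)
    (h2 : Cfsg.charDegree (χ : G → ℂ) = 2)
    (hprim : ∀ H : Subgroup G, H ≠ ⊤ → ∀ θ : H → ℂ, Cfsg.IsCharacter H θ →
      (χ : G → ℂ) ≠ Cfsg.indFun H θ) :
    (Subgroup.center G).index = 12 ∨ (Subgroup.center G).index = 24 ∨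
      (Subgroup.center G).index = 60 := by
  classical
  have hχc : IsCharacter G (χ : G → ℂ) := Cfsg.Agent.Lib.Char.Basic.isCharacter_of_isIrrCharacter χ.2
  have hχ1 : (χ : G → ℂ) 1 = 2 := by
    rw [← Cfsg.Agent.Lib.Char.Values.IsCharacter.charDegree_cast hχc, h2]
    norm_num
  obtain ⟨n, ρ', hirr, hρ'⟩ := χ.2
  have hn : n = 2 := by
    have h1 : (χ : G → ℂ) 1 = (n : ℂ) := by
      rw [← hρ']
      simp
    rw [hχ1] at h1
    exact_mod_cast h1.symm
  subst hn
  have hinj : ∀ g, ρ' g = 1 → g = 1 := by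
    intro g hg
    apply hfaith
    rw [← hρ']
    simp [Representation.character, hg]
  -- commuting elements and abelian subgroups of index two
  have hI : ∀ g : G, g ∉ Subgroup.center G → 2 < (cen g).index := by
    intro g hg
    by_contra hcon
    have hi0 : (cen g).index ≠ 0 := Subgroup.index_ne_zero_of_finite
    have hi1 : (cen g).index ≠ 1 := by
      intro h1
      apply hg
      have h3 : cen g = ⊤ := Subgroup.index_eq_one.mp h1
      rw [Subgroup.mem_center_iff]
      intro x
      have : x ∈ cen g := by rw [h3]; trivial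
      exact mem_cen.mp this
    have hi2 : (cen g).index = 2 := by omega
    haveI : Fintype (cen g) := Fintype.ofFinite _
    have hres := Cfsg.Agent.Lib.Char.Basic.isCharacter_restrict hχc (cen g)
    obtain ⟨l, hl, hl0⟩ := Cfsg.Agent.Lib.Char.CliffordCorr.exists_irr_constituent hres (by
      change (χ : G → ℂ) 1 ≠ 0
      rw [hχ1]
      norm_num)
    have hl1 : l 1 = 1 := Cfsg.Agent.Lib.Char.FrobPair.degree_eq_one_of_comm
      (fun a b => Subtype.ext (comm_of_cen ρ' hinj g hg a a.2 b b.2)) hl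
    have hlc : IsCharacter (cen g) l := Cfsg.Agent.Lib.Char.Basic.isCharacter_of_isIrrCharacter hl
    have hind := Cfsg.Agent.Lib.Char.IndRep.isCharacter_indFun (cen g) hlc
    have hin : classInner (indFun (cen g) l) (χ : G → ℂ) ≠ 0 := by
      rw [Cfsg.Agent.Lib.Char.Induced.frobenius_reciprocity _ _ _
        (Cfsg.Agent.Lib.Char.Basic.isClassFunction_of_isCharacter hχc)]
      rw [← Cfsg.Agent.Lib.Char.Ortho.classInner_conj_symm]
      exact (map_ne_zero _).mpr hl0
    have heq := Cfsg.Agent.Lib.Char.PrimeCod.eq_of_classInner_ne_zero hind χ.2 hin (by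
      rw [Cfsg.Agent.Lib.Char.Induced.indFun_one, hl1, hi2, hχ1]
      norm_num)
    refine hprim (cen g) ?_ l hlc heq.symm
    intro htop
    rw [htop, Subgroup.index_top] at hi2
    omega
  refine Prim2G.main (comm_of_cen ρ' hinj) (relIndex_le ρ' hinj) hI ?_
  by_contra hcon
  push Not at hcon
  have hl1 : (χ : G → ℂ) 1 = 1 := Cfsg.Agent.Lib.Char.FrobPair.degree_eq_one_of_comm
    (fun a b => (Subgroup.mem_center_iff.mp (hcon a) b).symm) χ.2
  rw [hχ1] at hl1
  norm_num at hl1

end Cfsg.Agent.Lib.Blocks.Prim2R
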