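import Cfsg.Agent.Lib.Blocks.Prim2R
import Cfsg.Agent.Lib.Char.Burnside2
import Cfsg.Agent.Lib.Char.LinearHall3
import Cfsg.Agent.Lib.Char.ItoMichler
import Cfsg.Agent.Lib.Char.DegreeDvd

/-! Groups all of whose nonlinear irreducible characters have prime degree are solvable:
the Blichfeldt abelian Hall subgroup for the primes above `p + 1`, `p` the smallest degree,
meets the class equation `∑ χ(1) χ(z) = 0`. -/

set_option autoImplicit false

namespace Cfsg.Agent.Lib.Blocks.PrimeDegs

open Cfsg Module
open Cfsg.Agent.Lib.Char.Basic Cfsg.Agent.Lib.Char.Values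

universe u

/-- All nonlinear irreducible characters have prime degree. -/
def AllPrime (G : Type*) [Group G] : Prop :=
  ∀ χ : IrrCharacter G, charDegree (χ : G → ℂ) ≠ 1 → (charDegree (χ : G → ℂ)).Prime

section Simple

variable {S : Type u} [Group S] [Finite S] [IsSimpleGroup S]

lemma faithful_of_ne {n : ℕ} (ρ : Representation ℂ S (Fin n → ℂ)) [ρ.IsIrreducible]
    (hne : ρ.character ≠ fun _ => 1) : Function.Injective ρ := by
  classical
  cases nonempty_fintype S
  have hker : ρ.ker = ⊥ ∨ ρ.ker = ⊤ := (inferInstance : IsSimpleGroup S).eq_bot_or_eq_top_of_normal _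
    (MonoidHom.normal_ker ρ)
  rcases hker with hker | hker
  · exact (MonoidHom.ker_eq_bot_iff ρ).1 hker
  · exfalso
    apply hne
    have htriv : ∀ x : S, ρ x = 1 := fun x => by
      have : x ∈ ρ.ker := by rw [hker]; trivial
      exact this
    have hchar : ∀ x : S, ρ.character x = (n : ℂ) := by
      intro x
      show LinearMap.trace ℂ _ (ρ x) = _
      rw [htriv]
      simp
    have hs := Cfsg.Agent.Lib.Char.Integrality.sum_character_mul_inv ρ
    simp only [hchar, Finset.sum_const, Finset.card_univ, nsmul_eq_mul, Nat.card_eq_fintype_card] at hs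
    have hG : (Fintype.card S : ℂ) ≠ 0 := Nat.cast_ne_zero.mpr Fintype.card_ne_zero
    have hn2 : (n : ℂ) * n = 1 := mul_left_cancel₀ hG (by rw [hs, mul_one])
    have hn1 : n * n = 1 := by exact_mod_cast hn2
    have hn : n = 1 := Nat.eq_one_of_mul_eq_one_right hn1
    funext x
    rw [hchar, hn]
    simp

lemma center_eq_bot (hna : ∃ a b : S, a * b ≠ b * a) : Subgroup.center S = ⊥ := by
  rcases (inferInstance : IsSimpleGroup S).eq_bot_or_eq_top_of_normal (Subgroup.center S) inferInstance
    with h | h
  · exact h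
  · exfalso
    obtain ⟨a, b, hab⟩ := hna
    have : a ∈ Subgroup.center S := by rw [h]; trivial
    exact hab ((Subgroup.mem_center_iff.mp this b).symm)

/-- A nonabelian simple group has no nontrivial representation of degree two. -/
lemma not_two (hna : ∃ a b : S, a * b ≠ b * a) (ρ : Representation ℂ S (Fin 2 → ℂ)) [ρ.IsIrreducible]
    (hne : ρ.character ≠ fun _ => 1) : False := by
  classical
  have hinj := faithful_of_ne ρ hne
  have hdvd : 2 ∣ Nat.card S := by
    have := Cfsg.Agent.Lib.Char.Integrality.finrank_dvd_card ρ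
    simpa using this
  obtain ⟨t, ht⟩ := exists_prime_orderOf_dvd_card' (G := S) 2 hdvd
  have hcen := center_eq_bot (S := S) hna
  have ht1 : t ≠ 1 := by
    rintro rfl
    simp at ht
  have htc : t ∉ Subgroup.center S := by
    rw [hcen, Subgroup.mem_bot]
    exact ht1
  have hinj1 : ∀ g, ρ g = 1 → g = 1 := fun g hg => hinj (by rw [hg, map_one])
  obtain ⟨b, μ, hb, hμ⟩ := Cfsg.Agent.Lib.Blocks.Prim2R.exists_eigen ρ hinj1 t htc
  have hsq : ∀ i, μ i ^ 2 = 1 := by
    intro i
    have ht2 : t * t = 1 := by
      have := pow_orderOf_eq_one t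
      rw [ht, pow_two] at this
      exact this
    have h1 : ρ t (ρ t (b i)) = b i := by
      rw [← Module.End.mul_apply, ← map_mul, ht2, map_one, Module.End.one_apply]
    rw [hb, map_smul, hb, smul_smul] at h1
    have h2 : (μ i * μ i) • b i = (1:ℂ) • b i := by rw [h1, one_smul]
    have h3 := smul_left_injective ℂ (b.ne_zero i) h2
    rw [pow_two]
    exact h3
  have hm1 : μ 0 * μ 1 = -1 := by
    have h0 := hsq 0
    have h1 := hsq 1
    have h2 : (μ 0 - μ 1) * (μ 0 + μ 1) = 0 := by linear_combination h0 - h1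
    have h3 : μ 0 + μ 1 = 0 := (mul_eq_zero.mp h2).resolve_left (sub_ne_zero.mpr hμ)
    have h4 : μ 1 = - μ 0 := by linear_combination h3
    rw [h4]
    linear_combination -h0
  -- the determinant is a homomorphism into a commutative group
  have hdet : LinearMap.det (ρ t) = μ 0 * μ 1 := by
    rw [← LinearMap.det_toMatrix b]
    rw [Matrix.det_fin_two]
    have hent : ∀ i j, LinearMap.toMatrix b b (ρ t) i j = if i = j then μ j else 0 := by
      intro i j
      rw [LinearMap.toMatrix_apply, hb]
      simp only [map_smul, Basis.repr_self, Finsupp.smul_apply, smul_eq_mul, Finsupp.single_apply]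
      by_cases hij : i = j
      · subst hij; simp
      · have : ¬ j = i := fun h => hij h.symm
        simp [hij, this]
    simp [hent]
  let d : S →* ℂˣ := MonoidHom.toHomUnits ((LinearMap.det : ((Fin 2 → ℂ) →ₗ[ℂ] (Fin 2 → ℂ)) →* ℂ).comp ρ)
  have hd : (d t : ℂ) = -1 := by
    change LinearMap.det (ρ t) = -1
    rw [hdet, hm1]
  rcases (inferInstance : IsSimpleGroup S).eq_bot_or_eq_top_of_normal d.ker (MonoidHom.normal_ker d)
    with h | h
  · obtain ⟨a, b', hab⟩ := hna
    apply hab
    have hi : Function.Injective d := (MonoidHom.ker_eq_bot_iff d).1 h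
    apply hi
    rw [map_mul, map_mul, mul_comm]
  · have : t ∈ d.ker := by rw [h]; trivial
    rw [MonoidHom.mem_ker] at this
    rw [this] at hd
    norm_num at hd

/-- The simple case. -/
theorem simple_false (hna : ∃ a b : S, a * b ≠ b * a) (h : AllPrime S) : False := by
  classical
  have hcen := center_eq_bot (S := S) hna
  -- nonprincipal degrees are prime
  have hpr : ∀ (n : ℕ) (ρ : Representation ℂ S (Fin n → ℂ)), ρ.IsIrreducible →
      (ρ.character ≠ fun _ => 1) → n.Prime := by
    intro n ρ hirr hne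
    have hχ : IsIrrCharacter S ρ.character := ⟨n, ρ, hirr, rfl⟩
    have hdeg : charDegree ρ.character = n := by
      apply IsCharacter.charDegree_eq (isCharacter_of_isIrrCharacter hχ)
      simp
    have hn1 : n ≠ 1 := by
      rintro rfl
      haveI := hirr
      -- degree one characters are trivial by simplicity
      have hinj := faithful_of_ne ρ hne
      obtain ⟨a, b, hab⟩ := hna
      apply hab
      apply hinj
      rw [map_mul, map_mul]
      have key : ∀ (T : (Fin 1 → ℂ) →ₗ[ℂ] (Fin 1 → ℂ)) (v : Fin 1 → ℂ),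
          T v = (T (fun _ => 1) 0) • v := by
        intro T v
        have hv : v = (v 0) • (fun _ => (1:ℂ)) := by
          funext i
          fin_cases i
          simp
        conv_lhs => rw [hv, map_smul]
        funext i
        fin_cases i
        simp
        ring
      refine LinearMap.ext fun v => ?_
      rw [Module.End.mul_apply, Module.End.mul_apply, key (ρ a) (ρ b v), key (ρ b) (ρ a v),
        key (ρ b) v, key (ρ a) v, smul_comm]
    have := h ⟨ρ.character, hχ⟩ (by simpa [hdeg] using hn1)
    simpa [hdeg] using this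
  obtain ⟨g, hg⟩ : ∃ g : S, g ≠ 1 := by
    obtain ⟨a, b, hab⟩ := hna
    by_contra hcon
    push Not at hcon
    exact hab (by rw [hcon a, hcon b])
  -- the least nonprincipal degree
  let P : ℕ → Prop := fun n => ∃ ρ : Representation ℂ S (Fin n → ℂ), ρ.IsIrreducible ∧
    (ρ.character ≠ fun _ => 1)
  have hPex : ∃ n, P n := by
    obtain ⟨n, ρ, hirr, hne, -, -⟩ :=
      Cfsg.Agent.Lib.Char.Burnside2.exists_irr_not_dvd_ne_zero 2 Nat.prime_two g hg
    exact ⟨n, ρ, hirr, hne⟩
  obtain ⟨p, ρp, hirrp, hnep, hmin⟩ : ∃ p : ℕ, ∃ ρ : Representation ℂ S (Fin p → ℂ),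
      ρ.IsIrreducible ∧ (ρ.character ≠ fun _ => 1) ∧ ∀ m, P m → p ≤ m := by
    obtain ⟨ρ, h1, h2⟩ := Nat.find_spec hPex
    exact ⟨_, ρ, h1, h2, fun m hm => Nat.find_min' hPex hm⟩
  have hp : p.Prime := hpr p ρp hirrp hnep
  have hp2 : p ≠ 2 := by
    rintro rfl
    haveI := hirrp
    exact not_two hna ρp hnep
  haveI := hirrp
  have hinjp := faithful_of_ne ρp hnep
  -- p + 1 is not prime
  have hstep : ∀ (n : ℕ) (ρ : Representation ℂ S (Fin n → ℂ)), ρ.IsIrreducible →
      (ρ.character ≠ fun _ => 1) → ¬ p ∣ n → p + 1 < n := by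
    intro n ρ hirr hne hnd
    have hnp := hpr n ρ hirr hne
    have hle : p ≤ n := hmin n ⟨ρ, hirr, hne⟩
    have hne1 : n ≠ p := by
      rintro rfl
      exact hnd dvd_rfl
    have hne2 : n ≠ p + 1 := by
      rintro rfl
      have hodd : Odd p := hp.odd_of_ne_two hp2
      have hev : Even (p + 1) := hodd.add_one
      have h2 := hnp.even_iff.mp hev
      have := hp.two_le
      omega
    omega
  obtain ⟨r, ρr, hirrr, hner, hndr, -⟩ :=
    Cfsg.Agent.Lib.Char.Burnside2.exists_irr_not_dvd_ne_zero p hp g hg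
  have hrgt := hstep r ρr hirrr hner hndr
  have hrp := hpr r ρr hirrr hner
  haveI := hirrr
  have hrdvd : r ∣ Nat.card S := by
    have := Cfsg.Agent.Lib.Char.Integrality.finrank_dvd_card ρr
    simpa using this
  -- Blichfeldt's abelian Hall subgroup for primes above p + 1
  have hfr : finrank ℂ (Fin p → ℂ) + 1 ≤ p + 1 := by simp
  obtain ⟨A, hA⟩ := Cfsg.Agent.Lib.Char.LinearHall.exists_hall (p + 1) _ S (Fin p → ℂ) ρp hinjp hfr rfl
  have hcomm := Cfsg.Agent.Lib.Char.LinearHall.comm_of_pi ρp hinjp hfr A hA.1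
  have hrA : r ∣ Nat.card A := by
    have h1 := Subgroup.card_mul_index A
    rw [← h1] at hrdvd
    rcases (Nat.Prime.dvd_mul hrp).mp hrdvd with h2 | h2
    · exact h2
    · have := hA.2 r hrp h2
      omega
  haveI : Fact r.Prime := ⟨hrp⟩
  obtain ⟨z', hz'⟩ := exists_prime_orderOf_dvd_card' (G := A) r hrA
  have hz'1 : z' ≠ 1 := by
    rintro rfl
    rw [orderOf_one] at hz'
    exact hrp.one_lt.ne hz'
  set z : S := (z' : S) with hz
  have hz1 : z ≠ 1 := by
    intro h0
    apply hz'1
    exact Subtype.ext h0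
  obtain ⟨s, ρs, hirrs, hnes, hnds, hval⟩ :=
    Cfsg.Agent.Lib.Char.Burnside2.exists_irr_not_dvd_ne_zero p hp z hz1
  have hsgt := hstep s ρs hirrs hnes hnds
  have hsp := hpr s ρs hirrs hnes
  haveI := hirrs
  have hAC : A ≤ Subgroup.centralizer ({z} : Set S) := by
    intro x hx
    rw [Subgroup.mem_centralizer_singleton_iff]
    exact hcomm x hx z z'.2
  have hcop : Nat.Coprime (finrank ℂ (Fin s → ℂ)) (Subgroup.centralizer ({z} : Set S)).index := by
    rw [Module.finrank_fin_fun, Nat.Prime.coprime_iff_not_dvd hsp]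
    intro hd
    have h1 : (Subgroup.centralizer ({z} : Set S)).index ∣ A.index := Subgroup.index_dvd_of_le hAC
    have := hA.2 s hsp (hd.trans h1)
    omega
  have hnorm := (Cfsg.Agent.Lib.Char.Burnside.character_eq_zero_or_norm_eq_of_coprime ρs z hcop).resolve_left hval
  obtain ⟨ω, hω⟩ := (Cfsg.Agent.S0138.result ρs z).1 hnorm
  have hinjs := faithful_of_ne ρs hnes
  have hzc : z ∈ Subgroup.center S := by
    rw [Subgroup.mem_center_iff]
    intro y
    apply hinjs
    rw [map_mul, map_mul, hω]
    ext v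
    simp
  rw [hcen, Subgroup.mem_bot] at hzc
  exact hz1 hzc

end Simple

section Red

lemma allPrime_quot {G : Type*} [Group G] (N : Subgroup G) [N.Normal] (h : AllPrime G) :
    AllPrime (G ⧸ N) := by
  intro χ hχ
  have h1 := h ⟨fun g => (χ : G ⧸ N → ℂ) (g : G ⧸ N),
    isIrrCharacter_comp_surjective χ.2 (QuotientGroup.mk' N) (QuotientGroup.mk'_surjective N)⟩
  simpa [charDegree] using h1 (by simpa [charDegree] using hχ)

lemma allPrime_normal {G : Type*} [Group G] [Finite G] (N : Subgroup G) [N.Normal] (h : AllPrime G) :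
    AllPrime N := by
  classical
  cases nonempty_fintype G
  letI : Fintype N := Fintype.ofFinite _
  intro θ hθ
  obtain ⟨χ, hχ, hne⟩ := Cfsg.Agent.Lib.Char.ItoMichler.exists_irr_over N θ.2
  obtain ⟨e, he, -⟩ := Cfsg.Agent.Lib.Char.DegreeDvd.exists_degree_ratio N hχ θ.2 hne
  have h1 := IsCharacter.charDegree_cast (isCharacter_of_isIrrCharacter θ.2)
  have h2 : charDegree χ = e * charDegree (θ : N → ℂ) := by
    apply IsCharacter.charDegree_eq (isCharacter_of_isIrrCharacter hχ)
    rw [he]
    push_cast
    rw [h1]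
  have h3 : charDegree χ ≠ 1 := by
    rw [h2]
    intro h4
    exact hθ (Nat.eq_one_of_mul_eq_one_left h4)
  have hp := h ⟨χ, hχ⟩ h3
  change (charDegree χ).Prime at hp
  rw [h2] at hp
  rcases (Nat.prime_mul_iff.mp hp) with ⟨h5, h6⟩ | ⟨h5, h6⟩
  · exact absurd h6 hθ
  · exact h5

theorem solvable_of_allPrime : ∀ (n : ℕ) (G : Type u) [Group G] [Finite G], Nat.card G = n →
    AllPrime G → Group.IsSolvable G := by
  intro n
  induction n using Nat.strong_induction_on with
  | _ n ih =>
    intro G _ _ hn h
    by_cases hex : ∃ N : Subgroup G, N.Normal ∧ N ≠ ⊥ ∧ N ≠ ⊤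
    · obtain ⟨N, hN, hb, ht⟩ := hex
      haveI := hN
      have h1 : Nat.card N < n := by
        rw [← hn]
        exact Cfsg.Agent.Lib.Char.Monomial.card_lt_of_ne_top ht
      have h2 : Nat.card (G ⧸ N) < n := by
        rw [← hn, ← Subgroup.index_eq_card, ← Subgroup.card_mul_index N]
        have h3 : 1 < Nat.card N := by
          rw [Subgroup.one_lt_card_iff_ne_bot]
          exact hb
        have h4 : 0 < N.index := Nat.pos_of_ne_zero Subgroup.index_ne_zero_of_finite
        nlinarith
      haveI : Group.IsSolvable N := ih _ h1 N rfl (allPrime_normal N h)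
      haveI : Group.IsSolvable (G ⧸ N) := ih _ h2 (G ⧸ N) rfl (allPrime_quot N h)
      exact Group.isSolvable_of_ker_le_range N.subtype (QuotientGroup.mk' N) (by
        rw [QuotientGroup.ker_mk', Subgroup.range_subtype])
    · push Not at hex
      by_cases hcomm : ∃ a b : G, a * b ≠ b * a
      · -- simple
        have hnt : Nontrivial G := by
          obtain ⟨a, b, hab⟩ := hcomm
          by_contra hcon
          rw [not_nontrivial_iff_subsingleton] at hcon
          exact hab (Subsingleton.elim _ _)
        haveI : IsSimpleGroup G :=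
          { eq_bot_or_eq_top_of_normal := fun N hN => by
              by_cases hb : N = ⊥
              · exact Or.inl hb
              · exact Or.inr (hex N hN hb) }
        exact (simple_false hcomm h).elim
      · push Not at hcomm
        exact Group.isSolvable_of_comm hcomm

end Red

end Cfsg.Agent.Lib.Blocks.PrimeDegs
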