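/-
Tame blocks: the centralizer of the central involution of a dihedral defect group.
-/
import Mathlib
import Cfsg.Agent.Lib.Blocks.TameC2
import Cfsg.Agent.Lib.Blocks.StarK
import Cfsg.Agent.S4552

set_option autoImplicit false
set_option linter.style.haveILetI false

namespace Cfsg.Agent.Lib.Blocks.Tame

open Cfsg Cfsg.Agent.Lib.Blocks.Local Cfsg.Agent.Lib.Blocks.Central Cfsg.Agent.Lib.Blocks.Osima
open Cfsg.Agent.Lib.Blocks.Covering Cfsg.Agent.Lib.Blocks.BlockHom Cfsg.Agent.Lib.Blocks.Pairs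
open Cfsg.Agent.Lib.Blocks.Twisted Cfsg.Agent.Lib.Blocks.Necklace Cfsg.Agent.Lib.Blocks.Sections
open Cfsg.Agent.Lib.Blocks.Regular Cfsg.Agent.Lib.Blocks.BlockCount Cfsg.Agent.Lib.Blocks.Nilp
open Cfsg.Agent.Lib.Blocks.Transport Cfsg.Agent.Lib.Blocks.MajorSub
open Cfsg.Agent.Lib.Char.Ortho
open scoped ComplexConjugate

universe u

section Sub

variable {G : Type u} [Group G] [Finite G]

/-- The dihedral data pass to a subgroup. -/
theorem DihD.subgroupOf {D W : Subgroup G} {x a : G} {N : ℕ} (h : DihD D x a N) (hDW : D ≤ W) :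
    DihD (D.subgroupOf W) (⟨x, hDW h.hxD⟩ : W) (⟨a, hDW h.haD⟩ : W) N where
  hpow := h.hpow
  hxo := by
    rw [← h.hxo]
    exact Subgroup.orderOf_mk x _
  hxD := Subgroup.mem_subgroupOf.mpr h.hxD
  haD := Subgroup.mem_subgroupOf.mpr h.haD
  haa := Subtype.ext h.haa
  hax := Subtype.ext h.hax
  hcov := by
    intro g hg
    rcases h.hcov g (Subgroup.mem_subgroupOf.mp hg) with ⟨t, ht⟩ | ⟨t, ht⟩
    · exact Or.inl ⟨t, Subtype.ext ht⟩
    · exact Or.inr ⟨t, Subtype.ext ht⟩
  hnot := by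
    intro t ht
    exact h.hnot t (congrArg Subtype.val ht)

end Sub

section Nil

variable {K : Type u} [Group K] [Fintype K] {M : Ideal AlgInt} [hM : M.IsPrime]

/-- A block of a group with a central involution and dihedral defect group is nilpotent. -/
theorem isNilpotent_of_dih (hMp : IsPModular 2 M) {b : Set (IrrCharacter K)} (hb : IsPBlock M b) {P : Subgroup K}
    (hP : IsDefectGroup 2 M b P) {x a : K} {N : ℕ} (hd : DihD P x a N)
    (hz : ∀ k : K, k * DihD.zz x N = DihD.zz x N * k) : IsNilpotentBlock 2 M b := by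
  classical
  haveI : Fact (Nat.Prime 2) := ⟨Nat.prime_two⟩
  obtain ⟨e, hmax⟩ := Cfsg.Agent.S4552.exists_maximal_on_defect hMp hb hP
  refine ⟨hb, fun Q f hQf t htN _ htreg => ?_⟩
  obtain ⟨g, hg⟩ := exists_conj_subpairLE hMp hmax hQf
  have hle := SubpairLE.le hg
  have hodd : Odd (orderOf (g * t * g⁻¹)) := by
    have h1 : orderOf (g * t * g⁻¹) = orderOf t := by
      rw [← MulAut.conj_apply, MulEquiv.orderOf_eq]
    rw [h1]
    exact Nat.odd_iff.mpr (by
      have : ¬ 2 ∣ orderOf t := htreg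
      omega)
  have hcomm := hz (g * t * g⁻¹)
  have hnorm : ∀ u ∈ Q.map (MulAut.conj g).toMonoidHom, (g * t * g⁻¹) * u * (g * t * g⁻¹)⁻¹ ∈ Q.map (MulAut.conj g).toMonoidHom := by
    rintro _ ⟨q, hq, rfl⟩
    refine ⟨t * q * t⁻¹, (Subgroup.mem_normalizer_iff.mp htN q).mp hq, ?_⟩
    simp only [MulEquiv.coe_toMonoidHom, MulAut.conj_apply]
    group
  rw [Subgroup.mem_centralizer_iff]
  intro q hq
  have h1 := hd.odd_centralizes hle hodd hcomm hnorm (g * q * g⁻¹) ⟨q, hq, by simp⟩
  have h2 : g * (t * q * t⁻¹) * g⁻¹ = g * q * g⁻¹ := by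
    rw [← h1]
    group
  have h3 : t * q * t⁻¹ = q := by
    simpa using h2
  calc q * t = (t * q * t⁻¹) * t := by rw [h3]
    _ = t * q := by group

end Nil

section Setup

variable {G : Type u} [Group G] [Fintype G] {M : Ideal AlgInt} [hM : M.IsPrime] {p : ℕ} [hp : Fact p.Prime]

/-- `P` is a defect group of the block below the maximal pair at a central element. -/
theorem major_defect (hMp : IsPModular p M) {B : Set (IrrCharacter G)} {P : Subgroup G}
    {e : Set (IrrCharacter (Subgroup.centralizer (P : Set G)))}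
    (hmax : IsMaximalBrauerPair p M B P e) {z : G} (hz : z ∈ P)
    (hzc : z ∈ Subgroup.centralizer (P : Set G)) :
    ∀ K : Subgroup G, Kz z = K → ∃ b : Set (IrrCharacter K), IsInducedBlock M K b B ∧
      IsDefectGroup p M b (P.subgroupOf K) := by
  classical
  rintro K rfl
  haveI : Fintype (Kz z) := Fintype.ofFinite _
  obtain ⟨hind, hd⟩ := major_eBlk hMp hmax hz hzc
  refine ⟨eBlk M p P e z, hind, ?_⟩
  have hPe : IsBrauerPair p M P e := hmax.1.1
  have hle := eBlk_spec hMp hPe hz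
  have hcomm : ∀ a ∈ P, a * z = z * a := fun a ha => Subgroup.mem_centralizer_iff.mp hzc a ha
  have hQP : Subgroup.zpowers z ≤ P := (Subgroup.zpowers_le).mpr hz
  have hPK : P ≤ Kz z := fun a ha => mem_centralizer_zpowers_iff.mpr (hcomm a ha)
  have hPN : P ≤ Subgroup.normalizer ((Subgroup.zpowers z : Subgroup G) : Set G) := by
    intro a ha
    rw [Subgroup.mem_normalizer_iff]
    intro b
    constructor
    · rintro ⟨n, rfl⟩
      refine ⟨n, ?_⟩
      have h1 : Commute a (z ^ n) := Commute.zpow_right (hcomm a ha) n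
      show z ^ n = a * z ^ n * a⁻¹
      rw [h1.eq, mul_inv_cancel_right]
    · rintro ⟨n, hn⟩
      have hn' : z ^ n = a * b * a⁻¹ := hn
      have h1 : Commute a (z ^ n) := Commute.zpow_right (hcomm a ha) n
      refine ⟨n, ?_⟩
      have h2 : b = a⁻¹ * z ^ n * a := by rw [hn']; group
      show z ^ n = b
      rw [h2, mul_assoc, ← h1.eq, inv_mul_cancel_left]
  obtain ⟨f', hf', -⟩ := existsUnique_normal_subpair hMp hPe hQP hPN
  have hle' : SubpairLE p M (Subgroup.zpowers z) f' P e := Relation.ReflTransGen.single hf'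
  have hff : f' = eBlk M p P e z := eq_of_subpairLE hMp hPe hle' hle
  rw [hff] at hf'
  obtain ⟨x, hx, hxc⟩ := exists_coeff_of_normal_subpair hf'
  have hxK : x ∈ Kz z := mem_centralizer_zpowers_iff.mpr (Subgroup.mem_centralizer_iff.mp hx z hz).symm
  rw [coeff_EE, subgroupBlockCoeff_of_mem _ hxK] at hxc
  obtain ⟨y, S, -, hD⟩ := exists_isDefectGroup hMp hind.1
  have hDp := Cfsg.Agent.S0908.result p M hMp _ hind.1 _ hD
  have hPp := Cfsg.Agent.S0908.result p M hMp B hmax.1.2.1 P (isDefectGroup_of_maximal hMp hmax)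
  have hR : IsPGroup p (P.subgroupOf (Kz z)) := by
    intro g
    obtain ⟨n, hn⟩ := hPe.1 ⟨(g : G), Subgroup.mem_subgroupOf.mp g.2⟩
    refine ⟨n, ?_⟩
    apply Subtype.ext
    apply Subtype.ext
    have h1 := congrArg (Subtype.val) hn
    simpa using h1
  have hRx : P.subgroupOf (Kz z) ≤ Subgroup.centralizer ({⟨x, hxK⟩} : Set (Kz z)) := by
    intro g hg
    rw [Subgroup.mem_centralizer_iff]
    rintro w rfl
    apply Subtype.ext
    have h1 := Subgroup.mem_centralizer_iff.mp hx (g : G) (Subgroup.mem_subgroupOf.mp hg)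
    exact h1.symm
  obtain ⟨w, hw⟩ := exists_le_conj_of_coeff hMp hind.1 hD hxc hR hRx
  have hc1 : Nat.card (P.subgroupOf (Kz z)) = Nat.card P :=
    Nat.card_congr (Subgroup.subgroupOfEquivOfLe hPK).toEquiv
  have hc3 : ∀ D : Subgroup (Kz z), Nat.card (D.map (MulAut.conj w).toMonoidHom) = Nat.card D := fun D =>
    Nat.card_congr (D.equivMapOfInjective _ (MulAut.conj w).injective).symm.toEquiv
  have heq : P.subgroupOf (Kz z) = _ := Subgroup.eq_of_le_of_card_ge hw (by
    rw [hc3, hc1, hDp, hPp, hd])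
  rw [heq]
  exact Cfsg.Agent.Lib.Blocks.Principal.isDefectGroup_map_conj hD w

/-- **The package at the centralizer of the central involution.** -/
theorem exists_package (hMp : IsPModular 2 M) {B : Set (IrrCharacter G)} (hB : IsPBlock M B) {D : Subgroup G}
    (hD : IsDefectGroup 2 M B D) {x a : G} {N : ℕ} (hd : DihD D x a N) [Fintype (Cen (DihD.zz x N))] :
    ∃ (b : Set (IrrCharacter (Cen (DihD.zz x N))))
      (e : Set (IrrCharacter (Subgroup.centralizer ((D.subgroupOf (Cen (DihD.zz x N)) : Subgroup _) : Set (Cen (DihD.zz x N))))))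
      (χ₀ : IrrCharacter (Cen (DihD.zz x N)))
      (L : IrrCharacter (Cen (DihD.zz x N)) → IrrCharacter (D.subgroupOf (Cen (DihD.zz x N)))),
      IsInducedBlock M (Cen (DihD.zz x N)) b B ∧
      NPack M 2 b (D.subgroupOf (Cen (DihD.zz x N))) e χ₀ L := by
  classical
  haveI : Fact (Nat.Prime 2) := ⟨Nat.prime_two⟩
  obtain ⟨e, hmax⟩ := Cfsg.Agent.S4552.exists_maximal_on_defect hMp hB hD
  have hzc : DihD.zz x N ∈ Subgroup.centralizer (D : Set G) := by
    rw [Subgroup.mem_centralizer_iff]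
    intro g hg
    exact hd.zz_comm hg
  have hKC : Kz (DihD.zz x N) = Cen (DihD.zz x N) := Cfsg.Agent.Lib.Blocks.AbelianCount.cz_eq_cen _
  obtain ⟨b, hind, hdef⟩ := major_defect hMp hmax hd.zz_mem hzc _ hKC
  have hd' := hd.subgroupOf hd.D_le_cen
  have hnil : IsNilpotentBlock 2 M b := by
    refine isNilpotent_of_dih hMp hind.1 hdef hd' ?_
    intro k
    apply Subtype.ext
    have := Subgroup.mem_centralizer_singleton_iff.mp k.2
    exact this
  obtain ⟨e', χ₀, L, hpack⟩ := exists_npack hMp hnil hdef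
  exact ⟨b, e', χ₀, L, hind, hpack⟩

end Setup

end Cfsg.Agent.Lib.Blocks.Tame
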