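/-
Quaternion defect groups: the nilpotent block on the normalizer of the subgroup of order four,
and the columns of the characters of the group on the rotations.
-/
import Mathlib
import Cfsg.Agent.Lib.Blocks.Quat1
import Cfsg.Agent.Lib.Blocks.TameC2
import Cfsg.Agent.Lib.Blocks.TameS
import Cfsg.Agent.Lib.Blocks.ZDefect
import Cfsg.Agent.S4698

set_option autoImplicit false
set_option linter.style.haveILetI false

namespace Cfsg.Agent.Lib.Blocks.Quat

open Cfsg Cfsg.Agent.Lib.Blocks.Local Cfsg.Agent.Lib.Blocks.Central Cfsg.Agent.Lib.Blocks.Osima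
open Cfsg.Agent.Lib.Blocks.Covering Cfsg.Agent.Lib.Blocks.BlockHom Cfsg.Agent.Lib.Blocks.Pairs
open Cfsg.Agent.Lib.Blocks.Twisted Cfsg.Agent.Lib.Blocks.Necklace Cfsg.Agent.Lib.Blocks.Sections
open Cfsg.Agent.Lib.Blocks.Regular Cfsg.Agent.Lib.Blocks.BlockCount Cfsg.Agent.Lib.Blocks.Nilp
open Cfsg.Agent.Lib.Blocks.Transport Cfsg.Agent.Lib.Blocks.MajorSub Cfsg.Agent.Lib.Blocks.Tame
open Cfsg.Agent.Lib.Char.Ortho
open scoped ComplexConjugate

universe u

section Nil

variable {K : Type u} [Group K] [Fintype K] {M : Ideal AlgInt} [hM : M.IsPrime]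

/-- A block with quaternion defect group of a group normalizing the subgroup of order four is nilpotent. -/
theorem isNilpotent_of_quat (hMp : IsPModular 2 M) {b : Set (IrrCharacter K)} (hb : IsPBlock M b) {P : Subgroup K}
    (hP : IsDefectGroup 2 M b P) {x t : K} {N : ℕ} (hd : QuatD P x t N)
    (hn : ∀ k : K, k ∈ Subgroup.normalizer ((Subgroup.zpowers (QuatD.ww x N) : Subgroup K) : Set K)) :
    IsNilpotentBlock 2 M b := by
  classical
  haveI : Fact (Nat.Prime 2) := ⟨Nat.prime_two⟩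
  obtain ⟨e, hmax⟩ := Cfsg.Agent.S4552.exists_maximal_on_defect hMp hb hP
  refine ⟨hb, fun Q f hQf t' htN _ htreg => ?_⟩
  obtain ⟨g, hg⟩ := exists_conj_subpairLE hMp hmax hQf
  have hle := SubpairLE.le hg
  have hodd : Odd (orderOf (g * t' * g⁻¹)) := by
    have h1 : orderOf (g * t' * g⁻¹) = orderOf t' := by
      rw [← MulAut.conj_apply, MulEquiv.orderOf_eq]
    rw [h1]
    exact Nat.odd_iff.mpr (by
      have : ¬ 2 ∣ orderOf t' := htreg
      omega)
  have hcomm := hd.odd_comm_ww hodd (hn _)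
  have hnorm : ∀ u ∈ Q.map (MulAut.conj g).toMonoidHom, (g * t' * g⁻¹) * u * (g * t' * g⁻¹)⁻¹ ∈ Q.map (MulAut.conj g).toMonoidHom := by
    rintro _ ⟨q, hq, rfl⟩
    refine ⟨t' * q * t'⁻¹, (Subgroup.mem_normalizer_iff.mp htN q).mp hq, ?_⟩
    simp only [MulEquiv.coe_toMonoidHom, MulAut.conj_apply]
    group
  rw [Subgroup.mem_centralizer_iff]
  intro q hq
  have h1 := hd.odd_centralizes hle hodd hcomm hnorm (g * q * g⁻¹) ⟨q, hq, by simp⟩
  have h2 : g * (t' * q * t'⁻¹) * g⁻¹ = g * q * g⁻¹ := by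
    rw [← h1]
    group
  have h3 : t' * q * t'⁻¹ = q := by
    simpa using h2
  calc q * t' = (t' * q * t'⁻¹) * t' := by rw [h3]
    _ = t' * q := by group

end Nil

section Setup

variable {G : Type u} [Group G] [Fintype G] {M : Ideal AlgInt} [hM : M.IsPrime]

/-- The normalizer of the subgroup of order four contains `D C_G(D)`. -/
lemma HD_le_norm {D : Subgroup G} {x t : G} {N : ℕ} (hd : QuatD D x t N) :
    Cfsg.Agent.Lib.Blocks.ZDefect.HD D ≤ Subgroup.normalizer ((Subgroup.zpowers (QuatD.ww x N) : Subgroup G) : Set G) := by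
  refine sup_le hd.D_le_norm ?_
  intro c hc
  refine mem_norm_of_comm (y := QuatD.ww x N) (Subgroup.mem_zpowers _) ?_
  exact (Subgroup.mem_centralizer_iff.mp hc _ (D.pow_mem hd.hxD _)).symm

/-- **The package on the normalizer of the subgroup of order four.** -/
theorem exists_packageK (hMp : IsPModular 2 M) {B : Set (IrrCharacter G)} (hB : IsPBlock M B) {D : Subgroup G}
    (hD : IsDefectGroup 2 M B D) {x t : G} {N : ℕ} (hd : QuatD D x t N) {K : Subgroup G} [Fintype K]
    (hK : K = Subgroup.normalizer ((Subgroup.zpowers (QuatD.ww x N) : Subgroup G) : Set G)) :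
    ∃ (b : Set (IrrCharacter K)) (e : Set (IrrCharacter (Subgroup.centralizer ((D.subgroupOf K : Subgroup K) : Set K))))
      (χ₀ : IrrCharacter K) (L : IrrCharacter K → IrrCharacter (D.subgroupOf K)),
      IsInducedBlock M K b B ∧ NPack M 2 b (D.subgroupOf K) e χ₀ L := by
  classical
  haveI : Fact (Nat.Prime 2) := ⟨Nat.prime_two⟩
  obtain ⟨b₀, hb₀⟩ := Cfsg.Agent.S4698.exists_block_HD hMp hB hD
  have hle : Cfsg.Agent.Lib.Blocks.ZDefect.HD D ≤ K := by
    rw [hK]
    exact HD_le_norm hd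
  obtain ⟨c, -, hc, hdef⟩ := Cfsg.Agent.Lib.Blocks.ZDefect.exists_pair hMp hb₀ hD hle
  have hDK : D ≤ K := le_sup_left.trans hle
  have hd' := hd.subgroupOf hDK
  have hnil : IsNilpotentBlock 2 M c := by
    refine isNilpotent_of_quat hMp hc.1 hdef hd' ?_
    rintro ⟨k, hk⟩
    rw [Subgroup.mem_normalizer_iff]
    rw [hK] at hk
    have hk' := Subgroup.mem_normalizer_iff.mp hk
    have hw : ∀ z : K, z ∈ Subgroup.zpowers (QuatD.ww (⟨x, hDK hd.hxD⟩ : K) N) ↔ (z : G) ∈ Subgroup.zpowers (QuatD.ww x N) := by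
      intro z
      rw [Subgroup.mem_zpowers_iff, Subgroup.mem_zpowers_iff]
      constructor
      · rintro ⟨m, rfl⟩
        exact ⟨m, by simp [QuatD.ww]⟩
      · rintro ⟨m, hm⟩
        exact ⟨m, Subtype.ext (by simpa [QuatD.ww] using hm)⟩
    intro z
    rw [hw, hw]
    exact hk' z
  obtain ⟨e, χ₀, L, hpack⟩ := exists_npack hMp hnil hdef
  exact ⟨c, e, χ₀, L, hc, hpack⟩

end Setup

section Cols

variable {G : Type u} [Group G] [Fintype G] {M : Ideal AlgInt} [hM : M.IsPrime]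
  {K : Subgroup G} [Fintype K] {b : Set (IrrCharacter K)} {P : Subgroup K}
  {e : Set (IrrCharacter (Subgroup.centralizer (P : Set K)))} {χ₀ : IrrCharacter K}
  {L : IrrCharacter K → IrrCharacter P} {B' : Set (IrrCharacter G)}

/-- The multiplicity of `ϑ` in the restriction of `χ`. -/
noncomputable def mmK (χ : IrrCharacter G) (ϑ : IrrCharacter K) : ℕ :=
  Classical.choose (Cfsg.Agent.Lib.Char.Ortho.exists_nat_classInner
    (Cfsg.Agent.Lib.Char.Basic.isCharacter_restrict
      (Cfsg.Agent.Lib.Char.Basic.isCharacter_of_isIrrCharacter χ.2) K) ϑ)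

lemma mmK_spec (χ : IrrCharacter G) (ϑ : IrrCharacter K) :
    classInner (fun c : K => (χ : G → ℂ) c) (ϑ : K → ℂ) = mmK χ ϑ :=
  Classical.choose_spec (Cfsg.Agent.Lib.Char.Ortho.exists_nat_classInner
    (Cfsg.Agent.Lib.Char.Basic.isCharacter_restrict
      (Cfsg.Agent.Lib.Char.Basic.isCharacter_of_isIrrCharacter χ.2) K) ϑ)

lemma isClassFunction_resK (χ : IrrCharacter G) : IsClassFunction K (fun c : K => (χ : G → ℂ) c) := by
  intro c d
  exact isClassFunction_of_irr χ.2 (c : G) (d : G)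

/-- The column of a character of `G` at `v`. -/
noncomputable def NK (M : Ideal AlgInt) (P : Subgroup K)
    (e : Set (IrrCharacter (Subgroup.centralizer (P : Set K)))) (χ₀ : IrrCharacter K)
    (χ : IrrCharacter G) (v : K) : ℂ :=
  NPack.Cf M 2 P e χ₀ (fun h : K => (χ : G → ℂ) h) v

open Classical in
/-- The column in terms of the characters of the block. -/
theorem NK_eq_sum (H : NPack M 2 b P e χ₀ L) (χ : IrrCharacter G) (v : P) :
    NK M P e χ₀ χ v = ∑ ϑ ∈ Finset.univ.filter (· ∈ b), (mmK χ ϑ : ℂ) * (L ϑ : P → ℂ) v := by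
  rw [NK, H.Cf_class (isClassFunction_resK χ)]
  refine Finset.sum_congr rfl fun ϑ _ => ?_
  rw [mmK_spec]

/-- **Column orthogonality in `G` and `K`.** -/
theorem sum_irr_eq_sum_irrK {y y' : K} (hconj : ∀ g : G, g * y * g⁻¹ = y' → g ∈ K)
    (hcen : ∀ c : G, c * y = y * c → c ∈ K) :
    ∑ χ : IrrCharacter G, (χ : G → ℂ) y * conj ((χ : G → ℂ) y') =
      ∑ ϑ : IrrCharacter K, (ϑ : K → ℂ) y * conj ((ϑ : K → ℂ) y') := by
  classical
  by_cases hc : IsConj (y : G) (y' : G)
  · obtain ⟨g, hg⟩ := isConj_iff.mp hc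
    have hgH : g ∈ K := hconj g hg
    have hcH : IsConj y y' := isConj_iff.mpr ⟨⟨g, hgH⟩, Subtype.ext hg⟩
    rw [Cfsg.Agent.Lib.Char.CompleteCor.column_orth_conj hc, Cfsg.Agent.Lib.Char.CompleteCor.column_orth_conj hcH]
    congr 1
    refine Nat.card_congr
      { toFun := fun c => ⟨⟨c, hcen c (Subgroup.mem_centralizer_singleton_iff.mp c.2)⟩, ?_⟩
        invFun := fun c => ⟨((c : K) : G), ?_⟩
        left_inv := fun c => rfl
        right_inv := fun c => rfl }
    · rw [Subgroup.mem_centralizer_singleton_iff]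
      exact Subtype.ext (Subgroup.mem_centralizer_singleton_iff.mp c.2)
    · rw [Subgroup.mem_centralizer_singleton_iff]
      exact congrArg Subtype.val (Subgroup.mem_centralizer_singleton_iff.mp c.2)
  · rw [Cfsg.Agent.Lib.Char.CompleteCor.column_orth_not_conj hc,
      Cfsg.Agent.Lib.Char.CompleteCor.column_orth_not_conj]
    intro hcH
    obtain ⟨g, hg⟩ := isConj_iff.mp hcH
    exact hc (isConj_iff.mpr ⟨g, congrArg Subtype.val hg⟩)

open Classical in
/-- The sum over the block is a sum over the characters of `P`. -/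
lemma sum_block_eqK (H : NPack M 2 b P e χ₀ L) [Fintype P] (F : IrrCharacter P → ℂ) :
    ∑ l : IrrCharacter P, F l = ∑ ϑ : IrrCharacter K, if ϑ ∈ b then F (L ϑ) else 0 := by
  classical
  rw [← Finset.sum_filter]
  symm
  refine Finset.sum_nbij L (fun _ _ => Finset.mem_univ _) ?_ ?_ (fun _ _ => rfl)
  · intro x hx y hy hxy
    exact H.hinj (Finset.mem_filter.mp hx).2 (Finset.mem_filter.mp hy).2 hxy
  · intro l _
    obtain ⟨ϑ, hϑ, rfl⟩ := H.hsurj l
    exact ⟨ϑ, by simpa using hϑ, rfl⟩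

/-- **The Gram matrix of the columns.** -/
theorem NK_gram (H : NPack M 2 b P e χ₀ L) [Fintype P] {w : G} (hwo : orderOf w = 4)
    (hK : K = Subgroup.normalizer ((Subgroup.zpowers w : Subgroup G) : Set G)) {u v : P}
    (hu : w ∈ Subgroup.zpowers (((u : K) : G))) (hv : w ∈ Subgroup.zpowers (((v : K) : G))) :
    ∑ χ : IrrCharacter G, NK M P e χ₀ χ u * conj (NK M P e χ₀ χ v) =
      ∑ l : IrrCharacter P, (l : P → ℂ) u * conj ((l : P → ℂ) v) := by
  classical
  have horder : ∀ w : P, ∃ k : ℕ, orderOf ((w : K) : G) = 2 ^ k := by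
    intro w
    obtain ⟨k, hk⟩ := H.pow_eq_one w
    have h1 : ((w : K) : G) ^ 2 ^ k = 1 := by
      have := congrArg Subtype.val hk
      simpa using this
    obtain ⟨j, -, hj⟩ := (Nat.dvd_prime_pow Nat.prime_two).mp (orderOf_dvd_of_pow_eq_one h1)
    exact ⟨j, hj⟩
  have hsec : ∀ (y : P), w ∈ Subgroup.zpowers (((y : K) : G)) → ∀ c ∈ regC 2 (y : K),
      w ∈ Subgroup.zpowers ((((y : K) * c : K) : G)) := by
    intro y hy c hc
    obtain ⟨hcK, hcreg⟩ := mem_regC.mp hc
    obtain ⟨k, hk⟩ := horder y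
    have hcomm : ((y : K) : G) * (c : G) = (c : G) * ((y : K) : G) := by
      have := mem_centralizer_zpowers_iff.mp hcK
      exact (congrArg Subtype.val this).symm
    refine mem_zpowers_mul hk hcomm ?_ hy
    rwa [Subgroup.orderOf_coe]
  have h1 : ∑ χ : IrrCharacter G, NK M P e χ₀ χ u * conj (NK M P e χ₀ χ v) =
      ∑ ϑ : IrrCharacter K, NPack.Cf M 2 P e χ₀ (ϑ : K → ℂ) u * conj (NPack.Cf M 2 P e χ₀ (ϑ : K → ℂ) v) := by
    simp only [NK]
    rw [sum_Cf_mul_conj (fun χ : IrrCharacter G => fun h : K => (χ : G → ℂ) h) (u : K) (v : K),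
      sum_Cf_mul_conj (fun ϑ : IrrCharacter K => (ϑ : K → ℂ)) (u : K) (v : K)]
    congr 1
    refine Finset.sum_congr rfl fun c hc => Finset.sum_congr rfl fun c' hc' => ?_
    congr 1
    refine sum_irr_eq_sum_irrK (fun g hg => ?_) (fun d hd => ?_)
    · rw [hK]
      exact mem_norm_of_conj hwo (hsec u hu c hc) (hsec v hv c' hc') hg
    · rw [hK]
      exact mem_norm_of_comm (hsec u hu c hc) hd
  rw [h1, sum_block_eqK H]
  refine Finset.sum_congr rfl fun ϑ _ => ?_
  by_cases hϑ : ϑ ∈ b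
  · rw [if_pos hϑ, H.Cf_mem hϑ, H.Cf_mem hϑ]
  · rw [if_neg hϑ, H.Cf_not hϑ, zero_mul]

/-- **The section part of a character outside the block vanishes.** -/
theorem twTrace_resK_eq_zero (hMp : IsPModular 2 M) (hind : IsInducedBlock M K b B') {v : K}
    (hv : Subgroup.centralizer ((Subgroup.zpowers (v : G) : Subgroup G) : Set G) ≤ K) {k : ℕ}
    (hk : (v : G) ^ (2 ^ k) = 1)
    {f : Set (IrrCharacter (Kz v))} (hf : IsBrauerPairOf 2 M b (Subgroup.zpowers v) f)
    {χ : IrrCharacter G} (hχ : χ ∉ B') {c : K} (hc : c ∈ regC 2 v) :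
    twTrace (fun w : K => (χ : G → ℂ) w) (v * c) (EE (Kz v) f) = 0 := by
  classical
  haveI : Fact (Nat.Prime 2) := ⟨Nat.prime_two⟩
  have hfi := isInducedBlock_of_brauerPair hMp hf
  have hQA : Subgroup.zpowers (v : G) ≤ Subgroup.zpowers (v : G) := le_refl _
  have hAW : Subgroup.zpowers (v : G) ≤ K := by
    rw [Subgroup.zpowers_le]
    exact v.2
  obtain ⟨c', hc'1, hc'2⟩ := exists_lift hv hQA hAW (zpowers_subgroupOf v) hfi hind
  rw [hc'2 (χ : G → ℂ) (v * c)]
  have h1 : ((v * c : K) : G) = (v : G) * (c : G) := rfl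
  rw [h1]
  obtain ⟨hcK, hcreg⟩ := mem_regC.mp hc
  have hcG : (c : G) ∈ regC 2 (v : G) := by
    rw [mem_regC]
    refine ⟨?_, by rwa [Subgroup.orderOf_coe]⟩
    rw [mem_centralizer_zpowers_iff]
    have := mem_centralizer_zpowers_iff.mp hcK
    exact congrArg Subtype.val this
  refine twTrace_EE_eq_zero_of_not_pair (B := blockOf M (χ : G → ℂ)) hMp ⟨χ, rfl⟩ (mem_blockOf_self χ) hk
    hc'1.1 ?_ hcG
  intro hpair
  have h2 := isInducedBlock_of_brauerPair hMp hpair
  have h3 := FirstMain2.induced_unique h2 hc'1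
  apply hχ
  rw [← h3]
  exact mem_blockOf_self χ

/-- **The columns vanish off the block.** -/
theorem NK_vanish (hind : IsInducedBlock M K b B') (H : NPack M 2 b P e χ₀ L) {χ : IrrCharacter G} (hχ : χ ∉ B') {v : P}
    (hv : Subgroup.centralizer ((Subgroup.zpowers ((v : K) : G) : Subgroup G) : Set G) ≤ K) : NK M P e χ₀ χ v = 0 := by
  classical
  rw [NK, H.Cf_eq_secF (isClassFunction_resK χ), secF]
  apply mul_eq_zero_of_right
  refine Finset.sum_eq_zero fun c hc => ?_
  obtain ⟨k, hk⟩ := H.pow_eq_one v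
  have hk' : ((v : K) : G) ^ (2 ^ k) = 1 := by
    have := congrArg Subtype.val hk
    simpa using this
  have h1 := twTrace_resK_eq_zero H.hMp hind hv hk' (H.isPair v) hχ hc
  rw [Ev, h1, zero_mul]

end Cols

end Cfsg.Agent.Lib.Blocks.Quat
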