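/-
Quaternion defect groups: the integer vectors attached to the columns on the rotations.
-/
import Mathlib
import Cfsg.Agent.Lib.Blocks.Quat2
import Cfsg.Agent.Lib.Blocks.Quat3

set_option autoImplicit false
set_option linter.style.haveILetI false

namespace Cfsg.Agent.Lib.Blocks.Quat

open Cfsg Cfsg.Agent.Lib.Blocks.Local Cfsg.Agent.Lib.Blocks.Central Cfsg.Agent.Lib.Blocks.Osima
open Cfsg.Agent.Lib.Blocks.Covering Cfsg.Agent.Lib.Blocks.BlockHom Cfsg.Agent.Lib.Blocks.Pairs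
open Cfsg.Agent.Lib.Blocks.Twisted Cfsg.Agent.Lib.Blocks.Necklace Cfsg.Agent.Lib.Blocks.Sections
open Cfsg.Agent.Lib.Blocks.Regular Cfsg.Agent.Lib.Blocks.BlockCount Cfsg.Agent.Lib.Blocks.Nilp
open Cfsg.Agent.Lib.Blocks.Transport Cfsg.Agent.Lib.Blocks.MajorSub Cfsg.Agent.Lib.Blocks.Tame
open Cfsg.Agent.Lib.Blocks.DihS
open Cfsg.Agent.Lib.Char.Ortho
open scoped ComplexConjugate

universe u

section Abstract

/-- The values of the Gram entries. -/
noncomputable def RRv (N a b : ℕ) : ℤ :=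
  (if (a = 0 ∧ b = 0) ∨ (a = N ∧ b = N) then 1 else 0) + (if a = b then 1 else 0)

lemma RR_val {N a b : ℕ} (hN : 0 < N) (ha : a ≤ N) (hb : b ≤ N) : RR (2 * N) a b = (RRv N a b : ℂ) := by
  unfold RR RRv dv
  have h1 : 2 * N ∣ a + b ↔ (a = 0 ∧ b = 0) ∨ (a = N ∧ b = N) := by
    constructor
    · rintro ⟨c, hc⟩
      rcases c with _ | _ | c
      · left
        omega
      · right
        omega
      · exfalso
        have : 2 * N * (c + 1 + 1) = 2 * N * c + 4 * N := by ring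
        rw [this] at hc
        have : 0 ≤ 2 * N * c := Nat.zero_le _
        omega
    · rintro (⟨rfl, rfl⟩ | ⟨rfl, rfl⟩)
      · simp
      · exact ⟨1, by ring⟩
  have h2 : 2 * N ∣ a + (2 * N - b) ↔ a = b := by
    constructor
    · rintro ⟨c, hc⟩
      rcases c with _ | _ | c
      · omega
      · omega
      · exfalso
        have : 2 * N * (c + 1 + 1) = 2 * N * c + 4 * N := by ring
        rw [this] at hc
        have : 0 ≤ 2 * N * c := Nat.zero_le _
        omega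
    · rintro rfl
      exact ⟨1, by omega⟩
  simp only [h1, h2]
  push_cast
  split_ifs <;> simp

lemma RRv_ne {N a b : ℕ} (h : a ≠ b) : RRv N a b = 0 := by
  unfold RRv
  rw [if_neg (by omega), if_neg h]
  rfl

lemma RRv_self {N a : ℕ} (h0 : 0 < a) (h1 : a < N) : RRv N a a = 1 := by
  unfold RRv
  rw [if_neg (by omega), if_pos rfl]
  rfl

lemma RRv_zero {N : ℕ} (h0 : 0 < N) : RRv N 0 0 = 2 := by
  unfold RRv
  rw [if_pos (by omega), if_pos rfl]
  rfl

lemma RRv_top {N : ℕ} : RRv N N N = 2 := by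
  unfold RRv
  rw [if_pos (by omega), if_pos rfl]
  rfl

variable {ι : Type*} {S : Finset ι} {F : ι → ℕ → ℂ} {k : ℕ} {ζ : ℂ}

/-- **The integers attached to the columns.** -/
theorem FQ.exists_ints (h : FQ S F k ζ) {J N : ℕ} (hN : 2 ^ (k - 1) = N) (hJ : N = 2 * (J + 1))
    (hnat : ∀ κ i, ∃ n : ℕ, qc F ζ (2 ^ k) κ i = n) :
    ∃ (n m : ι → ℕ → ℤ) (v e : ι → ℤ),
      (∀ s < J, ∀ t < J, ∑ i ∈ S, n i s * n i t = if s = t then 3 else 2) ∧
      (∀ s < J, ∀ t < J, ∑ i ∈ S, m i s * m i t = if s = t then 2 else 1) ∧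
      (∀ t < J, ∑ i ∈ S, v i * n i t = 2) ∧
      (∑ i ∈ S, v i * v i = 4) ∧
      (∀ s < J, ∀ t < J, ∑ i ∈ S, n i s * m i t = 0) ∧
      (∀ t < J, ∑ i ∈ S, v i * m i t = 0) ∧
      (∀ i, F i N = ((N * e i + v i + 2 * ∑ j ∈ Finset.range J, n i j - 2 * ∑ j ∈ Finset.range J, m i j : ℤ) : ℂ)) ∧
      (∀ δ : ι → ℂ, (∀ l, 0 < l → l < 2 ^ k → l ≠ N → ∑ i ∈ S, δ i * F i l = 0) →
        (∀ t < J, ∑ i ∈ S, δ i * (n i t : ℂ) = 0) ∧ (∀ t < J, ∑ i ∈ S, δ i * (m i t : ℂ) = 0) ∧
        ∑ i ∈ S, δ i * (v i : ℂ) = 0) ∧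
      (∀ i, (∀ t < J, n i t = 0) → (∀ t < J, m i t = 0) → v i = 0 →
        ∀ l, 0 < l → l < 2 ^ k → l ≠ N → F i l = 0) ∧
      (∀ i, (∀ l < N, F i (N + l) = - F i l) → v i = 0 ∧ ∀ t < J, n i t = 0) ∧
      (∀ i, (∀ l < N, F i (N + l) = F i l) → ∀ t < J, m i t = 0) := by
  choose c hc using hnat
  have hpos : 0 < N := by omega
  have hM : 2 ^ k = 2 * N := by
    rw [h.two_mul_half, hN]
  have hζ := h.hζ
  have hh : ζ ^ N = -1 := by
    have := pow_half (by have := h.hk; omega) hζ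
    rwa [hN] at this
  have hζM : ζ ^ (2 * N) = 1 := by
    rw [← hM]
    exact hζ.pow_eq_one
  have hpar0 : ∀ s : ℕ, ζ ^ (2 * s * 2 ^ (k - 1)) = 1 := by
    intro s
    rw [hN, show 2 * s * N = 2 * N * s by ring, pow_mul, hζM, one_pow]
  have hpar1 : ∀ s : ℕ, ζ ^ ((2 * s + 1) * 2 ^ (k - 1)) = -1 := by
    intro s
    rw [hN, show (2 * s + 1) * N = 2 * N * s + N by ring, pow_add, pow_mul, hζM, one_pow, one_mul, hh]
  -- the Gram matrix in integers
  have hgr : ∀ {a₁ a₂ a₃ a₄ : ℕ}, a₃ ≤ N → a₄ ≤ N → a₁ ≤ N → a₂ ≤ N →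
      ζ ^ (a₁ * 2 ^ (k - 1)) = ζ ^ (a₂ * 2 ^ (k - 1)) → ζ ^ (a₃ * 2 ^ (k - 1)) = ζ ^ (a₄ * 2 ^ (k - 1)) →
      ∑ i ∈ S, ((c a₁ i : ℤ) - c a₂ i) * ((c a₃ i : ℤ) - c a₄ i) =
        RRv N a₁ a₃ - RRv N a₁ a₄ - RRv N a₂ a₃ + RRv N a₂ a₄ := by
    intro a₁ a₂ a₃ a₄ h3 h4 h1 h2 h12 h34
    have h5 := h.gram (κ₁ := a₁) (κ₂ := a₂) (κ₃ := a₃) (κ₄ := a₄) (by omega) (by omega) h12 h34
    rw [hM, RR_val hpos h1 h3, RR_val hpos h1 h4, RR_val hpos h2 h3, RR_val hpos h2 h4] at h5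
    rw [← hM] at h5
    simp only [hc] at h5
    apply Int.cast_injective (α := ℂ)
    push_cast
    exact h5
  -- the symmetry
  have hflip : ∀ {κ : ℕ}, κ ≤ 2 * N → ∀ i, c (2 * N - κ) i = c κ i := by
    intro κ hκ i
    have h1 := h.qc_flip (κ := κ) (by rw [hM]; exact hκ) i
    rw [hM] at h1
    rw [← hM] at h1
    rw [hc, hc, hM] at h1
    exact_mod_cast h1
  have hN' : ζ ^ (N * 2 ^ (k - 1)) = ζ ^ (0 * 2 ^ (k - 1)) := by
    have := hpar0 (J + 1)
    rw [← hJ] at this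
    simpa using this
  refine ⟨fun i t => (c (2 * (t + 1)) i : ℤ) - c 0 i, fun i t => (c (2 * (t + 1) + 1) i : ℤ) - c 1 i,
    fun i => (c N i : ℤ) - c 0 i, fun i => (c 0 i : ℤ) - c 1 i, ?_, ?_, ?_, ?_, ?_, ?_, ?_, ?_, ?_, ?_, ?_⟩
  · intro s hs t ht
    have h1 := hgr (a₁ := 2 * (s + 1)) (a₂ := 0) (a₃ := 2 * (t + 1)) (a₄ := 0) (by omega) (by omega) (by omega) (by omega)
      (by simpa using hpar0 (s + 1)) (by simpa using hpar0 (t + 1))
    simp only [h1]
    rw [RRv_ne (a := 2 * (s + 1)) (b := 0) (by omega), RRv_ne (a := 0) (b := 2 * (t + 1)) (by omega), RRv_zero hpos]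
    by_cases hst : s = t
    · subst hst
      rw [if_pos rfl, RRv_self (by omega) (by omega)]
      norm_num
    · rw [if_neg hst, RRv_ne (by omega)]
      norm_num
  · intro s hs t ht
    have h1 := hgr (a₁ := 2 * (s + 1) + 1) (a₂ := 1) (a₃ := 2 * (t + 1) + 1) (a₄ := 1) (by omega) (by omega) (by omega) (by omega)
      (by rw [hpar1 (s + 1)]; simpa using (hpar1 0).symm) (by rw [hpar1 (t + 1)]; simpa using (hpar1 0).symm)
    simp only [h1]
    rw [RRv_ne (a := 2 * (s + 1) + 1) (b := 1) (by omega), RRv_ne (a := 1) (b := 2 * (t + 1) + 1) (by omega), RRv_self (a := 1) (by omega) (by omega)]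
    by_cases hst : s = t
    · subst hst
      rw [if_pos rfl, RRv_self (by omega) (by omega)]
      norm_num
    · rw [if_neg hst, RRv_ne (by omega)]
      norm_num
  · intro t ht
    have h1 := hgr (a₁ := N) (a₂ := 0) (a₃ := 2 * (t + 1)) (a₄ := 0) (by omega) (by omega) (by omega) (by omega)
      hN' (by simpa using hpar0 (t + 1))
    simp only [h1]
    rw [RRv_ne (a := N) (b := 2 * (t + 1)) (by omega), RRv_ne (a := N) (b := 0) (by omega), RRv_ne (a := 0) (b := 2 * (t + 1)) (by omega), RRv_zero hpos]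
    norm_num
  · have h1 := hgr (a₁ := N) (a₂ := 0) (a₃ := N) (a₄ := 0) (by omega) (by omega) (by omega) (by omega) hN' hN'
    simp only [h1]
    rw [RRv_top, RRv_ne (a := N) (b := 0) (by omega), RRv_ne (a := 0) (b := N) (by omega), RRv_zero hpos]
    norm_num
  · intro s hs t ht
    have h1 := hgr (a₁ := 2 * (s + 1)) (a₂ := 0) (a₃ := 2 * (t + 1) + 1) (a₄ := 1) (by omega) (by omega) (by omega) (by omega)
      (by simpa using hpar0 (s + 1)) (by rw [hpar1 (t + 1)]; simpa using (hpar1 0).symm)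
    simp only [h1]
    rw [RRv_ne (a := 2 * (s + 1)) (b := 2 * (t + 1) + 1) (by omega), RRv_ne (a := 2 * (s + 1)) (b := 1) (by omega),
      RRv_ne (a := 0) (b := 2 * (t + 1) + 1) (by omega), RRv_ne (a := 0) (b := 1) (by omega)]
    norm_num
  · intro t ht
    have h1 := hgr (a₁ := N) (a₂ := 0) (a₃ := 2 * (t + 1) + 1) (a₄ := 1) (by omega) (by omega) (by omega) (by omega)
      hN' (by rw [hpar1 (t + 1)]; simpa using (hpar1 0).symm)
    simp only [h1]
    rw [RRv_ne (a := N) (b := 2 * (t + 1) + 1) (by omega), RRv_ne (a := N) (b := 1) (by omega),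
      RRv_ne (a := 0) (b := 2 * (t + 1) + 1) (by omega), RRv_ne (a := 0) (b := 1) (by omega)]
    norm_num
  · intro i
    have h1 := h.value_half i
    rw [hN] at h1
    rw [h1, hM, hJ, show 2 * (2 * (J + 1)) = 4 * (J + 1) by ring]
    have hq : ∀ κ, qc F ζ (4 * (J + 1)) κ i = (c κ i : ℂ) := by
      intro κ
      have := hc κ i
      rwa [hM, hJ, show 2 * (2 * (J + 1)) = 4 * (J + 1) by ring] at this
    have h2 := sum_neg_one_pow (c := fun κ => (c κ i : ℂ)) (h := J) (by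
      intro κ hκ
      have := hflip (κ := κ) (by rw [hJ]; omega) i
      rw [hJ, show 2 * (2 * (J + 1)) = 4 * (J + 1) by ring] at this
      exact_mod_cast this)
    simp only [hq]
    rw [h2, Finset.sum_range_succ' (fun i_1 => ((c (2 * i_1 + 1) i : ℕ) : ℂ))]
    simp only [Nat.mul_zero, Nat.zero_add]
    push_cast
    rw [Finset.sum_sub_distrib, Finset.sum_sub_distrib]
    simp only [Finset.sum_const, Finset.card_range, nsmul_eq_mul]
    ring
  · intro δ hδ
    have hd := fun (κ κ' : ℕ) (hp : ζ ^ (κ * N) = ζ ^ (κ' * N)) =>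
      FQ.sum_dc_eq_zero (S := S) (F := F) (ζ := ζ) (M := 2 ^ k) (N := N) δ hδ hp
    simp only [hc] at hd
    have hn' : ζ ^ (N * N) = ζ ^ (0 * N) := by rwa [hN] at hN'
    have hp0 : ∀ s : ℕ, ζ ^ (2 * s * N) = ζ ^ (0 * N) := by
      intro s
      have := hpar0 s
      rw [hN] at this
      simpa using this
    have hp1 : ∀ s : ℕ, ζ ^ ((2 * s + 1) * N) = ζ ^ (1 * N) := by
      intro s
      have := hpar1 s
      have h0 := hpar1 0
      rw [hN] at this h0
      rw [this]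
      simpa using h0.symm
    refine ⟨fun t _ => ?_, fun t _ => ?_, ?_⟩
    · have := hd (2 * (t + 1)) 0 (hp0 _)
      rw [← this]
      push_cast
      rfl
    · have := hd (2 * (t + 1) + 1) 1 (hp1 _)
      rw [← this]
      push_cast
      rfl
    · have := hd N 0 hn'
      rw [← this]
      push_cast
      rfl
  · intro i hn hm hv l h0 hl he
    have hn2 := fun t ht => sub_eq_zero.mp (hn t ht)
    have hm2 := fun t ht => sub_eq_zero.mp (hm t ht)
    have hv2 := sub_eq_zero.mp hv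
    simp only [Nat.cast_inj] at hn2 hm2 hv2
    refine h.value_const h0 hl (by rw [hN]; exact he) i (E := (c 0 i : ℂ)) (O := (c 1 i : ℂ)) ?_
    intro κ hκ
    rw [hN] at hκ
    have hκ := Finset.mem_range.mp hκ
    have he1 : ∀ s, s ≤ J + 1 → c (2 * s) i = c 0 i := by
      intro s hs
      rcases Nat.eq_zero_or_pos s with rfl | hp
      · rfl
      · by_cases hsJ : s = J + 1
        · rw [hsJ, ← hJ]
          exact hv2
        · obtain ⟨t, rfl⟩ : ∃ t, s = t + 1 := ⟨s - 1, by omega⟩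
          exact hn2 t (by omega)
    have ho1 : ∀ s, s ≤ J → c (2 * s + 1) i = c 1 i := by
      intro s hs
      rcases Nat.eq_zero_or_pos s with rfl | hp
      · rfl
      · obtain ⟨t, rfl⟩ : ∃ t, s = t + 1 := ⟨s - 1, by omega⟩
        exact hm2 t (by omega)
    constructor
    · rw [hc]
      congr 1
      by_cases hs : κ ≤ J + 1
      · exact he1 κ hs
      · have := hflip (κ := 2 * κ) (by omega) i
        rw [← this, show 2 * N - 2 * κ = 2 * (N - κ) by omega]
        exact he1 _ (by omega)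
    · rw [hc]
      congr 1
      by_cases hs : κ ≤ J
      · exact ho1 κ hs
      · have := hflip (κ := 2 * κ + 1) (by omega) i
        rw [← this, show 2 * N - (2 * κ + 1) = 2 * (N - κ - 1) + 1 by omega]
        exact ho1 _ (by omega)
  · intro i hF
    have hz : ∀ κ, c (2 * κ) i = 0 := by
      intro κ
      have := h.qc_even_zero (i := i) (by rw [hN]; exact hF) κ
      rw [hc] at this
      exact_mod_cast this
    refine ⟨?_, fun t _ => ?_⟩
    · have e1 := hz (J + 1)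
      rw [← hJ] at e1
      have e0 := hz 0
      simp only [Nat.mul_zero] at e0
      simp [e1, e0]
    · have e0 := hz 0
      simp only [Nat.mul_zero] at e0
      simp [hz (t + 1), e0]
  · intro i hF t _
    have hz : ∀ κ, c (2 * κ + 1) i = 0 := by
      intro κ
      have := h.qc_odd_zero (i := i) (by rw [hN]; exact hF) κ
      rw [hc] at this
      exact_mod_cast this
    have e0 := hz 0
    simp only [Nat.mul_zero, Nat.zero_add] at e0
    simp [hz (t + 1), e0]

end Abstract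

end Cfsg.Agent.Lib.Blocks.Quat
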