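/-
Quaternion defect groups: the columns of the block on the rotations.
-/
import Mathlib
import Cfsg.Agent.Lib.Blocks.Quat4

set_option autoImplicit false
set_option linter.style.haveILetI false

namespace Cfsg.Agent.Lib.Blocks.Quat

open Cfsg Cfsg.Agent.Lib.Blocks.Local Cfsg.Agent.Lib.Blocks.Central Cfsg.Agent.Lib.Blocks.Osima
open Cfsg.Agent.Lib.Blocks.Covering Cfsg.Agent.Lib.Blocks.BlockHom Cfsg.Agent.Lib.Blocks.Pairs
open Cfsg.Agent.Lib.Blocks.Twisted Cfsg.Agent.Lib.Blocks.Necklace Cfsg.Agent.Lib.Blocks.Sections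
open Cfsg.Agent.Lib.Blocks.Regular Cfsg.Agent.Lib.Blocks.BlockCount Cfsg.Agent.Lib.Blocks.Nilp
open Cfsg.Agent.Lib.Blocks.Transport Cfsg.Agent.Lib.Blocks.MajorSub Cfsg.Agent.Lib.Blocks.Tame
open Cfsg.Agent.Lib.Blocks.DihS
open Cfsg.Agent.Lib.Char.Ortho
open scoped ComplexConjugate

universe u

section QC

variable {G : Type u} [Group G] [Fintype G] {M : Ideal AlgInt} [hM : M.IsPrime]
  {K : Subgroup G} [Fintype K] {b : Set (IrrCharacter K)} {P : Subgroup K}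
  {e : Set (IrrCharacter (Subgroup.centralizer (P : Set K)))} {χ₀ : IrrCharacter K}
  {L : IrrCharacter K → IrrCharacter P}

/-- The data of the columns. -/
structure QCol (M : Ideal AlgInt) [M.IsPrime] (B : Set (IrrCharacter G)) (K : Subgroup G) [Fintype K]
    (b : Set (IrrCharacter K)) (P : Subgroup K) (e : Set (IrrCharacter (Subgroup.centralizer (P : Set K))))
    (χ₀ : IrrCharacter K) (L : IrrCharacter K → IrrCharacter P) (x₀ t₀ : P) (N k : ℕ) : Prop where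
  hB : IsPBlock M B
  hind : IsInducedBlock M K b B
  hP : NPack M 2 b P e χ₀ L
  hall : QuatD (⊤ : Subgroup P) x₀ t₀ N
  hK : K = Subgroup.normalizer ((Subgroup.zpowers (((x₀ ^ (N / 2) : P) : K) : G) : Subgroup G) : Set G)
  hk : 2 ≤ k
  hNk : 2 ^ k = 2 * N

/-- The column of `χ` at the rotation `x^l`. -/
noncomputable def FK (M : Ideal AlgInt) (P : Subgroup K)
    (e : Set (IrrCharacter (Subgroup.centralizer (P : Set K)))) (χ₀ : IrrCharacter K) (x₀ : P)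
    (χ : IrrCharacter G) (l : ℕ) : ℂ :=
  NK M P e χ₀ χ ((x₀ ^ l : P) : K)

namespace QCol

variable {B : Set (IrrCharacter G)} {x₀ t₀ : P} {N k : ℕ} (h : QCol M B K b P e χ₀ L x₀ t₀ N k)
include h

theorem half_eq : 2 ^ (k - 1) = N := by
  have h1 := h.hNk
  have h2 := h.hk
  have h3 : 2 ^ k = 2 * 2 ^ (k - 1) := by
    rw [← pow_succ']
    congr 1
    omega
  omega

theorem coe_inj {a c : P} (hh : ((a : K) : G) = ((c : K) : G)) : a = c :=
  Subtype.ext (Subtype.ext hh)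

/-- The element of order four. -/
theorem w_order : orderOf (((x₀ ^ (N / 2) : P) : K) : G) = 4 := by
  have h1 := h.hall.ww_order
  rw [← h1, ← Subgroup.orderOf_coe, ← Subgroup.orderOf_coe]

/-- The element of order four lies in the subgroup generated by a rotation of order at least four. -/
theorem w_mem {l : ℕ} (h0 : 0 < l) (hl : l < 2 * N) (he : l ≠ N) :
    (((x₀ ^ (N / 2) : P) : K) : G) ∈ Subgroup.zpowers (((x₀ ^ l : P) : K) : G) := by
  classical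
  letI : Fintype P := Fintype.ofFinite _
  have hne1 : x₀ ^ l ≠ 1 := by
    intro h1
    have h2 := orderOf_dvd_of_pow_eq_one h1
    rw [h.hall.hxo] at h2
    have := Nat.le_of_dvd h0 h2
    omega
  have hne2 : x₀ ^ l ≠ x₀ ^ N := by
    intro h1
    exact he (h.hall.pow_inj hl (by have := h.hall.N_pos; omega) h1)
  obtain ⟨m, hm⟩ := h.hall.ww_mem_zpowers hne1 hne2
  refine ⟨m, ?_⟩
  have h2 := congrArg (fun y : P => ((y : K) : G)) hm
  simp only [QuatD.ww] at h2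
  refine Eq.trans ?_ h2
  simp

/-- The centralizers of the rotations of order at least four lie in `K`. -/
theorem cen_le {l : ℕ} (h0 : 0 < l) (hl : l < 2 * N) (he : l ≠ N) :
    Subgroup.centralizer ((Subgroup.zpowers (((x₀ ^ l : P) : K) : G) : Subgroup G) : Set G) ≤ K := by
  intro c hc
  rw [h.hK]
  refine mem_norm_of_comm (h.w_mem h0 hl he) ?_
  exact (Subgroup.mem_centralizer_iff.mp hc _ (Subgroup.mem_zpowers _)).symm

/-- The columns are real. -/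
theorem F_real (χ : IrrCharacter G) (l : ℕ) : conj (FK M P e χ₀ x₀ χ l) = FK M P e χ₀ x₀ χ l := by
  classical
  unfold FK
  rw [NK_eq_sum h.hP χ (x₀ ^ l), map_sum]
  refine Finset.sum_congr rfl fun ϑ _ => ?_
  rw [map_mul, Complex.conj_natCast, h.hall.irr_rot_real]

/-- The flip of the columns. -/
theorem F_flip (χ : IrrCharacter G) {l : ℕ} (hl : l ≤ 2 * N) :
    FK M P e χ₀ x₀ χ (2 * N - l) = FK M P e χ₀ x₀ χ l := by
  classical
  unfold FK
  rw [NK_eq_sum h.hP χ (x₀ ^ (2 * N - l)), NK_eq_sum h.hP χ (x₀ ^ l)]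
  refine Finset.sum_congr rfl fun ϑ _ => ?_
  rw [h.hall.irr_rot_flip _ hl]

/-- The columns vanish off the block. -/
theorem F_vanish {χ : IrrCharacter G} (hχ : χ ∉ B) {l : ℕ} (h0 : 0 < l) (hl : l < 2 * N) (he : l ≠ N) :
    FK M P e χ₀ x₀ χ l = 0 :=
  NK_vanish h.hind h.hP hχ (h.cen_le h0 hl he)

open Classical in
/-- **The Gram matrix of the columns on the block.** -/
theorem F_gram [Fintype P] {l l' : ℕ} (h0 : 0 < l) (hl : l < 2 * N) (he : l ≠ N) (h0' : 0 < l') (hl' : l' < 2 * N)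
    (he' : l' ≠ N) :
    ∑ χ ∈ Finset.univ.filter (· ∈ B), FK M P e χ₀ x₀ χ l' * FK M P e χ₀ x₀ χ l =
      ((2 * N : ℕ) : ℂ) * ((if l' = l then 1 else 0) + (if l' = 2 * N - l then 1 else 0)) := by
  have h1 := NK_gram h.hP h.w_order h.hK (h.w_mem h0' hl' he') (h.w_mem h0 hl he)
  have h2 := h.hall.gram_rot (fun g => Subgroup.mem_top g) h0 hl he h0' hl' he'
  have h3 : ∑ χ : IrrCharacter G, NK M P e χ₀ χ ((x₀ ^ l' : P) : K) * conj (NK M P e χ₀ χ ((x₀ ^ l : P) : K)) =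
      ∑ χ ∈ Finset.univ.filter (· ∈ B), FK M P e χ₀ x₀ χ l' * FK M P e χ₀ x₀ χ l := by
    rw [Finset.sum_filter]
    refine Finset.sum_congr rfl fun χ _ => ?_
    by_cases hχ : χ ∈ B
    · rw [if_pos hχ]
      show FK M P e χ₀ x₀ χ l' * conj (FK M P e χ₀ x₀ χ l) = _
      rw [h.F_real]
    · rw [if_neg hχ]
      show FK M P e χ₀ x₀ χ l' * conj (FK M P e χ₀ x₀ χ l) = _
      rw [h.F_vanish hχ h0' hl' he', zero_mul]
  rw [← h3, h1, h2]

open Classical in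
/-- The Fourier data. -/
theorem fq [Fintype P] {ζ : ℂ} (hζ : IsPrimitiveRoot ζ (2 ^ k)) :
    FQ (Finset.univ.filter (· ∈ B)) (FK M P e χ₀ x₀) k ζ where
  hk := h.hk
  hζ := hζ
  flip := by
    intro l h0 hl χ
    rw [h.hNk] at hl ⊢
    exact h.F_flip χ hl.le
  ortho := by
    intro l l' h0 hl he h0' hl' he'
    rw [h.half_eq] at he he'
    rw [h.hNk] at hl hl' ⊢
    exact h.F_gram h0 hl he h0' hl' he'

/-- **The multiplicities are natural numbers.** -/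
theorem qc_nat {ζ : ℂ} (hζ : IsPrimitiveRoot ζ (2 ^ k)) (κ : ℕ) (χ : IrrCharacter G) :
    ∃ n : ℕ, qc (FK M P e χ₀ x₀) ζ (2 ^ k) κ χ = n := by
  classical
  have hex : ∀ (κ' : ℕ) (ϑ : IrrCharacter K), ∃ n : ℕ, ((2 ^ k : ℕ) : ℂ)⁻¹ *
      ∑ l ∈ Finset.range (2 ^ k), ζ ^ (κ' * l) * (L ϑ : P → ℂ) (x₀ ^ l) = n :=
    fun κ' ϑ => h.hall.exists_nat_mult h.hNk hζ κ' (L ϑ)
  choose n hn using hex
  refine ⟨∑ ϑ ∈ Finset.univ.filter (· ∈ b), mmK χ ϑ * n κ ϑ, ?_⟩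
  unfold qc FK
  have h1 : ∀ l, ζ ^ (κ * l) * NK M P e χ₀ χ ((x₀ ^ l : P) : K) =
      ∑ ϑ ∈ Finset.univ.filter (· ∈ b), (mmK χ ϑ : ℂ) * (ζ ^ (κ * l) * (L ϑ : P → ℂ) (x₀ ^ l)) := by
    intro l
    rw [NK_eq_sum h.hP χ (x₀ ^ l), Finset.mul_sum]
    refine Finset.sum_congr rfl fun ϑ _ => ?_
    ring
  simp only [h1]
  rw [Finset.sum_comm, Finset.mul_sum]
  push_cast
  refine Finset.sum_congr rfl fun ϑ _ => ?_
  rw [← Finset.mul_sum, mul_left_comm]
  have h5 := hn κ ϑ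
  push_cast at h5
  rw [h5]

theorem order_coe (l : ℕ) : ∃ j : ℕ, orderOf (((x₀ ^ l : P) : K) : G) = 2 ^ j := by
  obtain ⟨j, hj⟩ := h.hP.pow_eq_one (x₀ ^ l)
  have h1 : (((x₀ ^ l : P) : K) : G) ^ 2 ^ j = 1 := by
    have := congrArg Subtype.val hj
    simpa using this
  obtain ⟨i, -, hi⟩ := (Nat.dvd_prime_pow Nat.prime_two).mp (orderOf_dvd_of_pow_eq_one h1)
  exact ⟨i, hi⟩

open Classical in
/-- **Orthogonality of a column and a section.** -/
theorem F_orth {g u : G} (hg : IsPPart 2 g u) {l : ℕ} (hnc : ¬ IsConj u (((x₀ ^ l : P) : K) : G)) :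
    ∑ χ ∈ Finset.univ.filter (· ∈ B), (χ : G → ℂ) g * FK M P e χ₀ x₀ χ l = 0 := by
  haveI : Fact (Nat.Prime 2) := ⟨Nat.prime_two⟩
  have h1 : ∀ χ : IrrCharacter G, (χ : G → ℂ) g * FK M P e χ₀ x₀ χ l =
      wt P ((x₀ ^ l : P) : K) * ∑ c ∈ regC 2 ((x₀ ^ l : P) : K), PHI M 2 P e χ₀ ((x₀ ^ l : P) : K) c *
        ((χ : G → ℂ) g * conj ((χ : G → ℂ) (((x₀ ^ l : P) : K) * c : K))) := by
    intro χ
    rw [← h.F_real χ l]
    unfold FK NK NPack.Cf
    rw [map_mul, NPack.wt_conj, map_sum, mul_left_comm, Finset.mul_sum]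
    congr 1
    refine Finset.sum_congr rfl fun c _ => ?_
    rw [map_mul, Complex.conj_conj]
    ring
  simp only [h1]
  rw [← Finset.mul_sum, Finset.sum_comm]
  apply mul_eq_zero_of_right
  refine Finset.sum_eq_zero fun c hc => ?_
  rw [← Finset.mul_sum]
  apply mul_eq_zero_of_right
  obtain ⟨hcK, hcreg⟩ := mem_regC.mp hc
  obtain ⟨j, hj⟩ := h.order_coe l
  have hcomm : ((((x₀ ^ l : P) : K) : G)) * (c : G) = (c : G) * ((((x₀ ^ l : P) : K) : G)) := by
    have := mem_centralizer_zpowers_iff.mp hcK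
    exact (congrArg Subtype.val this).symm
  have hp2 : IsPPart 2 ((((x₀ ^ l : P) : K) * c : K) : G) (((x₀ ^ l : P) : K) : G) :=
    ⟨c, rfl, hcomm, ⟨j, hj⟩, by rwa [Subgroup.orderOf_coe]⟩
  have h2 := block_orthogonality h.hP.hMp hg hp2 hnc h.hB
  rw [Osima.finsum_mem_eq_sum_filter] at h2
  refine Eq.trans (Finset.sum_congr rfl fun χ _ => ?_) h2
  rw [Cfsg.Agent.Lib.Char.Ortho.conj_of_isCharacter (Cfsg.Agent.Lib.Char.Basic.isCharacter_of_isIrrCharacter χ.2)]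

/-- Rotations are nontrivial. -/
theorem rot_ne_one {l : ℕ} (h0 : 0 < l) (hl : l < 2 * N) : (((x₀ ^ l : P) : K) : G) ≠ 1 := by
  intro hh
  have h1 : x₀ ^ l = 1 := h.coe_inj (by simpa using hh)
  have h2 := orderOf_dvd_of_pow_eq_one h1
  rw [h.hall.hxo] at h2
  have := Nat.le_of_dvd h0 h2
  omega

open Classical in
/-- Orthogonality of a column and the degrees. -/
theorem F_orth_one {l : ℕ} (h0 : 0 < l) (hl : l < 2 * N) :
    ∑ χ ∈ Finset.univ.filter (· ∈ B), (χ : G → ℂ) 1 * FK M P e χ₀ x₀ χ l = 0 := by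
  have hp : IsPPart 2 (1 : G) 1 := by
    refine ⟨1, mul_one 1, Commute.one_right 1, ⟨0, by simp⟩, ?_⟩
    rw [orderOf_one]
    exact Nat.not_dvd_of_pos_of_lt one_pos (by norm_num)
  refine h.F_orth hp ?_
  intro hc
  have h1 := isConj_one_right.mp hc
  exact h.rot_ne_one h0 hl (by rw [← h1])

end QCol

end QC

end Cfsg.Agent.Lib.Blocks.Quat
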