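/-
Tame blocks: the columns of a block with dihedral defect group on the rotations.
-/
import Mathlib
import Cfsg.Agent.Lib.Blocks.TameA2
import Cfsg.Agent.Lib.Blocks.TameS

set_option autoImplicit false
set_option linter.style.haveILetI false

namespace Cfsg.Agent.Lib.Blocks.Tame

open Cfsg Cfsg.Agent.Lib.Blocks.Local Cfsg.Agent.Lib.Blocks.Central Cfsg.Agent.Lib.Blocks.Osima
open Cfsg.Agent.Lib.Blocks.Covering Cfsg.Agent.Lib.Blocks.BlockHom Cfsg.Agent.Lib.Blocks.Pairs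
open Cfsg.Agent.Lib.Blocks.Twisted Cfsg.Agent.Lib.Blocks.Necklace Cfsg.Agent.Lib.Blocks.Sections
open Cfsg.Agent.Lib.Blocks.Regular Cfsg.Agent.Lib.Blocks.BlockCount Cfsg.Agent.Lib.Blocks.Nilp
open Cfsg.Agent.Lib.Blocks.Transport Cfsg.Agent.Lib.Blocks.MajorSub
open Cfsg.Agent.Lib.Char.Ortho
open scoped ComplexConjugate

universe u

section Col

variable {G : Type u} [Group G] [Fintype G] {M : Ideal AlgInt} [hM : M.IsPrime]
  {z : G} [Fintype (Cen z)] {b : Set (IrrCharacter (Cen z))} {P : Subgroup (Cen z)}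
  {e : Set (IrrCharacter (Subgroup.centralizer (P : Set (Cen z))))} {χ₀ : IrrCharacter (Cen z)}
  {L : IrrCharacter (Cen z) → IrrCharacter P}

/-- The data of the columns. -/
structure Col (M : Ideal AlgInt) [M.IsPrime] (B : Set (IrrCharacter G)) (b : Set (IrrCharacter (Cen z)))
    (P : Subgroup (Cen z)) (e : Set (IrrCharacter (Subgroup.centralizer (P : Set (Cen z)))))
    (χ₀ : IrrCharacter (Cen z)) (L : IrrCharacter (Cen z) → IrrCharacter P) (x₀ a₀ : P) (N k : ℕ) : Prop where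
  hB : IsPBlock M B
  hind : IsInducedBlock M (Cen z) b B
  hP : NPack M 2 b P e χ₀ L
  hall : DihD (⊤ : Subgroup P) x₀ a₀ N
  hzx : (((x₀ ^ N : P) : Cen z) : G) = z
  hcard : Nat.card P = 4 * N
  hk : 2 ≤ k
  hNk : 2 ^ k = 2 * N

/-- The column of `χ` at the rotation `x^l`. -/
noncomputable def FF (M : Ideal AlgInt) (P : Subgroup (Cen z))
    (e : Set (IrrCharacter (Subgroup.centralizer (P : Set (Cen z))))) (χ₀ : IrrCharacter (Cen z)) (x₀ : P)
    (χ : IrrCharacter G) (l : ℕ) : ℂ :=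
  NN M P e χ₀ χ ((x₀ ^ l : P) : Cen z)

namespace Col

variable {B : Set (IrrCharacter G)} {x₀ a₀ : P} {N k : ℕ} (h : Col M B b P e χ₀ L x₀ a₀ N k)
include h

theorem hzz : z * z = 1 := by
  have h1 := h.hall.zz_sq
  have h2 := congrArg (fun y : P => ((y : Cen z) : G)) h1
  simp only [Subgroup.coe_mul, DihD.zz, OneMemClass.coe_one] at h2
  rwa [h.hzx] at h2

theorem hz1 : z ≠ 1 := by
  intro h0
  have h1 := h.hall.zz_ne_one
  apply h1
  apply Subtype.ext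
  apply Subtype.ext
  simp only [DihD.zz, OneMemClass.coe_one]
  rw [h.hzx, h0]

theorem hzero {l : ℕ} (h0 : 0 < l) (hl : l < 2 * N) : z ∈ Subgroup.zpowers ((((x₀ ^ l : P) : Cen z) : G)) := by
  have hne : x₀ ^ l ≠ 1 := by
    intro h1
    have h2 := orderOf_dvd_of_pow_eq_one h1
    rw [h.hall.hxo] at h2
    have := Nat.le_of_dvd h0 h2
    omega
  obtain ⟨m, hm⟩ := h.hall.zz_mem_zpowers hne
  refine ⟨m, ?_⟩
  have h2 := congrArg (fun y : P => ((y : Cen z) : G)) hm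
  simp only [DihD.zz] at h2
  rw [h.hzx] at h2
  refine Eq.trans ?_ h2
  simp

/-- The columns are real. -/
theorem F_real (χ : IrrCharacter G) (l : ℕ) : conj (FF M P e χ₀ x₀ χ l) = FF M P e χ₀ x₀ χ l := by
  classical
  unfold FF
  rw [NN_eq_sum h.hP χ (x₀ ^ l), map_sum]
  refine Finset.sum_congr rfl fun ϑ _ => ?_
  rw [map_mul, Complex.conj_natCast, h.hall.irr_rot_real]

/-- The flip of the columns. -/
theorem F_flip (χ : IrrCharacter G) {l : ℕ} (hl : l ≤ 2 * N) :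
    FF M P e χ₀ x₀ χ (2 * N - l) = FF M P e χ₀ x₀ χ l := by
  classical
  unfold FF
  rw [NN_eq_sum h.hP χ (x₀ ^ (2 * N - l)), NN_eq_sum h.hP χ (x₀ ^ l)]
  refine Finset.sum_congr rfl fun ϑ _ => ?_
  rw [h.hall.irr_rot_flip _ hl]

/-- The columns vanish off the block. -/
theorem F_vanish {χ : IrrCharacter G} (hχ : χ ∉ B) {l : ℕ} (h0 : 0 < l) (hl : l < 2 * N) :
    FF M P e χ₀ x₀ χ l = 0 :=
  NN_vanish h.hB h.hind h.hP hχ (h.hzero h0 hl)

open Classical in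
/-- **The Gram matrix of the columns on the block.** -/
theorem F_gram [Fintype P] {l l' : ℕ} (h0 : 0 < l) (hl : l < 2 * N) (h0' : 0 < l') (hl' : l' < 2 * N) :
    ∑ χ ∈ Finset.univ.filter (· ∈ B), FF M P e χ₀ x₀ χ l' * FF M P e χ₀ x₀ χ l =
      ((2 * N : ℕ) : ℂ) * ((if l' = l then 1 else 0) + (if l' = 2 * N - l then 1 else 0)) := by
  have h1 := NN_gram h.hzz h.hz1 h.hP (h.hzero h0' hl') (h.hzero h0 hl)
  have h2 := h.hall.gram_rot (fun g => Subgroup.mem_top g) h.hcard h0 hl h0' hl'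
  have h3 : ∑ χ : IrrCharacter G, NN M P e χ₀ χ ((x₀ ^ l' : P) : Cen z) * conj (NN M P e χ₀ χ ((x₀ ^ l : P) : Cen z)) =
      ∑ χ ∈ Finset.univ.filter (· ∈ B), FF M P e χ₀ x₀ χ l' * FF M P e χ₀ x₀ χ l := by
    rw [Finset.sum_filter]
    refine Finset.sum_congr rfl fun χ _ => ?_
    by_cases hχ : χ ∈ B
    · rw [if_pos hχ]
      show FF M P e χ₀ x₀ χ l' * conj (FF M P e χ₀ x₀ χ l) = _
      rw [h.F_real]
    · rw [if_neg hχ]
      show FF M P e χ₀ x₀ χ l' * conj (FF M P e χ₀ x₀ χ l) = _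
      rw [h.F_vanish hχ h0' hl', zero_mul]
  rw [← h3, h1, h2]

open Classical in
/-- The Fourier data. -/
theorem fd [Fintype P] {ζ : ℂ} (hζ : IsPrimitiveRoot ζ (2 ^ k)) :
    FD (Finset.univ.filter (· ∈ B)) (FF M P e χ₀ x₀) k ζ where
  hk := h.hk
  hζ := hζ
  flip := by
    intro l h0 hl χ
    rw [h.hNk] at hl ⊢
    exact h.F_flip χ hl.le
  ortho := by
    intro l l' h0 hl h0' hl'
    rw [h.hNk] at hl hl' ⊢
    exact h.F_gram h0 hl h0' hl'

open Classical in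
/-- **The multiplicities are integers.** -/
theorem cc_int {ζ : ℂ} (hζ : IsPrimitiveRoot ζ (2 ^ k)) (κ : ℕ) (χ : IrrCharacter G) :
    ∃ n : ℤ, cc (FF M P e χ₀ x₀) ζ (2 ^ k) κ χ = n := by
  have hex : ∀ (κ' : ℕ) (ϑ : IrrCharacter (Cen z)), ∃ n : ℕ, ((2 ^ k : ℕ) : ℂ)⁻¹ *
      ∑ l ∈ Finset.range (2 ^ k), ζ ^ (κ' * l) * (L ϑ : P → ℂ) (x₀ ^ l) = n :=
    fun κ' ϑ => h.hall.exists_nat_mult h.hNk hζ κ' (L ϑ)
  choose n hn using hex
  refine ⟨∑ ϑ ∈ Finset.univ.filter (· ∈ b), (mm χ ϑ : ℤ) * ((n κ ϑ : ℤ) - n 0 ϑ), ?_⟩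
  unfold cc FF
  have h1 : ∀ l, (ζ ^ (κ * l) - 1) * NN M P e χ₀ χ ((x₀ ^ l : P) : Cen z) =
      ∑ ϑ ∈ Finset.univ.filter (· ∈ b), (mm χ ϑ : ℂ) * (ζ ^ (κ * l) * (L ϑ : P → ℂ) (x₀ ^ l) -
        ζ ^ (0 * l) * (L ϑ : P → ℂ) (x₀ ^ l)) := by
    intro l
    rw [NN_eq_sum h.hP χ (x₀ ^ l), Finset.mul_sum]
    refine Finset.sum_congr rfl fun ϑ _ => ?_
    simp only [zero_mul, pow_zero, one_mul]
    ring
  simp only [h1]
  rw [Finset.sum_comm, Finset.mul_sum]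
  simp only [Int.cast_sum, Int.cast_mul, Int.cast_sub, Int.cast_natCast]
  refine Finset.sum_congr rfl fun ϑ _ => ?_
  rw [← Finset.mul_sum, mul_left_comm, Finset.sum_sub_distrib, mul_sub, hn, hn]

end Col

end Col

end Cfsg.Agent.Lib.Blocks.Tame
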