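/-
Tame blocks: the column at the central involution and the heights.
-/
import Mathlib
import Cfsg.Agent.Lib.Blocks.TameF

set_option autoImplicit false
set_option linter.style.haveILetI false

namespace Cfsg.Agent.Lib.Blocks.Tame

open Cfsg Cfsg.Agent.Lib.Blocks.Local Cfsg.Agent.Lib.Blocks.Central Cfsg.Agent.Lib.Blocks.Osima
open Cfsg.Agent.Lib.Blocks.Covering Cfsg.Agent.Lib.Blocks.BlockHom Cfsg.Agent.Lib.Blocks.Pairs
open Cfsg.Agent.Lib.Blocks.Twisted Cfsg.Agent.Lib.Blocks.Necklace Cfsg.Agent.Lib.Blocks.Sections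
open Cfsg.Agent.Lib.Blocks.Regular Cfsg.Agent.Lib.Blocks.BlockCount Cfsg.Agent.Lib.Blocks.Nilp
open Cfsg.Agent.Lib.Blocks.Transport Cfsg.Agent.Lib.Blocks.MajorSub
open Cfsg.Agent.Lib.Char.Ortho
open scoped ComplexConjugate

universe u

section Val

variable {M : Ideal AlgInt} [hM : M.IsPrime]

/-- An integer which is `2^h` times a unit. -/
lemma int_val_of_local (hMp : IsPModular 2 M) {h : ℕ} {W : ℤ} {y : ℂ} (hW : (W : ℂ) = 2 ^ h * y)
    (hy2 : ¬ MemLocalIdeal M y) (hy1 : MemLocalRing M y) : ∃ r : ℤ, Odd r ∧ W = 2 ^ h * r := by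
  induction h generalizing W with
  | zero =>
    refine ⟨W, ?_, by simp⟩
    rw [pow_zero, one_mul] at hW
    rw [← hW] at hy2
    rw [memLocalIdeal_intCast_iff hMp] at hy2
    have h1 : ¬ (2 : ℤ) ∣ W := by exact_mod_cast hy2
    exact Int.not_even_iff_odd.mp (fun h2 => h1 h2.two_dvd)
  | succ h ih =>
    have h1 : MemLocalIdeal M (W : ℂ) := by
      rw [hW, pow_succ', mul_assoc]
      have := memLocalIdeal_natCast_self hMp
      push_cast at this
      exact memLocalIdeal_mul_right this (memLocalRing_mul (memLocalRing_pow (memLocalRing_natCast 2 |> fun h => by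
        push_cast at h; exact h) h) hy1)
    rw [memLocalIdeal_intCast_iff hMp] at h1
    obtain ⟨W', rfl⟩ := h1
    have h2 : (W' : ℂ) = 2 ^ h * y := by
      have h3 : ((2 : ℕ) : ℂ) * (W' : ℂ) = 2 * (2 ^ h * y) := by
        have : (((2 : ℕ) : ℤ) * W' : ℤ) = ((2 : ℕ) : ℤ) * W' := rfl
        push_cast at hW ⊢
        rw [hW, pow_succ]
        ring
      push_cast at h3
      exact mul_left_cancel₀ two_ne_zero h3
    obtain ⟨r, hr, hW'⟩ := ih h2
    refine ⟨r, hr, ?_⟩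
    rw [hW', pow_succ]
    push_cast
    ring

end Val

section Heights

variable {G : Type u} [Group G] [Fintype G] {M : Ideal AlgInt} [hM : M.IsPrime]
  {z : G} [Fintype (Cen z)] {b : Set (IrrCharacter (Cen z))} {P : Subgroup (Cen z)}
  {e : Set (IrrCharacter (Subgroup.centralizer (P : Set (Cen z))))} {χ₀ : IrrCharacter (Cen z)}
  {L : IrrCharacter (Cen z) → IrrCharacter P}

namespace Col

variable {B : Set (IrrCharacter G)} {x₀ a₀ : P} {N k : ℕ} (h : Col M B b P e χ₀ L x₀ a₀ N k)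
include h

theorem zP_eq : ((x₀ ^ N : P) : Cen z) = uC z := Subtype.ext h.hzx

/-- The regular part of the section of `χ` at `z`. -/
theorem gg_eq_smul (χ : IrrCharacter G) :
    gg 2 b χ = FF M P e χ₀ x₀ χ N • reg 2 (χ₀ : Cen z → ℂ) := by
  classical
  haveI : Fact (Nat.Prime 2) := ⟨Nat.prime_two⟩
  have hcen : IsCen (((x₀ ^ N : P) : Cen z)) := by
    intro g
    rw [h.zP_eq]
    exact uC_comm z g
  rw [gg_eq]
  unfold FF
  rw [NN_eq_sum h.hP χ (x₀ ^ N), Finset.sum_smul]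
  refine Finset.sum_congr rfl fun μ hμ => ?_
  have hμb : μ ∈ b := by simpa using hμ
  have h1 := h.hP.hcen μ hμb (x₀ ^ N) hcen
  rw [h.zP_eq] at h1
  have h2 : reg 2 (μ : Cen z → ℂ) = (L μ : P → ℂ) 1 • reg 2 (χ₀ : Cen z → ℂ) := by
    funext c
    simp only [Pi.smul_apply, smul_eq_mul]
    by_cases hc : 2 ∣ orderOf c
    · rw [reg_of_dvd _ hc, reg_of_dvd _ hc, mul_zero]
    · rw [reg_of_not_dvd _ hc, reg_of_not_dvd _ hc]
      exact h.hP.hreg μ hμb c hc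
  rw [h2, smul_smul, h1]
  congr 1
  simp only [nu]
  ring

/-- The numbers `x`. -/
theorem XX_eq_mul (χ χ' : IrrCharacter G) :
    XX 2 b χ χ' = FF M P e χ₀ x₀ χ N * conj (FF M P e χ₀ x₀ χ' N) := by
  classical
  haveI : Fact (Nat.Prime 2) := ⟨Nat.prime_two⟩
  have hdef : IsDefectGroup 2 M b P := isDefectGroup_of_maximal h.hP.hMp h.hP.hmax
  have hcard := Cfsg.Agent.S0908.result 2 M h.hP.hMp b h.hP.hmax.1.2.1 P hdef
  have hPf : (Pf P).card = Nat.card P := by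
    rw [Nat.card_eq_fintype_card, Fintype.card_subtype]
    rfl
  have hR := h.hP.hR
  rw [hPf, hcard] at hR
  rw [XX, h.gg_eq_smul, h.gg_eq_smul, classInner_smul_left, classInner_smul_right, MajorSub.classInner_reg_reg]
  push_cast at hR ⊢
  calc (2 : ℂ) ^ blockDefect 2 b * (FF M P e χ₀ x₀ χ N * (conj (FF M P e χ₀ x₀ χ' N) * classInner (reg 2 (χ₀ : Cen z → ℂ)) (χ₀ : Cen z → ℂ)))
      = (FF M P e χ₀ x₀ χ N * conj (FF M P e χ₀ x₀ χ' N)) * ((2 : ℂ) ^ blockDefect 2 b * classInner (reg 2 (χ₀ : Cen z → ℂ)) (χ₀ : Cen z → ℂ)) := by ring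
    _ = _ := by rw [hR, mul_one]

/-- **The valuation of the column at `z` is the height.** -/
theorem height_val (hd : blockDefect 2 b = blockDefect 2 B) {w : IrrCharacter G → ℤ}
    (hw : ∀ χ, FF M P e χ₀ x₀ χ N = w χ) {χ : IrrCharacter G} (hχ : χ ∈ B) :
    ∃ r : ℤ, Odd r ∧ w χ = 2 ^ blockHeight 2 B (χ : G → ℂ) * r := by
  classical
  haveI : Fact (Nat.Prime 2) := ⟨Nat.prime_two⟩
  have hMp := h.hP.hMp
  have hzo : orderOf z = 2 ^ 1 := by
    rw [pow_one]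
    exact orderOf_eq_prime (by rw [sq]; exact h.hzz) h.hz1
  obtain ⟨χ₁, hχ₁, h₁⟩ := Cfsg.Agent.Lib.Blocks.HeightZero.exists_height_zero (p := 2)
    (Cfsg.Agent.Lib.Blocks.Pairs.isPBlock_nonempty h.hB)
  have hconj : ∀ χ' : IrrCharacter G, conj (FF M P e χ₀ x₀ χ' N) = (w χ' : ℂ) := by
    intro χ'
    rw [h.F_real, hw]
  -- `w χ₁` is odd
  have hodd : Odd (w χ₁) := by
    have h1 := Cfsg.Agent.Lib.Blocks.MajorSub2.XX_not_mem hMp hzo h.hind hχ₁ hχ₁ h₁ h₁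
    rw [h.XX_eq_mul, hconj, hw] at h1
    by_contra h2
    apply h1
    have h3 : Even (w χ₁) := Int.not_odd_iff_even.mp h2
    obtain ⟨t, ht⟩ := h3.two_dvd
    have h4 : MemLocalIdeal M ((w χ₁ : ℤ) : ℂ) := by
      rw [memLocalIdeal_intCast_iff hMp]
      exact_mod_cast h3.two_dvd
    exact memLocalIdeal_mul_right h4 (memLocalRing_intCast _)
  have h1 := Cfsg.Agent.Lib.Blocks.MajorSub2.XX_eq_pow_mul hMp h.hind.1 hd hχ χ₁
  have h2 := Cfsg.Agent.Lib.Blocks.MajorSub2.yy_not_mem hMp hzo h.hind hd hχ hχ₁ h₁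
  have h3 := Cfsg.Agent.Lib.Blocks.MajorSub2.memLocalRing_yy hMp hzo b χ χ₁
  rw [h.XX_eq_mul, hconj, hw] at h1
  have h4 : ((w χ * w χ₁ : ℤ) : ℂ) = 2 ^ blockHeight 2 B (χ : G → ℂ) * Cfsg.Agent.Lib.Blocks.MajorSub2.yy 2 b χ χ₁ := by
    push_cast
    push_cast at h1
    exact h1
  obtain ⟨r, hr, hW⟩ := int_val_of_local hMp h4 h2 h3
  have hcop : IsCoprime (2 ^ blockHeight 2 B (χ : G → ℂ) : ℤ) (w χ₁) := by
    apply IsCoprime.pow_left
    obtain ⟨t, ht⟩ := hodd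
    exact ⟨-t, 1, by rw [ht]; ring⟩
  have hdvd : (2 ^ blockHeight 2 B (χ : G → ℂ) : ℤ) ∣ w χ := by
    apply hcop.dvd_of_dvd_mul_right
    rw [hW]
    exact dvd_mul_right _ _
  obtain ⟨r', hr'⟩ := hdvd
  refine ⟨r', ?_, hr'⟩
  rw [hr'] at hW
  have hpow : (2 : ℤ) ^ blockHeight 2 B (χ : G → ℂ) ≠ 0 := pow_ne_zero _ two_ne_zero
  have h5 : r' * w χ₁ = r := by
    apply mul_left_cancel₀ hpow
    rw [← hW]
    ring
  rw [← h5] at hr
  exact (Int.odd_mul.mp hr).1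

end Col

end Heights

end Cfsg.Agent.Lib.Blocks.Tame
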