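/-
Quaternion defect groups: the valuation of the column at the central involution and the numbers `x`
of the major subsection.
-/
import Mathlib
import Cfsg.Agent.Lib.Blocks.Quat5
import Cfsg.Agent.Lib.Blocks.TameF2
import Cfsg.Agent.Lib.Char.IndRep
import Cfsg.Agent.Lib.Char.Induced

set_option autoImplicit false
set_option linter.style.haveILetI false

namespace Cfsg.Agent.Lib.Blocks.Quat

open Cfsg Cfsg.Agent.Lib.Blocks.Local Cfsg.Agent.Lib.Blocks.Central Cfsg.Agent.Lib.Blocks.Osima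
open Cfsg.Agent.Lib.Blocks.Covering Cfsg.Agent.Lib.Blocks.BlockHom Cfsg.Agent.Lib.Blocks.Pairs
open Cfsg.Agent.Lib.Blocks.Twisted Cfsg.Agent.Lib.Blocks.Necklace Cfsg.Agent.Lib.Blocks.Sections
open Cfsg.Agent.Lib.Blocks.Regular Cfsg.Agent.Lib.Blocks.BlockCount Cfsg.Agent.Lib.Blocks.Nilp
open Cfsg.Agent.Lib.Blocks.Transport Cfsg.Agent.Lib.Blocks.MajorSub Cfsg.Agent.Lib.Blocks.Tame
open Cfsg.Agent.Lib.Blocks.DihS Cfsg.Agent.Lib.Blocks.MajorSub2
open Cfsg.Agent.Lib.Blocks.BrauerFeit Cfsg.Agent.Lib.Blocks.HeightZero Cfsg.Agent.Lib.Blocks.SubsectionNorm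
open Cfsg.Agent.Lib.Char.Ortho
open scoped ComplexConjugate

universe u

section Val

variable {M : Ideal AlgInt} [hM : M.IsPrime]

/-- An integer which is `2^h` times a local number. -/
lemma int_dvd_of_local (hMp : IsPModular 2 M) {h : ℕ} {W : ℤ} {y : ℂ} (hW : (W : ℂ) = 2 ^ h * y)
    (hy1 : MemLocalRing M y) : ∃ r : ℤ, W = 2 ^ h * r := by
  induction h generalizing W with
  | zero => exact ⟨W, by simp⟩
  | succ h ih =>
    have h1 : MemLocalIdeal M (W : ℂ) := by
      rw [hW, pow_succ', mul_assoc]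
      have := memLocalIdeal_natCast_self hMp
      push_cast at this
      exact memLocalIdeal_mul_right this (memLocalRing_mul (memLocalRing_pow (memLocalRing_natCast 2 |> fun h => by
        push_cast at h; exact h) h) hy1)
    rw [memLocalIdeal_intCast_iff hMp] at h1
    obtain ⟨W', rfl⟩ := h1
    have h2 : (W' : ℂ) = 2 ^ h * y := by
      have h3 : ((2 : ℕ) : ℂ) * (W' : ℂ) = 2 * (2 ^ h * y) := by
        push_cast at hW ⊢
        rw [hW, pow_succ]
        ring
      push_cast at h3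
      exact mul_left_cancel₀ two_ne_zero h3
    obtain ⟨r, hW'⟩ := ih h2
    refine ⟨r, ?_⟩
    rw [hW', pow_succ]
    push_cast
    ring

/-- A complex number in the closure of `±1` is an integer. -/
lemma exists_int_of_mem_rootSums {x : ℂ} (hx : x ∈ Cfsg.Agent.Lib.Blocks.GaloisAvg.rootSums (2 ^ 1)) : ∃ n : ℤ, x = n := by
  induction hx using AddSubgroup.closure_induction with
  | mem z hz =>
    have h1 : z ^ 2 = 1 := by simpa using hz
    have h2 : z * z = 1 := by rw [← sq]; exact h1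
    rcases mul_self_eq_one_iff.mp h2 with h | h
    · exact ⟨1, by simp [h]⟩
    · exact ⟨-1, by simp [h]⟩
  | zero => exact ⟨0, by simp⟩
  | add a b _ _ ha hb =>
    obtain ⟨m, rfl⟩ := ha
    obtain ⟨n, rfl⟩ := hb
    exact ⟨m + n, by push_cast; rfl⟩
  | neg a _ ha =>
    obtain ⟨m, rfl⟩ := ha
    exact ⟨-m, by push_cast; rfl⟩

end Val

section Omega

variable {G : Type u} [Group G] [Fintype G] {M : Ideal AlgInt} [hM : M.IsPrime] {p : ℕ} [hp : Fact p.Prime]

/-- The cofactor of a central element. -/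
noncomputable def yw (p : ℕ) (χ : IrrCharacter G) (E : MonoidAlgebra ℂ G) : ℂ :=
  ((ordCompl[p] (charDegree (χ : G → ℂ)) : ℕ) : ℂ) * (((ordCompl[p] (Nat.card G) : ℕ) : ℂ)⁻¹ * omega (χ : G → ℂ) E)

/-- The height splits off. -/
theorem pow_mul_yw {B : Set (IrrCharacter G)} {χ : IrrCharacter G} (hχ : χ ∈ B) (E : MonoidAlgebra ℂ G) :
    (p : ℂ) ^ blockDefect p B * (((χ : G → ℂ) 1 / (Nat.card G : ℂ)) * omega (χ : G → ℂ) E) =
      (p : ℂ) ^ blockHeight p B (χ : G → ℂ) * yw p χ E := by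
  rw [yw]
  have h1 : ((χ : G → ℂ) 1) = (p : ℂ) ^ (mu p B + blockHeight p B (χ : G → ℂ)) * ((ordCompl[p] (charDegree (χ : G → ℂ)) : ℕ) : ℂ) := by
    rw [← Cfsg.Agent.Lib.Blocks.RegInt.charDegree_cast, mu_add_height hχ, ← Nat.cast_pow, ← Nat.cast_mul,
      Nat.ordProj_mul_ordCompl_eq_self]
  have h2 : (Nat.card G : ℂ) = (p : ℂ) ^ (blockDefect p B + mu p B) * ((ordCompl[p] (Nat.card G) : ℕ) : ℂ) := by
    rw [defect_add_mu hχ, ← Nat.cast_pow, ← Nat.cast_mul, Nat.ordProj_mul_ordCompl_eq_self]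
  have hp0 : (p : ℂ) ≠ 0 := by exact_mod_cast hp.out.ne_zero
  have hf : ((ordCompl[p] (Nat.card G) : ℕ) : ℂ) ≠ 0 := by
    have : ordCompl[p] (Nat.card G) ≠ 0 := (Nat.ordCompl_pos p Nat.card_pos.ne').ne'
    exact_mod_cast this
  rw [h1, h2, pow_add, pow_add]
  field_simp

lemma memLocalRing_yw (hMp : IsPModular p M) (χ : IrrCharacter G) {E : MonoidAlgebra ℂ G} (hE : E ∈ localCenter G M) :
    MemLocalRing M (yw p χ E) := by
  refine memLocalRing_mul (memLocalRing_natCast _) (memLocalRing_mul ?_ ?_)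
  · exact memLocalRing_inv_natCast hMp (Nat.not_dvd_ordCompl hp.out Nat.card_pos.ne')
  · exact memLocalRing_omega χ.2 hE

/-- Modulo the local ideal, the cofactor is `ω_χ` up to a unit. -/
lemma memLocalIdeal_yw_iff (hMp : IsPModular p M) (χ : IrrCharacter G) {E : MonoidAlgebra ℂ G} (hE : E ∈ localCenter G M) :
    MemLocalIdeal M (yw p χ E) ↔ MemLocalIdeal M (omega (χ : G → ℂ) E) := by
  have hu1 : ¬ MemLocalIdeal M ((ordCompl[p] (charDegree (χ : G → ℂ)) : ℕ) : ℂ) := fun h =>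
    Nat.not_dvd_ordCompl hp.out (Cfsg.Agent.Lib.Blocks.RegInt.charDegree_ne_zero χ)
      ((memLocalIdeal_natCast_iff hMp).1 h)
  have hinv := memLocalRing_inv_natCast (M := M) hMp (Nat.not_dvd_ordCompl hp.out (Nat.card_pos (α := G)).ne')
  have hf : ((ordCompl[p] (Nat.card G) : ℕ) : ℂ) ≠ 0 := by
    have : ordCompl[p] (Nat.card G) ≠ 0 := (Nat.ordCompl_pos p Nat.card_pos.ne').ne'
    exact_mod_cast this
  have hω := memLocalRing_omega (M := M) χ.2 hE
  constructor
  · intro h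
    by_contra hn
    refine not_memLocalIdeal_mul (memLocalRing_natCast _) (memLocalRing_mul hinv hω) hu1 ?_ h
    refine not_memLocalIdeal_mul hinv hω ?_ hn
    intro h1
    have h2 := memLocalIdeal_mul_right h1 (memLocalRing_natCast (M := M) (ordCompl[p] (Nat.card G)))
    rw [inv_mul_cancel₀ hf] at h2
    exact not_memLocalIdeal_one h2
  · intro h
    exact memLocalIdeal_mul_left (memLocalRing_natCast _) (memLocalIdeal_mul_left hinv h)

/-- **An integer column coming from a central element has the height as its valuation, if one value is odd.** -/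
theorem val_of_central (hMp : IsPModular 2 M) {B : Set (IrrCharacter G)} (hB : IsPBlock M B) {w : IrrCharacter G → ℤ}
    {E : MonoidAlgebra ℂ G} (hE : E ∈ localCenter G M)
    (hw : ∀ χ ∈ B, (w χ : ℂ) = (2 : ℂ) ^ blockDefect 2 B * (((χ : G → ℂ) 1 / (Nat.card G : ℂ)) * omega (χ : G → ℂ) E))
    {χ₁ : IrrCharacter G} (hχ₁ : χ₁ ∈ B) (hodd : Odd (w χ₁)) {χ : IrrCharacter G} (hχ : χ ∈ B) :
    ∃ r : ℤ, Odd r ∧ w χ = 2 ^ blockHeight 2 B (χ : G → ℂ) * r := by
  haveI : Fact (Nat.Prime 2) := ⟨Nat.prime_two⟩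
  have hval : ∀ τ ∈ B, (w τ : ℂ) = (2 : ℂ) ^ blockHeight 2 B (τ : G → ℂ) * yw 2 τ E := by
    intro τ hτ
    rw [hw τ hτ]
    have := pow_mul_yw (p := 2) hτ E
    push_cast at this
    exact this
  have h1 : ¬ MemLocalIdeal M (yw 2 χ₁ E) := by
    intro h
    have h2 : MemLocalIdeal M (w χ₁ : ℂ) := by
      rw [hval χ₁ hχ₁]
      exact memLocalIdeal_mul_left (memLocalRing_pow (by
        have := memLocalRing_natCast (M := M) 2
        push_cast at this
        exact this) _) h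
    rw [memLocalIdeal_intCast_iff hMp] at h2
    obtain ⟨t, ht⟩ := hodd
    obtain ⟨s, hs⟩ := h2
    push_cast at hs
    omega
  have h3 : ¬ MemLocalIdeal M (yw 2 χ E) := by
    intro h
    rw [memLocalIdeal_yw_iff hMp _ hE] at h h1
    apply h1
    have h2 : SameBlock M (χ₁ : G → ℂ) (χ : G → ℂ) := by
      obtain ⟨τ, hτ⟩ := hB
      rw [hτ] at hχ₁ hχ
      exact sameBlock_trans (sameBlock_symm hχ₁) hχ
    have h4 := memLocalIdeal_omega_sub χ₁.2 χ.2 h2 hE
    have h5 := memLocalIdeal_add h4 h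
    rwa [sub_add_cancel] at h5
  exact int_val_of_local hMp (hval χ hχ) h3 (memLocalRing_yw hMp χ hE)

end Omega

section Ind

variable {C : Type u} [Group C] [Fintype C]

lemma isClassFunction_reg (p : ℕ) {f : C → ℂ} (hf : IsClassFunction C f) : IsClassFunction C (reg p f) := by
  intro c d
  by_cases h : p ∣ orderOf c
  · have h1 : p ∣ orderOf (d * c * d⁻¹) := by rwa [← MulAut.conj_apply, MulEquiv.orderOf_eq]
    rw [reg_of_dvd _ h, reg_of_dvd _ h1]
  · have h1 : ¬ p ∣ orderOf (d * c * d⁻¹) := by rwa [← MulAut.conj_apply, MulEquiv.orderOf_eq]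
    rw [reg_of_not_dvd _ h, reg_of_not_dvd _ h1, hf]

/-- Regular parts and induction. -/
lemma reg_indFun (p : ℕ) (H : Subgroup C) (θ : H → ℂ) : reg p (indFun H θ) = indFun H (reg p θ) := by
  classical
  funext c
  rw [Cfsg.Agent.Lib.Char.Induced.indFun_apply]
  by_cases hc : p ∣ orderOf c
  · rw [reg_of_dvd _ hc]
    symm
    apply mul_eq_zero_of_right
    refine Finset.sum_eq_zero fun x _ => ?_
    by_cases hx : x⁻¹ * c * x ∈ H
    · rw [Cfsg.Agent.Lib.Char.Induced.extendByZero_of_mem _ _ hx, reg_of_dvd]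
      rw [Subgroup.orderOf_mk]
      have : orderOf (x⁻¹ * c * x) = orderOf c := by
        have := (MulAut.conj x⁻¹).orderOf_eq c
        simpa using this
      rwa [this]
    · rw [Cfsg.Agent.Lib.Char.Induced.extendByZero_of_notMem _ _ hx]
  · rw [reg_of_not_dvd _ hc, Cfsg.Agent.Lib.Char.Induced.indFun_apply]
    congr 1
    refine Finset.sum_congr rfl fun x _ => ?_
    by_cases hx : x⁻¹ * c * x ∈ H
    · rw [Cfsg.Agent.Lib.Char.Induced.extendByZero_of_mem _ _ hx, Cfsg.Agent.Lib.Char.Induced.extendByZero_of_mem _ _ hx,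
        reg_of_not_dvd]
      rw [Subgroup.orderOf_mk]
      have : orderOf (x⁻¹ * c * x) = orderOf c := by
        have := (MulAut.conj x⁻¹).orderOf_eq c
        simpa using this
      rwa [this]
    · rw [Cfsg.Agent.Lib.Char.Induced.extendByZero_of_notMem _ _ hx, Cfsg.Agent.Lib.Char.Induced.extendByZero_of_notMem _ _ hx]

end Ind

section Link

variable {G : Type u} [Group G] [Fintype G] {M : Ideal AlgInt} [hM : M.IsPrime]
  {K : Subgroup G} [Fintype K] {b : Set (IrrCharacter K)} {P : Subgroup K}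
  {e : Set (IrrCharacter (Subgroup.centralizer (P : Set K)))} {χ₀ : IrrCharacter K}
  {L : IrrCharacter K → IrrCharacter P}

/-- The normalizer of a subgroup of order four centralizes the involution. -/
lemma norm_le_cen {w : G} (hw : orderOf w = 4) :
    Subgroup.normalizer ((Subgroup.zpowers w : Subgroup G) : Set G) ≤ Cen (w * w) := by
  intro k hk
  rw [Subgroup.mem_centralizer_singleton_iff]
  have h1 : k * w * k⁻¹ ∈ Subgroup.zpowers w := (Subgroup.mem_normalizer_iff.mp hk w).mp (Subgroup.mem_zpowers w)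
  have hy : orderOf (k * w * k⁻¹) = 4 := by
    rw [← MulAut.conj_apply, MulEquiv.orderOf_eq, hw]
  have hw4 : w ^ 4 = 1 := by rw [← hw]; exact pow_orderOf_eq_one w
  have hkey : ∀ y ∈ Subgroup.zpowers w, orderOf y = 4 → y * y = w * w := by
    rintro y ⟨j, rfl⟩ hj
    have hj' : (w ^ j) ^ 2 ≠ 1 := by
      intro h2
      have := orderOf_dvd_of_pow_eq_one h2
      rw [hj] at this
      norm_num at this
    simp only at hj hj' ⊢
    obtain ⟨q, r, hr, rfl⟩ : ∃ q r : ℤ, (r = 0 ∨ r = 1 ∨ r = 2 ∨ r = 3) ∧ j = 4 * q + r :=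
      ⟨j / 4, j % 4, by omega, by omega⟩
    have h4 : ∀ s : ℤ, w ^ (4 * q + s) = w ^ s := by
      intro s
      rw [zpow_add, zpow_mul]
      have : w ^ (4 : ℤ) = 1 := by exact_mod_cast hw4
      rw [this, one_zpow, one_mul]
    rw [h4] at hj' ⊢
    rcases hr with rfl | rfl | rfl | rfl
    · exact absurd (by simp) hj'
    · simp
    · exfalso
      apply hj'
      rw [← zpow_natCast, ← zpow_mul]
      have : w ^ (4 : ℤ) = 1 := by exact_mod_cast hw4
      simpa using this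
    · rw [← zpow_add]
      have h6 : w ^ ((3 : ℤ) + 3) = w ^ (4 : ℤ) * w ^ (2 : ℤ) := by
        rw [← zpow_add]
        norm_num
      have : w ^ (4 : ℤ) = 1 := by exact_mod_cast hw4
      rw [h6, this, one_mul, zpow_two]
  have h2 := hkey _ h1 hy
  calc k * (w * w) = (k * w * k⁻¹ * (k * w * k⁻¹)) * k := by group
    _ = (w * w) * k := by rw [h2]

lemma isClassFunction_secZ (χ : IrrCharacter G) (x : G) [Fintype (Cen x)] :
    IsClassFunction (Cen x) (fun c : Cen x => (χ : G → ℂ) (x * c)) := by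
  intro c d
  show (χ : G → ℂ) (x * (((d * c * d⁻¹ : Cen x)) : G)) = (χ : G → ℂ) (x * c)
  have hd : Commute (d : G) x := by
    have := Subgroup.mem_centralizer_iff.mp d.2 x rfl
    exact this.symm
  have h1 : x * (((d * c * d⁻¹ : Cen x)) : G) = (d : G) * (x * c) * (d : G)⁻¹ := by
    simp only [Subgroup.coe_mul, Subgroup.coe_inv]
    rw [← mul_assoc, ← mul_assoc, ← hd.eq]
    group
  rw [h1, isClassFunction_of_irr χ.2]

namespace QCol

variable {B : Set (IrrCharacter G)} {x₀ t₀ : P} {N k : ℕ} (h : QCol M B K b P e χ₀ L x₀ t₀ N k)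
include h

/-- `z` is the square of `w`. -/
theorem ww_eq : (((x₀ ^ (N / 2) : P) : K) : G) * (((x₀ ^ (N / 2) : P) : K) : G) = (((x₀ ^ N : P) : K) : G) := by
  have h1 := h.hall.ww_sq
  have h2 := congrArg (fun y : P => ((y : K) : G)) h1
  simpa [QuatD.ww] using h2

/-- `K` lies in the centralizer of `z`. -/
theorem K_le_cen : K ≤ Cen (((x₀ ^ N : P) : K) : G) := by
  have h1 := norm_le_cen h.w_order
  rw [← h.hK, h.ww_eq] at h1
  exact h1

/-- `z` is central in `K`. -/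
theorem z_isCen : IsCen (((x₀ ^ N : P) : K)) := by
  intro g
  have h1 := Subgroup.mem_centralizer_singleton_iff.mp (h.K_le_cen g.2)
  exact Subtype.ext h1

/-- **The column at `z` is a form on `K`.** -/
theorem FK_N_eq [Fintype P] (χ : IrrCharacter G) :
    FK M P e χ₀ x₀ χ N = (Nat.card P : ℂ) *
      classInner (fun c : K => (χ : G → ℂ) ((((x₀ ^ N : P) : K) : G) * c)) (reg 2 (χ₀ : K → ℂ)) := by
  classical
  haveI : Fact (Nat.Prime 2) := ⟨Nat.prime_two⟩
  set zK : K := ((x₀ ^ N : P) : K) with hzK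
  have hcen : IsCen zK := h.z_isCen
  -- the values of `t`
  have hexp : (fun c : K => (χ : G → ℂ) ((zK : G) * c)) =
      fun c => ∑ ϑ : IrrCharacter K, ((mmK χ ϑ : ℂ) * ((ϑ : K → ℂ) zK / (ϑ : K → ℂ) 1)) * (ϑ : K → ℂ) c := by
    funext c
    have h1 := congrFun (Cfsg.Agent.Lib.Char.Complete.eq_sum_classInner _ (isClassFunction_resK (K := K) χ)) (zK * c)
    rw [Finset.sum_apply] at h1
    have h2 : ((zK * c : K) : G) = (zK : G) * c := rfl
    rw [h2] at h1
    rw [h1]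
    refine Finset.sum_congr rfl fun ϑ _ => ?_
    rw [Pi.smul_apply, smul_eq_mul, mmK_spec, mul_assoc]
    congr 1
    obtain ⟨a, -, ha⟩ := Cfsg.Agent.Lib.Char.BlichfeldtB.irr_central_mul ϑ.2 zK (fun g => hcen g)
    have h3 := ha 1
    rw [mul_one] at h3
    have h0 := Cfsg.Agent.Lib.Char.Ortho.irr_apply_one_ne_zero ϑ.2
    rw [ha c, h3]
    field_simp
  have hPf : ((Pf P).card : ℂ) = (Nat.card P : ℂ) := by
    have : (Pf P).card = Nat.card P := by
      rw [Nat.card_eq_fintype_card, Fintype.card_subtype]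
      rfl
    rw [this]
  have hR := h.hP.hR
  rw [hPf] at hR
  have hcl : IsClosed M b := isClosed_of_isPBlock h.hP.hmax.1.2.1
  have hin : ∀ ϑ : IrrCharacter K, (Nat.card P : ℂ) * classInner (ϑ : K → ℂ) (reg 2 (χ₀ : K → ℂ)) =
      if ϑ ∈ b then (L ϑ : P → ℂ) 1 else 0 := by
    intro ϑ
    by_cases hϑ : ϑ ∈ b
    · rw [if_pos hϑ]
      have h1 : reg 2 (ϑ : K → ℂ) = (L ϑ : P → ℂ) 1 • reg 2 (χ₀ : K → ℂ) := by
        funext c
        simp only [Pi.smul_apply, smul_eq_mul]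
        by_cases hc : 2 ∣ orderOf c
        · rw [reg_of_dvd _ hc, reg_of_dvd _ hc, mul_zero]
        · rw [reg_of_not_dvd _ hc, reg_of_not_dvd _ hc]
          exact h.hP.hreg ϑ hϑ c hc
      have h2 : classInner (ϑ : K → ℂ) (reg 2 (χ₀ : K → ℂ)) = classInner (reg 2 (ϑ : K → ℂ)) (reg 2 (χ₀ : K → ℂ)) := by
        rw [classInner, classInner]
        congr 1
        refine Finset.sum_congr rfl fun c _ => ?_
        by_cases hc : 2 ∣ orderOf c
        · rw [reg_of_dvd (χ₀ : K → ℂ) hc, map_zero, mul_zero, mul_zero]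
        · rw [reg_of_not_dvd (ϑ : K → ℂ) hc]
      rw [h2, h1, classInner_smul_left, Cfsg.Agent.Lib.Blocks.KleinFour.classInner_reg_reg', mul_left_comm, hR, mul_one]
    · rw [if_neg hϑ]
      have h1 := classInner_reg_eq_zero_of_closed h.hP.hMp hcl hϑ h.hP.hχ₀
      have h2 : classInner (reg 2 (χ₀ : K → ℂ)) (ϑ : K → ℂ) = 0 := by
        have h3 := classInner_reg_eq_zero_of_closed h.hP.hMp (A := bᶜ) (isClosed_compl hcl)
          (χ := χ₀) (ψ := ϑ) (fun h4 => h4 h.hP.hχ₀) hϑ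
        exact h3
      have h3 := classInner_conj_symm (reg 2 (χ₀ : K → ℂ)) (ϑ : K → ℂ)
      rw [h2, map_zero] at h3
      rw [← h3, mul_zero]
  rw [hexp]
  have hsum : classInner (fun c => ∑ ϑ : IrrCharacter K, ((mmK χ ϑ : ℂ) * ((ϑ : K → ℂ) zK / (ϑ : K → ℂ) 1)) * (ϑ : K → ℂ) c)
      (reg 2 (χ₀ : K → ℂ)) = ∑ ϑ : IrrCharacter K, ((mmK χ ϑ : ℂ) * ((ϑ : K → ℂ) zK / (ϑ : K → ℂ) 1)) *
        classInner (ϑ : K → ℂ) (reg 2 (χ₀ : K → ℂ)) := by
    rw [classInner]
    simp only [classInner, Finset.sum_mul, Finset.mul_sum]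
    rw [Finset.sum_comm]
    refine Finset.sum_congr rfl fun ϑ _ => Finset.sum_congr rfl fun c _ => ?_
    ring
  rw [hsum, Finset.mul_sum]
  unfold FK
  rw [NK_eq_sum h.hP χ (x₀ ^ N), Finset.sum_filter]
  refine Finset.sum_congr rfl fun ϑ _ => ?_
  rw [mul_left_comm, hin ϑ]
  by_cases hϑ : ϑ ∈ b
  · rw [if_pos hϑ, if_pos hϑ, h.hP.hcen ϑ hϑ (x₀ ^ N) hcen]
    ring
  · rw [if_neg hϑ, if_neg hϑ, mul_zero]

theorem z_order {z : G} (hz : (((x₀ ^ N : P) : K) : G) = z) : orderOf z = 2 ^ 1 := by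
  have hne : z ≠ 1 := by
    rw [← hz]
    exact h.rot_ne_one h.hall.N_pos (by have := h.hall.N_pos; omega)
  have hsq : z ^ 2 = 1 := by
    rw [← hz, sq]
    have h1 := h.hall.zz_sq
    have h2 := congrArg (fun y : P => ((y : K) : G)) h1
    simpa using h2
  rw [pow_one]
  exact orderOf_eq_prime hsq hne

/-- **The column at `z` comes from a central element.** -/
theorem exists_central [Fintype P] {z : G} (hz : (((x₀ ^ N : P) : K) : G) = z) [Fintype (Cen z)] :
    ∃ E ∈ localCenter G M, ∀ χ : IrrCharacter G, FK M P e χ₀ x₀ χ N =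
      (Nat.card P : ℂ) * (((χ : G → ℂ) 1 / (Nat.card G : ℂ)) * omega (χ : G → ℂ) E) := by
  classical
  haveI : Fact (Nat.Prime 2) := ⟨Nat.prime_two⟩
  have hKC : K ≤ Cen z := by
    rw [← hz]
    exact h.K_le_cen
  have hzo := h.z_order hz
  letI : Fintype (K.subgroupOf (Cen z)) := Fintype.ofFinite _
  set φ : K.subgroupOf (Cen z) ≃* K := Subgroup.subgroupOfEquivOfLe hKC with hφ
  set θ : IrrCharacter (K.subgroupOf (Cen z)) := irrComap φ χ₀ with hθ
  set Φ : Cen z → ℂ := indFun (K.subgroupOf (Cen z)) (θ : K.subgroupOf (Cen z) → ℂ) with hΦdef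
  have hΦ : IsCharacter (Cen z) Φ :=
    Cfsg.Agent.Lib.Char.IndRep.isCharacter_indFun _ (Cfsg.Agent.Lib.Char.Basic.isCharacter_of_isIrrCharacter θ.2)
  set w₀ : Cen z → ℂ := fun c => conj (reg 2 Φ c) with hw₀
  have hcl : IsClassFunction (Cen z) w₀ := by
    intro c d
    have h1 := isClassFunction_reg 2 (Cfsg.Agent.Lib.Char.Induced.indFun_isClassFunction (K.subgroupOf (Cen z))
      (θ : K.subgroupOf (Cen z) → ℂ)) c d
    simp only [hw₀]
    rw [h1]
  have h0 : ∀ c : Cen z, 2 ∣ orderOf c → w₀ c = 0 := by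
    intro c hc
    simp only [hw₀]
    rw [reg_of_dvd _ hc, map_zero]
  have hloc : ∀ c, MemLocalRing M (w₀ c) := by
    intro c
    simp only [hw₀]
    by_cases hc : 2 ∣ orderOf c
    · rw [reg_of_dvd _ hc, map_zero]
      exact memLocalRing_zero
    · rw [reg_of_not_dvd _ hc]
      obtain ⟨n, ρ, hρ⟩ := hΦ
      refine memLocalRing_of_isIntegral (map_isIntegral_int (starRingEnd ℂ) ?_)
      rw [← hρ]
      exact Cfsg.Agent.Lib.Char.Values.isIntegral_character ρ c
  refine ⟨YY w₀, YY_mem hzo hcl h0 hloc, fun χ => ?_⟩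
  rw [omega_YY (isClassFunction_of_irr χ.2), h.FK_N_eq]
  congr 1
  have h0' := Cfsg.Agent.Lib.Char.Ortho.irr_apply_one_ne_zero χ.2
  have hcard : (Nat.card G : ℂ) ≠ 0 := Nat.cast_ne_zero.mpr Nat.card_pos.ne'
  have h1 : ((χ : G → ℂ) 1 / (Nat.card G : ℂ)) * (((Nat.card G : ℂ) / (χ : G → ℂ) 1) *
      ((Nat.card (Cen z) : ℂ)⁻¹ * ∑ c : Cen z, w₀ c * (χ : G → ℂ) (z * c))) =
      (Nat.card (Cen z) : ℂ)⁻¹ * ∑ c : Cen z, w₀ c * (χ : G → ℂ) (z * c) := by
    field_simp
  rw [h1]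
  set t : Cen z → ℂ := fun c => (χ : G → ℂ) (z * c) with ht
  have htcl : IsClassFunction (Cen z) t := isClassFunction_secZ χ z
  have h2 : (Nat.card (Cen z) : ℂ)⁻¹ * ∑ c : Cen z, w₀ c * (χ : G → ℂ) (z * c) = classInner t (reg 2 Φ) := by
    rw [classInner]
    congr 1
    refine Finset.sum_congr rfl fun c _ => ?_
    simp only [hw₀, ht]
    ring
  have key2 : classInner (reg 2 Φ) t = classInner (reg 2 (χ₀ : K → ℂ)) (fun c : K => (χ : G → ℂ) (z * c)) := by
    rw [hΦdef, reg_indFun, Cfsg.Agent.Lib.Char.Induced.frobenius_reciprocity _ _ _ htcl]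
    rw [classInner, classInner]
    have hc1 : Nat.card (K.subgroupOf (Cen z)) = Nat.card K := Nat.card_congr φ.toEquiv
    rw [hc1]
    congr 1
    refine Fintype.sum_equiv φ.toEquiv _ _ fun a => ?_
    have h3 : orderOf (φ a) = orderOf a := MulEquiv.orderOf_eq φ a
    simp only [MulEquiv.toEquiv_eq_coe, EquivLike.coe_coe]
    congr 1
    by_cases hc : 2 ∣ orderOf a
    · rw [reg_of_dvd _ hc, reg_of_dvd _ (by rwa [h3])]
    · rw [reg_of_not_dvd _ hc, reg_of_not_dvd _ (by rwa [h3])]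
      rfl
  rw [h2, ← classInner_conj_symm (reg 2 Φ) t, key2, classInner_conj_symm, hz]

/-- Rotations of order at least four are not conjugate to `z`. -/
theorem rot_not_conj {z : G} (hz : (((x₀ ^ N : P) : K) : G) = z) {l : ℕ} (h0 : 0 < l) (hl : l < 2 * N) (he : l ≠ N) :
    ¬ IsConj z (((x₀ ^ l : P) : K) : G) := by
  intro hc
  have h1 : ((x₀ ^ l : P) : K).1 * ((x₀ ^ l : P) : K).1 = 1 := by
    obtain ⟨g, hg⟩ := isConj_iff.mp hc
    have hzz : z * z = 1 := by
      rw [← sq]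
      have := pow_orderOf_eq_one z
      rwa [h.z_order hz, pow_one] at this
    show (((x₀ ^ l : P) : K) : G) * (((x₀ ^ l : P) : K) : G) = 1
    rw [← hg]
    calc g * z * g⁻¹ * (g * z * g⁻¹) = g * (z * z) * g⁻¹ := by group
      _ = 1 := by rw [hzz]; group
  have h3 : x₀ ^ l * x₀ ^ l = 1 := h.coe_inj (by simpa using h1)
  have h4 : x₀ ^ (2 * l) = 1 := by rw [two_mul, pow_add, h3]
  have h5 := orderOf_dvd_of_pow_eq_one h4
  rw [h.hall.hxo] at h5
  have h6 := Nat.le_of_dvd (by omega) h5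
  have h7 : N ∣ l := by
    exact Nat.dvd_of_mul_dvd_mul_left (by norm_num) h5
  obtain ⟨c, rfl⟩ := h7
  rcases c with _ | _ | c
  · omega
  · omega
  · have : N * (c + 1 + 1) = N * c + 2 * N := by ring
    rw [this] at hl
    have : 0 ≤ N * c := Nat.zero_le _
    omega

open Classical in
/-- **The numbers `x` are orthogonal to the columns at the rotations.** -/
theorem XX_orth {z : G} (hz : (((x₀ ^ N : P) : K) : G) = z) [Fintype (Cen z)] {bz : Set (IrrCharacter (Cen z))}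
    (hC : IsInducedBlock M (Cen z) bz B) (a : IrrCharacter G) {l : ℕ} (h0 : 0 < l) (hl : l < 2 * N) (he : l ≠ N) :
    ∑ χ ∈ Finset.univ.filter (· ∈ B), XX 2 bz χ a * FK M P e χ₀ x₀ χ l = 0 := by
  haveI : Fact (Nat.Prime 2) := ⟨Nat.prime_two⟩
  have hMp := h.hP.hMp
  have heC : IsClosed M bz := isClosed_of_isPBlock hC.1
  have hzo := h.z_order hz
  have h1 : ∀ χ : IrrCharacter G, XX 2 bz χ a * FK M P e χ₀ x₀ χ l =
      ((2 : ℂ) ^ blockDefect 2 bz * (Nat.card (Cen z) : ℂ)⁻¹) *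
        ∑ c : Cen z, conj (gg 2 bz a c) * ((χ : G → ℂ) (z * c) * FK M P e χ₀ x₀ χ l) := by
    intro χ
    have h2 : sumInner (gg 2 bz χ) (gg 2 bz a) = sumInner (fun c : Cen z => (χ : G → ℂ) (z * c)) (gg 2 bz a) :=
      sumInner_reg_blockPart hMp heC _ (gg_mem bz a)
    rw [XX, classInner_eq_sumInner, h2, sumInner]
    push_cast
    simp only [Finset.mul_sum, Finset.sum_mul]
    refine Finset.sum_congr rfl fun c _ => ?_
    ring
  simp only [h1]
  rw [← Finset.mul_sum, Finset.sum_comm]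
  apply mul_eq_zero_of_right
  refine Finset.sum_eq_zero fun c _ => ?_
  rw [← Finset.mul_sum]
  by_cases hc : 2 ∣ orderOf c
  · rw [mem_regSpan_vanish (gg_mem (p := 2) bz a) hc, map_zero, zero_mul]
  · apply mul_eq_zero_of_right
    have hp : IsPPart 2 (z * (c : G)) z :=
      ⟨c, rfl, (Subgroup.mem_centralizer_singleton_iff.mp c.2).symm, ⟨1, hzo⟩, by rwa [Subgroup.orderOf_coe]⟩
    exact h.F_orth hp (h.rot_not_conj hz h0 hl he)

/-- **The numbers `x` are integers.** -/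
theorem exists_X {z : G} (hz : (((x₀ ^ N : P) : K) : G) = z) [Fintype (Cen z)] (bz : Set (IrrCharacter (Cen z))) :
    ∃ X : IrrCharacter G → IrrCharacter G → ℤ, ∀ a c, XX 2 bz a c = X a c := by
  haveI : Fact (Nat.Prime 2) := ⟨Nat.prime_two⟩
  have hex : ∀ a c, ∃ n : ℤ, XX 2 bz a c = n := fun a c =>
    exists_int_of_mem_rootSums (XX_mem h.hP.hMp (h.z_order hz) bz a c)
  choose X hX using hex
  exact ⟨X, hX⟩

end QCol

section XForm

variable {u : G} [Fintype (Cen u)] {bz : Set (IrrCharacter (Cen u))} {X : IrrCharacter G → IrrCharacter G → ℤ}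

theorem X_symm (hX : ∀ a c, XX 2 bz a c = X a c) (a c : IrrCharacter G) : X a c = X c a := by
  haveI : Fact (Nat.Prime 2) := ⟨Nat.prime_two⟩
  have h1 := XX_conj (p := 2) bz a c
  rw [hX, hX, map_intCast] at h1
  exact_mod_cast h1

open Classical in
theorem X_row (hMp : IsPModular 2 M) {j : ℕ} (hu : orderOf u = 2 ^ j) {B : Set (IrrCharacter G)}
    (hC : IsInducedBlock M (Cen u) bz B) (hX : ∀ a c, XX 2 bz a c = X a c) (a c : IrrCharacter G) :
    ∑ χ ∈ Finset.univ.filter (· ∈ B), X a χ * X c χ = 2 ^ blockDefect 2 bz * X a c := by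
  haveI : Fact (Nat.Prime 2) := ⟨Nat.prime_two⟩
  have h1 := sum_SS hMp hu hC (gg_mem (p := 2) bz a) (gg_mem (p := 2) bz c)
  apply Int.cast_injective (α := ℂ)
  push_cast
  rw [← hX a c]
  rw [XX_eq_SS]
  push_cast at h1
  rw [← h1]
  refine Finset.sum_congr rfl fun χ _ => ?_
  rw [← XX_eq_SS, ← XX_eq_SS, hX χ a, hX χ c, map_intCast, X_symm hX a χ, X_symm hX c χ]

theorem X_dvd (hMp : IsPModular 2 M) {j : ℕ} (hu : orderOf u = 2 ^ j) {B : Set (IrrCharacter G)}
    (hC : IsInducedBlock M (Cen u) bz B) (hd : blockDefect 2 bz = blockDefect 2 B)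
    (hX : ∀ a c, XX 2 bz a c = X a c) {a : IrrCharacter G} (ha : a ∈ B) (c : IrrCharacter G) :
    ∃ r : ℤ, X a c = 2 ^ blockHeight 2 B (a : G → ℂ) * r := by
  haveI : Fact (Nat.Prime 2) := ⟨Nat.prime_two⟩
  have h1 := XX_eq_pow_mul hMp hC.1 hd ha c
  rw [hX] at h1
  push_cast at h1
  exact int_dvd_of_local hMp h1 (memLocalRing_yy hMp hu bz a c)

theorem X_odd (hMp : IsPModular 2 M) {j : ℕ} (hu : orderOf u = 2 ^ j) {B : Set (IrrCharacter G)}
    (hC : IsInducedBlock M (Cen u) bz B) (hd : blockDefect 2 bz = blockDefect 2 B)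
    (hX : ∀ a c, XX 2 bz a c = X a c) {a c : IrrCharacter G} (ha : a ∈ B) (hc : c ∈ B)
    (h0 : blockHeight 2 B (c : G → ℂ) = 0) :
    ∃ r : ℤ, Odd r ∧ X a c = 2 ^ blockHeight 2 B (a : G → ℂ) * r := by
  haveI : Fact (Nat.Prime 2) := ⟨Nat.prime_two⟩
  have h1 := XX_eq_pow_mul hMp hC.1 hd ha c
  rw [hX] at h1
  push_cast at h1
  exact int_val_of_local hMp h1 (yy_not_mem hMp hu hC hd ha hc h0) (memLocalRing_yy hMp hu bz a c)

end XForm

end Link

end Cfsg.Agent.Lib.Blocks.Quat
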