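/-
Tame blocks: orthogonality of the columns and the characters of the block.
-/
import Mathlib
import Cfsg.Agent.Lib.Blocks.TameF2

set_option autoImplicit false
set_option linter.style.haveILetI false

namespace Cfsg.Agent.Lib.Blocks.Tame

open Cfsg Cfsg.Agent.Lib.Blocks.Local Cfsg.Agent.Lib.Blocks.Central Cfsg.Agent.Lib.Blocks.Osima
open Cfsg.Agent.Lib.Blocks.Covering Cfsg.Agent.Lib.Blocks.BlockHom Cfsg.Agent.Lib.Blocks.Pairs
open Cfsg.Agent.Lib.Blocks.Twisted Cfsg.Agent.Lib.Blocks.Necklace Cfsg.Agent.Lib.Blocks.Sections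
open Cfsg.Agent.Lib.Blocks.Regular Cfsg.Agent.Lib.Blocks.BlockCount Cfsg.Agent.Lib.Blocks.Nilp
open Cfsg.Agent.Lib.Blocks.Transport Cfsg.Agent.Lib.Blocks.MajorSub
open Cfsg.Agent.Lib.Char.Ortho
open scoped ComplexConjugate

universe u

section Orth

variable {G : Type u} [Group G] [Fintype G] {M : Ideal AlgInt} [hM : M.IsPrime]
  {z : G} [Fintype (Cen z)] {b : Set (IrrCharacter (Cen z))} {P : Subgroup (Cen z)}
  {e : Set (IrrCharacter (Subgroup.centralizer (P : Set (Cen z))))} {χ₀ : IrrCharacter (Cen z)}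
  {L : IrrCharacter (Cen z) → IrrCharacter P}

namespace Col

variable {B : Set (IrrCharacter G)} {x₀ a₀ : P} {N k : ℕ} (h : Col M B b P e χ₀ L x₀ a₀ N k)
include h

theorem order_coe (l : ℕ) : ∃ j : ℕ, orderOf (((x₀ ^ l : P) : Cen z) : G) = 2 ^ j := by
  obtain ⟨j, hj⟩ := h.hP.pow_eq_one (x₀ ^ l)
  have h1 : (((x₀ ^ l : P) : Cen z) : G) ^ 2 ^ j = 1 := by
    have := congrArg Subtype.val hj
    simpa using this
  obtain ⟨i, -, hi⟩ := (Nat.dvd_prime_pow Nat.prime_two).mp (orderOf_dvd_of_pow_eq_one h1)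
  exact ⟨i, hi⟩

open Classical in
/-- **Orthogonality of a column and a section.** -/
theorem F_orth {g u : G} (hg : IsPPart 2 g u) {l : ℕ} (hnc : ¬ IsConj u (((x₀ ^ l : P) : Cen z) : G)) :
    ∑ χ ∈ Finset.univ.filter (· ∈ B), (χ : G → ℂ) g * FF M P e χ₀ x₀ χ l = 0 := by
  haveI : Fact (Nat.Prime 2) := ⟨Nat.prime_two⟩
  have h1 : ∀ χ : IrrCharacter G, (χ : G → ℂ) g * FF M P e χ₀ x₀ χ l =
      wt P ((x₀ ^ l : P) : Cen z) * ∑ c ∈ regC 2 ((x₀ ^ l : P) : Cen z), PHI M 2 P e χ₀ ((x₀ ^ l : P) : Cen z) c *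
        ((χ : G → ℂ) g * conj ((χ : G → ℂ) (((x₀ ^ l : P) : Cen z) * c : Cen z))) := by
    intro χ
    rw [← h.F_real χ l]
    unfold FF NN NPack.Cf
    rw [map_mul, NPack.wt_conj, map_sum, mul_left_comm, Finset.mul_sum]
    congr 1
    refine Finset.sum_congr rfl fun c _ => ?_
    rw [map_mul, Complex.conj_conj]
    ring
  simp only [h1]
  rw [← Finset.mul_sum, Finset.sum_comm]
  apply mul_eq_zero_of_right
  refine Finset.sum_eq_zero fun c hc => ?_
  rw [← Finset.mul_sum]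
  apply mul_eq_zero_of_right
  obtain ⟨hcK, hcreg⟩ := mem_regC.mp hc
  obtain ⟨j, hj⟩ := h.order_coe l
  have hcomm : ((((x₀ ^ l : P) : Cen z) : G)) * (c : G) = (c : G) * ((((x₀ ^ l : P) : Cen z) : G)) := by
    have := mem_centralizer_zpowers_iff.mp hcK
    exact (congrArg Subtype.val this).symm
  have hp2 : IsPPart 2 ((((x₀ ^ l : P) : Cen z) * c : Cen z) : G) (((x₀ ^ l : P) : Cen z) : G) :=
    ⟨c, rfl, hcomm, ⟨j, hj⟩, by rwa [Subgroup.orderOf_coe]⟩
  have h2 := block_orthogonality h.hP.hMp hg hp2 hnc h.hB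
  rw [Osima.finsum_mem_eq_sum_filter] at h2
  refine Eq.trans (Finset.sum_congr rfl fun χ _ => ?_) h2
  rw [Cfsg.Agent.Lib.Char.Ortho.conj_of_isCharacter (Cfsg.Agent.Lib.Char.Basic.isCharacter_of_isIrrCharacter χ.2)]

open Classical in
/-- Orthogonality of a column and the degrees. -/
theorem F_orth_one {l : ℕ} (h0 : 0 < l) (hl : l < 2 * N) :
    ∑ χ ∈ Finset.univ.filter (· ∈ B), (χ : G → ℂ) 1 * FF M P e χ₀ x₀ χ l = 0 := by
  have hp : IsPPart 2 (1 : G) 1 := by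
    refine ⟨1, mul_one 1, Commute.one_right 1, ⟨0, by simp⟩, ?_⟩
    rw [orderOf_one]
    exact Nat.not_dvd_of_pos_of_lt one_pos (by norm_num)
  refine h.F_orth hp ?_
  intro hc
  have h1 := isConj_one_right.mp hc
  apply h.hz1
  have h2 := h.hzero h0 hl
  rw [h1] at h2
  simpa using h2

end Col

end Orth

end Cfsg.Agent.Lib.Blocks.Tame
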