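/-
Tame blocks: counting characters by sections.
-/
import Mathlib
import Cfsg.Agent.Lib.Blocks.TameF2
import Cfsg.Agent.Lib.Blocks.KLOne
import Cfsg.Agent.Lib.Blocks.AbFree8

set_option autoImplicit false
set_option linter.style.haveILetI false

namespace Cfsg.Agent.Lib.Blocks.Tame

open Cfsg Cfsg.Agent.Lib.Blocks.Local Cfsg.Agent.Lib.Blocks.Central Cfsg.Agent.Lib.Blocks.Osima
open Cfsg.Agent.Lib.Blocks.Covering Cfsg.Agent.Lib.Blocks.BlockHom Cfsg.Agent.Lib.Blocks.Pairs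
open Cfsg.Agent.Lib.Blocks.Twisted Cfsg.Agent.Lib.Blocks.Necklace Cfsg.Agent.Lib.Blocks.Sections
open Cfsg.Agent.Lib.Blocks.Regular Cfsg.Agent.Lib.Blocks.BlockCount Cfsg.Agent.Lib.Blocks.Nilp
open Cfsg.Agent.Lib.Blocks.Transport Cfsg.Agent.Lib.Blocks.MajorSub
open Cfsg.Agent.Lib.Char.Ortho
open scoped ComplexConjugate

universe u

section Reps

variable {G : Type u} [Group G] [Fintype G]

open Classical in
/-- Representatives of the classes of `p`-elements containing a given set. -/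
theorem exists_reps_containing (p : ℕ) (T : Finset G) (hT : ∀ t ∈ T, ∃ k : ℕ, orderOf t = p ^ k)
    (hnc : ∀ s ∈ T, ∀ t ∈ T, IsConj s t → s = t) :
    ∃ X : Finset G, T ⊆ X ∧ (∀ x ∈ X, ∃ k : ℕ, orderOf x = p ^ k) ∧
      ∀ g : G, (∃ k : ℕ, orderOf g = p ^ k) → ∃! x, x ∈ X ∧ IsConj g x := by
  obtain ⟨X₀, -, h2, h3⟩ := Cfsg.Agent.Lib.Blocks.KLOne.exists_reps p G
  refine ⟨T ∪ X₀.filter (fun x => ∀ t ∈ T, ¬ IsConj x t), Finset.subset_union_left, ?_, ?_⟩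
  · intro x hx
    rcases Finset.mem_union.mp hx with h | h
    · exact hT x h
    · exact h2 x (Finset.mem_filter.mp h).1
  · intro g hg
    by_cases hc : ∃ t ∈ T, IsConj g t
    · obtain ⟨t, ht, hgt⟩ := hc
      refine ⟨t, ⟨Finset.mem_union_left _ ht, hgt⟩, ?_⟩
      rintro y ⟨hy, hgy⟩
      rcases Finset.mem_union.mp hy with h | h
      · exact hnc y h t ht (hgy.symm.trans hgt)
      · exact absurd (hgy.symm.trans hgt) ((Finset.mem_filter.mp h).2 t ht)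
    · push Not at hc
      obtain ⟨x, ⟨hx, hgx⟩, hu⟩ := h3 g hg
      refine ⟨x, ⟨Finset.mem_union_right _ (Finset.mem_filter.mpr ⟨hx, fun t ht hxt => hc t ht (hgx.trans hxt)⟩), hgx⟩, ?_⟩
      rintro y ⟨hy, hgy⟩
      rcases Finset.mem_union.mp hy with h | h
      · exact absurd hgy (hc y h)
      · exact hu y ⟨(Finset.mem_filter.mp h).1, hgy⟩

variable {M : Ideal AlgInt} [hM : M.IsPrime]

open Classical in
/-- **The count of the characters from below.** -/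
theorem rank_add_le (hMp : IsPModular 2 M) {B : Set (IrrCharacter G)} (hB : IsPBlock M B) {D : Subgroup G}
    (hD : IsDefectGroup 2 M B D) {T : Finset G} (h1 : (1 : G) ∈ T) (hTD : ∀ t ∈ T, t ∈ D)
    (hnc : ∀ s ∈ T, ∀ t ∈ T, IsConj s t → s = t) {χ₁ : IrrCharacter G} (hχ₁ : χ₁ ∈ B) :
    blockRank 2 B + ∑ t ∈ T.erase 1, blockRank 2 (inducers (Cen t) M (χ₁ : G → ℂ)) ≤ Nat.card B ∧
      ∀ t ∈ T.erase 1, 1 ≤ blockRank 2 (inducers (Cen t) M (χ₁ : G → ℂ)) := by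
  haveI : Fact (Nat.Prime 2) := ⟨Nat.prime_two⟩
  obtain ⟨e, hmax⟩ := Cfsg.Agent.S4552.exists_maximal_on_defect hMp hB hD
  have hDp : IsPGroup 2 D := hmax.1.1.1
  have hord : ∀ t ∈ T, ∃ k : ℕ, orderOf t = 2 ^ k := fun t ht =>
    Cfsg.Agent.Lib.Blocks.AbFree.exists_orderOf_of_mem hDp (hTD t ht)
  obtain ⟨X, hTX, hX, hXrep⟩ := exists_reps_containing 2 T hord hnc
  have hBeq : B = blockOf M (χ₁ : G → ℂ) := Cfsg.Agent.Lib.Blocks.Pairs.isPBlock_eq_blockOf hB hχ₁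
  have hcard := Cfsg.Agent.Lib.Blocks.KLOne.card_eq_add hMp χ₁ X (hTX h1) hX hXrep
  rw [← hBeq] at hcard
  refine ⟨?_, ?_⟩
  · rw [hcard]
    apply Nat.add_le_add_left
    exact Finset.sum_le_sum_of_subset (Finset.erase_subset_erase _ hTX)
  · intro t ht
    have htT := Finset.mem_of_mem_erase ht
    have key : ∀ K : Subgroup G, Kz t = K → ∃ ξ : IrrCharacter K, ξ ∈ inducers K M (χ₁ : G → ℂ) := by
      rintro K rfl
      letI : Fintype (Kz t) := Fintype.ofFinite _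
      obtain ⟨ξ, hξ⟩ := isPBlock_nonempty (isPBlock_eBlk hMp hmax.1.1 (hTD t htT))
      exact ⟨ξ, Cfsg.Agent.Lib.Blocks.AbFree.eBlk_subset_inducers hMp hmax (hTD t htT) hχ₁ hξ⟩
    obtain ⟨ξ, hξ⟩ := key (Cen t) (Cfsg.Agent.Lib.Blocks.AbelianCount.cz_eq_cen t)
    exact Cfsg.Agent.Lib.Blocks.KLOne.one_le_blockRank hξ

end Reps

end Cfsg.Agent.Lib.Blocks.Tame
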