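/-
Tame blocks: the integers attached to the columns.
-/
import Mathlib
import Cfsg.Agent.Lib.Blocks.TameF3
import Cfsg.Agent.Lib.Blocks.TameE2
import Cfsg.Agent.Lib.Blocks.TameR
import Cfsg.Agent.Lib.Blocks.AbLat1

set_option autoImplicit false
set_option linter.style.haveILetI false

namespace Cfsg.Agent.Lib.Blocks.Tame

open Cfsg Cfsg.Agent.Lib.Blocks.Local Cfsg.Agent.Lib.Blocks.Central Cfsg.Agent.Lib.Blocks.Osima
open Cfsg.Agent.Lib.Blocks.Covering Cfsg.Agent.Lib.Blocks.BlockHom Cfsg.Agent.Lib.Blocks.Pairs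
open Cfsg.Agent.Lib.Blocks.Twisted Cfsg.Agent.Lib.Blocks.Necklace Cfsg.Agent.Lib.Blocks.Sections
open Cfsg.Agent.Lib.Blocks.Regular Cfsg.Agent.Lib.Blocks.BlockCount Cfsg.Agent.Lib.Blocks.Nilp
open Cfsg.Agent.Lib.Blocks.Transport Cfsg.Agent.Lib.Blocks.MajorSub
open Cfsg.Agent.Lib.Char.Ortho
open scoped ComplexConjugate

universe u

section Ints

variable {G : Type u} [Group G] [Fintype G] {M : Ideal AlgInt} [hM : M.IsPrime]
  {z : G} [Fintype (Cen z)] {b : Set (IrrCharacter (Cen z))} {P : Subgroup (Cen z)}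
  {e : Set (IrrCharacter (Subgroup.centralizer (P : Set (Cen z))))} {χ₀ : IrrCharacter (Cen z)}
  {L : IrrCharacter (Cen z) → IrrCharacter P}

namespace Col

variable {B : Set (IrrCharacter G)} {x₀ a₀ : P} {N k : ℕ} (h : Col M B b P e χ₀ L x₀ a₀ N k)
include h

theorem half_eq : 2 ^ (k - 1) = N := by
  have h1 := h.hNk
  have h2 := h.hk
  have h3 : 2 ^ k = 2 * 2 ^ (k - 1) := by
    rw [← pow_succ']
    congr 1
    omega
  omega

open Classical in
/-- **The integers attached to the columns.** -/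
theorem exists_ints [Fintype P] {m : ℕ} (hm : N = m + 1) :
    ∃ (n : IrrCharacter G → Fin m → ℤ) (v w : IrrCharacter G → ℤ),
      (∀ s t, ∑ χ ∈ Finset.univ.filter (· ∈ B), n χ s * n χ t = if s = t then ((2 : ℕ) : ℤ) + 1 else ((2 : ℕ) : ℤ)) ∧
      (∀ t, ∑ χ ∈ Finset.univ.filter (· ∈ B), v χ * n χ t = 2) ∧
      (∑ χ ∈ Finset.univ.filter (· ∈ B), v χ ^ 2 = 4) ∧
      (∀ χ, w χ = v χ + 2 * ∑ j : Fin m, (-1) ^ (j.val + 1) * n χ j) ∧
      (∀ χ, FF M P e χ₀ x₀ χ N = w χ) ∧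
      (∑ χ ∈ Finset.univ.filter (· ∈ B), w χ ^ 2 = 4 * N) ∧
      (∀ t, ∑ χ ∈ Finset.univ.filter (· ∈ B), (n χ t : ℂ) * (χ : G → ℂ) 1 = 0) ∧
      (∑ χ ∈ Finset.univ.filter (· ∈ B), (v χ : ℂ) * (χ : G → ℂ) 1 = 0) := by
  have hpow : (2 ^ k : ℕ) ≠ 0 := by positivity
  set ζ : ℂ := Complex.exp (2 * Real.pi * Complex.I / ((2 ^ k : ℕ) : ℂ)) with hζdef
  have hζ : IsPrimitiveRoot ζ (2 ^ k) := Complex.isPrimitiveRoot_exp (2 ^ k) hpow
  have hfd := h.fd hζ
  have hhalf := h.half_eq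
  have hcc := h.cc_int hζ
  choose c hc using hcc
  have hgr := fun {κ κ' : ℕ} (h1 : 1 ≤ κ) (h2 : κ ≤ 2 ^ (k - 1)) (h1' : 1 ≤ κ') (h2' : κ' ≤ 2 ^ (k - 1)) =>
    hfd.gram h1 h2 h1' h2'
  simp only [hc, hhalf] at hgr
  have hhalfval := fun (χ : IrrCharacter G) => hfd.value_half (m := m) (by rw [hhalf, hm]) χ
  simp only [hc, hhalf] at hhalfval
  have hdeg0 := fun κ : ℕ => FD.sum_cc_eq_zero (S := Finset.univ.filter (· ∈ B)) (F := FF M P e χ₀ x₀) (ζ := ζ) (N := 2 ^ k)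
    (fun χ => (χ : G → ℂ) 1) (fun l h0 hl => h.F_orth_one h0 (by rw [← h.hNk]; exact hl)) κ
  simp only [hc] at hdeg0
  set w : IrrCharacter G → ℤ := fun χ => c N χ + 2 * ∑ j : Fin m, (-1) ^ (j.val + 1) * c (j.val + 1) χ with hw
  have hwF : ∀ χ, FF M P e χ₀ x₀ χ N = w χ := by
    intro χ
    rw [hhalfval χ, ← Fin.sum_univ_eq_sum_range (fun j => 2 * (-1 : ℂ) ^ (j + 1) * ((c (j + 1) χ : ℤ) : ℂ))]
    simp only [hw]
    push_cast
    rw [add_comm, Finset.mul_sum]
    congr 1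
    refine Finset.sum_congr rfl fun j _ => ?_
    ring
  refine ⟨fun χ t => c (t.val + 1) χ, fun χ => c N χ, w, ?_, ?_, ?_, fun χ => rfl, hwF, ?_, ?_, ?_⟩
  · intro s t
    have hs := s.2
    have ht := t.2
    have h1 := hgr (κ := s.val + 1) (κ' := t.val + 1) (by omega) (by omega) (by omega) (by omega)
    have h2 : ¬ (s.val + 1 = N ∧ t.val + 1 = N) := by omega
    rw [if_neg h2, add_zero] at h1
    have h3 : (s.val + 1 = t.val + 1) ↔ s = t := by
      rw [Nat.add_right_cancel_iff]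
      exact Fin.val_inj
    simp only [h3] at h1
    apply Int.cast_injective (α := ℂ)
    push_cast
    rw [h1]
    split_ifs <;> norm_num
  · intro t
    have ht := t.2
    have h1 := hgr (κ := N) (κ' := t.val + 1) (by omega) (by omega) (by omega) (by omega)
    have h2 : ¬ (N = t.val + 1) := by omega
    have h3 : ¬ (N = N ∧ t.val + 1 = N) := by omega
    rw [if_neg h2, if_neg h3, add_zero, add_zero] at h1
    apply Int.cast_injective (α := ℂ)
    push_cast
    exact h1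
  · have h1 := hgr (κ := N) (κ' := N) (by omega) (by omega) (by omega) (by omega)
    rw [if_pos rfl, if_pos ⟨rfl, rfl⟩] at h1
    apply Int.cast_injective (α := ℂ)
    push_cast
    simp only [sq]
    rw [h1]
    norm_num
  · have hN2 : N < 2 * N := by omega
    have h1 := h.F_gram (l := N) (l' := N) (by omega) hN2 (by omega) hN2
    simp only [hwF] at h1
    rw [if_pos trivial, if_pos (by omega)] at h1
    apply Int.cast_injective (α := ℂ)
    push_cast
    simp only [sq]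
    rw [h1]
    push_cast
    ring
  · intro t
    have h1 := hdeg0 (t.val + 1)
    rw [← h1]
    refine Finset.sum_congr rfl fun χ _ => ?_
    ring
  · have h1 := hdeg0 N
    rw [← h1]
    refine Finset.sum_congr rfl fun χ _ => ?_
    ring

end Col

end Ints

end Cfsg.Agent.Lib.Blocks.Tame
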