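/-
Tame blocks: the count of the characters of the block.
-/
import Mathlib
import Cfsg.Agent.Lib.Blocks.TameH

set_option autoImplicit false
set_option linter.style.haveILetI false

namespace Cfsg.Agent.Lib.Blocks.Tame

open Cfsg Cfsg.Agent.Lib.Blocks.Local Cfsg.Agent.Lib.Blocks.Central Cfsg.Agent.Lib.Blocks.Osima
open Cfsg.Agent.Lib.Blocks.Covering Cfsg.Agent.Lib.Blocks.BlockHom Cfsg.Agent.Lib.Blocks.Pairs
open Cfsg.Agent.Lib.Blocks.Twisted Cfsg.Agent.Lib.Blocks.Necklace Cfsg.Agent.Lib.Blocks.Sections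
open Cfsg.Agent.Lib.Blocks.Regular Cfsg.Agent.Lib.Blocks.BlockCount Cfsg.Agent.Lib.Blocks.Nilp
open Cfsg.Agent.Lib.Blocks.Transport Cfsg.Agent.Lib.Blocks.MajorSub
open Cfsg.Agent.Lib.Char.Ortho
open scoped ComplexConjugate

universe u

section Count

variable {G : Type u} [Group G] [Fintype G] {M : Ideal AlgInt} [hM : M.IsPrime]
  {z : G} [Fintype (Cen z)] {b : Set (IrrCharacter (Cen z))} {P : Subgroup (Cen z)}
  {e : Set (IrrCharacter (Subgroup.centralizer (P : Set (Cen z))))} {χ₀ : IrrCharacter (Cen z)}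
  {L : IrrCharacter (Cen z) → IrrCharacter P}

namespace Col

variable {B : Set (IrrCharacter G)} {x₀ a₀ : P} {N k : ℕ} (h : Col M B b P e χ₀ L x₀ a₀ N k)
include h

open Classical in
/-- The exceptional lattice. -/
def AltS (S : Finset (IrrCharacter G)) (w : IrrCharacter G → ℤ) : Prop :=
  S.card = 5 ∧ ∃ (ε' A : ℤ) (χ₁ χ₂ χ₃ χ₄ χ₅ : IrrCharacter G), (ε' = 1 ∨ ε' = -1) ∧ 0 < A ∧
      χ₁ ∈ S ∧ χ₂ ∈ S ∧ χ₃ ∈ S ∧ χ₄ ∈ S ∧ χ₅ ∈ S ∧
      (∀ {α : Type} [AddCommMonoid α] (g : IrrCharacter G → α), ∑ χ ∈ S, g χ = g χ₁ + g χ₂ + g χ₃ + g χ₄ + g χ₅) ∧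
      w χ₁ = ε' ∧ w χ₂ = -3 * ε' ∧ w χ₃ = ε' ∧ w χ₄ = -ε' ∧ w χ₅ = 2 * ε' ∧
      ((charDegree (χ₁ : G → ℂ) : ℕ) : ℤ) = A ∧ ((charDegree (χ₂ : G → ℂ) : ℕ) : ℤ) = A ∧
      ((charDegree (χ₃ : G → ℂ) : ℕ) : ℤ) = A ∧ ((charDegree (χ₄ : G → ℂ) : ℕ) : ℤ) = 3 * A ∧
      ((charDegree (χ₅ : G → ℂ) : ℕ) : ℤ) = 2 * A

open Classical in
/-- **The count of the characters of the block.** -/
theorem main_count [Fintype P] (hd : blockDefect 2 b = blockDefect 2 B) {m : ℕ} (hm : N = m + 1)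
    (hNpow : N = 2 ∨ N = 4 ∨ 8 ≤ N)
    (hNoAlt : ∀ w : IrrCharacter G → ℤ, (∀ χ, FF M P e χ₀ x₀ χ N = w χ) → N = 4 →
      AltS (Finset.univ.filter (· ∈ B)) w → False) :
    (Finset.univ.filter (· ∈ B)).card = N + 3 ∧
      (Finset.univ.filter (fun χ : IrrCharacter G => χ ∈ B ∧ blockHeight 2 B (χ : G → ℂ) = 0)).card = 4 ∧
      ∀ χ ∈ B, blockHeight 2 B (χ : G → ℂ) ≤ 1 := by
  obtain ⟨n, v, w, hg, hvn, hvv, hwdef, hwF, hww, hone, hvone⟩ := h.exists_ints hm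
  set S : Finset (IrrCharacter G) := Finset.univ.filter (· ∈ B) with hS
  have hmemS : ∀ χ, χ ∈ S ↔ χ ∈ B := fun χ => by simp [hS]
  have hval : ∀ χ ∈ S, ∃ r : ℤ, Odd r ∧ w χ = 2 ^ blockHeight 2 B (χ : G → ℂ) * r := fun χ hχ =>
    h.height_val hd hwF ((hmemS χ).mp hχ)
  have hne : ∀ χ ∈ S, w χ ≠ 0 := by
    intro χ hχ h0
    obtain ⟨r, hr, hwr⟩ := hval χ hχ
    rw [h0] at hwr
    rcases mul_eq_zero.mp hwr.symm with h1 | h1
    · exact pow_ne_zero _ two_ne_zero h1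
    · rw [h1] at hr
      exact absurd hr (by decide)
  have hoddiff : ∀ χ ∈ S, Odd (w χ) ↔ blockHeight 2 B (χ : G → ℂ) = 0 := by
    intro χ hχ
    obtain ⟨r, hr, hwr⟩ := hval χ hχ
    constructor
    · intro ho
      by_contra hh
      obtain ⟨t, ht⟩ : ∃ t, blockHeight 2 B (χ : G → ℂ) = t + 1 := ⟨_, (Nat.succ_pred_eq_of_ne_zero hh).symm⟩
      rw [hwr, ht, pow_succ] at ho
      have h1 : Even ((2 : ℤ) ^ t * 2 * r) := by
        refine ⟨2 ^ t * r, ?_⟩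
        ring
      exact (Int.not_odd_iff_even.mpr h1) ho
    · intro hh
      rw [hwr, hh, pow_zero, one_mul]
      exact hr
  obtain ⟨χ₁, hχ₁, h₁⟩ := Cfsg.Agent.Lib.Blocks.HeightZero.exists_height_zero (p := 2)
    (Cfsg.Agent.Lib.Blocks.Pairs.isPBlock_nonempty h.hB)
  have hex : ∃ χ ∈ S, Odd (w χ) := ⟨χ₁, (hmemS χ₁).mpr hχ₁, (hoddiff χ₁ ((hmemS χ₁).mpr hχ₁)).mpr h₁⟩
  have hwv : ∀ χ ∈ S, Even (w χ - v χ) := by
    intro χ _
    rw [hwdef]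
    exact ⟨∑ j : Fin m, (-1) ^ (j.val + 1) * n χ j, by ring⟩
  obtain ⟨hY, -, -⟩ := card_odd hvv hwv hww hex
  obtain ⟨hle, heq⟩ := card_le_of_norm hww hne hY
  have hYS : (S.filter (fun χ => Odd (w χ))).card ≤ S.card := Finset.card_filter_le _ _
  have hlow : N ≠ 2 → N + 3 ≤ S.card := by
    intro hN2
    have hNge : 4 ≤ N := by omega
    have hT : 2 ≤ Fintype.card (Fin m) := by
      rw [Fintype.card_fin]
      omega
    obtain ⟨d, ε, f, a, hinj, hfS, hε, hstd, hoff, ha⟩ := Cfsg.Agent.Lib.Blocks.AbFree.lattice_std2 S n 2 hg hone hT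
    have hM' : m = 3 ∨ 7 ≤ m := by omega
    have hdegpos : ∀ χ ∈ S, (0 : ℤ) < (charDegree (χ : G → ℂ) : ℕ) := by
      intro χ _
      have h4 := Cfsg.Agent.Lib.Char.Ortho.irr_apply_one_ne_zero χ.2
      rw [← Cfsg.Agent.Lib.Blocks.RegInt.charDegree_cast χ] at h4
      have h5 : charDegree (χ : G → ℂ) ≠ 0 := by exact_mod_cast h4
      have h6 := Nat.pos_of_ne_zero h5
      exact_mod_cast h6
    have hone' : ∀ t, ∑ χ ∈ S, n χ t * ((charDegree (χ : G → ℂ) : ℕ) : ℤ) = 0 := by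
      intro t
      apply Int.cast_injective (α := ℂ)
      push_cast
      rw [← hone t]
      refine Finset.sum_congr rfl fun χ _ => ?_
      rw [Cfsg.Agent.Lib.Blocks.RegInt.charDegree_cast χ]
    have hvone' : ∑ χ ∈ S, v χ * ((charDegree (χ : G → ℂ) : ℕ) : ℤ) = 0 := by
      apply Int.cast_injective (α := ℂ)
      push_cast
      rw [← hvone]
      refine Finset.sum_congr rfl fun χ _ => ?_
      rw [Cfsg.Agent.Lib.Blocks.RegInt.charDegree_cast χ]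
    rw [Fintype.card_fin] at ha
    rcases lattice_final hM' S n v w (fun χ => ((charDegree (χ : G → ℂ) : ℕ) : ℤ)) d ε f a hinj hfS hε hstd hoff
      (by rw [ha]; push_cast; ring) hvn hvv hwdef hne hY hdegpos hone' hvone' with hle' | ⟨hm3, h5, hrest⟩
    · omega
    · exfalso
      exact hNoAlt w hwF (by omega) ⟨h5, hrest⟩
  have hcard : S.card = N + 3 := by
    by_cases hN2 : N = 2
    · have h4 := card_ne_four (w := w) (S := S) (by rw [hww, hN2]; norm_num) hY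
      omega
    · exact le_antisymm hle (hlow hN2)
  obtain ⟨hw1, hw4⟩ := heq hcard
  refine ⟨hcard, ?_, ?_⟩
  · rw [← hY]
    congr 1
    ext χ
    simp only [Finset.mem_filter, Finset.mem_univ, true_and, hS]
    constructor
    · rintro ⟨h1, h2⟩
      exact ⟨h1, (hoddiff χ ((hmemS χ).mpr h1)).mpr h2⟩
    · rintro ⟨h1, h2⟩
      exact ⟨h1, (hoddiff χ ((hmemS χ).mpr h1)).mp h2⟩
  · intro χ hχ
    have hχS := (hmemS χ).mpr hχ
    by_cases ho : Odd (w χ)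
    · rw [(hoddiff χ hχS).mp ho]
      norm_num
    · have h4 := hw4 χ hχS ho
      obtain ⟨r, hr, hwr⟩ := hval χ hχS
      by_contra hh
      obtain ⟨t, ht⟩ : ∃ t, blockHeight 2 B (χ : G → ℂ) = t + 2 := ⟨blockHeight 2 B (χ : G → ℂ) - 2, by omega⟩
      rw [hwr, ht] at h4
      have h5 : ((2 : ℤ) ^ (t + 2) * r) ^ 2 = 16 * ((2 : ℤ) ^ t * r) ^ 2 := by ring
      rw [h5] at h4
      omega

end Col

end Count

end Cfsg.Agent.Lib.Blocks.Tame
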