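/-
Tame blocks: orthogonal columns and extra sections.
-/
import Mathlib
import Cfsg.Agent.Lib.Blocks.TameH2

set_option autoImplicit false
set_option linter.style.haveILetI false

namespace Cfsg.Agent.Lib.Blocks.Tame

open Cfsg Cfsg.Agent.Lib.Blocks.Local Cfsg.Agent.Lib.Blocks.Central Cfsg.Agent.Lib.Blocks.Osima
open Cfsg.Agent.Lib.Blocks.Covering Cfsg.Agent.Lib.Blocks.BlockHom Cfsg.Agent.Lib.Blocks.Pairs
open Cfsg.Agent.Lib.Blocks.Twisted Cfsg.Agent.Lib.Blocks.Necklace Cfsg.Agent.Lib.Blocks.Sections
open Cfsg.Agent.Lib.Blocks.Regular Cfsg.Agent.Lib.Blocks.BlockCount Cfsg.Agent.Lib.Blocks.Nilp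
open Cfsg.Agent.Lib.Blocks.Transport Cfsg.Agent.Lib.Blocks.MajorSub
open Cfsg.Agent.Lib.Char.Ortho
open scoped ComplexConjugate

universe u

section Generic

variable {α ι : Type*} [Fintype ι] [DecidableEq ι] [DecidableEq α]

/-- Orthogonal nonzero vectors are linearly independent. -/
lemma linearIndependent_of_orth (S : Finset α) (u : ι → α → ℂ) (h0 : ∀ i, ∑ x ∈ S, u i x * conj (u i x) ≠ 0)
    (horth : ∀ i j, i ≠ j → ∑ x ∈ S, u i x * conj (u j x) = 0) :
    LinearIndependent ℂ (fun i : ι => (fun x : S => u i x)) := by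
  rw [Fintype.linearIndependent_iff]
  intro g hg i
  have h1 : ∀ x : S, ∑ j, g j * u j x = 0 := by
    intro x
    have := congrFun hg x
    simpa using this
  have h2 : ∑ x ∈ S, (∑ j, g j * u j x) * conj (u i x) = g i * ∑ x ∈ S, u i x * conj (u i x) := by
    simp only [Finset.sum_mul]
    rw [Finset.sum_comm]
    rw [Finset.sum_eq_single i]
    · rw [Finset.mul_sum]
      refine Finset.sum_congr rfl fun x _ => ?_
      ring
    · intro j _ hj
      have h3 := horth j i hj
      have h4 : ∑ x ∈ S, g j * u j x * conj (u i x) = g j * ∑ x ∈ S, u j x * conj (u i x) := by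
        rw [Finset.mul_sum]
        refine Finset.sum_congr rfl fun x _ => ?_
        ring
      rw [h4, h3, mul_zero]
    · intro h
      exact absurd (Finset.mem_univ i) h
  have h3 : ∑ x ∈ S, (∑ j, g j * u j x) * conj (u i x) = 0 := by
    refine Finset.sum_eq_zero fun x hx => ?_
    rw [h1 ⟨x, hx⟩, zero_mul]
  rw [h3] at h2
  exact (mul_eq_zero.mp h2.symm).resolve_right (h0 i)

/-- Orthogonal nonzero vectors: the bound. -/
lemma card_le_of_orth (S : Finset α) (u : ι → α → ℂ) (h0 : ∀ i, ∑ x ∈ S, u i x * conj (u i x) ≠ 0)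
    (horth : ∀ i j, i ≠ j → ∑ x ∈ S, u i x * conj (u j x) = 0) : Fintype.card ι ≤ S.card := by
  have h1 := (linearIndependent_of_orth S u h0 horth).fintype_card_le_finrank
  rw [Module.finrank_fintype_fun_eq_card] at h1
  simpa using h1

/-- A vector orthogonal to a full orthogonal system vanishes. -/
lemma eq_zero_of_orth_full (S : Finset α) (c : ι → α → ℂ) (hcard : S.card ≤ Fintype.card ι)
    (h0 : ∀ i, ∑ x ∈ S, c i x * conj (c i x) ≠ 0) (horth : ∀ i j, i ≠ j → ∑ x ∈ S, c i x * conj (c j x) = 0)
    (Y : α → ℂ) (hY : ∀ i, ∑ x ∈ S, Y x * conj (c i x) = 0) : ∑ x ∈ S, Y x * conj (Y x) = 0 := by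
  by_contra hne
  have h1 := card_le_of_orth (ι := Option ι) S (fun o => match o with
    | none => Y
    | some i => c i) (by
      intro o
      cases o with
      | none => exact hne
      | some i => exact h0 i) (by
      intro o o' hoo'
      cases o with
      | none =>
        cases o' with
        | none => exact absurd rfl hoo'
        | some j => exact hY j
      | some i =>
        cases o' with
        | none =>
          have := congrArg (starRingEnd ℂ) (hY i)
          rw [map_sum, map_zero] at this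
          refine Eq.trans (Finset.sum_congr rfl fun x _ => ?_) this
          rw [map_mul, Complex.conj_conj, mul_comm]
        | some j => exact horth i j (fun h => hoo' (by rw [h])))
  rw [Fintype.card_option] at h1
  omega

end Generic

section Rank

variable {G : Type u} [Group G] [Fintype G]

open Classical in
/-- Columns vanishing on the regular elements. -/
lemma rank_add_le_of_orth {ι : Type*} [Fintype ι] (p : ℕ) [Fact p.Prime] (B : Set (IrrCharacter G)) (c : ι → IrrCharacter G → ℂ)
    (h0 : ∀ i, ∑ χ ∈ Finset.univ.filter (· ∈ B), c i χ * conj (c i χ) ≠ 0)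
    (horth : ∀ i j, i ≠ j → ∑ χ ∈ Finset.univ.filter (· ∈ B), c i χ * conj (c j χ) = 0)
    (hreg : ∀ i, ∀ r : G, ¬ p ∣ orderOf r → ∑ χ ∈ Finset.univ.filter (· ∈ B), c i χ * (χ : G → ℂ) r = 0) :
    blockRank p B + Fintype.card ι ≤ (Finset.univ.filter (· ∈ B)).card := by
  set S : Finset (IrrCharacter G) := Finset.univ.filter (· ∈ B) with hS
  let A : (S → ℂ) →ₗ[ℂ] (G → ℂ) := Fintype.linearCombination ℂ
    (fun χ : S => pRegularPart p ((χ : IrrCharacter G) : G → ℂ))
  have hA : ∀ a g, A a g = ∑ χ : S, a χ * pRegularPart p ((χ : IrrCharacter G) : G → ℂ) g := by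
    intro a g
    simp only [A, Fintype.linearCombination_apply, Finset.sum_apply, Pi.smul_apply, smul_eq_mul]
  have hrange : LinearMap.range A = regSpan p B := by
    rw [Fintype.range_linearCombination, regSpan]
    congr 1
    ext f
    simp only [Set.mem_range, Set.mem_image]
    constructor
    · rintro ⟨χ, rfl⟩
      exact ⟨χ, (Finset.mem_filter.mp χ.2).2, rfl⟩
    · rintro ⟨χ, hχ, rfl⟩
      exact ⟨⟨χ, Finset.mem_filter.mpr ⟨Finset.mem_univ _, hχ⟩⟩, rfl⟩
  have hrn := A.finrank_range_add_finrank_ker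
  rw [hrange, Module.finrank_fintype_fun_eq_card, Fintype.card_coe, ← blockRank_eq] at hrn
  have hind := linearIndependent_of_orth S c h0 horth
  have hker : ∀ i, (fun χ : S => c i χ) ∈ LinearMap.ker A := by
    intro i
    rw [LinearMap.mem_ker]
    funext g
    rw [hA]
    by_cases hg : IsPRegular p g
    · have h2 := hreg i g hg
      rw [← Finset.sum_coe_sort] at h2
      refine Eq.trans (Finset.sum_congr rfl fun χ _ => ?_) h2
      simp [pRegularPart, hg]
    · simp [pRegularPart, hg]
  let v : ι → LinearMap.ker A := fun i => ⟨fun χ : S => c i χ, hker i⟩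
  have hv : LinearIndependent ℂ v := by
    apply LinearIndependent.of_comp (LinearMap.ker A).subtype
    exact hind
  have h3 := hv.fintype_card_le_finrank
  omega

end Rank

end Cfsg.Agent.Lib.Blocks.Tame
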