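/-
Tame blocks: the extra sections do not exist when the block is small.
-/
import Mathlib
import Cfsg.Agent.Lib.Blocks.TameX

set_option autoImplicit false
set_option linter.style.haveILetI false

namespace Cfsg.Agent.Lib.Blocks.Tame

open Cfsg Cfsg.Agent.Lib.Blocks.Local Cfsg.Agent.Lib.Blocks.Central Cfsg.Agent.Lib.Blocks.Osima
open Cfsg.Agent.Lib.Blocks.Covering Cfsg.Agent.Lib.Blocks.BlockHom Cfsg.Agent.Lib.Blocks.Pairs
open Cfsg.Agent.Lib.Blocks.Twisted Cfsg.Agent.Lib.Blocks.Necklace Cfsg.Agent.Lib.Blocks.Sections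
open Cfsg.Agent.Lib.Blocks.Regular Cfsg.Agent.Lib.Blocks.BlockCount Cfsg.Agent.Lib.Blocks.Nilp
open Cfsg.Agent.Lib.Blocks.Transport Cfsg.Agent.Lib.Blocks.MajorSub
open Cfsg.Agent.Lib.Char.Ortho
open scoped ComplexConjugate

universe u

section Pos

/-- A sum of squares of absolute values. -/
lemma sum_mul_conj_ne_zero {α : Type*} {S : Finset α} {f : α → ℂ} {x : α} (hx : x ∈ S) (hf : f x ≠ 0) :
    ∑ y ∈ S, f y * conj (f y) ≠ 0 := by
  have h1 : ∑ y ∈ S, f y * conj (f y) = ((∑ y ∈ S, Complex.normSq (f y) : ℝ) : ℂ) := by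
    push_cast
    refine Finset.sum_congr rfl fun y _ => ?_
    rw [Complex.mul_conj]
  rw [h1]
  apply Complex.ofReal_ne_zero.mpr
  apply ne_of_gt
  exact Finset.sum_pos' (fun y _ => Complex.normSq_nonneg _) ⟨x, hx, Complex.normSq_pos.mpr hf⟩

variable {K : Type*} [Group K] [Fintype K]

lemma classInner_reg_self_ne_zero {p : ℕ} [hp : Fact p.Prime] (μ : IrrCharacter K) :
    classInner (reg p (μ : K → ℂ)) (μ : K → ℂ) ≠ 0 := by
  have h1 : classInner (reg p (μ : K → ℂ)) (μ : K → ℂ) = (Nat.card K : ℂ)⁻¹ * ∑ g : K, reg p (μ : K → ℂ) g * conj (reg p (μ : K → ℂ) g) := by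
    rw [classInner]
    congr 1
    refine Finset.sum_congr rfl fun g _ => ?_
    by_cases hg : p ∣ orderOf g
    · rw [reg_of_dvd _ hg]
      simp
    · rw [reg_of_not_dvd _ hg]
  rw [h1]
  apply mul_ne_zero
  · apply inv_ne_zero
    exact_mod_cast Nat.card_pos.ne'
  · refine sum_mul_conj_ne_zero (x := (1 : K)) (Finset.mem_univ _) ?_
    rw [reg_of_not_dvd]
    · exact Cfsg.Agent.Lib.Char.Ortho.irr_apply_one_ne_zero μ.2
    · rw [orderOf_one]
      exact hp.out.one_lt.ne' ∘ Nat.dvd_one.mp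

end Pos

section Extra

variable {G : Type u} [Group G] [Fintype G] {M : Ideal AlgInt} [hM : M.IsPrime]

/-- The entry of the column of `(u, μ)`. -/
noncomputable def YC (u : G) [Fintype (Cen u)] (μ : Cen u → ℂ) (χ : IrrCharacter G) : ℂ :=
  classInner (reg 2 (fun c : Cen u => (χ : G → ℂ) (u * c))) μ

open Classical in
/-- The columns at `u`, as a sum over the characters of the centralizer. -/
lemma YC_sum (hMp : IsPModular 2 M) {u : G} [Fintype (Cen u)] {k : ℕ} (hu : orderOf u = 2 ^ k) (χ₁ : IrrCharacter G)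
    (μ μ' : Cen u → ℂ) :
    ∑ χ ∈ Finset.univ.filter (· ∈ blockOf M (χ₁ : G → ℂ)), YC u μ χ * conj (YC u μ' χ) =
      ∑ ξ ∈ Finset.univ.filter (· ∈ inducers (Cen u) M (χ₁ : G → ℂ)),
        classInner (reg 2 (ξ : Cen u → ℂ)) μ * conj (classInner (reg 2 (ξ : Cen u → ℂ)) μ') := by
  haveI : Fact (Nat.Prime 2) := ⟨Nat.prime_two⟩
  unfold YC
  refine Cfsg.Agent.Lib.Blocks.AbFree.sum_inner_congr _ _ _ _ _ _ _ _ fun c c' hc hc' => ?_
  exact Cfsg.Agent.Lib.Blocks.SectionSum.sum_block_section hMp hu χ₁ c c' hc hc'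

open Classical in
/-- The column of a member of the inducers is not zero. -/
lemma YC_norm (hMp : IsPModular 2 M) {u : G} [Fintype (Cen u)] {k : ℕ} (hu : orderOf u = 2 ^ k) (χ₁ : IrrCharacter G)
    {μ : IrrCharacter (Cen u)} (hμ : μ ∈ inducers (Cen u) M (χ₁ : G → ℂ)) :
    ∑ χ ∈ Finset.univ.filter (· ∈ blockOf M (χ₁ : G → ℂ)), YC u (μ : Cen u → ℂ) χ * conj (YC u (μ : Cen u → ℂ) χ) ≠ 0 := by
  haveI : Fact (Nat.Prime 2) := ⟨Nat.prime_two⟩
  rw [YC_sum hMp hu]
  exact sum_mul_conj_ne_zero (Finset.mem_filter.mpr ⟨Finset.mem_univ _, hμ⟩) (classInner_reg_self_ne_zero μ)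

open Classical in
/-- Vanishing of a sum with the column at `u`. -/
lemma YC_sum_mul {u : G} [Fintype (Cen u)] (μ : Cen u → ℂ) (S : Finset (IrrCharacter G)) (W : IrrCharacter G → ℂ)
    (h : ∀ c : Cen u, ¬ 2 ∣ orderOf c → ∑ χ ∈ S, (χ : G → ℂ) (u * c) * W χ = 0) :
    ∑ χ ∈ S, YC u μ χ * W χ = 0 := by
  unfold YC
  simp only [classInner, mul_assoc, Finset.sum_mul]
  rw [← Finset.mul_sum, Finset.sum_comm]
  apply mul_eq_zero_of_right
  refine Finset.sum_eq_zero fun c _ => ?_
  by_cases hc : 2 ∣ orderOf c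
  · simp only [reg_of_dvd _ hc, zero_mul, Finset.sum_const_zero]
  · simp only [reg_of_not_dvd _ hc]
    have h1 := h c hc
    have h2 : ∑ χ ∈ S, (χ : G → ℂ) (u * c) * (conj (μ c) * W χ) = conj (μ c) * ∑ χ ∈ S, (χ : G → ℂ) (u * c) * W χ := by
      rw [Finset.mul_sum]
      refine Finset.sum_congr rfl fun χ _ => ?_
      ring
    rw [h2, h1, mul_zero]

lemma isPPart_section {u : G} {k : ℕ} (hu : orderOf u = 2 ^ k) (c : Cen u) (hc : ¬ 2 ∣ orderOf c) :
    IsPPart 2 (u * c) u := by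
  refine ⟨c, rfl, ?_, ⟨k, hu⟩, by rwa [Subgroup.orderOf_coe]⟩
  exact (Subgroup.mem_centralizer_singleton_iff.mp c.2).symm

open Classical in
/-- The column at `u` is orthogonal to the degrees. -/
lemma YC_orth_one (hMp : IsPModular 2 M) {B : Set (IrrCharacter G)} (hB : IsPBlock M B) {u : G} [Fintype (Cen u)]
    {k : ℕ} (hu : orderOf u = 2 ^ k) (hu1 : u ≠ 1) (μ : Cen u → ℂ) :
    ∑ χ ∈ Finset.univ.filter (· ∈ B), YC u μ χ * (χ : G → ℂ) 1 = 0 := by
  haveI : Fact (Nat.Prime 2) := ⟨Nat.prime_two⟩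
  refine YC_sum_mul μ _ _ fun c hc => ?_
  have hp1 := isPPart_section hu c hc
  have hp2 : IsPPart 2 (1 : G) 1 := by
    refine ⟨1, mul_one 1, Commute.one_right 1, ⟨0, by simp⟩, ?_⟩
    rw [orderOf_one]
    exact Nat.not_dvd_of_pos_of_lt one_pos (by norm_num)
  have hnc : ¬ IsConj u (1 : G) := fun h => hu1 (isConj_one_left.mp h)
  have h2 := block_orthogonality hMp hp1 hp2 hnc hB
  rw [Osima.finsum_mem_eq_sum_filter] at h2
  simpa using h2

end Extra

section InCol

variable {G : Type u} [Group G] [Fintype G] {M : Ideal AlgInt} [hM : M.IsPrime]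
  {z : G} [Fintype (Cen z)] {b : Set (IrrCharacter (Cen z))} {P : Subgroup (Cen z)}
  {e : Set (IrrCharacter (Subgroup.centralizer (P : Set (Cen z))))} {χ₀ : IrrCharacter (Cen z)}
  {L : IrrCharacter (Cen z) → IrrCharacter P}

namespace Col

variable {B : Set (IrrCharacter G)} {x₀ a₀ : P} {N k : ℕ} (h : Col M B b P e χ₀ L x₀ a₀ N k)
include h

theorem N_pos' : 0 < N := h.hall.N_pos

open Classical in
/-- The columns on the rotations have positive norm. -/
lemma F_norm [Fintype P] {l : ℕ} (h0 : 0 < l) (hl : l < 2 * N) :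
    ∑ χ ∈ Finset.univ.filter (· ∈ B), FF M P e χ₀ x₀ χ l * conj (FF M P e χ₀ x₀ χ l) ≠ 0 := by
  simp only [h.F_real]
  rw [h.F_gram h0 hl h0 hl, if_pos rfl]
  have hN : ((2 * N : ℕ) : ℂ) ≠ 0 := by
    have := h.N_pos'
    exact_mod_cast (by omega : 2 * N ≠ 0)
  apply mul_ne_zero hN
  split_ifs
  · norm_num
  · norm_num

open Classical in
/-- Distinct columns on the rotations are orthogonal. -/
lemma F_orth_col [Fintype P] {l l' : ℕ} (h0 : 0 < l) (hl : l ≤ N) (h0' : 0 < l') (hl' : l' ≤ N) (hne : l' ≠ l) :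
    ∑ χ ∈ Finset.univ.filter (· ∈ B), FF M P e χ₀ x₀ χ l' * conj (FF M P e χ₀ x₀ χ l) = 0 := by
  have hN := h.N_pos'
  simp only [h.F_real]
  rw [h.F_gram h0 (by omega) h0' (by omega), if_neg hne, if_neg (by omega)]
  simp

open Classical in
/-- **The rank.** -/
theorem rank_add_le [Fintype P] : blockRank 2 B + N ≤ (Finset.univ.filter (· ∈ B)).card := by
  haveI : Fact (Nat.Prime 2) := ⟨Nat.prime_two⟩
  have hN := h.N_pos'
  have h1 := rank_add_le_of_orth (ι := Fin N) 2 B (fun j χ => FF M P e χ₀ x₀ χ (j.val + 1))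
    (fun j => h.F_norm (by omega) (by have := j.2; omega))
    (fun i j hij => h.F_orth_col (by omega) (by have := j.2; omega) (by omega) (by have := i.2; omega)
      (fun he => hij (Fin.ext (by omega))))
    (fun j r hr => by
      have hp : IsPPart 2 r 1 := ⟨r, one_mul r, Commute.one_left r, ⟨0, by simp⟩, hr⟩
      have hnc : ¬ IsConj (1 : G) (((x₀ ^ (j.val + 1) : P) : Cen z) : G) := by
        intro hc
        have h2 := isConj_one_right.mp hc
        have h3 := h.hzero (l := j.val + 1) (by omega) (by have := j.2; omega)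
        rw [h2] at h3
        exact h.hz1 (by simpa using h3)
      have h2 := h.F_orth hp hnc
      rw [← h2]
      refine Finset.sum_congr rfl fun χ _ => ?_
      ring)
  simpa using h1

open Classical in
/-- A vector orthogonal to all the columns. -/
theorem extra_zero [Fintype P] (hS : (Finset.univ.filter (· ∈ B)).card = N + 1) (Y : IrrCharacter G → ℂ)
    (h1 : ∑ χ ∈ Finset.univ.filter (· ∈ B), Y χ * (χ : G → ℂ) 1 = 0)
    (h2 : ∀ l, 0 < l → l ≤ N → ∑ χ ∈ Finset.univ.filter (· ∈ B), Y χ * FF M P e χ₀ x₀ χ l = 0) :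
    ∑ χ ∈ Finset.univ.filter (· ∈ B), Y χ * conj (Y χ) = 0 := by
  haveI : Fact (Nat.Prime 2) := ⟨Nat.prime_two⟩
  have hN := h.N_pos'
  obtain ⟨χ₁, hχ₁⟩ := Cfsg.Agent.Lib.Blocks.Pairs.isPBlock_nonempty h.hB
  have hdeg : ∀ χ : IrrCharacter G, conj ((χ : G → ℂ) 1) = (χ : G → ℂ) 1 := by
    intro χ
    rw [← Cfsg.Agent.Lib.Blocks.RegInt.charDegree_cast χ, Complex.conj_natCast]
  refine eq_zero_of_orth_full (ι := Fin (N + 1)) (Finset.univ.filter (· ∈ B))
    (fun (i : Fin (N + 1)) (χ : IrrCharacter G) => if i.val = 0 then (χ : G → ℂ) 1 else FF M P e χ₀ x₀ χ i.val)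
    (by simp [hS]) ?_ ?_ Y ?_
  · intro i
    by_cases hi : i.val = 0
    · simp only [hi, if_true]
      exact sum_mul_conj_ne_zero (x := χ₁) (Finset.mem_filter.mpr ⟨Finset.mem_univ _, hχ₁⟩)
        (Cfsg.Agent.Lib.Char.Ortho.irr_apply_one_ne_zero χ₁.2)
    · simp only [hi, if_false]
      exact h.F_norm (by omega) (by have := i.2; omega)
  · intro i j hij
    by_cases hi : i.val = 0
    · have hj : j.val ≠ 0 := fun hj => hij (Fin.ext (by omega))
      simp only [hi, hj, if_true, if_false, h.F_real]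
      exact h.F_orth_one (by omega) (by have := j.2; omega)
    · by_cases hj : j.val = 0
      · simp only [hi, hj, if_true, if_false, hdeg]
        have := h.F_orth_one (l := i.val) (by omega) (by have := i.2; omega)
        rw [← this]
        refine Finset.sum_congr rfl fun χ _ => ?_
        ring
      · simp only [hi, hj, if_false]
        exact h.F_orth_col (by omega) (by have := j.2; omega) (by omega) (by have := i.2; omega)
          (fun he => hij (Fin.ext he))
  · intro i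
    by_cases hi : i.val = 0
    · simp only [hi, if_true, hdeg]
      exact h1
    · simp only [hi, if_false, h.F_real]
      exact h2 _ (by omega) (by have := i.2; omega)

end Col

end InCol

end Cfsg.Agent.Lib.Blocks.Tame
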