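/-
Tame blocks: when the block is small, all the sections are on the rotations.
-/
import Mathlib
import Cfsg.Agent.Lib.Blocks.TameX2

set_option autoImplicit false
set_option linter.style.haveILetI false

namespace Cfsg.Agent.Lib.Blocks.Tame

open Cfsg Cfsg.Agent.Lib.Blocks.Local Cfsg.Agent.Lib.Blocks.Central Cfsg.Agent.Lib.Blocks.Osima
open Cfsg.Agent.Lib.Blocks.Covering Cfsg.Agent.Lib.Blocks.BlockHom Cfsg.Agent.Lib.Blocks.Pairs
open Cfsg.Agent.Lib.Blocks.Twisted Cfsg.Agent.Lib.Blocks.Necklace Cfsg.Agent.Lib.Blocks.Sections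
open Cfsg.Agent.Lib.Blocks.Regular Cfsg.Agent.Lib.Blocks.BlockCount Cfsg.Agent.Lib.Blocks.Nilp
open Cfsg.Agent.Lib.Blocks.Transport Cfsg.Agent.Lib.Blocks.MajorSub
open Cfsg.Agent.Lib.Char.Ortho
open scoped ComplexConjugate

universe u

section InCol

variable {G : Type u} [Group G] [Fintype G] {M : Ideal AlgInt} [hM : M.IsPrime]

/-- Members of a defect group have an inducer. -/
lemma exists_mem_inducers (hMp : IsPModular 2 M) {B : Set (IrrCharacter G)} (hB : IsPBlock M B) {D : Subgroup G}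
    (hD : IsDefectGroup 2 M B D) {t : G} (ht : t ∈ D) {χ₁ : IrrCharacter G} (hχ₁ : χ₁ ∈ B) :
    ∃ ξ : IrrCharacter (Cen t), ξ ∈ inducers (Cen t) M (χ₁ : G → ℂ) := by
  haveI : Fact (Nat.Prime 2) := ⟨Nat.prime_two⟩
  obtain ⟨e, hmax⟩ := Cfsg.Agent.S4552.exists_maximal_on_defect hMp hB hD
  have key : ∀ K : Subgroup G, Kz t = K → ∃ ξ : IrrCharacter K, ξ ∈ inducers K M (χ₁ : G → ℂ) := by
    rintro K rfl
    letI : Fintype (Kz t) := Fintype.ofFinite _
    obtain ⟨ξ, hξ⟩ := isPBlock_nonempty (isPBlock_eBlk hMp hmax.1.1 ht)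
    exact ⟨ξ, Cfsg.Agent.Lib.Blocks.AbFree.eBlk_subset_inducers hMp hmax ht hχ₁ hξ⟩
  exact key (Cen t) (Cfsg.Agent.Lib.Blocks.AbelianCount.cz_eq_cen t)

lemma isClassFunction_secC (χ : IrrCharacter G) (x : G) [Fintype (Cen x)] :
    IsClassFunction (Cen x) (fun c : Cen x => (χ : G → ℂ) (x * c)) := by
  intro c d
  show (χ : G → ℂ) (x * (((d * c * d⁻¹ : Cen x)) : G)) = (χ : G → ℂ) (x * c)
  have hd : Commute (d : G) x := by
    have := Subgroup.mem_centralizer_iff.mp d.2 x rfl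
    exact this.symm
  have h1 : x * (((d * c * d⁻¹ : Cen x)) : G) = (d : G) * (x * c) * (d : G)⁻¹ := by
    simp only [Subgroup.coe_mul, Subgroup.coe_inv]
    rw [← mul_assoc, ← mul_assoc, ← hd.eq]
    group
  rw [h1, isClassFunction_of_irr χ.2]

variable {z : G} [Fintype (Cen z)] {b : Set (IrrCharacter (Cen z))} {P : Subgroup (Cen z)}
  {e : Set (IrrCharacter (Subgroup.centralizer (P : Set (Cen z))))} {χ₀ : IrrCharacter (Cen z)}
  {L : IrrCharacter (Cen z) → IrrCharacter P}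

namespace Col

variable {B : Set (IrrCharacter G)} {x₀ a₀ : P} {N k : ℕ} (h : Col M B b P e χ₀ L x₀ a₀ N k)
include h

open Classical in
theorem YC_orth_F {u : G} [Fintype (Cen u)] {j : ℕ} (hu : orderOf u = 2 ^ j) {l : ℕ}
    (hnc : ¬ IsConj u (((x₀ ^ l : P) : Cen z) : G)) (μ : Cen u → ℂ) :
    ∑ χ ∈ Finset.univ.filter (· ∈ B), YC u μ χ * FF M P e χ₀ x₀ χ l = 0 :=
  YC_sum_mul μ _ _ fun c hc => h.F_orth (isPPart_section hu c hc) hnc

open Classical in
/-- **When the block is small, every section lies on a rotation.** -/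
theorem conj_of_inducers [Fintype P] (hS : (Finset.univ.filter (· ∈ B)).card = N + 1) {u : G} [Fintype (Cen u)] {j : ℕ}
    (hu : orderOf u = 2 ^ j) (hu1 : u ≠ 1) {χ₁ : IrrCharacter G} (hχ₁ : χ₁ ∈ B) {μ : IrrCharacter (Cen u)}
    (hμ : μ ∈ inducers (Cen u) M (χ₁ : G → ℂ)) :
    ∃ l, 0 < l ∧ l ≤ N ∧ IsConj u (((x₀ ^ l : P) : Cen z) : G) := by
  by_contra hno
  push Not at hno
  have hBeq : B = blockOf M (χ₁ : G → ℂ) := isPBlock_eq_blockOf h.hB hχ₁
  have h0 := h.extra_zero hS (YC u (μ : Cen u → ℂ)) (YC_orth_one h.hP.hMp h.hB hu hu1 _)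
    (fun l hl0 hlN => h.YC_orth_F hu (hno l hl0 hlN) _)
  have h1 := YC_norm h.hP.hMp hu χ₁ hμ
  simp only [← hBeq] at h1
  exact h1 h0

/-- The column at `z` is the column of `χ₀`. -/
theorem FF_N_eq (χ : IrrCharacter G) :
    FF M P e χ₀ x₀ χ N = (Nat.card P : ℂ) * YC z (χ₀ : Cen z → ℂ) χ := by
  classical
  haveI : Fact (Nat.Prime 2) := ⟨Nat.prime_two⟩
  have hbb : IsPBlock M b := h.hP.hmax.1.2.1
  have h1 := Cfsg.Agent.Lib.Blocks.AbFree.inner_reg_blockPart h.hP.hMp hbb _ (isClassFunction_secC χ z) h.hP.hχ₀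
  have hPf : (Pf P).card = Nat.card P := by
    rw [Nat.card_eq_fintype_card, Fintype.card_subtype]
    rfl
  have hR := h.hP.hR
  rw [hPf] at hR
  unfold YC
  rw [h1]
  have h2 : reg 2 (blockPart b fun c : Cen z => (χ : G → ℂ) (z * c)) = gg 2 b χ := rfl
  rw [h2, h.gg_eq_smul, Cfsg.Agent.Lib.Char.Ortho.classInner_smul_left, mul_left_comm, hR, mul_one]

open Classical in
/-- **When the block is small, the inducers at `z` are `b`.** -/
theorem inducers_subset [Fintype P] (hS : (Finset.univ.filter (· ∈ B)).card = N + 1) {χ₁ : IrrCharacter G}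
    (hχ₁ : χ₁ ∈ B) : inducers (Cen z) M (χ₁ : G → ℂ) ⊆ b := by
  haveI : Fact (Nat.Prime 2) := ⟨Nat.prime_two⟩
  intro μ hμ
  by_contra hμb
  have hzo : orderOf z = 2 ^ 1 := by
    rw [pow_one]
    exact orderOf_eq_prime (by rw [sq]; exact h.hzz) h.hz1
  have hbb : IsPBlock M b := h.hP.hmax.1.2.1
  have hBeq : B = blockOf M (χ₁ : G → ℂ) := isPBlock_eq_blockOf h.hB hχ₁
  have hcl : IsClosed M b := isClosed_of_isPBlock hbb
  have h0 := h.extra_zero hS (YC z (μ : Cen z → ℂ)) (YC_orth_one h.hP.hMp h.hB hzo h.hz1 _) ?_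
  · have h1 := YC_norm h.hP.hMp hzo χ₁ hμ
    simp only [← hBeq] at h1
    exact h1 h0
  intro l hl0 hlN
  rcases Nat.lt_or_ge l N with hlt | hge
  · refine h.YC_orth_F hzo ?_ _
    intro hc
    -- `x^l` would be an involution
    have h2 : (((x₀ ^ l : P) : Cen z) : G) * (((x₀ ^ l : P) : Cen z) : G) = 1 := by
      obtain ⟨g, hg⟩ := isConj_iff.mp hc
      rw [← hg]
      calc g * z * g⁻¹ * (g * z * g⁻¹) = g * (z * z) * g⁻¹ := by group
        _ = 1 := by rw [h.hzz]; group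
    have h3 : x₀ ^ l * x₀ ^ l = 1 := by
      apply Subtype.ext
      apply Subtype.ext
      simpa using h2
    have h4 : x₀ ^ (2 * l) = 1 := by rw [two_mul, pow_add, h3]
    have h5 := orderOf_dvd_of_pow_eq_one h4
    rw [h.hall.hxo] at h5
    have := Nat.le_of_dvd (by omega) h5
    omega
  · have hlN' : l = N := le_antisymm hlN hge
    subst hlN'
    have h1 : ∑ χ ∈ Finset.univ.filter (· ∈ B), YC z (μ : Cen z → ℂ) χ * FF M P e χ₀ x₀ χ l =
        (Nat.card P : ℂ) * ∑ χ ∈ Finset.univ.filter (· ∈ B), YC z (μ : Cen z → ℂ) χ *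
          conj (YC z (χ₀ : Cen z → ℂ) χ) := by
      rw [Finset.mul_sum]
      refine Finset.sum_congr rfl fun χ _ => ?_
      rw [← h.F_real χ l, h.FF_N_eq, map_mul, Complex.conj_natCast]
      ring
    rw [h1]
    apply mul_eq_zero_of_right
    have h2 := YC_sum h.hP.hMp hzo χ₁ (μ : Cen z → ℂ) (χ₀ : Cen z → ℂ)
    simp only [← hBeq] at h2
    rw [h2]
    refine Finset.sum_eq_zero fun ξ _ => ?_
    by_cases hξ : ξ ∈ b
    · have h3 : classInner (reg 2 (ξ : Cen z → ℂ)) (μ : Cen z → ℂ) = 0 := by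
        refine classInner_reg_eq_zero_of_closed h.hP.hMp (A := bᶜ) (isClosed_compl hcl) ?_ hμb
        exact fun h4 => h4 hξ
      rw [h3, zero_mul]
    · have h3 : classInner (reg 2 (ξ : Cen z → ℂ)) (χ₀ : Cen z → ℂ) = 0 :=
        classInner_reg_eq_zero_of_closed h.hP.hMp hcl hξ h.hP.hχ₀
      rw [h3, map_zero, mul_zero]

open Classical in
/-- **The value at `z`.** -/
theorem value_z [Fintype P] (hS : (Finset.univ.filter (· ∈ B)).card = N + 1) {χ : IrrCharacter G}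
    (hχ : χ ∈ B) : (χ : G → ℂ) z = FF M P e χ₀ x₀ χ N * (χ₀ : Cen z → ℂ) 1 := by
  haveI : Fact (Nat.Prime 2) := ⟨Nat.prime_two⟩
  have hzo : orderOf z = 2 ^ 1 := by
    rw [pow_one]
    exact orderOf_eq_prime (by rw [sq]; exact h.hzz) h.hz1
  have h1 : ¬ 2 ∣ orderOf (1 : Cen z) := by
    rw [orderOf_one]
    norm_num
  have h2 := blockPart_section h.hP.hMp hzo (1 : Cen z) h1 χ (isClassFunction_of_irr χ.2)
  have hind : inducers (Cen z) M (χ : G → ℂ) = b :=
    Set.Subset.antisymm (h.inducers_subset hS hχ) (fun ξ hξ g => h.hind.2.2 ξ hξ χ hχ g)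
  rw [hind] at h2
  have h3 := blockPart_eq_self (B := blockOf M (χ : G → ℂ)) (mem_blockOf_self χ)
  rw [h3] at h2
  simp only [OneMemClass.coe_one, mul_one] at h2
  rw [h2]
  have h4 := congrFun (h.gg_eq_smul χ) 1
  simp only [gg, Pi.smul_apply, smul_eq_mul] at h4
  rw [reg_of_not_dvd _ h1, reg_of_not_dvd _ h1] at h4
  exact h4

open Classical in
/-- **When the block is small, the involutions of the defect group are conjugate to `z`.** -/
theorem conj_of_invol [Fintype P] (hS : (Finset.univ.filter (· ∈ B)).card = N + 1) {D : Subgroup G}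
    (hD : IsDefectGroup 2 M B D) {r : G} (hrD : r ∈ D) (hrr : r * r = 1) (hr1 : r ≠ 1) : IsConj r z := by
  obtain ⟨χ₁, hχ₁⟩ := isPBlock_nonempty h.hB
  obtain ⟨μ, hμ⟩ := exists_mem_inducers h.hP.hMp h.hB hD hrD hχ₁
  have hro : orderOf r = 2 ^ 1 := by
    rw [pow_one]
    exact orderOf_eq_prime (by rw [sq]; exact hrr) hr1
  obtain ⟨l, hl0, hlN, hc⟩ := h.conj_of_inducers hS hro hr1 hχ₁ hμ
  have h2 : (((x₀ ^ l : P) : Cen z) : G) * (((x₀ ^ l : P) : Cen z) : G) = 1 := by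
    obtain ⟨g, hg⟩ := isConj_iff.mp hc
    rw [← hg]
    calc g * r * g⁻¹ * (g * r * g⁻¹) = g * (r * r) * g⁻¹ := by group
      _ = 1 := by rw [hrr]; group
  have h3 : x₀ ^ l * x₀ ^ l = 1 := by
    apply Subtype.ext
    apply Subtype.ext
    simpa using h2
  have h4 : x₀ ^ (2 * l) = 1 := by rw [two_mul, pow_add, h3]
  have h5 := orderOf_dvd_of_pow_eq_one h4
  rw [h.hall.hxo] at h5
  have h6 := Nat.le_of_dvd (by omega) h5
  have h7 : l = N := by omega
  subst h7
  rwa [h.hzx] at hc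

end Col

end InCol

end Cfsg.Agent.Lib.Blocks.Tame
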