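/-
Tame blocks: products of conjugates of the involution, in the group and in its centralizer.
-/
import Mathlib
import Cfsg.Agent.Lib.Blocks.TameX3
import Cfsg.Agent.Lib.Blocks.TameY1
import Cfsg.Agent.Lib.Blocks.TameY2

set_option autoImplicit false
set_option linter.style.haveILetI false

namespace Cfsg.Agent.Lib.Blocks.Tame

open Cfsg Cfsg.Agent.Lib.Blocks.Local Cfsg.Agent.Lib.Blocks.Central Cfsg.Agent.Lib.Blocks.Osima
open Cfsg.Agent.Lib.Blocks.Covering Cfsg.Agent.Lib.Blocks.BlockHom Cfsg.Agent.Lib.Blocks.Pairs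
open Cfsg.Agent.Lib.Blocks.Twisted Cfsg.Agent.Lib.Blocks.Necklace Cfsg.Agent.Lib.Blocks.Sections
open Cfsg.Agent.Lib.Blocks.Regular Cfsg.Agent.Lib.Blocks.BlockCount Cfsg.Agent.Lib.Blocks.Nilp
open Cfsg.Agent.Lib.Blocks.Transport Cfsg.Agent.Lib.Blocks.MajorSub
open Cfsg.Agent.Lib.Char.Ortho
open Cfsg.Agent.Lib.Char.Integrality (classFinset mem_classFinset)
open scoped ComplexConjugate

universe u

section Sets

variable {G : Type u} [Group G] [Fintype G]

open Classical in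
/-- The conjugates of `z` in its centralizer. -/
noncomputable def Tz (z : G) [Fintype (Cen z)] : Finset (Cen z) :=
  Finset.univ.filter (fun s => IsConj z (s : G))

lemma mem_Tz {z : G} [Fintype (Cen z)] {s : Cen z} : s ∈ Tz z ↔ IsConj z (s : G) := by
  classical
  simp [Tz]

lemma classFinset_closed (z : G) : ∀ s ∈ classFinset z, ∀ g : G, g * s * g⁻¹ ∈ classFinset z := by
  intro s hs g
  rw [mem_classFinset] at hs ⊢
  exact hs.trans (isConj_iff.mpr ⟨g, rfl⟩)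

lemma Tz_closed (z : G) [Fintype (Cen z)] : ∀ s ∈ Tz z, ∀ g : Cen z, g * s * g⁻¹ ∈ Tz z := by
  intro s hs g
  rw [mem_Tz] at hs ⊢
  exact hs.trans (isConj_iff.mpr ⟨g, rfl⟩)

lemma invol_of_isConj {z s : G} (hzz : z * z = 1) (hs : IsConj z s) : s * s = 1 := by
  obtain ⟨g, rfl⟩ := isConj_iff.mp hs
  calc g * z * g⁻¹ * (g * z * g⁻¹) = g * (z * z) * g⁻¹ := by group
    _ = 1 := by rw [hzz]; group

lemma Tz_invol {z : G} [Fintype (Cen z)] (hzz : z * z = 1) : ∀ s ∈ Tz z, s * s = 1 := by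
  intro s hs
  apply Subtype.ext
  exact invol_of_isConj hzz (mem_Tz.mp hs)

lemma isClass_ind_Tz (z : G) [Fintype (Cen z)] : IsClassFunction (Cen z) (indF (Tz z)) := by
  intro s g
  by_cases hs : s ∈ Tz z
  · rw [indF_mem hs, indF_mem (Tz_closed z s hs g)]
  · have h1 : g * s * g⁻¹ ∉ Tz z := by
      intro h2
      apply hs
      simpa [mul_assoc] using Tz_closed z _ h2 g⁻¹
    rw [indF_not_mem hs, indF_not_mem h1]

open Classical in
/-- The count in the group and in the centralizer agree at the elements over `z`. -/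
theorem pc_section {z : G} [Fintype (Cen z)] (hzz : z * z = 1) {w : Cen z} (hw : z ∈ Subgroup.zpowers (w : G)) :
    pc (classFinset z) (w : G) = pc (Tz z) w := by
  unfold pc
  congr 1
  symm
  refine Finset.card_bij (fun p _ => ((p.1 : G), (p.2 : G))) ?_ ?_ ?_
  · intro p hp
    obtain ⟨hs, ht, hp2⟩ := mem_pcSet.mp hp
    refine mem_pcSet.mpr ⟨?_, ?_, ?_⟩
    · rw [mem_classFinset]
      exact mem_Tz.mp hs
    · rw [mem_classFinset]
      exact mem_Tz.mp ht
    · show (p.1 : G) * (p.2 : G) = w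
      rw [← hp2]
      rfl
  · intro p _ q _ he
    have h1 := congrArg Prod.fst he
    have h2 := congrArg Prod.snd he
    simp only at h1 h2
    exact Prod.ext (Subtype.ext h1) (Subtype.ext h2)
  · intro p hp
    obtain ⟨hs, ht, hp2⟩ := mem_pcSet.mp hp
    rw [mem_classFinset] at hs ht
    have hss := invol_of_isConj hzz hs
    have htt := invol_of_isConj hzz ht
    obtain ⟨i, hi⟩ := exists_pow_of_mem_zpowers hw
    have hsi : p.1⁻¹ = p.1 := inv_eq_of_mul_eq_one_left hss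
    have hti : p.2⁻¹ = p.2 := inv_eq_of_mul_eq_one_left htt
    -- `s` inverts `w`
    have hinv : p.1 * (w : G) * p.1⁻¹ = (w : G)⁻¹ := by
      rw [← hp2, hsi, mul_inv_rev, hsi, hti, ← mul_assoc, hss, one_mul]
    have hsz : p.1 * z * p.1⁻¹ = z := by
      rw [← hi, ← conj_pow, hinv, inv_pow, hi]
      exact inv_eq_of_mul_eq_one_left hzz
    have hsC : p.1 ∈ Cen z := by
      rw [Subgroup.mem_centralizer_singleton_iff]
      calc p.1 * z = (p.1 * z * p.1⁻¹) * p.1 := by group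
        _ = z * p.1 := by rw [hsz]
    have htC : p.2 ∈ Cen z := by
      have h1 : p.2 = p.1⁻¹ * (w : G) := by
        rw [← hp2]
        group
      rw [h1]
      exact (Cen z).mul_mem ((Cen z).inv_mem hsC) w.2
    refine ⟨(⟨p.1, hsC⟩, ⟨p.2, htC⟩), mem_pcSet.mpr ⟨mem_Tz.mpr hs, mem_Tz.mpr ht, ?_⟩, rfl⟩
    apply Subtype.ext
    exact hp2

end Sets

section InCol

variable {G : Type u} [Group G] [Fintype G] {M : Ideal AlgInt} [hM : M.IsPrime]
  {z : G} [Fintype (Cen z)] {b : Set (IrrCharacter (Cen z))} {P : Subgroup (Cen z)}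
  {e : Set (IrrCharacter (Subgroup.centralizer (P : Set (Cen z))))} {χ₀ : IrrCharacter (Cen z)}
  {L : IrrCharacter (Cen z) → IrrCharacter P}

/-- The coefficient of the indicator of `Tz`, up to conjugation. -/
noncomputable def UU (M : Ideal AlgInt) (P : Subgroup (Cen z))
    (e : Set (IrrCharacter (Subgroup.centralizer (P : Set (Cen z))))) (χ₀ : IrrCharacter (Cen z)) (v : P) : ℂ :=
  conj (NPack.Cf M 2 P e χ₀ (indF (Tz z)) v)

namespace Col

variable {B : Set (IrrCharacter G)} {x₀ a₀ : P} {N k : ℕ} (h : Col M B b P e χ₀ L x₀ a₀ N k)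
include h

open Classical in
/-- **The main identity.** -/
theorem star_eq :
    ∑ χ ∈ Finset.univ.filter (· ∈ B), classInner (pc (classFinset z)) (χ : G → ℂ) * FF M P e χ₀ x₀ χ N =
      ∑ ϑ ∈ Finset.univ.filter (· ∈ b), classInner (pc (Tz z)) (ϑ : Cen z → ℂ) * (L ϑ : P → ℂ) (x₀ ^ N) := by
  have hP := h.hP
  have hzz := h.hzz
  have htG : IsClassFunction G (pc (classFinset z)) := pc_isClass _ (classFinset_closed z)
  have htH : IsClassFunction (Cen z) (pc (Tz z)) := pc_isClass _ (Tz_closed z)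
  have h1 := hP.Cf_class htH (x₀ ^ N)
  rw [← h1]
  have h2 : ∀ g : G, pc (classFinset z) g = ∑ χ : IrrCharacter G, classInner (pc (classFinset z)) (χ : G → ℂ) * (χ : G → ℂ) g := by
    intro g
    have h3 := congrFun (Cfsg.Agent.Lib.Char.Complete.eq_sum_classInner _ htG) g
    rw [h3]
    simp
  have hzo : orderOf z = 2 ^ 1 := by
    rw [pow_one]
    exact orderOf_eq_prime (by rw [sq]; exact hzz) h.hz1
  have h3 : NPack.Cf M 2 P e χ₀ (pc (Tz z)) ((x₀ ^ N : P) : Cen z) =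
      NPack.Cf M 2 P e χ₀ (fun k : Cen z => ∑ χ : IrrCharacter G, classInner (pc (classFinset z)) (χ : G → ℂ) * (χ : G → ℂ) k)
        ((x₀ ^ N : P) : Cen z) := by
    unfold NPack.Cf
    congr 1
    refine Finset.sum_congr rfl fun c hc => ?_
    congr 1
    beta_reduce
    rw [← h2]
    refine (pc_section hzz ?_).symm
    obtain ⟨hcK, hcreg⟩ := mem_regC.mp hc
    have hcomm : ((((x₀ ^ N : P) : Cen z) : G)) * (c : G) = (c : G) * ((((x₀ ^ N : P) : Cen z) : G)) := by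
      have := mem_centralizer_zpowers_iff.mp hcK
      exact (congrArg Subtype.val this).symm
    have hu : orderOf (((x₀ ^ N : P) : Cen z) : G) = 2 ^ 1 := by rw [h.hzx]; exact hzo
    refine mem_zpowers_mul hu hcomm (by rwa [Subgroup.orderOf_coe]) ?_
    rw [h.hzx]
    exact Subgroup.mem_zpowers z
  rw [h3, NPack.Cf_sum, Finset.sum_filter]
  refine Finset.sum_congr rfl fun χ _ => ?_
  by_cases hχ : χ ∈ B
  · rw [if_pos hχ]
    rfl
  · rw [if_neg hχ]
    have hN := h.hall.N_pos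
    have h4 := h.F_vanish hχ (l := N) hN (by omega)
    unfold FF NN at h4
    rw [h4, mul_zero]

open Classical in
/-- The inner product on the group, on the block. -/
theorem inner_G [Fintype P] (hS : (Finset.univ.filter (· ∈ B)).card = N + 1) {χ : IrrCharacter G} (hχ : χ ∈ B) {W : ℤ}
    (hW : FF M P e χ₀ x₀ χ N = W) :
    classInner (pc (classFinset z)) (χ : G → ℂ) =
      (Nat.card G : ℂ)⁻¹ * (((classFinset z).card : ℂ) * W * (χ₀ : Cen z → ℂ) 1) ^ 2 / (χ : G → ℂ) 1 := by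
  rw [pc_inner χ.2 _ (classFinset_closed z)]
  have h1 : ∑ s ∈ classFinset z, (χ : G → ℂ) s = ((classFinset z).card : ℂ) * (W * (χ₀ : Cen z → ℂ) 1) := by
    rw [Finset.sum_congr rfl (fun s hs => (Cfsg.Agent.Lib.Char.CompleteCor.irr_apply_of_isConj ((mem_classFinset z s).mp hs) χ).symm)]
    rw [Finset.sum_const, nsmul_eq_mul, h.value_z hS hχ, hW]
  rw [h1, ← Cfsg.Agent.Lib.Blocks.RegInt.charDegree_cast χ, ← Cfsg.Agent.Lib.Blocks.RegInt.charDegree_cast χ₀]
  simp only [map_div₀, map_pow, map_mul, Complex.conj_natCast, map_intCast]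
  ring

open Classical in
/-- The inner product on the centralizer. -/
theorem inner_H (ϑ : IrrCharacter (Cen z)) :
    classInner (pc (Tz z)) (ϑ : Cen z → ℂ) =
      (Nat.card (Cen z) : ℂ)⁻¹ * (∑ s ∈ Tz z, (ϑ : Cen z → ℂ) s) ^ 2 / (ϑ : Cen z → ℂ) 1 := by
  rw [pc_inner ϑ.2 _ (Tz_closed z)]
  have hreal : conj (∑ s ∈ Tz z, (ϑ : Cen z → ℂ) s) = ∑ s ∈ Tz z, (ϑ : Cen z → ℂ) s := by
    rw [map_sum]
    refine Finset.sum_congr rfl fun s hs => ?_
    rw [Cfsg.Agent.Lib.Char.Ortho.conj_of_isCharacter (Cfsg.Agent.Lib.Char.Basic.isCharacter_of_isIrrCharacter ϑ.2),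
      inv_eq_of_mul_eq_one_left (Tz_invol h.hzz s hs)]
  rw [map_div₀, map_pow, hreal, ← Cfsg.Agent.Lib.Blocks.RegInt.charDegree_cast ϑ, Complex.conj_natCast]
  ring

/-- The values of `UU`. -/
theorem UU_mem (v : P) (hv : (v : Cen z) ∈ Tz z) : UU M P e χ₀ v = wt P ((v : Cen z)) * PHI M 2 P e χ₀ v 1 := by
  rw [UU, h.hP.Cf_indicator_mem (Tz z) (Tz_invol h.hzz) v hv, map_mul, NPack.wt_conj, Complex.conj_conj]

theorem UU_not_mem (v : P) (hv : (v : Cen z) ∉ Tz z) : UU M P e χ₀ v = 0 := by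
  rw [UU, h.hP.Cf_indicator_not_mem (Tz z) (Tz_invol h.hzz) v hv, map_zero]

open Classical in
/-- `UU` is a class function. -/
theorem UU_class [Fintype P] : IsClassFunction P (UU M P e χ₀) := by
  intro v g
  unfold UU
  congr 1
  rw [h.hP.Cf_class (isClass_ind_Tz z), h.hP.Cf_class (isClass_ind_Tz z)]
  refine Finset.sum_congr rfl fun ϑ _ => ?_
  rw [isClassFunction_of_irr (L ϑ).2]

open Classical in
/-- The sum of a character of the block over `Tz`. -/
theorem sum_Tz [Fintype P] {ϑ : IrrCharacter (Cen z)} (hϑ : ϑ ∈ b) :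
    (Nat.card P : ℂ) * ∑ s ∈ Tz z, (ϑ : Cen z → ℂ) s =
      (Nat.card (Cen z) : ℂ) * ∑ v : P, (L ϑ : P → ℂ) v * UU M P e χ₀ v := by
  have h1 := h.hP.sum_mul_conj hϑ (isClass_ind_Tz z)
  have hPf : (Pf P).card = Nat.card P := by
    rw [Nat.card_eq_fintype_card, Fintype.card_subtype]
    rfl
  rw [hPf, ← Nat.card_eq_fintype_card] at h1
  have h2 : ∑ g : Cen z, (ϑ : Cen z → ℂ) g * conj (indF (Tz z) g) = ∑ s ∈ Tz z, (ϑ : Cen z → ℂ) s := by
    have h3 : ∀ g : Cen z, (ϑ : Cen z → ℂ) g * conj (indF (Tz z) g) =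
        if g ∈ Tz z then (ϑ : Cen z → ℂ) g else 0 := by
      intro g
      by_cases hg : g ∈ Tz z
      · rw [indF_mem hg, if_pos hg]
        simp
      · rw [indF_not_mem hg, if_neg hg]
        simp
    simp only [h3]
    rw [Finset.sum_ite_mem, Finset.univ_inter]
  rw [h2] at h1
  rw [← h1]
  rfl

open Classical in
/-- **The sum on the centralizer.** -/
theorem rhs_eq [Fintype P] :
    ∑ ϑ ∈ Finset.univ.filter (· ∈ b), classInner (pc (Tz z)) (ϑ : Cen z → ℂ) * (L ϑ : P → ℂ) (x₀ ^ N) =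
      (Nat.card (Cen z) : ℂ) / ((Nat.card P : ℂ) * (χ₀ : Cen z → ℂ) 1) *
        ∑ v : P, UU M P e χ₀ v * UU M P e χ₀ (x₀ ^ N * v)⁻¹ := by
  have hH0 : (Nat.card (Cen z) : ℂ) ≠ 0 := by exact_mod_cast Nat.card_pos.ne'
  have hP0 : (Nat.card P : ℂ) ≠ 0 := by exact_mod_cast Nat.card_pos.ne'
  have hχ0 := Cfsg.Agent.Lib.Char.Ortho.irr_apply_one_ne_zero χ₀.2
  have hζ : ∀ k : P, x₀ ^ N * k = k * x₀ ^ N := fun k => (h.hall.zz_comm (Subgroup.mem_top k)).symm
  have h1 := sum_irr_central_sq (x₀ ^ N) hζ (UU M P e χ₀) h.UU_class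
  have h2 := sum_block_eq h.hP (fun l : IrrCharacter P =>
    ((l : P → ℂ) (x₀ ^ N) / (l : P → ℂ) 1) * (∑ v, (l : P → ℂ) v * UU M P e χ₀ v) ^ 2)
  have h3 : ∑ ϑ ∈ Finset.univ.filter (· ∈ b), classInner (pc (Tz z)) (ϑ : Cen z → ℂ) * (L ϑ : P → ℂ) (x₀ ^ N) =
      (Nat.card (Cen z) : ℂ) / ((Nat.card P : ℂ) ^ 2 * (χ₀ : Cen z → ℂ) 1) *
        ∑ ϑ : IrrCharacter (Cen z), if ϑ ∈ b then ((L ϑ : P → ℂ) (x₀ ^ N) / (L ϑ : P → ℂ) 1) *
          (∑ v, (L ϑ : P → ℂ) v * UU M P e χ₀ v) ^ 2 else 0 := by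
    rw [Finset.sum_filter, Finset.mul_sum]
    refine Finset.sum_congr rfl fun ϑ _ => ?_
    by_cases hϑ : ϑ ∈ b
    · rw [if_pos hϑ, if_pos hϑ, h.inner_H]
      have h4 := h.sum_Tz hϑ
      have h5 := h.hP.hreg ϑ hϑ 1 (by simp)
      have hL : (L ϑ : P → ℂ) 1 ≠ 0 := Cfsg.Agent.Lib.Char.Ortho.irr_apply_one_ne_zero (L ϑ).2
      rw [h5]
      set Y := ∑ s ∈ Tz z, (ϑ : Cen z → ℂ) s
      set W := ∑ v, (L ϑ : P → ℂ) v * UU M P e χ₀ v
      have hY : Y = (Nat.card (Cen z) : ℂ) * W / (Nat.card P : ℂ) := by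
        field_simp
        rw [mul_comm Y, h4]
      rw [hY]
      field_simp
    · rw [if_neg hϑ, if_neg hϑ, mul_zero]
  rw [h3, ← h2, h1]
  field_simp

end Col

end InCol

end Cfsg.Agent.Lib.Blocks.Tame
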