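/-
Tame blocks: the exceptional lattice does not occur.
-/
import Mathlib
import Cfsg.Agent.Lib.Blocks.TameY3
import Cfsg.Agent.Lib.Blocks.TameH2

set_option autoImplicit false
set_option linter.style.haveILetI false

namespace Cfsg.Agent.Lib.Blocks.Tame

open Cfsg Cfsg.Agent.Lib.Blocks.Local Cfsg.Agent.Lib.Blocks.Central Cfsg.Agent.Lib.Blocks.Osima
open Cfsg.Agent.Lib.Blocks.Covering Cfsg.Agent.Lib.Blocks.BlockHom Cfsg.Agent.Lib.Blocks.Pairs
open Cfsg.Agent.Lib.Blocks.Twisted Cfsg.Agent.Lib.Blocks.Necklace Cfsg.Agent.Lib.Blocks.Sections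
open Cfsg.Agent.Lib.Blocks.Regular Cfsg.Agent.Lib.Blocks.BlockCount Cfsg.Agent.Lib.Blocks.Nilp
open Cfsg.Agent.Lib.Blocks.Transport Cfsg.Agent.Lib.Blocks.MajorSub Cfsg.Agent.Lib.Blocks.BrauerFeit
open Cfsg.Agent.Lib.Char.Ortho
open Cfsg.Agent.Lib.Char.Integrality (classFinset mem_classFinset)
open scoped ComplexConjugate

universe u

section DSum

variable {K : Type u} [Group K] [Fintype K] {D : Subgroup K} {x a : K} {N : ℕ}

namespace DihD

variable (h : DihD D x a N)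
include h

/-- A sum over a dihedral group. -/
theorem sum_eq (hall : ∀ g, g ∈ D) (f : K → ℂ) :
    ∑ g, f g = ∑ t ∈ Finset.range (2 * N), f (x ^ t) + ∑ t ∈ Finset.range (2 * N), f (a * x ^ t) := by
  classical
  have hinj1 : Set.InjOn (fun t => x ^ t) (Finset.range (2 * N) : Finset ℕ) :=
    fun s hs t ht e => h.pow_inj (Finset.mem_range.mp hs) (Finset.mem_range.mp ht) e
  have hinj2 : Set.InjOn (fun t => a * x ^ t) (Finset.range (2 * N) : Finset ℕ) :=
    fun s hs t ht e => h.pow_inj (Finset.mem_range.mp hs) (Finset.mem_range.mp ht) (mul_left_cancel e)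
  have hdisj : Disjoint ((Finset.range (2 * N)).image (fun t => x ^ t)) ((Finset.range (2 * N)).image (fun t => a * x ^ t)) := by
    rw [Finset.disjoint_left]
    intro g hg1 hg2
    obtain ⟨s, -, rfl⟩ := Finset.mem_image.mp hg1
    obtain ⟨t, -, ht⟩ := Finset.mem_image.mp hg2
    exact h.refl_ne t s ht
  rw [← Finset.sum_image (f := f) hinj1, ← Finset.sum_image (f := f) hinj2, ← Finset.sum_union hdisj]
  refine Finset.sum_congr ?_ (fun _ _ => rfl)
  symm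
  apply Finset.eq_univ_of_forall
  intro g
  have hpos : 0 < 2 * N := by
    have := h.N_pos
    omega
  rcases h.hcov g (hall g) with ⟨t, rfl⟩ | ⟨t, rfl⟩
  · refine Finset.mem_union_left _ (Finset.mem_image.mpr ⟨t % (2 * N), Finset.mem_range.mpr (Nat.mod_lt _ hpos), ?_⟩)
    show x ^ (t % (2 * N)) = x ^ t
    rw [← h.hxo]
    exact pow_mod_orderOf x t
  · refine Finset.mem_union_right _ (Finset.mem_image.mpr ⟨t % (2 * N), Finset.mem_range.mpr (Nat.mod_lt _ hpos), ?_⟩)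
    show a * x ^ (t % (2 * N)) = a * x ^ t
    rw [← h.hxo, pow_mod_orderOf]

theorem refl_conj (t : ℕ) : x⁻¹ * (a * x ^ t) * (x⁻¹)⁻¹ = a * x ^ (t + 2) := by
  have h1 : x⁻¹ * a = a * x := by
    rw [← h.hax]
    group
  calc x⁻¹ * (a * x ^ t) * (x⁻¹)⁻¹ = (x⁻¹ * a) * x ^ t * x := by group
    _ = a * x * x ^ t * x := by rw [h1]
    _ = a * (x * x ^ t * x) := by group
    _ = a * x ^ (t + 2) := by rw [← pow_succ', ← pow_succ]

theorem zz_mul_refl (t : ℕ) : (x ^ N * (a * x ^ t))⁻¹ = a * x ^ (N + t) := by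
  have h1 : x ^ N * (a * x ^ t) = a * x ^ (N + t) := by
    rw [← mul_assoc, ← h.a_comm_zz, mul_assoc, pow_add]
  rw [h1]
  exact inv_eq_of_mul_eq_one_left (h.refl_sq _)

end DihD

end DSum

section InCol

variable {G : Type u} [Group G] [Fintype G] {M : Ideal AlgInt} [hM : M.IsPrime]
  {z : G} [Fintype (Cen z)] {b : Set (IrrCharacter (Cen z))} {P : Subgroup (Cen z)}
  {e : Set (IrrCharacter (Subgroup.centralizer (P : Set (Cen z))))} {χ₀ : IrrCharacter (Cen z)}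
  {L : IrrCharacter (Cen z) → IrrCharacter P}

namespace Col

variable {B : Set (IrrCharacter G)} {x₀ a₀ : P} {N k : ℕ} (h : Col M B b P e χ₀ L x₀ a₀ N k)
include h

theorem one_not_mem_Tz : (1 : Cen z) ∉ Tz z := by
  intro h1
  have h2 : IsConj z (1 : G) := mem_Tz.mp h1
  exact h.hz1 (isConj_one_left.mp h2)

theorem UU_rot (t : ℕ) : UU M P e χ₀ (x₀ ^ t) * UU M P e χ₀ (x₀ ^ N * x₀ ^ t)⁻¹ = 0 := by
  by_cases hm : ((x₀ ^ t : P) : Cen z) ∈ Tz z
  · have hc := mem_Tz.mp hm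
    have h1 := invol_of_isConj h.hzz hc
    have h2 : x₀ ^ t * x₀ ^ t = 1 := by
      apply Subtype.ext
      apply Subtype.ext
      simpa using h1
    have h3 : x₀ ^ t ≠ 1 := by
      intro h4
      rw [h4] at hc
      have h5 : IsConj z (1 : G) := hc
      exact h.hz1 (isConj_one_left.mp h5)
    have h4 := h.hall.eq_zz_of_sq h2 h3
    have h5 : (x₀ ^ N * x₀ ^ t)⁻¹ = 1 := by
      rw [h4, DihD.zz, h.hall.zz_sq, inv_one]
    rw [h5, h.UU_not_mem 1 (by simpa using h.one_not_mem_Tz), mul_zero]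
  · rw [h.UU_not_mem _ hm, zero_mul]

theorem UU_period [Fintype P] (t : ℕ) : UU M P e χ₀ (a₀ * x₀ ^ (t + 2)) = UU M P e χ₀ (a₀ * x₀ ^ t) := by
  rw [← h.hall.refl_conj t]
  exact h.UU_class _ _

theorem sum_UU_four [Fintype P] (hN : N = 4) :
    ∑ v : P, UU M P e χ₀ v * UU M P e χ₀ (x₀ ^ N * v)⁻¹ = 4 * (UU M P e χ₀ a₀ ^ 2 + UU M P e χ₀ (a₀ * x₀) ^ 2) := by
  subst hN
  rw [h.hall.sum_eq (fun g => Subgroup.mem_top g) (fun v => UU M P e χ₀ v * UU M P e χ₀ (x₀ ^ 4 * v)⁻¹)]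
  rw [Finset.sum_eq_zero (fun t _ => h.UU_rot t), zero_add]
  have hq : ∀ t, UU M P e χ₀ (a₀ * x₀ ^ t) * UU M P e χ₀ (x₀ ^ 4 * (a₀ * x₀ ^ t))⁻¹ = UU M P e χ₀ (a₀ * x₀ ^ t) ^ 2 := by
    intro t
    rw [h.hall.zz_mul_refl t, add_comm 4 t]
    have h1 := h.UU_period (t + 2)
    rw [h.UU_period t] at h1
    rw [sq]
    congr 1
  simp only [hq]
  have h0 : ∀ s, UU M P e χ₀ (a₀ * x₀ ^ (s + 2)) ^ 2 = UU M P e χ₀ (a₀ * x₀ ^ s) ^ 2 := fun s => by rw [h.UU_period s]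
  have e2 := h0 0
  have e3 := h0 1
  have e4 := h0 2
  have e5 := h0 3
  have e6 := h0 4
  have e7 := h0 5
  simp only [Nat.reduceAdd, zero_add] at e2 e3 e4 e5 e6 e7
  simp only [Nat.reduceMul, Finset.sum_range_succ, Finset.sum_range_zero, zero_add, e2, e3, e4, e5, e6, e7, pow_zero,
    pow_one, mul_one]
  ring

end Col

end InCol

end Cfsg.Agent.Lib.Blocks.Tame
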