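/-
Tame blocks: the exceptional lattice does not occur, the end.
-/
import Mathlib
import Cfsg.Agent.Lib.Blocks.TameY4

set_option autoImplicit false
set_option linter.style.haveILetI false

namespace Cfsg.Agent.Lib.Blocks.Tame

open Cfsg Cfsg.Agent.Lib.Blocks.Local Cfsg.Agent.Lib.Blocks.Central Cfsg.Agent.Lib.Blocks.Osima
open Cfsg.Agent.Lib.Blocks.Covering Cfsg.Agent.Lib.Blocks.BlockHom Cfsg.Agent.Lib.Blocks.Pairs
open Cfsg.Agent.Lib.Blocks.Twisted Cfsg.Agent.Lib.Blocks.Necklace Cfsg.Agent.Lib.Blocks.Sections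
open Cfsg.Agent.Lib.Blocks.Regular Cfsg.Agent.Lib.Blocks.BlockCount Cfsg.Agent.Lib.Blocks.Nilp
open Cfsg.Agent.Lib.Blocks.Transport Cfsg.Agent.Lib.Blocks.MajorSub Cfsg.Agent.Lib.Blocks.BrauerFeit
open Cfsg.Agent.Lib.Char.Ortho
open Cfsg.Agent.Lib.Char.Integrality (classFinset mem_classFinset)
open scoped ComplexConjugate

universe u

section Arith

/-- The arithmetic of the exceptional lattice. -/
lemma alt_arith_C {ε A nG nH t d₀ S X Y G' H' c₀ A' : ℂ} (hA : A ≠ 0) (hd₀ : d₀ ≠ 0) (hnG : nG ≠ 0) (hnH : nH ≠ 0)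
    (hX : X ≠ 0) (hY : Y ≠ 0) (ht : t * nH = nG) (h1 : nG = X * G') (h2 : nH = Y * H') (h3 : 16 * d₀ = Y * c₀)
    (h4 : 16 * A = X * A')
    (heq : nG⁻¹ * (t * ε * d₀) ^ 2 / A * ε + nG⁻¹ * (t * (-3 * ε) * d₀) ^ 2 / A * (-3 * ε) + nG⁻¹ * (t * ε * d₀) ^ 2 / A * ε +
        nG⁻¹ * (t * (-ε) * d₀) ^ 2 / (3 * A) * (-ε) + nG⁻¹ * (t * (2 * ε) * d₀) ^ 2 / (2 * A) * (2 * ε) =
      nH / (16 * d₀) * (4 * S)) :
    -(G' * c₀ ^ 3 * ε ^ 3) = 3 * A' * H' ^ 3 * S := by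
  have ht' : t = nG / nH := by
    field_simp
    exact ht
  have e1 : nG⁻¹ * (t * ε * d₀) ^ 2 / A * ε + nG⁻¹ * (t * (-3 * ε) * d₀) ^ 2 / A * (-3 * ε) + nG⁻¹ * (t * ε * d₀) ^ 2 / A * ε +
        nG⁻¹ * (t * (-ε) * d₀) ^ 2 / (3 * A) * (-ε) + nG⁻¹ * (t * (2 * ε) * d₀) ^ 2 / (2 * A) * (2 * ε) =
      nG * d₀ ^ 2 * ε ^ 3 * (-64 / 3) / (nH ^ 2 * A) := by
    rw [ht']
    field_simp
    ring
  have e2 : nH / (16 * d₀) * (4 * S) = nH * S / (4 * d₀) := by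
    field_simp
    ring
  rw [e1, e2] at heq
  have e4 : -256 * nG * d₀ ^ 3 * ε ^ 3 = 3 * A * nH ^ 3 * S := by
    field_simp at heq
    linear_combination heq
  have hd : d₀ = Y * c₀ / 16 := by
    field_simp
    linear_combination h3
  have hA' : A = X * A' / 16 := by
    field_simp
    linear_combination h4
  rw [h1, h2, hd, hA'] at e4
  have hne : X * Y ^ 3 / 16 ≠ 0 := div_ne_zero (mul_ne_zero hX (pow_ne_zero 3 hY)) (by norm_num)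
  apply mul_left_cancel₀ hne
  linear_combination e4

end Arith

section InCol

variable {G : Type u} [Group G] [Fintype G] {M : Ideal AlgInt} [hM : M.IsPrime]
  {z : G} [Fintype (Cen z)] {b : Set (IrrCharacter (Cen z))} {P : Subgroup (Cen z)}
  {e : Set (IrrCharacter (Subgroup.centralizer (P : Set (Cen z))))} {χ₀ : IrrCharacter (Cen z)}
  {L : IrrCharacter (Cen z) → IrrCharacter P}

namespace Col

variable {B : Set (IrrCharacter G)} {x₀ a₀ : P} {N k : ℕ} (h : Col M B b P e χ₀ L x₀ a₀ N k)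
include h

open Classical in
/-- **The exceptional lattice does not occur.** -/
theorem no_alt [Fintype P] (hd : blockDefect 2 b = blockDefect 2 B) {D : Subgroup G} (hD : IsDefectGroup 2 M B D)
    (hPD : ∀ v : P, ((v : Cen z) : G) ∈ D) {w : IrrCharacter G → ℤ} (hw : ∀ χ, FF M P e χ₀ x₀ χ N = w χ) (hN : N = 4)
    (hAlt : AltS (Finset.univ.filter (· ∈ B)) w) : False := by
  haveI : Fact (Nat.Prime 2) := ⟨Nat.prime_two⟩
  obtain ⟨hc5, ε, A, χ₁, χ₂, χ₃, χ₄, χ₅, hε, hA, m₁, m₂, m₃, m₄, m₅, hsum, w₁, w₂, w₃, w₄, w₅, d₁, d₂, d₃, d₄, d₅⟩ := hAlt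
  have hS : (Finset.univ.filter (· ∈ B)).card = N + 1 := by rw [hc5, hN]
  have hP16 : Nat.card P = 16 := by rw [h.hcard, hN]
  have hB₁ := (Finset.mem_filter.mp m₁).2
  have hB₂ := (Finset.mem_filter.mp m₂).2
  have hB₃ := (Finset.mem_filter.mp m₃).2
  have hB₄ := (Finset.mem_filter.mp m₄).2
  have hB₅ := (Finset.mem_filter.mp m₅).2
  -- the reflections
  have hrefl : ∀ t, ((a₀ * x₀ ^ t : P) : Cen z) ∈ Tz z := by
    intro t
    apply mem_Tz.mpr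
    refine (h.conj_of_invol hS hD (hPD _) ?_ ?_).symm
    · have := congrArg (fun y : P => ((y : Cen z) : G)) (h.hall.refl_sq t)
      simpa using this
    · intro h1
      apply h.hall.refl_ne t 0
      rw [pow_zero]
      apply Subtype.ext
      apply Subtype.ext
      simpa using h1
  have hinv : ∀ t, ((a₀ * x₀ ^ t : P) : Cen z) * ((a₀ * x₀ ^ t : P) : Cen z) = 1 := by
    intro t
    have := congrArg (fun y : P => (y : Cen z)) (h.hall.refl_sq t)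
    simpa using this
  obtain ⟨ma, na, hma, hna, hUa⟩ := h.hP.invol_val (a₀ * x₀ ^ 0) (hinv 0)
  obtain ⟨mb, nb, hmb, hnb, hUb⟩ := h.hP.invol_val (a₀ * x₀ ^ 1) (hinv 1)
  have hUa' : UU M P e χ₀ a₀ = (ma : ℂ) / (na : ℂ) := by
    have h1 := h.UU_mem _ (hrefl 0)
    rw [hUa] at h1
    simpa using h1
  have hUb' : UU M P e χ₀ (a₀ * x₀) = (mb : ℂ) / (nb : ℂ) := by
    have h1 := h.UU_mem _ (hrefl 1)
    rw [hUb] at h1
    simpa using h1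
  -- the main equation
  have hstar := h.star_eq
  rw [h.rhs_eq, h.sum_UU_four hN, hUa', hUb', hsum, hP16] at hstar
  rw [h.inner_G hS hB₁ (hw χ₁), h.inner_G hS hB₂ (hw χ₂), h.inner_G hS hB₃ (hw χ₃), h.inner_G hS hB₄ (hw χ₄),
    h.inner_G hS hB₅ (hw χ₅), hw χ₁, hw χ₂, hw χ₃, hw χ₄, hw χ₅, w₁, w₂, w₃, w₄, w₅] at hstar
  have dd₁ : (χ₁ : G → ℂ) 1 = (A : ℂ) := by
    rw [← Cfsg.Agent.Lib.Blocks.RegInt.charDegree_cast χ₁]
    exact_mod_cast d₁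
  have dd₂ : (χ₂ : G → ℂ) 1 = (A : ℂ) := by
    rw [← Cfsg.Agent.Lib.Blocks.RegInt.charDegree_cast χ₂]
    exact_mod_cast d₂
  have dd₃ : (χ₃ : G → ℂ) 1 = (A : ℂ) := by
    rw [← Cfsg.Agent.Lib.Blocks.RegInt.charDegree_cast χ₃]
    exact_mod_cast d₃
  have dd₄ : (χ₄ : G → ℂ) 1 = 3 * (A : ℂ) := by
    rw [← Cfsg.Agent.Lib.Blocks.RegInt.charDegree_cast χ₄]
    exact_mod_cast d₄
  have dd₅ : (χ₅ : G → ℂ) 1 = 2 * (A : ℂ) := by
    rw [← Cfsg.Agent.Lib.Blocks.RegInt.charDegree_cast χ₅]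
    exact_mod_cast d₅
  rw [dd₁, dd₂, dd₃, dd₄, dd₅] at hstar
  push_cast at hstar
  -- the two-parts
  have hdef : IsDefectGroup 2 M b P := isDefectGroup_of_maximal h.hP.hMp h.hP.hmax
  have hcardb := Cfsg.Agent.S0908.result 2 M h.hP.hMp b h.hP.hmax.1.2.1 P hdef
  rw [hP16] at hcardb
  have hbb : IsPBlock M b := h.hP.hmax.1.2.1
  have hdvd : ∀ ϑ ∈ b, charDegree (χ₀ : Cen z → ℂ) ∣ charDegree (ϑ : Cen z → ℂ) := by
    intro ϑ hϑ
    have h1 := h.hP.hreg ϑ hϑ 1 (by simp)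
    rw [← Cfsg.Agent.Lib.Blocks.RegInt.charDegree_cast ϑ, ← Cfsg.Agent.Lib.Blocks.RegInt.charDegree_cast χ₀,
      ← Cfsg.Agent.Lib.Blocks.RegInt.charDegree_cast (L ϑ)] at h1
    have h2 : charDegree (ϑ : Cen z → ℂ) = charDegree ((L ϑ : IrrCharacter P) : P → ℂ) * charDegree (χ₀ : Cen z → ℂ) := by
      exact_mod_cast h1
    exact ⟨_, by rw [h2, mul_comm]⟩
  obtain ⟨c₀, H', h₂, hc₀, hH', hv₀, hHc⟩ := val_of_mu h.hP.hχ₀ (base_mu (isPBlock_nonempty hbb) h.hP.hχ₀ hdvd)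
  rw [← hcardb] at hv₀
  have hmu₁ : (charDegree (χ₁ : G → ℂ)).factorization 2 = mu 2 B := by
    obtain ⟨r, hr, hwr⟩ := h.height_val hd hw hB₁
    have h1 := mu_add_height (p := 2) hB₁
    have h0 : blockHeight 2 B (χ₁ : G → ℂ) = 0 := by
      by_contra hne
      obtain ⟨t, ht⟩ : ∃ t, blockHeight 2 B (χ₁ : G → ℂ) = t + 1 := ⟨_, (Nat.succ_pred_eq_of_ne_zero hne).symm⟩
      rw [ht, pow_succ, w₁] at hwr
      have h2 : (2 : ℤ) ∣ ε := ⟨2 ^ t * r, by rw [hwr]; ring⟩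
      rcases hε with rfl | rfl <;> omega
    rw [h0, add_zero] at h1
    exact h1.symm
  obtain ⟨A', G', g, hA', hG', hv₁, hGc⟩ := val_of_mu hB₁ hmu₁
  rw [← hd, ← hcardb] at hv₁
  have ht : ((classFinset z).card : ℂ) * (Nat.card (Cen z) : ℂ) = (Nat.card G : ℂ) := by
    rw [Cfsg.Agent.Lib.Char.Integrality.card_classFinset]
    exact_mod_cast Subgroup.index_mul_card (Cen z)
  have hA0 : (A : ℂ) ≠ 0 := by exact_mod_cast hA.ne'
  have hd₀ : (χ₀ : Cen z → ℂ) 1 ≠ 0 := Cfsg.Agent.Lib.Char.Ortho.irr_apply_one_ne_zero χ₀.2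
  have hnG : (Nat.card G : ℂ) ≠ 0 := by exact_mod_cast Nat.card_pos.ne'
  have hnH : (Nat.card (Cen z) : ℂ) ≠ 0 := by exact_mod_cast Nat.card_pos.ne'
  have h1G : (Nat.card G : ℂ) = (2 : ℂ) ^ g * (G' : ℂ) := by
    rw [hGc]
    push_cast
    ring
  have h2H : (Nat.card (Cen z) : ℂ) = (2 : ℂ) ^ h₂ * (H' : ℂ) := by
    rw [hHc]
    push_cast
    ring
  have h3 : 16 * (χ₀ : Cen z → ℂ) 1 = (2 : ℂ) ^ h₂ * (c₀ : ℂ) := by
    rw [← Cfsg.Agent.Lib.Blocks.RegInt.charDegree_cast χ₀]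
    exact_mod_cast hv₀
  have h4 : 16 * (A : ℂ) = (2 : ℂ) ^ g * (A' : ℂ) := by
    have h5 : (16 : ℤ) * A = 2 ^ g * A' := by
      rw [← d₁]
      exact_mod_cast hv₁
    exact_mod_cast h5
  have hkey := alt_arith_C (ε := (ε : ℂ)) (S := ((ma : ℂ) / (na : ℂ)) ^ 2 + ((mb : ℂ) / (nb : ℂ)) ^ 2) hA0 hd₀ hnG hnH
    (pow_ne_zero _ two_ne_zero) (pow_ne_zero _ two_ne_zero) ht h1G h2H h3 h4 ?_
  · -- parity
    have hna0 : (na : ℂ) ≠ 0 := by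
      have : na ≠ 0 := fun h0 => by simp [h0] at hna
      exact_mod_cast this
    have hnb0 : (nb : ℂ) ≠ 0 := by
      have : nb ≠ 0 := fun h0 => by simp [h0] at hnb
      exact_mod_cast this
    have h6 : -((G' : ℂ) * (c₀ : ℂ) ^ 3 * (ε : ℂ) ^ 3) * ((na : ℂ) * (nb : ℂ)) ^ 2 =
        3 * (A' : ℂ) * (H' : ℂ) ^ 3 * ((ma : ℂ) ^ 2 * (nb : ℂ) ^ 2 + (mb : ℂ) ^ 2 * (na : ℂ) ^ 2) := by
      rw [hkey]
      field_simp
    have h7 : -((G' : ℤ) * (c₀ : ℤ) ^ 3 * ε ^ 3) * (na * nb) ^ 2 =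
        3 * (A' : ℤ) * (H' : ℤ) ^ 3 * (ma ^ 2 * nb ^ 2 + mb ^ 2 * na ^ 2) := by
      exact_mod_cast h6
    have hε' : Odd ε := by
      rcases hε with rfl | rfl <;> decide
    have hG'' : Odd (G' : ℤ) := by exact_mod_cast hG'
    have hc₀' : Odd (c₀ : ℤ) := by exact_mod_cast hc₀
    have hodd : Odd (-((G' : ℤ) * (c₀ : ℤ) ^ 3 * ε ^ 3) * (na * nb) ^ 2) :=
      (((hG''.mul (hc₀'.pow)).mul (hε'.pow)).neg).mul ((hna.mul hnb).pow)
    have heven : Even (3 * (A' : ℤ) * (H' : ℤ) ^ 3 * (ma ^ 2 * nb ^ 2 + mb ^ 2 * na ^ 2)) :=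
      ((hma.pow.mul hnb.pow).add_odd (hmb.pow.mul hna.pow)).mul_left _
    rw [h7] at hodd
    exact (Int.not_even_iff_odd.mpr hodd) heven
  · convert hstar using 1

end Col

end InCol

end Cfsg.Agent.Lib.Blocks.Tame
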