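/-
Quaternion defect groups: the characters with the central involution in their kernel.
-/
import Mathlib
import Cfsg.Agent.Lib.Blocks.Quat1
import Cfsg.Agent.Lib.Blocks.TameQ1
import Cfsg.Agent.S4528
import Cfsg.Agent.S4637
import Cfsg.Agent.S4552

set_option autoImplicit false
set_option linter.style.haveILetI false

namespace Cfsg.Agent.Lib.Blocks.Quat

open Cfsg Cfsg.Agent.Lib.Blocks.Tame Cfsg.Agent.Lib.Blocks.CentralQuot Cfsg.Agent.Lib.Blocks.Pairs

universe u

section Dih

/-- The quotient map from the quaternion group to the dihedral group. -/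
def quatToDih (N : ℕ) : QuaternionGroup N →* DihedralGroup N :=
  MonoidHom.mk' (fun g => match g with
    | QuaternionGroup.a i => DihedralGroup.r (ZMod.castHom (Dvd.intro_left 2 rfl : N ∣ 2 * N) (ZMod N) i)
    | QuaternionGroup.xa i => DihedralGroup.sr (ZMod.castHom (Dvd.intro_left 2 rfl : N ∣ 2 * N) (ZMod N) i)) (by
    have hN : ZMod.castHom (Dvd.intro_left 2 rfl : N ∣ 2 * N) (ZMod N) ((N : ℕ) : ZMod (2 * N)) = 0 := by
      rw [map_natCast, ZMod.natCast_self]
    rintro (i | i) (j | j)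
    · simp [QuaternionGroup.a_mul_a]
    · simp [QuaternionGroup.a_mul_xa]
    · simp [QuaternionGroup.xa_mul_a]
    · simp only [QuaternionGroup.xa_mul_xa, DihedralGroup.sr_mul_sr]
      congr 1
      rw [map_sub, map_add, hN]
      ring)

lemma quatToDih_a (N : ℕ) (i : ZMod (2 * N)) :
    quatToDih N (QuaternionGroup.a i) = DihedralGroup.r (ZMod.castHom (Dvd.intro_left 2 rfl : N ∣ 2 * N) (ZMod N) i) := rfl

lemma quatToDih_xa (N : ℕ) (i : ZMod (2 * N)) :
    quatToDih N (QuaternionGroup.xa i) = DihedralGroup.sr (ZMod.castHom (Dvd.intro_left 2 rfl : N ∣ 2 * N) (ZMod N) i) := rfl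

lemma quatToDih_surjective (N : ℕ) [NeZero N] : Function.Surjective (quatToDih N) := by
  have hc : Function.Surjective (ZMod.castHom (Dvd.intro_left 2 rfl : N ∣ 2 * N) (ZMod N)) :=
    ZMod.castHom_surjective _
  rintro (i | i)
  · obtain ⟨j, rfl⟩ := hc i
    exact ⟨QuaternionGroup.a j, rfl⟩
  · obtain ⟨j, rfl⟩ := hc i
    exact ⟨QuaternionGroup.xa j, rfl⟩

lemma two_mul_of_cast_zero {N : ℕ} [NeZero N] {i : ZMod (2 * N)}
    (h : ZMod.castHom (Dvd.intro_left 2 rfl : N ∣ 2 * N) (ZMod N) i = 0) : i + i = 0 := by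
  haveI : NeZero (2 * N) := ⟨mul_ne_zero two_ne_zero (NeZero.ne N)⟩
  have h1 : ((i.val : ℕ) : ZMod N) = 0 := by
    have h2 : i = ((i.val : ℕ) : ZMod (2 * N)) := (ZMod.natCast_zmod_val i).symm
    rw [h2, map_natCast] at h
    simpa using h
  rw [ZMod.natCast_eq_zero_iff] at h1
  obtain ⟨k, hk⟩ := h1
  have h2 : i = ((i.val : ℕ) : ZMod (2 * N)) := (ZMod.natCast_zmod_val i).symm
  rw [h2, hk]
  have h3 : ((N * k : ℕ) : ZMod (2 * N)) + ((N * k : ℕ) : ZMod (2 * N)) = ((2 * N * k : ℕ) : ZMod (2 * N)) := by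
    push_cast
    ring
  rw [h3]
  push_cast
  have h4 : ((2 : ZMod (2 * N)) * (N : ZMod (2 * N))) = 0 := by
    have := ZMod.natCast_self (2 * N)
    push_cast at this
    exact this
  rw [h4, zero_mul]

lemma cast_zero_of_two_mul {N : ℕ} [NeZero N] {i : ZMod (2 * N)} (h : i + i = 0) :
    ZMod.castHom (Dvd.intro_left 2 rfl : N ∣ 2 * N) (ZMod N) i = 0 := by
  haveI : NeZero (2 * N) := ⟨mul_ne_zero two_ne_zero (NeZero.ne N)⟩
  obtain ⟨v, hv, rfl⟩ : ∃ v : ℕ, v < 2 * N ∧ i = (v : ZMod (2 * N)) :=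
    ⟨i.val, ZMod.val_lt i, (ZMod.natCast_zmod_val i).symm⟩
  rw [map_natCast, ZMod.natCast_eq_zero_iff]
  rw [← Nat.cast_add, ZMod.natCast_eq_zero_iff] at h
  obtain ⟨k, hk⟩ := h
  have hN : 0 < N := Nat.pos_of_ne_zero (NeZero.ne N)
  exact ⟨k, by nlinarith⟩

variable {H : Type u} [Group H]

/-- The quotient of a generalized quaternion group by its central involution is dihedral. -/
theorem nonempty_quot_dih {Z D : Subgroup H} [Z.Normal] {N : ℕ} [NeZero N] (ι : D ≃* QuaternionGroup N) {z : H}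
    (hzz : z * z = 1) (hZ : ∀ g ∈ D, g ∈ Z ↔ g = 1 ∨ g = z)
    (hinv : ∀ g ∈ D, g * g = 1 → g = 1 ∨ g = z) :
    Nonempty ((D.map (QuotientGroup.mk' Z) : Subgroup (H ⧸ Z)) ≃* DihedralGroup N) := by
  let ρ : D →* (D.map (QuotientGroup.mk' Z) : Subgroup (H ⧸ Z)) := (QuotientGroup.mk' Z).subgroupMap D
  have hρ : Function.Surjective ρ := (QuotientGroup.mk' Z).subgroupMap_surjective D
  let ψ : D →* DihedralGroup N := (quatToDih N).comp ι.toMonoidHom
  have hψ : Function.Surjective ψ := (quatToDih_surjective N).comp ι.surjective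
  have hker : ρ.ker = ψ.ker := by
    ext g
    rw [MonoidHom.mem_ker, MonoidHom.mem_ker]
    have h1 : ρ g = 1 ↔ (g : H) ∈ Z := by
      constructor
      · intro h
        have h2 := congrArg Subtype.val h
        exact (QuotientGroup.eq_one_iff _).mp h2
      · intro h
        apply Subtype.ext
        exact (QuotientGroup.eq_one_iff _).mpr h
    rw [h1, hZ _ g.2]
    constructor
    · rintro (h | h)
      · have : g = 1 := Subtype.ext h
        rw [this, map_one]
      · -- the image of `z`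
        have h2 : g * g = 1 := Subtype.ext (by
          show (g : H) * g = 1
          rw [h, hzz])
        have h3 : ι g * ι g = 1 := by rw [← map_mul, h2, map_one]
        show quatToDih N (ι g) = 1
        rcases hg : ι g with i | i
        · rw [hg, QuaternionGroup.a_mul_a] at h3
          have h4 : i + i = 0 := by
            have : (QuaternionGroup.a (i + i) : QuaternionGroup N) = QuaternionGroup.a 0 := h3
            exact QuaternionGroup.a.inj this
          rw [quatToDih_a, cast_zero_of_two_mul h4]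
          rfl
        · rw [hg, QuaternionGroup.xa_mul_xa] at h3
          have h4 : (N : ZMod (2 * N)) + i - i = 0 := by
            have : (QuaternionGroup.a ((N : ZMod (2 * N)) + i - i) : QuaternionGroup N) = QuaternionGroup.a 0 := h3
            exact QuaternionGroup.a.inj this
          exfalso
          haveI : NeZero (2 * N) := ⟨mul_ne_zero two_ne_zero (NeZero.ne N)⟩
          rw [add_sub_cancel_right, ZMod.natCast_eq_zero_iff] at h4
          have hN : 0 < N := Nat.pos_of_ne_zero (NeZero.ne N)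
          have := Nat.le_of_dvd hN h4
          omega
    · intro h
      have h2 : quatToDih N (ι g) = 1 := h
      rcases hg : ι g with i | i
      · rw [hg, quatToDih_a] at h2
        have h3 : ZMod.castHom (Dvd.intro_left 2 rfl : N ∣ 2 * N) (ZMod N) i = 0 := by
          have : (DihedralGroup.r (ZMod.castHom (Dvd.intro_left 2 rfl : N ∣ 2 * N) (ZMod N) i) : DihedralGroup N) = DihedralGroup.r 0 := h2
          exact DihedralGroup.r.inj this
        have h4 := two_mul_of_cast_zero h3
        have h5 : ι (g * g) = 1 := by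
          rw [map_mul, hg, QuaternionGroup.a_mul_a, h4]
          rfl
        have h6 : g * g = 1 := by
          apply ι.injective
          rw [h5, map_one]
        exact hinv _ g.2 (congrArg Subtype.val h6)
      · rw [hg, quatToDih_xa] at h2
        cases h2
  exact ⟨(QuotientGroup.quotientKerEquivOfSurjective ρ hρ).symm.trans
    ((QuotientGroup.quotientMulEquivOfEq hker).trans (QuotientGroup.quotientKerEquivOfSurjective ψ hψ))⟩

end Dih

section Count

variable {H : Type u} [Group H] [Fintype H] {M : Ideal AlgInt}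

/-- The characters of `b` with `z` in the kernel are those of the quotient block. -/
lemma card_quotBlock (Z : Subgroup H) [Z.Normal] {z : H} (hZ : ∀ g ∈ Z, g = 1 ∨ g = z) (hzZ : z ∈ Z)
    (b : Set (IrrCharacter H)) :
    Nat.card (quotBlock Z b) = Nat.card {ξ : IrrCharacter H // ξ ∈ b ∧ (ξ : H → ℂ) z = (ξ : H → ℂ) 1} := by
  classical
  have hker : ∀ η : IrrCharacter (H ⧸ Z), (infl Z η : H → ℂ) z = (infl Z η : H → ℂ) 1 := by
    intro η
    rw [coe_infl, coe_infl]
    have : ((z : H) : H ⧸ Z) = ((1 : H) : H ⧸ Z) := by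
      rw [QuotientGroup.mk_one]
      exact (QuotientGroup.eq_one_iff _).mpr hzZ
    rw [this]
  refine Nat.card_congr (Equiv.ofBijective (fun η => ⟨infl Z η.1, η.2, hker η.1⟩) ⟨?_, ?_⟩)
  · rintro ⟨η, hη⟩ ⟨η', hη'⟩ h
    have h1 : infl Z η = infl Z η' := congrArg Subtype.val h
    apply Subtype.ext
    apply Subtype.ext
    funext q
    obtain ⟨y, rfl⟩ := QuotientGroup.mk'_surjective Z q
    have h2 := congrArg (fun χ : IrrCharacter H => (χ : H → ℂ) y) h1
    exact h2
  · rintro ⟨ξ, hξ, hk⟩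
    have hk' : ∀ n ∈ Z, (ξ : H → ℂ) n = (ξ : H → ℂ) 1 := by
      intro n hn
      rcases hZ n hn with rfl | rfl
      · rfl
      · exact hk
    obtain ⟨η, hη⟩ := Cfsg.Agent.Lib.Blocks.Kernel.exists_irr_of_kernel Z ξ.2 hk'
    have hη₀ : ξ = infl Z η := Subtype.ext hη
    refine ⟨⟨η, ?_⟩, ?_⟩
    · show infl Z η ∈ b
      rw [← hη₀]
      exact hξ
    · apply Subtype.ext
      exact hη₀.symm

/-- **The number of characters of `b` with the central involution in the kernel.** -/
theorem card_E_of_quat (hMp : IsPModular 2 M) {b : Set (IrrCharacter H)} (hb : IsPBlock M b) {D : Subgroup H}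
    (hD : IsDefectGroup 2 M b D) {n : ℕ} (hn : 3 ≤ n) (hq : Nonempty (D ≃* QuaternionGroup (2 ^ (n - 2))))
    {x t : H} (hd : QuatD D x t (2 ^ (n - 2))) (hz : ∀ g : H, g * x ^ (2 ^ (n - 2)) = x ^ (2 ^ (n - 2)) * g) :
    Nat.card {ξ : IrrCharacter H // ξ ∈ b ∧ (ξ : H → ℂ) (x ^ (2 ^ (n - 2))) = (ξ : H → ℂ) 1} = 2 ^ (n - 3) + 3 := by
  classical
  haveI : Fact (Nat.Prime 2) := ⟨Nat.prime_two⟩
  haveI : M.IsPrime := hMp.2.1.isPrime
  set z : H := x ^ (2 ^ (n - 2)) with hzdef
  have hzz : z * z = 1 := hd.zz_sq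
  have hz1 : z ≠ 1 := hd.zz_ne_one
  have hzD : z ∈ D := hd.zz_mem
  let Z : Subgroup H := Subgroup.zpowers z
  have hZmem : ∀ g ∈ Z, g = 1 ∨ g = z := by
    intro g hg
    obtain ⟨k, rfl⟩ := Subgroup.mem_zpowers_iff.mp hg
    have hz2 : z ^ 2 = 1 := by rw [sq, hzz]
    have h1 : orderOf z ∣ 2 := orderOf_dvd_of_pow_eq_one hz2
    have h2 : z ^ k = z ^ (k % 2) := by
      rw [← zpow_mod_orderOf]
      have h3 : orderOf z = 2 := by
        rcases (Nat.dvd_prime Nat.prime_two).mp h1 with h | h
        · exact absurd (orderOf_eq_one_iff.mp h) hz1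
        · exact h
      rw [h3]
      norm_num
    rw [h2]
    rcases Int.emod_two_eq_zero_or_one k with h | h
    · left
      rw [h, zpow_zero]
    · right
      rw [h, zpow_one]
  have hzZ : z ∈ Z := Subgroup.mem_zpowers z
  have hZc : ∀ a ∈ Z, ∀ g : H, g * a = a * g := by
    intro a ha g
    rcases hZmem a ha with rfl | rfl
    · simp
    · exact hz g
  haveI hZn : Z.Normal := by
    constructor
    intro a ha g
    have := hZc a ha g
    rw [this]
    simpa using ha
  have hZp : IsPGroup 2 Z := by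
    have : IsPGroup 2 (Subgroup.zpowers z) := by
      apply IsPGroup.of_card (n := 1)
      rw [Nat.card_zpowers, pow_one]
      have hz2 : z ^ 2 = 1 := by rw [sq, hzz]
      rcases (Nat.dvd_prime Nat.prime_two).mp (orderOf_dvd_of_pow_eq_one hz2) with h | h
      · exact absurd (orderOf_eq_one_iff.mp h) hz1
      · exact h
    exact this
  letI : Fintype Z := Fintype.ofFinite _
  letI : Fintype (H ⧸ Z) := Fintype.ofFinite _
  have hbq : IsPBlock M (quotBlock Z b) := isPBlock_quotBlock hMp Z hZc hZp hb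
  have hDq : IsDefectGroup 2 M (quotBlock Z b) (D.map (QuotientGroup.mk' Z)) :=
    isDefectGroup_quotBlock Z hMp hZc hZp hb hD
  rw [← card_quotBlock Z hZmem hzZ b]
  obtain ⟨ι⟩ := hq
  haveI : NeZero (2 ^ (n - 2)) := ⟨by positivity⟩
  have hdih : Nonempty ((D.map (QuotientGroup.mk' Z) : Subgroup (H ⧸ Z)) ≃* DihedralGroup (2 ^ (n - 2))) := by
    refine nonempty_quot_dih ι hzz ?_ ?_
    · intro g _
      constructor
      · exact hZmem g
      · rintro (rfl | rfl)
        · exact Z.one_mem
        · exact hzZ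
    · intro g hg hgg
      by_cases h1 : g = 1
      · exact Or.inl h1
      · exact Or.inr (hd.invol_eq hg hgg h1)
  rcases (by omega : n = 3 ∨ 4 ≤ n) with rfl | h4
  · -- the Klein four group
    obtain ⟨κ⟩ := hdih
    have hV : IsKleinFour (D.map (QuotientGroup.mk' Z) : Subgroup (H ⧸ Z)) := by
      refine ⟨?_, ?_⟩
      · rw [Nat.card_congr κ.toEquiv, DihedralGroup.nat_card]
        norm_num
      · rw [Monoid.exponent_eq_of_mulEquiv κ, DihedralGroup.exponent]
        norm_num
    obtain ⟨c, hmax⟩ := Cfsg.Agent.S4552.exists_maximal_on_defect hMp hbq hDq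
    have hc := isInducedBlock_of_brauerPair hMp hmax.1
    have h1 := Cfsg.Agent.S4637.result M hMp (quotBlock Z b) hbq _ hDq hV c hc
      (Subgroup.normalizer ((D.map (QuotientGroup.mk' Z) : Subgroup (H ⧸ Z)) : Set (H ⧸ Z)) ⊓
        blockStabilizer (Subgroup.centralizer ((D.map (QuotientGroup.mk' Z) : Subgroup (H ⧸ Z)) : Set (H ⧸ Z))) c)
      (fun g => Iff.rfl) _ rfl
    rw [h1.2.1]
    norm_num
  · have h1 := Cfsg.Agent.S4528.result M hMp (quotBlock Z b) hbq _ hDq (n - 1) (by omega) (by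
      rw [show n - 1 - 1 = n - 2 by omega]
      exact hdih)
    rw [h1.1, show n - 1 - 2 = n - 3 by omega]

end Count

end Cfsg.Agent.Lib.Blocks.Quat
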