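/-
Quaternion defect groups: the sections of the class functions antisymmetric under the central involution.
-/
import Mathlib
import Cfsg.Agent.Lib.Blocks.Quat8a
import Cfsg.Agent.Lib.Blocks.AbFree8
import Cfsg.Agent.S4633
import Cfsg.Agent.S4639

set_option autoImplicit false
set_option linter.style.haveILetI false

namespace Cfsg.Agent.Lib.Blocks.Quat

open Cfsg Cfsg.Agent.Lib.Blocks.Local Cfsg.Agent.Lib.Blocks.Central Cfsg.Agent.Lib.Blocks.Osima
open Cfsg.Agent.Lib.Blocks.Covering Cfsg.Agent.Lib.Blocks.BlockHom Cfsg.Agent.Lib.Blocks.Pairs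
open Cfsg.Agent.Lib.Blocks.Twisted Cfsg.Agent.Lib.Blocks.Necklace Cfsg.Agent.Lib.Blocks.Nilp
open Cfsg.Agent.Lib.Blocks.Regular Cfsg.Agent.Lib.Blocks.Sections Cfsg.Agent.Lib.Blocks.BlockCount
open Cfsg.Agent.Lib.Blocks.Transport

universe u

section Cyc

variable {K : Type u} [Group K] [Finite K] {M : Ideal AlgInt}

/-- **A block with a nontrivial cyclic defect group, `p = 2`, has rank one.** -/
theorem blockRank_eq_one_of_cyclic (hMp : IsPModular 2 M) {f : Set (IrrCharacter K)} (hf : IsPBlock M f)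
    {Q : Subgroup K} (hQ : IsDefectGroup 2 M f Q) (hcyc : IsCyclic Q) (hne : Q ≠ ⊥) : blockRank 2 f = 1 := by
  classical
  cases nonempty_fintype K
  haveI : Fact (Nat.Prime 2) := ⟨Nat.prime_two⟩
  haveI : M.IsPrime := hMp.2.1.isPrime
  obtain ⟨c, hmax⟩ := Cfsg.Agent.S4552.exists_maximal_on_defect hMp hf hQ
  have hc := isInducedBlock_of_brauerPair hMp hmax.1
  let T : Subgroup K := Subgroup.normalizer (Q : Set K) ⊓ blockStabilizer (Subgroup.centralizer (Q : Set K)) c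
  have hT : ∀ g : K, g ∈ T ↔ (g ∈ Subgroup.normalizer (Q : Set K) ∧ StabilizesBlock (Subgroup.centralizer (Q : Set K)) c g) :=
    fun g => Iff.rfl
  obtain ⟨-, h2, -, h4, -⟩ := stabilizer_facts hT
  haveI hnT : ((Subgroup.centralizer (Q : Set K)).subgroupOf T).Normal :=
    (Subgroup.normal_subgroupOf_iff_le_normalizer h2).mpr h4
  obtain ⟨-, h5, h6⟩ := Cfsg.Agent.S4633.result 2 M hMp f hf Q hQ hne hcyc c hc T hT
  have he : (Subgroup.centralizer (Q : Set K)).relIndex T = 1 := by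
    have : (Subgroup.centralizer (Q : Set K)).relIndex T ∣ 1 := h5
    exact Nat.dvd_one.mp this
  have hTC : T ≤ Subgroup.centralizer (Q : Set K) := Subgroup.relIndex_eq_one.mp he
  have hab : ∀ a ∈ Q, ∀ b ∈ Q, a * b = b * a := by
    intro a ha b hb
    obtain ⟨u₀, hu₀⟩ := IsCyclic.exists_generator (α := Q)
    obtain ⟨i, hi⟩ := Subgroup.mem_zpowers_iff.mp (hu₀ ⟨a, ha⟩)
    obtain ⟨j, hj⟩ := Subgroup.mem_zpowers_iff.mp (hu₀ ⟨b, hb⟩)
    have hi' : ((u₀ : K)) ^ i = a := congrArg Subtype.val hi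
    have hj' : ((u₀ : K)) ^ j = b := congrArg Subtype.val hj
    rw [← hi', ← hj', ← zpow_add, ← zpow_add, add_comm]
  have h7 := Cfsg.Agent.S4639.result 2 M hMp f hf Q hQ hne hab c hc T hT 1 he
    (fun g hg h hh => Subgroup.mul_mem _ (Subgroup.mul_mem _ (Subgroup.mul_mem _ (hTC hg) (hTC hh)) (Subgroup.inv_mem _ (hTC hg))) (Subgroup.inv_mem _ (hTC hh))) h6
  exact (h7.2.2.2 (by norm_num)).2

end Cyc

section Cen

variable {G : Type u} [Group G] {D : Subgroup G} {x t : G} {N : ℕ}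

lemma comm_aux {t y w : G} (h1 : t * y * t⁻¹ = y⁻¹) (hyw : w * y = y * w) (hc : y * (t * w) = (t * w) * y) :
    y * y = 1 := by
  have h2 : t * y = y⁻¹ * t := by
    rw [← h1]
    group
  have h3 : y * t = t * y⁻¹ := by
    calc y * t = y * (t * y) * y⁻¹ := by group
      _ = y * (y⁻¹ * t) * y⁻¹ := by rw [h2]
      _ = t * y⁻¹ := by group
  have h4 : t * (y⁻¹ * w) = t * (y * w) := by
    calc t * (y⁻¹ * w) = (t * y⁻¹) * w := by group
      _ = y * t * w := by rw [h3]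
      _ = y * (t * w) := by group
      _ = (t * w) * y := hc
      _ = t * (w * y) := by group
      _ = t * (y * w) := by rw [hyw]
  have h5 : y⁻¹ = y := mul_right_cancel (mul_left_cancel h4)
  calc y * y = y * y⁻¹ := by rw [h5]
    _ = 1 := mul_inv_cancel y

lemma conj_aux {t y w : G} (h1 : t * y * t⁻¹ = y⁻¹) (hyw : w * y = y * w) :
    y * (t * w) * y⁻¹ = t * w * (y * y)⁻¹ := by
  have h2 : t * y = y⁻¹ * t := by
    rw [← h1]
    group
  have h3 : y * t = t * y⁻¹ := by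
    calc y * t = y * (t * y) * y⁻¹ := by group
      _ = y * (y⁻¹ * t) * y⁻¹ := by rw [h2]
      _ = t * y⁻¹ := by group
  have h4 : y⁻¹ * w = w * y⁻¹ := by
    calc y⁻¹ * w = y⁻¹ * (w * y) * y⁻¹ := by group
      _ = y⁻¹ * (y * w) * y⁻¹ := by rw [hyw]
      _ = w * y⁻¹ := by group
  calc y * (t * w) * y⁻¹ = (y * t) * w * y⁻¹ := by group
    _ = t * (y⁻¹ * w) * y⁻¹ := by rw [h3]; group
    _ = t * (w * y⁻¹) * y⁻¹ := by rw [h4]
    _ = _ := by group

lemma QuatD.comm_refl (h : QuatD D x t N) {r s : ℕ} (hc : x ^ r * (t * x ^ s) = (t * x ^ s) * x ^ r) :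
    x ^ r * x ^ r = 1 :=
  comm_aux (h.t_conj_pow r) (by rw [← pow_add, ← pow_add, add_comm]) hc

/-- The centralizers in `D` of the elements other than `1, z` are cyclic. -/
theorem QuatD.cen_cyclic [Finite G] (h : QuatD D x t N) {v : G} (hv : v ∈ D) (hv1 : v ≠ 1) (hvz : v ≠ x ^ N) :
    IsCyclic ↥(D ⊓ Subgroup.centralizer ((Subgroup.zpowers v : Subgroup G) : Set G)) := by
  have hcomm : ∀ g, g ∈ D ⊓ Subgroup.centralizer ((Subgroup.zpowers v : Subgroup G) : Set G) → g * v = v * g := by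
    intro g hg
    exact (Subgroup.mem_centralizer_iff.mp hg.2 v (Subgroup.mem_zpowers v)).symm
  rcases h.hcov v hv with ⟨s, rfl⟩ | ⟨s, rfl⟩
  · apply Subgroup.isCyclic_of_le (H' := Subgroup.zpowers x)
    intro g hg
    rcases h.hcov g hg.1 with ⟨r, rfl⟩ | ⟨r, rfl⟩
    · exact Subgroup.pow_mem _ (Subgroup.mem_zpowers x) r
    · exfalso
      have h1 := hcomm _ hg
      have h2 : (t * x ^ r) * x ^ s * (t * x ^ r)⁻¹ = (x ^ s)⁻¹ := by
        have h3 : x ^ r * x ^ s = x ^ s * x ^ r := by rw [← pow_add, ← pow_add, add_comm]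
        calc (t * x ^ r) * x ^ s * (t * x ^ r)⁻¹ = t * (x ^ r * x ^ s) * (x ^ r)⁻¹ * t⁻¹ := by group
          _ = t * x ^ s * t⁻¹ := by rw [h3]; group
          _ = _ := h.t_conj_pow s
      rw [h1] at h2
      have h3 : x ^ s = (x ^ s)⁻¹ := by
        rw [← h2]
        group
      have h4 : x ^ s * x ^ s = 1 := by
        calc x ^ s * x ^ s = x ^ s * (x ^ s)⁻¹ := by rw [← h3]
          _ = 1 := mul_inv_cancel _
      exact hvz (h.eq_zz_of_sq h4 hv1)
  · apply Subgroup.isCyclic_of_le (H' := Subgroup.zpowers (t * x ^ s))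
    have hzv : x ^ N ∈ Subgroup.zpowers (t * x ^ s) := h.zz_mem_zpowers_of_mem hv hv1
    have hrot : ∀ r : ℕ, x ^ r * (t * x ^ s) = (t * x ^ s) * x ^ r → x ^ r ∈ Subgroup.zpowers (t * x ^ s) := by
      intro r hr
      have h1 := h.comm_refl hr
      by_cases h2 : x ^ r = 1
      · rw [h2]
        exact Subgroup.one_mem _
      · rw [h.eq_zz_of_sq h1 h2]
        exact hzv
    intro g hg
    rcases h.hcov g hg.1 with ⟨r, rfl⟩ | ⟨r, rfl⟩
    · exact hrot r (hcomm _ hg)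
    · -- the quotient is a rotation
      have h1 : (t * x ^ r) * (t * x ^ s)⁻¹ ∈ Subgroup.zpowers x := by
        have h2 : (t * x ^ r) * (t * x ^ s)⁻¹ = (t * x ^ r * t⁻¹) * (t * x ^ s * t⁻¹)⁻¹ := by group
        rw [h2, h.t_conj_pow, h.t_conj_pow]
        exact Subgroup.mul_mem _ (Subgroup.inv_mem _ (Subgroup.pow_mem _ (Subgroup.mem_zpowers x) r))
          (Subgroup.inv_mem _ (Subgroup.inv_mem _ (Subgroup.pow_mem _ (Subgroup.mem_zpowers x) s)))
      obtain ⟨k, hk⟩ := (mem_powers_iff_mem_zpowers).mpr h1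
      replace hk : x ^ k = (t * x ^ r) * (t * x ^ s)⁻¹ := hk
      have h2 := hcomm _ hg
      have h3 : x ^ k * (t * x ^ s) = (t * x ^ s) * x ^ k := by
        rw [hk]
        have e1 : (t * x ^ r) * (t * x ^ s)⁻¹ * (t * x ^ s) = t * x ^ r := by group
        rw [e1]
        calc t * x ^ r = (t * x ^ s) * (t * x ^ s)⁻¹ * (t * x ^ r) := by group
          _ = (t * x ^ s) * ((t * x ^ s)⁻¹ * (t * x ^ r)) := by group
          _ = _ := by
            congr 1
            apply mul_right_cancel (b := t * x ^ s)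
            calc (t * x ^ s)⁻¹ * (t * x ^ r) * (t * x ^ s) = (t * x ^ s)⁻¹ * ((t * x ^ r) * (t * x ^ s)) := by group
              _ = (t * x ^ s)⁻¹ * ((t * x ^ s) * (t * x ^ r)) := by rw [h2]
              _ = t * x ^ r := by group
              _ = _ := by group
      have h4 := hrot k h3
      rw [hk] at h4
      have h5 : t * x ^ r = ((t * x ^ r) * (t * x ^ s)⁻¹) * (t * x ^ s) := by group
      rw [h5]
      exact Subgroup.mul_mem _ h4 (Subgroup.mem_zpowers _)

end Cen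

section Sect

variable {G : Type u} [Group G] [Fintype G] {M : Ideal AlgInt} [hM : M.IsPrime]
  {B : Set (IrrCharacter G)} {D : Subgroup G} {e : Set (IrrCharacter (Subgroup.centralizer (D : Set G)))}
  {x t : G} {N : ℕ}

omit hM in
open Classical in
/-- The block below depends only on the cyclic subgroup. -/
lemma Ev_congr (p : ℕ) {v v' : G} (h : Subgroup.zpowers v = Subgroup.zpowers v') :
    Ev M p D e v = Ev M p D e v' := by
  have key : ∀ Q Q' : Subgroup G, Q = Q' →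
      EE (Subgroup.centralizer (Q : Set G))
        (if h : ∃ f : Set (IrrCharacter (Subgroup.centralizer (Q : Set G))), SubpairLE p M Q f D e then h.choose else ∅) =
      EE (Subgroup.centralizer (Q' : Set G))
        (if h : ∃ f : Set (IrrCharacter (Subgroup.centralizer (Q' : Set G))), SubpairLE p M Q' f D e then h.choose else ∅) := by
    rintro Q _ rfl
    rfl
  unfold Ev eBlk
  exact key (Subgroup.zpowers v) (Subgroup.zpowers v') h

/-- **The local blocks have rank one.** -/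
theorem blockRank_eBlk (hMp : IsPModular 2 M) (hmax : IsMaximalBrauerPair 2 M B D e) (h : QuatD D x t N)
    {v : G} (hv : v ∈ D) (hv1 : v ≠ 1) (hvz : v ≠ x ^ N) (hz : ∀ g : G, g * x ^ N = x ^ N * g) :
    blockRank 2 (eBlk M 2 D e v) = 1 := by
  classical
  haveI : Fact (Nat.Prime 2) := ⟨Nat.prime_two⟩
  have hPe := hmax.1.1
  have hf := isPBlock_eBlk hMp hPe hv
  obtain ⟨x₀, hle, hdef⟩ := exists_conj_isDefectGroup_centralizer hMp hmax
    ((Subgroup.zpowers_le).mpr hv) hf (eBlk_spec hMp hPe hv)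
  have hv' : x₀ * v * x₀⁻¹ ∈ D := SubpairLE.le hle (by
    rw [zpowers_map_conj]
    exact Subgroup.mem_zpowers _)
  have hv1' : x₀ * v * x₀⁻¹ ≠ 1 := by
    intro h1
    apply hv1
    have : v = x₀⁻¹ * (x₀ * v * x₀⁻¹) * x₀ := by group
    rw [this, h1]
    group
  have hvz' : x₀ * v * x₀⁻¹ ≠ x ^ N := by
    intro h1
    apply hvz
    have h2 : v = x₀⁻¹ * (x₀ * v * x₀⁻¹) * x₀ := by group
    rw [h2, h1, hz x₀⁻¹]
    group
  have hcyc := h.cen_cyclic hv' hv1' hvz'
  rw [← zpowers_map_conj] at hcyc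
  have hcyc2 : IsCyclic ↥((D ⊓ Subgroup.centralizer (((Subgroup.zpowers v).map (MulAut.conj x₀).toMonoidHom : Subgroup G) : Set G)).subgroupOf
      (Subgroup.centralizer (((Subgroup.zpowers v).map (MulAut.conj x₀).toMonoidHom : Subgroup G) : Set G))) := by
    let ι := Subgroup.subgroupOfEquivOfLe (H := D ⊓ Subgroup.centralizer (((Subgroup.zpowers v).map (MulAut.conj x₀).toMonoidHom : Subgroup G) : Set G))
      (K := Subgroup.centralizer (((Subgroup.zpowers v).map (MulAut.conj x₀).toMonoidHom : Subgroup G) : Set G)) inf_le_right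
    exact isCyclic_of_injective ι.toMonoidHom ι.injective
  have hne : ((D ⊓ Subgroup.centralizer (((Subgroup.zpowers v).map (MulAut.conj x₀).toMonoidHom : Subgroup G) : Set G)).subgroupOf
      (Subgroup.centralizer (((Subgroup.zpowers v).map (MulAut.conj x₀).toMonoidHom : Subgroup G) : Set G))) ≠ ⊥ := by
    intro h0
    have hmem : x₀ * v * x₀⁻¹ ∈ Subgroup.centralizer (((Subgroup.zpowers v).map (MulAut.conj x₀).toMonoidHom : Subgroup G) : Set G) := by
      rw [zpowers_map_conj, Subgroup.mem_centralizer_iff]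
      intro g hg
      obtain ⟨k, rfl⟩ := Subgroup.mem_zpowers_iff.mp hg
      exact ((Commute.refl _).zpow_left k).eq
    have h1 : (⟨x₀ * v * x₀⁻¹, hmem⟩ : Subgroup.centralizer (((Subgroup.zpowers v).map (MulAut.conj x₀).toMonoidHom : Subgroup G) : Set G)) ∈
        ((D ⊓ Subgroup.centralizer (((Subgroup.zpowers v).map (MulAut.conj x₀).toMonoidHom : Subgroup G) : Set G)).subgroupOf
      (Subgroup.centralizer (((Subgroup.zpowers v).map (MulAut.conj x₀).toMonoidHom : Subgroup G) : Set G))) := by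
      rw [Subgroup.mem_subgroupOf]
      exact ⟨hv', hmem⟩
    rw [h0, Subgroup.mem_bot] at h1
    exact hv1' (congrArg Subtype.val h1)
  have hfc : IsPBlock M (conjBlock (Subgroup.zpowers v) x₀ (eBlk M 2 D e v)) :=
    (isBrauerPair_of_subpairLE hPe hle).2
  have h1 := blockRank_eq_one_of_cyclic hMp hfc hdef hcyc2 hne
  rw [conjBlock_eq_conjB, conjB, Cfsg.Agent.Lib.Blocks.AbelianCount.blockRank_blockMap] at h1
  exact h1

/-- A class function in the span of the block, antisymmetric under `z`. -/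
structure AntiF (M : Ideal AlgInt) (B : Set (IrrCharacter G)) (z : G) (Ψ : G → ℂ) : Prop where
  hcl : IsClassFunction G Ψ
  hanti : ∀ g, Ψ (z * g) = -Ψ g
  hnp : ∀ {u : G} {k : ℕ} {f : Set (IrrCharacter (Kz u))}, u ^ (2 ^ k) = 1 → IsPBlock M f →
    ¬ IsBrauerPairOf 2 M B (Subgroup.zpowers u) f → ∀ c ∈ regC 2 u, twTrace Ψ (u * c) (EE (Kz u) f) = 0

variable {Ψ : G → ℂ}

omit hM in
lemma AntiF.twTrace_mul (hΨ : AntiF M B (x ^ N) Ψ) (hz : ∀ g : G, g * x ^ N = x ^ N * g) (v : G)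
    (E : MonoidAlgebra ℂ G) : twTrace Ψ (x ^ N * v) E = -twTrace Ψ v E := by
  simp only [twTrace]
  rw [← Finset.sum_neg_distrib]
  refine Finset.sum_congr rfl fun g _ => ?_
  have h1 : g * (x ^ N * v) = x ^ N * (g * v) := by
    rw [← mul_assoc, hz g, mul_assoc]
  rw [h1, hΨ.hanti, mul_neg]

/-- The value at the identity of the section. -/
noncomputable def aaV (M : Ideal AlgInt) (D : Subgroup G) (e : Set (IrrCharacter (Subgroup.centralizer (D : Set G))))
    (Ψ : G → ℂ) (v : G) : ℂ := twTrace Ψ v (Ev M 2 D e v)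

lemma AntiF.aa_conj (hΨ : AntiF M B (x ^ N) Ψ) (hMp : IsPModular 2 M) (hPe : IsBrauerPair 2 M D e) {v y : G}
    (hv : v ∈ D) (hy : y ∈ D) : aaV M D e Ψ (y * v * y⁻¹) = aaV M D e Ψ v := by
  haveI : Fact (Nat.Prime 2) := ⟨Nat.prime_two⟩
  unfold aaV
  rw [← cj_Ev_of_mem hMp hPe hv hy, twTrace_conj hΨ.hcl]

lemma zpowers_zz_mul (h : QuatD D x t N) {v : G} (hv : v ∈ D) (hv1 : v ≠ 1) (hvz : v ≠ x ^ N) :
    Subgroup.zpowers (x ^ N * v) = Subgroup.zpowers v := by
  have hzv := h.zz_mem_zpowers_of_mem hv hv1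
  have hD : x ^ N * v ∈ D := D.mul_mem h.zz_mem hv
  have hne : x ^ N * v ≠ 1 := by
    intro h1
    apply hvz
    have h2 := eq_inv_of_mul_eq_one_right h1
    rw [h2, h.zz_inv]
  have hzv' := h.zz_mem_zpowers_of_mem hD hne
  apply le_antisymm
  · rw [Subgroup.zpowers_le]
    exact Subgroup.mul_mem _ hzv (Subgroup.mem_zpowers v)
  · rw [Subgroup.zpowers_le]
    have h3 : (x ^ N)⁻¹ * (x ^ N * v) ∈ Subgroup.zpowers (x ^ N * v) :=
      Subgroup.mul_mem _ (Subgroup.inv_mem _ hzv') (Subgroup.mem_zpowers _)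
    simpa using h3

omit hM in
lemma AntiF.aa_mul (hΨ : AntiF M B (x ^ N) Ψ) (h : QuatD D x t N) (hz : ∀ g : G, g * x ^ N = x ^ N * g) {v : G}
    (hv : v ∈ D) (hv1 : v ≠ 1) (hvz : v ≠ x ^ N) : aaV M D e Ψ (x ^ N * v) = -aaV M D e Ψ v := by
  unfold aaV
  rw [Ev_congr 2 (zpowers_zz_mul h hv hv1 hvz), hΨ.twTrace_mul hz]

lemma AntiF.aa_inv (hΨ : AntiF M B (x ^ N) Ψ) (hMp : IsPModular 2 M) (hPe : IsBrauerPair 2 M D e)
    (h : QuatD D x t N) (s : ℕ) : aaV M D e Ψ (x ^ s)⁻¹ = aaV M D e Ψ (x ^ s) := by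
  rw [← h.t_conj_pow s]
  exact hΨ.aa_conj hMp hPe (D.pow_mem h.hxD s) h.htD

/-- **The values at the identity vanish.** -/
theorem AntiF.aa_eq_zero (hΨ : AntiF M B (x ^ N) Ψ) (hMp : IsPModular 2 M) (hPe : IsBrauerPair 2 M D e)
    (h : QuatD D x t N) (hz : ∀ g : G, g * x ^ N = x ^ N * g)
    (h2 : ∀ l : ℕ, 0 < l → l < N / 2 → aaV M D e Ψ (x ^ l) = 0) {v : G} (hv : v ∈ D) (hv1 : v ≠ 1) (hvz : v ≠ x ^ N) :
    aaV M D e Ψ v = 0 := by
  have hNhalf := h.half_add
  have hNpos := h.N_pos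
  -- the rotations
  have hrot1 : ∀ s : ℕ, 0 < s → s < N → aaV M D e Ψ (x ^ s) = 0 := by
    intro s hs0 hsN
    have hxs : x ^ s ∈ D := D.pow_mem h.hxD s
    rcases lt_trichotomy s (N / 2) with h3 | h3 | h3
    · exact h2 s hs0 h3
    · subst h3
      -- order four
      have hne1 : x ^ (N / 2) ≠ 1 := by
        intro h4
        have h5 := orderOf_dvd_of_pow_eq_one h4
        rw [h.hxo] at h5
        have := Nat.le_of_dvd hs0 h5
        omega
      have hne2 : x ^ (N / 2) ≠ x ^ N := by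
        intro h4
        have h5 := h.pow_inj (by omega) (by omega) h4
        omega
      have h4 := hΨ.aa_inv hMp hPe h (N / 2)
      have h5 := hΨ.aa_mul (e := e) h hz hxs hne1 hne2
      have h6 : (x ^ (N / 2))⁻¹ = x ^ N * x ^ (N / 2) := by
        apply inv_eq_of_mul_eq_one_right
        have h7 : x ^ (N / 2) * (x ^ N * x ^ (N / 2)) = x ^ N * (x ^ (N / 2) * x ^ (N / 2)) := by
          rw [← pow_add, ← pow_add, ← pow_add, ← pow_add]
          congr 1
          omega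
        rw [h7, ← pow_add, hNhalf, h.zz_sq]
      rw [h6, h5] at h4
      have h7 : (2 : ℂ) * aaV M D e Ψ (x ^ (N / 2)) = 0 := by
        linear_combination -h4
      simpa using h7
    · -- the other half
      have hs1 : x ^ (N - s) ≠ 1 := by
        intro h4
        have h5 := orderOf_dvd_of_pow_eq_one h4
        rw [h.hxo] at h5
        have := Nat.le_of_dvd (by omega) h5
        omega
      have hinvD : (x ^ (N - s))⁻¹ ∈ D := D.inv_mem (D.pow_mem h.hxD _)
      have hne1 : (x ^ (N - s))⁻¹ ≠ 1 := by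
        intro h4
        exact hs1 (inv_eq_one.mp h4)
      have hne2 : (x ^ (N - s))⁻¹ ≠ x ^ N := by
        intro h4
        apply hs1
        have h5 : x ^ (N - s) = x ^ N := by
          have := congrArg (·⁻¹) h4
          simpa [h.zz_inv] using this
        have h6 := h.pow_inj (by omega) (by omega) h5
        omega
      have h4 := hΨ.aa_mul (e := e) h hz hinvD hne1 hne2
      have h5 : x ^ N * (x ^ (N - s))⁻¹ = x ^ s := by
        have : x ^ N = x ^ s * x ^ (N - s) := by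
          rw [← pow_add]
          congr 1
          omega
        rw [this]
        group
      rw [h5, hΨ.aa_inv hMp hPe h, h2 (N - s) (by omega) (by omega)] at h4
      simpa using h4
  rcases h.hcov v hv with ⟨s, rfl⟩ | ⟨s, rfl⟩
  · -- reduction of the exponent
    have hs : x ^ s = x ^ (s % (2 * N)) := by
      rw [← h.hxo, pow_mod_orderOf]
    rw [hs] at hv1 hvz ⊢
    have hlt : s % (2 * N) < 2 * N := Nat.mod_lt _ (by omega)
    generalize s % (2 * N) = r at hv1 hvz hlt ⊢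
    have hr0 : 0 < r := by
      rcases Nat.eq_zero_or_pos r with rfl | h3
      · simp at hv1
      · exact h3
    have hrN : r ≠ N := by
      rintro rfl
      exact hvz rfl
    rcases lt_or_gt_of_ne hrN with h3 | h3
    · exact hrot1 r hr0 h3
    · have h4 := hΨ.aa_inv hMp hPe h (2 * N - r)
      have h5 : (x ^ (2 * N - r))⁻¹ = x ^ r := by
        apply inv_eq_of_mul_eq_one_right
        rw [← pow_add, show 2 * N - r + r = 2 * N by omega, h.x_pow_two_N]
      rw [h5, hrot1 (2 * N - r) (by omega) (by omega)] at h4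
      exact h4
  · -- the reflections have order four
    have hy := D.pow_mem h.hxD (N / 2)
    have h4 := hΨ.aa_conj hMp hPe hv hy
    have h5 : x ^ (N / 2) * (t * x ^ s) * (x ^ (N / 2))⁻¹ = x ^ N * (t * x ^ s) := by
      have h6 := conj_aux (h.t_conj_pow (N / 2)) (w := x ^ s) (by rw [← pow_add, ← pow_add, add_comm])
      rw [h6, ← pow_add, hNhalf, h.zz_inv]
      exact hz _
    rw [h5, hΨ.aa_mul h hz hv hv1 hvz] at h4
    have h7 : (2 : ℂ) * aaV M D e Ψ (t * x ^ s) = 0 := by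
      linear_combination -h4
    simpa using h7

/-- **The sections vanish, by the rank one of the local blocks.** -/
theorem AntiF.section_zero (hΨ : AntiF M B (x ^ N) Ψ) (hMp : IsPModular 2 M) (hmax : IsMaximalBrauerPair 2 M B D e)
    (h : QuatD D x t N) (hz : ∀ g : G, g * x ^ N = x ^ N * g)
    (h2 : ∀ l : ℕ, 0 < l → l < N / 2 → aaV M D e Ψ (x ^ l) = 0) {v : G} (hv : v ∈ D) (hv1 : v ≠ 1) (hvz : v ≠ x ^ N)
    {c : G} (hc : c ∈ Kz v) (hreg : ¬ 2 ∣ orderOf c) : twTrace Ψ (v * c) (Ev M 2 D e v) = 0 := by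
  classical
  letI : Fintype (Kz v) := Fintype.ofFinite _
  have hPe := hmax.1.1
  have hK : ∀ k ∈ Kz v, k * v = v * k := fun k hk =>
    (Subgroup.mem_centralizer_iff.mp hk v (Subgroup.mem_zpowers v)).symm
  have ha := hΨ.aa_eq_zero hMp hPe h hz h2 hv hv1 hvz
  have hrank := blockRank_eBlk hMp hmax h hv hv1 hvz hz
  have hblk := isPBlock_eBlk hMp hPe hv
  obtain ⟨ϑ₀, hϑ₀⟩ := isPBlock_nonempty hblk
  set f := eBlk M 2 D e v with hfdef
  let φ : Kz v → ℂ := fun k => Ψ (v * k)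
  have hτ : reg 2 (blockPart f φ) ∈ regSpan 2 f := reg_blockPart_mem f φ
  have hρ : reg 2 (ϑ₀ : Kz v → ℂ) ∈ regSpan 2 f :=
    Submodule.subset_span ⟨ϑ₀, hϑ₀, Cfsg.Agent.Lib.Blocks.Cartan.pRegularPart_eq_reg _ _⟩
  have h1reg : ¬ 2 ∣ orderOf (1 : Kz v) := by
    rw [orderOf_one]
    norm_num
  have hρ1 : reg 2 (ϑ₀ : Kz v → ℂ) 1 ≠ 0 := by
    rw [reg_of_not_dvd _ h1reg]
    exact Cfsg.Agent.Lib.Char.Ortho.irr_apply_one_ne_zero ϑ₀.2
  have hne : (⟨_, hρ⟩ : regSpan 2 f) ≠ 0 := by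
    intro h0
    have h3 := congrArg (fun u : regSpan 2 f => (u : Kz v → ℂ) 1) h0
    exact hρ1 h3
  have hrank' : Module.finrank ℂ (regSpan 2 f) = 1 := hrank
  obtain ⟨a, ha'⟩ := (finrank_eq_one_iff_of_nonzero' _ hne).mp hrank' ⟨_, hτ⟩
  have ha2 : ∀ k, a * reg 2 (ϑ₀ : Kz v → ℂ) k = reg 2 (blockPart f φ) k := by
    intro k
    have h3 := congrArg (fun u : regSpan 2 f => (u : Kz v → ℂ) k) ha'
    exact h3
  have hval : ∀ k : Kz v, twTrace Ψ (v * k) (Ev M 2 D e v) = blockPart f φ k :=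
    fun k => twTrace_EE_eq_blockPart hΨ.hcl hK f k
  have hτ1 : reg 2 (blockPart f φ) 1 = 0 := by
    rw [reg_of_not_dvd _ h1reg, ← hval 1]
    have : ((1 : Kz v) : G) = 1 := rfl
    rw [this, mul_one]
    exact ha
  have ha0 : a = 0 := by
    have h3 := ha2 1
    rw [hτ1] at h3
    exact (mul_eq_zero.mp h3).resolve_right hρ1
  have h3 := ha2 ⟨c, hc⟩
  rw [ha0, zero_mul, reg_of_not_dvd _ (by rwa [Subgroup.orderOf_mk]), ← hval] at h3
  exact h3.symm

/-- **A class function in the span of the block, antisymmetric under `z`, vanishing on the regular elements and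
at the first sections, is zero.** -/
theorem AntiF.vanish (hΨ : AntiF M B (x ^ N) Ψ) (hMp : IsPModular 2 M) (hmax : IsMaximalBrauerPair 2 M B D e)
    (h : QuatD D x t N) (hz : ∀ g : G, g * x ^ N = x ^ N * g)
    (h1 : ∀ y : G, ¬ 2 ∣ orderOf y → Ψ y = 0)
    (h2 : ∀ l : ℕ, 0 < l → l < N / 2 → aaV M D e Ψ (x ^ l) = 0) (g : G) : Ψ g = 0 := by
  classical
  haveI : Fact (Nat.Prime 2) := ⟨Nat.prime_two⟩
  have hPe := hmax.1.1
  obtain ⟨u, y, rfl, hcomm, ⟨k, hk⟩, hreg⟩ := Cfsg.Agent.Lib.Blocks.SecondMain.exists_isPPart 2 g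
  by_cases hu1 : u = 1
  · subst hu1
    rw [one_mul]
    exact h1 y hreg
  by_cases huz : u = x ^ N
  · subst huz
    rw [hΨ.hanti, h1 y hreg, neg_zero]
  have hyK : y ∈ Kz u := mem_centralizer_zpowers_iff.mpr hcomm.symm
  rw [sum_twTrace_EE (M := M) (Kz u) Ψ (u * y)]
  refine Finset.sum_eq_zero fun f _ => ?_
  have huk : u ^ (2 ^ k) = 1 := by
    rw [← hk]
    exact pow_orderOf_eq_one u
  by_cases hpair : IsBrauerPairOf 2 M B (Subgroup.zpowers u) f.1
  · obtain ⟨x₀, hx₀⟩ := exists_conj_subpairLE hMp hmax hpair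
    have h3 := transport_pair x₀ (zpowers_map_conj x₀ u) f.1 (fun A a => SubpairLE 2 M A a D e) hx₀
    have hv₀ : x₀ * u * x₀⁻¹ ∈ D := SubpairLE.le h3 (Subgroup.mem_zpowers _)
    have h4 := eq_eBlk hMp hPe h3
    have hE : cj x₀ (EE (Kz u) f.1) = Ev M 2 D e (x₀ * u * x₀⁻¹) := by
      rw [cj_EE_conjB (map_conj_centralizer_gen x₀ (zpowers_map_conj x₀ u)), Ev, h4]
    rw [← twTrace_conj hΨ.hcl x₀, hE]
    have h5 : x₀ * (u * y) * x₀⁻¹ = (x₀ * u * x₀⁻¹) * (x₀ * y * x₀⁻¹) := by group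
    rw [h5]
    refine hΨ.section_zero hMp hmax h hz h2 hv₀ ?_ ?_ ?_ ?_
    · intro h6
      apply hu1
      have : u = x₀⁻¹ * (x₀ * u * x₀⁻¹) * x₀ := by group
      rw [this, h6]
      group
    · intro h6
      apply huz
      have h7 : u = x₀⁻¹ * (x₀ * u * x₀⁻¹) * x₀ := by group
      rw [h7, h6, hz x₀⁻¹]
      group
    · refine mem_centralizer_zpowers_iff.mpr ?_
      have h6 : y * u = u * y := hcomm.symm.eq
      calc x₀ * y * x₀⁻¹ * (x₀ * u * x₀⁻¹) = x₀ * (y * u) * x₀⁻¹ := by group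
        _ = x₀ * (u * y) * x₀⁻¹ := by rw [h6]
        _ = _ := by group
    · rwa [Nilp.orderOf_conj']
  · exact hΨ.hnp huk f.2 hpair _ (mem_regC.mpr ⟨hyK, hreg⟩)

end Sect

end Cfsg.Agent.Lib.Blocks.Quat
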