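/-
Quaternion defect groups: the characters not containing the central involution in their kernel, from above.
-/
import Mathlib
import Cfsg.Agent.Lib.Blocks.Quat8b

set_option autoImplicit false
set_option linter.style.haveILetI false

namespace Cfsg.Agent.Lib.Blocks.Quat

open Cfsg Cfsg.Agent.Lib.Blocks.Local Cfsg.Agent.Lib.Blocks.Central Cfsg.Agent.Lib.Blocks.Osima
open Cfsg.Agent.Lib.Blocks.Covering Cfsg.Agent.Lib.Blocks.BlockHom Cfsg.Agent.Lib.Blocks.Pairs
open Cfsg.Agent.Lib.Blocks.Twisted Cfsg.Agent.Lib.Blocks.Necklace Cfsg.Agent.Lib.Blocks.Nilp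
open Cfsg.Agent.Lib.Blocks.Regular Cfsg.Agent.Lib.Blocks.Sections Cfsg.Agent.Lib.Blocks.BlockCount
open Cfsg.Agent.Lib.Blocks.Transport

universe u

section Upper

variable {G : Type u} [Group G] [Fintype G] {M : Ideal AlgInt} [hM : M.IsPrime]
  {B : Set (IrrCharacter G)} {D : Subgroup G}
  {x t : G} {N : ℕ}

open Classical in
/-- The characters of the block not containing `z` in the kernel. -/
noncomputable def FF (B : Set (IrrCharacter G)) (z : G) : Finset (IrrCharacter G) :=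
  Finset.univ.filter (fun ξ : IrrCharacter G => ξ ∈ B ∧ (ξ : G → ℂ) z = -(ξ : G → ℂ) 1)

open Classical in
lemma mem_FF {z : G} {ξ : IrrCharacter G} : ξ ∈ FF B z ↔ ξ ∈ B ∧ (ξ : G → ℂ) z = -(ξ : G → ℂ) 1 := by
  simp [FF]

omit hM in
lemma FF_anti {z : G} (hz : ∀ g : G, g * z = z * g) {ξ : IrrCharacter G} (hξ : ξ ∈ FF B z) (g : G) :
    (ξ : G → ℂ) (z * g) = -(ξ : G → ℂ) g := by
  obtain ⟨a, -, ha⟩ := Cfsg.Agent.Lib.Char.BlichfeldtB.irr_central_mul ξ.2 z hz
  have h1 := ha 1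
  rw [mul_one, (mem_FF.mp hξ).2] at h1
  have h2 : (ξ : G → ℂ) 1 ≠ 0 := Cfsg.Agent.Lib.Char.Ortho.irr_apply_one_ne_zero ξ.2
  have h3 : a = -1 := by
    have h4 : (a + 1) * (ξ : G → ℂ) 1 = 0 := by linear_combination -h1
    have h5 := (mul_eq_zero.mp h4).resolve_right h2
    linear_combination h5
  rw [ha g, h3]
  ring

/-- The combination of characters. -/
noncomputable def PsiF (F : Finset (IrrCharacter G)) (c : F → ℂ) : G → ℂ :=
  fun g => ∑ ξ : F, c ξ * ((ξ : IrrCharacter G) : G → ℂ) g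

omit hM in
lemma twTrace_PsiF (F : Finset (IrrCharacter G)) (c : F → ℂ) (h : G) (E : MonoidAlgebra ℂ G) :
    twTrace (PsiF F c) h E = ∑ ξ : F, c ξ * twTrace ((ξ : IrrCharacter G) : G → ℂ) h E := by
  simp only [twTrace, PsiF, Finset.mul_sum]
  rw [Finset.sum_comm]
  refine Finset.sum_congr rfl fun ξ _ => Finset.sum_congr rfl fun g _ => ?_
  ring

lemma antiF_PsiF (hMp : IsPModular 2 M) (hB : IsPBlock M B) {z : G} (hz : ∀ g : G, g * z = z * g)
    (c : FF B z → ℂ) : AntiF M B z (PsiF (FF B z) c) := by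
  haveI : Fact (Nat.Prime 2) := ⟨Nat.prime_two⟩
  refine ⟨?_, ?_, ?_⟩
  · intro a g
    simp only [PsiF]
    refine Finset.sum_congr rfl fun ξ _ => ?_
    rw [isClassFunction_of_irr (ξ : IrrCharacter G).2]
  · intro g
    simp only [PsiF]
    rw [← Finset.sum_neg_distrib]
    refine Finset.sum_congr rfl fun ξ _ => ?_
    rw [FF_anti hz ξ.2, mul_neg]
  · intro u k f hu hf hnot a ha
    rw [twTrace_PsiF]
    refine Finset.sum_eq_zero fun ξ _ => ?_
    rw [twTrace_EE_eq_zero_of_not_pair hMp hB (mem_FF.mp ξ.2).1 hu hf hnot ha, mul_zero]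

lemma PsiF_eq_zero {F : Finset (IrrCharacter G)} {c : F → ℂ} (h : ∀ g, PsiF F c g = 0) : c = 0 := by
  classical
  funext ξ₀
  have h1 : classInner (PsiF F c) ((ξ₀ : IrrCharacter G) : G → ℂ) = c ξ₀ := by
    have h2 : PsiF F c = ∑ ξ : F, c ξ • ((ξ : IrrCharacter G) : G → ℂ) := by
      funext g
      simp [PsiF, Finset.sum_apply]
    rw [h2, Cfsg.Agent.Lib.Char.Virtual.classInner_finset_sum_left]
    rw [Finset.sum_eq_single ξ₀]
    · rw [Cfsg.Agent.Lib.Char.Virtual.classInner_smul_left, Cfsg.Agent.Lib.Char.Ortho.classInner_irr_self (ξ₀ : IrrCharacter G).2, mul_one]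
    · intro ξ _ hne
      rw [Cfsg.Agent.Lib.Char.Virtual.classInner_smul_left, Cfsg.Agent.Lib.Char.Ortho.classInner_irr (ξ : IrrCharacter G).2 (ξ₀ : IrrCharacter G).2]
      have h3 : ((ξ : IrrCharacter G) : G → ℂ) ≠ ((ξ₀ : IrrCharacter G) : G → ℂ) := fun h4 => hne (Subtype.ext (Subtype.ext h4))
      rw [if_neg h3, mul_zero]
    · intro h3
      exact absurd (Finset.mem_univ _) h3
  rw [← h1]
  have h2 : PsiF F c = 0 := funext h
  rw [h2]
  simp [classInner]

/-- **The number of characters not containing `z` in the kernel, from above.** -/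
theorem card_FF_le (hMp : IsPModular 2 M) (hB : IsPBlock M B) (hD : IsDefectGroup 2 M B D) (h : QuatD D x t N)
    (hz : ∀ g : G, g * x ^ N = x ^ N * g) : (FF B (x ^ N)).card ≤ blockRank 2 B + (N / 2 - 1) := by
  classical
  haveI : Fact (Nat.Prime 2) := ⟨Nat.prime_two⟩
  obtain ⟨e, hmax⟩ := Cfsg.Agent.S4552.exists_maximal_on_defect hMp hB hD
  set F := FF B (x ^ N) with hF
  let T₁ : (F → ℂ) →ₗ[ℂ] (G → ℂ) := Fintype.linearCombination ℂ (fun ξ : F => reg 2 ((ξ : IrrCharacter G) : G → ℂ))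
  have hT₁ : ∀ c g, T₁ c g = ∑ ξ : F, c ξ * reg 2 ((ξ : IrrCharacter G) : G → ℂ) g := by
    intro c g
    simp only [T₁, Fintype.linearCombination_apply, Finset.sum_apply, Pi.smul_apply, smul_eq_mul]
  have hmem : ∀ c, T₁ c ∈ regSpan 2 B := by
    intro c
    simp only [T₁, Fintype.linearCombination_apply]
    exact Submodule.sum_mem _ fun ξ _ => Submodule.smul_mem _ _
      (Submodule.subset_span ⟨ξ, (mem_FF.mp ξ.2).1, Cfsg.Agent.Lib.Blocks.Cartan.pRegularPart_eq_reg _ _⟩)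
  let T₂ : (F → ℂ) →ₗ[ℂ] (Fin (N / 2 - 1) → ℂ) := LinearMap.pi fun l =>
    Fintype.linearCombination ℂ (fun ξ : F => twTrace ((ξ : IrrCharacter G) : G → ℂ) (x ^ (l.val + 1)) (Ev M 2 D e (x ^ (l.val + 1))))
  have hT₂ : ∀ c l, T₂ c l = ∑ ξ : F, c ξ * twTrace ((ξ : IrrCharacter G) : G → ℂ) (x ^ (l.val + 1)) (Ev M 2 D e (x ^ (l.val + 1))) := by
    intro c l
    simp only [T₂, LinearMap.pi_apply, Fintype.linearCombination_apply, smul_eq_mul]
  let T : (F → ℂ) →ₗ[ℂ] (regSpan 2 B) × (Fin (N / 2 - 1) → ℂ) := (T₁.codRestrict _ hmem).prod T₂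
  have hinj : Function.Injective T := by
    rw [← LinearMap.ker_eq_bot, LinearMap.ker_eq_bot']
    intro c hc
    have hc1 : T₁ c = 0 := by
      have := congrArg (fun u => ((u.1 : regSpan 2 B) : G → ℂ)) hc
      exact this
    have hc2 : T₂ c = 0 := congrArg Prod.snd hc
    have hanti := antiF_PsiF hMp hB hz c
    apply PsiF_eq_zero
    refine hanti.vanish hMp hmax h hz ?_ ?_
    · intro y hy
      have h3 := congrFun hc1 y
      rw [hT₁] at h3
      simp only [PsiF]
      refine Eq.trans ?_ h3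
      refine Finset.sum_congr rfl fun ξ _ => ?_
      rw [reg_of_not_dvd _ hy]
    · intro l hl0 hl
      have h3 := congrFun hc2 ⟨l - 1, by omega⟩
      rw [hT₂] at h3
      simp only [show l - 1 + 1 = l by omega] at h3
      unfold aaV
      rw [twTrace_PsiF]
      exact h3
  have h1 := LinearMap.finrank_le_finrank_of_injective hinj
  rw [Module.finrank_prod, Module.finrank_fintype_fun_eq_card, Module.finrank_fintype_fun_eq_card, Fintype.card_fin,
    Fintype.card_coe] at h1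
  exact h1

end Upper

end Cfsg.Agent.Lib.Blocks.Quat
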