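/-
Quaternion defect groups: the characters not containing the central involution in their kernel, from below.
-/
import Mathlib
import Cfsg.Agent.Lib.Blocks.Quat8c
import Cfsg.Agent.Lib.Blocks.Quat6

set_option autoImplicit false
set_option linter.style.haveILetI false

namespace Cfsg.Agent.Lib.Blocks.Quat

open Cfsg Cfsg.Agent.Lib.Blocks.Local Cfsg.Agent.Lib.Blocks.Central Cfsg.Agent.Lib.Blocks.Osima
open Cfsg.Agent.Lib.Blocks.Covering Cfsg.Agent.Lib.Blocks.BlockHom Cfsg.Agent.Lib.Blocks.Pairs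
open Cfsg.Agent.Lib.Blocks.Twisted Cfsg.Agent.Lib.Blocks.Necklace Cfsg.Agent.Lib.Blocks.Nilp
open Cfsg.Agent.Lib.Blocks.Regular Cfsg.Agent.Lib.Blocks.Sections Cfsg.Agent.Lib.Blocks.BlockCount
open Cfsg.Agent.Lib.Blocks.Transport Cfsg.Agent.Lib.Blocks.Tame
open scoped ComplexConjugate

universe u

section Inner

lemma inner_eq_of_central {K : Type u} [Group K] [Fintype K] {f ϑ : K → ℂ} {z : K} {ε a : ℂ}
    (hf : ∀ c, f (z * c) = ε * f c) (hϑ : ∀ c, ϑ (z * c) = a * ϑ c) :
    classInner f ϑ = ε * conj a * classInner f ϑ := by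
  unfold classInner
  have h1 : ∑ g : K, f g * conj (ϑ g) = ∑ g : K, f (z * g) * conj (ϑ (z * g)) :=
    (Equiv.sum_comp (Equiv.mulLeft z) (fun g => f g * conj (ϑ g))).symm
  conv_lhs => rw [h1]
  simp only [hf, hϑ, map_mul]
  rw [Finset.mul_sum, Finset.mul_sum, Finset.mul_sum]
  refine Finset.sum_congr rfl fun g _ => ?_
  ring

end Inner

section Reg

variable {G : Type u} [Group G] [Fintype G] {M : Ideal AlgInt} [hM : M.IsPrime]

omit hM in
/-- The sign of an irreducible character at a central involution. -/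
lemma irr_central_sign (ξ : IrrCharacter G) {z : G} (hz : ∀ g : G, g * z = z * g) (hzz : z * z = 1) :
    (ξ : G → ℂ) z = (ξ : G → ℂ) 1 ∨ (ξ : G → ℂ) z = -(ξ : G → ℂ) 1 := by
  obtain ⟨a, -, ha⟩ := Cfsg.Agent.Lib.Char.BlichfeldtB.irr_central_mul ξ.2 z hz
  have h1 := ha 1
  rw [mul_one] at h1
  have h0 := Cfsg.Agent.Lib.Char.Ortho.irr_apply_one_ne_zero ξ.2
  have h2 : a * a = 1 := by
    have h3 := ha z
    rw [hzz, h1] at h3
    have h4 : (a * a - 1) * (ξ : G → ℂ) 1 = 0 := by linear_combination -h3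
    have h5 := (mul_eq_zero.mp h4).resolve_right h0
    linear_combination h5
  have h4 : (a - 1) * (a + 1) = 0 := by linear_combination h2
  rcases mul_eq_zero.mp h4 with h5 | h5
  · left
    rw [h1, show a = 1 by linear_combination h5, one_mul]
  · right
    rw [h1, show a = -1 by linear_combination h5]
    ring

open Classical in
/-- **The regular part of a character of the block in terms of the characters not containing `z`.** -/
theorem reg_eq_two_sum (hMp : IsPModular 2 M) {B : Set (IrrCharacter G)} (hB : IsPBlock M B) {z : G}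
    (hz : ∀ g : G, g * z = z * g) (hzz : z * z = 1) (hz1 : z ≠ 1) {η : IrrCharacter G} (hη : η ∈ B) :
    (Fintype.linearCombination ℂ (fun ξ : FF B z => reg 2 ((ξ : IrrCharacter G) : G → ℂ)))
      (fun ξ => 2 * classInner (reg 2 (η : G → ℂ)) (((ξ : IrrCharacter G) : G → ℂ))) = reg 2 (η : G → ℂ) := by
  haveI : Fact (Nat.Prime 2) := ⟨Nat.prime_two⟩
  letI : Fintype (IrrCharacter G) := Fintype.ofFinite _
  let Z : Subgroup G := Subgroup.zpowers z
  have hZmem : ∀ g ∈ Z, g = 1 ∨ g = z := by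
    intro g hg
    obtain ⟨k, rfl⟩ := Subgroup.mem_zpowers_iff.mp hg
    have hz2 : z ^ 2 = 1 := by rw [sq, hzz]
    have h1 : orderOf z ∣ 2 := orderOf_dvd_of_pow_eq_one hz2
    have h2 : z ^ k = z ^ (k % 2) := by
      rw [← zpow_mod_orderOf]
      have h3 : orderOf z = 2 := by
        rcases (Nat.dvd_prime Nat.prime_two).mp h1 with h | h
        · exact absurd (orderOf_eq_one_iff.mp h) hz1
        · exact h
      rw [h3]
      norm_num
    rw [h2]
    rcases Int.emod_two_eq_zero_or_one k with h | h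
    · left
      rw [h, zpow_zero]
    · right
      rw [h, zpow_one]
  have hzZ : z ∈ Z := Subgroup.mem_zpowers z
  have hZc : ∀ a ∈ Z, ∀ g : G, g * a = a * g := by
    intro a ha g
    rcases hZmem a ha with rfl | rfl
    · simp
    · exact hz g
  haveI hZn : Z.Normal := by
    constructor
    intro a ha g
    rw [hZc a ha g]
    simpa using ha
  have hord : orderOf z = 2 := by
    have hz2 : z ^ 2 = 1 := by rw [sq, hzz]
    rcases (Nat.dvd_prime Nat.prime_two).mp (orderOf_dvd_of_pow_eq_one hz2) with h | h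
    · exact absurd (orderOf_eq_one_iff.mp h) hz1
    · exact h
  have hZcard : Nat.card Z = 2 := by
    show Nat.card (Subgroup.zpowers z) = 2
    rw [Nat.card_zpowers, hord]
  have hZp : IsPGroup 2 Z := by
    apply IsPGroup.of_card (n := 1)
    rw [hZcard, pow_one]
  letI : Fintype Z := Fintype.ofFinite _
  have h1 := Cfsg.Agent.Lib.Blocks.CentralQuot.reg_eq_sum (p := 2) Z hZc hZp η
  have h2 := Cfsg.Agent.Lib.Char.Complete.eq_sum_classInner (reg 2 (η : G → ℂ))
    (Cfsg.Agent.Lib.Blocks.Quat.isClassFunction_reg 2 (isClassFunction_of_irr η.2))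
  set a : IrrCharacter G → ℂ := fun ξ => classInner (reg 2 (η : G → ℂ)) (ξ : G → ℂ) with ha
  have hKer : ∀ ξ : IrrCharacter G, (∀ n ∈ Z, (ξ : G → ℂ) n = (ξ : G → ℂ) 1) ↔ (ξ : G → ℂ) z = (ξ : G → ℂ) 1 := by
    intro ξ
    constructor
    · intro h
      exact h z hzZ
    · intro h n hn
      rcases hZmem n hn with rfl | rfl
      · rfl
      · exact h
  have h3 : reg 2 (η : G → ℂ) = ∑ ξ : IrrCharacter G, a ξ • reg 2 (ξ : G → ℂ) := by
    funext y
    rw [Finset.sum_apply]
    by_cases hy : 2 ∣ orderOf y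
    · rw [reg_of_dvd _ hy]
      symm
      refine Finset.sum_eq_zero fun ξ _ => ?_
      rw [Pi.smul_apply, reg_of_dvd _ hy, smul_zero]
    · have h4 := congrFun h2 y
      rw [Finset.sum_apply] at h4
      refine h4.trans (Finset.sum_congr rfl fun ξ _ => ?_)
      rw [Pi.smul_apply, Pi.smul_apply, reg_of_not_dvd _ hy]
  set A : G → ℂ := ∑ ξ : IrrCharacter G, (if (ξ : G → ℂ) z = (ξ : G → ℂ) 1 then a ξ else 0) • reg 2 (ξ : G → ℂ) with hA
  set A' : G → ℂ := ∑ ξ : IrrCharacter G, (if ξ ∈ FF B z then a ξ else 0) • reg 2 (ξ : G → ℂ) with hA'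
  have h1' : reg 2 (η : G → ℂ) = (2 : ℂ) • A := by
    rw [hA, Finset.smul_sum]
    conv_lhs => rw [h1]
    refine Finset.sum_congr rfl fun ξ _ => ?_
    rw [smul_smul]
    congr 1
    by_cases hk : (ξ : G → ℂ) z = (ξ : G → ℂ) 1
    · rw [if_pos hk, if_pos ((hKer ξ).mpr hk), hZcard]
      push_cast
      rfl
    · rw [if_neg hk, if_neg (fun h => hk ((hKer ξ).mp h)), mul_zero]
  have h3' : reg 2 (η : G → ℂ) = A + A' := by
    rw [hA, hA', ← Finset.sum_add_distrib]
    conv_lhs => rw [h3]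
    refine Finset.sum_congr rfl fun ξ _ => ?_
    rw [← add_smul]
    congr 1
    rcases irr_central_sign ξ hz hzz with hk | hk
    · have hnF : ξ ∉ FF B z := by
        intro hF
        have h5 := (mem_FF.mp hF).2
        rw [hk] at h5
        have h6 : (2 : ℂ) * (ξ : G → ℂ) 1 = 0 := by linear_combination h5
        exact Cfsg.Agent.Lib.Char.Ortho.irr_apply_one_ne_zero ξ.2 (by simpa using h6)
      rw [if_pos hk, if_neg hnF, add_zero]
    · have hk' : (ξ : G → ℂ) z ≠ (ξ : G → ℂ) 1 := by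
        intro h5
        rw [hk] at h5
        have h6 : (2 : ℂ) * (ξ : G → ℂ) 1 = 0 := by linear_combination -h5
        exact Cfsg.Agent.Lib.Char.Ortho.irr_apply_one_ne_zero ξ.2 (by simpa using h6)
      rw [if_neg hk', zero_add]
      by_cases hξ : ξ ∈ B
      · rw [if_pos (mem_FF.mpr ⟨hξ, hk⟩)]
      · have hne : a ξ = 0 := by
          refine classInner_reg_eq_zero hMp ?_
          intro hs
          obtain ⟨χ₀, rfl⟩ := id hB
          exact hξ (sameBlock_trans hη hs)
        rw [hne]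
        simp
  have h4 : (2 : ℂ) • A' = reg 2 (η : G → ℂ) := by
    funext y
    have e1 := congrFun h1' y
    have e2 := congrFun h3' y
    simp only [Pi.smul_apply, Pi.add_apply, smul_eq_mul] at e1 e2 ⊢
    linear_combination e1 - 2 * e2
  have h5 : ∀ ξ : IrrCharacter G, (2 : ℂ) • ((if ξ ∈ FF B z then a ξ else 0) • reg 2 (ξ : G → ℂ)) =
      if ξ ∈ FF B z then ((2 : ℂ) * a ξ) • reg 2 (ξ : G → ℂ) else 0 := by
    intro ξ
    by_cases hξ : ξ ∈ FF B z
    · rw [if_pos hξ, if_pos hξ, smul_smul]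
    · rw [if_neg hξ, if_neg hξ, zero_smul, smul_zero]
  show (Fintype.linearCombination ℂ (fun ξ : FF B z => reg 2 ((ξ : IrrCharacter G) : G → ℂ))) (fun ξ => 2 * a ξ) = _
  rw [Fintype.linearCombination_apply]
  refine Eq.trans ?_ h4
  rw [hA', Finset.smul_sum]
  simp only [h5]
  rw [Finset.sum_ite_mem, Finset.univ_inter,
    ← Finset.sum_coe_sort (FF B z) (fun ξ => ((2 : ℂ) * a ξ) • reg 2 ((ξ : IrrCharacter G) : G → ℂ))]

end Reg

section Col

variable {G : Type u} [Group G] [Fintype G] {M : Ideal AlgInt} [hM : M.IsPrime]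
  {K : Subgroup G} [Fintype K] {b : Set (IrrCharacter K)} {P : Subgroup K}
  {e : Set (IrrCharacter (Subgroup.centralizer (P : Set K)))} {χ₀ : IrrCharacter K}
  {L : IrrCharacter K → IrrCharacter P}

/-- `z` is central in `K`, from the centre of `G`. -/
lemma isCen_of_central {zK : K} (hz : ∀ g : G, g * (zK : G) = (zK : G) * g) : IsCen zK := by
  intro g
  exact Subtype.ext (hz g)

namespace QCol

variable {B : Set (IrrCharacter G)} {x₀ t₀ : P} {N k : ℕ} (h : QCol M B K b P e χ₀ L x₀ t₀ N k)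
include h

/-- **The parity of the columns.** -/
theorem F_parity (hz : ∀ g : G, g * (((x₀ ^ N : P) : K) : G) = (((x₀ ^ N : P) : K) : G) * g) {χ : IrrCharacter G} {ε : ℂ}
    (hε : ε * ε = 1) (hεr : conj ε = ε) (hχ : ∀ g, (χ : G → ℂ) ((((x₀ ^ N : P) : K) : G) * g) = ε * (χ : G → ℂ) g) (l : ℕ) :
    FK M P e χ₀ x₀ χ (N + l) = ε * FK M P e χ₀ x₀ χ l := by
  classical
  unfold FK
  rw [NK_eq_sum h.hP χ (x₀ ^ (N + l)), NK_eq_sum h.hP χ (x₀ ^ l), Finset.mul_sum]
  refine Finset.sum_congr rfl fun ϑ hϑ => ?_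
  have hϑb : ϑ ∈ b := (Finset.mem_filter.mp hϑ).2
  by_cases hm : mmK χ ϑ = 0
  · rw [hm]
    simp
  have hcen : IsCen (((x₀ ^ N : P) : K)) := isCen_of_central hz
  obtain ⟨a, -, ha⟩ := Cfsg.Agent.Lib.Char.BlichfeldtB.irr_central_mul ϑ.2 ((x₀ ^ N : P) : K) (fun g => hcen g)
  have hres : ∀ c : K, (fun c : K => (χ : G → ℂ) c) (((x₀ ^ N : P) : K) * c) = ε * (fun c : K => (χ : G → ℂ) c) c := by
    intro c
    exact hχ c
  have hinner := inner_eq_of_central (f := fun c : K => (χ : G → ℂ) c) hres ha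
  rw [mmK_spec] at hinner
  have hm' : ((mmK χ ϑ : ℕ) : ℂ) ≠ 0 := by exact_mod_cast hm
  have h1 : ε * conj a = 1 := by
    have h2 : (ε * conj a - 1) * ((mmK χ ϑ : ℕ) : ℂ) = 0 := by linear_combination -hinner
    have h3 := (mul_eq_zero.mp h2).resolve_right hm'
    linear_combination h3
  have h2 : a = ε := by
    have h3 : conj a = ε := by
      calc conj a = (ε * ε) * conj a := by rw [hε, one_mul]
        _ = ε * (ε * conj a) := by ring
        _ = ε := by rw [h1, mul_one]
    have h4 := congrArg conj h3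
    rw [Complex.conj_conj, hεr] at h4
    exact h4
  have hϑ1 : (ϑ : K → ℂ) 1 ≠ 0 := Cfsg.Agent.Lib.Char.Ortho.irr_apply_one_ne_zero ϑ.2
  have hval : (ϑ : K → ℂ) ((x₀ ^ N : P) : K) = ε * (ϑ : K → ℂ) 1 := by
    have h3 := ha 1
    rwa [mul_one, h2] at h3
  have hPz : ∀ g : P, g * x₀ ^ N = x₀ ^ N * g := fun g => h.hall.zz_comm (Subgroup.mem_top g)
  obtain ⟨a', -, ha'⟩ := Cfsg.Agent.Lib.Char.BlichfeldtB.irr_central_mul (L ϑ).2 (x₀ ^ N) hPz
  have hLne : (L ϑ : P → ℂ) 1 ≠ 0 := Cfsg.Agent.Lib.Char.Ortho.irr_apply_one_ne_zero (L ϑ).2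
  have h3 := h.hP.hcen ϑ hϑb (x₀ ^ N) hcen
  have h4 := ha' 1
  rw [mul_one, h3, hval, mul_div_cancel_right₀ _ hϑ1] at h4
  have h5 : a' = ε := (mul_right_cancel₀ hLne h4).symm
  rw [pow_add, ha', h5]
  ring

open Classical in
/-- **The number of characters not containing `z` in the kernel, from below.** -/
theorem card_FF_ge [Fintype P] (hz : ∀ g : G, g * (((x₀ ^ N : P) : K) : G) = (((x₀ ^ N : P) : K) : G) * g) :
    blockRank 2 B + (N / 2 - 1) ≤ (FF B (((x₀ ^ N : P) : K) : G)).card := by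
  haveI : Fact (Nat.Prime 2) := ⟨Nat.prime_two⟩
  have hMp := h.hP.hMp
  set z : G := (((x₀ ^ N : P) : K) : G) with hzdef
  set J := N / 2 - 1 with hJdef
  have hNhalf := h.hall.half_add
  have hNpos := h.hall.N_pos
  have h2N : N = 2 * (J + 1) := by omega
  have hζ := Complex.isPrimitiveRoot_exp (2 ^ k) (by positivity)
  set ζ := Complex.exp (2 * Real.pi * Complex.I / ((2 ^ k : ℕ) : ℂ)) with hζdef
  have hfq := h.fq hζ
  set S : Finset (IrrCharacter G) := Finset.univ.filter (· ∈ B) with hS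
  obtain ⟨n, m, v, ee, -, hmm, -, -, -, -, -, hδ, -, -, hpar⟩ := hfq.exists_ints h.half_eq h2N (fun κ i => h.qc_nat hζ κ i)
  -- the square of the central character
  have hzz : z * z = 1 := by
    exact congrArg (fun y : P => ((y : K) : G)) h.hall.zz_sq
  have hz1 : z ≠ 1 := by
    intro h0
    exact h.hall.zz_ne_one (h.coe_inj h0)
  have hdich : ∀ ξ : IrrCharacter G, ξ ∉ FF B z → ξ ∈ B → ∀ g, (ξ : G → ℂ) (z * g) = (ξ : G → ℂ) g := by
    intro ξ hξ hB g
    obtain ⟨a, -, ha⟩ := Cfsg.Agent.Lib.Char.BlichfeldtB.irr_central_mul ξ.2 z hz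
    have h1 := ha 1
    rw [mul_one] at h1
    have h0 := Cfsg.Agent.Lib.Char.Ortho.irr_apply_one_ne_zero ξ.2
    have h2 : a * a = 1 := by
      have h3 := ha z
      rw [hzz, h1] at h3
      have h4 : (a * a - 1) * (ξ : G → ℂ) 1 = 0 := by linear_combination -h3
      have h5 := (mul_eq_zero.mp h4).resolve_right h0
      linear_combination h5
    have h3 : a = 1 ∨ a = -1 := by
      have h4 : (a - 1) * (a + 1) = 0 := by linear_combination h2
      rcases mul_eq_zero.mp h4 with h5 | h5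
      · left
        linear_combination h5
      · right
        linear_combination h5
    rcases h3 with rfl | rfl
    · rw [ha g, one_mul]
    · exfalso
      apply hξ
      rw [mem_FF]
      exact ⟨hB, by rw [h1]; ring⟩
  -- `m` vanishes off `F`
  have hm0 : ∀ ξ ∈ S, ξ ∉ FF B z → ∀ t < J, m ξ t = 0 := by
    intro ξ hξ hF
    have hB : ξ ∈ B := (Finset.mem_filter.mp hξ).2
    apply hpar ξ
    intro l _
    rw [show FK M P e χ₀ x₀ ξ (N + l) = 1 * FK M P e χ₀ x₀ ξ l from
      h.F_parity hz (by norm_num) (by simp) (fun g => by rw [one_mul]; exact hdich ξ hF hB g) l, one_mul]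
  have hFS : FF B z ⊆ S := fun ξ hξ => Finset.mem_filter.mpr ⟨Finset.mem_univ _, (mem_FF.mp hξ).1⟩
  -- the sums over `F`
  have hsumF : ∀ (t : ℕ), t < J → ∀ (φ : IrrCharacter G → ℂ), ∑ ξ ∈ S, (m ξ t : ℂ) * φ ξ = ∑ ξ ∈ FF B z, (m ξ t : ℂ) * φ ξ := by
    intro t ht φ
    symm
    refine Finset.sum_subset hFS fun ξ hξ hF => ?_
    rw [hm0 ξ hξ hF t ht]
    simp
  -- the linear maps
  classical
  set F := FF B z with hF
  let T₁ : (F → ℂ) →ₗ[ℂ] (G → ℂ) := Fintype.linearCombination ℂ (fun ξ : F => reg 2 ((ξ : IrrCharacter G) : G → ℂ))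
  have hT₁ : ∀ c g, T₁ c g = ∑ ξ : F, c ξ * reg 2 ((ξ : IrrCharacter G) : G → ℂ) g := by
    intro c g
    simp only [T₁, Fintype.linearCombination_apply, Finset.sum_apply, Pi.smul_apply, smul_eq_mul]
  -- the range of `T₁`
  have hrange : LinearMap.range T₁ = regSpan 2 B := by
    apply le_antisymm
    · rintro _ ⟨c, rfl⟩
      simp only [T₁, Fintype.linearCombination_apply]
      exact Submodule.sum_mem _ fun ξ _ => Submodule.smul_mem _ _
        (Submodule.subset_span ⟨ξ, (mem_FF.mp ξ.2).1, Cfsg.Agent.Lib.Blocks.Cartan.pRegularPart_eq_reg _ _⟩)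
    · rw [regSpan, Submodule.span_le]
      rintro _ ⟨η, hη, rfl⟩
      show pRegularPart 2 (η : G → ℂ) ∈ LinearMap.range T₁
      rw [Cfsg.Agent.Lib.Blocks.Cartan.pRegularPart_eq_reg]
      refine ⟨fun ξ => 2 * classInner (reg 2 (η : G → ℂ)) (((ξ : IrrCharacter G) : G → ℂ)), ?_⟩
      exact reg_eq_two_sum hMp h.hB hz hzz hz1 hη
  -- the vectors in the kernel
  let cc : Fin J → (F → ℂ) := fun t ξ => (m (ξ : IrrCharacter G) t.val : ℂ)
  have hker : ∀ t, T₁ (cc t) = 0 := by
    intro t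
    funext y
    rw [hT₁]
    by_cases hy : 2 ∣ orderOf y
    · refine Finset.sum_eq_zero fun ξ _ => ?_
      rw [reg_of_dvd _ hy, mul_zero]
    · have hp : IsPPart 2 y 1 := by
        refine ⟨y, one_mul y, Commute.one_left y, ⟨0, by simp⟩, hy⟩
      have hδ1 := (hδ (fun ξ => (ξ : G → ℂ) y) (fun l h0 hl he => by
        refine h.F_orth hp ?_
        intro hc
        have h1 := isConj_one_right.mp hc
        exact h.rot_ne_one h0 (by rw [← h.hNk]; exact hl) h1)).2.1 t.val t.isLt
      have h2 := hsumF t.val t.isLt (fun ξ => (ξ : G → ℂ) y)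
      have h3 : ∑ ξ ∈ S, (m ξ t.val : ℂ) * (ξ : G → ℂ) y = 0 := by
        rw [← hδ1]
        exact Finset.sum_congr rfl fun _ _ => mul_comm _ _
      rw [h3] at h2
      show ∑ ξ : F, (m (ξ : IrrCharacter G) t.val : ℂ) * reg 2 ((ξ : IrrCharacter G) : G → ℂ) y = 0
      rw [h2, ← Finset.sum_coe_sort F]
      refine Finset.sum_congr rfl fun ξ _ => ?_
      rw [reg_of_not_dvd _ hy]
  have hgram : ∀ s t : Fin J, ∑ ξ : F, cc t ξ * cc s ξ = if s = t then 2 else 1 := by
    intro s t
    have h1 := hmm t.val t.isLt s.val s.isLt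
    have h2 := hsumF t.val t.isLt (fun ξ => (m ξ s.val : ℂ))
    have h3 : ∑ ξ ∈ S, (m ξ t.val : ℂ) * (m ξ s.val : ℂ) = ((if t.val = s.val then 2 else 1 : ℤ) : ℂ) := by
      rw [← h1]
      push_cast
      rfl
    rw [h3] at h2
    show ∑ ξ : F, (m (ξ : IrrCharacter G) t.val : ℂ) * (m (ξ : IrrCharacter G) s.val : ℂ) = _
    rw [Finset.sum_coe_sort F (fun ξ => (m ξ t.val : ℂ) * (m ξ s.val : ℂ)), ← h2]
    by_cases hst : s = t
    · rw [if_pos hst, if_pos (by rw [hst])]
      norm_num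
    · rw [if_neg hst, if_neg (fun h4 => hst (Fin.ext h4.symm))]
      norm_num
  have hind : LinearIndependent ℂ cc := by
    rw [Fintype.linearIndependent_iff]
    intro g hg
    have hs : ∀ s : Fin J, g s + ∑ t, g t = 0 := by
      intro s
      have h1 : ∑ ξ : F, (∑ t, g t • cc t) ξ * cc s ξ = 0 := by
        rw [hg]
        simp
      have h2 : ∑ ξ : F, (∑ t, g t • cc t) ξ * cc s ξ = ∑ t, g t * (if s = t then 2 else 1) := by
        simp only [Finset.sum_apply, Pi.smul_apply, smul_eq_mul, Finset.sum_mul]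
        rw [Finset.sum_comm]
        refine Finset.sum_congr rfl fun t _ => ?_
        rw [← hgram s t, Finset.mul_sum]
        refine Finset.sum_congr rfl fun ξ _ => ?_
        ring
      rw [h2] at h1
      have h3 : ∀ t, g t * (if s = t then (2 : ℂ) else 1) = g t + (if s = t then g t else 0) := by
        intro t
        by_cases hst : s = t
        · rw [if_pos hst, if_pos hst]
          ring
        · rw [if_neg hst, if_neg hst]
          ring
      simp only [h3] at h1
      rw [Finset.sum_add_distrib, Finset.sum_ite_eq] at h1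
      simp only [Finset.mem_univ, if_true] at h1
      linear_combination h1
    have hA : ∑ t, g t = 0 := by
      have h1 : ∑ s : Fin J, (g s + ∑ t, g t) = 0 := Finset.sum_eq_zero fun s _ => hs s
      rw [Finset.sum_add_distrib, Finset.sum_const, Finset.card_univ, Fintype.card_fin, nsmul_eq_mul] at h1
      have h2 : ((J : ℂ) + 1) * ∑ t, g t = 0 := by linear_combination h1
      have h3 : ((J : ℂ) + 1) ≠ 0 := by
        exact_mod_cast Nat.succ_ne_zero J
      exact (mul_eq_zero.mp h2).resolve_left h3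
    intro s
    have := hs s
    rw [hA, add_zero] at this
    exact this
  have hspan : Submodule.span ℂ (Set.range cc) ≤ LinearMap.ker T₁ := by
    rw [Submodule.span_le]
    rintro _ ⟨t, rfl⟩
    exact hker t
  have h1 := Submodule.finrank_mono hspan
  rw [finrank_span_eq_card hind, Fintype.card_fin] at h1
  have h2 := LinearMap.finrank_range_add_finrank_ker T₁
  rw [hrange, Module.finrank_fintype_fun_eq_card, Fintype.card_coe] at h2
  rw [blockRank_eq]
  omega

end QCol

end Col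

end Cfsg.Agent.Lib.Blocks.Quat
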