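/-
Quaternion defect groups: the count `k(B) - l(B)` in the centralizer of the central involution.
-/
import Mathlib
import Cfsg.Agent.Lib.Blocks.Quat8d
import Cfsg.Agent.Lib.Blocks.TameR
import Cfsg.Agent.Lib.Blocks.AbelianCount
import Cfsg.Agent.Lib.Blocks.FirstMain2

set_option autoImplicit false
set_option linter.style.haveILetI false

namespace Cfsg.Agent.Lib.Blocks.Quat

open Cfsg Cfsg.Agent.Lib.Blocks.Local Cfsg.Agent.Lib.Blocks.Central Cfsg.Agent.Lib.Blocks.Osima
open Cfsg.Agent.Lib.Blocks.Covering Cfsg.Agent.Lib.Blocks.BlockHom Cfsg.Agent.Lib.Blocks.Pairs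
open Cfsg.Agent.Lib.Blocks.Twisted Cfsg.Agent.Lib.Blocks.Necklace Cfsg.Agent.Lib.Blocks.Nilp
open Cfsg.Agent.Lib.Blocks.Regular Cfsg.Agent.Lib.Blocks.Sections Cfsg.Agent.Lib.Blocks.BlockCount
open Cfsg.Agent.Lib.Blocks.Transport Cfsg.Agent.Lib.Blocks.Tame Cfsg.Agent.Lib.Blocks.AbelianCount
open scoped ComplexConjugate

universe u

section Ind

variable {G : Type u} [Group G] [Fintype G] {M : Ideal AlgInt} [hM : M.IsPrime]

open Classical in
/-- Membership in the set of inducers. -/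
lemma mem_inducers_iff {K : Subgroup G} [Fintype K] {χ₀ : IrrCharacter G} {ξ : IrrCharacter K} :
    ξ ∈ inducers K M (χ₀ : G → ℂ) ↔ IsInducedBlock M K (blockOf M (ξ : K → ℂ)) (blockOf M (χ₀ : G → ℂ)) := by
  rw [inducers_eq_biUnion]
  simp only [Set.mem_iUnion, exists_prop, Set.mem_setOf_eq]
  constructor
  · rintro ⟨b, hb, hξ⟩
    rwa [← isPBlock_eq_blockOf hb.1 hξ]
  · intro h
    exact ⟨_, h, mem_blockOf_self ξ⟩

variable {B : Set (IrrCharacter G)} {D : Subgroup G} {e : Set (IrrCharacter (Subgroup.centralizer (D : Set G)))}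
  {x t : G} {N : ℕ}

end Ind

section Reps

variable {G : Type u} [Group G] [Fintype G] {M : Ideal AlgInt} [hM : M.IsPrime]

omit hM in
lemma blockRank_empty {X : Type u} [Group X] [Fintype X] : blockRank 2 (∅ : Set (IrrCharacter X)) = 0 := by
  rw [blockRank_eq, regSpan]
  simp

open Classical in
/-- **The count of a block in terms of representatives in a defect group.** -/
theorem card_eq_of_reps (hMp : IsPModular 2 M) {B : Set (IrrCharacter G)} (hB : IsPBlock M B) {D : Subgroup G}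
    (hD : IsDefectGroup 2 M B D) (R : Finset G) (hR : ∀ r ∈ R, r ∈ D ∧ r ≠ 1)
    (hnc : ∀ s ∈ R, ∀ t ∈ R, IsConj s t → s = t) (hcov : ∀ r ∈ D, r ≠ 1 → ∃ s ∈ R, IsConj r s)
    {χ₁ : IrrCharacter G} (hχ₁ : χ₁ ∈ B) :
    Nat.card B = blockRank 2 B + ∑ r ∈ R, blockRank 2 (inducers (Cen r) M (χ₁ : G → ℂ)) := by
  haveI : Fact (Nat.Prime 2) := ⟨Nat.prime_two⟩
  obtain ⟨e, hmax⟩ := Cfsg.Agent.S4552.exists_maximal_on_defect hMp hB hD
  have hDp : IsPGroup 2 D := hmax.1.1.1
  have hord : ∀ t ∈ insert 1 R, ∃ k : ℕ, orderOf t = 2 ^ k := by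
    intro t ht
    rcases Finset.mem_insert.mp ht with rfl | h
    · exact ⟨0, by simp⟩
    · exact Cfsg.Agent.Lib.Blocks.AbFree.exists_orderOf_of_mem hDp (hR t h).1
  have hnc' : ∀ s ∈ insert 1 R, ∀ t ∈ insert 1 R, IsConj s t → s = t := by
    intro s hs t ht hc
    rcases Finset.mem_insert.mp hs with rfl | hs
    · rcases Finset.mem_insert.mp ht with rfl | ht
      · rfl
      · exact absurd (isConj_one_left.mp hc.symm) (hR t ht).2
    · rcases Finset.mem_insert.mp ht with rfl | ht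
      · exact absurd (isConj_one_right.mp hc.symm) (hR s hs).2
      · exact hnc s hs t ht hc
  obtain ⟨X, hTX, hX, hXrep⟩ := exists_reps_containing 2 (insert 1 R) hord hnc'
  have hBeq : B = blockOf M (χ₁ : G → ℂ) := isPBlock_eq_blockOf hB hχ₁
  have hcard := Cfsg.Agent.Lib.Blocks.KLOne.card_eq_add hMp χ₁ X (hTX (Finset.mem_insert_self _ _)) hX hXrep
  rw [← hBeq] at hcard
  rw [hcard]
  congr 1
  symm
  refine Finset.sum_subset ?_ ?_
  · intro r hr
    exact Finset.mem_erase.mpr ⟨(hR r hr).2, hTX (Finset.mem_insert_of_mem hr)⟩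
  · intro y hy hyR
    obtain ⟨hy1, hyX⟩ := Finset.mem_erase.mp hy
    have hemp : ∀ K : Subgroup G, K = Kz y → inducers K M (χ₁ : G → ℂ) = ∅ := by
      rintro K rfl
      letI : Fintype (Kz y) := Fintype.ofFinite _
      rw [Set.eq_empty_iff_forall_notMem]
      intro ξ hξ
      have h1 := mem_inducers_iff.mp hξ
      rw [← hBeq] at h1
      obtain ⟨k, hk⟩ := hX y hyX
      have hp : IsPGroup 2 (Subgroup.zpowers y) := by
        rw [IsPGroup.iff_card, Nat.card_zpowers]
        exact ⟨k, hk⟩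
      have h2 := isBrauerPairOf_of_induced hp h1
      obtain ⟨g, hg⟩ := exists_conj_subpairLE hMp hmax h2
      have h3 : g * y * g⁻¹ ∈ D := SubpairLE.le hg (by
        rw [zpowers_map_conj]
        exact Subgroup.mem_zpowers _)
      have h4 : g * y * g⁻¹ ≠ 1 := by
        intro h5
        apply hy1
        have : y = g⁻¹ * (g * y * g⁻¹) * g := by group
        rw [this, h5]
        group
      obtain ⟨s, hs, hsc⟩ := hcov _ h3 h4
      have h5 : IsConj y (g * y * g⁻¹) := isConj_iff.mpr ⟨g, rfl⟩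
      have h6 := hXrep y ⟨k, hk⟩
      have h7 : y = s := h6.unique ⟨hyX, IsConj.refl y⟩ ⟨hTX (Finset.mem_insert_of_mem hs), h5.trans hsc⟩
      exact hyR (h7 ▸ hs)
    rw [hemp (Cen y) (cz_eq_cen y).symm, blockRank_empty]

end Reps

section Lift

variable {G : Type u} [Group G] [Fintype G] {M : Ideal AlgInt} [hM : M.IsPrime]
  {B : Set (IrrCharacter G)} {D : Subgroup G} {e : Set (IrrCharacter (Subgroup.centralizer (D : Set G)))}
  {x t : G} {N : ℕ}

/-- Conjugation between nontrivial elements of `D` fixes `z`. -/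
lemma conj_mem_cen (h : QuatD D x t N) {g r : G} (hr : r ∈ D) (hr1 : r ≠ 1) (hs : g * r * g⁻¹ ∈ D) :
    g * x ^ N * g⁻¹ = x ^ N := by
  have h1 := h.zz_mem_zpowers_of_mem hr hr1
  obtain ⟨k, hk⟩ := Subgroup.mem_zpowers_iff.mp h1
  have h2 : g * x ^ N * g⁻¹ ∈ D := by
    rw [← hk, ← conj_zpow]
    exact D.zpow_mem hs k
  refine h.invol_eq h2 ?_ ?_
  · calc g * x ^ N * g⁻¹ * (g * x ^ N * g⁻¹) = g * (x ^ N * x ^ N) * g⁻¹ := by group
      _ = 1 := by rw [h.zz_sq]; group
  · intro h3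
    apply h.zz_ne_one
    have : x ^ N = g⁻¹ * (g * x ^ N * g⁻¹) * g := by group
    rw [this, h3]
    group

/-- **Two blocks of the centralizer of `z` inducing `B` coincide.** -/
theorem induced_unique_cen (hMp : IsPModular 2 M) (hmax : IsMaximalBrauerPair 2 M B D e) (h : QuatD D x t N)
    {W : Subgroup G} [Fintype W] (hW : W = Kz (x ^ N)) {b b' : Set (IrrCharacter W)} (hb : IsInducedBlock M W b B)
    (hb' : IsInducedBlock M W b' B) : b = b' := by
  classical
  haveI : Fact (Nat.Prime 2) := ⟨Nat.prime_two⟩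
  subst hW
  have hPe := hmax.1.1
  have hp : IsPGroup 2 (Subgroup.zpowers (x ^ N)) := hPe.1.to_le ((Subgroup.zpowers_le).mpr h.zz_mem)
  have key : ∀ b₀ : Set (IrrCharacter (Kz (x ^ N))), IsInducedBlock M (Kz (x ^ N)) b₀ B →
      SubpairLE 2 M (Subgroup.zpowers (x ^ N)) b₀ D e := by
    intro b₀ hb₀
    have h2 := isBrauerPairOf_of_induced hp hb₀
    obtain ⟨g, hg⟩ := exists_conj_subpairLE hMp hmax h2
    have h3 : g * x ^ N * g⁻¹ ∈ D := SubpairLE.le hg (by
      rw [zpowers_map_conj]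
      exact Subgroup.mem_zpowers _)
    have h4 : g * x ^ N * g⁻¹ = x ^ N := by
      refine h.invol_eq h3 ?_ ?_
      · calc g * x ^ N * g⁻¹ * (g * x ^ N * g⁻¹) = g * (x ^ N * x ^ N) * g⁻¹ := by group
          _ = 1 := by rw [h.zz_sq]; group
      · intro h5
        apply h.zz_ne_one
        have : x ^ N = g⁻¹ * (g * x ^ N * g⁻¹) * g := by group
        rw [this, h5]
        group
    have hY : (Subgroup.zpowers (x ^ N)).map (MulAut.conj g).toMonoidHom = Subgroup.zpowers (x ^ N) := by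
      rw [zpowers_map_conj, h4]
    have h5 := transport_pair g hY b₀ (fun A a => SubpairLE 2 M A a D e) hg
    have hgK : g ∈ Kz (x ^ N) := by
      rw [Subgroup.mem_centralizer_iff]
      intro a ha
      obtain ⟨k, rfl⟩ := Subgroup.mem_zpowers_iff.mp ha
      have h6 : Commute g (x ^ N) := by
        show g * x ^ N = x ^ N * g
        calc g * x ^ N = (g * x ^ N * g⁻¹) * g := by group
          _ = _ := by rw [h4]
      exact (h6.symm.zpow_left k).eq
    rwa [conjB_of_mem hgK] at h5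
  exact eq_of_subpairLE hMp hPe (key b hb) (key b' hb')

/-- **A block of a centralizer in `C(z)` induces `b_z` if and only if the corresponding block induces `B`.** -/
theorem induced_iff_cen (hMp : IsPModular 2 M) (hmax : IsMaximalBrauerPair 2 M B D e) (h : QuatD D x t N)
    {W : Subgroup G} [Fintype W] (hW : W = Kz (x ^ N)) {bz : Set (IrrCharacter W)} (hbz : IsInducedBlock M W bz B)
    {r : G} (hr : r ∈ D)
    (hCW : Subgroup.centralizer ((Subgroup.zpowers (x ^ N) : Subgroup G) : Set G) ≤ W)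
    (hQA : Subgroup.zpowers (x ^ N) ≤ Subgroup.zpowers r) (hAW : Subgroup.zpowers r ≤ W)
    {f' : Set (IrrCharacter (Subgroup.centralizer (((Subgroup.zpowers r).subgroupOf W : Subgroup W) : Set W)))}
    (hf' : IsPBlock M f') :
    IsInducedBlock M (Subgroup.centralizer (((Subgroup.zpowers r).subgroupOf W : Subgroup W) : Set W)) f' bz ↔
      IsInducedBlock M (Subgroup.centralizer ((Subgroup.zpowers r : Subgroup G) : Set G))
        (blockMap (cD hCW hQA hAW).symm f') B := by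
  classical
  haveI : Fact (Nat.Prime 2) := ⟨Nat.prime_two⟩
  letI : Fintype (Subgroup.centralizer ((Subgroup.zpowers r : Subgroup G) : Set G)) := Fintype.ofFinite _
  have hPe := hmax.1.1
  have hup : ∀ b₀ : Set (IrrCharacter W), ∀ B₀ : Set (IrrCharacter G), IsInducedBlock M W b₀ B₀ →
      IsInducedBlock M (Subgroup.centralizer (((Subgroup.zpowers r).subgroupOf W : Subgroup W) : Set W)) f' b₀ →
      IsInducedBlock M (Subgroup.centralizer ((Subgroup.zpowers r : Subgroup G) : Set G))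
        (blockMap (cD hCW hQA hAW).symm f') B₀ := by
    intro b₀ B₀ hb₀ hf
    have hfb : IsInducedBlockIn M W (Subgroup.centralizer ((Subgroup.zpowers r : Subgroup G) : Set G))
        (blockMap (cD hCW hQA hAW).symm f') b₀ := by
      apply (isInducedBlock_iff_in hCW hQA hAW).mp
      rw [blockMap_blockMap_symm]
      exact hf
    exact isInducedBlock_trans' ((Subgroup.centralizer_le hQA).trans hCW) hb₀ hfb
  constructor
  · intro hf
    exact hup bz B hbz hf
  · intro hc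
    have hA'p : IsPGroup 2 ((Subgroup.zpowers r).subgroupOf W) :=
      (hPe.1.to_le ((Subgroup.zpowers_le).mpr hr)).comap_of_injective _ (Subgroup.subtype_injective _)
    obtain ⟨b', hb', -⟩ := existsUnique_block_of_pair hMp (⟨hA'p, hf'⟩ : IsBrauerPair 2 M _ f')
    have hf1 := isInducedBlock_of_brauerPair hMp hb'
    have hb'1 : IsPBlock M b' := hf1.2.1
    have hB₁ : ∃ B₁ : Set (IrrCharacter G), IsInducedBlock M W b' B₁ := by
      have hQp : IsPGroup 2 (Subgroup.zpowers (x ^ N)) := hPe.1.to_le ((Subgroup.zpowers_le).mpr h.zz_mem)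
      have key : ∀ W₁ : Subgroup G, W₁ = Kz (x ^ N) → ∀ b₁ : Set (IrrCharacter W₁), IsPBlock M b₁ →
          ∃ B₁ : Set (IrrCharacter G), IsInducedBlock M W₁ b₁ B₁ := by
        rintro _ rfl b₁ hb₁
        obtain ⟨B₁, hB₁, -⟩ := existsUnique_block_of_pair hMp (⟨hQp, hb₁⟩ : IsBrauerPair 2 M _ b₁)
        exact ⟨B₁, isInducedBlock_of_brauerPair hMp hB₁⟩
      exact key W hW b' hb'1
    obtain ⟨B₁, hB₁⟩ := hB₁
    have h2 := hup b' B₁ hB₁ hf1
    have h3 : B₁ = B := Cfsg.Agent.Lib.Blocks.FirstMain2.induced_unique h2 hc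
    rw [h3] at hB₁
    have h4 := induced_unique_cen hMp hmax h hW hB₁ hbz
    rwa [h4] at hf1

open Classical in
/-- **The ranks of the sections agree in `G` and in `C(z)`.** -/
theorem rank_inducers_eq (hMp : IsPModular 2 M) (hmax : IsMaximalBrauerPair 2 M B D e) (h : QuatD D x t N)
    {W : Subgroup G} [Fintype W] (hW : W = Kz (x ^ N)) {bz : Set (IrrCharacter W)} (hbz : IsInducedBlock M W bz B)
    {χ : IrrCharacter G} (hχ : χ ∈ B) {χ' : IrrCharacter W} (hχ' : χ' ∈ bz) {r : G} (hr : r ∈ D) (hr1 : r ≠ 1) (hrW : r ∈ W) :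
    blockRank 2 (inducers (Cen (⟨r, hrW⟩ : W)) M (χ' : W → ℂ)) = blockRank 2 (inducers (Cen r) M (χ : G → ℂ)) := by
  haveI : Fact (Nat.Prime 2) := ⟨Nat.prime_two⟩
  have hBeq : B = blockOf M (χ : G → ℂ) := isPBlock_eq_blockOf hmax.1.2.1 hχ
  have hbeq : bz = blockOf M (χ' : W → ℂ) := isPBlock_eq_blockOf hbz.1 hχ'
  have hzr := h.zz_mem_zpowers_of_mem hr hr1
  have hQA : Subgroup.zpowers (x ^ N) ≤ Subgroup.zpowers r := (Subgroup.zpowers_le).mpr hzr
  have hAW : Subgroup.zpowers r ≤ W := (Subgroup.zpowers_le).mpr hrW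
  have hCW : Subgroup.centralizer ((Subgroup.zpowers (x ^ N) : Subgroup G) : Set G) ≤ W := by
    rw [hW]
  -- in terms of the centralizers of the subgroups
  have e1 : Cen (⟨r, hrW⟩ : W) = Subgroup.centralizer (((Subgroup.zpowers r).subgroupOf W : Subgroup W) : Set W) := by
    rw [show (Subgroup.zpowers r).subgroupOf W = Subgroup.zpowers (⟨r, hrW⟩ : W) from
      (Cfsg.Agent.Lib.Blocks.Tame.zpowers_subgroupOf (⟨r, hrW⟩ : W)).symm]
    exact (cz_eq_cen _).symm
  have e2 : Cen r = Subgroup.centralizer ((Subgroup.zpowers r : Subgroup G) : Set G) := (cz_eq_cen r).symm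
  rw [e1, e2]
  letI : Fintype (Subgroup.centralizer ((Subgroup.zpowers r : Subgroup G) : Set G)) := Fintype.ofFinite _
  letI : Fintype (Subgroup.centralizer (((Subgroup.zpowers r).subgroupOf W : Subgroup W) : Set W)) := Fintype.ofFinite _
  have hset : inducers (Subgroup.centralizer (((Subgroup.zpowers r).subgroupOf W : Subgroup W) : Set W)) M (χ' : W → ℂ) =
      blockMap (cD hCW hQA hAW) (inducers (Subgroup.centralizer ((Subgroup.zpowers r : Subgroup G) : Set G)) M (χ : G → ℂ)) := by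
    ext ξ'
    rw [mem_blockMap_iff, mem_inducers_iff, mem_inducers_iff, ← hBeq, ← hbeq]
    have hf' : IsPBlock M (blockOf M (ξ' : _ → ℂ)) := ⟨ξ', rfl⟩
    rw [induced_iff_cen hMp hmax h hW hbz hr hCW hQA hAW hf']
    have h2 : blockMap (cD hCW hQA hAW).symm (blockOf M (ξ' : _ → ℂ)) =
        blockOf M ((irrComap (cD hCW hQA hAW).symm ξ' : IrrCharacter _) : _ → ℂ) :=
      (blockOf_comap _ ξ').symm
    rw [h2]
  rw [hset, blockRank_blockMap]

end Lift

section Main

variable {G : Type u} [Group G] [Fintype G] {M : Ideal AlgInt} [hM : M.IsPrime]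
  {B : Set (IrrCharacter G)} {D : Subgroup G}
  {x t : G} {N : ℕ}

omit hM in
open Classical in
/-- Representatives of the classes of `G` meeting the nontrivial elements of `D`. -/
lemma exists_R (D : Subgroup G) : ∃ R : Finset G, (∀ r ∈ R, r ∈ D ∧ r ≠ 1) ∧
    (∀ s ∈ R, ∀ t ∈ R, IsConj s t → s = t) ∧ (∀ r ∈ D, r ≠ 1 → ∃ s ∈ R, IsConj r s) := by
  let P : ConjClasses G → Prop := fun c => ∃ r ∈ D, r ≠ 1 ∧ ConjClasses.mk r = c
  let Φ : ConjClasses G → G := fun c => if h : P c then h.choose else 1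
  have hΦ : ∀ c, P c → Φ c ∈ D ∧ Φ c ≠ 1 ∧ ConjClasses.mk (Φ c) = c := by
    intro c hc
    have h1 : Φ c = hc.choose := dif_pos hc
    rw [h1]
    exact hc.choose_spec
  refine ⟨(Finset.univ.filter P).image Φ, ?_, ?_, ?_⟩
  · intro r hr
    obtain ⟨c, hc, rfl⟩ := Finset.mem_image.mp hr
    have := hΦ c (Finset.mem_filter.mp hc).2
    exact ⟨this.1, this.2.1⟩
  · intro s hs u hu hc
    obtain ⟨c, hc1, rfl⟩ := Finset.mem_image.mp hs
    obtain ⟨c', hc2, rfl⟩ := Finset.mem_image.mp hu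
    have h1 := (hΦ c (Finset.mem_filter.mp hc1).2).2.2
    have h2 := (hΦ c' (Finset.mem_filter.mp hc2).2).2.2
    have h3 : c = c' := by
      rw [← h1, ← h2]
      exact ConjClasses.mk_eq_mk_iff_isConj.mpr hc
    rw [h3]
  · intro r hr hr1
    have hP : P (ConjClasses.mk r) := ⟨r, hr, hr1, rfl⟩
    refine ⟨Φ (ConjClasses.mk r), Finset.mem_image.mpr ⟨_, Finset.mem_filter.mpr ⟨Finset.mem_univ _, hP⟩, rfl⟩, ?_⟩
    exact ConjClasses.mk_eq_mk_iff_isConj.mp (hΦ _ hP).2.2.symm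

open Classical in
/-- **`k(B) - l(B)` is the same in `G` and in the centralizer of `z`.** -/
theorem card_add_eq (hMp : IsPModular 2 M) (hB : IsPBlock M B) (hD : IsDefectGroup 2 M B D) (h : QuatD D x t N)
    {W : Subgroup G} [Fintype W] (hW : W = Kz (x ^ N)) {bz : Set (IrrCharacter W)} (hbz : IsInducedBlock M W bz B)
    (hdef : IsDefectGroup 2 M bz (D.subgroupOf W)) (hDW : D ≤ W) :
    Nat.card B + blockRank 2 bz = Nat.card bz + blockRank 2 B := by
  obtain ⟨e, hmax⟩ := Cfsg.Agent.S4552.exists_maximal_on_defect hMp hB hD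
  obtain ⟨R, hR, hnc, hcov⟩ := exists_R D
  obtain ⟨χ₁, hχ₁⟩ := isPBlock_nonempty hB
  obtain ⟨χ', hχ'⟩ := isPBlock_nonempty hbz.1
  have h1 := card_eq_of_reps hMp hB hD R hR hnc hcov hχ₁
  have hmemW : ∀ g : G, g * x ^ N * g⁻¹ = x ^ N → g ∈ W := by
    intro g hg
    rw [hW, Subgroup.mem_centralizer_iff]
    intro a ha
    obtain ⟨k, rfl⟩ := Subgroup.mem_zpowers_iff.mp ha
    have h6 : Commute g (x ^ N) := by
      show g * x ^ N = x ^ N * g
      calc g * x ^ N = (g * x ^ N * g⁻¹) * g := by group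
        _ = _ := by rw [hg]
    exact (h6.symm.zpow_left k).eq
  have h2 := card_eq_of_reps hMp hbz.1 hdef (R.subtype (· ∈ W))
    (by
      intro r hr
      have h3 := hR r (Finset.mem_subtype.mp hr)
      refine ⟨Subgroup.mem_subgroupOf.mpr h3.1, fun h4 => h3.2 (congrArg Subtype.val h4)⟩)
    (by
      intro s hs u hu hc
      have h3 : IsConj (s : G) (u : G) := by
        obtain ⟨c, hc⟩ := isConj_iff.mp hc
        exact isConj_iff.mpr ⟨c, congrArg Subtype.val hc⟩
      exact Subtype.ext (hnc _ (Finset.mem_subtype.mp hs) _ (Finset.mem_subtype.mp hu) h3))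
    (by
      intro r hr hr1
      have hrD : (r : G) ∈ D := Subgroup.mem_subgroupOf.mp hr
      have hr1' : (r : G) ≠ 1 := fun h4 => hr1 (Subtype.ext h4)
      obtain ⟨s, hs, hc⟩ := hcov _ hrD hr1'
      obtain ⟨g, hg⟩ := isConj_iff.mp hc
      have hsD := (hR s hs).1
      have hgW : g ∈ W := hmemW g (conj_mem_cen h hrD hr1' (by rw [hg]; exact hsD))
      refine ⟨⟨s, hDW hsD⟩, Finset.mem_subtype.mpr hs, isConj_iff.mpr ⟨⟨g, hgW⟩, Subtype.ext hg⟩⟩)
    hχ'
  have h3 : ∑ r ∈ R.subtype (· ∈ W), blockRank 2 (inducers (Cen r) M (χ' : W → ℂ)) =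
      ∑ r ∈ R, blockRank 2 (inducers (Cen r) M (χ₁ : G → ℂ)) := by
    refine Finset.sum_bij (fun r _ => (r : G)) ?_ ?_ ?_ ?_
    · intro r hr
      exact Finset.mem_subtype.mp hr
    · intro r _ r' _ hrr
      exact Subtype.ext hrr
    · intro r hr
      exact ⟨⟨r, hDW (hR r hr).1⟩, Finset.mem_subtype.mpr hr, rfl⟩
    · intro r hr
      have hrR := Finset.mem_subtype.mp hr
      exact rank_inducers_eq hMp hmax h hW hbz hχ₁ hχ' (hR _ hrR).1 (hR _ hrR).2 r.2
  rw [h3] at h2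
  omega

/-- **The package of the columns.** -/
theorem exists_qcol (hMp : IsPModular 2 M) (hB : IsPBlock M B) (hD : IsDefectGroup 2 M B D) (h : QuatD D x t N)
    {K : Subgroup G} [Fintype K] (hK : K = Subgroup.normalizer ((Subgroup.zpowers (QuatD.ww x N) : Subgroup G) : Set G))
    (hDK : D ≤ K) {k : ℕ} (hk : 2 ≤ k) (hNk : 2 ^ k = 2 * N) :
    ∃ (b : Set (IrrCharacter K)) (e : Set (IrrCharacter (Subgroup.centralizer ((D.subgroupOf K : Subgroup K) : Set K))))
      (χ₀ : IrrCharacter K) (L : IrrCharacter K → IrrCharacter (D.subgroupOf K)),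
      QCol M B K b (D.subgroupOf K) e χ₀ L ⟨⟨x, hDK h.hxD⟩, Subgroup.mem_subgroupOf.mpr h.hxD⟩
        ⟨⟨t, hDK h.htD⟩, Subgroup.mem_subgroupOf.mpr h.htD⟩ N k := by
  haveI : Fact (Nat.Prime 2) := ⟨Nat.prime_two⟩
  obtain ⟨b, e, χ₀, L, hind, hP⟩ := exists_packageK hMp hB hD h hK
  have hd1 := h.subgroupOf hDK
  have hd2 := hd1.subgroupOf (le_refl _)
  rw [Subgroup.subgroupOf_self] at hd2
  exact ⟨b, e, χ₀, L, ⟨hB, hind, hP, hd2, hK, hk, hNk⟩⟩

open Classical in
/-- **The count at the central level.** -/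
theorem card_central (hMp : IsPModular 2 M) (hB : IsPBlock M B) (hD : IsDefectGroup 2 M B D) {n : ℕ} (hn : 3 ≤ n)
    (hq : Nonempty (D ≃* QuaternionGroup (2 ^ (n - 2)))) (h : QuatD D x t (2 ^ (n - 2)))
    (hz : ∀ g : G, g * x ^ (2 ^ (n - 2)) = x ^ (2 ^ (n - 2)) * g) :
    Nat.card B = blockRank 2 B + 2 ^ (n - 2) + 2 := by
  haveI : Fact (Nat.Prime 2) := ⟨Nat.prime_two⟩
  have hE := card_E_of_quat hMp hB hD hn hq h hz
  have hF1 := card_FF_le hMp hB hD h hz
  -- the package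
  let K : Subgroup G := Subgroup.normalizer ((Subgroup.zpowers (QuatD.ww x (2 ^ (n - 2))) : Subgroup G) : Set G)
  letI : Fintype K := Fintype.ofFinite _
  have hDK : D ≤ K := h.D_le_norm
  have hn1 : (2 : ℕ) ^ (n - 1) = 2 * 2 ^ (n - 2) := by
    rw [← pow_succ']
    congr 1
    omega
  obtain ⟨b, e, χ₀, L, hq'⟩ := exists_qcol hMp hB hD h (K := K) rfl hDK (k := n - 1) (by omega) hn1
  letI : Fintype (D.subgroupOf K) := Fintype.ofFinite _
  have hF2 := hq'.card_FF_ge hz
  have hF3 : blockRank 2 B + (2 ^ (n - 2) / 2 - 1) ≤ (FF B (x ^ (2 ^ (n - 2)))).card := hF2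
  -- the partition
  have hzz : x ^ (2 ^ (n - 2)) * x ^ (2 ^ (n - 2)) = 1 := h.zz_sq
  have hpart : Nat.card B = Nat.card {ξ : IrrCharacter G // ξ ∈ B ∧ (ξ : G → ℂ) (x ^ (2 ^ (n - 2))) = (ξ : G → ℂ) 1} +
      (FF B (x ^ (2 ^ (n - 2)))).card := by
    rw [Nat.card_eq_fintype_card, Nat.card_eq_fintype_card, Fintype.card_subtype, Fintype.card_subtype,
      FF, ← Finset.card_union_of_disjoint]
    · congr 1
      ext ξ
      simp only [Finset.mem_filter, Finset.mem_univ, true_and, Finset.mem_union]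
      constructor
      · intro hξ
        rcases irr_central_sign ξ hz hzz with h1 | h1
        · exact Or.inl ⟨hξ, h1⟩
        · exact Or.inr ⟨hξ, h1⟩
      · rintro (h1 | h1)
        · exact h1.1
        · exact h1.1
    · rw [Finset.disjoint_left]
      intro ξ h1 h2
      have h3 := (Finset.mem_filter.mp h1).2.2
      have h4 := (Finset.mem_filter.mp h2).2.2
      rw [h3] at h4
      have h6 : (2 : ℂ) * (ξ : G → ℂ) 1 = 0 := by linear_combination h4
      exact Cfsg.Agent.Lib.Char.Ortho.irr_apply_one_ne_zero ξ.2 (by simpa using h6)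
  have hhalf : 2 ^ (n - 2) / 2 = 2 ^ (n - 3) := by
    have : (2 : ℕ) ^ (n - 2) = 2 * 2 ^ (n - 3) := by
      rw [← pow_succ']
      congr 1
      omega
    rw [this]
    simp
  have hdouble : (2 : ℕ) ^ (n - 2) = 2 * 2 ^ (n - 3) := by
    rw [← pow_succ']
    congr 1
    omega
  have hpos : 0 < 2 ^ (n - 3) := by positivity
  rw [hhalf] at hF1 hF3
  omega

/-- The block of the centralizer of `z`. -/
theorem exists_bz (hMp : IsPModular 2 M) (hB : IsPBlock M B) (hD : IsDefectGroup 2 M B D) (h : QuatD D x t N)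
    [Fintype (Cen (x ^ N))] :
    ∃ (hDW : D ≤ Cen (x ^ N)) (bz : Set (IrrCharacter (Cen (x ^ N)))), IsInducedBlock M (Cen (x ^ N)) bz B ∧
      IsDefectGroup 2 M bz (D.subgroupOf (Cen (x ^ N))) := by
  haveI : Fact (Nat.Prime 2) := ⟨Nat.prime_two⟩
  obtain ⟨b₀, hb₀⟩ := Cfsg.Agent.S4698.exists_block_HD hMp hB hD
  have hDW : D ≤ Cen (x ^ N) := h.D_le_cen
  have hle : Cfsg.Agent.Lib.Blocks.ZDefect.HD D ≤ Cen (x ^ N) := by
    refine sup_le hDW ?_
    intro c hc
    rw [Subgroup.mem_centralizer_singleton_iff]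
    exact (Subgroup.mem_centralizer_iff.mp hc _ h.zz_mem).symm
  obtain ⟨c, -, hc, hdef⟩ := Cfsg.Agent.Lib.Blocks.ZDefect.exists_pair hMp hb₀ hD hle
  exact ⟨hDW, c, hc, hdef⟩

/-- **The number of characters of a block with generalized quaternion defect group.** -/
theorem card_B (hMp : IsPModular 2 M) (hB : IsPBlock M B) (hD : IsDefectGroup 2 M B D) {n : ℕ} (hn : 3 ≤ n)
    (hq : Nonempty (D ≃* QuaternionGroup (2 ^ (n - 2)))) (h : QuatD D x t (2 ^ (n - 2))) :
    Nat.card B = blockRank 2 B + 2 ^ (n - 2) + 2 := by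
  classical
  letI : Fintype (Cen (x ^ 2 ^ (n - 2))) := Fintype.ofFinite _
  obtain ⟨hDW, bz, hbz, hdef⟩ := exists_bz hMp hB hD h
  have h1 := card_add_eq hMp hB hD h (cz_eq_cen _).symm hbz hdef hDW
  have hd' := h.subgroupOf hDW
  have hq' : Nonempty ((D.subgroupOf (Cen (x ^ 2 ^ (n - 2)))) ≃* QuaternionGroup (2 ^ (n - 2))) := by
    obtain ⟨ι⟩ := hq
    exact ⟨(Subgroup.subgroupOfEquivOfLe hDW).trans ι⟩
  have h2 := card_central hMp hbz.1 hdef hn hq' hd' (by
    intro g
    apply Subtype.ext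
    have := Subgroup.mem_centralizer_singleton_iff.mp g.2
    exact this)
  omega

end Main

end Cfsg.Agent.Lib.Blocks.Quat
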