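import Mathlib
import Cfsg.Agent.Lib.Thompson.Main

/-!
# Groups with a self-centralizing subgroup of order 3: fixed-point-free action of an element of order 3
-/

set_option autoImplicit false

namespace Cfsg.Agent.Lib.Blocks.SC3

universe u

variable {G : Type u} [Group G]

/-- Elements of order 3 are self-centralizing. -/
def SCH (G : Type u) [Group G] : Prop :=
  ∀ y : G, orderOf y = 3 → ∀ c : G, c * y = y * c → c ∈ Subgroup.zpowers y

/-- `y` of order 3 normalizes the group `E` of order prime to 3. -/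
structure Act (E : Subgroup G) (y : G) : Prop where
  ord : orderOf y = 3
  nor : ∀ e ∈ E, y * e * y⁻¹ ∈ E
  cop : ¬ 3 ∣ Nat.card E

/-- The element of order 3 has cube one. -/
theorem cube_eq_one {y : G} (hy : orderOf y = 3) : y * y * y = 1 := by
  have := pow_orderOf_eq_one y
  rw [hy, pow_succ, pow_two] at this
  exact this

theorem pow_eq_one_of_mem_zpowers {y c : G} (hy : orderOf y = 3) (hc : c ∈ Subgroup.zpowers y) :
    c ^ 3 = 1 := by
  have h1 : orderOf c ∣ orderOf y := orderOf_dvd_of_mem_zpowers hc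
  rw [hy] at h1
  exact orderOf_dvd_iff_pow_eq_one.mp h1

namespace Act

variable {E : Subgroup G} {y : G}

theorem conj_inv_mem (h : Act E y) {e : G} (he : e ∈ E) : y⁻¹ * e * y ∈ E := by
  have h1 := h.nor _ (h.nor _ he)
  have hy := cube_eq_one h.ord
  have h2 : y * (y * e * y⁻¹) * y⁻¹ = y⁻¹ * e * y := by
    have h3 : y * y = y⁻¹ := by
      rw [eq_inv_iff_mul_eq_one]
      exact hy
    calc y * (y * e * y⁻¹) * y⁻¹ = (y * y) * e * (y * y)⁻¹ := by group
      _ = y⁻¹ * e * y := by rw [h3, inv_inv]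
  rwa [h2] at h1

theorem fix [Finite G] (hS : SCH G) (h : Act E y) {e : G} (he : e ∈ E) (hf : y * e * y⁻¹ = e) : e = 1 := by
  have h1 : e * y = y * e := by
    have h0 : y * e = (y * e * y⁻¹) * y := by group
    rw [h0, hf]
  have h2 := hS y h.ord e h1
  have h3 : e ^ 3 = 1 := pow_eq_one_of_mem_zpowers h.ord h2
  have h4 : orderOf e ∣ 3 := orderOf_dvd_of_pow_eq_one h3
  have h5 : orderOf (⟨e, he⟩ : E) ∣ Nat.card E := orderOf_dvd_natCard _
  rw [Subgroup.orderOf_mk] at h5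
  rcases (Nat.dvd_prime (by norm_num : Nat.Prime 3)).mp h4 with h6 | h6
  · exact orderOf_eq_one_iff.mp h6
  · rw [h6] at h5
    exact absurd h5 h.cop

/-- The conjugation action as an automorphism. -/
def aut (h : Act E y) : E ≃* E where
  toFun e := ⟨y * e * y⁻¹, h.nor _ e.2⟩
  invFun e := ⟨y⁻¹ * e * y, h.conj_inv_mem e.2⟩
  left_inv e := by
    apply Subtype.ext
    simp only
    group
  right_inv e := by
    apply Subtype.ext
    simp only
    group
  map_mul' a b := by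
    apply Subtype.ext
    simp only [Subgroup.coe_mul]
    group

@[simp] theorem aut_apply (h : Act E y) (e : E) : (h.aut e : G) = y * e * y⁻¹ := rfl

theorem aut_iter (h : Act E y) (e : E) : h.aut^[3] e = e := by
  apply Subtype.ext
  have hy := cube_eq_one h.ord
  show y * (y * (y * (e : G) * y⁻¹) * y⁻¹) * y⁻¹ = e
  have h1 : y * (y * (y * (e : G) * y⁻¹) * y⁻¹) * y⁻¹ = (y * y * y) * e * (y * y * y)⁻¹ := by group
  rw [h1, hy]
  group

theorem isNilpotent [Finite G] (hS : SCH G) (h : Act E y) : Group.IsNilpotent E := by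
  refine Cfsg.Agent.Lib.Thompson.Main.thompson_nilpotent (q := 3) (by norm_num) (Nat.card E) E h.aut rfl ?_ (h.aut_iter)
  intro e he
  apply Subtype.ext
  apply h.fix hS e.2
  exact congrArg Subtype.val he

/-- Every element of `E` is a commutator with `y`. -/
theorem exists_comm [Finite G] (hS : SCH G) (h : Act E y) {u : G} (hu : u ∈ E) :
    ∃ w ∈ E, u = w * (y * w⁻¹ * y⁻¹) := by
  let f : E → E := fun w => w * (h.aut w)⁻¹
  have hf : Function.Injective f := by
    intro a b hab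
    have h1 : (a : G) * (y * (a : G)⁻¹ * y⁻¹) = b * (y * (b : G)⁻¹ * y⁻¹) := by
      have := congrArg Subtype.val hab
      simpa [f, mul_assoc] using this
    have h2 : y * ((b : G)⁻¹ * a) * y⁻¹ = (b : G)⁻¹ * a := by
      have h3 : (b : G)⁻¹ * a = (y * (b : G)⁻¹ * y⁻¹) * (y * (a : G)⁻¹ * y⁻¹)⁻¹ := by
        have h4 : (y * (b : G)⁻¹ * y⁻¹) = (b : G)⁻¹ * (a * (y * (a : G)⁻¹ * y⁻¹)) := by
          rw [h1]
          group
        rw [h4]
        group
      calc y * ((b : G)⁻¹ * a) * y⁻¹ = (y * (b : G)⁻¹ * y⁻¹) * (y * (a : G)⁻¹ * y⁻¹)⁻¹ := by group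
        _ = _ := h3.symm
    have h5 := h.fix hS (E.mul_mem (E.inv_mem b.2) a.2) h2
    apply Subtype.ext
    have h6 : (a : G) = b := by
      have := mul_eq_one_iff_eq_inv.mp h5
      exact (inv_inj.mp this).symm
    exact h6
  have hf2 : Function.Surjective f := Finite.injective_iff_surjective.mp hf
  obtain ⟨w, hw⟩ := hf2 ⟨u, hu⟩
  refine ⟨w, w.2, ?_⟩
  have := congrArg Subtype.val hw
  simp only [f, Subgroup.coe_mul, Subgroup.coe_inv, aut_apply] at this
  rw [← this]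
  group

/-- Coset elements are conjugate to `y` under `E`. -/
theorem coset_conj [Finite G] (hS : SCH G) (h : Act E y) {u : G} (hu : u ∈ E) :
    ∃ w ∈ E, u * y = w * y * w⁻¹ := by
  obtain ⟨w, hw, rfl⟩ := h.exists_comm hS hu
  refine ⟨w, hw, ?_⟩
  group

theorem coset_order [Finite G] (hS : SCH G) (h : Act E y) {u : G} (hu : u ∈ E) : orderOf (u * y) = 3 := by
  obtain ⟨w, _, hw⟩ := h.coset_conj hS hu
  rw [hw, ← h.ord]
  have : w * y * w⁻¹ = (MulAut.conj w) y := rfl
  rw [this, MulEquiv.orderOf_eq]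

/-- The norm identity. -/
theorem norm [Finite G] (hS : SCH G) (h : Act E y) {u : G} (hu : u ∈ E) :
    u * (y * u * y⁻¹) * (y⁻¹ * u * y) = 1 := by
  have h1 := h.coset_order hS hu
  have h2 := cube_eq_one h1
  have hy := cube_eq_one h.ord
  have h3 : y * y = y⁻¹ := by
    rw [eq_inv_iff_mul_eq_one]
    exact hy
  calc u * (y * u * y⁻¹) * (y⁻¹ * u * y) = u * (y * u * y⁻¹) * ((y * y) * u * (y * y)⁻¹) := by
        rw [h3, inv_inv]
    _ = (u * y) * (u * y) * (u * y) * (y * y * y)⁻¹ := by group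
    _ = 1 := by rw [h2, hy]; group

theorem inv_eq_of_norm [Finite G] (hS : SCH G) (h : Act E y) {u : G} (hu : u ∈ E) :
    y⁻¹ * u * y = ((u * (y * u * y⁻¹)))⁻¹ := by
  have h1 := h.norm hS hu
  exact eq_inv_of_mul_eq_one_right h1

/-- The number of elements is congruent to 1 modulo 3. -/
theorem card_mod [Finite G] (hS : SCH G) (h : Act E y) : Nat.card E % 3 = 1 := by
  classical
  haveI : Fintype E := Fintype.ofFinite _
  haveI : Fact (Nat.Prime 3) := ⟨by norm_num⟩
  let f : Function.End E := fun e => h.aut e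
  have hf : f ^ 3 ^ 1 = 1 := by
    have h0 : f ^ 3 ^ 1 = f * f * f := by
      rw [pow_one, pow_succ, pow_two]
    rw [h0]
    funext e
    exact h.aut_iter e
  have h1 := Equiv.Perm.card_fixedPoints_modEq (f := f) (p := 3) (n := 1) hf
  have h2 : Fintype.card (Function.fixedPoints f) = 1 := by
    rw [Fintype.card_eq_one_iff]
    refine ⟨⟨1, ?_⟩, ?_⟩
    · show f 1 = 1
      exact map_one h.aut
    · rintro ⟨e, he⟩
      apply Subtype.ext
      apply Subtype.ext
      have he' : f e = e := he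
      have := h.fix hS e.2 (congrArg Subtype.val he')
      simpa using this
  rw [Nat.card_eq_fintype_card]
  rw [h2] at h1
  exact h1

/-- **Lemma A**: the centralizer in `E` of an element of `E` does not have index two. -/
theorem no_index_two [Finite G] (hS : SCH G) (h : Act E y) {u : G} (hu : u ∈ E)
    (hidx : ∀ a ∈ E, ∀ b ∈ E, a * u ≠ u * a → b * u ≠ u * b → (a⁻¹ * b) * u = u * (a⁻¹ * b))
    {e₀ : G} (he₀ : e₀ ∈ E) (hne : e₀ * u ≠ u * e₀) : False := by
  have hy := cube_eq_one h.ord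
  have hyy : y * y = y⁻¹ := by
    rw [eq_inv_iff_mul_eq_one]
    exact hy
  set Q : Subgroup G := Subgroup.centralizer ({u} : Set G) with hQ
  have mQ : ∀ a, a ∈ Q ↔ a * u = u * a := fun a => Subgroup.mem_centralizer_singleton_iff
  -- find `w` in `Q` with `y w y⁻¹` outside
  have hw : ∃ w ∈ E, w ∈ Q ∧ y * w * y⁻¹ ∉ Q := by
    have hnorm := h.norm hS he₀
    have h1 : e₀ ∉ Q := fun h2 => hne ((mQ _).mp h2)
    by_cases h2 : y * e₀ * y⁻¹ ∈ Q
    · refine ⟨_, h.nor _ he₀, h2, ?_⟩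
      intro h3
      apply h1
      have h4 : y * (y * e₀ * y⁻¹) * y⁻¹ = y⁻¹ * e₀ * y := by
        calc y * (y * e₀ * y⁻¹) * y⁻¹ = (y * y) * e₀ * (y * y)⁻¹ := by group
          _ = _ := by rw [hyy, inv_inv]
      rw [h4] at h3
      have h5 : e₀ = ((y * e₀ * y⁻¹) * (y⁻¹ * e₀ * y))⁻¹ := by
        apply eq_inv_of_mul_eq_one_left
        rw [← hnorm]
        group
      rw [h5]
      exact Q.inv_mem (Q.mul_mem h2 h3)
    · by_cases h3 : y⁻¹ * e₀ * y ∈ Q
      · refine ⟨_, h.conj_inv_mem he₀, h3, ?_⟩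
        have h4 : y * (y⁻¹ * e₀ * y) * y⁻¹ = e₀ := by group
        rw [h4]
        exact h1
      · exfalso
        -- three elements outside `Q` multiply to one
        have h4 : (y * e₀ * y⁻¹) ∈ E := h.nor _ he₀
        have h5 : (y⁻¹ * e₀ * y) ∈ E := h.conj_inv_mem he₀
        have h6 := hidx e₀⁻¹ (E.inv_mem he₀) _ h4 (fun h7 => h1 (Q.inv_mem_iff.mp ((mQ _).mpr h7)))
          (fun h7 => h2 ((mQ _).mpr h7))
        have h7 : (y⁻¹ * e₀ * y) = ((e₀⁻¹)⁻¹ * (y * e₀ * y⁻¹))⁻¹ := by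
          rw [inv_inv]
          exact h.inv_eq_of_norm hS he₀
        apply h3
        rw [h7]
        exact Q.inv_mem ((mQ _).mpr h6)
  obtain ⟨w, hwE, hwQ, hvQ⟩ := hw
  set v := y * w * y⁻¹ with hv
  have hvE : v ∈ E := h.nor _ hwE
  have hvn : v * u ≠ u * v := fun h1 => hvQ ((mQ _).mpr h1)
  -- `v` centralizes `y u y⁻¹`.
  have hvc : v * (y * u * y⁻¹) = (y * u * y⁻¹) * v := by
    have h1 : w * u = u * w := (mQ _).mp hwQ
    calc v * (y * u * y⁻¹) = y * (w * u) * y⁻¹ := by rw [hv]; group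
      _ = y * (u * w) * y⁻¹ := by rw [h1]
      _ = _ := by rw [hv]; group
  set c1 := v⁻¹ * u * v with hc1
  have hc1u : c1 ≠ u := by
    intro h1
    apply hvn
    rw [hc1] at h1
    calc v * u = v * (v⁻¹ * u * v) := by rw [h1]
      _ = u * v := by group
  have hclass : ∀ g ∈ E, g⁻¹ * u * g = u ∨ g⁻¹ * u * g = c1 := by
    intro g hg
    by_cases h1 : g * u = u * g
    · left
      calc g⁻¹ * u * g = g⁻¹ * (u * g) := by group
        _ = g⁻¹ * (g * u) := by rw [h1]
        _ = u := by group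
    · right
      have h2 : g⁻¹ * u ≠ u * g⁻¹ := by
        intro h3
        apply h1
        calc g * u = g * (u * g⁻¹) * g := by group
          _ = g * (g⁻¹ * u) * g := by rw [h3]
          _ = u * g := by group
      have h3 : v⁻¹ * u ≠ u * v⁻¹ := by
        intro h3
        apply hvn
        calc v * u = v * (u * v⁻¹) * v := by group
          _ = v * (v⁻¹ * u) * v := by rw [h3]
          _ = u * v := by group
      have h4 := hidx _ (E.inv_mem hg) _ (E.inv_mem hvE) h2 h3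
      rw [inv_inv] at h4
      have h5 : g = (g * v⁻¹) * v := by group
      rw [hc1]
      have h6 : (g * v⁻¹)⁻¹ * u * (g * v⁻¹) = u := by
        calc (g * v⁻¹)⁻¹ * u * (g * v⁻¹) = (g * v⁻¹)⁻¹ * (u * (g * v⁻¹)) := by group
          _ = (g * v⁻¹)⁻¹ * ((g * v⁻¹) * u) := by rw [h4]
          _ = u := by group
      calc g⁻¹ * u * g = v⁻¹ * ((g * v⁻¹)⁻¹ * u * (g * v⁻¹)) * v := by group
        _ = _ := by rw [h6]
  -- the class of `y⁻¹ u y`
  have hclass2 : ∀ g ∈ E, g⁻¹ * (y⁻¹ * u * y) * g = y⁻¹ * u * y ∨ g⁻¹ * (y⁻¹ * u * y) * g = y⁻¹ * c1 * y := by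
    intro g hg
    have h1 := hclass _ (h.nor _ hg)
    rcases h1 with h1 | h1
    · left
      calc g⁻¹ * (y⁻¹ * u * y) * g = y⁻¹ * ((y * g * y⁻¹)⁻¹ * u * (y * g * y⁻¹)) * y := by group
        _ = _ := by rw [h1]
    · right
      calc g⁻¹ * (y⁻¹ * u * y) * g = y⁻¹ * ((y * g * y⁻¹)⁻¹ * u * (y * g * y⁻¹)) * y := by group
        _ = _ := by rw [h1]
  set z := u⁻¹ * c1 with hz
  have hzne : z ≠ 1 := by
    intro h1
    apply hc1u
    rw [hz] at h1
    exact (inv_mul_eq_one.mp h1).symm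
  have hzE : z ∈ E := by
    rw [hz, hc1]
    exact E.mul_mem (E.inv_mem hu) (E.mul_mem (E.mul_mem (E.inv_mem hvE) hu) hvE)
  -- `u` commutes with `c1`
  have huc : u * c1 * u⁻¹ = c1 := by
    have h1 := hclass (v * u⁻¹) (E.mul_mem hvE (E.inv_mem hu))
    have h2 : (v * u⁻¹)⁻¹ * u * (v * u⁻¹) = u * c1 * u⁻¹ := by
      rw [hc1]
      group
    rw [h2] at h1
    rcases h1 with h1 | h1
    · exfalso
      apply hc1u
      calc c1 = u⁻¹ * (u * c1 * u⁻¹) * u := by group
        _ = u := by rw [h1]; group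
    · exact h1
  have huz : u * z * u⁻¹ = z := by
    rw [hz]
    calc u * (u⁻¹ * c1) * u⁻¹ = u⁻¹ * (u * c1 * u⁻¹) := by group
      _ = _ := by rw [huc]
  have hnorm := h.norm hS hu
  -- conjugate the norm identity by `v`
  have hconj : c1 * (y * u * y⁻¹) * (v⁻¹ * (y⁻¹ * u * y) * v) = 1 := by
    have h1 : v⁻¹ * (y * u * y⁻¹) * v = y * u * y⁻¹ := by
      calc v⁻¹ * (y * u * y⁻¹) * v = v⁻¹ * ((y * u * y⁻¹) * v) := by group
        _ = v⁻¹ * (v * (y * u * y⁻¹)) := by rw [hvc]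
        _ = _ := by group
    calc c1 * (y * u * y⁻¹) * (v⁻¹ * (y⁻¹ * u * y) * v)
        = c1 * (v⁻¹ * (y * u * y⁻¹) * v) * (v⁻¹ * (y⁻¹ * u * y) * v) := by rw [h1]
      _ = v⁻¹ * (u * (y * u * y⁻¹) * (y⁻¹ * u * y)) * v := by rw [hc1]; group
      _ = 1 := by rw [hnorm]; group
  rcases hclass2 v hvE with h1 | h1
  · rw [h1] at hconj
    apply hc1u
    have h2 := hconj.trans hnorm.symm
    have h3 : c1 * ((y * u * y⁻¹) * (y⁻¹ * u * y)) = u * ((y * u * y⁻¹) * (y⁻¹ * u * y)) := by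
      simpa [mul_assoc] using h2
    exact mul_right_cancel h3
  · rw [h1] at hconj
    -- `z` times its image is trivial
    have h2 : (y * u * y⁻¹) * (y⁻¹ * u * y) = u⁻¹ := by
      apply eq_inv_of_mul_eq_one_right
      rw [← hnorm]
      group
    have h3 : c1 = u * z := by rw [hz]; group
    have h4 : y⁻¹ * c1 * y = (y⁻¹ * u * y) * (y⁻¹ * z * y) := by
      rw [h3]
      group
    rw [h4] at hconj
    have h5 : z * (y⁻¹ * z * y) = 1 := by
      have h6 : c1 * (y * u * y⁻¹) * ((y⁻¹ * u * y) * (y⁻¹ * z * y)) =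
          c1 * ((y * u * y⁻¹) * (y⁻¹ * u * y)) * (y⁻¹ * z * y) := by group
      rw [h6, h2, h3] at hconj
      have h7 : u * z * u⁻¹ * (y⁻¹ * z * y) = 1 := hconj
      rwa [huz] at h7
    -- so `z` is fixed by `y`
    have h6 : y⁻¹ * z * y = z⁻¹ := eq_inv_of_mul_eq_one_right h5
    have h7 : y * z * y⁻¹ = z := by
      have h8 : y⁻¹ * (y⁻¹ * z * y) * y = z := by
        rw [h6]
        have h9 : y⁻¹ * z⁻¹ * y = (y⁻¹ * z * y)⁻¹ := by group
        rw [h9, h6, inv_inv]
      have h10 : y⁻¹ * (y⁻¹ * z * y) * y = (y * y)⁻¹ * z * (y * y) := by group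
      rw [h10, hyy, inv_inv] at h8
      exact h8
    exact hzne (h.fix hS hzE h7)

/-- **Lemma B**: an element `ρ` with `ρ y ρ⁻¹ = y⁻¹ p`, whose centralizer in `E` has index at most two. -/
theorem card_le_four [Finite G] (hS : SCH G) (h : Act E y) {ρ p : G} (hρ : ρ * y * ρ⁻¹ = y⁻¹ * p)
    (hp : ¬ 3 ∣ orderOf p)
    (hidx : ∀ a ∈ E, ∀ b ∈ E, a * ρ ≠ ρ * a → b * ρ ≠ ρ * b → (a⁻¹ * b) * ρ = ρ * (a⁻¹ * b)) :
    Nat.card E ≤ 4 := by
  classical
  have hy := cube_eq_one h.ord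
  have hyy : y * y = y⁻¹ := by
    rw [eq_inv_iff_mul_eq_one]
    exact hy
  have hyy' : y⁻¹ * y⁻¹ = y := by
    rw [← hyy]
    calc y * y * (y * y) = (y * y * y) * y := by group
      _ = y := by rw [hy, one_mul]
  set C : Subgroup G := Subgroup.centralizer ({ρ} : Set G) with hC
  have mC : ∀ a, a ∈ C ↔ a * ρ = ρ * a := fun a => Subgroup.mem_centralizer_singleton_iff
  -- the stable part
  have hstable : ∀ d ∈ E, d ∈ C → y * d * y⁻¹ ∈ C → y⁻¹ * d * y ∈ C := by
    intro d hd h1 h2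
    rw [h.inv_eq_of_norm hS hd]
    exact C.inv_mem (C.mul_mem h1 h2)
  -- the key relation
  have hkey : ∀ d ∈ E, d ∈ C → y * d * y⁻¹ ∈ C → p * d * p⁻¹ = y⁻¹ * d * y := by
    intro d hd h1 h2
    have h3 : ρ * (y * d * y⁻¹) * ρ⁻¹ = y * d * y⁻¹ := by
      have := (mC _).mp h2
      rw [← this]
      group
    have h4 : ρ * d * ρ⁻¹ = d := by
      have := (mC _).mp h1
      rw [← this]
      group
    have h5 : ρ * (y * d * y⁻¹) * ρ⁻¹ = (ρ * y * ρ⁻¹) * (ρ * d * ρ⁻¹) * (ρ * y * ρ⁻¹)⁻¹ := by group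
    rw [h5, hρ, h4] at h3
    have h6 : p * d * p⁻¹ = y * (y⁻¹ * p * d * (y⁻¹ * p)⁻¹) * y⁻¹ := by group
    rw [h6, h3]
    calc y * (y * d * y⁻¹) * y⁻¹ = (y * y) * d * (y * y)⁻¹ := by group
      _ = _ := by rw [hyy, inv_inv]
  -- iterate
  have hiter : ∀ k : ℕ, ∀ d ∈ E, d ∈ C → y * d * y⁻¹ ∈ C →
      (p ^ k * d * (p ^ k)⁻¹ = (fun e => y⁻¹ * e * y)^[k] d ∧ (fun e => y⁻¹ * e * y)^[k] d ∈ E ∧
        (fun e => y⁻¹ * e * y)^[k] d ∈ C ∧ y * (fun e => y⁻¹ * e * y)^[k] d * y⁻¹ ∈ C) := by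
    intro k
    induction k with
    | zero =>
      intro d hd h1 h2
      simp only [pow_zero, one_mul, inv_one, mul_one, Function.iterate_zero, id_eq]
      exact ⟨trivial, hd, h1, h2⟩
    | succ k ih =>
      intro d hd h1 h2
      obtain ⟨h3, h4, h5, h6⟩ := ih d hd h1 h2
      rw [Function.iterate_succ_apply']
      set e := (fun e => y⁻¹ * e * y)^[k] d with he
      refine ⟨?_, h.conj_inv_mem h4, hstable e h4 h5 h6, ?_⟩
      · rw [← hkey e h4 h5 h6, ← h3]
        group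
      · have : y * (y⁻¹ * e * y) * y⁻¹ = e := by group
        rw [this]
        exact h5
  have htriv : ∀ d ∈ E, d ∈ C → y * d * y⁻¹ ∈ C → d = 1 := by
    intro d hd h1 h2
    obtain ⟨h3, -, -, -⟩ := hiter (orderOf p) d hd h1 h2
    rw [pow_orderOf_eq_one] at h3
    simp only [one_mul, inv_one, mul_one] at h3
    have hf3 : ∀ e : G, (fun e => y⁻¹ * e * y)^[3] e = e := by
      intro e
      show y⁻¹ * (y⁻¹ * (y⁻¹ * e * y) * y) * y = e
      have h4 : y⁻¹ * (y⁻¹ * (y⁻¹ * e * y) * y) * y = (y * y * y)⁻¹ * e * (y * y * y) := by group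
      rw [h4, hy]
      group
    have hper : Function.IsPeriodicPt (fun e => y⁻¹ * e * y) 3 d := hf3 d
    have hfix : Function.IsPeriodicPt (fun e => y⁻¹ * e * y) (orderOf p) d := h3.symm
    have hgcd := hper.gcd hfix
    have hcop : Nat.gcd 3 (orderOf p) = 1 := (Nat.Prime.coprime_iff_not_dvd (by norm_num)).mpr hp
    rw [hcop] at hgcd
    have h6 : y⁻¹ * d * y = d := hgcd
    apply h.fix hS hd
    calc y * d * y⁻¹ = y * (y⁻¹ * d * y) * y⁻¹ := by rw [h6]
      _ = d := by group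
  -- injection into pairs of booleans
  let F : E → Prop × Prop := fun e => ((e : G) ∈ C, y * (e : G) * y⁻¹ ∈ C)
  have hFinj : Function.Injective F := by
    intro a b hab
    have h1 : ((a : G) ∈ C ↔ (b : G) ∈ C) := by
      have := congrArg Prod.fst hab
      simpa [F] using this
    have h2 : (y * (a : G) * y⁻¹ ∈ C ↔ y * (b : G) * y⁻¹ ∈ C) := by
      have := congrArg Prod.snd hab
      simpa [F] using this
    have hgen : ∀ c d : G, c ∈ E → d ∈ E → (c ∈ C ↔ d ∈ C) → c⁻¹ * d ∈ C := by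
      intro c d hc hd hcd
      by_cases h3 : c ∈ C
      · exact C.mul_mem (C.inv_mem h3) (hcd.mp h3)
      · have h4 : d ∉ C := fun h5 => h3 (hcd.mpr h5)
        exact (mC _).mpr (hidx c hc d hd (fun h5 => h3 ((mC _).mpr h5)) (fun h5 => h4 ((mC _).mpr h5)))
    have h3 := hgen a b a.2 b.2 h1
    have h4 := hgen _ _ (h.nor _ a.2) (h.nor _ b.2) h2
    have h5 : (a : G)⁻¹ * b = 1 := by
      apply htriv _ (E.mul_mem (E.inv_mem a.2) b.2) h3
      have h6 : y * ((a : G)⁻¹ * b) * y⁻¹ = (y * (a : G) * y⁻¹)⁻¹ * (y * (b : G) * y⁻¹) := by group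
      rw [h6]
      exact h4
    apply Subtype.ext
    exact mul_left_cancel (a := ((a : G)⁻¹)) (by rw [h5]; group)
  have h10 := Nat.card_le_card_of_injective F hFinj
  have h11 : Nat.card (Prop × Prop) = 4 := by
    rw [Nat.card_prod]
    simp
  omega

end Act

end Cfsg.Agent.Lib.Blocks.SC3
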