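import Mathlib
import Cfsg.Agent.Lib.Blocks.SC3A

/-!
# Groups with a self-centralizing subgroup of order 3: Sylow and transfer tools
-/

set_option autoImplicit false

namespace Cfsg.Agent.Lib.Blocks.SC3

universe u

variable {G : Type u} [Group G]

/-- A nilpotent group has a `p`-part. -/
theorem exists_pPart [Finite G] {E : Subgroup G} (hE : Group.IsNilpotent E) (p : ℕ) [hp : Fact p.Prime] :
    ∃ P : Subgroup G, P ≤ E ∧ (∀ g ∈ P, ∃ k, g ^ p ^ k = 1) ∧ (∀ g ∈ E, (∃ k, g ^ p ^ k = 1) → g ∈ P) := by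
  classical
  have hn : ∀ (q : ℕ) (_ : Fact q.Prime) (T : Sylow q E), ((T : Subgroup E)).Normal :=
    (isNilpotent_of_finite_tfae (G := E)).out 0 3 |>.mp hE
  let T : Sylow p E := default
  haveI := hn p hp T
  refine ⟨(T : Subgroup E).map E.subtype, ?_, ?_, ?_⟩
  · rintro _ ⟨g, _, rfl⟩
    exact g.2
  · rintro _ ⟨g, hg, rfl⟩
    obtain ⟨k, hk⟩ := (IsPGroup.iff_orderOf.mp T.isPGroup') ⟨g, hg⟩
    refine ⟨k, ?_⟩
    have h1 : (g : E) ^ p ^ k = 1 := by
      rw [← hk]
      have := pow_orderOf_eq_one (⟨g, hg⟩ : (T : Subgroup E))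
      have h2 := congrArg Subtype.val this
      simpa [hk] using h2
    have h2 := congrArg Subtype.val h1
    simpa using h2
  · intro g hg ⟨k, hk⟩
    have h1 : IsPGroup p (Subgroup.zpowers (⟨g, hg⟩ : E)) := by
      rw [IsPGroup.iff_card, Nat.card_zpowers]
      have h3 : (⟨g, hg⟩ : E) ^ p ^ k = 1 := by
        apply Subtype.ext
        simpa using hk
      obtain ⟨i, _, hi⟩ := (Nat.dvd_prime_pow hp.out).mp (orderOf_dvd_of_pow_eq_one h3)
      exact ⟨i, hi⟩
    obtain ⟨T', hT'⟩ := h1.exists_le_sylow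
    have h2 : T' = T := by
      haveI := Sylow.unique_of_normal T inferInstance
      exact Subsingleton.elim _ _
    subst h2
    exact ⟨⟨g, hg⟩, hT' (Subgroup.mem_zpowers _), rfl⟩

/-- Elements of coprime prime-power orders commute in a nilpotent group. -/
theorem commute_of_nilpotent [Finite G] {E : Subgroup G} (hE : Group.IsNilpotent E) {p q : ℕ} [hp : Fact p.Prime]
    [hq : Fact q.Prime] (hpq : p ≠ q) {a b : G} (ha : a ∈ E) (hb : b ∈ E) {i j : ℕ} (hai : a ^ p ^ i = 1)
    (hbj : b ^ q ^ j = 1) : a * b = b * a := by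
  have hn : ∀ (r : ℕ) (_ : Fact r.Prime) (T : Sylow r E), ((T : Subgroup E)).Normal :=
    (isNilpotent_of_finite_tfae (G := E)).out 0 3 |>.mp hE
  -- the `q`-part is normalized by `a`, and the commutator is both a `p`- and a `q`-element
  have hsyl : ∀ (r : ℕ) (_ : Fact r.Prime) (c : E) (k : ℕ), c ^ r ^ k = 1 → ∀ T : Sylow r E, c ∈ (T : Subgroup E) := by
    intro r hr c k hc T
    have h1 : IsPGroup r (Subgroup.zpowers c) := by
      rw [IsPGroup.iff_card, Nat.card_zpowers]
      obtain ⟨i, _, hi⟩ := (Nat.dvd_prime_pow hr.out).mp (orderOf_dvd_of_pow_eq_one hc)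
      exact ⟨i, hi⟩
    obtain ⟨T', hT'⟩ := h1.exists_le_sylow
    have h2 : T' = T := by
      haveI := Sylow.unique_of_normal T (hn r hr T)
      exact Subsingleton.elim _ _
    subst h2
    exact hT' (Subgroup.mem_zpowers _)
  let a' : E := ⟨a, ha⟩
  let b' : E := ⟨b, hb⟩
  have ha' : a' ^ p ^ i = 1 := Subtype.ext (by simpa [a'] using hai)
  have hb' : b' ^ q ^ j = 1 := Subtype.ext (by simpa [b'] using hbj)
  let P : Sylow p E := default
  let Q : Sylow q E := default
  have hP := hsyl p hp a' i ha' P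
  have hQ := hsyl q hq b' j hb' Q
  haveI := hn p hp P
  haveI := hn q hq Q
  have hd : Disjoint (P : Subgroup E) (Q : Subgroup E) := by
    apply IsPGroup.disjoint_of_ne p q hpq _ _ P.isPGroup' Q.isPGroup'
  have hc := Subgroup.commute_of_normal_of_disjoint (P : Subgroup E) (Q : Subgroup E) inferInstance inferInstance hd
    a' b' hP hQ
  have := congrArg Subtype.val hc.eq
  simpa [a', b'] using this

/-- A 3-subgroup has at most 3 elements. -/
theorem card_le_three [Finite G] (hS : SCH G) (P : Subgroup G) (hP : IsPGroup 3 P) : Nat.card P ≤ 3 := by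
  classical
  haveI : Fact (Nat.Prime 3) := ⟨by norm_num⟩
  by_cases h1 : Nat.card P = 1
  · omega
  haveI : Nontrivial P := by
    rw [← Finite.one_lt_card_iff_nontrivial]
    have := Nat.card_pos (α := P)
    omega
  haveI := hP.center_nontrivial
  obtain ⟨k, hk⟩ := IsPGroup.iff_card.mp (hP.to_subgroup (Subgroup.center P))
  have hk0 : k ≠ 0 := by
    rintro rfl
    have h2 := Finite.one_lt_card_iff_nontrivial.mpr (inferInstance : Nontrivial (Subgroup.center P))
    rw [hk] at h2
    simp at h2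
  have h3 : 3 ∣ Nat.card (Subgroup.center P) := by
    rw [hk]
    exact dvd_pow_self 3 hk0
  obtain ⟨w, hw⟩ := exists_prime_orderOf_dvd_card' (G := Subgroup.center P) 3 h3
  have hw3 : orderOf (w : G) = 3 := by
    have h4 : orderOf ((w : P) : G) = orderOf (w : P) := Subgroup.orderOf_coe _
    have h5 : orderOf (w : P) = orderOf w := Subgroup.orderOf_coe _
    rw [h4, h5, hw]
  have hle : P ≤ Subgroup.zpowers ((w : P) : G) := by
    intro g hg
    apply hS _ hw3
    have h6 := (Subgroup.mem_center_iff.mp w.2) ⟨g, hg⟩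
    have h7 := congrArg Subtype.val h6
    simpa using h7
  have h8 := Subgroup.card_le_of_le hle
  rw [Nat.card_zpowers, hw3] at h8
  exact h8

/-- **Burnside and Thompson.** -/
theorem exists_complement [Finite G] (hS : SCH G) (M : Subgroup G) {y : G} (hy : orderOf y = 3) (hyM : y ∈ M)
    (hno : ∀ g ∈ M, g * y * g⁻¹ ≠ y⁻¹) :
    ∃ C : Subgroup G, C ≤ M ∧ (∀ g ∈ M, ∀ c ∈ C, g * c * g⁻¹ ∈ C) ∧ ¬ 3 ∣ Nat.card C ∧
      (∀ g ∈ M, ∃ c ∈ C, ∃ i : ℕ, g = c * y ^ i) ∧ Group.IsNilpotent C := by
  classical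
  haveI : Fact (Nat.Prime 3) := ⟨by norm_num⟩
  let y' : M := ⟨y, hyM⟩
  have hy' : orderOf y' = 3 := by
    rw [← Subgroup.orderOf_coe]
    exact hy
  have hX : IsPGroup 3 (Subgroup.zpowers y') := by
    rw [IsPGroup.iff_card, Nat.card_zpowers, hy']
    exact ⟨1, by norm_num⟩
  obtain ⟨P, hP⟩ := hX.exists_le_sylow
  have hPcard : Nat.card (P : Subgroup M) ≤ 3 := by
    have h1 := card_le_three hS ((P : Subgroup M).map M.subtype) (by
      rw [IsPGroup.iff_card, Subgroup.card_map_of_injective M.subtype_injective]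
      exact IsPGroup.iff_card.mp P.isPGroup')
    rwa [Subgroup.card_map_of_injective M.subtype_injective] at h1
  have hPX : (P : Subgroup M) = Subgroup.zpowers y' := by
    symm
    apply Subgroup.eq_of_le_of_card_ge hP
    rw [Nat.card_zpowers, hy']
    exact hPcard
  have hmem3 : ∀ a ∈ Subgroup.zpowers y', a = 1 ∨ a = y' ∨ a = y' * y' := by
    intro a ha
    rw [mem_zpowers_iff_mem_range_orderOf, hy'] at ha
    simp only [Finset.mem_image, Finset.mem_range] at ha
    obtain ⟨i, hi, rfl⟩ := ha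
    interval_cases i
    · left; simp
    · right; left; simp
    · right; right; rw [pow_two]
  have hyy : y' * y' = y'⁻¹ := by
    rw [eq_inv_iff_mul_eq_one]
    exact cube_eq_one hy'
  have hNC : Subgroup.normalizer ((P : Subgroup M) : Set M) ≤ Subgroup.centralizer ((P : Subgroup M) : Set M) := by
    intro g hg
    rw [Subgroup.mem_centralizer_iff]
    intro h hh
    rw [SetLike.mem_coe] at hh
    have hc : g * y' * g⁻¹ = y' := by
      have h1 : g * y' * g⁻¹ ∈ (P : Subgroup M) := by
        rw [Subgroup.mem_normalizer_iff] at hg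
        exact (hg y').mp (hP (Subgroup.mem_zpowers _))
      rw [hPX] at h1
      rcases hmem3 _ h1 with h2 | h2 | h2
      · exfalso
        have h3 : y' = 1 := by
          have h4 : y' = g⁻¹ * (g * y' * g⁻¹) * g := by group
          rw [h4, h2]
          group
        rw [h3, orderOf_one] at hy'
        omega
      · exact h2
      · exfalso
        rw [hyy] at h2
        apply hno g g.2
        have := congrArg Subtype.val h2
        simpa [y'] using this
    rw [hPX] at hh
    obtain ⟨i, rfl⟩ := Subgroup.mem_zpowers_iff.mp hh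
    have h5 : Commute g y' := by
      show g * y' = y' * g
      have h6 : g * y' = (g * y' * g⁻¹) * g := by group
      rw [h6, hc]
    exact (h5.zpow_right i).eq.symm
  have hcomp := MonoidHom.ker_transferSylow_isComplement' P hNC
  set C' : Subgroup M := (MonoidHom.transferSylow P hNC).ker with hC'
  have hcard : Nat.card C' = (P : Subgroup M).index := hcomp.index_eq_card.symm
  have hnd : ¬ 3 ∣ Nat.card C' := by
    rw [hcard]
    exact P.not_dvd_index
  have hnm : ∀ g : M, ∀ c ∈ C', g * c * g⁻¹ ∈ C' := fun g c hc =>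
    (inferInstance : C'.Normal).conj_mem c hc g
  refine ⟨C'.map M.subtype, ?_, ?_, ?_, ?_, ?_⟩
  · rintro _ ⟨c, _, rfl⟩
    exact c.2
  · rintro g hg _ ⟨c, hc, rfl⟩
    exact ⟨_, hnm ⟨g, hg⟩ c hc, rfl⟩
  · rw [Subgroup.card_map_of_injective M.subtype_injective]
    exact hnd
  · intro g hg
    obtain ⟨⟨c, p⟩, hcp⟩ := hcomp.2 (⟨g, hg⟩ : M)
    have hp : (p : M) ∈ Subgroup.zpowers y' := by
      rw [← hPX]
      exact p.2
    rw [mem_zpowers_iff_mem_range_orderOf, hy'] at hp
    simp only [Finset.mem_image, Finset.mem_range] at hp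
    obtain ⟨i, _, hi⟩ := hp
    refine ⟨(c : M), ⟨c, c.2, rfl⟩, i, ?_⟩
    have h1 := congrArg Subtype.val hcp
    simp only [Subgroup.coe_mul] at h1
    rw [← h1, ← hi]
    simp [y']
  · have hact : Act (C'.map M.subtype) y := by
      refine ⟨hy, ?_, ?_⟩
      · rintro _ ⟨c, hc, rfl⟩
        exact ⟨_, hnm y' c hc, rfl⟩
      · rw [Subgroup.card_map_of_injective M.subtype_injective]
        exact hnd
    exact hact.isNilpotent hS

end Cfsg.Agent.Lib.Blocks.SC3
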