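import Mathlib
import Cfsg.Agent.Lib.Blocks.SC3B

/-!
# Groups with a self-centralizing subgroup of order 3: four-groups normalized by elements of order 3
-/

set_option autoImplicit false

namespace Cfsg.Agent.Lib.Blocks.SC3

universe u

variable {G : Type u} [Group G]

/-- The centralizer of an element. -/
abbrev Cn (t : G) : Subgroup G := Subgroup.centralizer ({t} : Set G)

theorem mem_Cn {t g : G} : g ∈ Cn t ↔ g * t = t * g := Subgroup.mem_centralizer_singleton_iff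

/-- Elements `y` of order 3 with `t y` of order 3. -/
def Zt (t : G) : Set G := {y | orderOf y = 3 ∧ orderOf (t * y) = 3}

/-- The involutions `y t y⁻¹`. -/
def Jt (t : G) : Set G := {r | ∃ y ∈ Zt t, y * t * y⁻¹ = r}

/-- `C(t) ∩ C(r)`. -/
abbrev Er (t r : G) : Subgroup G := Cn t ⊓ Cn r

theorem mem_Er {t r g : G} : g ∈ Er t r ↔ g * t = t * g ∧ g * r = r * g := by
  rw [Subgroup.mem_inf, mem_Cn, mem_Cn]

/-- The relations in `⟨t, y⟩`. -/
structure Tri (t y r : G) : Prop where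
  ht : t * t = 1
  hy : y * y * y = 1
  hy3 : orderOf y = 3
  hne : t ≠ 1
  yt : y * t * y⁻¹ = r
  hr : r * r = 1
  comm : t * r = r * t
  yr : y * r * y⁻¹ = t * r
  ytr : y * (t * r) * y⁻¹ = t
  inv : y⁻¹ * t * y = t * r

theorem tri_of_mem {t y : G} (ht : orderOf t = 2) (hy : y ∈ Zt t) : Tri t y (y * t * y⁻¹) := by
  have ht1 : t * t = 1 := by
    have := pow_orderOf_eq_one t
    rwa [ht, pow_two] at this
  have hy1 := cube_eq_one hy.1
  have hty := cube_eq_one hy.2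
  have hne : t ≠ 1 := by
    rintro rfl
    rw [orderOf_one] at ht
    omega
  have hyy : y * y = y⁻¹ := by
    rw [eq_inv_iff_mul_eq_one]
    exact hy1
  set r := y * t * y⁻¹ with hr
  have hr1 : r * r = 1 := by
    rw [hr]
    calc y * t * y⁻¹ * (y * t * y⁻¹) = y * (t * t) * y⁻¹ := by group
      _ = 1 := by rw [ht1]; group
  have h1 : t * r * (y⁻¹ * t * y) = 1 := by
    calc t * r * (y⁻¹ * t * y) = t * r * ((y * y) * t * (y * y)⁻¹) := by rw [hyy, inv_inv]
      _ = (t * y) * (t * y) * (t * y) * (y * y * y)⁻¹ := by rw [hr]; group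
      _ = 1 := by rw [hty, hy1]; group
  have h2 : y⁻¹ * t * y = r * t := by
    have h3 : y⁻¹ * t * y = (t * r)⁻¹ := eq_inv_of_mul_eq_one_right h1
    rw [h3, mul_inv_rev]
    rw [show r⁻¹ = r from inv_eq_of_mul_eq_one_right hr1, show t⁻¹ = t from inv_eq_of_mul_eq_one_right ht1]
  have h4 : (r * t) * (r * t) = 1 := by
    rw [← h2]
    calc y⁻¹ * t * y * (y⁻¹ * t * y) = y⁻¹ * (t * t) * y := by group
      _ = 1 := by rw [ht1]; group
  have hcomm : t * r = r * t := by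
    have h5 : (r * t)⁻¹ = r * t := inv_eq_of_mul_eq_one_right h4
    rw [mul_inv_rev, show r⁻¹ = r from inv_eq_of_mul_eq_one_right hr1,
      show t⁻¹ = t from inv_eq_of_mul_eq_one_right ht1] at h5
    exact h5
  have h6 : y⁻¹ * t * y = t * r := by rw [h2, hcomm]
  refine ⟨ht1, hy1, hy.1, hne, rfl, hr1, hcomm, ?_, ?_, h6⟩
  · rw [hr, ← h6]
    calc y * (y * t * y⁻¹) * y⁻¹ = (y * y) * t * (y * y)⁻¹ := by group
      _ = _ := by rw [hyy, inv_inv]
  · rw [← h6]
    group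

namespace Tri

variable {t y r : G}

theorem inv_t (h : Tri t y r) : t⁻¹ = t := inv_eq_of_mul_eq_one_right h.ht

theorem inv_r (h : Tri t y r) : r⁻¹ = r := inv_eq_of_mul_eq_one_right h.hr

theorem r_ne_one [Finite G] (hS : SCH G) (h : Tri t y r) : r ≠ 1 := by
  rintro rfl
  apply h.hne
  have := h.yt
  have h2 : t = y⁻¹ * (y * t * y⁻¹) * y := by group
  rw [h2, this]
  group

/-- An involution does not commute with an element of order 3. -/
theorem not_commute_inv [Finite G] (hS : SCH G) {t y : G} (ht : t * t = 1) (hne : t ≠ 1) (hy : orderOf y = 3) :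
    t * y ≠ y * t := by
  intro h1
  have h2 := hS y hy t h1
  have h3 := pow_eq_one_of_mem_zpowers hy h2
  apply hne
  calc t = t ^ 3 * (t * t)⁻¹ := by group
    _ = 1 := by rw [h3, ht]; group

theorem r_ne_t [Finite G] (hS : SCH G) (h : Tri t y r) : r ≠ t := by
  intro h1
  apply not_commute_inv hS h.ht h.hne h.hy3
  have h2 := h.yt
  rw [h1] at h2
  calc t * y = (y * t * y⁻¹) * y := by rw [h2]
    _ = y * t := by group

theorem tr_ne_one [Finite G] (hS : SCH G) (h : Tri t y r) : t * r ≠ 1 := by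
  intro h1
  apply h.r_ne_t hS
  have h2 : r = t⁻¹ := eq_inv_of_mul_eq_one_right h1
  rw [h2, h.inv_t]

theorem tr_ne_t [Finite G] (hS : SCH G) (h : Tri t y r) : t * r ≠ t := by
  intro h1
  exact h.r_ne_one hS (mul_eq_left.mp h1)

theorem tr_ne_r (h : Tri t y r) : t * r ≠ r := by
  intro h1
  exact h.hne (mul_eq_right.mp h1)

/-- `C(t) ∩ C(r)` commutes with `t r`. -/
theorem comm_tr {g : G} (hg : g ∈ Er t r) : g * (t * r) = (t * r) * g := by
  obtain ⟨h1, h2⟩ := mem_Er.mp hg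
  rw [← mul_assoc, h1, mul_assoc, h2, mul_assoc]

theorem t_mem (h : Tri t y r) : t ∈ Er t r := mem_Er.mpr ⟨rfl, h.comm⟩

theorem r_mem (h : Tri t y r) : r ∈ Er t r := mem_Er.mpr ⟨h.comm.symm, rfl⟩

/-- The order of a subgroup of a centralizer of an involution is prime to 3. -/
theorem cop_of_le [Finite G] (hS : SCH G) (ht : t * t = 1) (hne : t ≠ 1) {E : Subgroup G} (hE : E ≤ Cn t) :
    ¬ 3 ∣ Nat.card E := by
  intro h3
  haveI : Fact (Nat.Prime 3) := ⟨by norm_num⟩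
  obtain ⟨w, hw⟩ := exists_prime_orderOf_dvd_card' (G := E) 3 h3
  have hw3 : orderOf (w : G) = 3 := by
    rw [Subgroup.orderOf_coe, hw]
  apply not_commute_inv hS ht hne hw3
  exact (mem_Cn.mp (hE w.2)).symm

theorem act [Finite G] (hS : SCH G) (h : Tri t y r) : Act (Er t r) y := by
  refine ⟨h.hy3, ?_, cop_of_le hS h.ht h.hne inf_le_left⟩
  intro e he
  obtain ⟨h1, h2⟩ := mem_Er.mp he
  have h3 := comm_tr he
  rw [mem_Er]
  constructor
  · calc y * e * y⁻¹ * t = y * e * y⁻¹ * (y * (t * r) * y⁻¹) := by rw [h.ytr]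
      _ = y * (e * (t * r)) * y⁻¹ := by group
      _ = y * ((t * r) * e) * y⁻¹ := by rw [h3]
      _ = (y * (t * r) * y⁻¹) * (y * e * y⁻¹) := by group
      _ = _ := by rw [h.ytr]
  · calc y * e * y⁻¹ * r = y * e * y⁻¹ * (y * t * y⁻¹) := by rw [h.yt]
      _ = y * (e * t) * y⁻¹ := by group
      _ = y * (t * e) * y⁻¹ := by rw [h1]
      _ = (y * t * y⁻¹) * (y * e * y⁻¹) := by group
      _ = _ := by rw [h.yt]

end Tri

/-- `Jt` is invariant under `C(t)`, `Zt` too. -/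
theorem conj_mem_Zt {t y h : G} (hh : h ∈ Cn t) (hy : y ∈ Zt t) : h * y * h⁻¹ ∈ Zt t := by
  have hc := mem_Cn.mp hh
  refine ⟨?_, ?_⟩
  · have : h * y * h⁻¹ = (MulAut.conj h) y := rfl
    rw [this, MulEquiv.orderOf_eq]
    exact hy.1
  · have h1 : t * (h * y * h⁻¹) = (MulAut.conj h) (t * y) := by
      show t * (h * y * h⁻¹) = h * (t * y) * h⁻¹
      calc t * (h * y * h⁻¹) = (t * h) * y * h⁻¹ := by group
        _ = (h * t) * y * h⁻¹ := by rw [hc]
        _ = _ := by group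
    rw [h1, MulEquiv.orderOf_eq]
    exact hy.2

theorem conj_mem_Jt {t r h : G} (hh : h ∈ Cn t) (hr : r ∈ Jt t) : h * r * h⁻¹ ∈ Jt t := by
  obtain ⟨y, hy, rfl⟩ := hr
  refine ⟨_, conj_mem_Zt hh hy, ?_⟩
  have hc := mem_Cn.mp hh
  calc h * y * h⁻¹ * t * (h * y * h⁻¹)⁻¹ = h * y * (h⁻¹ * t * h) * y⁻¹ * h⁻¹ := by group
    _ = h * y * t * y⁻¹ * h⁻¹ := by
      have : h⁻¹ * t * h = t := by
        calc h⁻¹ * t * h = h⁻¹ * (h * t) := by rw [hc]; group
          _ = t := by group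
      rw [this]
    _ = _ := by group

/-- A choice of representatives of the `C(t)`-classes on `Jt t`. -/
structure Reps (t : G) (R : Finset G) : Prop where
  mem : ∀ ρ ∈ R, ρ ∈ Jt t
  cover : ∀ r ∈ Jt t, ∃ ρ ∈ R, ∃ h ∈ Cn t, h * ρ * h⁻¹ = r
  uniq : ∀ ρ ∈ R, ∀ ρ' ∈ R, ∀ h ∈ Cn t, h * ρ * h⁻¹ = ρ' → ρ = ρ'

/-- Existence of representatives with a property. -/
theorem exists_reps [Finite G] (t : G) (P : G → Prop) (hP : ∀ r ∈ Jt t, ∃ h ∈ Cn t, P (h * r * h⁻¹)) :
    ∃ R : Finset G, Reps t R ∧ ∀ ρ ∈ R, P ρ := by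
  classical
  haveI : Fintype G := Fintype.ofFinite G
  let s : Setoid (Jt t) :=
    { r := fun a b => ∃ h ∈ Cn t, h * (a : G) * h⁻¹ = b
      iseqv := by
        refine ⟨fun a => ⟨1, (Cn t).one_mem, by simp⟩, ?_, ?_⟩
        · rintro a b ⟨h, hh, he⟩
          refine ⟨h⁻¹, (Cn t).inv_mem hh, ?_⟩
          rw [← he]
          group
        · rintro a b c ⟨h, hh, he⟩ ⟨k, hk, hf⟩
          refine ⟨k * h, (Cn t).mul_mem hk hh, ?_⟩
          rw [← hf, ← he]
          group }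
  let rep : Quotient s → G := fun q => (hP q.out q.out.2).choose * (q.out : G) * (hP q.out q.out.2).choose⁻¹
  have hrep : ∀ q, (hP q.out q.out.2).choose ∈ Cn t ∧ P (rep q) := fun q => (hP q.out q.out.2).choose_spec
  have hrepJ : ∀ q, rep q ∈ Jt t := fun q => conj_mem_Jt (hrep q).1 q.out.2
  haveI : Fintype (Quotient s) := Fintype.ofFinite _
  refine ⟨Finset.univ.image rep, ⟨?_, ?_, ?_⟩, ?_⟩
  · intro ρ hρ
    obtain ⟨q, _, rfl⟩ := Finset.mem_image.mp hρ
    exact hrepJ q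
  · intro r hr
    let q : Quotient s := Quotient.mk s ⟨r, hr⟩
    have h1 : s.r q.out ⟨r, hr⟩ := Quotient.exact (Quotient.out_eq q)
    obtain ⟨h, hh, he⟩ := h1
    refine ⟨rep q, Finset.mem_image.mpr ⟨q, Finset.mem_univ _, rfl⟩, h * (hP q.out q.out.2).choose⁻¹,
      (Cn t).mul_mem hh ((Cn t).inv_mem (hrep q).1), ?_⟩
    simp only [rep]
    have he' : h * (q.out : G) * h⁻¹ = r := he
    rw [← he']
    group
  · intro ρ hρ ρ' hρ' h hh he
    obtain ⟨q, _, rfl⟩ := Finset.mem_image.mp hρ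
    obtain ⟨q', _, rfl⟩ := Finset.mem_image.mp hρ'
    have h1 : q = q' := by
      rw [← Quotient.out_eq q, ← Quotient.out_eq q']
      apply Quotient.sound
      refine ⟨(hP q'.out q'.out.2).choose⁻¹ * h * (hP q.out q.out.2).choose,
        (Cn t).mul_mem ((Cn t).mul_mem ((Cn t).inv_mem (hrep q').1) hh) (hrep q).1, ?_⟩
      simp only [rep] at he
      calc (hP q'.out q'.out.2).choose⁻¹ * h * (hP q.out q.out.2).choose * (q.out : G) *
            ((hP q'.out q'.out.2).choose⁻¹ * h * (hP q.out q.out.2).choose)⁻¹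
          = (hP q'.out q'.out.2).choose⁻¹ * (h * ((hP q.out q.out.2).choose * (q.out : G) *
              (hP q.out q.out.2).choose⁻¹) * h⁻¹) * (hP q'.out q'.out.2).choose := by group
        _ = _ := by rw [he]; group
    rw [h1]
  · intro ρ hρ
    obtain ⟨q, _, rfl⟩ := Finset.mem_image.mp hρ
    exact (hrep q).2

/-- Free action: `|Zt t| = |C(t)| |R|`. -/
theorem card_Zt [Finite G] (hS : SCH G) {t : G} (ht : orderOf t = 2) {R : Finset G} (hR : Reps t R) :
    Nat.card (Zt t) = Nat.card (Cn t) * R.card := by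
  classical
  have hch : ∀ ρ : R, ∃ y ∈ Zt t, y * t * y⁻¹ = (ρ : G) := fun ρ => hR.mem ρ ρ.2
  choose yy hyy hyt using hch
  let F : Cn t × R → Zt t := fun p => ⟨p.1 * yy p.2 * (p.1 : G)⁻¹, conj_mem_Zt p.1.2 (hyy p.2)⟩
  have hF : Function.Bijective F := by
    have hmap : ∀ (h : Cn t) (ρ : R), (h : G) * yy ρ * (h : G)⁻¹ * t * ((h : G) * yy ρ * (h : G)⁻¹)⁻¹ =
        (h : G) * ρ * (h : G)⁻¹ := by
      intro h ρ
      have hc := mem_Cn.mp h.2
      have h1 : (h : G)⁻¹ * t * h = t := by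
        calc (h : G)⁻¹ * t * h = (h : G)⁻¹ * (h * t) := by rw [hc]; group
          _ = t := by group
      calc (h : G) * yy ρ * (h : G)⁻¹ * t * ((h : G) * yy ρ * (h : G)⁻¹)⁻¹
          = h * yy ρ * ((h : G)⁻¹ * t * h) * (yy ρ)⁻¹ * (h : G)⁻¹ := by group
        _ = h * (yy ρ * t * (yy ρ)⁻¹) * (h : G)⁻¹ := by rw [h1]; group
        _ = _ := by rw [hyt]
    constructor
    · rintro ⟨h, ρ⟩ ⟨h', ρ'⟩ he
      have he' : (h : G) * yy ρ * (h : G)⁻¹ = h' * yy ρ' * (h' : G)⁻¹ := congrArg Subtype.val he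
      have h1 : (h : G) * ρ * (h : G)⁻¹ = h' * ρ' * (h' : G)⁻¹ := by
        rw [← hmap, ← hmap, he']
      have h2 : (ρ : G) = ρ' := by
        apply hR.uniq ρ ρ.2 ρ' ρ'.2 ((h' : G)⁻¹ * h) ((Cn t).mul_mem ((Cn t).inv_mem h'.2) h.2)
        calc (h' : G)⁻¹ * h * ρ * ((h' : G)⁻¹ * h)⁻¹ = (h' : G)⁻¹ * (h * ρ * (h : G)⁻¹) * h' := by group
          _ = _ := by rw [h1]; group
      have h3 : ρ = ρ' := Subtype.ext h2
      subst h3
      -- `h'⁻¹ h` centralizes `yy ρ`, and `t`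
      have h4 : ((h' : G)⁻¹ * h) * yy ρ = yy ρ * ((h' : G)⁻¹ * h) := by
        calc ((h' : G)⁻¹ * h) * yy ρ = (h' : G)⁻¹ * (h * yy ρ * (h : G)⁻¹) * h := by group
          _ = (h' : G)⁻¹ * (h' * yy ρ * (h' : G)⁻¹) * h := by rw [he']
          _ = _ := by group
      have h5 := hS _ (hyy ρ).1 _ h4
      have hw3 := pow_eq_one_of_mem_zpowers (hyy ρ).1 h5
      -- an element of order 1 or 3 in `C(t)`
      have hwc : (h' : G)⁻¹ * h ∈ Cn t := (Cn t).mul_mem ((Cn t).inv_mem h'.2) h.2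
      have ht1 : t * t = 1 := by
        have := pow_orderOf_eq_one t
        rwa [ht, pow_two] at this
      have hne : t ≠ 1 := by
        rintro rfl
        rw [orderOf_one] at ht
        omega
      have h6 : (h' : G)⁻¹ * h = 1 := by
        by_contra h7
        have h8 : orderOf ((h' : G)⁻¹ * h) = 3 := orderOf_eq_prime hw3 h7
        apply Tri.not_commute_inv hS ht1 hne h8
        exact (mem_Cn.mp hwc).symm
      have h9 : (h : G) = h' := by
        have := mul_eq_one_iff_eq_inv.mp h6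
        exact (inv_inj.mp this).symm
      have h10 : h = h' := Subtype.ext h9
      rw [h10]
    · rintro ⟨y, hy⟩
      obtain ⟨ρ, hρ, h, hh, he⟩ := hR.cover (y * t * y⁻¹) ⟨y, hy, rfl⟩
      let ρ' : R := ⟨ρ, hρ⟩
      -- `y' = h⁻¹ y h` carries `t` to `ρ`
      set y' := h⁻¹ * y * h with hy'
      have hhc := mem_Cn.mp hh
      have hh1 : h⁻¹ * t * h = t := by
        calc h⁻¹ * t * h = h⁻¹ * (h * t) := by rw [hhc]; group
          _ = t := by group
      have hy'Z : y' ∈ Zt t := by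
        have := conj_mem_Zt ((Cn t).inv_mem hh) hy
        simpa [hy'] using this
      have hy't : y' * t * y'⁻¹ = ρ := by
        have h1 : y' * t * y'⁻¹ = h⁻¹ * (y * (h * t * h⁻¹) * y⁻¹) * h := by rw [hy']; group
        have h2 : h * t * h⁻¹ = t := by rw [hhc]; group
        rw [h1, h2, ← he]
        group
      have ht0 := tri_of_mem ht (hyy ρ')
      have hact := ht0.act hS
      have hyt0 : yy ρ' * t * (yy ρ')⁻¹ = ρ := hyt ρ'
      rw [hyt0] at ht0 hact
      have ht1 := tri_of_mem ht hy'Z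
      rw [hy't] at ht1
      -- `e = y' y0⁻¹` lies in `Er t ρ`
      have hemem : y' * (yy ρ')⁻¹ ∈ Er t ρ := by
        rw [mem_Er]
        constructor
        · have h1 : (y' * (yy ρ')⁻¹) * t * (y' * (yy ρ')⁻¹)⁻¹ = y' * ((yy ρ')⁻¹ * t * yy ρ') * y'⁻¹ := by group
          have h2 : y' * (t * ρ) * y'⁻¹ = t := ht1.ytr
          rw [ht0.inv, h2] at h1
          calc y' * (yy ρ')⁻¹ * t = (y' * (yy ρ')⁻¹) * t * (y' * (yy ρ')⁻¹)⁻¹ * (y' * (yy ρ')⁻¹) := by group
            _ = _ := by rw [h1]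
        · have h1 : (y' * (yy ρ')⁻¹) * ρ * (y' * (yy ρ')⁻¹)⁻¹ = y' * ((yy ρ')⁻¹ * ρ * yy ρ') * y'⁻¹ := by group
          have h2 : (yy ρ')⁻¹ * ρ * yy ρ' = t := by
            rw [← hyt0]
            group
          rw [h2, hy't] at h1
          calc y' * (yy ρ')⁻¹ * ρ = (y' * (yy ρ')⁻¹) * ρ * (y' * (yy ρ')⁻¹)⁻¹ * (y' * (yy ρ')⁻¹) := by group
            _ = _ := by rw [h1]
      obtain ⟨w, hw, hwe⟩ := hact.coset_conj hS hemem
      have hwH : w ∈ Cn t := (Subgroup.mem_inf.mp hw).1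
      refine ⟨(⟨h * w, (Cn t).mul_mem hh hwH⟩, ρ'), ?_⟩
      apply Subtype.ext
      show (h * w) * yy ρ' * (h * w)⁻¹ = y
      have h3 : y' = w * yy ρ' * w⁻¹ := by
        rw [← hwe]
        group
      calc (h * w) * yy ρ' * (h * w)⁻¹ = h * (w * yy ρ' * w⁻¹) * h⁻¹ := by group
        _ = h * y' * h⁻¹ := by rw [h3]
        _ = y := by rw [hy']; group
  have h1 := Nat.card_congr (Equiv.ofBijective F hF)
  rw [← h1, Nat.card_prod]
  congr 1
  simp

end Cfsg.Agent.Lib.Blocks.SC3
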