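import Mathlib
import Cfsg.Agent.Lib.Blocks.SC3C

/-!
# Groups with a self-centralizing subgroup of order 3: the number of classes of involutions
-/

set_option autoImplicit false

namespace Cfsg.Agent.Lib.Blocks.SC3

universe u

variable {G : Type u} [Group G]

/-- The `A`-class of `r`. -/
def cls (A : Subgroup G) (r : G) : Set G := {g | ∃ h ∈ A, h * r * h⁻¹ = g}

theorem self_mem_cls (A : Subgroup G) (r : G) : r ∈ cls A r := ⟨1, A.one_mem, by simp⟩

/-- Orbit-stabilizer. -/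
theorem card_cls_mul [Finite G] (A : Subgroup G) (r : G) :
    Nat.card (cls A r) * Nat.card (A ⊓ Cn r : Subgroup G) = Nat.card A := by
  classical
  have hch : ∀ ω : cls A r, ∃ h ∈ A, h * r * h⁻¹ = (ω : G) := fun ω => ω.2
  choose a ha haw using hch
  let F : cls A r × (A ⊓ Cn r : Subgroup G) → A := fun p => ⟨a p.1 * p.2, A.mul_mem (ha p.1) (Subgroup.mem_inf.mp p.2.2).1⟩
  have hcomm : ∀ (k : (A ⊓ Cn r : Subgroup G)), (k : G) * r * (k : G)⁻¹ = r := by
    intro k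
    rw [mem_Cn.mp (Subgroup.mem_inf.mp k.2).2]
    group
  have hF : Function.Bijective F := by
    constructor
    · rintro ⟨ω, k⟩ ⟨ω', k'⟩ he
      have he' : a ω * (k : G) = a ω' * k' := congrArg Subtype.val he
      have h1 : (ω : G) = ω' := by
        rw [← haw ω, ← haw ω']
        have h2 : a ω * r * (a ω)⁻¹ = (a ω * (k : G)) * r * (a ω * (k : G))⁻¹ := by
          calc a ω * r * (a ω)⁻¹ = a ω * ((k : G) * r * (k : G)⁻¹) * (a ω)⁻¹ := by rw [hcomm]
            _ = _ := by group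
        have h3 : a ω' * r * (a ω')⁻¹ = (a ω' * (k' : G)) * r * (a ω' * (k' : G))⁻¹ := by
          calc a ω' * r * (a ω')⁻¹ = a ω' * ((k' : G) * r * (k' : G)⁻¹) * (a ω')⁻¹ := by rw [hcomm]
            _ = _ := by group
        rw [h2, h3, he']
      have h2 : ω = ω' := Subtype.ext h1
      subst h2
      have h3 : (k : G) = k' := mul_left_cancel he'
      rw [Subtype.ext h3]
    · rintro ⟨g, hg⟩
      let ω : cls A r := ⟨g * r * g⁻¹, g, hg, rfl⟩
      have hk : (a ω)⁻¹ * g ∈ (A ⊓ Cn r : Subgroup G) := by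
        refine Subgroup.mem_inf.mpr ⟨A.mul_mem (A.inv_mem (ha ω)) hg, ?_⟩
        rw [mem_Cn]
        have h1 : a ω * r * (a ω)⁻¹ = g * r * g⁻¹ := haw ω
        have h2 : r = (a ω)⁻¹ * g * r * g⁻¹ * a ω := by
          calc r = (a ω)⁻¹ * (a ω * r * (a ω)⁻¹) * a ω := by group
            _ = _ := by rw [h1]; group
        calc (a ω)⁻¹ * g * r = ((a ω)⁻¹ * g * r * g⁻¹ * a ω) * ((a ω)⁻¹ * g) := by group
          _ = _ := by rw [← h2]
      refine ⟨(ω, ⟨_, hk⟩), ?_⟩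
      apply Subtype.ext
      show a ω * ((a ω)⁻¹ * g) = g
      group
  have h1 := Nat.card_congr (Equiv.ofBijective F hF)
  rw [Nat.card_prod] at h1
  exact h1

/-- Counting disjoint classes. -/
theorem count_cls [Finite G] (S : Subgroup G) (F : Finset G) (U : Set G) (hU : ∀ ρ ∈ F, cls S ρ ⊆ U)
    (hdis : ∀ ρ ∈ F, ∀ ρ' ∈ F, ρ ≠ ρ' → Disjoint (cls S ρ) (cls S ρ'))
    (hsize : ∀ ρ ∈ F, Nat.card S ≤ 4 * Nat.card (cls S ρ)) : F.card * Nat.card S ≤ 4 * Nat.card U := by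
  classical
  haveI : Fintype G := Fintype.ofFinite G
  have h1 : ∑ ρ ∈ F, (cls S ρ).toFinset.card = (F.biUnion fun ρ => (cls S ρ).toFinset).card := by
    rw [Finset.card_biUnion]
    intro ρ hρ ρ' hρ' hne
    rw [Function.onFun, Set.disjoint_toFinset]
    exact hdis ρ hρ ρ' hρ' hne
  have h2 : (F.biUnion fun ρ => (cls S ρ).toFinset) ⊆ U.toFinset := by
    intro x hx
    obtain ⟨ρ, hρ, hx⟩ := Finset.mem_biUnion.mp hx
    rw [Set.mem_toFinset] at hx ⊢
    exact hU ρ hρ hx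
  have h3 := Finset.card_le_card h2
  rw [← h1] at h3
  have h4 : ∀ s : Set G, Nat.card s = s.toFinset.card := by
    intro s
    rw [Nat.card_eq_fintype_card, Set.toFinset_card]
  rw [h4 U]
  calc F.card * Nat.card S = ∑ ρ ∈ F, Nat.card S := by simp
    _ ≤ ∑ ρ ∈ F, 4 * (cls S ρ).toFinset.card := by
      refine Finset.sum_le_sum fun ρ hρ => ?_
      rw [← h4]
      exact hsize ρ hρ
    _ = 4 * ∑ ρ ∈ F, (cls S ρ).toFinset.card := by rw [Finset.mul_sum]
    _ ≤ _ := by omega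

/-- Normalizers grow in 2-groups. -/
theorem exists_norm_of_lt [Finite G] {A B : Subgroup G} (hB : IsPGroup 2 B) (hAB : A ≤ B) (hne : ¬ B ≤ A) :
    ∃ g ∈ B, g ∉ A ∧ g ∈ Subgroup.normalizer (A : Set G) := by
  classical
  haveI : Fact (Nat.Prime 2) := ⟨by norm_num⟩
  haveI : Group.IsNilpotent B := hB.isNilpotent
  have hcond := normalizerCondition_of_isNilpotent (G := B)
  have hlt : A.subgroupOf B < ⊤ := by
    rw [lt_top_iff_ne_top]
    intro h1
    apply hne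
    intro g hg
    have h2 : (⟨g, hg⟩ : B) ∈ A.subgroupOf B := by
      rw [h1]
      trivial
    exact Subgroup.mem_subgroupOf.mp h2
  have h1 := hcond _ hlt
  obtain ⟨x, hx1, hx2⟩ := SetLike.exists_of_lt h1
  refine ⟨x, x.2, ?_, ?_⟩
  · intro h2
    exact hx2 (Subgroup.mem_subgroupOf.mpr h2)
  · rw [Subgroup.mem_normalizer_iff] at hx1 ⊢
    intro a
    constructor
    · intro ha
      have h2 := (hx1 ⟨a, hAB ha⟩).mp (Subgroup.mem_subgroupOf.mpr ha)
      exact Subgroup.mem_subgroupOf.mp h2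
    · intro ha
      have hb : (x : G) * a * (x : G)⁻¹ ∈ B := hAB ha
      have hb2 : a ∈ B := by
        have h3 : a = (x : G)⁻¹ * ((x : G) * a * (x : G)⁻¹) * x := by group
        rw [h3]
        exact B.mul_mem (B.mul_mem (B.inv_mem x.2) hb) x.2
      have h2 := (hx1 ⟨a, hb2⟩).mpr (Subgroup.mem_subgroupOf.mpr ha)
      exact Subgroup.mem_subgroupOf.mp h2

/-- A representative is good if all 2-elements of `C(t) ∩ C(ρ)` are in `S`. -/
def IsGood (t : G) (S : Subgroup G) (ρ : G) : Prop :=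
  ρ ∈ S ∧ ∀ g ∈ Er t ρ, (∃ k : ℕ, g ^ 2 ^ k = 1) → g ∈ S

section CaseII

variable [Finite G] {t y ρ : G} {S : Subgroup G}

theorem IsGood.act (hS : SCH G) (hSC : S ≤ Cn t) (hS2 : ∀ g ∈ S, ∃ k : ℕ, g ^ 2 ^ k = 1) (hg : IsGood t S ρ)
    (ht : Tri t y ρ) : Act (S ⊓ Cn ρ) y := by
  have hact := ht.act hS
  refine ⟨ht.hy3, ?_, Tri.cop_of_le hS ht.ht ht.hne (inf_le_left.trans hSC)⟩
  intro e he
  obtain ⟨he1, he2⟩ := Subgroup.mem_inf.mp he
  have h1 : e ∈ Er t ρ := Subgroup.mem_inf.mpr ⟨hSC he1, he2⟩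
  have h2 := hact.nor e h1
  refine Subgroup.mem_inf.mpr ⟨hg.2 _ h2 ?_, (Subgroup.mem_inf.mp h2).2⟩
  obtain ⟨k, hk⟩ := hS2 e he1
  refine ⟨k, ?_⟩
  rw [conj_pow, hk]
  group

/-- Elements of `S ∩ N(P)` outside `P` interchange `ρ` and `t ρ`. -/
theorem swap_of_norm (hS : SCH G) (hSC : S ≤ Cn t) (ht : Tri t y ρ)
    (hII : ∀ u ∈ Er t ρ, u * u = 1 → u = 1 ∨ u = t ∨ u = ρ ∨ u = t * ρ) (hρS : ρ ∈ S) {g : G} (hgS : g ∈ S)
    (hgN : g ∈ Subgroup.normalizer ((S ⊓ Cn ρ : Subgroup G) : Set G)) (hgP : g ∉ S ⊓ Cn ρ) :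
    g * ρ * g⁻¹ = t * ρ := by
  have h1 : ρ ∈ S ⊓ Cn ρ := Subgroup.mem_inf.mpr ⟨hρS, mem_Cn.mpr rfl⟩
  have h2 := (Subgroup.mem_normalizer_iff.mp hgN ρ).mp h1
  have h3 : g * ρ * g⁻¹ ∈ Er t ρ := Subgroup.mem_inf.mpr ⟨hSC (Subgroup.mem_inf.mp h2).1, (Subgroup.mem_inf.mp h2).2⟩
  have h4 : g * ρ * g⁻¹ * (g * ρ * g⁻¹) = 1 := by
    calc g * ρ * g⁻¹ * (g * ρ * g⁻¹) = g * (ρ * ρ) * g⁻¹ := by group
      _ = 1 := by rw [ht.hr]; group
  have hgt := mem_Cn.mp (hSC hgS)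
  rcases hII _ h3 h4 with h5 | h5 | h5 | h5
  · exfalso
    apply ht.r_ne_one hS
    have h6 : ρ = g⁻¹ * (g * ρ * g⁻¹) * g := by group
    rw [h6, h5]
    group
  · exfalso
    apply ht.r_ne_t hS
    have h6 : ρ = g⁻¹ * (g * ρ * g⁻¹) * g := by group
    rw [h6, h5]
    calc g⁻¹ * t * g = g⁻¹ * (g * t) := by rw [hgt]; group
      _ = t := by group
  · exfalso
    apply hgP
    refine Subgroup.mem_inf.mpr ⟨hgS, mem_Cn.mpr ?_⟩
    calc g * ρ = (g * ρ * g⁻¹) * g := by group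
      _ = _ := by rw [h5]
  · exact h5

/-- The trichotomy. -/
theorem trichotomy (hS : SCH G) (hSC : S ≤ Cn t) (hS2 : ∀ g ∈ S, ∃ k : ℕ, g ^ 2 ^ k = 1) (hg : IsGood t S ρ)
    (ht : Tri t y ρ) (hII : ∀ u ∈ Er t ρ, u * u = 1 → u = 1 ∨ u = t ∨ u = ρ ∨ u = t * ρ) :
    S ≤ Cn ρ ∨ (S ≤ Subgroup.normalizer ((S ⊓ Cn ρ : Subgroup G) : Set G)) ∨ Nat.card (S ⊓ Cn ρ : Subgroup G) ≤ 4 := by
  classical
  by_cases h1 : S ≤ Cn ρ
  · exact Or.inl h1
  right
  by_cases h2 : S ≤ Subgroup.normalizer ((S ⊓ Cn ρ : Subgroup G) : Set G)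
  · exact Or.inl h2
  right
  set P : Subgroup G := S ⊓ Cn ρ with hP
  set T : Subgroup G := S ⊓ Subgroup.normalizer (P : Set G) with hT
  have hS2' : IsPGroup 2 S := fun g => by
    obtain ⟨k, hk⟩ := hS2 g g.2
    exact ⟨k, Subtype.ext (by simpa using hk)⟩
  have hPT : P ≤ T := le_inf inf_le_left Subgroup.le_normalizer
  have hTS : T ≤ S := inf_le_left
  have hTP : ∃ g ∈ T, g ∉ P := by
    have h3 : ¬ S ≤ P := fun h4 => h1 (h4.trans inf_le_right)
    obtain ⟨g, hgS, hgP, hgN⟩ := exists_norm_of_lt hS2' inf_le_left h3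
    exact ⟨g, Subgroup.mem_inf.mpr ⟨hgS, hgN⟩, hgP⟩
  have hswap : ∀ g ∈ T, g ∉ P → g * ρ * g⁻¹ = t * ρ := by
    intro g hg1 hg2
    exact swap_of_norm hS hSC ht hII hg.1 (Subgroup.mem_inf.mp hg1).1 (Subgroup.mem_inf.mp hg1).2 hg2
  have hidxT : ∀ a ∈ T, ∀ b ∈ T, a ∉ P → b ∉ P → a⁻¹ * b ∈ P := by
    intro a ha b hb ha' hb'
    refine Subgroup.mem_inf.mpr ⟨S.mul_mem (S.inv_mem (hTS ha)) (hTS hb), mem_Cn.mpr ?_⟩
    have h3 := hswap a ha ha'
    have h4 := hswap b hb hb'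
    calc a⁻¹ * b * ρ = a⁻¹ * (b * ρ * b⁻¹) * b := by group
      _ = a⁻¹ * (a * ρ * a⁻¹) * b := by rw [h3, h4]
      _ = _ := by group
  have h3 : ¬ S ≤ T := fun h4 => h2 (h4.trans inf_le_right)
  obtain ⟨h, hhS, hhT, hhN⟩ := exists_norm_of_lt hS2' hTS h3
  have hρP : ρ ∈ P := Subgroup.mem_inf.mpr ⟨hg.1, mem_Cn.mpr rfl⟩
  set r' := h * ρ * h⁻¹ with hr'
  have hr'T : r' ∈ T := (Subgroup.mem_normalizer_iff.mp hhN ρ).mp (hPT hρP)
  have hht := mem_Cn.mp (hSC hhS)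
  -- `r'` is not in `P`
  have hr'P : r' ∉ P := by
    intro h4
    have h5 : r' ∈ Er t ρ := Subgroup.mem_inf.mpr ⟨hSC (Subgroup.mem_inf.mp h4).1, (Subgroup.mem_inf.mp h4).2⟩
    have h6 : r' * r' = 1 := by
      rw [hr']
      calc h * ρ * h⁻¹ * (h * ρ * h⁻¹) = h * (ρ * ρ) * h⁻¹ := by group
        _ = 1 := by rw [ht.hr]; group
    have hhρ : h⁻¹ * r' * h = ρ := by rw [hr']; group
    -- `h` normalizes `P` in the remaining cases
    have hcase : ∀ z : G, z = ρ ∨ z = t * ρ → r' = z → h ∈ T := by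
      intro z hz hrz
      refine Subgroup.mem_inf.mpr ⟨hhS, ?_⟩
      have hcomm : ∀ a ∈ P, h * a * h⁻¹ ∈ P := by
        intro a ha
        obtain ⟨ha1, ha2⟩ := Subgroup.mem_inf.mp ha
        have ha3 : a * t = t * a := mem_Cn.mp (hSC ha1)
        have ha4 : a * ρ = ρ * a := mem_Cn.mp ha2
        refine Subgroup.mem_inf.mpr ⟨S.mul_mem (S.mul_mem hhS ha1) (S.inv_mem hhS), mem_Cn.mpr ?_⟩
        -- `h a h⁻¹` commutes with `t` and with `r'`
        have h7 : (h * a * h⁻¹) * t = t * (h * a * h⁻¹) := by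
          have h8 : h⁻¹ * t * h = t := by
            calc h⁻¹ * t * h = h⁻¹ * (h * t) := by rw [hht]; group
              _ = t := by group
          calc (h * a * h⁻¹) * t = h * a * (h⁻¹ * t * h) * h⁻¹ := by group
            _ = h * (a * t) * h⁻¹ := by rw [h8]; group
            _ = h * (t * a) * h⁻¹ := by rw [ha3]
            _ = (h * t) * a * h⁻¹ := by group
            _ = _ := by rw [hht]; group
        have h8 : (h * a * h⁻¹) * r' = r' * (h * a * h⁻¹) := by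
          rw [hr']
          calc (h * a * h⁻¹) * (h * ρ * h⁻¹) = h * (a * ρ) * h⁻¹ := by group
            _ = h * (ρ * a) * h⁻¹ := by rw [ha4]
            _ = _ := by group
        rw [hrz] at h8
        rcases hz with rfl | rfl
        · exact h8
        · have h9 : (h * a * h⁻¹) * ρ = t⁻¹ * ((h * a * h⁻¹) * (t * ρ)) := by
            calc (h * a * h⁻¹) * ρ = t⁻¹ * (t * (h * a * h⁻¹)) * ρ := by group
              _ = t⁻¹ * ((h * a * h⁻¹) * t) * ρ := by rw [h7]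
              _ = _ := by group
          rw [h9, h8]
          group
      -- finiteness turns this into a member of the normalizer
      have hinj : Function.Injective (fun a : P => (⟨h * a * h⁻¹, hcomm a a.2⟩ : P)) := by
        intro a b hab
        have h10 : h * (a : G) * h⁻¹ = h * b * h⁻¹ := congrArg Subtype.val hab
        apply Subtype.ext
        exact mul_left_cancel (mul_right_cancel h10)
      have hsurj := Finite.injective_iff_surjective.mp hinj
      rw [Subgroup.mem_normalizer_iff]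
      intro a
      constructor
      · intro ha
        exact hcomm a ha
      · intro ha
        obtain ⟨b, hb⟩ := hsurj ⟨h * a * h⁻¹, ha⟩
        have h11 : h * (b : G) * h⁻¹ = h * a * h⁻¹ := congrArg Subtype.val hb
        have h12 : (b : G) = a := mul_left_cancel (mul_right_cancel h11)
        rw [← h12]
        exact b.2
    rcases hII _ h5 h6 with h7 | h7 | h7 | h7
    · apply ht.r_ne_one hS
      rw [← hhρ, h7]
      group
    · apply ht.r_ne_t hS
      rw [← hhρ, h7]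
      calc h⁻¹ * t * h = h⁻¹ * (h * t) := by rw [hht]; group
        _ = t := by group
    · exact hhT (hcase ρ (Or.inl rfl) h7)
    · exact hhT (hcase (t * ρ) (Or.inr rfl) h7)
  have hact := hg.act hS hSC hS2 ht
  have hsw' := hswap r' hr'T hr'P
  have hr'S : r' ∈ S := hTS hr'T
  have hr't := mem_Cn.mp (hSC hr'S)
  have hr'inv : r'⁻¹ = r' := by
    apply inv_eq_of_mul_eq_one_right
    rw [hr']
    calc h * ρ * h⁻¹ * (h * ρ * h⁻¹) = h * (ρ * ρ) * h⁻¹ := by group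
      _ = 1 := by rw [ht.hr]; group
  have hpE : y * (r' * y * r'⁻¹) ∈ Er t ρ := by
    have hr't' : r' * t * r'⁻¹ = t := by
      rw [hr't]
      group
    rw [mem_Er]
    constructor
    · have h4 : (y * (r' * y * r'⁻¹)) * t * (y * (r' * y * r'⁻¹))⁻¹ = t := by
        calc (y * (r' * y * r'⁻¹)) * t * (y * (r' * y * r'⁻¹))⁻¹
            = y * (r' * (y * (r'⁻¹ * t * r') * y⁻¹) * r'⁻¹) * y⁻¹ := by group
          _ = y * (r' * (y * (r' * t * r'⁻¹) * y⁻¹) * r'⁻¹) * y⁻¹ := by rw [hr'inv]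
          _ = y * (t * ρ) * y⁻¹ := by rw [hr't', ht.yt, hsw']
          _ = t := ht.ytr
      calc y * (r' * y * r'⁻¹) * t = (y * (r' * y * r'⁻¹)) * t * (y * (r' * y * r'⁻¹))⁻¹ * (y * (r' * y * r'⁻¹)) := by group
        _ = _ := by rw [h4]
    · have h4 : (y * (r' * y * r'⁻¹)) * ρ * (y * (r' * y * r'⁻¹))⁻¹ = ρ := by
        calc (y * (r' * y * r'⁻¹)) * ρ * (y * (r' * y * r'⁻¹))⁻¹
            = y * (r' * (y * (r'⁻¹ * ρ * r') * y⁻¹) * r'⁻¹) * y⁻¹ := by group
          _ = y * (r' * (y * (r' * ρ * r'⁻¹) * y⁻¹) * r'⁻¹) * y⁻¹ := by rw [hr'inv]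
          _ = y * (r' * t * r'⁻¹) * y⁻¹ := by rw [hsw', ht.ytr]
          _ = y * t * y⁻¹ := by rw [hr't]; group
          _ = ρ := ht.yt
      calc y * (r' * y * r'⁻¹) * ρ = (y * (r' * y * r'⁻¹)) * ρ * (y * (r' * y * r'⁻¹))⁻¹ * (y * (r' * y * r'⁻¹)) := by group
        _ = _ := by rw [h4]
  have hp3 : ¬ 3 ∣ orderOf (y * (r' * y * r'⁻¹)) := by
    intro h4
    have h5 : orderOf (⟨_, hpE⟩ : Er t ρ) ∣ Nat.card (Er t ρ) := orderOf_dvd_natCard _
    rw [Subgroup.orderOf_mk] at h5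
    exact (ht.act hS).cop (h4.trans h5)
  refine hact.card_le_four hS (ρ := r') (p := y * (r' * y * r'⁻¹)) (by group) hp3 ?_
  intro a ha b hb han hbn
  -- transport to `P`
  have hmemT : ∀ c ∈ P, h⁻¹ * c * h ∈ T := by
    intro c hc
    have h4 := (Subgroup.mem_normalizer_iff.mp hhN (h⁻¹ * c * h)).mpr
    apply h4
    have h5 : h * (h⁻¹ * c * h) * h⁻¹ = c := by group
    rw [h5]
    exact hPT hc
  have hnotP : ∀ c : G, c ∈ P → c * r' ≠ r' * c → h⁻¹ * c * h ∉ P := by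
    intro c hc hcn h4
    apply hcn
    have h5 := mem_Cn.mp (Subgroup.mem_inf.mp h4).2
    rw [hr']
    calc c * (h * ρ * h⁻¹) = h * ((h⁻¹ * c * h) * ρ) * h⁻¹ := by group
      _ = h * (ρ * (h⁻¹ * c * h)) * h⁻¹ := by rw [h5]
      _ = _ := by group
  have h4 := hidxT _ (hmemT a ha) _ (hmemT b hb) (hnotP a ha han) (hnotP b hb hbn)
  have h5 := mem_Cn.mp (Subgroup.mem_inf.mp h4).2
  rw [hr']
  calc a⁻¹ * b * (h * ρ * h⁻¹) = h * ((h⁻¹ * a * h)⁻¹ * (h⁻¹ * b * h) * ρ) * h⁻¹ := by group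
    _ = h * (ρ * ((h⁻¹ * a * h)⁻¹ * (h⁻¹ * b * h))) * h⁻¹ := by rw [h5]
    _ = _ := by group

/-- The size of the complement of a subgroup of index two. -/
theorem two_mul_card_diff_le {A B : Subgroup G} (hAB : A ≤ B)
    (hidx : ∀ a ∈ B, ∀ b ∈ B, a ∉ A → b ∉ A → a⁻¹ * b ∈ A) :
    2 * Nat.card ({g | g ∈ B ∧ g ∉ A} : Set G) ≤ Nat.card B := by
  classical
  haveI : Fintype G := Fintype.ofFinite G
  have h1 : Nat.card ({g | g ∈ B ∧ g ∉ A} : Set G) + Nat.card A = Nat.card B := by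
    simp only [Nat.card_eq_fintype_card, Fintype.card_subtype]
    rw [← Finset.card_union_of_disjoint]
    · congr 1
      ext g
      simp only [Finset.mem_union, Finset.mem_filter, Finset.mem_univ, true_and, Set.mem_ofPred_eq, SetLike.mem_coe]
      constructor
      · rintro (h | h)
        · exact h.1
        · exact hAB h
      · intro h
        by_cases h2 : g ∈ A
        · exact Or.inr h2
        · exact Or.inl ⟨h, h2⟩
    · rw [Finset.disjoint_left]
      intro g hg hg2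
      simp only [Finset.mem_filter, Finset.mem_univ, true_and, Set.mem_ofPred_eq, SetLike.mem_coe] at hg hg2
      exact hg.2 hg2
  have h2 : Nat.card ({g | g ∈ B ∧ g ∉ A} : Set G) ≤ Nat.card A := by
    by_cases hne : ∃ g₀ : G, g₀ ∈ B ∧ g₀ ∉ A
    · obtain ⟨g₀, hg₀, hg₀'⟩ := hne
      refine Nat.card_le_card_of_injective
        (fun a : ({g | g ∈ B ∧ g ∉ A} : Set G) => (⟨g₀⁻¹ * a, hidx g₀ hg₀ a a.2.1 hg₀' a.2.2⟩ : A)) ?_
      intro a b hab
      have h3 : g₀⁻¹ * (a : G) = g₀⁻¹ * b := congrArg Subtype.val hab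
      exact Subtype.ext (mul_left_cancel h3)
    · have h3 : ({g | g ∈ B ∧ g ∉ A} : Set G) = ∅ := by
        ext g
        simp only [Set.mem_ofPred_eq, Set.mem_empty_iff_false, iff_false]
        rintro ⟨h1, h2⟩
        exact hne ⟨g, h1, h2⟩
      rw [h3]
      simp
  omega

/-- The final count when all involutions of `C(V)` are in `V`. -/
theorem caseII (hS : SCH G) (ht2 : orderOf t = 2) (hSC : S ≤ Cn t) (hS2 : ∀ g ∈ S, ∃ k : ℕ, g ^ 2 ^ k = 1)
    (htS : t ∈ S)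
    (hII : ∀ r ∈ Jt t, ∀ u ∈ Er t r, u * u = 1 → u = 1 ∨ u = t ∨ u = r ∨ u = t * r)
    {R : Finset G} (hR : Reps t R) (hgood : ∀ ρ ∈ R, IsGood t S ρ) : R.card ≤ 3 := by
  classical
  have htri : ∀ ρ ∈ R, ∃ y, Tri t y ρ := by
    intro ρ hρ
    obtain ⟨y, hy, rfl⟩ := hR.mem ρ hρ
    exact ⟨y, tri_of_mem ht2 hy⟩
  have hinvol : ∀ ρ ∈ R, ρ * ρ = 1 ∧ ρ ≠ 1 ∧ ρ ≠ t := by
    intro ρ hρ
    obtain ⟨y, hy⟩ := htri ρ hρ
    exact ⟨hy.hr, hy.r_ne_one hS, hy.r_ne_t hS⟩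
  have hJ : ∀ ρ ∈ R, ρ ∈ Jt t := hR.mem
  have hcase : ∀ ρ ∈ R, S ≤ Cn ρ ∨ (S ≤ Subgroup.normalizer ((S ⊓ Cn ρ : Subgroup G) : Set G)) ∨
      Nat.card (S ⊓ Cn ρ : Subgroup G) ≤ 4 := by
    intro ρ hρ
    obtain ⟨y, hy⟩ := htri ρ hρ
    exact trichotomy hS hSC hS2 (hgood ρ hρ) hy (hII ρ (hJ ρ hρ))
  -- disjointness of classes
  have hdis : ∀ ρ ∈ R, ∀ ρ' ∈ R, ρ ≠ ρ' → Disjoint (cls S ρ) (cls S ρ') := by
    intro ρ hρ ρ' hρ' hne
    rw [Set.disjoint_left]
    rintro x ⟨h, hh, rfl⟩ ⟨h', hh', he⟩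
    apply hne
    apply hR.uniq ρ hρ ρ' hρ' (h'⁻¹ * h) (hSC (S.mul_mem (S.inv_mem hh') hh))
    calc h'⁻¹ * h * ρ * (h'⁻¹ * h)⁻¹ = h'⁻¹ * (h * ρ * h⁻¹) * h' := by group
      _ = _ := by rw [← he]; group
  have hsize : ∀ ρ, Nat.card (S ⊓ Cn ρ : Subgroup G) ≤ 4 → Nat.card S ≤ 4 * Nat.card (cls S ρ) := by
    intro ρ hρ
    rw [← card_cls_mul S ρ, mul_comm]
    exact Nat.mul_le_mul_right _ hρ
  by_cases hA : ∃ ρ ∈ R, S ≤ Cn ρ
  · obtain ⟨ρ, hρ, hle⟩ := hA
    have hsub : R ⊆ {ρ, t * ρ} := by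
      intro ρ' hρ'
      have h1 : ρ' ∈ Er t ρ := Subgroup.mem_inf.mpr ⟨hSC (hgood ρ' hρ').1, hle (hgood ρ' hρ').1⟩
      obtain ⟨h2, h3, h4⟩ := hinvol ρ' hρ'
      rcases hII ρ (hJ ρ hρ) ρ' h1 h2 with h5 | h5 | h5 | h5
      · exact absurd h5 h3
      · exact absurd h5 h4
      · rw [h5]
        simp
      · rw [h5]
        simp
    have := Finset.card_le_card hsub
    have h2 : ({ρ, t * ρ} : Finset G).card ≤ 2 := Finset.card_le_two
    omega
  push Not at hA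
  by_cases hB : ∃ ρ ∈ R, S ≤ Subgroup.normalizer ((S ⊓ Cn ρ : Subgroup G) : Set G)
  · obtain ⟨ρ₁, hρ₁, hN⟩ := hB
    obtain ⟨y₁, hy₁⟩ := htri ρ₁ hρ₁
    set P₁ : Subgroup G := S ⊓ Cn ρ₁ with hP₁
    have hsw : ∀ g ∈ S, g ∉ P₁ → g * ρ₁ * g⁻¹ = t * ρ₁ := fun g hg hg2 =>
      swap_of_norm hS hSC hy₁ (hII ρ₁ (hJ ρ₁ hρ₁)) (hgood ρ₁ hρ₁).1 hg (hN hg) hg2
    have hidx : ∀ a ∈ S, ∀ b ∈ S, a ∉ P₁ → b ∉ P₁ → a⁻¹ * b ∈ P₁ := by
      intro a ha b hb ha' hb'
      refine Subgroup.mem_inf.mpr ⟨S.mul_mem (S.inv_mem ha) hb, mem_Cn.mpr ?_⟩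
      have h3 := hsw a ha ha'
      have h4 := hsw b hb hb'
      calc a⁻¹ * b * ρ₁ = a⁻¹ * (b * ρ₁ * b⁻¹) * b := by group
        _ = a⁻¹ * (a * ρ₁ * a⁻¹) * b := by rw [h3, h4]
        _ = _ := by group
    have hsq : ∀ g ∈ S, g * g ∈ P₁ := by
      intro g hg
      by_cases h1 : g ∈ P₁
      · exact P₁.mul_mem h1 h1
      · have h2 : g⁻¹ ∉ P₁ := fun h3 => h1 (P₁.inv_mem_iff.mp h3)
        have h3 := hidx g⁻¹ (S.inv_mem hg) g hg h2 h1
        rwa [inv_inv] at h3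
    -- the others lie outside `P₁`
    have hout : ∀ ρ ∈ R, ρ ≠ ρ₁ → ρ ∉ P₁ := by
      intro ρ hρ hne h1
      obtain ⟨h2, h3, h4⟩ := hinvol ρ hρ
      have h5 : ρ ∈ Er t ρ₁ := Subgroup.mem_inf.mpr ⟨hSC (Subgroup.mem_inf.mp h1).1, (Subgroup.mem_inf.mp h1).2⟩
      rcases hII ρ₁ (hJ ρ₁ hρ₁) ρ h5 h2 with h6 | h6 | h6 | h6
      · exact h3 h6
      · exact h4 h6
      · exact hne h6
      · obtain ⟨g, hg, hg2⟩ := SetLike.not_le_iff_exists.mp (hA ρ₁ hρ₁)
        have hg3 : g ∉ P₁ := fun h7 => hg2 (Subgroup.mem_inf.mp h7).2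
        have h7 := hsw g hg hg3
        rw [← h6] at h7
        exact hne (hR.uniq ρ₁ hρ₁ ρ hρ g (hSC hg) h7).symm
    -- their centralizers are small
    have hsmall : ∀ ρ ∈ R, ρ ≠ ρ₁ → Nat.card (S ⊓ Cn ρ : Subgroup G) ≤ 4 := by
      intro ρ hρ hne
      obtain ⟨y, hy⟩ := htri ρ hρ
      have hact := (hgood ρ hρ).act hS hSC hS2 hy
      have hρP : ρ ∉ P₁ := hout ρ hρ hne
      have hinvS : ∀ u ∈ (S ⊓ Cn ρ : Subgroup G), u * u = 1 → u = 1 ∨ u = t ∨ u = ρ ∨ u = t * ρ := by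
        intro u hu hu2
        exact hII ρ (hJ ρ hρ) u (Subgroup.mem_inf.mpr ⟨hSC (Subgroup.mem_inf.mp hu).1, (Subgroup.mem_inf.mp hu).2⟩) hu2
      have h4 : ∀ g ∈ (S ⊓ Cn ρ : Subgroup G), (g * g) * (g * g) = 1 → g * g = 1 := by
        intro g hg hg4
        have hgg : g * g ∈ (S ⊓ Cn ρ : Subgroup G) := (S ⊓ Cn ρ).mul_mem hg hg
        rcases hinvS _ hgg hg4 with h5 | h5 | h5 | h5
        · exact h5
        · exfalso
          have h6 := hact.nor g hg
          apply hρP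
          have h7 := hsq _ (Subgroup.mem_inf.mp h6).1
          have h8 : y * g * y⁻¹ * (y * g * y⁻¹) = ρ := by
            rw [← hy.yt, ← h5]
            group
          rwa [h8] at h7
        · exfalso
          apply hρP
          rw [← h5]
          exact hsq g (Subgroup.mem_inf.mp hg).1
        · exfalso
          have h6 := hact.conj_inv_mem hg
          apply hρP
          have h7 := hsq _ (Subgroup.mem_inf.mp h6).1
          have h8 : y⁻¹ * g * y * (y⁻¹ * g * y) = ρ := by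
            have h9 : y⁻¹ * g * y * (y⁻¹ * g * y) = y⁻¹ * (g * g) * y := by group
            rw [h9, h5]
            have h10 := hy.yr
            rw [← h10]
            group
          rwa [h8] at h7
      have h5 : ∀ k : ℕ, ∀ g ∈ (S ⊓ Cn ρ : Subgroup G), g ^ 2 ^ k = 1 → g * g = 1 := by
        intro k
        induction k with
        | zero =>
          intro g _ hg
          simp only [pow_zero, pow_one] at hg
          rw [hg, one_mul]
        | succ k ih =>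
          intro g hg hgk
          cases k with
          | zero =>
            simpa [pow_two] using hgk
          | succ k =>
            apply ih g hg
            have h6 := h4 (g ^ 2 ^ k) ((S ⊓ Cn ρ).pow_mem hg _) (by
              rw [← pow_add, ← pow_add, ← hgk]
              congr 1
              ring)
            rw [← pow_add] at h6
            rw [← h6]
            congr 1
            ring
      have hmem : ∀ g : (S ⊓ Cn ρ : Subgroup G), (g : G) ∈ ({1, t, ρ, t * ρ} : Finset G) := by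
        intro g
        obtain ⟨k, hk⟩ := hS2 g (Subgroup.mem_inf.mp g.2).1
        have h6 := h5 k g g.2 hk
        rcases hinvS g g.2 h6 with h7 | h7 | h7 | h7 <;> rw [h7] <;> simp
      have h6 := Nat.card_le_card_of_injective
        (fun g : (S ⊓ Cn ρ : Subgroup G) => (⟨g, hmem g⟩ : ({1, t, ρ, t * ρ} : Finset G)))
        (fun a b hab => Subtype.ext (congrArg (fun z : ({1, t, ρ, t * ρ} : Finset G) => (z : G)) hab))
      have h7 : Nat.card ({1, t, ρ, t * ρ} : Finset G) ≤ 4 := by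
        rw [Nat.card_eq_fintype_card, Fintype.card_coe]
        exact Finset.card_le_four
      omega
    -- count
    have hcount := count_cls S (R.erase ρ₁) ({g | g ∈ S ∧ g ∉ P₁} : Set G)
      (by
        intro ρ hρ x hx
        obtain ⟨h, hh, rfl⟩ := hx
        obtain ⟨hne, hρ'⟩ := Finset.mem_erase.mp hρ
        refine ⟨S.mul_mem (S.mul_mem hh (hgood ρ hρ').1) (S.inv_mem hh), ?_⟩
        intro h1
        apply hout ρ hρ' hne
        have h2 := (Subgroup.mem_normalizer_iff.mp (hN hh) ρ).mpr h1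
        exact h2)
      (fun ρ hρ ρ' hρ' hne => hdis ρ (Finset.mem_of_mem_erase hρ) ρ' (Finset.mem_of_mem_erase hρ') hne)
      (fun ρ hρ => hsize ρ (hsmall ρ (Finset.mem_of_mem_erase hρ) (Finset.ne_of_mem_erase hρ)))
    have h2 := two_mul_card_diff_le (A := P₁) (B := S) inf_le_left hidx
    have h3 : (R.erase ρ₁).card + 1 = R.card := Finset.card_erase_add_one hρ₁
    have hpos : 0 < Nat.card S := Nat.card_pos
    have h4 : (R.erase ρ₁).card * Nat.card S ≤ 2 * Nat.card S := by omega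
    have h5 : (R.erase ρ₁).card ≤ 2 := Nat.le_of_mul_le_mul_right h4 hpos
    omega
  · push Not at hB
    have hsmall : ∀ ρ ∈ R, Nat.card (S ⊓ Cn ρ : Subgroup G) ≤ 4 := by
      intro ρ hρ
      rcases hcase ρ hρ with h1 | h1 | h1
      · exact absurd h1 (hA ρ hρ)
      · exact absurd h1 (hB ρ hρ)
      · exact h1
    have hcount := count_cls S R ({g | g ∈ S ∧ g ≠ 1 ∧ g ≠ t} : Set G)
      (by
        intro ρ hρ x hx
        obtain ⟨h, hh, rfl⟩ := hx
        obtain ⟨-, h3, h4⟩ := hinvol ρ hρ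
        refine ⟨S.mul_mem (S.mul_mem hh (hgood ρ hρ).1) (S.inv_mem hh), ?_, ?_⟩
        · intro h5
          apply h3
          have h6 : ρ = h⁻¹ * (h * ρ * h⁻¹) * h := by group
          rw [h6, h5]
          group
        · intro h5
          apply h4
          have h6 : ρ = h⁻¹ * (h * ρ * h⁻¹) * h := by group
          rw [h6, h5]
          have hc := mem_Cn.mp (hSC hh)
          calc h⁻¹ * t * h = h⁻¹ * (h * t) := by rw [hc]; group
            _ = t := by group)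
      hdis (fun ρ hρ => hsize ρ (hsmall ρ hρ))
    -- the number of elements of `S` other than `1` and `t`
    have h1 : Nat.card ({g | g ∈ S ∧ g ≠ 1 ∧ g ≠ t} : Set G) + 2 ≤ Nat.card S := by
      haveI : Fintype G := Fintype.ofFinite G
      have hne : (1 : G) ≠ t := by
        rintro rfl
        rw [orderOf_one] at ht2
        omega
      simp only [Nat.card_eq_fintype_card, Fintype.card_subtype]
      have h2 : (Finset.univ.filter (fun g : G => g ∈ ({g | g ∈ S ∧ g ≠ 1 ∧ g ≠ t} : Set G))) ∪ {1, t} ⊆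
          Finset.univ.filter (fun g : G => g ∈ S) := by
        intro g hg
        simp only [Finset.mem_union, Finset.mem_filter, Finset.mem_univ, true_and, Set.mem_ofPred_eq,
          Finset.mem_insert, Finset.mem_singleton] at hg ⊢
        rcases hg with hg | rfl | rfl
        · exact hg.1
        · exact S.one_mem
        · exact htS
      have h3 := Finset.card_le_card h2
      rw [Finset.card_union_of_disjoint] at h3
      · rw [Finset.card_pair hne] at h3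
        exact h3
      · rw [Finset.disjoint_left]
        intro g hg hg2
        simp only [Finset.mem_filter, Finset.mem_univ, true_and, Set.mem_ofPred_eq] at hg
        simp only [Finset.mem_insert, Finset.mem_singleton] at hg2
        rcases hg2 with rfl | rfl
        · exact hg.2.1 rfl
        · exact hg.2.2 rfl
    have hpos : 0 < Nat.card S := Nat.card_pos
    by_contra h2
    have h3 : 4 ≤ R.card := by omega
    have h4 : 4 * Nat.card S ≤ R.card * Nat.card S := Nat.mul_le_mul_right _ h3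
    omega

/-- Good representatives exist. -/
theorem exists_good (hS : SCH G) (ht2 : orderOf t = 2) (hconj : ∀ Q : Subgroup G, Q ≤ Cn t →
    (∀ g ∈ Q, ∃ k : ℕ, g ^ 2 ^ k = 1) → ∃ h ∈ Cn t, ∀ g ∈ Q, h * g * h⁻¹ ∈ S) {r : G} (hr : r ∈ Jt t) :
    ∃ h ∈ Cn t, IsGood t S (h * r * h⁻¹) := by
  obtain ⟨y, hy, rfl⟩ := hr
  have htri := tri_of_mem ht2 hy
  set r := y * t * y⁻¹ with hrdef
  haveI : Fact (Nat.Prime 2) := ⟨by norm_num⟩
  obtain ⟨P, hP1, hP2, hP3⟩ := exists_pPart ((htri.act hS).isNilpotent hS) 2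
  obtain ⟨h, hh, hh2⟩ := hconj P (hP1.trans inf_le_left) hP2
  refine ⟨h, hh, hh2 _ (hP3 r htri.r_mem ⟨1, by simpa [pow_two] using htri.hr⟩), ?_⟩
  intro g hg ⟨k, hk⟩
  obtain ⟨hg1, hg2⟩ := mem_Er.mp hg
  have hc := mem_Cn.mp hh
  have hhinv : h⁻¹ * t * h = t := by
    calc h⁻¹ * t * h = h⁻¹ * (h * t) := by rw [hc]; group
      _ = t := by group
  have h1 : h⁻¹ * g * h ∈ P := by
    apply hP3
    · rw [mem_Er]
      constructor
      · calc h⁻¹ * g * h * t = h⁻¹ * g * (h * t) := by group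
          _ = h⁻¹ * g * (t * h) := by rw [hc]
          _ = h⁻¹ * (g * t) * h := by group
          _ = h⁻¹ * (t * g) * h := by rw [hg1]
          _ = (h⁻¹ * t * h) * (h⁻¹ * g * h) := by group
          _ = _ := by rw [hhinv]
      · have h2 : g * (h * r * h⁻¹) = (h * r * h⁻¹) * g := hg2
        calc h⁻¹ * g * h * r = h⁻¹ * (g * (h * r * h⁻¹)) * h := by group
          _ = h⁻¹ * ((h * r * h⁻¹) * g) * h := by rw [h2]
          _ = _ := by group
    · refine ⟨k, ?_⟩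
      have := conj_pow (a := h⁻¹) (b := g) (i := 2 ^ k)
      rw [inv_inv] at this
      rw [this, hk]
      group
  have h2 := hh2 _ h1
  have h3 : h * (h⁻¹ * g * h) * h⁻¹ = g := by group
  rwa [h3] at h2

end CaseII

end Cfsg.Agent.Lib.Blocks.SC3
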