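import Mathlib
import Cfsg.Agent.Lib.Blocks.SC3D

/-!
# Groups with a self-centralizing subgroup of order 3: large centralizers (local tools)
-/

set_option autoImplicit false

namespace Cfsg.Agent.Lib.Blocks.SC3

universe u

variable {G : Type u} [Group G] [Finite G]

/-- All 2-subgroups have order at most that of the centralizer of an involution. -/
theorem card_le_of_two_group (hinv : ∀ s t : G, orderOf s = 2 → orderOf t = 2 → IsConj s t) {t : G} (ht : orderOf t = 2)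
    (W : Subgroup G) (hW : ∀ g ∈ W, ∃ k : ℕ, g ^ 2 ^ k = 1) : Nat.card W ≤ Nat.card (Cn t) := by
  classical
  haveI : Fact (Nat.Prime 2) := ⟨by norm_num⟩
  by_cases h1 : Nat.card W = 1
  · rw [h1]
    exact Nat.card_pos
  haveI : Nontrivial W := by
    rw [← Finite.one_lt_card_iff_nontrivial]
    have := Nat.card_pos (α := W)
    omega
  have hP : IsPGroup 2 W := fun g => by
    obtain ⟨k, hk⟩ := hW g g.2
    exact ⟨k, Subtype.ext (by simpa using hk)⟩
  haveI := hP.center_nontrivial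
  obtain ⟨k, hk⟩ := IsPGroup.iff_card.mp (hP.to_subgroup (Subgroup.center W))
  have hk0 : k ≠ 0 := by
    rintro rfl
    have h2 := Finite.one_lt_card_iff_nontrivial.mpr (inferInstance : Nontrivial (Subgroup.center W))
    rw [hk] at h2
    simp at h2
  have h3 : 2 ∣ Nat.card (Subgroup.center W) := by
    rw [hk]
    exact dvd_pow_self 2 hk0
  obtain ⟨z, hz⟩ := exists_prime_orderOf_dvd_card' (G := Subgroup.center W) 2 h3
  have hz2 : orderOf ((z : W) : G) = 2 := by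
    have h4 : orderOf ((z : W) : G) = orderOf (z : W) := Subgroup.orderOf_coe _
    have h5 : orderOf (z : W) = orderOf z := Subgroup.orderOf_coe _
    rw [h4, h5, hz]
  obtain ⟨g, hg⟩ := isConj_iff.mp (hinv _ _ hz2 ht)
  refine Nat.card_le_card_of_injective (fun w : W => (⟨g * w * g⁻¹, ?_⟩ : Cn t)) ?_
  · rw [mem_Cn, ← hg]
    have h6 := (Subgroup.mem_center_iff.mp z.2) w
    have h7 : (w : G) * ((z : W) : G) = ((z : W) : G) * w := by
      have h8 := congrArg Subtype.val h6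
      simpa using h8
    calc g * (w : G) * g⁻¹ * (g * ((z : W) : G) * g⁻¹) = g * ((w : G) * ((z : W) : G)) * g⁻¹ := by group
      _ = g * (((z : W) : G) * w) * g⁻¹ := by rw [h7]
      _ = _ := by group
  · intro a b hab
    have h8 : g * (a : G) * g⁻¹ = g * b * g⁻¹ := congrArg Subtype.val hab
    exact Subtype.ext (mul_left_cancel (mul_right_cancel h8))

/-- Constructing the normal odd part modulo `E₀`. -/
theorem exists_M1 (E₀ : Subgroup G) (hE₂ : ∀ g ∈ E₀, ∃ k : ℕ, g ^ 2 ^ k = 1)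
    (hW : ∀ W : Subgroup G, (∀ g ∈ W, ∃ k : ℕ, g ^ 2 ^ k = 1) → E₀ ≤ W → Nat.card W ≤ 2 * Nat.card E₀) :
    ∃ M₁ : Subgroup G, M₁ ≤ Subgroup.normalizer (E₀ : Set G) ∧ E₀ ≤ M₁ ∧
      (∀ y ∈ Subgroup.normalizer (E₀ : Set G), orderOf y = 3 → y ∈ M₁) ∧
      (∀ g ∈ M₁, (∃ k : ℕ, g ^ 2 ^ k = 1) → g ∈ E₀) := by
  classical
  haveI : Fact (Nat.Prime 2) := ⟨by norm_num⟩
  set N : Subgroup G := Subgroup.normalizer (E₀ : Set G) with hN
  have hEN : E₀ ≤ N := Subgroup.le_normalizer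
  let E' : Subgroup N := E₀.subgroupOf N
  haveI hE'n : E'.Normal := Subgroup.normal_in_normalizer
  let π := QuotientGroup.mk' E'
  have hπs : Function.Surjective π := QuotientGroup.mk'_surjective E'
  let Pb : Sylow 2 (N ⧸ E') := default
  have hPbc : IsPGroup 2 (Pb : Subgroup (N ⧸ E')) := Pb.isPGroup'
  let W₀ : Subgroup N := (Pb : Subgroup (N ⧸ E')).comap π
  have hcardE' : Nat.card E' = Nat.card E₀ := Nat.card_congr (Subgroup.subgroupOfEquivOfLe hEN).toEquiv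
  have hmemE' : ∀ g : N, π g = 1 ↔ (g : G) ∈ E₀ := by
    intro g
    rw [QuotientGroup.mk'_apply, QuotientGroup.eq_one_iff]
    exact Subgroup.mem_subgroupOf
  -- cardinality of `P̄`
  have hPb2 : Nat.card (Pb : Subgroup (N ⧸ E')) ≤ 2 := by
    have h1 := hW (W₀.map N.subtype) (by
      rintro _ ⟨g, hg, rfl⟩
      obtain ⟨k, hk⟩ := (IsPGroup.iff_orderOf.mp hPbc) ⟨π g, hg⟩
      have h2 : (π g) ^ 2 ^ k = 1 := by
        have h3 := pow_orderOf_eq_one (⟨π g, hg⟩ : (Pb : Subgroup (N ⧸ E')))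
        rw [hk] at h3
        have h4 := congrArg Subtype.val h3
        simpa using h4
      have h3 : π (g ^ 2 ^ k) = 1 := by rw [map_pow, h2]
      obtain ⟨m, hm⟩ := hE₂ _ ((hmemE' _).mp h3)
      refine ⟨k + m, ?_⟩
      simp only [Subgroup.subtype_apply]
      rw [pow_add, pow_mul]
      simpa using hm) (by
      intro e he
      refine ⟨⟨e, hEN he⟩, ?_, rfl⟩
      show π ⟨e, hEN he⟩ ∈ (Pb : Subgroup (N ⧸ E'))
      rw [(hmemE' _).mpr he]
      exact Subgroup.one_mem _)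
    rw [Subgroup.card_map_of_injective N.subtype_injective] at h1
    have h2 : W₀.index = (Pb : Subgroup (N ⧸ E')).index := Subgroup.index_comap_of_surjective _ hπs
    have h3 := Subgroup.card_mul_index W₀
    have h4 := Subgroup.card_mul_index (Pb : Subgroup (N ⧸ E'))
    have h5 := Subgroup.card_eq_card_quotient_mul_card_subgroup E'
    have h6 : (Pb : Subgroup (N ⧸ E')).index ≠ 0 := Subgroup.index_ne_zero_of_finite
    have h7 : Nat.card W₀ = Nat.card (Pb : Subgroup (N ⧸ E')) * Nat.card E₀ := by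
      apply Nat.eq_of_mul_eq_mul_right (Nat.pos_of_ne_zero h6)
      rw [← h2, h3, h2]
      rw [h5, ← h4, hcardE']
      ring
    rw [h7] at h1
    exact Nat.le_of_mul_le_mul_right h1 Nat.card_pos
  have hNC : Subgroup.normalizer ((Pb : Subgroup (N ⧸ E')) : Set (N ⧸ E')) ≤
      Subgroup.centralizer ((Pb : Subgroup (N ⧸ E')) : Set (N ⧸ E')) := by
    intro g hg
    rw [Subgroup.mem_centralizer_iff]
    intro x hx
    rw [SetLike.mem_coe] at hx
    by_cases hx1 : x = 1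
    · rw [hx1]
      simp
    have h1 := (Subgroup.mem_normalizer_iff.mp hg x).mp hx
    have hone : (Pb : Subgroup (N ⧸ E')).one_mem = (Pb : Subgroup (N ⧸ E')).one_mem := rfl
    by_contra hne
    have hne2 : g * x * g⁻¹ ≠ x := by
      intro h3
      apply hne
      calc x * g = (g * x * g⁻¹) * g := by rw [h3]
        _ = g * x := by group
    have hne3 : g * x * g⁻¹ ≠ 1 := by
      intro h3
      apply hx1
      have h4 : x = g⁻¹ * (g * x * g⁻¹) * g := by group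
      rw [h4, h3]
      group
    -- three different elements
    let s : Finset (Pb : Subgroup (N ⧸ E')) := {1, ⟨x, hx⟩, ⟨g * x * g⁻¹, h1⟩}
    have hs : s.card = 3 := by
      apply Finset.card_eq_three.mpr
      refine ⟨1, ⟨x, hx⟩, ⟨g * x * g⁻¹, h1⟩, ?_, ?_, ?_, rfl⟩
      · intro h3
        exact hx1 (congrArg Subtype.val h3).symm
      · intro h3
        exact hne3 (congrArg Subtype.val h3).symm
      · intro h3
        exact hne2 (congrArg Subtype.val h3).symm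
    have h4 : s.card ≤ Nat.card (Pb : Subgroup (N ⧸ E')) := by
      haveI : Fintype (Pb : Subgroup (N ⧸ E')) := Fintype.ofFinite _
      rw [Nat.card_eq_fintype_card]
      exact Finset.card_le_univ s
    omega
  let T := MonoidHom.transferSylow Pb hNC
  have hcomp := MonoidHom.ker_transferSylow_isComplement' Pb hNC
  have hK : ¬ 2 ∣ Nat.card T.ker := by
    rw [← hcomp.index_eq_card]
    exact Pb.not_dvd_index
  refine ⟨((T.ker).comap π).map N.subtype, ?_, ?_, ?_, ?_⟩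
  · rintro _ ⟨g, _, rfl⟩
    exact g.2
  · intro e he
    refine ⟨⟨e, hEN he⟩, ?_, rfl⟩
    show π ⟨e, hEN he⟩ ∈ T.ker
    rw [(hmemE' _).mpr he]
    exact Subgroup.one_mem _
  · intro y hy hy3
    refine ⟨⟨y, hy⟩, ?_, rfl⟩
    show π ⟨y, hy⟩ ∈ T.ker
    rw [MonoidHom.mem_ker]
    set v := T (π ⟨y, hy⟩) with hv
    have h1 : v ^ 3 = 1 := by
      rw [hv, ← map_pow, ← map_pow]
      have h2 : (⟨y, hy⟩ : N) ^ 3 = 1 := by
        apply Subtype.ext
        have := pow_orderOf_eq_one y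
        rw [hy3] at this
        simpa using this
      rw [h2, map_one, map_one]
    have h2 : orderOf v ∣ 3 := orderOf_dvd_of_pow_eq_one h1
    have h3 : orderOf v ∣ Nat.card (Pb : Subgroup (N ⧸ E')) := orderOf_dvd_natCard v
    rcases (Nat.dvd_prime (by norm_num : Nat.Prime 3)).mp h2 with h4 | h4
    · exact orderOf_eq_one_iff.mp h4
    · rw [h4] at h3
      have := Nat.le_of_dvd Nat.card_pos h3
      omega
  · rintro _ ⟨g, hg, rfl⟩ ⟨k, hk⟩
    simp only [Subgroup.subtype_apply] at hk ⊢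
    have hg' : π g ∈ T.ker := hg
    have h1 : (π g) ^ 2 ^ k = 1 := by
      rw [← map_pow]
      have h2 : g ^ 2 ^ k = 1 := Subtype.ext (by simpa using hk)
      rw [h2, map_one]
    have h2 : orderOf (⟨π g, hg'⟩ : T.ker) ∣ Nat.card T.ker := orderOf_dvd_natCard _
    rw [Subgroup.orderOf_mk] at h2
    have h3 : orderOf (π g) ∣ 2 ^ k := orderOf_dvd_of_pow_eq_one h1
    obtain ⟨i, _, hi⟩ := (Nat.dvd_prime_pow Nat.prime_two).mp h3
    have h4 : π g = 1 := by
      rcases Nat.eq_zero_or_pos i with h5 | h5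
      · rw [h5, pow_zero] at hi
        exact orderOf_eq_one_iff.mp hi
      · exfalso
        apply hK
        rw [hi] at h2
        exact (dvd_pow_self 2 (Nat.pos_iff_ne_zero.mp h5)).trans h2
    exact (hmemE' g).mp h4

/-- The structure of `M₁`: it is `E₀ ⋊ ⟨y₀⟩`. -/
theorem lifting (hS : SCH G) {E₀ M₁ : Subgroup G} {t y₀ : G} (ht : t * t = 1) (hne : t ≠ 1) (htE : t ∈ E₀)
    (hC : ∀ g ∈ Cn t, ∃ k : ℕ, g ^ 2 ^ k = 1) (hEM : E₀ ≤ M₁)
    (hM2 : ∀ g ∈ M₁, (∃ k : ℕ, g ^ 2 ^ k = 1) → g ∈ E₀) (hact : Act E₀ y₀) (hy₀ : y₀ ∈ M₁)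
    {y' : G} (hy' : y' ∈ M₁) : ∃ c ∈ E₀, ∃ i : ℕ, y' = c * y₀ ^ i := by
  classical
  have hy3 := cube_eq_one hact.ord
  have hyy' : y₀⁻¹ * y₀⁻¹ = y₀ := by
    have h1 : y₀ * y₀ = y₀⁻¹ := by
      rw [eq_inv_iff_mul_eq_one]
      exact hy3
    rw [← h1]
    calc y₀ * y₀ * (y₀ * y₀) = (y₀ * y₀ * y₀) * y₀ := by group
      _ = y₀ := by rw [hy3, one_mul]
  have hyE : y₀ ∉ E₀ := by
    intro h1
    apply hact.cop
    have h2 : orderOf (⟨y₀, h1⟩ : E₀) ∣ Nat.card E₀ := orderOf_dvd_natCard _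
    rwa [Subgroup.orderOf_mk, hact.ord] at h2
  have hno : ∀ g ∈ M₁, g * y₀ * g⁻¹ ≠ y₀⁻¹ := by
    intro g hg he
    have h1 : (g * g) * y₀ = y₀ * (g * g) := by
      have h2 : g * y₀⁻¹ * g⁻¹ = y₀ := by
        have h3 : g * y₀⁻¹ * g⁻¹ = (g * y₀ * g⁻¹)⁻¹ := by group
        rw [h3, he, inv_inv]
      calc (g * g) * y₀ = g * (g * y₀ * g⁻¹) * g := by group
        _ = g * y₀⁻¹ * g := by rw [he]
        _ = (g * y₀⁻¹ * g⁻¹) * (g * g) := by group
        _ = _ := by rw [h2]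
    have h2 := hS y₀ hact.ord _ h1
    have h3 := pow_eq_one_of_mem_zpowers hact.ord h2
    set w := g * g * g with hw
    have hw2 : w * w = 1 := by
      rw [← h3, hw, pow_succ, pow_two]
      group
    have hwM : w ∈ M₁ := M₁.mul_mem (M₁.mul_mem hg hg) hg
    have hwE : w ∈ E₀ := hM2 w hwM ⟨1, by simpa [pow_two] using hw2⟩
    have hwy : w * y₀ * w⁻¹ = y₀⁻¹ := by
      have h4 : g * y₀⁻¹ * g⁻¹ = y₀ := by
        have h5 : g * y₀⁻¹ * g⁻¹ = (g * y₀ * g⁻¹)⁻¹ := by group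
        rw [h5, he, inv_inv]
      calc w * y₀ * w⁻¹ = g * (g * (g * y₀ * g⁻¹) * g⁻¹) * g⁻¹ := by rw [hw]; group
        _ = _ := by rw [he, h4, he]
    have h5 : y₀ ∈ E₀ := by
      have h6 : y₀ = w * (y₀ * w⁻¹ * y₀⁻¹) := by
        calc y₀ = y₀⁻¹ * y₀⁻¹ := hyy'.symm
          _ = (w * y₀ * w⁻¹) * y₀⁻¹ := by rw [hwy]
          _ = _ := by group
      rw [h6]
      exact E₀.mul_mem hwE (hact.nor _ (E₀.inv_mem hwE))
    exact hyE h5
  obtain ⟨C, hCM, hCn, hC3, hCdec, hCnil⟩ := exists_complement hS M₁ hact.ord hy₀ hno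
  -- `t ∈ C`
  have hcop1 : ∀ z ∈ C, z ^ 3 = 1 → z = 1 := by
    intro z hz hz3
    have h2 : orderOf (⟨z, hz⟩ : C) ∣ Nat.card C := orderOf_dvd_natCard _
    rw [Subgroup.orderOf_mk] at h2
    have h3 : orderOf z ∣ 3 := orderOf_dvd_of_pow_eq_one hz3
    rcases (Nat.dvd_prime (by norm_num : Nat.Prime 3)).mp h3 with h4 | h4
    · exact orderOf_eq_one_iff.mp h4
    · rw [h4] at h2
      exact absurd h2 hC3
  have hypow3 : ∀ i : ℕ, (y₀ ^ i) ^ 3 = 1 := by
    intro i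
    rw [← pow_mul, mul_comm, pow_mul]
    have := pow_orderOf_eq_one y₀
    rw [hact.ord] at this
    rw [this, one_pow]
  have htC : t ∈ C := by
    obtain ⟨c, hc, i, hci⟩ := hCdec t (hEM htE)
    have h1 : (y₀ ^ i) * (y₀ ^ i) ∈ C := by
      have h2 : t * t = c * ((y₀ ^ i) * c * (y₀ ^ i)⁻¹) * ((y₀ ^ i) * (y₀ ^ i)) := by
        rw [hci]
        group
      rw [ht] at h2
      have h3 : (y₀ ^ i) * (y₀ ^ i) = (c * ((y₀ ^ i) * c * (y₀ ^ i)⁻¹))⁻¹ := eq_inv_of_mul_eq_one_right h2.symm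
      rw [h3]
      exact C.inv_mem (C.mul_mem hc (hCn _ (M₁.pow_mem hy₀ i) c hc))
    have h2 : (y₀ ^ i) * (y₀ ^ i) = 1 := by
      apply hcop1 _ h1
      rw [← pow_two, ← pow_mul, mul_comm, pow_mul, hypow3, one_pow]
    have h3 : y₀ ^ i = 1 := by
      have h4 := hypow3 i
      rw [pow_succ, pow_two, h2, one_mul] at h4
      exact h4
    rw [hci, h3, mul_one]
    exact hc
  -- `C` is a 2-group
  have hC2 : ∀ q : ℕ, q.Prime → q ∣ Nat.card C → q = 2 := by
    intro q hq hqd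
    by_contra hq2
    haveI : Fact q.Prime := ⟨hq⟩
    haveI : Fact (Nat.Prime 2) := ⟨by norm_num⟩
    obtain ⟨w, hw⟩ := exists_prime_orderOf_dvd_card' (G := C) q hqd
    have hwq : (w : G) ^ q ^ 1 = 1 := by
      have h1 : orderOf (w : G) = q := by rw [Subgroup.orderOf_coe, hw]
      rw [pow_one, ← h1]
      exact pow_orderOf_eq_one _
    have h1 := commute_of_nilpotent hCnil (p := 2) (q := q) (Ne.symm hq2) htC w.2 (i := 1) (j := 1)
      (by simpa [pow_two] using ht) hwq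
    obtain ⟨k, hk⟩ := hC _ (mem_Cn.mpr h1.symm)
    have h2 : orderOf (w : G) ∣ 2 ^ k := orderOf_dvd_of_pow_eq_one hk
    rw [Subgroup.orderOf_coe, hw] at h2
    exact hq2 ((Nat.prime_dvd_prime_iff_eq hq Nat.prime_two).mp (hq.dvd_of_dvd_pow h2))
  have hCelt : ∀ g ∈ C, ∃ k : ℕ, g ^ 2 ^ k = 1 := by
    intro g hg
    have h1 := Nat.eq_prime_pow_of_unique_prime_dvd (Nat.card_pos (α := C)).ne' (fun {d} hd hdd => hC2 d hd hdd)
    refine ⟨(Nat.card C).primeFactorsList.length, ?_⟩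
    rw [← h1]
    have h3 : (⟨g, hg⟩ : C) ^ Nat.card C = 1 := pow_card_eq_one'
    have h4 : (((⟨g, hg⟩ : C) ^ Nat.card C : C) : G) = 1 := by rw [h3]; rfl
    rwa [Subgroup.coe_pow] at h4
  obtain ⟨c, hc, i, hci⟩ := hCdec y' hy'
  exact ⟨c, hM2 c (hCM hc) (hCelt c hc), i, hci⟩

end Cfsg.Agent.Lib.Blocks.SC3
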