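import Mathlib
import Cfsg.Agent.Lib.Blocks.SC3E

/-!
# Groups with a self-centralizing subgroup of order 3: many classes of involutions are impossible
-/

set_option autoImplicit false

namespace Cfsg.Agent.Lib.Blocks.SC3

universe u

variable {G : Type u} [Group G] [Finite G]

/-- Counting disjoint classes. -/
theorem sum_cls_le (S : Subgroup G) (F : Finset G) (U : Set G) (hU : ∀ ρ ∈ F, cls S ρ ⊆ U)
    (hdis : ∀ ρ ∈ F, ∀ ρ' ∈ F, ρ ≠ ρ' → Disjoint (cls S ρ) (cls S ρ')) :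
    ∑ ρ ∈ F, Nat.card (cls S ρ) ≤ Nat.card U := by
  classical
  haveI : Fintype G := Fintype.ofFinite G
  have h1 : ∑ ρ ∈ F, (cls S ρ).toFinset.card = (F.biUnion fun ρ => (cls S ρ).toFinset).card := by
    rw [Finset.card_biUnion]
    intro ρ hρ ρ' hρ' hne
    rw [Function.onFun, Set.disjoint_toFinset]
    exact hdis ρ hρ ρ' hρ' hne
  have h2 : (F.biUnion fun ρ => (cls S ρ).toFinset) ⊆ U.toFinset := by
    intro x hx
    obtain ⟨ρ, hρ, hx⟩ := Finset.mem_biUnion.mp hx
    rw [Set.mem_toFinset] at hx ⊢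
    exact hU ρ hρ hx
  have h3 := Finset.card_le_card h2
  rw [← h1] at h3
  have h4 : ∀ s : Set G, Nat.card s = s.toFinset.card := by
    intro s
    rw [Nat.card_eq_fintype_card, Set.toFinset_card]
  simp only [h4]
  exact h3

/-- A set with at most two elements. -/
theorem mem_of_card_le_two {s : Set G} (hs : Nat.card s ≤ 2) {a b c : G} (ha : a ∈ s) (hb : b ∈ s) (hc : c ∈ s)
    (hab : a ≠ b) : c = a ∨ c = b := by
  classical
  haveI : Fintype G := Fintype.ofFinite G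
  by_contra h
  push Not at h
  have h1 : ({a, b, c} : Finset G) ⊆ s.toFinset := by
    intro x hx
    simp only [Finset.mem_insert, Finset.mem_singleton] at hx
    rw [Set.mem_toFinset]
    rcases hx with rfl | rfl | rfl <;> assumption
  have h2 := Finset.card_le_card h1
  have h3 : ({a, b, c} : Finset G).card = 3 := by
    apply Finset.card_eq_three.mpr
    exact ⟨a, b, c, hab, h.1.symm, h.2.symm, rfl⟩
  have h4 : Nat.card s = s.toFinset.card := by
    rw [Nat.card_eq_fintype_card, Set.toFinset_card]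
  omega

/-- Involutions in the same coset of a subgroup of odd order are conjugate. -/
theorem conj_of_odd {Q : Subgroup G} (hQ : ¬ 2 ∣ Nat.card Q) {a b : G} (ha : a * a = 1) (hb : b * b = 1)
    (hab : a * b ∈ Q) : ∃ h ∈ Q, h * a * h⁻¹ = b := by
  set w := a * b with hw
  have hm : ¬ 2 ∣ orderOf w := by
    intro h1
    apply hQ
    have h2 : orderOf (⟨w, hab⟩ : Q) ∣ Nat.card Q := orderOf_dvd_natCard _
    rw [Subgroup.orderOf_mk] at h2
    exact h1.trans h2
  obtain ⟨n, hn⟩ : ∃ n, orderOf w = 2 * n + 1 := by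
    obtain ⟨n, hn⟩ := Nat.odd_iff.mpr (Nat.mod_two_ne_zero.mp (fun h => hm (Nat.dvd_of_mod_eq_zero h)))
    exact ⟨n, hn⟩
  set w₁ := w ^ (n + 1) with hw₁
  have h1 : w₁ * w₁ = w := by
    rw [hw₁, ← pow_add]
    have h2 : n + 1 + (n + 1) = orderOf w + 1 := by omega
    rw [h2, pow_succ, pow_orderOf_eq_one, one_mul]
  have hainv : a⁻¹ = a := inv_eq_of_mul_eq_one_right ha
  have hbinv : b⁻¹ = b := inv_eq_of_mul_eq_one_right hb
  have h2 : a * w * a⁻¹ = w⁻¹ := by
    rw [hw, hainv, mul_inv_rev, hainv, hbinv]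
    calc a * (a * b) * a = (a * a) * b * a := by group
      _ = _ := by rw [ha]; group
  have h3 : a * w₁ * a⁻¹ = w₁⁻¹ := by
    rw [hw₁, ← conj_pow, h2, inv_pow]
  refine ⟨w₁⁻¹, Q.inv_mem (Q.pow_mem hab _), ?_⟩
  have h4 : b = a * w₁ * w₁ := by
    rw [mul_assoc, h1, hw, ← mul_assoc, ha, one_mul]
  rw [h4, inv_inv]
  calc w₁⁻¹ * a * w₁ = (a * w₁ * a⁻¹) * a * w₁ := by rw [h3]
    _ = _ := by group

/-- `Jt` lies in the centralizer. -/
theorem Jt_facts (hS : SCH G) {t r : G} (ht : orderOf t = 2) (hr : r ∈ Jt t) :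
    r ∈ Cn t ∧ r ≠ 1 ∧ r ≠ t ∧ r * r = 1 := by
  obtain ⟨y, hy, rfl⟩ := hr
  have h := tri_of_mem ht hy
  exact ⟨mem_Cn.mpr h.comm.symm, h.r_ne_one hS, h.r_ne_t hS, h.hr⟩

/-- An element conjugating swaps. -/
theorem Tri.swap_mem {t y ρ r' : G} (ht : Tri t y ρ) (hr't : r' * t = t * r') (hr'inv : r'⁻¹ = r')
    (hsw' : r' * ρ * r'⁻¹ = t * ρ) : y * (r' * y * r'⁻¹) ∈ Er t ρ := by
  have hr't' : r' * t * r'⁻¹ = t := by
    rw [hr't]
    group
  rw [mem_Er]
  constructor
  · have h4 : (y * (r' * y * r'⁻¹)) * t * (y * (r' * y * r'⁻¹))⁻¹ = t := by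
      calc (y * (r' * y * r'⁻¹)) * t * (y * (r' * y * r'⁻¹))⁻¹
          = y * (r' * (y * (r'⁻¹ * t * r') * y⁻¹) * r'⁻¹) * y⁻¹ := by group
        _ = y * (r' * (y * (r' * t * r'⁻¹) * y⁻¹) * r'⁻¹) * y⁻¹ := by rw [hr'inv]
        _ = y * (t * ρ) * y⁻¹ := by rw [hr't', ht.yt, hsw']
        _ = t := ht.ytr
    calc y * (r' * y * r'⁻¹) * t = (y * (r' * y * r'⁻¹)) * t * (y * (r' * y * r'⁻¹))⁻¹ * (y * (r' * y * r'⁻¹)) := by group
      _ = _ := by rw [h4]
  · have h4 : (y * (r' * y * r'⁻¹)) * ρ * (y * (r' * y * r'⁻¹))⁻¹ = ρ := by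
      calc (y * (r' * y * r'⁻¹)) * ρ * (y * (r' * y * r'⁻¹))⁻¹
          = y * (r' * (y * (r'⁻¹ * ρ * r') * y⁻¹) * r'⁻¹) * y⁻¹ := by group
        _ = y * (r' * (y * (r' * ρ * r'⁻¹) * y⁻¹) * r'⁻¹) * y⁻¹ := by rw [hr'inv]
        _ = y * (r' * t * r'⁻¹) * y⁻¹ := by rw [hsw', ht.ytr]
        _ = y * t * y⁻¹ := by rw [hr't]; group
        _ = ρ := ht.yt
    calc y * (r' * y * r'⁻¹) * ρ = (y * (r' * y * r'⁻¹)) * ρ * (y * (r' * y * r'⁻¹))⁻¹ * (y * (r' * y * r'⁻¹)) := by group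
      _ = _ := by rw [h4]

/-- Many involutions make all of them central. -/
theorem large_centralizer {H : Subgroup G} {x : G} (hx : x ∈ H) (hx2 : x * x = 1) (W : Finset G) (hW : ∀ g ∈ W, g ∈ H ∧ g * g = 1) :
    2 * W.card ≤ Nat.card H + Nat.card (H ⊓ Cn x : Subgroup G) := by
  classical
  haveI : Fintype G := Fintype.ofFinite G
  let sH : Finset G := Finset.univ.filter (· ∈ H)
  have hsH : sH.card = Nat.card H := by
    rw [Nat.card_eq_fintype_card, Fintype.card_subtype]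
  let sC : Finset G := Finset.univ.filter (· ∈ (H ⊓ Cn x : Subgroup G))
  have hsC : sC.card = Nat.card (H ⊓ Cn x : Subgroup G) := by
    rw [Nat.card_eq_fintype_card, Fintype.card_subtype]
  let B := W.image (fun g => x * g)
  have hB : B.card = W.card := Finset.card_image_of_injective _ (mul_right_injective x)
  have hU : W ∪ B ⊆ sH := by
    intro g hg
    rw [Finset.mem_filter]
    refine ⟨Finset.mem_univ _, ?_⟩
    rcases Finset.mem_union.mp hg with h1 | h1
    · exact (hW g h1).1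
    · obtain ⟨w, hw, rfl⟩ := Finset.mem_image.mp h1
      exact H.mul_mem hx (hW w hw).1
  have hI : W ∩ B ⊆ sC := by
    intro g hg
    obtain ⟨h1, h2⟩ := Finset.mem_inter.mp hg
    obtain ⟨w, hw, rfl⟩ := Finset.mem_image.mp h2
    obtain ⟨h3, h4⟩ := hW _ h1
    obtain ⟨h5, h6⟩ := hW w hw
    rw [Finset.mem_filter]
    refine ⟨Finset.mem_univ _, Subgroup.mem_inf.mpr ⟨h3, mem_Cn.mpr ?_⟩⟩
    have hxi : x⁻¹ = x := inv_eq_of_mul_eq_one_right hx2
    have hwi : w⁻¹ = w := inv_eq_of_mul_eq_one_right h6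
    have h7 : (x * w)⁻¹ = x * w := inv_eq_of_mul_eq_one_right h4
    rw [mul_inv_rev, hxi, hwi] at h7
    rw [mul_assoc, ← h7]
  have h1 := Finset.card_union_add_card_inter W B
  have h2 := Finset.card_le_card hU
  have h3 := Finset.card_le_card hI
  omega

/-- **Case I**: the number of classes is at most a quarter of the order of the centralizer. -/
theorem caseI (hS : SCH G) (hinv : ∀ s t : G, orderOf s = 2 → orderOf t = 2 → IsConj s t) {t : G} (ht2 : orderOf t = 2)
    {R : Finset G} (hR : Reps t R) (hc : 16 ≤ Nat.card (Cn t)) (h4 : Nat.card (Cn t) < 4 * R.card) : False := by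
  classical
  haveI : Fintype G := Fintype.ofFinite G
  set H : Subgroup G := Cn t with hH
  set c := Nat.card H with hcdef
  have ht1 : t * t = 1 := by
    have := pow_orderOf_eq_one t
    rwa [ht2, pow_two] at this
  have hne : t ≠ 1 := by
    rintro rfl
    rw [orderOf_one] at ht2
    omega
  have htH : t ∈ H := mem_Cn.mpr rfl
  have h3c : ¬ 3 ∣ c := Tri.cop_of_le (t := t) hS ht1 hne (le_refl (Cn t))
  have hclsJ : ∀ r ∈ Jt t, cls H r ⊆ Jt t := by
    rintro r hr _ ⟨h, hh, rfl⟩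
    exact conj_mem_Jt hh hr
  have hdis : ∀ ρ ∈ R, ∀ ρ' ∈ R, ρ ≠ ρ' → Disjoint (cls H ρ) (cls H ρ') := by
    intro ρ hρ ρ' hρ' hne
    rw [Set.disjoint_left]
    rintro x ⟨h, hh, rfl⟩ ⟨h', hh', he⟩
    apply hne
    apply hR.uniq ρ hρ ρ' hρ' (h'⁻¹ * h) (H.mul_mem (H.inv_mem hh') hh)
    calc h'⁻¹ * h * ρ * (h'⁻¹ * h)⁻¹ = h'⁻¹ * (h * ρ * h⁻¹) * h' := by group
      _ = _ := by rw [← he]; group
  have hsum := sum_cls_le H R (Jt t) (fun ρ hρ => hclsJ ρ (hR.mem ρ hρ)) hdis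
  have hclspos : ∀ r : G, 1 ≤ Nat.card (cls H r) := by
    intro r
    haveI : Nonempty (cls H r) := ⟨⟨r, self_mem_cls H r⟩⟩
    exact Nat.card_pos
  have hmulc : ∀ r : G, Nat.card (cls H r) * Nat.card (Er t r) = c := card_cls_mul H
  have hcls3 : ∀ r : G, Nat.card (cls H r) ≠ 3 := by
    intro r h5
    apply h3c
    rw [← hmulc r, h5]
    exact Dvd.intro _ rfl
  -- the size of `Jt`
  have hJc : Nat.card (Jt t) + 2 ≤ c := by
    have h2 : (Jt t).toFinset ∪ {1, t} ⊆ Finset.univ.filter (· ∈ H) := by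
      intro g hg
      rw [Finset.mem_filter]
      refine ⟨Finset.mem_univ _, ?_⟩
      rcases Finset.mem_union.mp hg with h5 | h5
      · exact (Jt_facts hS ht2 (Set.mem_toFinset.mp h5)).1
      · simp only [Finset.mem_insert, Finset.mem_singleton] at h5
        rcases h5 with rfl | rfl
        · exact H.one_mem
        · exact htH
    have h3 := Finset.card_le_card h2
    rw [Finset.card_union_of_disjoint] at h3
    · rw [Finset.card_pair hne.symm] at h3
      rw [hcdef, Nat.card_eq_fintype_card (α := H), Fintype.card_subtype, Nat.card_eq_fintype_card, ← Set.toFinset_card]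
      exact h3
    · rw [Finset.disjoint_left]
      intro g hg hg2
      have h5 := Jt_facts hS ht2 (Set.mem_toFinset.mp hg)
      simp only [Finset.mem_insert, Finset.mem_singleton] at hg2
      rcases hg2 with rfl | rfl
      · exact h5.2.1 rfl
      · exact h5.2.2.1 rfl
  -- step 1: a small class
  obtain ⟨ρ₀, hρ₀, hk₀⟩ : ∃ ρ₀ ∈ R, Nat.card (cls H ρ₀) ≤ 2 := by
    by_contra h5
    push Not at h5
    have h6 : ∀ ρ ∈ R, 4 ≤ Nat.card (cls H ρ) := by
      intro ρ hρ
      have h7 := h5 ρ hρ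
      have h8 := hcls3 ρ
      omega
    have h7 : R.card * 4 ≤ ∑ ρ ∈ R, Nat.card (cls H ρ) := Finset.card_nsmul_le_sum R _ 4 h6
    omega
  obtain ⟨y₀, hy₀Z, hy₀ρ⟩ := hR.mem ρ₀ hρ₀
  have htri₀ := tri_of_mem ht2 hy₀Z
  rw [hy₀ρ] at htri₀
  have hact₀ := htri₀.act hS
  set E₀ : Subgroup G := Er t ρ₀ with hE₀
  have hE₀H : E₀ ≤ H := inf_le_left
  have hk₀E : Nat.card (cls H ρ₀) * Nat.card E₀ = c := hmulc ρ₀
  -- step 2: `E₀` is normal in `H`
  have hnorm : ∀ h ∈ H, ∀ e ∈ E₀, h * e * h⁻¹ ∈ E₀ := by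
    intro h hh e he
    by_cases hhE : h ∈ E₀
    · exact E₀.mul_mem (E₀.mul_mem hhE he) (E₀.inv_mem hhE)
    obtain ⟨he1, he2⟩ := Subgroup.mem_inf.mp he
    have hx : h * e * h⁻¹ ∈ H := H.mul_mem (H.mul_mem hh he1) (H.inv_mem hh)
    refine Subgroup.mem_inf.mpr ⟨hx, ?_⟩
    have hρ1 : h * ρ₀ * h⁻¹ ≠ ρ₀ := by
      intro h5
      apply hhE
      refine Subgroup.mem_inf.mpr ⟨hh, mem_Cn.mpr ?_⟩
      calc h * ρ₀ = (h * ρ₀ * h⁻¹) * h := by group
        _ = _ := by rw [h5]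
    have h5 := mem_of_card_le_two hk₀ (self_mem_cls H ρ₀) (⟨h, hh, rfl⟩ : h * ρ₀ * h⁻¹ ∈ cls H ρ₀)
      (⟨h * e * h⁻¹, hx, rfl⟩ : (h * e * h⁻¹) * ρ₀ * (h * e * h⁻¹)⁻¹ ∈ cls H ρ₀) hρ1.symm
    have hec : e * ρ₀ = ρ₀ * e := mem_Cn.mp he2
    have h6 : (h * e * h⁻¹) * (h * ρ₀ * h⁻¹) * (h * e * h⁻¹)⁻¹ = h * ρ₀ * h⁻¹ := by
      calc (h * e * h⁻¹) * (h * ρ₀ * h⁻¹) * (h * e * h⁻¹)⁻¹ = h * (e * ρ₀) * e⁻¹ * h⁻¹ := by group
        _ = h * (ρ₀ * e) * e⁻¹ * h⁻¹ := by rw [hec]
        _ = _ := by group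
    rcases h5 with h5 | h5
    · rw [mem_Cn]
      calc h * e * h⁻¹ * ρ₀ = (h * e * h⁻¹) * ρ₀ * (h * e * h⁻¹)⁻¹ * (h * e * h⁻¹) := by group
        _ = _ := by rw [h5]
    · exfalso
      apply hρ1
      have h7 : (h * e * h⁻¹) * ρ₀ * (h * e * h⁻¹)⁻¹ = (h * e * h⁻¹) * (h * ρ₀ * h⁻¹) * (h * e * h⁻¹)⁻¹ := by
        rw [h5, h6]
      have h8 := mul_left_cancel (mul_right_cancel h7)
      exact h8.symm
  -- step 3: `H` is a 2-group
  have hprime : ∀ q : ℕ, q.Prime → q ∣ c → q = 2 := by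
    intro q hq hqc
    by_contra hq2
    haveI : Fact q.Prime := ⟨hq⟩
    have hq3 : q ≠ 3 := by
      rintro rfl
      exact h3c hqc
    have hq5 : 5 ≤ q := by
      have h5 := hq.two_le
      by_contra h6
      have h7 : q = 4 := by omega
      rw [h7] at hq
      norm_num at hq
    have hqE : q ∣ Nat.card E₀ := by
      rw [← hk₀E] at hqc
      rcases (Nat.Prime.dvd_mul hq).mp hqc with h5 | h5
      · exfalso
        have h6 := Nat.le_of_dvd (by have := hclspos ρ₀; omega) h5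
        omega
      · exact h5
    obtain ⟨w, hw⟩ := exists_prime_orderOf_dvd_card' (G := E₀) q hqE
    have hwq : (w : G) ^ q ^ 1 = 1 := by
      have h1 : orderOf (w : G) = q := by rw [Subgroup.orderOf_coe, hw]
      rw [pow_one, ← h1]
      exact pow_orderOf_eq_one _
    obtain ⟨Q, hQE, hQ1, hQ2⟩ := exists_pPart (hact₀.isNilpotent hS) q
    have hQnorm : ∀ h ∈ H, ∀ x ∈ Q, h * x * h⁻¹ ∈ Q := by
      intro h hh x hx
      apply hQ2 _ (hnorm h hh x (hQE hx))
      obtain ⟨k, hk⟩ := hQ1 x hx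
      refine ⟨k, ?_⟩
      rw [conj_pow, hk]
      group
    have hQp : IsPGroup q Q := fun g => by
      obtain ⟨k, hk⟩ := hQ1 g g.2
      exact ⟨k, Subtype.ext (by simpa using hk)⟩
    have hQodd : ¬ 2 ∣ Nat.card Q := by
      obtain ⟨m, hm⟩ := IsPGroup.iff_card.mp hQp
      rw [hm]
      intro h5
      exact hq2 ((Nat.prime_dvd_prime_iff_eq Nat.prime_two hq).mp (Nat.prime_two.dvd_of_dvd_pow h5)).symm
    have hQ5 : 5 ≤ Nat.card Q := by
      have hwQ : (w : G) ∈ Q := hQ2 _ w.2 ⟨1, hwq⟩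
      have h5 := Subgroup.card_le_of_le ((Subgroup.zpowers_le (H := Q)).mpr hwQ)
      rw [Nat.card_zpowers, Subgroup.orderOf_coe, hw] at h5
      omega
    have hQH : Q ≤ H := hQE.trans hE₀H
    -- injection `R × Q → H`
    have hinj : Function.Injective (fun p : R × Q => (⟨(p.1 : G) * p.2, H.mul_mem
        (Jt_facts hS ht2 (hR.mem p.1 p.1.2)).1 (hQH p.2.2)⟩ : H)) := by
      rintro ⟨ρ, x⟩ ⟨ρ', x'⟩ he
      have he' : (ρ : G) * x = ρ' * x' := congrArg Subtype.val he
      have h5 := Jt_facts hS ht2 (hR.mem ρ ρ.2)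
      have h6 := Jt_facts hS ht2 (hR.mem ρ' ρ'.2)
      have hρinv : (ρ : G)⁻¹ = ρ := inv_eq_of_mul_eq_one_right h5.2.2.2
      have h7 : (ρ : G) * ρ' ∈ Q := by
        have h8 : (ρ : G) * ρ' = x * (x' : G)⁻¹ := by
          calc (ρ : G) * ρ' = ρ * (ρ' * x' * (x' : G)⁻¹) := by group
            _ = ρ * (ρ * x * (x' : G)⁻¹) := by rw [he']
            _ = (ρ * ρ) * x * (x' : G)⁻¹ := by group
            _ = _ := by rw [h5.2.2.2]; group
        rw [h8]
        exact Q.mul_mem x.2 (Q.inv_mem x'.2)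
      obtain ⟨h, hh, hhe⟩ := conj_of_odd hQodd h5.2.2.2 h6.2.2.2 h7
      have h9 : (ρ : G) = ρ' := hR.uniq ρ ρ.2 ρ' ρ'.2 h (hQH hh) hhe
      have h10 : ρ = ρ' := Subtype.ext h9
      subst h10
      have h11 : (x : G) = x' := mul_left_cancel he'
      rw [Subtype.ext h11]
    have h5 := Nat.card_le_card_of_injective _ hinj
    rw [Nat.card_prod] at h5
    have h6 : Nat.card R = R.card := by simp
    rw [h6] at h5
    have h7 : R.card * 5 ≤ R.card * Nat.card Q := Nat.mul_le_mul_left _ hQ5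
    have h8 : R.card * 5 ≤ c := h7.trans h5
    omega
  have hC2 : ∀ g ∈ H, ∃ k : ℕ, g ^ 2 ^ k = 1 := by
    intro g hg
    have h1 := Nat.eq_prime_pow_of_unique_prime_dvd (Nat.card_pos (α := H)).ne' (fun {d} hd hdd => hprime d hd hdd)
    refine ⟨(Nat.card H).primeFactorsList.length, ?_⟩
    rw [← h1]
    have h3 : (⟨g, hg⟩ : H) ^ Nat.card H = 1 := pow_card_eq_one'
    have h4 : (((⟨g, hg⟩ : H) ^ Nat.card H : H) : G) = 1 := by rw [h3]; rfl
    rwa [Subgroup.coe_pow] at h4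
  -- step 4: the normalizer of `E₀`
  have hcE : c ≤ 2 * Nat.card E₀ := by
    rw [← hk₀E]
    exact Nat.mul_le_mul_right _ hk₀
  obtain ⟨M₁, hM1N, hEM, hM3, hM2⟩ := exists_M1 E₀ (fun g hg => hC2 g (hE₀H hg))
    (fun W hW _ => (card_le_of_two_group hinv ht2 W hW).trans hcE)
  have hnormal_of_tri : ∀ {y r : G}, Tri t y r → Er t r = E₀ → y ∈ Subgroup.normalizer (E₀ : Set G) := by
    intro y r htr he
    have hact := htr.act hS
    rw [he] at hact
    rw [Subgroup.mem_normalizer_iff]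
    intro a
    constructor
    · exact hact.nor a
    · intro h5
      have h6 := hact.conj_inv_mem h5
      have h7 : y⁻¹ * (y * a * y⁻¹) * y = a := by group
      rwa [h7] at h6
  have hy₀M : y₀ ∈ M₁ := hM3 _ (hnormal_of_tri htri₀ rfl) hact₀.ord
  -- step 5: the same centralizer
  have hsame : ∀ r ∈ Jt t, Er t r = E₀ → r = ρ₀ ∨ r = t * ρ₀ := by
    intro r hr he
    obtain ⟨y, hy, hyr⟩ := hr
    have htr := tri_of_mem ht2 hy
    rw [hyr] at htr
    have hyM := hM3 _ (hnormal_of_tri htr he) htr.hy3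
    obtain ⟨c', hc', i, hci⟩ := lifting hS ht1 hne htri₀.t_mem hC2 hEM hM2 hact₀ hy₀M hyM
    have hc't := (mem_Er.mp hc').1
    have hc'ρ := (mem_Er.mp hc').2
    have hconj : ∀ z : G, z = ρ₀ ∨ z = t * ρ₀ → c' * z * c'⁻¹ = z := by
      rintro z (rfl | rfl)
      · rw [hc'ρ]; group
      · have := Tri.comm_tr hc'
        rw [this]; group
    have hi : y₀ ^ i = y₀ ^ (i % 3) := by
      rw [← hact₀.ord, pow_mod_orderOf]
    have hi3 : i % 3 < 3 := Nat.mod_lt _ (by norm_num)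
    rw [hi] at hci
    rcases (by omega : i % 3 = 0 ∨ i % 3 = 1 ∨ i % 3 = 2) with h5 | h5 | h5
    · exfalso
      rw [h5, pow_zero, mul_one] at hci
      apply Tri.not_commute_inv hS ht1 hne htr.hy3
      rw [hci]
      exact hc't.symm
    · left
      rw [h5, pow_one] at hci
      rw [← htr.yt, hci]
      calc c' * y₀ * t * (c' * y₀)⁻¹ = c' * (y₀ * t * y₀⁻¹) * c'⁻¹ := by group
        _ = c' * ρ₀ * c'⁻¹ := by rw [htri₀.yt]
        _ = ρ₀ := hconj ρ₀ (Or.inl rfl)
    · right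
      rw [h5, pow_two] at hci
      have hyy : y₀ * y₀ = y₀⁻¹ := by
        rw [eq_inv_iff_mul_eq_one]
        exact htri₀.hy
      rw [← htr.yt, hci, hyy]
      calc c' * y₀⁻¹ * t * (c' * y₀⁻¹)⁻¹ = c' * (y₀⁻¹ * t * y₀) * c'⁻¹ := by group
        _ = c' * (t * ρ₀) * c'⁻¹ := by rw [htri₀.inv]
        _ = t * ρ₀ := hconj _ (Or.inr rfl)
  -- step 7: small classes
  have hsmall : ∀ r ∈ Jt t, Nat.card (cls H r) ≤ 3 → r = ρ₀ ∨ r = t * ρ₀ := by
    intro r hr hkr
    have hrJ := hr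
    obtain ⟨y, hy, hyr⟩ := hr
    have htr := tri_of_mem ht2 hy
    rw [hyr] at htr
    have hactr := htr.act hS
    have hkr1 := hclspos r
    have hkr3 := hcls3 r
    have hk₀1 := hclspos ρ₀
    have hmod1 := hactr.card_mod hS
    have hmod2 := hact₀.card_mod hS
    have hmulr := hmulc r
    set kr := Nat.card (cls H r) with hkrdef
    set k₀ := Nat.card (cls H ρ₀) with hk₀def
    have hkk : kr = k₀ := by
      have h5 : kr % 3 = c % 3 := by
        rw [← hmulr, Nat.mul_mod, hmod1, mul_one, Nat.mod_mod]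
      have h6 : k₀ % 3 = c % 3 := by
        rw [← hk₀E, Nat.mul_mod, hmod2, mul_one, Nat.mod_mod]
      omega
    have hEcard : Nat.card (Er t r) = Nat.card E₀ := by
      have h5 : kr * Nat.card (Er t r) = kr * Nat.card E₀ := by
        rw [hmulr, hkk, hk₀E]
      exact Nat.eq_of_mul_eq_mul_left (by omega) h5
    by_cases hEE : Er t r = E₀
    · exact hsame r hrJ hEE
    exfalso
    have hex : ∃ e₀ ∈ E₀, e₀ ∉ Er t r := by
      by_contra h5
      push Not at h5
      exact hEE (Subgroup.eq_of_le_of_card_ge h5 hEcard.le).symm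
    obtain ⟨e₀, he₀, he₀r⟩ := hex
    have hkr2 : Nat.card (cls H r) ≤ 2 := by omega
    have he₀n : e₀ * r ≠ r * e₀ := by
      intro h5
      exact he₀r (Subgroup.mem_inf.mpr ⟨hE₀H he₀, mem_Cn.mpr h5⟩)
    -- index two for the centralizer of `r`
    have hidx : ∀ a ∈ H, ∀ b ∈ H, a * r ≠ r * a → b * r ≠ r * b → (a⁻¹ * b) * r = r * (a⁻¹ * b) := by
      intro a ha b hb han hbn
      have ha1 : a * r * a⁻¹ ≠ r := by
        intro h5
        apply han
        calc a * r = (a * r * a⁻¹) * a := by group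
          _ = _ := by rw [h5]
      have hb1 : b * r * b⁻¹ ≠ r := by
        intro h5
        apply hbn
        calc b * r = (b * r * b⁻¹) * b := by group
          _ = _ := by rw [h5]
      have h5 := mem_of_card_le_two hkr2 (self_mem_cls H r) (⟨a, ha, rfl⟩ : a * r * a⁻¹ ∈ cls H r)
        (⟨b, hb, rfl⟩ : b * r * b⁻¹ ∈ cls H r) ha1.symm
      rcases h5 with h5 | h5
      · exact absurd h5 hb1
      · calc a⁻¹ * b * r = a⁻¹ * (b * r * b⁻¹) * b := by group
          _ = a⁻¹ * (a * r * a⁻¹) * b := by rw [h5]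
          _ = _ := by group
    have hrH : r ∈ H := (Jt_facts hS ht2 hrJ).1
    by_cases hrE : r ∈ E₀
    · exact hact₀.no_index_two hS hrE (fun a ha b hb => hidx a (hE₀H ha) b (hE₀H hb)) he₀ he₀n
    · -- `r` does not commute with `ρ₀`
      have hrρ : r * ρ₀ ≠ ρ₀ * r := by
        intro h5
        exact hrE (Subgroup.mem_inf.mpr ⟨hrH, mem_Cn.mpr h5⟩)
      have hρ'J : r * ρ₀ * r⁻¹ ∈ Jt t := conj_mem_Jt hrH (hR.mem ρ₀ hρ₀)
      have hrinv : r⁻¹ = r := inv_eq_of_mul_eq_one_right htr.hr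
      have hE' : Er t (r * ρ₀ * r⁻¹) = E₀ := by
        apply Subgroup.eq_of_le_of_card_ge
        · intro g hg
          obtain ⟨hg1, hg2⟩ := mem_Er.mp hg
          have h5 : r⁻¹ * g * r ∈ E₀ := by
            refine Subgroup.mem_inf.mpr ⟨H.mul_mem (H.mul_mem (H.inv_mem hrH) (mem_Cn.mpr hg1)) hrH, mem_Cn.mpr ?_⟩
            calc r⁻¹ * g * r * ρ₀ = r⁻¹ * (g * (r * ρ₀ * r⁻¹)) * r := by group
              _ = r⁻¹ * ((r * ρ₀ * r⁻¹) * g) * r := by rw [hg2]
              _ = _ := by group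
          have h6 := hnorm r hrH _ h5
          have h7 : r * (r⁻¹ * g * r) * r⁻¹ = g := by group
          rwa [h7] at h6
        · -- the cardinalities agree
          have h5 : Nat.card (Er t (r * ρ₀ * r⁻¹)) = Nat.card E₀ := by
            refine Nat.card_congr ⟨fun g => ⟨r⁻¹ * g * r, ?_⟩, fun g => ⟨r * g * r⁻¹, ?_⟩, ?_, ?_⟩
            · obtain ⟨hg1, hg2⟩ := mem_Er.mp g.2
              have hrt := mem_Cn.mp hrH
              refine mem_Er.mpr ⟨?_, ?_⟩
              · have h6 := H.mul_mem (H.mul_mem (H.inv_mem hrH) (mem_Cn.mpr hg1)) hrH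
                exact mem_Cn.mp h6
              · calc r⁻¹ * g * r * ρ₀ = r⁻¹ * ((g : G) * (r * ρ₀ * r⁻¹)) * r := by group
                  _ = r⁻¹ * ((r * ρ₀ * r⁻¹) * g) * r := by rw [hg2]
                  _ = _ := by group
            · obtain ⟨hg1, hg2⟩ := mem_Er.mp g.2
              refine mem_Er.mpr ⟨?_, ?_⟩
              · have h6 := H.mul_mem (H.mul_mem hrH (mem_Cn.mpr hg1)) (H.inv_mem hrH)
                exact mem_Cn.mp h6
              · calc r * g * r⁻¹ * (r * ρ₀ * r⁻¹) = r * ((g : G) * ρ₀) * r⁻¹ := by group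
                  _ = r * (ρ₀ * g) * r⁻¹ := by rw [hg2]
                  _ = _ := by group
            · intro g
              apply Subtype.ext
              group
            · intro g
              apply Subtype.ext
              group
          exact h5.symm.le
      have hsw : r * ρ₀ * r⁻¹ = t * ρ₀ := by
        rcases hsame _ hρ'J hE' with h5 | h5
        · exfalso
          apply hrρ
          calc r * ρ₀ = (r * ρ₀ * r⁻¹) * r := by group
            _ = _ := by rw [h5]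
        · exact h5
      have hpE := htri₀.swap_mem (mem_Cn.mp hrH) hrinv hsw
      have hp3 : ¬ 3 ∣ orderOf (y₀ * (r * y₀ * r⁻¹)) := by
        intro h5
        have h6 : orderOf (⟨_, hpE⟩ : Er t ρ₀) ∣ Nat.card (Er t ρ₀) := orderOf_dvd_natCard _
        rw [Subgroup.orderOf_mk] at h6
        exact hact₀.cop (h5.trans h6)
      have h5 := hact₀.card_le_four hS (ρ := r) (p := y₀ * (r * y₀ * r⁻¹)) (by group) hp3
        (fun a ha b hb => hidx a (hE₀H ha) b (hE₀H hb))
      omega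
  -- step 8: counting
  let W : Finset G := Finset.univ.filter (fun g => g ∈ H ∧ g * g = 1)
  have hWJ : Nat.card (Jt t) + 2 ≤ W.card := by
    have h2 : (Jt t).toFinset ∪ {1, t} ⊆ W := by
      intro g hg
      rw [Finset.mem_filter]
      refine ⟨Finset.mem_univ _, ?_⟩
      rcases Finset.mem_union.mp hg with h5 | h5
      · have h6 := Jt_facts hS ht2 (Set.mem_toFinset.mp h5)
        exact ⟨h6.1, h6.2.2.2⟩
      · simp only [Finset.mem_insert, Finset.mem_singleton] at h5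
        rcases h5 with rfl | rfl
        · exact ⟨H.one_mem, by simp⟩
        · exact ⟨htH, ht1⟩
    have h3 := Finset.card_le_card h2
    rw [Finset.card_union_of_disjoint] at h3
    · rw [Finset.card_pair hne.symm] at h3
      rw [Nat.card_eq_fintype_card, ← Set.toFinset_card]
      exact h3
    · rw [Finset.disjoint_left]
      intro g hg hg2
      have h5 := Jt_facts hS ht2 (Set.mem_toFinset.mp hg)
      simp only [Finset.mem_insert, Finset.mem_singleton] at hg2
      rcases hg2 with rfl | rfl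
      · exact h5.2.1 rfl
      · exact h5.2.2.1 rfl
  -- lower bound for `Jt`
  have hlow : 4 * R.card ≤ Nat.card (Jt t) + 6 := by
    let R₀ := R.filter (fun ρ => Nat.card (cls H ρ) ≤ 3)
    have hR₀ : R₀.card ≤ 2 := by
      have h5 : R₀ ⊆ {ρ₀, t * ρ₀} := by
        intro ρ hρ
        obtain ⟨h6, h7⟩ := Finset.mem_filter.mp hρ
        rcases hsmall ρ (hR.mem ρ h6) h7 with h8 | h8 <;> rw [h8] <;> simp
      have h6 := Finset.card_le_card h5
      have h7 : ({ρ₀, t * ρ₀} : Finset G).card ≤ 2 := Finset.card_le_two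
      omega
    have h5 : ∀ ρ ∈ R, (if Nat.card (cls H ρ) ≤ 3 then 1 else 4) ≤ Nat.card (cls H ρ) := by
      intro ρ _
      split_ifs with h6
      · exact hclspos ρ
      · omega
    have h6 := Finset.sum_le_sum h5
    have h7 : ∑ ρ ∈ R, (if Nat.card (cls H ρ) ≤ 3 then 1 else 4) = R₀.card + 4 * (R.filter (fun ρ => ¬ Nat.card (cls H ρ) ≤ 3)).card := by
      rw [Finset.sum_ite, Finset.sum_const, Finset.sum_const]
      simp only [smul_eq_mul, mul_one]
      rw [mul_comm]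
    have h8 := Finset.card_filter_add_card_filter_not (s := R) (fun ρ => Nat.card (cls H ρ) ≤ 3)
    have h9 : R₀.card = (R.filter (fun ρ => Nat.card (cls H ρ) ≤ 3)).card := rfl
    omega
  have hall : ∀ x ∈ Jt t, x = ρ₀ ∨ x = t * ρ₀ := by
    intro x hx
    apply hsmall x hx
    have h5 := Jt_facts hS ht2 hx
    have h6 := large_centralizer h5.1 h5.2.2.2 W (fun g hg => (Finset.mem_filter.mp hg).2)
    have h7 := hmulc x
    have h6' : 2 * W.card ≤ c + Nat.card (Er t x) := h6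
    have h8 : Nat.card (cls H x) ≤ 1 := by
      by_contra h9
      have h10 : 2 * Nat.card (Er t x) ≤ c := by
        rw [← h7]
        exact Nat.mul_le_mul_right _ (by omega)
      omega
    omega
  have hJ2 : Nat.card (Jt t) ≤ 2 := by
    have h5 : (Jt t).toFinset ⊆ {ρ₀, t * ρ₀} := by
      intro x hx
      rcases hall x (Set.mem_toFinset.mp hx) with h6 | h6 <;> rw [h6] <;> simp
    have h6 := Finset.card_le_card h5
    have h7 : ({ρ₀, t * ρ₀} : Finset G).card ≤ 2 := Finset.card_le_two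
    rw [Set.toFinset_card, ← Nat.card_eq_fintype_card] at h6
    omega
  omega

end Cfsg.Agent.Lib.Blocks.SC3
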