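import Mathlib
import Cfsg.Agent.Lib.Blocks.SC3F

/-!
# Groups with a self-centralizing subgroup of order 3: elements of order 3 in a simple group
-/

set_option autoImplicit false

namespace Cfsg.Agent.Lib.Blocks.SC3

universe u

variable {G : Type u} [Group G] [Finite G]

/-- Two elements of order 3 generate conjugate subgroups. -/
theorem conj_of_order_three (hS : SCH G) {x y : G} (hx : orderOf x = 3) (hy : orderOf y = 3) :
    ∃ g : G, g * x * g⁻¹ = y ∨ g * x * g⁻¹ = y⁻¹ := by
  classical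
  haveI : Fact (Nat.Prime 3) := ⟨by norm_num⟩
  have hsyl : ∀ z : G, orderOf z = 3 → ∃ P : Sylow 3 G, (P : Subgroup G) = Subgroup.zpowers z := by
    intro z hz
    have hX : IsPGroup 3 (Subgroup.zpowers z) := by
      rw [IsPGroup.iff_card, Nat.card_zpowers, hz]
      exact ⟨1, by norm_num⟩
    obtain ⟨P, hP⟩ := hX.exists_le_sylow
    refine ⟨P, ?_⟩
    symm
    apply Subgroup.eq_of_le_of_card_ge hP
    rw [Nat.card_zpowers, hz]
    exact card_le_three hS _ P.isPGroup'
  obtain ⟨P, hP⟩ := hsyl x hx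
  obtain ⟨Q, hQ⟩ := hsyl y hy
  obtain ⟨g, hg⟩ := MulAction.exists_smul_eq G P Q
  refine ⟨g, ?_⟩
  have h1 : g * x * g⁻¹ ∈ Subgroup.zpowers y := by
    have h2 : x ∈ (P : Subgroup G) := by
      rw [hP]
      exact Subgroup.mem_zpowers x
    rw [← hQ, ← hg, Sylow.smul_def, Sylow.pointwise_smul_def]
    exact Subgroup.mem_pointwise_smul_iff_inv_smul_mem.mpr (by simpa [MulAut.smul_def, mul_assoc] using h2)
  rw [mem_zpowers_iff_mem_range_orderOf, hy] at h1
  simp only [Finset.mem_image, Finset.mem_range] at h1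
  obtain ⟨i, hi, hei⟩ := h1
  interval_cases i
  · exfalso
    have h3 : x = 1 := by
      have h4 : x = g⁻¹ * (g * x * g⁻¹) * g := by group
      rw [h4, ← hei]
      group
    rw [h3, orderOf_one] at hx
    omega
  · left
    rw [← hei]
    simp
  · right
    rw [← hei, pow_two, eq_inv_iff_mul_eq_one]
    exact cube_eq_one hy

/-- In a simple nonabelian group some involution inverts `x`. -/
theorem exists_invert [IsSimpleGroup G] (hnc : ¬ ∀ a b : G, a * b = b * a) (hS : SCH G) {x : G} (hx : orderOf x = 3) :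
    ∃ t : G, orderOf t = 2 ∧ t * x * t⁻¹ = x⁻¹ := by
  classical
  by_cases h : ∃ g : G, g * x * g⁻¹ = x⁻¹
  · obtain ⟨g, hg⟩ := h
    have h1 : (g * g) * x = x * (g * g) := by
      have h2 : g * x⁻¹ * g⁻¹ = x := by
        have h3 : g * x⁻¹ * g⁻¹ = (g * x * g⁻¹)⁻¹ := by group
        rw [h3, hg, inv_inv]
      calc (g * g) * x = g * (g * x * g⁻¹) * g := by group
        _ = g * x⁻¹ * g := by rw [hg]
        _ = (g * x⁻¹ * g⁻¹) * (g * g) := by group
        _ = _ := by rw [h2]
    have h2 := hS x hx _ h1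
    have h3 := pow_eq_one_of_mem_zpowers hx h2
    have hw2 : (g * g * g) ^ 2 = 1 := by
      rw [← h3, pow_two, pow_succ, pow_two]
      group
    have hwy : (g * g * g) * x * (g * g * g)⁻¹ = x⁻¹ := by
      have h4 : g * x⁻¹ * g⁻¹ = x := by
        have h5 : g * x⁻¹ * g⁻¹ = (g * x * g⁻¹)⁻¹ := by group
        rw [h5, hg, inv_inv]
      calc (g * g * g) * x * (g * g * g)⁻¹ = g * (g * (g * x * g⁻¹) * g⁻¹) * g⁻¹ := by group
        _ = _ := by rw [hg, h4, hg]
    refine ⟨g * g * g, orderOf_eq_prime hw2 ?_, hwy⟩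
    intro h5
    rw [h5] at hwy
    simp only [one_mul, inv_one, mul_one] at hwy
    have h6 := cube_eq_one hx
    have h7 : x * x = 1 := by
      calc x * x = x⁻¹ * x := by rw [← hwy]
        _ = 1 := by group
    have h8 : x = 1 := by
      calc x = x * x * x * (x * x)⁻¹ := by group
        _ = 1 := by rw [h6, h7]; group
    rw [h8, orderOf_one] at hx
    omega
  · exfalso
    push Not at h
    obtain ⟨C, -, hCn, hC3, hdec, -⟩ := exists_complement hS ⊤ hx (Subgroup.mem_top _) (fun g _ => h g)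
    haveI : C.Normal := ⟨fun c hc g => hCn g (Subgroup.mem_top _) c hc⟩
    have hxC : x ∉ C := by
      intro h1
      apply hC3
      have h2 : orderOf (⟨x, h1⟩ : C) ∣ Nat.card C := orderOf_dvd_natCard _
      rwa [Subgroup.orderOf_mk, hx] at h2
    rcases (inferInstance : C.Normal).eq_bot_or_eq_top with h1 | h1
    · apply hnc
      intro a b
      obtain ⟨c, hc, i, hci⟩ := hdec a (Subgroup.mem_top _)
      obtain ⟨c', hc', j, hcj⟩ := hdec b (Subgroup.mem_top _)
      rw [h1, Subgroup.mem_bot] at hc hc'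
      rw [hci, hcj, hc, hc', one_mul, one_mul, ← pow_add, ← pow_add, add_comm]
    · rw [h1] at hxC
      exact hxC (Subgroup.mem_top _)

/-- All elements of order 3 are conjugate. -/
theorem isConj_of_order_three [IsSimpleGroup G] (hnc : ¬ ∀ a b : G, a * b = b * a) (hS : SCH G) {x y : G}
    (hx : orderOf x = 3) (hy : orderOf y = 3) : IsConj x y := by
  obtain ⟨t, -, ht⟩ := exists_invert hnc hS hx
  obtain ⟨g, hg⟩ := conj_of_order_three hS hx hy
  rw [isConj_iff]
  rcases hg with hg | hg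
  · exact ⟨g, hg⟩
  · refine ⟨g * t, ?_⟩
    have h1 : y = (g * x * g⁻¹)⁻¹ := by rw [hg, inv_inv]
    rw [h1]
    calc g * t * x * (g * t)⁻¹ = g * (t * x * t⁻¹) * g⁻¹ := by group
      _ = _ := by rw [ht]; group

/-- Two involutions whose product has order 3 are conjugate. -/
theorem isConj_of_mul_order_three {s t : G} (hs : s * s = 1) (ht : t * t = 1) (hy : orderOf (s * t) = 3) :
    IsConj t s := by
  have hy3 := cube_eq_one hy
  set y := s * t with hyd
  have hsi : s⁻¹ = s := inv_eq_of_mul_eq_one_right hs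
  have hti : t⁻¹ = t := inv_eq_of_mul_eq_one_right ht
  have h1 : y * y * y = 1 := hy3
  rw [isConj_iff]
  -- `s = y⁻¹ t y`
  refine ⟨y⁻¹, ?_⟩
  have hyi : y⁻¹ = t * s := by
    rw [hyd, mul_inv_rev, hsi, hti]
  have hyy : y⁻¹ * y⁻¹ = y := by
    have h2 : y * y = y⁻¹ := by
      rw [eq_inv_iff_mul_eq_one]
      exact h1
    rw [← h2]
    calc y * y * (y * y) = (y * y * y) * y := by group
      _ = y := by rw [h1, one_mul]
  calc y⁻¹ * t * y⁻¹⁻¹ = y⁻¹ * (t * y) := by group
    _ = y⁻¹ * (y⁻¹ * t) := by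
      rw [hyi, hyd]
      group
    _ = y * t := by rw [← mul_assoc, hyy]
    _ = s := by rw [hyd, mul_assoc, ht, mul_one]

end Cfsg.Agent.Lib.Blocks.SC3
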