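import Mathlib
import Cfsg.Prelude.Def_Blocks
import Cfsg.Agent.Lib.Blocks.SC3G
import Cfsg.Agent.Lib.Blocks.WeakOrth
import Cfsg.Agent.Lib.Blocks.Principal
import Cfsg.Agent.Lib.Char.BrauerSCNum
import Cfsg.Agent.Lib.Blocks.BSInd
import Cfsg.Agent.Lib.Char.Codegree
import Cfsg.Agent.Lib.Char.LinearChars
import Cfsg.Agent.Lib.Char.CompleteCor

/-!
# Groups with a self-centralizing subgroup of order 3: the three characters not vanishing on `x`
-/

set_option autoImplicit false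

namespace Cfsg.Agent.Lib.Blocks.SC3

open Cfsg Cfsg.Agent.Lib.Blocks.Principal
open scoped ComplexConjugate

universe u

variable {G : Type u} [Group G] [Finite G]

/-- The multiplicity of the trivial character on a subgroup on which `χ` is constant off the identity. -/
theorem exists_nat_of_subgroup {χ : G → ℂ} (hχ : IsCharacter G χ) (B : Subgroup G) {v : ℂ}
    (hv : ∀ b ∈ B, b ≠ 1 → χ b = v) : ∃ n : ℕ, χ 1 + ((Nat.card B : ℂ) - 1) * v = (Nat.card B : ℂ) * n := by
  classical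
  haveI : Fintype B := Fintype.ofFinite B
  have h1 := Cfsg.Agent.Lib.Char.Basic.isCharacter_comp_hom hχ B.subtype
  have h2 := Cfsg.Agent.Lib.Char.Basic.isCharacter_of_isIrrCharacter (trivChar B).2
  obtain ⟨n, hn⟩ := Cfsg.Agent.Lib.Char.Ortho.exists_nat_classInner_of_isCharacter h1 h2
  refine ⟨n, ?_⟩
  rw [← hn, Cfsg.Agent.Lib.Char.Induced.classInner_def]
  have hB : (Nat.card B : ℂ) ≠ 0 := by
    exact_mod_cast Nat.card_pos.ne'
  rw [← mul_assoc, mul_inv_cancel₀ hB, one_mul]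
  simp only [coe_trivChar, map_one, mul_one, Subgroup.subtype_apply]
  rw [← Finset.add_sum_erase Finset.univ _ (Finset.mem_univ (1 : B))]
  congr 1
  rw [Finset.sum_congr rfl (g := fun _ => v)]
  · rw [Finset.sum_const, Finset.card_erase_of_mem (Finset.mem_univ _), Finset.card_univ, nsmul_eq_mul,
      Nat.cast_sub Fintype.card_pos, Nat.card_eq_fintype_card]
    simp
  · intro b hb
    apply hv b b.2
    intro h3
    apply (Finset.mem_erase.mp hb).1
    exact Subtype.ext h3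

/-- The centralizer of an element of order 3 has order 3. -/
theorem card_cen_three (hS : SCH G) {x : G} (hx : orderOf x = 3) : Nat.card (Subgroup.centralizer ({x} : Set G)) = 3 := by
  have h1 : Subgroup.centralizer ({x} : Set G) = Subgroup.zpowers x := by
    apply le_antisymm
    · intro c hc
      exact hS x hx c (mem_Cn.mp hc)
    · intro c hc
      obtain ⟨i, rfl⟩ := Subgroup.mem_zpowers_iff.mp hc
      apply mem_Cn.mpr
      exact ((Commute.refl x).zpow_left i).eq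
  rw [h1, Nat.card_zpowers, hx]

/-- The integrality of the values at `x`. -/
theorem exists_int_value {χ : G → ℂ} (hχ : IsIrrCharacter G χ) {x : G} (hx : orderOf x = 3)
    (hK : ∀ y : G, orderOf y = 3 → IsConj x y) : ∃ z : ℤ, χ x = z := by
  have hc := Cfsg.Agent.Lib.Char.Basic.isCharacter_of_isIrrCharacter hχ
  obtain ⟨m, hm⟩ := exists_nat_of_subgroup hc (Subgroup.zpowers x) (v := χ x) (by
    intro b hb hb1
    have h1 := pow_eq_one_of_mem_zpowers hx hb
    have h2 : orderOf b = 3 := orderOf_eq_prime h1 hb1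
    have h3 := hK b h2
    obtain ⟨k, rfl⟩ := isConj_iff.1 h3
    exact Cfsg.Agent.Lib.Char.CompleteCor.isIrr_classFunction hχ x k)
  obtain ⟨D, hD⟩ := Cfsg.Agent.Lib.Char.Values.IsCharacter.exists_one_eq hc
  rw [Nat.card_zpowers, hx, hD] at hm
  push_cast at hm
  have h1 : χ x = (((3 * m - D : ℤ) : ℚ) / 2 : ℚ) := by
    push_cast
    linear_combination (1 / 2 : ℂ) * hm
  have hint := Cfsg.Agent.Lib.Char.Values.IsCharacter.isIntegral hc x
  rw [h1] at hint
  have hint2 : IsIntegral ℤ (((3 * m - D : ℤ) : ℚ) / 2 : ℚ) := by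
    have h2 : algebraMap ℚ ℂ (((3 * m - D : ℤ) : ℚ) / 2 : ℚ) = ((((3 * m - D : ℤ) : ℚ) / 2 : ℚ) : ℂ) := rfl
    rw [← h2] at hint
    exact (isIntegral_algebraMap_iff (algebraMap ℚ ℂ).injective).1 hint
  obtain ⟨z, hz⟩ := IsIntegrallyClosed.isIntegral_iff.1 hint2
  refine ⟨z, ?_⟩
  rw [h1, ← hz]
  simp

section Combinatorics

variable {ι : Type*} [Fintype ι] [DecidableEq ι]

/-- Integers with squares adding to 3, one of them 1. -/
theorem finset_two (z : ι → ℤ) (i₀ : ι) (hz0 : z i₀ = 1) (hs : ∑ i, (z i) ^ 2 = 3) :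
    ∃ i j, i ≠ i₀ ∧ j ≠ i₀ ∧ i ≠ j ∧ (z i = 1 ∨ z i = -1) ∧ (z j = 1 ∨ z j = -1) ∧
      ∀ k, k ≠ i₀ → k ≠ i → k ≠ j → z k = 0 := by
  have h1 : ∑ i ∈ Finset.univ.erase i₀, (z i) ^ 2 = 2 := by
    have h2 := Finset.add_sum_erase Finset.univ (fun i => (z i) ^ 2) (Finset.mem_univ i₀)
    rw [hs, hz0] at h2
    omega
  set s := (Finset.univ.erase i₀).filter (fun i => z i ≠ 0) with hs'
  have h2 : ∑ i ∈ s, (z i) ^ 2 = 2 := by
    rw [hs', Finset.sum_filter_of_ne]
    · exact h1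
    · intro i _ h3 h4
      apply h3
      rw [h4]
      norm_num
  have hone : ∀ i ∈ s, 1 ≤ (z i) ^ 2 := by
    intro i hi
    have h3 := (Finset.mem_filter.mp hi).2
    have h4 : 0 < (z i) ^ 2 := by positivity
    omega
  have hcard : s.card ≤ 2 := by
    have h3 : s.card * 1 ≤ ∑ i ∈ s, (z i) ^ 2 := by
      have := Finset.card_nsmul_le_sum s (fun i => (z i) ^ 2) 1 hone
      simpa using this
    rw [h2] at h3
    simp only [mul_one] at h3
    exact_mod_cast h3
  have hmemne : ∀ i ∈ s, i ≠ i₀ := fun i hi => (Finset.mem_erase.mp (Finset.mem_filter.mp hi).1).1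
  have hzero : ∀ k, k ≠ i₀ → k ∉ s → z k = 0 := by
    intro k hk hks
    by_contra h3
    exact hks (Finset.mem_filter.mpr ⟨Finset.mem_erase.mpr ⟨hk, Finset.mem_univ _⟩, h3⟩)
  have hcases : s.card = 0 ∨ s.card = 1 ∨ s.card = 2 := by omega
  rcases hcases with h3 | h3 | h3
  · rw [Finset.card_eq_zero] at h3
    rw [h3] at h2
    simp at h2
  · exfalso
    obtain ⟨i, hi⟩ := Finset.card_eq_one.mp h3
    rw [hi, Finset.sum_singleton] at h2
    have h4 : z i ≤ 1 := by nlinarith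
    have h5 : -1 ≤ z i := by nlinarith
    interval_cases (z i) <;> omega
  · obtain ⟨i, j, hij, hi⟩ := Finset.card_eq_two.mp h3
    have hi1 : i ∈ s := by rw [hi]; simp
    have hj1 : j ∈ s := by rw [hi]; simp
    rw [hi, Finset.sum_pair hij] at h2
    have h4 := hone i hi1
    have h5 := hone j hj1
    have hsq : ∀ w : ℤ, w ^ 2 = 1 → w = 1 ∨ w = -1 := by
      intro w hw
      have h6 : (w - 1) * (w + 1) = 0 := by linear_combination hw
      rcases mul_eq_zero.mp h6 with h7 | h7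
      · left; omega
      · right; omega
    refine ⟨i, j, hmemne i hi1, hmemne j hj1, hij, hsq _ (by omega), hsq _ (by omega), ?_⟩
    intro k hk hki hkj
    apply hzero k hk
    rw [hi]
    simp [hki, hkj]

theorem sum_three (z : ι → ℤ) {i₀ i j : ι} (h1 : i ≠ i₀) (h2 : j ≠ i₀) (h3 : i ≠ j)
    (h0 : ∀ k, k ≠ i₀ → k ≠ i → k ≠ j → z k = 0) (f : ι → ℂ) :
    ∑ k, f k * (z k : ℂ) = f i₀ * z i₀ + f i * z i + f j * z j := by
  have hsub : ({i₀, i, j} : Finset ι) ⊆ Finset.univ := Finset.subset_univ _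
  rw [← Finset.sum_subset hsub]
  · rw [Finset.sum_insert, Finset.sum_pair h3]
    · ring
    · simp only [Finset.mem_insert, Finset.mem_singleton, not_or]
      exact ⟨h1.symm, h2.symm⟩
  · intro k _ hk
    simp only [Finset.mem_insert, Finset.mem_singleton, not_or] at hk
    rw [h0 k hk.1 hk.2.1 hk.2.2]
    simp

end Combinatorics

/-- **The exceptional characters.** -/
theorem exists_theta (hS : SCH G) {x : G} (hx : orderOf x = 3) (hK : ∀ y : G, orderOf y = 3 → IsConj x y) :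
    ∃ (χ₁ χ₂ : IrrCharacter G) (a : ℕ), (χ₁ : G → ℂ) x = 1 ∧ (χ₂ : G → ℂ) x = -1 ∧ (χ₁ : G → ℂ) 1 = a ∧
      (χ₂ : G → ℂ) 1 = a + 1 ∧ χ₁ ≠ trivChar G ∧ χ₂ ≠ trivChar G ∧
      (∀ g, IsConj g x → 1 + (χ₁ : G → ℂ) g - (χ₂ : G → ℂ) g = 3) ∧
      (∀ g, ¬ IsConj g x → 1 + (χ₁ : G → ℂ) g - (χ₂ : G → ℂ) g = 0) := by
  classical
  haveI : Fintype G := Fintype.ofFinite G
  haveI : Fintype (IrrCharacter G) := Fintype.ofFinite _
  choose z hz using fun χ : IrrCharacter G => exists_int_value χ.2 hx hK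
  have hconj : ∀ χ : IrrCharacter G, conj ((χ : G → ℂ) x) = (z χ : ℂ) := by
    intro χ
    rw [hz χ]
    simp
  have hz1 : z (trivChar G) = 1 := by
    have h1 := hz (trivChar G)
    simp only [coe_trivChar] at h1
    exact_mod_cast h1.symm
  have hsq : ∑ χ : IrrCharacter G, (z χ) ^ 2 = 3 := by
    have h1 := Cfsg.Agent.Lib.Char.CompleteCor.column_orth_conj (IsConj.refl x)
    rw [card_cen_three hS hx] at h1
    have h2 : ((∑ χ : IrrCharacter G, (z χ) ^ 2 : ℤ) : ℂ) = ((3 : ℤ) : ℂ) := by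
      push_cast
      rw [← Nat.cast_ofNat (R := ℂ), ← h1]
      · refine Finset.sum_congr rfl fun χ _ => ?_
        rw [hconj, hz χ]
        ring
    exact_mod_cast h2
  have hcol : ∀ g, ∑ χ : IrrCharacter G, (χ : G → ℂ) g * (z χ : ℂ) =
      if IsConj g x then 3 else 0 := by
    intro g
    split_ifs with hg
    · have h1 := Cfsg.Agent.Lib.Char.CompleteCor.column_orth_conj hg
      have h2 : orderOf g = 3 := by
        obtain ⟨k, hk⟩ := isConj_iff.1 hg
        have h3 : (MulAut.conj k) g = x := hk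
        rw [← hx, ← h3, MulEquiv.orderOf_eq]
      rw [card_cen_three hS h2] at h1
      rw [← Nat.cast_ofNat (R := ℂ), ← h1]
      refine Finset.sum_congr rfl fun χ _ => ?_
      rw [hconj]
    · have h1 := Cfsg.Agent.Lib.Char.CompleteCor.column_orth_not_conj hg
      rw [← h1]
      refine Finset.sum_congr rfl fun χ _ => ?_
      rw [hconj]
  obtain ⟨i, j, hi, hj, hij, hzi, hzj, hrest⟩ := finset_two z (trivChar G) hz1 hsq
  have hexp : ∀ g, (if IsConj g x then (3 : ℂ) else 0) = 1 + (i : G → ℂ) g * z i + (j : G → ℂ) g * z j := by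
    intro g
    rw [← hcol g, sum_three z hi hj hij hrest (fun χ => (χ : G → ℂ) g), hz1]
    simp
  have hone : ¬ IsConj (1 : G) x := by
    intro h1
    have h2 := isConj_one_right.mp h1
    rw [h2, orderOf_one] at hx
    omega
  have h1 := hexp 1
  rw [if_neg hone] at h1
  obtain ⟨Di, hDi, hDi'⟩ := Cfsg.Agent.Lib.Char.Ortho.irr_degree_pos i.2
  obtain ⟨Dj, hDj, hDj'⟩ := Cfsg.Agent.Lib.Char.Ortho.irr_degree_pos j.2
  rw [hDi', hDj'] at h1
  have key : ∀ (p q : IrrCharacter G) (Dp : ℕ), p ≠ trivChar G → q ≠ trivChar G → z p = 1 → z q = -1 →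
      (p : G → ℂ) 1 = Dp → (q : G → ℂ) 1 = Dp + 1 →
      (∀ g, (if IsConj g x then (3 : ℂ) else 0) = 1 + (p : G → ℂ) g - (q : G → ℂ) g) →
      ∃ (χ₁ χ₂ : IrrCharacter G) (a : ℕ), (χ₁ : G → ℂ) x = 1 ∧ (χ₂ : G → ℂ) x = -1 ∧ (χ₁ : G → ℂ) 1 = a ∧
      (χ₂ : G → ℂ) 1 = a + 1 ∧ χ₁ ≠ trivChar G ∧ χ₂ ≠ trivChar G ∧
      (∀ g, IsConj g x → 1 + (χ₁ : G → ℂ) g - (χ₂ : G → ℂ) g = 3) ∧
      (∀ g, ¬ IsConj g x → 1 + (χ₁ : G → ℂ) g - (χ₂ : G → ℂ) g = 0) := by
    intro p q Dp hp hq hzp hzq h1p h1q hform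
    refine ⟨p, q, Dp, ?_, ?_, h1p, h1q, hp, hq, ?_, ?_⟩
    · rw [hz p, hzp]; simp
    · rw [hz q, hzq]; simp
    · intro g hg
      have := hform g
      rw [if_pos hg] at this
      exact this.symm
    · intro g hg
      have := hform g
      rw [if_neg hg] at this
      exact this.symm
  have hDpos : (Di : ℂ) ≠ 0 := by exact_mod_cast hDi.ne'
  rcases hzi with hzi | hzi <;> rcases hzj with hzj | hzj <;> rw [hzi, hzj] at h1 <;> push_cast at h1
  · exfalso
    have h2 : ((1 + Di + Dj : ℕ) : ℂ) = 0 := by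
      push_cast
      linear_combination -h1
    have h3 : 1 + Di + Dj = 0 := by exact_mod_cast h2
    omega
  · have h2 : ((Dj : ℤ) : ℂ) = ((Di + 1 : ℤ) : ℂ) := by
      push_cast
      linear_combination h1
    have h3 : (Dj : ℤ) = Di + 1 := by exact_mod_cast h2
    refine key i j Di hi hj hzi hzj hDi' (by rw [hDj']; have := h2; push_cast at this; exact this) ?_
    intro g
    rw [hexp g, hzi, hzj]
    push_cast
    ring
  · have h2 : ((Di : ℤ) : ℂ) = ((Dj + 1 : ℤ) : ℂ) := by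
      push_cast
      linear_combination h1
    have h3 : (Di : ℤ) = Dj + 1 := by exact_mod_cast h2
    refine key j i Dj hj hi hzj hzi hDj' (by rw [hDi']; have := h2; push_cast at this; exact this) ?_
    intro g
    rw [hexp g, hzi, hzj]
    push_cast
    ring
  · exfalso
    have h2 : ((1 : ℕ) : ℂ) = ((Di + Dj : ℕ) : ℂ) := by
      push_cast
      linear_combination -h1
    have h3 : 1 = Di + Dj := by exact_mod_cast h2
    omega

end Cfsg.Agent.Lib.Blocks.SC3
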