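import Mathlib
import Cfsg.Agent.Lib.Blocks.SC3H

/-!
# Groups with a self-centralizing subgroup of order 3: class sums
-/

set_option autoImplicit false

namespace Cfsg.Agent.Lib.Blocks.SC3

open Cfsg Cfsg.Agent.Lib.Blocks.Principal
open scoped ComplexConjugate

universe u

variable {G : Type u} [Group G]

/-- The data of the three characters. -/
structure Theta [Finite G] (x : G) (χ₁ χ₂ : IrrCharacter G) (a : ℕ) : Prop where
  v1 : (χ₁ : G → ℂ) x = 1
  v2 : (χ₂ : G → ℂ) x = -1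
  d1 : (χ₁ : G → ℂ) 1 = a
  d2 : (χ₂ : G → ℂ) 1 = a + 1
  ne1 : χ₁ ≠ trivChar G
  t3 : ∀ g, IsConj g x → 1 + (χ₁ : G → ℂ) g - (χ₂ : G → ℂ) g = 3
  t0 : ∀ g, ¬ IsConj g x → 1 + (χ₁ : G → ℂ) g - (χ₂ : G → ℂ) g = 0

/-- The number of conjugates `s` of `z` with `s g` conjugate to `x`. -/
noncomputable def Cnt (x z g : G) : ℕ := Nat.card {s : G // IsConj z s ∧ IsConj (s * g) x}

variable [Finite G] {x : G} {χ₁ χ₂ : IrrCharacter G} {a : ℕ}

/-- The class sum formula. -/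
theorem cnt_formula (h : Theta x χ₁ χ₂ a) (z g : G) :
    (3 : ℂ) * Cnt x z g = ((Subgroup.centralizer ({z} : Set G)).index : ℂ) *
      (1 + (χ₁ : G → ℂ) z * (χ₁ : G → ℂ) g / a - (χ₂ : G → ℂ) z * (χ₂ : G → ℂ) g / (a + 1)) := by
  classical
  haveI : Fintype G := Fintype.ofFinite G
  have h1 := Cfsg.Agent.Lib.Blocks.WeakOrth.sum_isConj_mul χ₁.2 z g
  have h2 := Cfsg.Agent.Lib.Blocks.WeakOrth.sum_isConj_mul χ₂.2 z g
  have h3 := Cfsg.Agent.Lib.Blocks.WeakOrth.sum_isConj_mul (trivChar G).2 z g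
  simp only [coe_trivChar] at h3
  rw [centralChar_trivChar] at h3
  have hcnt : (Cnt x z g : ℂ) = ∑ s : G, if IsConj z s ∧ IsConj (s * g) x then (1 : ℂ) else 0 := by
    rw [Finset.sum_boole, Cnt, Nat.card_eq_fintype_card, Fintype.card_subtype]
  have hsum : (3 : ℂ) * Cnt x z g = ∑ s : G, if IsConj z s then (1 + (χ₁ : G → ℂ) (s * g) - (χ₂ : G → ℂ) (s * g)) else 0 := by
    rw [hcnt, Finset.mul_sum]
    refine Finset.sum_congr rfl fun s _ => ?_
    by_cases h5 : IsConj z s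
    · rw [if_pos h5]
      by_cases h6 : IsConj (s * g) x
      · rw [if_pos ⟨h5, h6⟩, h.t3 _ h6]
        ring
      · rw [if_neg (fun h7 => h6 h7.2), h.t0 _ h6]
        ring
    · rw [if_neg h5, if_neg (fun h7 => h5 h7.1)]
      ring
  rw [hsum]
  have hsplit : ∀ s : G, (if IsConj z s then (1 + (χ₁ : G → ℂ) (s * g) - (χ₂ : G → ℂ) (s * g)) else 0) =
      (if IsConj z s then (1 : ℂ) else 0) + (if IsConj z s then (χ₁ : G → ℂ) (s * g) else 0) -
        (if IsConj z s then (χ₂ : G → ℂ) (s * g) else 0) := by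
    intro s
    split_ifs <;> ring
  simp only [hsplit]
  rw [Finset.sum_sub_distrib, Finset.sum_add_distrib, h1, h2, h3]
  simp only [centralChar]
  rw [h.d1, h.d2]
  ring

/-- The formula on elements not conjugate to `x`. -/
theorem cnt_RR (h : Theta x χ₁ χ₂ a) (ha : a ≠ 0) {z g : G} (hz : ¬ IsConj z x) (hg : ¬ IsConj g x) :
    (3 : ℂ) * Cnt x z g * (a * (a + 1)) = ((Subgroup.centralizer ({z} : Set G)).index : ℂ) *
      ((a - (χ₁ : G → ℂ) z) * (a - (χ₁ : G → ℂ) g)) := by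
  have h1 := cnt_formula h z g
  have h2 : (χ₂ : G → ℂ) z = 1 + (χ₁ : G → ℂ) z := by linear_combination -(h.t0 z hz)
  have h3 : (χ₂ : G → ℂ) g = 1 + (χ₁ : G → ℂ) g := by linear_combination -(h.t0 g hg)
  have ha0 : (a : ℂ) ≠ 0 := by exact_mod_cast ha
  have ha1 : (a : ℂ) + 1 ≠ 0 := by exact_mod_cast (Nat.succ_ne_zero a)
  rw [h1, h2, h3]
  field_simp
  ring

/-- The formula for the class of `x`. -/
theorem cnt_x (h : Theta x χ₁ χ₂ a) (ha : a ≠ 0) {t : G} (ht : ¬ IsConj t x) :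
    (3 : ℂ) * Cnt x x t * (a * (a + 1)) = ((Subgroup.centralizer ({x} : Set G)).index : ℂ) *
      (a * (a + 1) + (a + 1) * (χ₁ : G → ℂ) t + a * (1 + (χ₁ : G → ℂ) t)) := by
  have h1 := cnt_formula h x t
  have h2 : (χ₂ : G → ℂ) t = 1 + (χ₁ : G → ℂ) t := by linear_combination -(h.t0 t ht)
  have ha0 : (a : ℂ) ≠ 0 := by exact_mod_cast ha
  have ha1 : (a : ℂ) + 1 ≠ 0 := by exact_mod_cast (Nat.succ_ne_zero a)
  rw [h1, h2, h.v1, h.v2]
  field_simp
  ring

/-- Involutions inverting `x`: the self count. -/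
theorem cnt_self (hS : SCH G) (hK : ∀ y : G, orderOf y = 3 → IsConj x y) (hx : orderOf x = 3) {t : G} (ht : orderOf t = 2)
    (htx : t * x * t⁻¹ = x⁻¹) : Cnt x t t = Nat.card (Cn t) := by
  classical
  have ht1 : t * t = 1 := by
    have := pow_orderOf_eq_one t
    rwa [ht, pow_two] at this
  have hti : t⁻¹ = t := inv_eq_of_mul_eq_one_right ht1
  have hne : t ≠ 1 := by
    rintro rfl
    rw [orderOf_one] at ht
    omega
  -- conjugates of `x` by `C(t)` are inverted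
  have hinvy : ∀ h ∈ Cn t, t * (h * x * h⁻¹) * t⁻¹ = (h * x * h⁻¹)⁻¹ := by
    intro h hh
    have hc := mem_Cn.mp hh
    have hc' : t * h = h * t := hc.symm
    calc t * (h * x * h⁻¹) * t⁻¹ = (t * h) * x * (t * h)⁻¹ * (t * h⁻¹ * t⁻¹ * h) * (h⁻¹ * t * h * t⁻¹) := by group
      _ = (h * t) * x * (h * t)⁻¹ * (t * h⁻¹ * t⁻¹ * h) * (h⁻¹ * t * h * t⁻¹) := by rw [hc']
      _ = h * (t * x * t⁻¹) * h⁻¹ * (t * h⁻¹ * t⁻¹ * h) * (h⁻¹ * t * h * t⁻¹) := by group
      _ = h * x⁻¹ * h⁻¹ * (t * h⁻¹ * t⁻¹ * h) * (h⁻¹ * t * h * t⁻¹) := by rw [htx]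
      _ = h * x⁻¹ * h⁻¹ * (t * h⁻¹ * t⁻¹ * h) * (h⁻¹ * (t * h) * t⁻¹) := by group
      _ = h * x⁻¹ * h⁻¹ * (t * h⁻¹ * t⁻¹ * h) * (h⁻¹ * (h * t) * t⁻¹) := by rw [hc']
      _ = h * x⁻¹ * h⁻¹ * (t * h⁻¹ * t⁻¹ * h) := by group
      _ = h * x⁻¹ * h⁻¹ * (t * h⁻¹ * (t⁻¹ * h)) := by group
      _ = h * x⁻¹ * h⁻¹ * (t * h⁻¹ * (h * t⁻¹)) := by
        have : t⁻¹ * h = h * t⁻¹ := by rw [hti, hc']
        rw [this]
      _ = h * x⁻¹ * h⁻¹ := by group
      _ = _ := by group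
  have hord : ∀ h : G, orderOf (h * x * h⁻¹) = 3 := by
    intro h
    have : h * x * h⁻¹ = (MulAut.conj h) x := rfl
    rw [this, MulEquiv.orderOf_eq]
    exact hx
  have hinvol : ∀ h ∈ Cn t, (h * x * h⁻¹) * t * ((h * x * h⁻¹) * t) = 1 := by
    intro h hh
    have h1 := hinvy h hh
    calc (h * x * h⁻¹) * t * ((h * x * h⁻¹) * t) = (h * x * h⁻¹) * (t * (h * x * h⁻¹) * t⁻¹) * (t * t) := by group
      _ = _ := by rw [h1, ht1]; group
  symm
  refine Nat.card_congr (Equiv.ofBijective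
    (fun h : Cn t => (⟨(h * x * (h : G)⁻¹) * t, ?_, ?_⟩ : {s : G // IsConj t s ∧ IsConj (s * t) x})) ⟨?_, ?_⟩)
  · apply isConj_of_mul_order_three (hinvol h h.2) ht1
    have h2 : (h * x * (h : G)⁻¹) * t * t = h * x * (h : G)⁻¹ := by
      rw [mul_assoc _ t t, ht1, mul_one]
    rw [h2]
    exact hord h
  · have h2 : (h * x * (h : G)⁻¹) * t * t = h * x * (h : G)⁻¹ := by
      rw [mul_assoc _ t t, ht1, mul_one]
    rw [h2]
    exact (isConj_iff.mpr ⟨(h : G), rfl⟩).symm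
  · intro h h' he
    have he' : (h * x * (h : G)⁻¹) * t = (h' * x * (h' : G)⁻¹) * t := congrArg Subtype.val he
    have he2 := mul_right_cancel he'
    have h4 : ((h' : G)⁻¹ * h) * x = x * ((h' : G)⁻¹ * h) := by
      calc ((h' : G)⁻¹ * h) * x = (h' : G)⁻¹ * (h * x * (h : G)⁻¹) * h := by group
        _ = (h' : G)⁻¹ * (h' * x * (h' : G)⁻¹) * h := by rw [he2]
        _ = _ := by group
    have h5 := hS x hx _ h4
    have hw3 := pow_eq_one_of_mem_zpowers hx h5
    have hwc : (h' : G)⁻¹ * h ∈ Cn t := (Cn t).mul_mem ((Cn t).inv_mem h'.2) h.2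
    have h6 : (h' : G)⁻¹ * h = 1 := by
      by_contra h7
      have h8 : orderOf ((h' : G)⁻¹ * h) = 3 := orderOf_eq_prime hw3 h7
      apply Tri.not_commute_inv hS ht1 hne h8
      exact (mem_Cn.mp hwc).symm
    have h9 : (h : G) = h' := by
      have := mul_eq_one_iff_eq_inv.mp h6
      exact (inv_inj.mp this).symm
    exact Subtype.ext h9
  · rintro ⟨s, hs1, hs2⟩
    obtain ⟨g, hg⟩ := isConj_iff.mp hs2.symm
    set y := s * t with hy
    have hs1' : s * s = 1 := by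
      obtain ⟨k, hk⟩ := isConj_iff.mp hs1
      rw [← hk]
      calc k * t * k⁻¹ * (k * t * k⁻¹) = k * (t * t) * k⁻¹ := by group
        _ = 1 := by rw [ht1]; group
    have hsi : s⁻¹ = s := inv_eq_of_mul_eq_one_right hs1'
    have hyord : orderOf y = 3 := by
      rw [← hg]
      exact hord g
    have hy3 := cube_eq_one hyord
    -- `t` inverts `y`
    have hty : t * y * t⁻¹ = y⁻¹ := by
      rw [hy, mul_inv_rev, hsi, hti]
      calc t * (s * t) * t = t * s * (t * t) := by group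
        _ = _ := by rw [ht1]; group
    set t' := g * t * g⁻¹ with ht'
    have ht'y : t' * y * t'⁻¹ = y⁻¹ := by
      rw [ht', ← hg]
      calc g * t * g⁻¹ * (g * x * g⁻¹) * (g * t * g⁻¹)⁻¹ = g * (t * x * t⁻¹) * g⁻¹ := by group
        _ = _ := by rw [htx]; group
    have hcomm : (t * t') * y = y * (t * t') := by
      calc (t * t') * y = t * (t' * y * t'⁻¹) * t' := by group
        _ = t * y⁻¹ * t' := by rw [ht'y]
        _ = t * y⁻¹ * t⁻¹ * (t * t') := by group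
        _ = _ := by
          have h5 : t * y⁻¹ * t⁻¹ = y := by
            have h6 : t * y⁻¹ * t⁻¹ = (t * y * t⁻¹)⁻¹ := by group
            rw [h6, hty, inv_inv]
          rw [h5]
    have hmem := hS y hyord _ hcomm
    rw [mem_zpowers_iff_mem_range_orderOf, hyord] at hmem
    simp only [Finset.mem_image, Finset.mem_range] at hmem
    obtain ⟨i, _, hi⟩ := hmem
    -- `y ^ i t y ^ (-i) = t y ^ i`
    have hyt : y * t = t * y⁻¹ := by
      calc y * t = t * (t⁻¹ * y * t) := by group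
        _ = t * (t * y * t⁻¹) := by rw [hti]
        _ = _ := by rw [hty]
    have hyit : ∀ k : ℕ, y ^ k * t = t * (y⁻¹) ^ k := by
      intro k
      induction k with
      | zero => simp
      | succ k ih =>
        rw [pow_succ, mul_assoc, hyt, ← mul_assoc, ih, pow_succ, mul_assoc]
    have hyi3 : (y ^ i) * (y ^ i) * (y ^ i) = 1 := by
      rw [← pow_add, ← pow_add]
      have : i + i + i = 3 * i := by ring
      rw [this, pow_mul]
      have h5 : y ^ 3 = 1 := by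
        rw [pow_succ, pow_two]
        exact hy3
      rw [h5, one_pow]
    have hconj : y ^ i * t * (y ^ i)⁻¹ = t * y ^ i := by
      rw [hyit i]
      have h5 : ((y⁻¹) ^ i) = (y ^ i)⁻¹ := by simp
      rw [h5]
      have h6 : (y ^ i)⁻¹ * (y ^ i)⁻¹ = y ^ i := by
        have h7 : (y ^ i) * (y ^ i) = (y ^ i)⁻¹ := by
          rw [eq_inv_iff_mul_eq_one]
          exact hyi3
        rw [← h7]
        calc y ^ i * y ^ i * (y ^ i * y ^ i) = (y ^ i * y ^ i * y ^ i) * y ^ i := by group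
          _ = y ^ i := by rw [hyi3, one_mul]
      rw [mul_assoc, h6]
    have ht'eq : t' = y ^ i * t * (y ^ i)⁻¹ := by
      rw [hconj, hi]
      rw [← mul_assoc, ht1, one_mul]
    -- the conjugating element centralizes `t`
    set g' := (y ^ i)⁻¹ * g with hg'
    have hg't : g' * t * g'⁻¹ = t := by
      have h5 : g' * t * g'⁻¹ = (y ^ i)⁻¹ * t' * y ^ i := by
        rw [hg', ht']
        group
      rw [h5, ht'eq]
      group
    have hg'x : g' * x * g'⁻¹ = y := by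
      have h5 : g' * x * g'⁻¹ = (y ^ i)⁻¹ * (g * x * g⁻¹) * y ^ i := by
        rw [hg']
        group
      rw [h5, hg]
      have h6 : Commute (y ^ i) y := (Commute.refl y).pow_left i
      calc (y ^ i)⁻¹ * y * y ^ i = (y ^ i)⁻¹ * (y * y ^ i) := by group
        _ = (y ^ i)⁻¹ * (y ^ i * y) := by rw [h6.eq]
        _ = y := by group
    have hg'C : g' ∈ Cn t := by
      rw [mem_Cn]
      calc g' * t = (g' * t * g'⁻¹) * g' := by group
        _ = _ := by rw [hg't]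
    refine ⟨⟨g', hg'C⟩, ?_⟩
    apply Subtype.ext
    show (g' * x * g'⁻¹) * t = s
    rw [hg'x, hy, mul_assoc, ht1, mul_one]

/-- The count for the other involutions is zero. -/
theorem cnt_other {t t' : G} (hK : ∀ y : G, orderOf y = 3 → IsConj x y) (hx : orderOf x = 3) (ht1 : t * t = 1) (ht' : t' * t' = 1)
    (hne : ¬ IsConj t t') : Cnt x t t' = 0 := by
  rw [Cnt]
  haveI : IsEmpty {s : G // IsConj t s ∧ IsConj (s * t') x} := by
    refine ⟨fun s => ?_⟩
    obtain ⟨s, hs1, hs2⟩ := s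
    have hs1' : s * s = 1 := by
      obtain ⟨k, hk⟩ := isConj_iff.mp hs1
      rw [← hk]
      calc k * t * k⁻¹ * (k * t * k⁻¹) = k * (t * t) * k⁻¹ := by group
        _ = 1 := by rw [ht1]; group
    have h1 : orderOf (s * t') = 3 := by
      obtain ⟨k, hk⟩ := isConj_iff.mp hs2
      have h3 : (MulAut.conj k) (s * t') = x := hk
      rw [← hx, ← h3, MulEquiv.orderOf_eq]
    exact hne (hs1.trans (isConj_of_mul_order_three hs1' ht' h1).symm)
  exact Nat.card_of_isEmpty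

/-- The count of `Zt`. -/
theorem cnt_Zt (hK : ∀ y : G, orderOf y = 3 → IsConj x y) (hx : orderOf x = 3) (t : G) : Cnt x x t = Nat.card (Zt t) := by
  have hord : ∀ {g h : G}, IsConj g h → orderOf g = orderOf h := by
    intro g h hc
    obtain ⟨k, hk⟩ := isConj_iff.mp hc
    have h3 : (MulAut.conj k) g = h := hk
    rw [← h3, MulEquiv.orderOf_eq]
  rw [Cnt]
  refine Nat.card_congr (Equiv.subtypeEquivRight fun y => ?_)
  show _ ↔ y ∈ Zt t
  have h5 : IsConj (y * t) (t * y) := isConj_iff.mpr ⟨t, by group⟩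
  constructor
  · rintro ⟨h1, h2⟩
    refine ⟨(hord h1).symm.trans hx, ?_⟩
    rw [← hord h5, hord h2, hx]
  · rintro ⟨h1, h2⟩
    refine ⟨hK y h1, ?_⟩
    exact (hK _ (by rw [hord h5, h2])).symm

end Cfsg.Agent.Lib.Blocks.SC3
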