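import Mathlib
import Cfsg.Agent.Lib.Blocks.SC3I

/-!
# Groups with a self-centralizing subgroup of order 3: the orthogonality relations on the integer-valued character
-/

set_option autoImplicit false

namespace Cfsg.Agent.Lib.Blocks.SC3

open Cfsg Cfsg.Agent.Lib.Blocks.Principal
open scoped ComplexConjugate

universe u

variable {G : Type u} [Group G] [Finite G] {x : G} {χ₁ χ₂ : IrrCharacter G} {a : ℕ}

/-- When `|G| = 3 a (a + 1)` the values of `χ₁` at non-identity 3-regular elements are `0` or `-1`. -/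
theorem star (hT : Theta x χ₁ χ₂ a) (ha : a ≠ 0) (hc3 : Nat.card (Subgroup.centralizer ({x} : Set G)) = 3)
    (hG : Nat.card G = 3 * a * (a + 1)) {t : G} (ht : ¬ IsConj t x) (ht1 : t ≠ 1) (hone : ¬ IsConj (1 : G) x)
    {α : ℤ} (hα : (χ₁ : G → ℂ) t = α) {d : ℕ} (hd : (a : ℤ) - α = d)
    (hI : (Subgroup.centralizer ({t} : Set G)).index * d = Nat.card G) : α = 0 ∨ α = -1 := by
  classical
  haveI : Fintype G := Fintype.ofFinite G
  have ha0 : (a : ℂ) ≠ 0 := by exact_mod_cast ha
  have ha1 : (a : ℂ) + 1 ≠ 0 := by exact_mod_cast (Nat.succ_ne_zero a)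
  obtain ⟨w, hw⟩ : ∃ w : G → ℤ, ∀ g, (χ₁ : G → ℂ) g = w g := by
    refine ⟨fun g => if IsConj g x then 1 else (a : ℤ) - Cnt x t g, ?_⟩
    intro g
    simp only
    split_ifs with hg
    · rw [Cfsg.Agent.Lib.Char.CompleteCor.irr_apply_of_isConj hg χ₁, hT.v1]
      simp
    · have h1 := cnt_RR hT ha ht hg
      rw [hα] at h1
      have h2 : ((a : ℂ) - (α : ℂ)) = d := by
        have := congrArg (fun z : ℤ => (z : ℂ)) hd
        simpa using this
      rw [h2] at h1
      have h3 : ((Subgroup.centralizer ({t} : Set G)).index : ℂ) * d = 3 * a * (a + 1) := by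
        have := congrArg (fun z : ℕ => (z : ℂ)) (hI.trans hG)
        simpa using this
      have h4 : (3 : ℂ) * Cnt x t g * (a * (a + 1)) = (3 * a * (a + 1)) * (a - (χ₁ : G → ℂ) g) := by
        rw [h1, ← h3]
        ring
      have h5 : (3 : ℂ) * a * (a + 1) ≠ 0 := by
        apply mul_ne_zero (mul_ne_zero (by norm_num) ha0) ha1
      have h6 : (Cnt x t g : ℂ) = a - (χ₁ : G → ℂ) g := by
        apply mul_left_cancel₀ h5
        linear_combination h4
      push_cast
      rw [h6]
      ring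
  have hsum1 : ∑ g, w g = 0 := by
    have h1 := Cfsg.Agent.Lib.Char.Ortho.classInner_irr_of_ne χ₁.2 (trivChar G).2
      (fun h2 => hT.ne1 (Subtype.ext h2))
    rw [Cfsg.Agent.Lib.Char.Induced.classInner_def] at h1
    have hG0 : (Nat.card G : ℂ)⁻¹ ≠ 0 := inv_ne_zero (by exact_mod_cast Nat.card_pos.ne')
    have h2 := (mul_eq_zero.mp h1).resolve_left hG0
    simp only [coe_trivChar, map_one, mul_one] at h2
    simp only [hw] at h2
    exact_mod_cast h2
  have hsum2 : ∑ g, (w g) ^ 2 = Nat.card G := by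
    have h1 := Cfsg.Agent.Lib.Char.Ortho.classInner_irr_self χ₁.2
    rw [Cfsg.Agent.Lib.Char.Induced.classInner_def] at h1
    have hG0 : (Nat.card G : ℂ) ≠ 0 := by exact_mod_cast Nat.card_pos.ne'
    have h2 : ∑ g, (χ₁ : G → ℂ) g * conj ((χ₁ : G → ℂ) g) = Nat.card G := by
      field_simp at h1
      linear_combination h1
    simp only [hw] at h2
    have h3 : ∑ g, ((w g : ℂ) * (w g : ℂ)) = Nat.card G := by
      rw [← h2]
      refine Finset.sum_congr rfl fun g _ => ?_
      simp
    have h4 : ((∑ g, (w g) ^ 2 : ℤ) : ℂ) = ((Nat.card G : ℤ) : ℂ) := by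
      push_cast
      rw [← h3]
      refine Finset.sum_congr rfl fun g _ => ?_
      ring
    exact_mod_cast h4
  -- the count of the class of `x`
  have hK : ((Finset.univ.filter (fun g => IsConj g x)).card : ℤ) = a * (a + 1) := by
    have h1 := Cfsg.Agent.Lib.Blocks.WeakOrth.sum_isConj_mul (trivChar G).2 x 1
    simp only [coe_trivChar] at h1
    rw [centralChar_trivChar, Finset.sum_boole, mul_one] at h1
    have h2 : (Subgroup.centralizer ({x} : Set G)).index = a * (a + 1) := by
      have h3 := Subgroup.card_mul_index (Subgroup.centralizer ({x} : Set G))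
      rw [hc3, hG] at h3
      have h4 : 3 * (Subgroup.centralizer ({x} : Set G)).index = 3 * (a * (a + 1)) := by
        rw [h3]
        ring
      exact Nat.eq_of_mul_eq_mul_left (by norm_num) h4
    have h5 : (Finset.univ.filter (fun g => IsConj x g)).card = a * (a + 1) := by
      rw [← h2]
      exact_mod_cast h1
    have h6 : Finset.univ.filter (fun g => IsConj g x) = Finset.univ.filter (fun g => IsConj x g) := by
      ext g
      simp only [Finset.mem_filter, Finset.mem_univ, true_and]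
      exact ⟨fun h => h.symm, fun h => h.symm⟩
    rw [h6, h5]
    push_cast
    ring
  have hfnn : ∀ n : ℤ, 0 ≤ n ^ 2 + n := by
    intro n
    have h1 : n ^ 2 + n = n * (n + 1) := by ring
    rw [h1]
    rcases le_or_gt 0 n with h2 | h2
    · exact mul_nonneg h2 (by omega)
    · have h3 : n + 1 ≤ 0 := by omega
      exact mul_nonneg_of_nonpos_of_nonpos h2.le h3
  have hsumf : ∑ g, ((w g) ^ 2 + w g) = Nat.card G := by
    rw [Finset.sum_add_distrib, hsum1, hsum2, add_zero]
  have hw1 : w 1 = a := by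
    have h1 := hw 1
    rw [hT.d1] at h1
    exact_mod_cast h1.symm
  have hwt : w t = α := by
    have h1 := hw t
    rw [hα] at h1
    exact_mod_cast h1.symm
  have hfK : ∀ g ∈ Finset.univ.filter (fun g => IsConj g x), (w g) ^ 2 + w g = 2 := by
    intro g hg
    have hg' := (Finset.mem_filter.mp hg).2
    have h1 := hw g
    rw [Cfsg.Agent.Lib.Char.CompleteCor.irr_apply_of_isConj hg' χ₁, hT.v1] at h1
    have h2 : w g = 1 := by exact_mod_cast h1.symm
    rw [h2]
    norm_num
  set K := Finset.univ.filter (fun g => IsConj g x) with hKdef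
  let S : Finset G := insert 1 (insert t K)
  have htK : t ∉ K := fun h1 => ht (Finset.mem_filter.mp h1).2
  have h1K : (1 : G) ∉ insert t K := by
    intro h1
    rcases Finset.mem_insert.mp h1 with h2 | h2
    · exact ht1 h2.symm
    · exact hone (Finset.mem_filter.mp h2).2
  have hS : ∑ g ∈ S, ((w g) ^ 2 + w g) ≤ ∑ g, ((w g) ^ 2 + w g) :=
    Finset.sum_le_sum_of_subset_of_nonneg (Finset.subset_univ _) (fun g _ _ => hfnn _)
  rw [Finset.sum_insert h1K, Finset.sum_insert htK, Finset.sum_congr rfl hfK, Finset.sum_const, hsumf] at hS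
  simp only [hw1, hwt, nsmul_eq_mul] at hS
  rw [hK, hG] at hS
  push_cast at hS
  have h7 : α * (α + 1) ≤ 0 := by nlinarith
  have h8 : -1 ≤ α := by
    by_contra h9
    have h10 : α + 1 < 0 := by omega
    have h11 : α < 0 := by omega
    nlinarith
  have h9 : α ≤ 0 := by
    by_contra h10
    have h11 : 0 < α := by omega
    nlinarith
  omega

/-- Conjugate elements have the same order. -/
theorem orderOf_of_isConj {g h : G} (hc : IsConj g h) : orderOf g = orderOf h := by
  obtain ⟨k, hk⟩ := isConj_iff.mp hc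
  have h3 : (MulAut.conj k) g = h := hk
  rw [← h3, MulEquiv.orderOf_eq]

/-- Centralizers of conjugate elements have the same order. -/
theorem card_Cn_of_isConj {g h : G} (hc : IsConj g h) : Nat.card (Cn g) = Nat.card (Cn h) := by
  obtain ⟨k, rfl⟩ := isConj_iff.mp hc
  refine Nat.card_congr ⟨fun c => ⟨k * c * k⁻¹, ?_⟩, fun c => ⟨k⁻¹ * c * k, ?_⟩, ?_, ?_⟩
  · rw [mem_Cn]
    have h1 : (c : G) * g = g * c := mem_Cn.mp c.2
    calc k * c * k⁻¹ * (k * g * k⁻¹) = k * ((c : G) * g) * k⁻¹ := by group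
      _ = k * (g * c) * k⁻¹ := by rw [h1]
      _ = _ := by group
  · rw [mem_Cn]
    have h1 : (c : G) * (k * g * k⁻¹) = (k * g * k⁻¹) * c := mem_Cn.mp c.2
    calc k⁻¹ * c * k * g = k⁻¹ * ((c : G) * (k * g * k⁻¹)) * k := by group
      _ = k⁻¹ * ((k * g * k⁻¹) * c) * k := by rw [h1]
      _ = _ := by group
  · intro c
    apply Subtype.ext
    show k⁻¹ * (k * (c : G) * k⁻¹) * k = c
    group
  · intro c
    apply Subtype.ext
    show k * (k⁻¹ * (c : G) * k) * k⁻¹ = c
    group

/-- **The numerical consequences of the character theory.** -/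
theorem numeric_data [IsSimpleGroup G] (hnc : ¬ ∀ a b : G, a * b = b * a) (hS : SCH G) {x : G} (hx : orderOf x = 3) :
    ∃ a d e : ℕ,
      (∀ s t : G, orderOf s = 2 → orderOf t = 2 → IsConj s t) ∧ (∃ t : G, orderOf t = 2) ∧
      a % 3 = 1 ∧ 4 ≤ a ∧ 0 < d ∧ 0 < e ∧ Nat.card G = 3 * a * (a + 1) * e ^ 2 ∧
      (∀ t : G, orderOf t = 2 → Nat.card (Cn t) = d * e) ∧
      (∀ t : G, orderOf t = 2 → 3 * Nat.card (Zt t) + e ^ 2 * (2 * a + 1) * d = e ^ 2 * (3 * a * (a + 1))) ∧
      (∀ B : Subgroup G, (∀ b ∈ B, b ≠ 1 → orderOf b = 2) →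
        ∃ n : ℕ, Nat.card B * a = Nat.card B * n + (Nat.card B - 1) * d) ∧
      (e = 1 → d = a ∨ d = a + 1) := by
  classical
  haveI : Fintype G := Fintype.ofFinite G
  have hK : ∀ y : G, orderOf y = 3 → IsConj x y := fun y hy => isConj_of_order_three hnc hS hx hy
  obtain ⟨t₀, ht₀, ht₀x⟩ := exists_invert hnc hS hx
  obtain ⟨χ₁, χ₂, a, h1, h2, h3, h4, h5, -, h7, h8⟩ := exists_theta hS hx hK
  have hT : Theta x χ₁ χ₂ a := ⟨h1, h2, h3, h4, h5, h7, h8⟩
  have hnotx : ∀ t : G, orderOf t = 2 → ¬ IsConj t x := by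
    intro t ht hc
    have := orderOf_of_isConj hc
    omega
  have hone : ¬ IsConj (1 : G) x := by
    intro hc
    have := orderOf_of_isConj hc
    rw [orderOf_one] at this
    omega
  have hc1 := Cfsg.Agent.Lib.Char.Basic.isCharacter_of_isIrrCharacter χ₁.2
  have hc2 := Cfsg.Agent.Lib.Char.Basic.isCharacter_of_isIrrCharacter χ₂.2
  -- `a` is not `0` or `1`
  have ha0 : a ≠ 0 := by
    obtain ⟨D, hD, hD'⟩ := Cfsg.Agent.Lib.Char.Ortho.irr_degree_pos χ₁.2
    rw [hT.d1] at hD'
    have : a = D := by exact_mod_cast hD'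
    omega
  have ha1 : a ≠ 1 := by
    intro ha
    have h9 : (χ₁ : G → ℂ) 1 = 1 := by rw [hT.d1, ha]; simp
    obtain ⟨φ, hφ⟩ := Cfsg.Agent.Lib.Char.LinearChars.exists_hom_of_isCharacter_one hc1 h9
    rcases (inferInstance : (φ.ker).Normal).eq_bot_or_eq_top with h10 | h10
    · apply hnc
      intro u v
      have h11 : Function.Injective φ := (MonoidHom.ker_eq_bot_iff φ).mp h10
      apply h11
      rw [map_mul, map_mul, mul_comm]
    · apply hT.ne1
      apply Subtype.ext
      rw [hφ]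
      funext g
      have h11 : g ∈ φ.ker := by rw [h10]; trivial
      rw [MonoidHom.mem_ker.mp h11]
      simp
  -- `a ≡ 1` modulo 3
  have hamod : a % 3 = 1 := by
    obtain ⟨m, hm⟩ := exists_nat_of_subgroup hc1 (Subgroup.zpowers x) (v := 1) (by
      intro b hb hb1
      have h9 := pow_eq_one_of_mem_zpowers hx hb
      have h10 : orderOf b = 3 := orderOf_eq_prime h9 hb1
      rw [← Cfsg.Agent.Lib.Char.CompleteCor.irr_apply_of_isConj (hK b h10) χ₁, hT.v1])
    rw [Nat.card_zpowers, hx, hT.d1] at hm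
    have h9 : ((a + 2 : ℕ) : ℂ) = ((3 * m : ℕ) : ℂ) := by
      push_cast at hm ⊢
      linear_combination hm
    have h10 : a + 2 = 3 * m := by exact_mod_cast h9
    omega
  have ha4 : 4 ≤ a := by omega
  -- the value at an involution
  obtain ⟨α, hα⟩ := Cfsg.Agent.Lib.Blocks.BSInd.exists_int_of_involution hc1 ht₀
  have hαa : α ≤ a := by
    have h9 := Cfsg.Agent.Lib.Char.Values.IsCharacter.norm_le hc1 t₀
    rw [hα, hT.d1, Complex.norm_intCast, Complex.norm_natCast] at h9
    have h10 : (|α| : ℤ) ≤ a := by exact_mod_cast h9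
    exact (le_abs_self α).trans h10
  have hItwo : (Subgroup.centralizer ({t₀} : Set G)).index * Nat.card (Cn t₀) = Nat.card G := by
    rw [mul_comm]
    exact Subgroup.card_mul_index _
  have hself := cnt_self hS hK hx ht₀ ht₀x
  have hfact1 := cnt_RR hT ha0 (hnotx t₀ ht₀) (hnotx t₀ ht₀)
  rw [hself, hα] at hfact1
  set c₀ := Nat.card (Cn t₀) with hc₀
  set I₀ := (Subgroup.centralizer ({t₀} : Set G)).index with hI₀
  have hc₀pos : 0 < c₀ := Nat.card_pos
  have hI₀pos : 0 < I₀ := Nat.pos_of_ne_zero Subgroup.index_ne_zero_of_finite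
  have hfact2 : (3 : ℤ) * c₀ * (a * (a + 1)) = I₀ * (((a : ℤ) - α) * ((a : ℤ) - α)) := by
    exact_mod_cast hfact1
  have hdne : (a : ℤ) - α ≠ 0 := by
    intro h9
    rw [h9] at hfact2
    have h10 : (0 : ℤ) < (3 : ℤ) * c₀ * (a * (a + 1)) := by positivity
    omega
  obtain ⟨d, hd⟩ : ∃ d : ℕ, (a : ℤ) - α = d := ⟨((a : ℤ) - α).toNat, (Int.toNat_of_nonneg (by omega)).symm⟩
  have hd0 : 0 < d := by
    rw [hd] at hdne
    have : d ≠ 0 := by
      rintro rfl
      exact hdne rfl
    omega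
  rw [hd] at hfact2
  have hfact3 : 3 * c₀ * (a * (a + 1)) = I₀ * (d * d) := by exact_mod_cast hfact2
  have hGeq : 3 * a * (a + 1) * (c₀ * c₀) = Nat.card G * (d * d) := by
    rw [← hItwo]
    calc 3 * a * (a + 1) * (c₀ * c₀) = (3 * c₀ * (a * (a + 1))) * c₀ := by ring
      _ = (I₀ * (d * d)) * c₀ := by rw [hfact3]
      _ = _ := by ring
  -- one class of involutions
  have hconj₀ : ∀ t : G, orderOf t = 2 → IsConj t₀ t := by
    intro t ht
    by_contra hne
    have ht01 : t₀ * t₀ = 1 := by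
      have := pow_orderOf_eq_one t₀
      rwa [ht₀, pow_two] at this
    have ht1 : t * t = 1 := by
      have := pow_orderOf_eq_one t
      rwa [ht, pow_two] at this
    have h0 := cnt_other hK hx ht01 ht1 hne
    have h9 := cnt_RR hT ha0 (hnotx t₀ ht₀) (hnotx t ht)
    rw [h0, hα] at h9
    simp only [Nat.cast_zero, mul_zero, zero_mul] at h9
    have h10 : ((a : ℂ) - α) = d := by
      have := congrArg (fun z : ℤ => (z : ℂ)) hd
      simpa using this
    rw [h10] at h9
    have h11 : ((I₀ : ℂ)) ≠ 0 := by exact_mod_cast hI₀pos.ne'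
    have h12 : (d : ℂ) ≠ 0 := by exact_mod_cast hd0.ne'
    have h13 : (a : ℂ) - (χ₁ : G → ℂ) t = 0 := by
      have h14 := mul_eq_zero.mp h9.symm
      rcases h14 with h14 | h14
      · exact absurd h14 h11
      · exact (mul_eq_zero.mp h14).resolve_left h12
    -- the kernel
    obtain ⟨χ, hχ⟩ := χ₁
    obtain ⟨n, ρ, hρ, rfl⟩ := hχ
    have h14 : t ∈ Cfsg.Agent.Lib.Char.Codegree.repKer ρ := by
      rw [← Cfsg.Agent.Lib.Char.Codegree.character_eq_one_iff]
      have h15 : ρ.character 1 = a := hT.d1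
      have h16 : ρ.character t = a := by
        have : (a : ℂ) - ρ.character t = 0 := h13
        linear_combination -this
      rw [h15, h16]
    rcases (inferInstance : (Cfsg.Agent.Lib.Char.Codegree.repKer ρ).Normal).eq_bot_or_eq_top with h15 | h15
    · rw [h15, Subgroup.mem_bot] at h14
      rw [h14, orderOf_one] at ht
      omega
    · have h16 : x ∈ Cfsg.Agent.Lib.Char.Codegree.repKer ρ := by
        rw [h15]
        trivial
      rw [← Cfsg.Agent.Lib.Char.Codegree.character_eq_one_iff] at h16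
      have h17 : ρ.character 1 = a := hT.d1
      have h18 : ρ.character x = 1 := hT.v1
      rw [h17, h18] at h16
      have h19 : a = 1 := by exact_mod_cast h16.symm
      exact ha1 h19
  have hinv : ∀ s t : G, orderOf s = 2 → orderOf t = 2 → IsConj s t := fun s t hs ht =>
    (hconj₀ s hs).symm.trans (hconj₀ t ht)
  have hαall : ∀ t : G, orderOf t = 2 → (χ₁ : G → ℂ) t = α := by
    intro t ht
    rw [← hα]
    exact (Cfsg.Agent.Lib.Char.CompleteCor.irr_apply_of_isConj (hconj₀ t ht) χ₁).symm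
  -- divisibility
  have hda : a ∣ Nat.card G := Cfsg.Agent.Lib.Char.BrauerSCNum.degree_dvd χ₁ a hT.d1
  have hda1 : a + 1 ∣ Nat.card G := Cfsg.Agent.Lib.Char.BrauerSCNum.degree_dvd χ₂ (a + 1) (by push_cast; exact hT.d2)
  have hd3 : 3 ∣ Nat.card G := by
    rw [← hx]
    exact orderOf_dvd_natCard x
  have hco1 : Nat.Coprime 3 a := (Nat.Prime.coprime_iff_not_dvd (by norm_num)).mpr (by omega)
  have hco2 : Nat.Coprime 3 (a + 1) := (Nat.Prime.coprime_iff_not_dvd (by norm_num)).mpr (by omega)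
  have hco3 : Nat.Coprime a (a + 1) := by simp
  have hdall : 3 * a * (a + 1) ∣ Nat.card G :=
    Nat.Coprime.mul_dvd_of_dvd_of_dvd (Nat.Coprime.mul_left hco2 hco3)
      (Nat.Coprime.mul_dvd_of_dvd_of_dvd hco1 hd3 hda) hda1
  obtain ⟨E, hE⟩ := hdall
  have hposA : 0 < 3 * a * (a + 1) := by positivity
  have hc₀sq : c₀ * c₀ = E * (d * d) := by
    apply Nat.eq_of_mul_eq_mul_left hposA
    rw [hGeq, hE]
    ring
  have hddvd : d ∣ c₀ := by
    have h9 : d ^ 2 ∣ c₀ ^ 2 := by
      refine ⟨E, ?_⟩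
      rw [pow_two, pow_two, hc₀sq]
      ring
    exact (Nat.pow_dvd_pow_iff (by norm_num)).mp h9
  obtain ⟨e, he⟩ := hddvd
  have he0 : 0 < e := by
    rcases Nat.eq_zero_or_pos e with h9 | h9
    · rw [h9, mul_zero] at he
      omega
    · exact h9
  have hEe : E = e ^ 2 := by
    have h9 : 0 < d * d := by positivity
    apply Nat.eq_of_mul_eq_mul_right h9
    rw [← hc₀sq, he]
    ring
  have hGcard : Nat.card G = 3 * a * (a + 1) * e ^ 2 := by rw [hE, hEe]
  have hcard3 := card_cen_three hS hx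
  refine ⟨a, d, e, hinv, ⟨t₀, ht₀⟩, hamod, ha4, hd0, he0, hGcard, ?_, ?_, ?_, ?_⟩
  · intro t ht
    rw [← card_Cn_of_isConj (hconj₀ t ht), ← he]
  · intro t ht
    have hZ := cnt_x hT ha0 (hnotx t ht)
    rw [cnt_Zt hK hx t, hαall t ht] at hZ
    have hIx : (Subgroup.centralizer ({x} : Set G)).index = a * (a + 1) * e ^ 2 := by
      have h9 := Subgroup.card_mul_index (Subgroup.centralizer ({x} : Set G))
      rw [hcard3, hGcard] at h9
      have h10 : 3 * (Subgroup.centralizer ({x} : Set G)).index = 3 * (a * (a + 1) * e ^ 2) := by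
        rw [h9]
        ring
      exact Nat.eq_of_mul_eq_mul_left (by norm_num) h10
    rw [hIx] at hZ
    have hZ' : (3 : ℤ) * Nat.card (Zt t) * (a * (a + 1)) = (a * (a + 1) * e ^ 2) * (a * (a + 1) + (a + 1) * α + a * (1 + α)) := by
      exact_mod_cast hZ
    have hαd : α = (a : ℤ) - d := by omega
    have h9 : ((a : ℤ) * (a + 1)) ≠ 0 := by positivity
    have h10 : (3 : ℤ) * Nat.card (Zt t) + e ^ 2 * (2 * a + 1) * d = e ^ 2 * (3 * a * (a + 1)) := by
      apply mul_left_cancel₀ h9
      rw [hαd] at hZ'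
      linear_combination hZ'
    exact_mod_cast h10
  · intro B hB
    obtain ⟨n, hn⟩ := exists_nat_of_subgroup hc1 B (v := α) (by
      intro b hb hb1
      exact hαall b (hB b hb hb1))
    refine ⟨n, ?_⟩
    rw [hT.d1] at hn
    have hBpos : 1 ≤ Nat.card B := Nat.card_pos
    have hn' : (a : ℤ) + ((Nat.card B : ℤ) - 1) * α = Nat.card B * n := by
      exact_mod_cast hn
    have hαd : α = (a : ℤ) - d := by omega
    rw [hαd] at hn'
    have h9 : ((Nat.card B * a : ℕ) : ℤ) = ((Nat.card B * n + (Nat.card B - 1) * d : ℕ) : ℤ) := by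
      push_cast [Nat.cast_sub hBpos]
      linear_combination hn'
    exact_mod_cast h9
  · intro he1
    have ht₀1 : t₀ ≠ 1 := by
      rintro rfl
      rw [orderOf_one] at ht₀
      omega
    have hG3 : Nat.card G = 3 * a * (a + 1) := by
      rw [hGcard, he1]
      ring
    have hc₀d : c₀ = d := by rw [he, he1, mul_one]
    have hI : I₀ * d = Nat.card G := by
      rw [← hItwo, hc₀d]
    have h9 := star hT ha0 hcard3 hG3 (hnotx t₀ ht₀) ht₀1 hone hα hd hI
    rcases h9 with h9 | h9
    · left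
      rw [h9] at hd
      omega
    · right
      rw [h9] at hd
      omega

end Cfsg.Agent.Lib.Blocks.SC3
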