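import Mathlib
import Cfsg.Agent.Lib.Blocks.SC3J
import Cfsg.Agent.Lib.CycSylow.Reduce

/-!
# Groups with a self-centralizing subgroup of order 3: the simple case
-/

set_option autoImplicit false

namespace Cfsg.Agent.Lib.Blocks.SC3

open Cfsg

universe u

variable {G : Type u} [Group G] [Finite G]

/-- The final arithmetic. -/
theorem numeric_final {a d e A : ℕ} (ha : a % 3 = 1) (ha4 : 4 ≤ a) (hd : 4 ∣ d) (hdb : 3 * d ≤ 4 * a) (hd0 : 0 < d)
    (he : 0 < e) (hA : 3 * d * A + e * (2 * a + 1) * d = e * (3 * a * (a + 1))) (hA3 : A ≤ 3)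
    (he1 : e = 1 → d = a ∨ d = a + 1) : (a = 4 ∧ d = 4 ∧ e = 1 ∧ A = 2) ∨ (a = 7 ∧ d = 8 ∧ e = 1 ∧ A = 2) := by
  have hdb' : 3 * d + 4 ≤ 4 * a := by
    obtain ⟨d', rfl⟩ := hd
    omega
  have he1' : e = 1 := by
    by_contra hne
    have he2 : 2 ≤ e := by omega
    have hA' : (3 : ℤ) * d * A + e * (2 * a + 1) * d = e * (3 * a * (a + 1)) := by exact_mod_cast hA
    have hdb2 : (3 : ℤ) * d + 4 ≤ 4 * a := by exact_mod_cast hdb'
    have ha' : (4 : ℤ) ≤ a := by exact_mod_cast ha4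
    have hd' : (0 : ℤ) < d := by exact_mod_cast hd0
    have he' : (2 : ℤ) ≤ e := by exact_mod_cast he2
    have hA2 : (A : ℤ) ≤ 3 := by exact_mod_cast hA3
    have hA0 : (0 : ℤ) ≤ A := by positivity
    have hX : (0 : ℤ) < 3 * a * (a + 1) - (2 * a + 1) * d := by nlinarith
    have h1 : (3 : ℤ) * d * A = e * (3 * a * (a + 1) - (2 * a + 1) * d) := by linear_combination hA'
    have h2 : (2 : ℤ) * (3 * a * (a + 1) - (2 * a + 1) * d) ≤ e * (3 * a * (a + 1) - (2 * a + 1) * d) :=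
      mul_le_mul_of_nonneg_right he' hX.le
    have h3 : (3 : ℤ) * d * A ≤ 9 * d := by nlinarith
    have h4 : (6 : ℤ) * a * (a + 1) ≤ d * (4 * a + 11) := by nlinarith
    have h5 : (3 : ℤ) * d * (4 * a + 11) ≤ (4 * a - 4) * (4 * a + 11) :=
      mul_le_mul_of_nonneg_right (by linarith) (by linarith)
    nlinarith
  subst he1'
  rcases he1 rfl with h | h
  · subst h
    have h1 : 3 * A + (2 * d + 1) = 3 * d + 3 := by
      apply Nat.eq_of_mul_eq_mul_left hd0
      nlinarith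
    left
    obtain ⟨k, rfl⟩ := hd
    omega
  · subst h
    have h1 : 3 * A + (2 * a + 1) = 3 * a := by
      apply Nat.eq_of_mul_eq_mul_left (Nat.succ_pos a)
      nlinarith
    right
    obtain ⟨k, hk⟩ := hd
    omega

/-- The 2-local arithmetic of a subgroup of exponent 2. -/
theorem elem_arith {m a n d j : ℕ} (hm : ∃ k, m = 2 ^ k) (hj : 2 ^ j ≤ m) (h : m * a = m * n + (m - 1) * d) :
    2 ^ j ∣ d ∧ (2 ^ j - 1) * d ≤ 2 ^ j * a := by
  obtain ⟨k, rfl⟩ := hm
  have hjk : j ≤ k := (Nat.pow_le_pow_iff_right (by norm_num)).mp hj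
  have hmpos : 1 ≤ 2 ^ k := Nat.one_le_two_pow
  have hjpos : 1 ≤ 2 ^ j := Nat.one_le_two_pow
  have h1 : 2 ^ k ∣ (2 ^ k - 1) * d := by
    have h2 : 2 ^ k ∣ 2 ^ k * n + (2 ^ k - 1) * d := by
      rw [← h]
      exact Dvd.intro _ rfl
    exact (Nat.dvd_add_right (Dvd.intro _ rfl)).mp h2
  have hco : Nat.Coprime (2 ^ k) (2 ^ k - 1) := by
    have h3 : Nat.Coprime (2 ^ k - 1 + 1) (2 ^ k - 1) := by simp
    rwa [Nat.sub_add_cancel hmpos] at h3
  have h2 : 2 ^ k ∣ d := hco.dvd_of_dvd_mul_left h1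
  refine ⟨(pow_dvd_pow 2 hjk).trans h2, ?_⟩
  have h3 : (2 ^ k - 1) * d ≤ 2 ^ k * a := by
    rw [h]
    omega
  -- scale by `2 ^ k`
  have h4 : 2 ^ k * ((2 ^ j - 1) * d) ≤ 2 ^ k * (2 ^ j * a) := by
    have h5 : (2 ^ k) * (2 ^ j - 1) ≤ 2 ^ j * (2 ^ k - 1) := by
      obtain ⟨u, hu⟩ : ∃ u, 2 ^ k = u + 1 := ⟨2 ^ k - 1, by omega⟩
      obtain ⟨v, hv⟩ : ∃ v, 2 ^ j = v + 1 := ⟨2 ^ j - 1, by omega⟩
      rw [hu, hv] at hj ⊢
      simp only [Nat.add_sub_cancel]
      nlinarith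
    calc 2 ^ k * ((2 ^ j - 1) * d) = (2 ^ k * (2 ^ j - 1)) * d := by ring
      _ ≤ (2 ^ j * (2 ^ k - 1)) * d := Nat.mul_le_mul_right _ h5
      _ = 2 ^ j * ((2 ^ k - 1) * d) := by ring
      _ ≤ 2 ^ j * (2 ^ k * a) := Nat.mul_le_mul_left _ h3
      _ = 2 ^ k * (2 ^ j * a) := by ring
  exact Nat.le_of_mul_le_mul_left h4 (by omega)

/-- A set of commuting involutions generates a group of exponent two. -/
theorem closure_exp_two {s : Set G} (hc : ∀ a ∈ s, ∀ b ∈ s, a * b = b * a) (h2 : ∀ a ∈ s, a * a = 1) :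
    ∀ g ∈ Subgroup.closure s, g * g = 1 := by
  intro g hg
  letI := Subgroup.closureCommGroupOfComm hc
  induction hg using Subgroup.closure_induction with
  | mem x hx => exact h2 x hx
  | one => simp
  | mul x y hx hy ihx ihy =>
    have h3 : (⟨x, hx⟩ : Subgroup.closure s) * ⟨y, hy⟩ = ⟨y, hy⟩ * ⟨x, hx⟩ := mul_comm _ _
    have h4 : x * y = y * x := congrArg Subtype.val h3
    calc x * y * (x * y) = x * (y * x) * y := by group
      _ = x * (x * y) * y := by rw [h4]
      _ = (x * x) * (y * y) := by group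
      _ = 1 := by rw [ihx, ihy, one_mul]
  | inv x hx ih =>
    rw [← mul_inv_rev, ih, inv_one]

/-- The card of a subgroup of exponent two is a power of two. -/
theorem card_exp_two {B : Subgroup G} (hB : ∀ g ∈ B, g * g = 1) : ∃ k, Nat.card B = 2 ^ k := by
  haveI : Fact (Nat.Prime 2) := ⟨by norm_num⟩
  have h1 : IsPGroup 2 B := fun g => ⟨1, Subtype.ext (by
    have := hB g g.2
    simpa [pow_two] using this)⟩
  exact IsPGroup.iff_card.mp h1

/-- Non-identity elements have order two. -/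
theorem order_two_of_exp {g : G} (h : g * g = 1) (h1 : g ≠ 1) : orderOf g = 2 :=
  orderOf_eq_prime (by rwa [pow_two]) h1

/-- A Sylow 2-subgroup of the centralizer. -/
theorem exists_sylow_setup (t : G) (ht : orderOf t = 2) :
    ∃ S : Subgroup G, S ≤ Cn t ∧ (∀ g ∈ S, ∃ k : ℕ, g ^ 2 ^ k = 1) ∧ t ∈ S ∧
      ∀ Q : Subgroup G, Q ≤ Cn t → (∀ g ∈ Q, ∃ k : ℕ, g ^ 2 ^ k = 1) → ∃ h ∈ Cn t, ∀ g ∈ Q, h * g * h⁻¹ ∈ S := by
  classical
  haveI : Fact (Nat.Prime 2) := ⟨by norm_num⟩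
  let T : Sylow 2 (Cn t) := default
  refine ⟨(T : Subgroup (Cn t)).map (Cn t).subtype, ?_, ?_, ?_, ?_⟩
  · rintro _ ⟨g, _, rfl⟩
    exact g.2
  · rintro _ ⟨g, hg, rfl⟩
    obtain ⟨k, hk⟩ := (IsPGroup.iff_orderOf.mp T.isPGroup') ⟨g, hg⟩
    refine ⟨k, ?_⟩
    have h3 := pow_orderOf_eq_one (⟨g, hg⟩ : (T : Subgroup (Cn t)))
    rw [hk] at h3
    have h4 := congrArg (fun z : (T : Subgroup (Cn t)) => ((z : Cn t) : G)) h3
    simpa using h4
  · have ht' : t ∈ Cn t := mem_Cn.mpr rfl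
    refine ⟨⟨t, ht'⟩, ?_, rfl⟩
    have h1 : (⟨t, ht'⟩ : Cn t) ∈ Subgroup.normalizer ((T : Subgroup (Cn t)) : Set (Cn t)) := by
      rw [Subgroup.mem_normalizer_iff]
      intro h
      have h2 : (⟨t, ht'⟩ : Cn t) * h * (⟨t, ht'⟩ : Cn t)⁻¹ = h := by
        apply Subtype.ext
        have h3 : (h : G) * t = t * h := mem_Cn.mp h.2
        show t * (h : G) * t⁻¹ = h
        rw [← h3]
        group
      rw [h2]
    have h2 : orderOf (⟨t, ht'⟩ : Cn t) = 2 ^ 1 := by
      rw [← Subgroup.orderOf_coe]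
      exact ht
    exact Cfsg.Agent.Lib.CycSylow.mem_of_mem_normalizer T h1 h2
  · intro Q hQ hQ2
    have h1 : IsPGroup 2 (Q.subgroupOf (Cn t)) := by
      intro g
      obtain ⟨k, hk⟩ := hQ2 _ (Subgroup.mem_subgroupOf.mp g.2)
      refine ⟨k, ?_⟩
      apply Subtype.ext
      apply Subtype.ext
      simpa using hk
    obtain ⟨T', hT'⟩ := h1.exists_le_sylow
    obtain ⟨h, hh⟩ := MulAction.exists_smul_eq (Cn t) T' T
    refine ⟨h, h.2, ?_⟩
    intro g hg
    have hg' : (⟨g, hQ hg⟩ : Cn t) ∈ (T' : Subgroup (Cn t)) := hT' (Subgroup.mem_subgroupOf.mpr hg)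
    have h2 : h * (⟨g, hQ hg⟩ : Cn t) * h⁻¹ ∈ (T : Subgroup (Cn t)) := by
      rw [← hh, Sylow.smul_def, Sylow.pointwise_smul_def]
      exact Subgroup.mem_pointwise_smul_iff_inv_smul_mem.mpr (by simpa [MulAut.smul_def, mul_assoc] using hg')
    exact ⟨_, h2, rfl⟩

/-- An elementary abelian subgroup generated by a normalized set gives information on `d`. -/
theorem exists_big_elem (hS : SCH G) {t y r u : G} (ht2 : orderOf t = 2) (htri : Tri t y r) (hu : u ∈ Er t r) (hu2 : u * u = 1)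
    (hu1 : u ≠ 1) (hut : u ≠ t) (hur : u ≠ r) (hutr : u ≠ t * r) :
    ∃ B : Subgroup G, (∀ g ∈ B, g * g = 1) ∧ 16 ≤ Nat.card B := by
  classical
  have hact := htri.act hS
  set v := y * u * y⁻¹ with hv
  have hvE : v ∈ Er t r := hact.nor u hu
  have hv2 : v * v = 1 := by
    rw [hv]
    calc y * u * y⁻¹ * (y * u * y⁻¹) = y * (u * u) * y⁻¹ := by group
      _ = 1 := by rw [hu2]; group
  -- the third conjugate
  have hw : y⁻¹ * u * y = (u * v)⁻¹ := hact.inv_eq_of_norm hS hu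
  have hwinv : (u * v) * (u * v) = 1 := by
    have h1 : (y⁻¹ * u * y) * (y⁻¹ * u * y) = 1 := by
      calc y⁻¹ * u * y * (y⁻¹ * u * y) = y⁻¹ * (u * u) * y := by group
        _ = 1 := by rw [hu2]; group
    rw [hw, ← mul_inv_rev, inv_eq_one] at h1
    exact h1
  have huv : u * v = v * u := by
    have h1 : (u * v)⁻¹ = u * v := inv_eq_of_mul_eq_one_right hwinv
    rw [mul_inv_rev, inv_eq_of_mul_eq_one_right hv2, inv_eq_of_mul_eq_one_right hu2] at h1
    exact h1.symm
  obtain ⟨hut1, hur1⟩ := mem_Er.mp hu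
  obtain ⟨hvt1, hvr1⟩ := mem_Er.mp hvE
  let s : Set G := {t, r, u, v}
  have hsc : ∀ a ∈ s, ∀ b ∈ s, a * b = b * a := by
    intro a ha b hb
    simp only [s, Set.mem_insert_iff, Set.mem_singleton_iff] at ha hb
    rcases ha with rfl | rfl | rfl | rfl <;> rcases hb with rfl | rfl | rfl | rfl <;> first
      | rfl
      | exact htri.comm
      | exact htri.comm.symm
      | exact hut1
      | exact hut1.symm
      | exact hur1
      | exact hur1.symm
      | exact hvt1
      | exact hvt1.symm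
      | exact hvr1
      | exact hvr1.symm
      | exact huv
      | exact huv.symm
  have hs2 : ∀ a ∈ s, a * a = 1 := by
    intro a ha
    simp only [s, Set.mem_insert_iff, Set.mem_singleton_iff] at ha
    rcases ha with rfl | rfl | rfl | rfl
    · exact htri.ht
    · exact htri.hr
    · exact hu2
    · exact hv2
  set B := Subgroup.closure s with hB
  have hBexp := closure_exp_two hsc hs2
  have hBcop : ¬ 3 ∣ Nat.card B := by
    apply Tri.cop_of_le hS htri.ht htri.hne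
    rw [hB, Subgroup.closure_le]
    intro a ha
    simp only [s, Set.mem_insert_iff, Set.mem_singleton_iff] at ha
    rw [SetLike.mem_coe, mem_Cn]
    rcases ha with rfl | rfl | rfl | rfl
    · rfl
    · exact htri.comm.symm
    · exact hut1
    · exact hvt1
  have hmem : ∀ a ∈ s, a ∈ B := fun a ha => Subgroup.subset_closure ha
  have htB : t ∈ B := hmem t (by simp [s])
  have hrB : r ∈ B := hmem r (by simp [s])
  have huB : u ∈ B := hmem u (by simp [s])
  have hvB : v ∈ B := hmem v (by simp [s])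
  have hnor : ∀ e ∈ B, y * e * y⁻¹ ∈ B := by
    intro e he
    induction he using Subgroup.closure_induction with
    | mem a ha =>
      simp only [s, Set.mem_insert_iff, Set.mem_singleton_iff] at ha
      rcases ha with rfl | rfl | rfl | rfl
      · rw [htri.yt]
        exact hrB
      · rw [htri.yr]
        exact B.mul_mem htB hrB
      · exact hvB
      · have hyy : y * y = y⁻¹ := by
          rw [eq_inv_iff_mul_eq_one]
          exact htri.hy
        have h1 : y * (y * u * y⁻¹) * y⁻¹ = y⁻¹ * u * y := by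
          calc y * (y * u * y⁻¹) * y⁻¹ = (y * y) * u * (y * y)⁻¹ := by group
            _ = _ := by rw [hyy, inv_inv]
        rw [hv, h1, hw]
        exact B.inv_mem (B.mul_mem huB hvB)
    | one => simp [B.one_mem]
    | mul a b _ _ iha ihb =>
      have h1 : y * (a * b) * y⁻¹ = (y * a * y⁻¹) * (y * b * y⁻¹) := by group
      rw [h1]
      exact B.mul_mem iha ihb
    | inv a _ iha =>
      have h1 : y * a⁻¹ * y⁻¹ = (y * a * y⁻¹)⁻¹ := by group
      rw [h1]
      exact B.inv_mem iha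
  have hBact : Act B y := ⟨htri.hy3, hnor, hBcop⟩
  have hmod := hBact.card_mod hS
  obtain ⟨k, hk⟩ := card_exp_two hBexp
  refine ⟨B, hBexp, ?_⟩
  -- five elements
  have hfive : 5 ≤ Nat.card B := by
    have hne1 : t ≠ 1 := htri.hne
    have hne2 : r ≠ 1 := htri.r_ne_one hS
    have hne3 : r ≠ t := htri.r_ne_t hS
    have hne4 : t * r ≠ 1 := htri.tr_ne_one hS
    have hne5 : t * r ≠ t := htri.tr_ne_t hS
    have hne6 : t * r ≠ r := htri.tr_ne_r
    let F : Finset B := {1, ⟨t, htB⟩, ⟨r, hrB⟩, ⟨t * r, B.mul_mem htB hrB⟩, ⟨u, huB⟩}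
    have hF : F.card = 5 := by
      rw [Finset.card_insert_of_notMem, Finset.card_insert_of_notMem, Finset.card_insert_of_notMem,
        Finset.card_insert_of_notMem, Finset.card_singleton]
      · simp only [Finset.mem_singleton, Subtype.mk.injEq]
        exact hutr.symm
      · simp only [Finset.mem_insert, Finset.mem_singleton, Subtype.mk.injEq, not_or]
        exact ⟨hne6.symm, hur.symm⟩
      · simp only [Finset.mem_insert, Finset.mem_singleton, Subtype.mk.injEq, not_or]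
        exact ⟨hne3.symm, hne5.symm, hut.symm⟩
      · simp only [Finset.mem_insert, Finset.mem_singleton, Subtype.ext_iff, Subgroup.coe_one, not_or]
        exact ⟨hne1.symm, hne2.symm, hne4.symm, hu1.symm⟩
    haveI : Fintype B := Fintype.ofFinite B
    rw [Nat.card_eq_fintype_card, ← hF]
    exact Finset.card_le_univ F
  rw [hk] at hfive hmod ⊢
  have hk4 : 4 ≤ k := by
    by_contra h1
    have h2 : k ≤ 3 := by omega
    interval_cases k <;> omega
  calc 16 = 2 ^ 4 := by norm_num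
    _ ≤ 2 ^ k := Nat.pow_le_pow_right (by norm_num) hk4

/-- The four-group. -/
theorem exists_four (hS : SCH G) {t y r : G} (htri : Tri t y r) : ∃ B : Subgroup G, (∀ g ∈ B, g * g = 1) ∧ 4 ≤ Nat.card B := by
  classical
  let s : Set G := {t, r}
  have hsc : ∀ a ∈ s, ∀ b ∈ s, a * b = b * a := by
    intro a ha b hb
    simp only [s, Set.mem_insert_iff, Set.mem_singleton_iff] at ha hb
    rcases ha with rfl | rfl <;> rcases hb with rfl | rfl <;> first
      | rfl
      | exact htri.comm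
      | exact htri.comm.symm
  have hs2 : ∀ a ∈ s, a * a = 1 := by
    intro a ha
    simp only [s, Set.mem_insert_iff, Set.mem_singleton_iff] at ha
    rcases ha with rfl | rfl
    · exact htri.ht
    · exact htri.hr
  set B := Subgroup.closure s with hB
  refine ⟨B, closure_exp_two hsc hs2, ?_⟩
  have htB : t ∈ B := Subgroup.subset_closure (by simp [s])
  have hrB : r ∈ B := Subgroup.subset_closure (by simp [s])
  have hne1 : t ≠ 1 := htri.hne
  have hne2 : r ≠ 1 := htri.r_ne_one hS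
  have hne3 : r ≠ t := htri.r_ne_t hS
  have hne4 : t * r ≠ 1 := htri.tr_ne_one hS
  have hne5 : t * r ≠ t := htri.tr_ne_t hS
  have hne6 : t * r ≠ r := htri.tr_ne_r
  let F : Finset B := {1, ⟨t, htB⟩, ⟨r, hrB⟩, ⟨t * r, B.mul_mem htB hrB⟩}
  have hF : F.card = 4 := by
    rw [Finset.card_insert_of_notMem, Finset.card_insert_of_notMem, Finset.card_insert_of_notMem, Finset.card_singleton]
    · simp only [Finset.mem_singleton, Subtype.mk.injEq]
      exact hne6.symm
    · simp only [Finset.mem_insert, Finset.mem_singleton, Subtype.mk.injEq, not_or]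
      exact ⟨hne3.symm, hne5.symm⟩
    · simp only [Finset.mem_insert, Finset.mem_singleton, Subtype.ext_iff, Subgroup.coe_one, not_or]
      exact ⟨hne1.symm, hne2.symm, hne4.symm⟩
  haveI : Fintype B := Fintype.ofFinite B
  rw [Nat.card_eq_fintype_card, ← hF]
  exact Finset.card_le_univ F

/-- The inequality in Case I. -/
theorem four_lt {a d e A : ℕ} (ha : 4 ≤ a) (hd : 0 < d) (he : 0 < e) (h16 : 15 * d ≤ 16 * a)
    (hA : 3 * d * A + e * (2 * a + 1) * d = e * (3 * a * (a + 1))) : d * e < 4 * A := by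
  by_contra hle
  push Not at hle
  have hA' : (3 : ℤ) * d * A + e * (2 * a + 1) * d = e * (3 * a * (a + 1)) := by exact_mod_cast hA
  have hle' : (4 : ℤ) * A ≤ d * e := by exact_mod_cast hle
  have h16' : (15 : ℤ) * d ≤ 16 * a := by exact_mod_cast h16
  have hd' : (0 : ℤ) < d := by exact_mod_cast hd
  have he' : (0 : ℤ) < e := by exact_mod_cast he
  have ha' : (4 : ℤ) ≤ a := by exact_mod_cast ha
  have h1 : (e : ℤ) * (12 * a * (a + 1) - 4 * (2 * a + 1) * d - 3 * d * d) ≤ 0 := by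
    have h2 : (3 : ℤ) * d * ((4 : ℤ) * A) ≤ 3 * d * (d * e) :=
      mul_le_mul_of_nonneg_left hle' (by positivity)
    linear_combination h2 - 4 * hA'
  have h3 : (12 : ℤ) * a * (a + 1) - 4 * (2 * a + 1) * d - 3 * d * d ≤ 0 := by
    by_contra h4
    push Not at h4
    have := mul_pos he' h4
    omega
  have h5 : (15 * (d : ℤ)) * (15 * d) ≤ (16 * a) * (16 * a) := mul_self_le_mul_self (by positivity) h16'
  have h7 : (2 * (a : ℤ) + 1) * (15 * d) ≤ (2 * a + 1) * (16 * a) :=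
    mul_le_mul_of_nonneg_left h16' (by positivity)
  nlinarith

/-- The analysis for one involution. -/
theorem main_at [IsSimpleGroup G] (hS : SCH G) {a d e : ℕ} (hinv : ∀ s t : G, orderOf s = 2 → orderOf t = 2 → IsConj s t)
    (hamod : a % 3 = 1) (ha4 : 4 ≤ a) (hd0 : 0 < d) (he0 : 0 < e)
    (hCcard : ∀ t : G, orderOf t = 2 → Nat.card (Cn t) = d * e)
    (hZeq : ∀ t : G, orderOf t = 2 → 3 * Nat.card (Zt t) + e ^ 2 * (2 * a + 1) * d = e ^ 2 * (3 * a * (a + 1)))
    (hBeq : ∀ B : Subgroup G, (∀ b ∈ B, b ≠ 1 → orderOf b = 2) →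
        ∃ n : ℕ, Nat.card B * a = Nat.card B * n + (Nat.card B - 1) * d)
    (he1 : e = 1 → d = a ∨ d = a + 1) (t : G) (ht2 : orderOf t = 2) :
    ∃ R : Finset G, Reps t R ∧ 0 < R.card ∧
      ((a = 4 ∧ d = 4 ∧ e = 1 ∧ R.card = 2) ∨ (a = 7 ∧ d = 8 ∧ e = 1 ∧ R.card = 2)) := by
  classical
  obtain ⟨S, hSC, hS2, htS, hconj⟩ := exists_sylow_setup t ht2
  obtain ⟨R, hR, hgood⟩ := exists_reps t (IsGood t S) (fun r hr => exists_good hS ht2 hconj hr)
  refine ⟨R, hR, ?_⟩
  have hcard := card_Zt hS ht2 hR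
  rw [hCcard t ht2] at hcard
  have hZ := hZeq t ht2
  rw [hcard] at hZ
  have hA : 3 * d * R.card + e * (2 * a + 1) * d = e * (3 * a * (a + 1)) := by
    apply Nat.eq_of_mul_eq_mul_left he0
    have h1 : e * (3 * d * R.card + e * (2 * a + 1) * d) = 3 * (d * e * R.card) + e ^ 2 * (2 * a + 1) * d := by ring
    rw [h1, hZ]
    ring
  have hApos : 0 < R.card := by
    rcases Nat.eq_zero_or_pos R.card with h1 | h1
    · exfalso
      rw [h1] at hA
      simp only [mul_zero, zero_add] at hA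
      have h2 : (2 * a + 1) * d = 3 * a * (a + 1) := by
        apply Nat.eq_of_mul_eq_mul_left he0
        rw [← hA]
        ring
      have h3 : 2 * a + 1 ∣ 3 * a * (a + 1) := ⟨d, h2.symm⟩
      have hco1 : Nat.Coprime (2 * a + 1) (a + 1) := by
        have h5 : Nat.gcd (2 * a + 1) (a + 1) ∣ 1 := by
          have h6 := Nat.gcd_dvd_left (2 * a + 1) (a + 1)
          have h7 := Nat.gcd_dvd_right (2 * a + 1) (a + 1)
          have h8 : Nat.gcd (2 * a + 1) (a + 1) ∣ 2 * (a + 1) := Dvd.dvd.mul_left h7 2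
          have h9 : 2 * (a + 1) = (2 * a + 1) + 1 := by ring
          rw [h9] at h8
          exact (Nat.dvd_add_right h6).mp h8
        exact Nat.dvd_one.mp h5
      have hco2 : Nat.Coprime (2 * a + 1) a := by
        have h5 : Nat.gcd (2 * a + 1) a ∣ 1 := by
          have h6 := Nat.gcd_dvd_left (2 * a + 1) a
          have h7 := Nat.gcd_dvd_right (2 * a + 1) a
          have h8 : Nat.gcd (2 * a + 1) a ∣ 2 * a := Dvd.dvd.mul_left h7 2
          exact (Nat.dvd_add_right h8).mp h6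
        exact Nat.dvd_one.mp h5
      have h4 : 2 * a + 1 ∣ 3 := by
        have h5 := hco1.dvd_of_dvd_mul_right h3
        exact hco2.dvd_of_dvd_mul_right h5
      have h5 := Nat.le_of_dvd (by norm_num) h4
      omega
    · exact h1
  refine ⟨hApos, ?_⟩
  obtain ⟨ρ₀, hρ₀⟩ := Finset.card_pos.mp hApos
  obtain ⟨y₀, hy₀, hy₀ρ⟩ := hR.mem ρ₀ hρ₀
  have htri₀ := tri_of_mem ht2 hy₀
  rw [hy₀ρ] at htri₀
  -- the four-group
  obtain ⟨B₄, hB₄, hB₄c⟩ := exists_four hS htri₀
  have hordB : ∀ {B : Subgroup G}, (∀ g ∈ B, g * g = 1) → ∀ b ∈ B, b ≠ 1 → orderOf b = 2 :=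
    fun hB b hb hb1 => order_two_of_exp (hB b hb) hb1
  obtain ⟨n₄, hn₄⟩ := hBeq B₄ (hordB hB₄)
  obtain ⟨h4d, h4b⟩ := elem_arith (j := 2) (card_exp_two hB₄) (by simpa using hB₄c) hn₄
  norm_num at h4d h4b
  by_cases hII : ∀ r ∈ Jt t, ∀ u ∈ Er t r, u * u = 1 → u = 1 ∨ u = t ∨ u = r ∨ u = t * r
  · have hA3 := caseII hS ht2 hSC hS2 htS hII hR hgood
    exact numeric_final hamod ha4 h4d h4b hd0 he0 hA hA3 he1
  · exfalso
    push Not at hII
    obtain ⟨r, hr, u, hu, hu2, hu1, hut, hur, hutr⟩ := hII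
    obtain ⟨y, hy, hyr⟩ := hr
    have htri := tri_of_mem ht2 hy
    rw [hyr] at htri
    obtain ⟨B, hB, hBc⟩ := exists_big_elem hS ht2 htri hu hu2 hu1 hut hur hutr
    obtain ⟨n, hn⟩ := hBeq B (hordB hB)
    obtain ⟨h16d, h16b⟩ := elem_arith (j := 4) (card_exp_two hB) (by simpa using hBc) hn
    norm_num at h16d h16b
    have hc16 : 16 ≤ Nat.card (Cn t) := by
      rw [hCcard t ht2]
      have h1 := Nat.le_of_dvd hd0 h16d
      exact h1.trans (Nat.le_mul_of_pos_right d he0)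
    apply caseI hS hinv ht2 hR hc16
    rw [hCcard t ht2]
    exact four_lt ha4 hd0 he0 h16b hA

/-- In the case of order 168 commuting involutions are in a four-group with an automorphism of order 3. -/
theorem mem_Jt_of_eight (hS : SCH G) {t r : G} (ht : orderOf t = 2) (hr : orderOf r = 2) (hrne : r ≠ t) (hrt : r * t = t * r)
    (hc8 : Nat.card (Cn t) = 8) {R : Finset G} (hR : Reps t R) (hA2 : R.card = 2) : r ∈ Jt t := by
  classical
  haveI : Fintype G := Fintype.ofFinite G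
  have hRpos : 0 < R.card := by omega
  by_contra hrJ
  -- every class has two elements
  have hcls2 : ∀ ρ ∈ R, 2 ≤ Nat.card (cls (Cn t) ρ) ∧ Nat.card (Er t ρ) ≤ 4 := by
    intro ρ hρ
    obtain ⟨y, hy, hyr⟩ := hR.mem ρ hρ
    have htri := tri_of_mem ht hy
    rw [hyr] at htri
    have hact := htri.act hS
    have hmod := hact.card_mod hS
    have hmul := card_cls_mul (Cn t) ρ
    rw [hc8] at hmul
    have hE : Nat.card (Er t ρ) ∣ 8 := ⟨_, by rw [← hmul, mul_comm]⟩
    have hE2 : Nat.card (Er t ρ) ≤ 8 := Nat.le_of_dvd (by norm_num) hE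
    have hEne8 : Nat.card (Er t ρ) ≠ 8 := by
      intro h1
      rw [h1] at hmod
      omega
    have hEle : Nat.card (Er t ρ) ≤ 4 := by
      have hdiv : Nat.card (Er t ρ) ∈ Nat.divisors 8 := Nat.mem_divisors.mpr ⟨hE, by norm_num⟩
      have h8 : Nat.divisors 8 = {1, 2, 4, 8} := by decide
      rw [h8] at hdiv
      simp only [Finset.mem_insert, Finset.mem_singleton] at hdiv
      omega
    refine ⟨?_, hEle⟩
    by_contra h1
    have h2 : Nat.card (cls (Cn t) ρ) ≤ 1 := by omega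
    have h3 : 8 ≤ 1 * Nat.card (Er t ρ) := by
      calc 8 = Nat.card (cls (Cn t) ρ) * Nat.card (Er t ρ) := hmul.symm
        _ ≤ _ := Nat.mul_le_mul_right _ h2
    omega
  have hclsJ : ∀ ρ ∈ R, cls (Cn t) ρ ⊆ Jt t := by
    rintro ρ hρ _ ⟨h, hh, rfl⟩
    exact conj_mem_Jt hh (hR.mem ρ hρ)
  have hdis : ∀ ρ ∈ R, ∀ ρ' ∈ R, ρ ≠ ρ' → Disjoint (cls (Cn t) ρ) (cls (Cn t) ρ') := by
    intro ρ hρ ρ' hρ' hne
    rw [Set.disjoint_left]
    rintro z ⟨h, hh, rfl⟩ ⟨h', hh', he⟩
    apply hne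
    apply hR.uniq ρ hρ ρ' hρ' (h'⁻¹ * h) ((Cn t).mul_mem ((Cn t).inv_mem hh') hh)
    calc h'⁻¹ * h * ρ * (h'⁻¹ * h)⁻¹ = h'⁻¹ * (h * ρ * h⁻¹) * h' := by group
      _ = _ := by rw [← he]; group
  have hsum := sum_cls_le (Cn t) R (Jt t) hclsJ hdis
  have hJ4 : 4 ≤ Nat.card (Jt t) := by
    have h1 : R.card * 2 ≤ ∑ ρ ∈ R, Nat.card (cls (Cn t) ρ) :=
      Finset.card_nsmul_le_sum R _ 2 (fun ρ hρ => (hcls2 ρ hρ).1)
    rw [hA2] at h1
    omega
  obtain ⟨ρ, hρ⟩ := Finset.card_pos.mp hRpos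
  have hJρ := Jt_facts hS ht (hR.mem ρ hρ)
  -- count elements with square one
  let W : Finset G := Finset.univ.filter (fun g => g ∈ Cn t ∧ g * g = 1)
  have hr1 : r * r = 1 := by
    have := pow_orderOf_eq_one r
    rwa [hr, pow_two] at this
  have ht1 : t * t = 1 := by
    have := pow_orderOf_eq_one t
    rwa [ht, pow_two] at this
  have hW : 7 ≤ W.card := by
    have h2 : (Jt t).toFinset ∪ {1, t, r} ⊆ W := by
      intro g hg
      rw [Finset.mem_filter]
      refine ⟨Finset.mem_univ _, ?_⟩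
      rcases Finset.mem_union.mp hg with h5 | h5
      · have h6 := Jt_facts hS ht (Set.mem_toFinset.mp h5)
        exact ⟨h6.1, h6.2.2.2⟩
      · simp only [Finset.mem_insert, Finset.mem_singleton] at h5
        rcases h5 with rfl | rfl | rfl
        · exact ⟨(Cn t).one_mem, by simp⟩
        · exact ⟨mem_Cn.mpr rfl, ht1⟩
        · exact ⟨mem_Cn.mpr hrt, hr1⟩
    have h3 := Finset.card_le_card h2
    rw [Finset.card_union_of_disjoint] at h3
    · have hne1 : (1 : G) ≠ t := by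
        rintro rfl
        rw [orderOf_one] at ht
        omega
      have hne2 : (1 : G) ≠ r := by
        rintro rfl
        rw [orderOf_one] at hr
        omega
      have h4 : ({1, t, r} : Finset G).card = 3 := by
        apply Finset.card_eq_three.mpr
        exact ⟨1, t, r, hne1, hne2, hrne.symm, rfl⟩
      rw [h4, Set.toFinset_card, ← Nat.card_eq_fintype_card] at h3
      omega
    · rw [Finset.disjoint_left]
      intro g hg hg2
      have h5 := Jt_facts hS ht (Set.mem_toFinset.mp hg)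
      simp only [Finset.mem_insert, Finset.mem_singleton] at hg2
      rcases hg2 with rfl | rfl | rfl
      · exact h5.2.1 rfl
      · exact h5.2.2.1 rfl
      · exact hrJ (Set.mem_toFinset.mp hg)
  have h6 := large_centralizer hJρ.1 hJρ.2.2.2 W (fun g hg => (Finset.mem_filter.mp hg).2)
  rw [hc8] at h6
  have h7 : Nat.card (Cn t ⊓ Cn ρ : Subgroup G) ≤ 4 := (hcls2 ρ hρ).2
  omega

/-- **The simple case.** -/
theorem core [IsSimpleGroup G] (hnc : ¬ ∀ a b : G, a * b = b * a) (hS : SCH G) {x : G} (hx : orderOf x = 3) :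
    (∀ s t : G, orderOf s = 2 → orderOf t = 2 → IsConj s t) ∧
    (∃ t y : G, orderOf t = 2 ∧ y ∈ Zt t) ∧
    (Nat.card G = 60 ∨ (Nat.card G = 168 ∧ (∀ t : G, orderOf t = 2 → Nat.card (Cn t) = 8) ∧
      ∀ t r : G, orderOf t = 2 → orderOf r = 2 → r ≠ t → r * t = t * r → r ∈ Jt t)) := by
  classical
  obtain ⟨a, d, e, hinv, ⟨t₀, ht₀⟩, hamod, ha4, hd0, he0, hGcard, hCcard, hZeq, hBeq, he1⟩ := numeric_data hnc hS hx
  have hmain := main_at hS hinv hamod ha4 hd0 he0 hCcard hZeq hBeq he1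
  obtain ⟨R₀, hR₀, hR₀pos, hnum⟩ := hmain t₀ ht₀
  obtain ⟨ρ₀, hρ₀⟩ := Finset.card_pos.mp hR₀pos
  obtain ⟨y₀, hy₀, -⟩ := hR₀.mem ρ₀ hρ₀
  refine ⟨hinv, ⟨t₀, y₀, ht₀, hy₀⟩, ?_⟩
  rcases hnum with ⟨rfl, rfl, rfl, -⟩ | ⟨rfl, rfl, rfl, -⟩
  · left
    rw [hGcard]
    norm_num
  · right
    refine ⟨by rw [hGcard]; norm_num, ?_, ?_⟩
    · intro t ht
      rw [hCcard t ht]
    · intro t r ht hr hrne hrt
      obtain ⟨R, hR, hRpos, hnum⟩ := hmain t ht
      have hA2 : R.card = 2 := by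
        rcases hnum with ⟨h1, -⟩ | ⟨-, -, -, h1⟩
        · omega
        · exact h1
      exact mem_Jt_of_eight hS ht hr hrne hrt (hCcard t ht) hR hA2

end Cfsg.Agent.Lib.Blocks.SC3
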