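import Mathlib
import Cfsg.Agent.Lib.Blocks.SC3C
import Cfsg.Agent.Lib.Solvable.PSeries

/-!
# Self-centralizing subgroups of order 3: reduction, first part
-/

set_option autoImplicit false

namespace Cfsg.Agent.Lib.Blocks.SC3

universe u

variable {G : Type u} [Group G]

/-- A self-centralizing subgroup of order 3 makes all elements of order 3 self-centralizing. -/
theorem sch_of_selfCentralizing [Finite G] (X : Subgroup G) (hX : Nat.card X = 3)
    (hC : Subgroup.centralizer (X : Set G) = X) : SCH G := by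
  classical
  haveI : Fact (Nat.Prime 3) := ⟨by norm_num⟩
  have hXp : IsPGroup 3 X := IsPGroup.of_card (n := 1) (by rw [hX]; norm_num)
  have hXz : ∀ a ∈ X, orderOf a = 3 → X = Subgroup.zpowers a := by
    intro a ha hoa
    symm
    apply Subgroup.eq_of_le_of_card_ge
    · exact (Subgroup.zpowers_le).mpr ha
    · rw [Nat.card_zpowers, hoa, hX]
  have hXord : ∀ a ∈ X, a ≠ 1 → orderOf a = 3 := by
    intro a ha hne
    have h1 : a ^ 3 = 1 := by
      have h2 : (⟨a, ha⟩ : X) ^ 3 = 1 := by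
        rw [← hX]
        exact pow_card_eq_one'
      have h3 := congrArg Subtype.val h2
      simpa using h3
    exact orderOf_eq_prime h1 hne
  -- `X` is a Sylow subgroup
  obtain ⟨P, hP⟩ := hXp.exists_le_sylow
  have hPX : (P : Subgroup G) ≤ X := by
    have hne : Nontrivial (P : Subgroup G) := by
      obtain ⟨a, ha⟩ : ∃ a : X, a ≠ 1 := by
        haveI : Nontrivial X := by
          rw [← Finite.one_lt_card_iff_nontrivial, hX]
          norm_num
        exact exists_ne 1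
      exact ⟨⟨⟨a, hP a.2⟩, 1, by
        intro h
        apply ha
        apply Subtype.ext
        have h2 := congrArg Subtype.val h
        exact h2⟩⟩
    have hcen := P.isPGroup'.center_nontrivial
    obtain ⟨z, hz⟩ := exists_ne (1 : Subgroup.center (P : Subgroup G))
    have hz1 : ((z : (P : Subgroup G)) : G) ≠ 1 := by
      intro h
      apply hz
      apply Subtype.ext
      apply Subtype.ext
      exact h
    have hzcomm : ∀ p ∈ (P : Subgroup G), p * ((z : (P : Subgroup G)) : G) = ((z : (P : Subgroup G)) : G) * p := by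
      intro p hp
      have h1 := (Subgroup.mem_center_iff.mp z.2) ⟨p, hp⟩
      exact congrArg Subtype.val h1
    have hzX : ((z : (P : Subgroup G)) : G) ∈ X := by
      rw [← hC, Subgroup.mem_centralizer_iff]
      intro a ha
      exact hzcomm a (hP ha)
    have hzo := hXord _ hzX hz1
    have hXe := hXz _ hzX hzo
    intro p hp
    rw [← hC, Subgroup.mem_centralizer_iff]
    intro a ha
    rw [SetLike.mem_coe, hXe] at ha
    obtain ⟨k, rfl⟩ := Subgroup.mem_zpowers_iff.mp ha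
    have : Commute p ((z : (P : Subgroup G)) : G) := hzcomm p hp
    exact (this.zpow_right k).eq.symm
  have hPe : (P : Subgroup G) = X := le_antisymm hPX hP
  intro y hy c hc
  have hyp : IsPGroup 3 (Subgroup.zpowers y) :=
    IsPGroup.of_card (n := 1) (by rw [Nat.card_zpowers, hy]; norm_num)
  obtain ⟨Q, hQ⟩ := hyp.exists_le_sylow
  obtain ⟨g, hg⟩ := MulAction.exists_smul_eq G Q P
  have hgy : g * y * g⁻¹ ∈ X := by
    rw [← hPe, ← hg, Sylow.coe_subgroup_smul]
    exact ⟨y, hQ (Subgroup.mem_zpowers y), rfl⟩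
  have ho : orderOf (g * y * g⁻¹) = 3 := by
    have : g * y * g⁻¹ = (MulAut.conj g) y := rfl
    rw [this, MulEquiv.orderOf_eq, hy]
  have hXe := hXz _ hgy ho
  have h1 : g * c * g⁻¹ ∈ X := by
    rw [← hC, Subgroup.mem_centralizer_iff]
    intro a ha
    rw [SetLike.mem_coe, hXe] at ha
    obtain ⟨k, rfl⟩ := Subgroup.mem_zpowers_iff.mp ha
    have h2 : Commute (g * c * g⁻¹) (g * y * g⁻¹) := by
      show g * c * g⁻¹ * (g * y * g⁻¹) = g * y * g⁻¹ * (g * c * g⁻¹)
      calc g * c * g⁻¹ * (g * y * g⁻¹) = g * (c * y) * g⁻¹ := by group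
        _ = g * (y * c) * g⁻¹ := by rw [hc]
        _ = _ := by group
    exact (h2.zpow_right k).eq.symm
  rw [hXe] at h1
  obtain ⟨k, hk⟩ := Subgroup.mem_zpowers_iff.mp h1
  refine Subgroup.mem_zpowers_iff.mpr ⟨k, ?_⟩
  have h3 : g * y ^ k * g⁻¹ = g * c * g⁻¹ := by
    rw [← hk]
    simp [conj_zpow]
  have h4 : g⁻¹ * (g * y ^ k * g⁻¹) * g = g⁻¹ * (g * c * g⁻¹) * g := by rw [h3]
  simpa [mul_assoc] using h4

/-- Lifting an element of order 3 over a normal subgroup of order prime to 3. -/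
theorem exists_lift_three [Finite G] {L : Subgroup G} [L.Normal] (hL : ¬ 3 ∣ Nat.card L)
    {y : G ⧸ L} (hy : orderOf y = 3) : ∃ h : G, (h : G ⧸ L) = y ∧ orderOf h = 3 := by
  obtain ⟨g, rfl⟩ := QuotientGroup.mk_surjective y
  set m := Nat.card L with hm
  have hmm : m ^ 2 % 3 = 1 := by
    have h1 : m % 3 = 1 ∨ m % 3 = 2 := by omega
    rcases h1 with h1 | h1 <;> simp [Nat.pow_mod, h1]
  have hy1 : ((g : G ⧸ L)) ^ (m ^ 2) = g := by
    conv_rhs => rw [← pow_one (g : G ⧸ L)]
    have h2 := pow_mod_orderOf (g : G ⧸ L) (m ^ 2)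
    rw [hy, hmm] at h2
    exact h2.symm
  have hg3 : g ^ 3 ∈ L := by
    rw [← QuotientGroup.eq_one_iff]
    have := pow_orderOf_eq_one (g : G ⧸ L)
    rw [hy] at this
    exact_mod_cast this
  have hg3m : (g ^ 3) ^ m = 1 := by
    have h2 : (⟨g ^ 3, hg3⟩ : L) ^ m = 1 := pow_card_eq_one'
    have h3 := congrArg Subtype.val h2
    simpa using h3
  refine ⟨g ^ (m ^ 2), ?_, ?_⟩
  · have : ((g ^ (m ^ 2) : G) : G ⧸ L) = ((g : G ⧸ L)) ^ (m ^ 2) := rfl
    rw [this, hy1]
  · apply orderOf_eq_prime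
    · calc (g ^ (m ^ 2)) ^ 3 = ((g ^ 3) ^ m) ^ m := by
            rw [← pow_mul, ← pow_mul, ← pow_mul]
            congr 1
            ring
        _ = 1 := by rw [hg3m, one_pow]
    · intro h
      have h2 : ((g ^ (m ^ 2) : G) : G ⧸ L) = ((g : G ⧸ L)) ^ (m ^ 2) := rfl
      rw [h, hy1] at h2
      have h3 : (g : G ⧸ L) = 1 := by
        rw [← h2]
        rfl
      rw [h3, orderOf_one] at hy
      omega

/-- The property passes to the quotient by a normal subgroup of order prime to 3. -/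
theorem sch_quotient [Finite G] (hS : SCH G) {L : Subgroup G} [hLn : L.Normal] (hL : ¬ 3 ∣ Nat.card L) :
    SCH (G ⧸ L) := by
  intro y hy c hc
  obtain ⟨h, rfl, hh⟩ := exists_lift_three hL hy
  obtain ⟨c, rfl⟩ := QuotientGroup.mk_surjective c
  have hact : Act L h := ⟨hh, fun e he => hLn.conj_mem e he h, hL⟩
  have hu : c * h * c⁻¹ * h⁻¹ ∈ L := by
    rw [← QuotientGroup.eq_one_iff]
    have h1 : ((c * h * c⁻¹ * h⁻¹ : G) : G ⧸ L) = (c : G ⧸ L) * (h : G ⧸ L) * (c : G ⧸ L)⁻¹ * (h : G ⧸ L)⁻¹ := rfl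
    rw [h1, hc]
    group
  obtain ⟨w, hw, hw2⟩ := hact.coset_conj hS hu
  have h3 : w⁻¹ * c ∈ Subgroup.zpowers h := by
    apply hS h hh
    have h4 : c * h * c⁻¹ = w * h * w⁻¹ := by
      rw [← hw2]
      group
    have h5 : c * h = w * h * w⁻¹ * c := by
      rw [← h4]
      group
    calc w⁻¹ * c * h = w⁻¹ * (c * h) := by group
      _ = w⁻¹ * (w * h * w⁻¹ * c) := by rw [h5]
      _ = h * (w⁻¹ * c) := by group
  obtain ⟨k, hk⟩ := Subgroup.mem_zpowers_iff.mp h3
  refine Subgroup.mem_zpowers_iff.mpr ⟨k, ?_⟩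
  have h6 : c = w * h ^ k := by
    rw [hk]
    group
  have h7 : (w : G ⧸ L) = 1 := (QuotientGroup.eq_one_iff w).mpr hw
  have h8 : ((w * h ^ k : G) : G ⧸ L) = (w : G ⧸ L) * (h : G ⧸ L) ^ k := rfl
  rw [h6, h8, h7, one_mul]

/-- A normal subgroup with quotient having trivial `3'`-core. -/
theorem quotient_core_trivial [Finite G] {L : Subgroup G} [hLn : L.Normal]
    (hmax : ∀ N : Subgroup G, N.Normal → ¬ 3 ∣ Nat.card N → N ≤ L) (hL : ¬ 3 ∣ Nat.card L)
    (N : Subgroup (G ⧸ L)) (hN : N.Normal) (hN3 : ¬ 3 ∣ Nat.card N) : N = ⊥ := by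
  classical
  haveI : Fact (Nat.Prime 3) := ⟨by norm_num⟩
  have hc : ¬ 3 ∣ Nat.card (N.comap (QuotientGroup.mk' L)) := by
    intro h3
    obtain ⟨w, hw⟩ := exists_prime_orderOf_dvd_card' (G := N.comap (QuotientGroup.mk' L)) 3 h3
    have hw1 : ((w : G) : G ⧸ L) ∈ N := w.2
    have hw2 : orderOf (w : G) = 3 := by
      rw [Subgroup.orderOf_coe]
      exact hw
    have hw3 : (w : G) ^ 3 = 1 := by
      rw [← hw2]
      exact pow_orderOf_eq_one _
    by_cases h1 : ((w : G) : G ⧸ L) = 1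
    · have hwL : (w : G) ∈ L := (QuotientGroup.eq_one_iff _).mp h1
      have h4 : orderOf (⟨w, hwL⟩ : L) ∣ Nat.card L := orderOf_dvd_natCard _
      rw [Subgroup.orderOf_mk, hw2] at h4
      exact hL h4
    · have h5 : ((w : G) : G ⧸ L) ^ 3 = 1 := by
        have : ((w : G) : G ⧸ L) ^ 3 = (((w : G) ^ 3 : G) : G ⧸ L) := rfl
        rw [this, hw3]
        rfl
      have h6 := orderOf_eq_prime h5 h1
      have h7 : orderOf (⟨_, hw1⟩ : N) ∣ Nat.card N := orderOf_dvd_natCard _
      rw [Subgroup.orderOf_mk, h6] at h7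
      exact hN3 h7
  have h1 := hmax _ (Subgroup.Normal.comap hN _) hc
  rw [eq_bot_iff]
  intro a ha
  obtain ⟨g, rfl⟩ := QuotientGroup.mk_surjective a
  have : g ∈ N.comap (QuotientGroup.mk' L) := ha
  have h2 := h1 this
  rw [Subgroup.mem_bot]
  exact (QuotientGroup.eq_one_iff g).mpr h2

/-- Two elements of order 3 of a subgroup are conjugate in it up to inversion. -/
theorem exists_conj_in [Finite G] (hS : SCH G) (K : Subgroup G) {x y : G} (hx : orderOf x = 3)
    (hy : orderOf y = 3) (hxK : x ∈ K) (hyK : y ∈ K) :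
    ∃ k ∈ K, k * y * k⁻¹ = x ∨ k * y * k⁻¹ = x⁻¹ := by
  classical
  haveI : Fact (Nat.Prime 3) := ⟨by norm_num⟩
  have key : ∀ a : K, orderOf (a : G) = 3 → ∃ P : Sylow 3 K, ∀ b, b ∈ (P : Subgroup K) ↔ b ∈ Subgroup.zpowers a := by
    intro a ha
    have ha' : orderOf a = 3 := by
      rw [← Subgroup.orderOf_coe]
      exact ha
    have hp : IsPGroup 3 (Subgroup.zpowers a) :=
      IsPGroup.of_card (n := 1) (by rw [Nat.card_zpowers, ha']; norm_num)
    obtain ⟨P, hP⟩ := hp.exists_le_sylow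
    refine ⟨P, ?_⟩
    have h1 : Nat.card (P : Subgroup K) ≤ 3 := by
      have h2 := card_le_three hS ((P : Subgroup K).map K.subtype) (by
        rw [IsPGroup.iff_card, Subgroup.card_map_of_injective K.subtype_injective]
        exact IsPGroup.iff_card.mp P.isPGroup')
      rwa [Subgroup.card_map_of_injective K.subtype_injective] at h2
    have h3 : Subgroup.zpowers a = (P : Subgroup K) := by
      apply Subgroup.eq_of_le_of_card_ge hP
      rw [Nat.card_zpowers, ha']
      exact h1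
    intro b
    rw [h3]
  obtain ⟨P, hP⟩ := key ⟨x, hxK⟩ hx
  obtain ⟨Q, hQ⟩ := key ⟨y, hyK⟩ hy
  obtain ⟨g, hg⟩ := MulAction.exists_smul_eq K Q P
  have h1 : g * (⟨y, hyK⟩ : K) * g⁻¹ ∈ Subgroup.zpowers (⟨x, hxK⟩ : K) := by
    rw [← hP, ← hg, Sylow.coe_subgroup_smul]
    exact ⟨⟨y, hyK⟩, (hQ _).mpr (Subgroup.mem_zpowers _), rfl⟩
  have hx' : orderOf (⟨x, hxK⟩ : K) = 3 := by
    rw [Subgroup.orderOf_mk]
    exact hx
  rw [mem_zpowers_iff_mem_range_orderOf, hx'] at h1
  simp only [Finset.mem_image, Finset.mem_range] at h1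
  obtain ⟨i, hi, hi2⟩ := h1
  refine ⟨g, g.2, ?_⟩
  have hi3 : x ^ i = (g : G) * y * (g : G)⁻¹ := by
    have := congrArg Subtype.val hi2
    simpa using this
  have hx3 := cube_eq_one hx
  interval_cases i
  · exfalso
    have h2 : y = 1 := by
      have h3 : (g : G) * y * (g : G)⁻¹ = 1 := by
        rw [← hi3]
        simp
      have h4 : y = (g : G)⁻¹ * ((g : G) * y * (g : G)⁻¹) * g := by group
      rw [h4, h3]
      group
    rw [h2, orderOf_one] at hy
    omega
  · left
    rw [← hi3]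
    simp
  · right
    rw [← hi3, pow_two, eq_inv_iff_mul_eq_one]
    exact hx3

end Cfsg.Agent.Lib.Blocks.SC3
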