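import Mathlib
import Cfsg.Agent.Lib.Blocks.SC3R1

/-!
# Self-centralizing subgroups of order 3: reduction, second part

A group with self-centralizing elements of order 3 and trivial `3'`-core is simple or has a normal
subgroup of order 3.
-/

set_option autoImplicit false

namespace Cfsg.Agent.Lib.Blocks.SC3

universe u

variable {G : Type u} [Group G]

open Cfsg.Agent.Lib.Solvable.PSeries Cfsg.Agent.Lib.Basic.PCore Cfsg

/-- Normal subgroups contain all elements of order 3, when the `3'`-core is trivial. -/
theorem mem_of_normal [Finite G] (hS : SCH G)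
    (hO : ∀ N : Subgroup G, N.Normal → ¬ 3 ∣ Nat.card N → N = ⊥) {K : Subgroup G} (hK : K.Normal)
    (hne : K ≠ ⊥) {x : G} (hx : orderOf x = 3) : x ∈ K := by
  classical
  haveI : Fact (Nat.Prime 3) := ⟨by norm_num⟩
  have h3 : 3 ∣ Nat.card K := by
    by_contra h
    exact hne (hO K hK h)
  obtain ⟨w, hw⟩ := exists_prime_orderOf_dvd_card' (G := K) 3 h3
  have hw2 : orderOf (w : G) = 3 := by
    rw [Subgroup.orderOf_coe]
    exact hw
  obtain ⟨k, _, hk⟩ := exists_conj_in hS ⊤ hx hw2 (Subgroup.mem_top _) (Subgroup.mem_top _)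
  have h1 : k * (w : G) * k⁻¹ ∈ K := hK.conj_mem _ w.2 k
  rcases hk with hk | hk
  · rwa [hk] at h1
  · rw [hk] at h1
    exact inv_mem_iff.mp h1

/-- Trichotomy. -/
theorem normal_or_simple [Finite G] (hS : SCH G)
    (hO : ∀ N : Subgroup G, N.Normal → ¬ 3 ∣ Nat.card N → N = ⊥) {x : G} (hx : orderOf x = 3) :
    (∀ q : G, q * x * q⁻¹ = x ∨ q * x * q⁻¹ = x⁻¹) ∨ IsSimpleGroup G := by
  classical
  haveI : Fact (Nat.Prime 3) := ⟨by norm_num⟩
  by_cases hs : ∀ K : Subgroup G, K.Normal → K = ⊥ ∨ K = ⊤
  · right
    haveI : Nontrivial G := ⟨⟨x, 1, by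
      rintro rfl
      rw [orderOf_one] at hx
      omega⟩⟩
    exact ⟨fun K hK => hs K hK⟩
  left
  push Not at hs
  obtain ⟨K, hK, hne, hnt⟩ := hs
  have hxK := mem_of_normal hS hO hK hne hx
  by_cases hinv : ∃ g ∈ K, g * x * g⁻¹ = x⁻¹
  · exfalso
    obtain ⟨g, hg, hgx⟩ := hinv
    apply hnt
    rw [eq_top_iff]
    intro q _
    have h1 : q * x * q⁻¹ ∈ K := hK.conj_mem _ hxK q
    have h2 : orderOf (q * x * q⁻¹) = 3 := by
      have : q * x * q⁻¹ = (MulAut.conj q) x := rfl
      rw [this, MulEquiv.orderOf_eq, hx]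
    obtain ⟨k, hk, hk2⟩ := exists_conj_in hS K hx h2 hxK h1
    have hzK : ∀ z, z ∈ Subgroup.zpowers x → z ∈ K := fun z hz =>
      (Subgroup.zpowers_le.mpr hxK) hz
    rcases hk2 with hk2 | hk2
    · have h3 : k * q ∈ Subgroup.zpowers x := by
        apply hS x hx
        have h4 : k * q * x * (k * q)⁻¹ = x := by
          have h7 : k * q * x * (k * q)⁻¹ = k * (q * x * q⁻¹) * k⁻¹ := by group
          rw [h7, hk2]
        calc k * q * x = k * q * x * (k * q)⁻¹ * (k * q) := by group
          _ = x * (k * q) := by rw [h4]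
      have h5 := hzK _ h3
      have h6 : q = k⁻¹ * (k * q) := by group
      rw [h6]
      exact K.mul_mem (K.inv_mem hk) h5
    · have h3 : g * k * q ∈ Subgroup.zpowers x := by
        apply hS x hx
        have h4 : g * k * q * x * (g * k * q)⁻¹ = x := by
          have h7 : g * k * q * x * (g * k * q)⁻¹ = g * (k * (q * x * q⁻¹) * k⁻¹) * g⁻¹ := by group
          rw [h7, hk2]
          have h8 : g * x⁻¹ * g⁻¹ = (g * x * g⁻¹)⁻¹ := by group
          rw [h8, hgx, inv_inv]
        calc g * k * q * x = g * k * q * x * (g * k * q)⁻¹ * (g * k * q) := by group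
          _ = x * (g * k * q) := by rw [h4]
      have h5 := hzK _ h3
      have h6 : q = k⁻¹ * g⁻¹ * (g * k * q) := by group
      rw [h6]
      exact K.mul_mem (K.mul_mem (K.inv_mem hk) (K.inv_mem hg)) h5
  · push Not at hinv
    obtain ⟨C, hCK, hCn, hC3, hCg, -⟩ := exists_complement hS K hx hxK hinv
    -- the complement is trivial
    have hCbot : C = ⊥ := by
      haveI : K.Normal := hK
      have hD : ((pPrimeCore 3 K).map K.subtype).Normal := by
        haveI := pPrimeCore_char 3 K
        exact ConjAct.normal_of_characteristic_of_normal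
      have hDc : ¬ 3 ∣ Nat.card ((pPrimeCore 3 K).map K.subtype) := by
        rw [Subgroup.card_map_of_injective K.subtype_injective]
        have := pPrimeCore_coprime (G := K) 3
        intro h
        have h3 := Nat.dvd_gcd h (dvd_refl 3)
        rw [Nat.Coprime.gcd_eq_one this] at h3
        omega
      have hDb := hO _ hD hDc
      have hle : C.subgroupOf K ≤ pPrimeCore 3 K := by
        apply le_pPrimeCore
        · constructor
          intro n hn g
          rw [Subgroup.mem_subgroupOf] at hn ⊢
          exact hCn g g.2 n hn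
        · have hcard : Nat.card (C.subgroupOf K) = Nat.card C :=
            Nat.card_congr (Subgroup.subgroupOfEquivOfLe hCK).toEquiv
          rw [hcard]
          exact (Nat.Prime.coprime_iff_not_dvd (by norm_num : Nat.Prime 3)).mpr hC3 |>.symm
      rw [eq_bot_iff]
      intro c hc
      have h1 : (⟨c, hCK hc⟩ : K) ∈ C.subgroupOf K := by
        rw [Subgroup.mem_subgroupOf]
        exact hc
      have h2 := hle h1
      have h3 : c ∈ (pPrimeCore 3 K).map K.subtype := ⟨_, h2, rfl⟩
      rw [hDb] at h3
      exact h3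
    intro q
    have h1 : q * x * q⁻¹ ∈ K := hK.conj_mem _ hxK q
    obtain ⟨c, hc, i, hi⟩ := hCg _ h1
    rw [hCbot, Subgroup.mem_bot] at hc
    rw [hc, one_mul] at hi
    have hx3 := cube_eq_one hx
    have hi3 : x ^ i = x ^ (i % 3) := by
      rw [← hx, pow_mod_orderOf]
    have hlt : i % 3 < 3 := Nat.mod_lt _ (by norm_num)
    rw [hi3] at hi
    generalize i % 3 = j at hi hlt
    interval_cases j
    · exfalso
      have h2 : x = 1 := by
        have h3 : q * x * q⁻¹ = 1 := by simpa using hi
        have h4 : x = q⁻¹ * (q * x * q⁻¹) * q := by group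
        rw [h4, h3]
        group
      rw [h2, orderOf_one] at hx
      omega
    · left
      simpa using hi
    · right
      rw [hi, pow_two, eq_inv_iff_mul_eq_one]
      exact hx3

/-- The order when `x` generates a normal subgroup. -/
theorem card_of_normal [Finite G] (hS : SCH G) {x : G} (hx : orderOf x = 3)
    (h : ∀ q : G, q * x * q⁻¹ = x ∨ q * x * q⁻¹ = x⁻¹) : Nat.card G = 3 ∨ Nat.card G = 6 := by
  classical
  have hcen : ∀ q : G, q * x = x * q → q ∈ Subgroup.zpowers x := fun q hq => hS x hx q hq
  have hzc : ∀ q ∈ Subgroup.zpowers x, q * x = x * q := by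
    intro q hq
    obtain ⟨k, rfl⟩ := Subgroup.mem_zpowers_iff.mp hq
    exact ((Commute.refl x).zpow_left k).eq
  by_cases hall : ∀ q : G, q * x = x * q
  · left
    have h1 : Subgroup.zpowers x = ⊤ := by
      rw [eq_top_iff]
      intro q _
      exact hcen q (hall q)
    rw [← Nat.card_congr (Subgroup.topEquiv (G := G)).toEquiv, ← h1, Nat.card_zpowers, hx]
  · right
    push Not at hall
    obtain ⟨a, ha⟩ := hall
    have ha2 : a * x * a⁻¹ = x⁻¹ := by
      rcases h a with h1 | h1
      · exfalso
        apply ha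
        calc a * x = a * x * a⁻¹ * a := by group
          _ = x * a := by rw [h1]
      · exact h1
    have hidx : (Subgroup.zpowers x).index = 2 := by
      rw [Subgroup.index_eq_two_iff]
      refine ⟨a, ?_⟩
      intro b
      by_cases hb : b * x = x * b
      · have h1 := hcen b hb
        have h2 : ¬ b * a ∈ Subgroup.zpowers x := by
          intro h3
          apply ha
          have h4 := hzc _ h3
          have h5 := hzc _ (Subgroup.inv_mem _ h1)
          have h6 : a = b⁻¹ * (b * a) := by group
          rw [h6]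
          calc b⁻¹ * (b * a) * x = b⁻¹ * ((b * a) * x) := by group
            _ = b⁻¹ * (x * (b * a)) := by rw [h4]
            _ = (b⁻¹ * x) * (b * a) := by group
            _ = x * b⁻¹ * (b * a) := by rw [h5]
            _ = x * (b⁻¹ * (b * a)) := by group
        exact Or.inr ⟨h1, h2⟩
      · have hb2 : b * x * b⁻¹ = x⁻¹ := by
          rcases h b with h1 | h1
          · exfalso
            apply hb
            calc b * x = b * x * b⁻¹ * b := by group
              _ = x * b := by rw [h1]
          · exact h1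
        have h1 : b * a ∈ Subgroup.zpowers x := by
          apply hcen
          have h2 : b * a * x * (b * a)⁻¹ = x := by
            have h3 : b * a * x * (b * a)⁻¹ = b * (a * x * a⁻¹) * b⁻¹ := by group
            rw [h3, ha2]
            have h8 : b * x⁻¹ * b⁻¹ = (b * x * b⁻¹)⁻¹ := by group
            rw [h8, hb2, inv_inv]
          calc b * a * x = b * a * x * (b * a)⁻¹ * (b * a) := by group
            _ = x * (b * a) := by rw [h2]
        have h2 : ¬ b ∈ Subgroup.zpowers x := fun h3 => hb (hzc _ h3)
        exact Or.inl ⟨h1, h2⟩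
    have h2 := Subgroup.card_mul_index (Subgroup.zpowers x)
    rw [hidx, Nat.card_zpowers, hx] at h2
    omega

/-- A group of order 6 with trivial `3'`-core is `Sym(3)`. -/
theorem nonempty_equiv_perm [Finite G] (hc : Nat.card G = 6)
    (hO : ∀ N : Subgroup G, N.Normal → ¬ 3 ∣ Nat.card N → N = ⊥) :
    Nonempty (G ≃* Equiv.Perm (Fin 3)) := by
  classical
  haveI : Fact (Nat.Prime 2) := ⟨Nat.prime_two⟩
  obtain ⟨t, ht⟩ := exists_prime_orderOf_dvd_card' (G := G) 2 (by rw [hc]; norm_num)
  set H := Subgroup.zpowers t with hH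
  have hcH : Nat.card H = 2 := by rw [hH, Nat.card_zpowers, ht]
  have hidx : H.index = 3 := by
    have := Subgroup.card_mul_index H
    rw [hcH, hc] at this
    omega
  let φ := MulAction.toPermHom G (G ⧸ H)
  have hker : φ.ker ≤ H := by
    intro g hg
    have h1 : φ g = 1 := hg
    have h2 : g • ((1 : G) : G ⧸ H) = ((1 : G) : G ⧸ H) := by
      have := congrArg (fun σ : Equiv.Perm (G ⧸ H) => σ ((1 : G) : G ⧸ H)) h1
      exact this
    have h3 : ((g : G) : G ⧸ H) = ((1 : G) : G ⧸ H) := by
      simpa [MulAction.Quotient.smul_mk] using h2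
    have h4 := QuotientGroup.eq.mp h3
    simpa using h4
  have hk3 : ¬ 3 ∣ Nat.card φ.ker := by
    intro h
    have h1 : Nat.card φ.ker ∣ Nat.card H := Subgroup.card_dvd_of_le hker
    rw [hcH] at h1
    have := h.trans h1
    omega
  have hinj : Function.Injective φ := by
    rw [← MonoidHom.ker_eq_bot_iff]
    exact hO _ inferInstance hk3
  have hcq : Nat.card (G ⧸ H) = 3 := by
    rw [← Subgroup.index_eq_card, hidx]
  let e : (G ⧸ H) ≃ Fin 3 := Finite.equivFinOfCardEq hcq
  have hcp : Nat.card (Equiv.Perm (G ⧸ H)) = 6 := by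
    rw [Nat.card_congr (Equiv.permCongrHom e).toEquiv]
    simp [Nat.card_eq_fintype_card, Fintype.card_perm, Nat.factorial]
  have hbij : Function.Bijective φ := by
    rw [Nat.bijective_iff_injective_and_card]
    exact ⟨hinj, by rw [hc, hcp]⟩
  exact ⟨(MulEquiv.ofBijective φ hbij).trans (Equiv.permCongrHom e)⟩

end Cfsg.Agent.Lib.Blocks.SC3
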