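import Mathlib
import Cfsg.Agent.Lib.Blocks.SC3R2
import Cfsg.Agent.S3779

/-!
# Self-centralizing subgroups of order 3: reduction, third part

When `G ⧸ L` is simple, contains `A₄`, then `L` is elementary abelian.
-/

set_option autoImplicit false

namespace Cfsg.Agent.Lib.Blocks.SC3

universe u

open scoped commutatorElement

variable {G : Type u} [Group G]

/-- A normal subgroup containing `L` and something outside is everything. -/
theorem eq_top_of_normal_of_not_le {L : Subgroup G} [L.Normal] [IsSimpleGroup (G ⧸ L)] {K : Subgroup G}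
    (hK : K.Normal) (hLK : L ≤ K) {s : G} (hs : s ∈ K) (hsL : s ∉ L) : K = ⊤ := by
  have h1 : (K.map (QuotientGroup.mk' L)).Normal :=
    Subgroup.Normal.map hK _ (QuotientGroup.mk'_surjective L)
  rcases h1.eq_bot_or_eq_top with h2 | h2
  · exfalso
    apply hsL
    have h3 : (s : G ⧸ L) ∈ K.map (QuotientGroup.mk' L) := ⟨s, hs, rfl⟩
    rw [h2, Subgroup.mem_bot] at h3
    exact (QuotientGroup.eq_one_iff s).mp h3
  · rw [eq_top_iff]
    intro g _
    have h3 : (g : G ⧸ L) ∈ K.map (QuotientGroup.mk' L) := by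
      rw [h2]
      trivial
    obtain ⟨k, hk, hk2⟩ := h3
    have h4 : k⁻¹ * g ∈ L := by
      rw [← QuotientGroup.eq]
      exact hk2
    have h5 : g = k * (k⁻¹ * g) := by group
    rw [h5]
    exact K.mul_mem hk (hLK h4)

/-- The centralizer of a conjugation-invariant subset of `L`: if it contains `L` and something outside
then the subset is trivial. -/
theorem eq_one_of_centralized [Finite G] (hS : SCH G) {L : Subgroup G} [L.Normal] [IsSimpleGroup (G ⧸ L)]
    {h : G} (hact : Act L h) {A : Set G} (hAL : A ⊆ L) (hAc : ∀ g : G, ∀ a ∈ A, g * a * g⁻¹ ∈ A)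
    (hLA : ∀ l ∈ L, ∀ a ∈ A, l * a = a * l) {s : G} (hsA : ∀ a ∈ A, s * a = a * s) (hsL : s ∉ L) :
    ∀ a ∈ A, a = 1 := by
  have hn : (Subgroup.centralizer A).Normal := by
    constructor
    intro n hn g
    rw [Subgroup.mem_centralizer_iff] at hn ⊢
    intro a ha
    have h1 := hn _ (hAc g⁻¹ a ha)
    have h2 : g⁻¹ * a * g⁻¹⁻¹ = g⁻¹ * a * g := by group
    rw [h2] at h1
    calc a * (g * n * g⁻¹) = g * ((g⁻¹ * a * g) * n) * g⁻¹ := by group
      _ = g * (n * (g⁻¹ * a * g)) * g⁻¹ := by rw [h1]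
      _ = (g * n * g⁻¹) * a := by group
  have hLC : L ≤ Subgroup.centralizer A := by
    intro l hl
    rw [Subgroup.mem_centralizer_iff]
    intro a ha
    exact (hLA l hl a ha).symm
  have hsC : s ∈ Subgroup.centralizer A := by
    rw [Subgroup.mem_centralizer_iff]
    intro a ha
    exact (hsA a ha).symm
  have htop := eq_top_of_normal_of_not_le hn hLC hsC hsL
  have hh : h ∈ Subgroup.centralizer A := by
    rw [htop]
    trivial
  intro a ha
  rw [Subgroup.mem_centralizer_iff] at hh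
  have h1 := hh a ha
  apply hact.fix hS (hAL ha)
  rw [← h1]
  group

/-- Class at most two. -/
theorem class_two [Finite G] (hS : SCH G) {U : Subgroup G} {h : G} (hU : Act U h) {a b c : G} (ha : a ∈ U)
    (hb : b ∈ U) (hc : c ∈ U) : (a * b * a⁻¹ * b⁻¹) * c = c * (a * b * a⁻¹ * b⁻¹) := by
  classical
  by_cases hne : ∃ u : U, u ≠ 1
  · obtain ⟨u, hu⟩ := hne
    have hfpf : ∀ g : U, hU.aut g = g → g = 1 := by
      intro g hg
      apply Subtype.ext
      apply hU.fix hS g.2
      exact congrArg Subtype.val hg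
    have h3 : hU.aut ^ 3 = 1 := by
      ext e
      have h4 := hU.aut_iter e
      have h5 : (hU.aut ^ 3) e = hU.aut (hU.aut (hU.aut e)) := rfl
      rw [h5]
      exact congrArg Subtype.val h4
    have hne1 : hU.aut ≠ 1 := by
      intro h1
      apply hu
      apply hfpf
      rw [h1]
      rfl
    have hord : orderOf hU.aut = 3 := orderOf_eq_prime h3 hne1
    have hl := (Cfsg.Agent.S3779.result (G := U) Nat.prime_three hU.aut hord hfpf).2.1 rfl
    have hmem : ⁅⁅(⟨a, ha⟩ : U), (⟨b, hb⟩ : U)⁆, (⟨c, hc⟩ : U)⁆ ∈ (⊤ : Subgroup U).lowerCentralSeries 2 := by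
      rw [Subgroup.lowerCentralSeries_succ]
      apply Subgroup.commutator_mem_commutator
      · rw [Subgroup.lowerCentralSeries_succ]
        apply Subgroup.commutator_mem_commutator
        · trivial
        · trivial
      · trivial
    rw [hl, Subgroup.mem_bot] at hmem
    have h2 := congrArg Subtype.val hmem
    simp only [commutatorElement_def, Subgroup.coe_mul, Subgroup.coe_inv, Subgroup.coe_one] at h2
    have h4 := mul_inv_eq_one.mp h2
    have h5 : (a * b * a⁻¹ * b⁻¹) * c * (a * b * a⁻¹ * b⁻¹)⁻¹ = c := h4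
    calc (a * b * a⁻¹ * b⁻¹) * c = (a * b * a⁻¹ * b⁻¹) * c * (a * b * a⁻¹ * b⁻¹)⁻¹ * (a * b * a⁻¹ * b⁻¹) := by group
      _ = _ := by rw [h5]
  · push Not at hne
    have hall : ∀ g ∈ U, g = 1 := by
      intro g hg
      have := hne ⟨g, hg⟩
      exact congrArg Subtype.val this
    rw [hall a ha, hall b hb, hall c hc]
    group

/-- `L` is abelian of exponent 2, given the image in `G ⧸ L` of a group `U` of order prime to 3 normalized by
an element of order 3. -/
theorem comm_and_sq [Finite G] (hS : SCH G) {L : Subgroup G} [hLn : L.Normal] [IsSimpleGroup (G ⧸ L)]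
    {h s : G} (hact : Act L h) {U : Subgroup G} (hU : Act U h) (hLU : L ≤ U) (hsU : s ∈ U) (hsL : s ∉ L)
    (hs2 : s * s ∈ L) : (∀ a ∈ L, ∀ b ∈ L, a * b = b * a) ∧ ∀ a ∈ L, a * a = 1 := by
  have hcomm : ∀ a ∈ L, ∀ b ∈ L, a * b = b * a := by
    have key := eq_one_of_centralized hS hact (A := {c | ∃ a ∈ L, ∃ b ∈ L, c = a * b * a⁻¹ * b⁻¹})
      (by
        rintro _ ⟨a, ha, b, hb, rfl⟩
        exact L.mul_mem (L.mul_mem (L.mul_mem ha hb) (L.inv_mem ha)) (L.inv_mem hb))
      (by
        rintro g _ ⟨a, ha, b, hb, rfl⟩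
        refine ⟨g * a * g⁻¹, hLn.conj_mem a ha g, g * b * g⁻¹, hLn.conj_mem b hb g, ?_⟩
        group)
      (by
        rintro l hl _ ⟨a, ha, b, hb, rfl⟩
        exact (class_two hS hU (hLU ha) (hLU hb) (hLU hl)).symm)
      (s := s)
      (by
        rintro _ ⟨a, ha, b, hb, rfl⟩
        exact (class_two hS hU (hLU ha) (hLU hb) hsU).symm)
      hsL
    intro a ha b hb
    have h1 := key _ ⟨a, ha, b, hb, rfl⟩
    have h2 : a * b * a⁻¹ = b := by
      exact mul_inv_eq_one.mp h1
    calc a * b = a * b * a⁻¹ * a := by group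
      _ = b * a := by rw [h2]
  refine ⟨hcomm, ?_⟩
  have key := eq_one_of_centralized hS hact (A := {c | ∃ a ∈ L, c = a * a})
    (by
      rintro _ ⟨a, ha, rfl⟩
      exact L.mul_mem ha ha)
    (by
      rintro g _ ⟨a, ha, rfl⟩
      refine ⟨g * a * g⁻¹, hLn.conj_mem a ha g, ?_⟩
      group)
    (by
      rintro l hl _ ⟨a, ha, rfl⟩
      exact hcomm _ hl _ (L.mul_mem ha ha))
    (s := s)
    (by
      rintro _ ⟨a, ha, rfl⟩
      -- `u = a (s a⁻¹ s⁻¹)` is inverted and centralized by `s`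
      have hsa : s * a * s⁻¹ ∈ L := hLn.conj_mem a ha s
      have hsa2 : s * (s * a * s⁻¹) * s⁻¹ = a := by
        have h1 : s * (s * a * s⁻¹) * s⁻¹ = (s * s) * a * (s * s)⁻¹ := by group
        rw [h1]
        have h2 := hcomm _ hs2 _ ha
        rw [h2]
        group
      have hc2 := class_two hS hU (hLU ha) hsU hsU
      -- `[a, s] = a * s * a⁻¹ * s⁻¹ = a * (s a s⁻¹)⁻¹`
      set b := s * a * s⁻¹ with hb
      have hc3 : a * s * a⁻¹ * s⁻¹ = a * b⁻¹ := by
        rw [hb]
        group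
      rw [hc3] at hc2
      -- conjugating by `s`
      have h4 : s * (a * b⁻¹) * s⁻¹ = b * a⁻¹ := by
        have h5 : s * (a * b⁻¹) * s⁻¹ = (s * a * s⁻¹) * (s * b * s⁻¹)⁻¹ := by group
        rw [h5, hsa2]
      have h6 : s * (a * b⁻¹) * s⁻¹ = a * b⁻¹ := by
        calc s * (a * b⁻¹) * s⁻¹ = (s * (a * b⁻¹)) * s⁻¹ := rfl
          _ = ((a * b⁻¹) * s) * s⁻¹ := by rw [hc2]
          _ = a * b⁻¹ := by group
      have h7 : b * a⁻¹ = a * b⁻¹ := by rw [← h4, h6]
      have hbL : b ∈ L := hsa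
      -- so `b b = a a`
      have h8 : b * b = a * a := by
        have hab : a * b = b * a := hcomm a ha b hbL
        have h9 : b = a * b⁻¹ * a := by
          rw [← h7]
          group
        calc b * b = (a * b⁻¹ * a) * b := by rw [← h9]
          _ = a * b⁻¹ * (a * b) := by group
          _ = a * b⁻¹ * (b * a) := by rw [hab]
          _ = a * a := by group
      have h10 : s * (a * a) * s⁻¹ = a * a := by
        have h11 : s * (a * a) * s⁻¹ = (s * a * s⁻¹) * (s * a * s⁻¹) := by group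
        rw [h11, ← hb, h8]
      calc s * (a * a) = s * (a * a) * s⁻¹ * s := by group
        _ = a * a * s := by rw [h10])
    hsL
  intro a ha
  exact key _ ⟨a, ha, rfl⟩

end Cfsg.Agent.Lib.Blocks.SC3
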