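import Mathlib
import Cfsg.Agent.Lib.Blocks.SC3R3
import Cfsg.Agent.Lib.SmallCen.SmallOrder

/-!
# Self-centralizing subgroups of order 3: reduction, fourth part

The Frobenius group of order 21 acts trivially on an elementary abelian 2-group when its elements of
order 3 act without fixed points.
-/

set_option autoImplicit false

namespace Cfsg.Agent.Lib.Blocks.SC3

universe u

variable {G : Type u} [Group G]

/-- The ring identity for the Frobenius group of order 21 in characteristic 2. -/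
theorem frob7_ring {R : Type*} [Ring R] (h2 : (2 : R) = 0) (a b : R) (h7 : a ^ 7 = 1)
    (hba : b * a = a ^ 2 * b) (hN : ∀ i : ℕ, 1 + a ^ i * b + (a ^ i * b) ^ 2 = 0) : a = 1 := by
  have hbi : ∀ i, b * a ^ i = a ^ (2 * i) * b := by
    intro i
    induction i with
    | zero => simp
    | succ n ih =>
      calc b * a ^ (n + 1) = (b * a ^ n) * a := by rw [pow_succ, mul_assoc]
        _ = a ^ (2 * n) * (b * a) := by rw [ih, mul_assoc]
        _ = a ^ (2 * n) * (a ^ 2 * b) := by rw [hba]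
        _ = a ^ (2 * (n + 1)) * b := by
          rw [← mul_assoc, ← pow_add]
          congr 2
  have hE : ∀ i, 1 + a ^ i * b + a ^ (3 * i) * b ^ 2 = 0 := by
    intro i
    have h1 := hN i
    have h3 : (a ^ i * b) ^ 2 = a ^ (3 * i) * b ^ 2 := by
      calc (a ^ i * b) ^ 2 = a ^ i * (b * a ^ i) * b := by
            rw [pow_two]
            simp only [mul_assoc]
        _ = a ^ i * (a ^ (2 * i) * b) * b := by rw [hbi]
        _ = a ^ (3 * i) * b ^ 2 := by
          rw [show 3 * i = i + 2 * i by ring, pow_add, pow_two]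
          simp only [mul_assoc]
    rwa [h3] at h1
  have hred : ∀ k, a ^ (7 + k) = a ^ k := fun k => by rw [pow_add, h7, one_mul]
  have e0 := hE 0
  have e1 := hE 1
  have e2 := hE 2
  have e3 := hE 3
  have e4 := hE 4
  have e5 := hE 5
  have e6 := hE 6
  rw [show 3 * 0 = 0 by norm_num, pow_zero, one_mul] at e0
  rw [show 3 * 1 = 3 by norm_num, pow_one] at e1
  rw [show 3 * 2 = 6 by norm_num] at e2
  rw [show 3 * 3 = 7 + 2 by norm_num, hred] at e3
  rw [show 3 * 4 = 7 + 5 by norm_num, hred] at e4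
  rw [show 3 * 5 = 7 + (7 + 1) by norm_num, hred, hred, pow_one] at e5
  rw [show 3 * 6 = 7 + (7 + 4) by norm_num, hred, hred] at e6
  set N : R := 1 + a + a ^ 2 + a ^ 3 + a ^ 4 + a ^ 5 + a ^ 6 with hNdef
  have hNb : N * b = b + a * b + a ^ 2 * b + a ^ 3 * b + a ^ 4 * b + a ^ 5 * b + a ^ 6 * b := by
    simp only [hNdef, add_mul, one_mul]
  have hNb2 : N * b ^ 2 = b ^ 2 + a * b ^ 2 + a ^ 2 * b ^ 2 + a ^ 3 * b ^ 2 + a ^ 4 * b ^ 2 + a ^ 5 * b ^ 2 + a ^ 6 * b ^ 2 := by
    simp only [hNdef, add_mul, one_mul]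
  have hone : (1 : R) + 1 = 0 := by rw [one_add_one_eq_two, h2]
  have hneg : (-1 : R) = 1 := by
    rw [neg_eq_iff_add_eq_zero]
    exact hone
  have hsum : (1 : R) + N * b + N * b ^ 2 = 0 := by
    have h1 : (1 : R) + N * b + N * b ^ 2 + (1 + 1) + (1 + 1) + (1 + 1) =
        (1 + b + b ^ 2) + (1 + a * b + a ^ 3 * b ^ 2) + (1 + a ^ 2 * b + a ^ 6 * b ^ 2)
        + (1 + a ^ 3 * b + a ^ 2 * b ^ 2) + (1 + a ^ 4 * b + a ^ 5 * b ^ 2)
        + (1 + a ^ 5 * b + a * b ^ 2) + (1 + a ^ 6 * b + a ^ 4 * b ^ 2) := by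
      rw [hNb, hNb2]
      abel
    rw [one_mul] at e0
    rw [hone, e0, e1, e2, e3, e4, e5, e6] at h1
    simpa using h1
  have hbb : b + b ^ 2 = 1 := by
    have h1 : 1 + b + b ^ 2 = 0 := by simpa using e0
    have h3 : b + b ^ 2 = -1 := by
      rw [eq_neg_iff_add_eq_zero]
      rw [← h1]
      abel
    rw [h3, hneg]
  have hN1 : N = 1 := by
    have h1 : N * (b + b ^ 2) = N * b + N * b ^ 2 := mul_add _ _ _
    rw [hbb, mul_one] at h1
    have h3 : (1 : R) + N = 0 := by
      rw [h1, ← add_assoc]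
      exact hsum
    have h4 : N = -1 := by
      rw [eq_neg_iff_add_eq_zero, add_comm]
      exact h3
    rw [h4, hneg]
  have haN : a * N = N := by
    simp only [hNdef, mul_add, mul_one]
    have h3 : a * a ^ 6 = 1 := by rw [← pow_succ', h7]
    have h4 : a * a = a ^ 2 := (pow_two a).symm
    have h5 : a * a ^ 2 = a ^ 3 := (pow_succ' a 2).symm
    have h6 : a * a ^ 3 = a ^ 4 := (pow_succ' a 3).symm
    have h8 : a * a ^ 4 = a ^ 5 := (pow_succ' a 4).symm
    have h9 : a * a ^ 5 = a ^ 6 := (pow_succ' a 5).symm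
    rw [h3, h4, h5, h6, h8, h9]
    abel
  rw [hN1, mul_one] at haN
  exact haN

/-- The Frobenius action, in the group. -/
theorem frob7_trivial [Finite G] (hS : SCH G) {L : Subgroup G} [hLn : L.Normal]
    (hcomm : ∀ a ∈ L, ∀ b ∈ L, a * b = b * a) (hsq : ∀ a ∈ L, a * a = 1) (hL3 : ¬ 3 ∣ Nat.card L)
    {Z Y : G} (hZ7 : Z ^ 7 ∈ L) (hrel : (Y * Z) * (Z ^ 2 * Y)⁻¹ ∈ L)
    (h3 : ∀ i : ℕ, ∃ w : G, orderOf w = 3 ∧ w⁻¹ * (Z ^ i * Y) ∈ L) : ∀ l ∈ L, Z * l * Z⁻¹ = l := by
  classical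
  letI inst : CommGroup L :=
    { (inferInstance : Group L) with mul_comm := fun a b => Subtype.ext (hcomm a a.2 b b.2) }
  let cf : G →* AddMonoid.End (Additive L) :=
    { toFun := fun g => AddMonoidHom.mk' (fun v => Additive.ofMul (⟨g * (v.toMul : L) * g⁻¹, hLn.conj_mem _ (v.toMul : L).2 g⟩ : L))
        (by
          intro u v
          apply Additive.toMul.injective
          apply Subtype.ext
          show g * (((u.toMul : L) : G) * ((v.toMul : L) : G)) * g⁻¹ = (g * ((u.toMul : L) : G) * g⁻¹) * (g * ((v.toMul : L) : G) * g⁻¹)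
          group)
      map_one' := by
        ext v
        show (1 : G) * ((v.toMul : L) : G) * (1 : G)⁻¹ = ((v.toMul : L) : G)
        group
      map_mul' := by
        intro g h
        ext v
        show (g * h) * ((v.toMul : L) : G) * (g * h)⁻¹ = g * (h * ((v.toMul : L) : G) * h⁻¹) * g⁻¹
        group }
  have hcf : ∀ (g : G) (v : Additive L), (((cf g v).toMul : L) : G) = g * ((v.toMul : L) : G) * g⁻¹ := fun _ _ => rfl
  have hcfL : ∀ l ∈ L, cf l = 1 := by
    intro l hl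
    ext v
    show l * ((v.toMul : L) : G) * l⁻¹ = ((v.toMul : L) : G)
    rw [hcomm l hl _ (v.toMul : L).2]
    group
  have hcfeq : ∀ g g' : G, g⁻¹ * g' ∈ L → cf g' = cf g := by
    intro g g' h
    have h1 : g' = g * (g⁻¹ * g') := by group
    rw [h1, map_mul, hcfL _ h, mul_one]
  have h2R : (2 : AddMonoid.End (Additive L)) = 0 := by
    rw [← one_add_one_eq_two]
    ext v
    show ((v.toMul : L) : G) * ((v.toMul : L) : G) = 1
    exact hsq _ (v.toMul : L).2
  have hnorm : ∀ w : G, orderOf w = 3 → 1 + cf w + (cf w) ^ 2 = 0 := by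
    intro w hw
    have hact : Act L w := ⟨hw, fun e he => hLn.conj_mem e he w, hL3⟩
    ext v
    show ((v.toMul : L) : G) * (w * ((v.toMul : L) : G) * w⁻¹) * (w * (w * ((v.toMul : L) : G) * w⁻¹) * w⁻¹) = 1
    have h1 := hact.norm hS (v.toMul : L).2
    have hw3 := cube_eq_one hw
    have hww : w * w = w⁻¹ := by
      rw [eq_inv_iff_mul_eq_one]
      exact hw3
    have h4 : w * (w * ((v.toMul : L) : G) * w⁻¹) * w⁻¹ = w⁻¹ * ((v.toMul : L) : G) * w := by
      calc w * (w * ((v.toMul : L) : G) * w⁻¹) * w⁻¹ = (w * w) * ((v.toMul : L) : G) * (w * w)⁻¹ := by group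
        _ = _ := by rw [hww, inv_inv]
    rw [h4]
    exact h1
  have ha7 : (cf Z) ^ 7 = 1 := by
    rw [← map_pow]
    exact hcfL _ hZ7
  have hba : cf Y * cf Z = (cf Z) ^ 2 * cf Y := by
    rw [← map_mul, ← map_pow, ← map_mul]
    apply hcfeq
    have h1 : (Z ^ 2 * Y)⁻¹ * (Y * Z) = (Z ^ 2 * Y)⁻¹ * ((Y * Z) * (Z ^ 2 * Y)⁻¹) * (Z ^ 2 * Y) := by group
    rw [h1]
    have h4 := hLn.conj_mem _ hrel (Z ^ 2 * Y)⁻¹
    rwa [inv_inv] at h4
  have hN : ∀ i : ℕ, 1 + (cf Z) ^ i * cf Y + ((cf Z) ^ i * cf Y) ^ 2 = 0 := by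
    intro i
    obtain ⟨w, hw, hwL⟩ := h3 i
    have h1 : (cf Z) ^ i * cf Y = cf w := by
      rw [← map_pow, ← map_mul]
      exact hcfeq _ _ hwL
    rw [h1]
    exact hnorm w hw
  have hz1 := frob7_ring h2R _ _ ha7 hba hN
  intro l hl
  have h1 := congrArg (fun f : AddMonoid.End (Additive L) => (((f (Additive.ofMul (⟨l, hl⟩ : L))).toMul : L) : G)) hz1
  exact h1

/-- Existence of the Frobenius group of order 21. -/
theorem exists_frob7 [Finite G] [IsSimpleGroup G] (hS : SCH G) (h : Nat.card G = 168) :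
    ∃ z y : G, orderOf z = 7 ∧ orderOf y = 3 ∧ y * z * y⁻¹ = z ^ 2 := by
  classical
  haveI : Fact (Nat.Prime 7) := ⟨by norm_num⟩
  haveI : Fact (Nat.Prime 3) := ⟨by norm_num⟩
  obtain ⟨P⟩ : Nonempty (Sylow 7 G) := inferInstance
  have hp : Nat.card (P : Subgroup G) = 7 := by
    simpa using Cfsg.Agent.Lib.SmallCen.SmallOrder.card_sylow_eq (a := 1) (m := 24) (by rw [h]; norm_num) (by norm_num) P
  have hidx : (P : Subgroup G).index = 24 := by
    have := Subgroup.card_mul_index (P : Subgroup G)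
    rw [hp, h] at this
    omega
  have hmod := card_sylow_modEq_one 7 G
  have hdvd := P.card_dvd_index
  rw [hidx] at hdvd
  have hn8 : Nat.card (Sylow 7 G) = 1 ∨ Nat.card (Sylow 7 G) = 8 := by
    have hle := Nat.le_of_dvd (by norm_num) hdvd
    generalize Nat.card (Sylow 7 G) = n at hmod hdvd hle ⊢
    unfold Nat.ModEq at hmod
    interval_cases n <;> first | omega | (exfalso; revert hdvd; norm_num)
  have hntop := Cfsg.Agent.Lib.SmallCen.SmallOrder.normalizer_ne_top P (by rw [hp]; norm_num)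
    (by rw [hp, h]; norm_num)
  have hnidx := P.card_eq_index_normalizer
  have hn : Nat.card (Sylow 7 G) = 8 := by
    rcases hn8 with h1 | h1
    · exfalso
      rw [h1] at hnidx
      exact hntop (Subgroup.index_eq_one.1 hnidx.symm)
    · exact h1
  have hNcard : Nat.card (Subgroup.normalizer (P : Set G)) = 21 := by
    have := Subgroup.card_mul_index (Subgroup.normalizer (P : Set G))
    rw [← hnidx, hn, h] at this
    omega
  obtain ⟨y₀, hy₀⟩ := exists_prime_orderOf_dvd_card' (G := Subgroup.normalizer (P : Set G)) 3 (by rw [hNcard]; norm_num)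
  obtain ⟨z₀, hz₀⟩ := exists_prime_orderOf_dvd_card' (G := (P : Subgroup G)) 7 (by rw [hp])
  have hz : orderOf (z₀ : G) = 7 := by rw [Subgroup.orderOf_coe]; exact hz₀
  have hy : orderOf (y₀ : G) = 3 := by rw [Subgroup.orderOf_coe]; exact hy₀
  set z : G := (z₀ : G) with hzdef
  set y : G := (y₀ : G) with hydef
  have hPz : (P : Subgroup G) = Subgroup.zpowers z := by
    symm
    apply Subgroup.eq_of_le_of_card_ge
    · exact Subgroup.zpowers_le.mpr z₀.2
    · rw [Nat.card_zpowers, hz, hp]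
  have h1 : y * z * y⁻¹ ∈ Subgroup.zpowers z := by
    rw [← hPz]
    have hy2 : y ∈ Subgroup.normalizer (P : Set G) := y₀.2
    exact (Subgroup.mem_normalizer_iff.mp hy2 z).mp z₀.2
  rw [mem_zpowers_iff_mem_range_orderOf, hz] at h1
  simp only [Finset.mem_image, Finset.mem_range] at h1
  obtain ⟨k, hk, hk2⟩ := h1
  have hconj : ∀ m : ℕ, y * z ^ m * y⁻¹ = z ^ (k * m) := by
    intro m
    rw [pow_mul, hk2, ← conj_pow]
  have hy3 := cube_eq_one hy
  have hk3 : z ^ (k * (k * k)) = z := by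
    have h2 : y * (y * (y * z * y⁻¹) * y⁻¹) * y⁻¹ = (y * y * y) * z * (y * y * y)⁻¹ := by group
    rw [hy3] at h2
    simp only [one_mul, inv_one, mul_one] at h2
    have h4 : y * z * y⁻¹ = z ^ k := hk2.symm
    rw [h4, hconj, hconj] at h2
    exact h2
  have hk4 : (k * (k * k)) % 7 = 1 := by
    have h2 := pow_mod_orderOf z (k * (k * k))
    rw [hz] at h2
    have h3 : z ^ ((k * (k * k)) % 7) = z ^ 1 := by rw [h2, hk3, pow_one]
    have h4 := pow_injOn_Iio_orderOf (x := z)
    rw [hz] at h4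
    exact h4 (Set.mem_Iio.mpr (Nat.mod_lt _ (by norm_num))) (Set.mem_Iio.mpr (by norm_num)) h3
  interval_cases k <;> simp at hk4
  · -- `k = 1`: commuting
    exfalso
    have h2 : z ∈ Subgroup.zpowers y := by
      apply hS y hy
      have h3 : y * z * y⁻¹ = z := by
        rw [← hk2, pow_one]
      calc z * y = (y * z * y⁻¹) * y := by rw [h3]
        _ = y * z := by group
    have h3 := pow_eq_one_of_mem_zpowers hy h2
    have h4 := orderOf_dvd_of_pow_eq_one h3
    rw [hz] at h4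
    omega
  · exact ⟨z, y, hz, hy, hk2.symm⟩
  · refine ⟨z, y⁻¹, hz, by rw [orderOf_inv, hy], ?_⟩
    have h3 : y * z ^ 2 * y⁻¹ = z := by
      rw [hconj]
      have h5 := pow_mod_orderOf z (4 * 2)
      rw [hz] at h5
      rw [← h5]
      simp
    have h6 : y⁻¹ * z * y⁻¹⁻¹ = y⁻¹ * (y * z ^ 2 * y⁻¹) * y := by
      rw [h3, inv_inv]
    rw [h6]
    group

end Cfsg.Agent.Lib.Blocks.SC3
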