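import Mathlib
import Cfsg.Agent.Lib.Blocks.SC3R4
import Cfsg.Agent.S0494
import Cfsg.Agent.S0495

/-!
# Self-centralizing subgroups of order 3: the reduction to simple groups
-/

set_option autoImplicit false

namespace Cfsg.Agent.Lib.Blocks.SC3

universe u

open Cfsg.Agent.Lib.Solvable.PSeries Cfsg.Agent.Lib.Basic.PCore Cfsg

/-- The simple case of the theorem, for groups in universe `u`. -/
def SimpleCore : Prop :=
  ∀ (Q : Type u) [Group Q] [Finite Q] [IsSimpleGroup Q], SCH Q → (∃ y : Q, orderOf y = 3) →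
    (¬ ∀ a b : Q, a * b = b * a) →
    (Nat.card Q = 60 ∨ Nat.card Q = 168) ∧ ∃ t y : Q, orderOf t = 2 ∧ orderOf y = 3 ∧ orderOf (t * y) = 3

variable {G : Type u} [Group G]

/-- If `G ⧸ L` is simple and has the four-group normalized by an element of order 3 then `L` is elementary
abelian. -/
theorem elementary_of_simple_quotient [Finite G] (hS : SCH G) {L : Subgroup G} [hLn : L.Normal]
    [IsSimpleGroup (G ⧸ L)] (hL3 : ¬ 3 ∣ Nat.card L) {t y : G ⧸ L} (ht : orderOf t = 2) (hy : orderOf y = 3)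
    (hty : orderOf (t * y) = 3) :
    (∀ a ∈ L, ∀ b ∈ L, a * b = b * a) ∧ ∀ a ∈ L, a * a = 1 := by
  classical
  haveI : Fact (Nat.Prime 3) := ⟨by norm_num⟩
  have hSQ := sch_quotient hS hL3
  obtain ⟨h, hh, hho⟩ := exists_lift_three hL3 hy
  obtain ⟨s, hs⟩ := QuotientGroup.mk_surjective t
  have hact : Act L h := ⟨hho, fun e he => hLn.conj_mem e he h, hL3⟩
  have htri := tri_of_mem ht (⟨hy, hty⟩ : y ∈ Zt t)
  have hE := htri.act hSQ
  set E := Er t (y * t * y⁻¹) with hEdef
  have hU : Act (E.comap (QuotientGroup.mk' L)) h := by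
    refine ⟨hho, ?_, ?_⟩
    · intro e he
      have he' : ((e : G) : G ⧸ L) ∈ E := he
      have h1 := hE.nor _ he'
      show ((h * e * h⁻¹ : G) : G ⧸ L) ∈ E
      have h2 : ((h * e * h⁻¹ : G) : G ⧸ L) = y * (e : G ⧸ L) * y⁻¹ := by
        rw [← hh]
        rfl
      rw [h2]
      exact h1
    · intro h3
      obtain ⟨w, hw⟩ := exists_prime_orderOf_dvd_card' (G := E.comap (QuotientGroup.mk' L)) 3 h3
      have hw1 : ((w : G) : G ⧸ L) ∈ E := w.2
      have hw2 : orderOf (w : G) = 3 := by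
        rw [Subgroup.orderOf_coe]
        exact hw
      have hw3 : (w : G) ^ 3 = 1 := by
        rw [← hw2]
        exact pow_orderOf_eq_one _
      by_cases h1 : ((w : G) : G ⧸ L) = 1
      · have hwL : (w : G) ∈ L := (QuotientGroup.eq_one_iff _).mp h1
        have h4 : orderOf (⟨w, hwL⟩ : L) ∣ Nat.card L := orderOf_dvd_natCard _
        rw [Subgroup.orderOf_mk, hw2] at h4
        exact hL3 h4
      · have h5 : ((w : G) : G ⧸ L) ^ 3 = 1 := by
          have : ((w : G) : G ⧸ L) ^ 3 = (((w : G) ^ 3 : G) : G ⧸ L) := rfl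
          rw [this, hw3]
          rfl
        have h6 := orderOf_eq_prime h5 h1
        have h7 : orderOf (⟨_, hw1⟩ : E) ∣ Nat.card E := orderOf_dvd_natCard _
        rw [Subgroup.orderOf_mk, h6] at h7
        exact hE.cop h7
  have hLU : L ≤ E.comap (QuotientGroup.mk' L) := by
    intro l hl
    have h1 : ((l : G) : G ⧸ L) = 1 := (QuotientGroup.eq_one_iff l).mpr hl
    show ((l : G) : G ⧸ L) ∈ E
    rw [h1]
    exact E.one_mem
  have hsU : s ∈ E.comap (QuotientGroup.mk' L) := by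
    show ((s : G) : G ⧸ L) ∈ E
    rw [hs]
    exact htri.t_mem
  have hsL : s ∉ L := by
    intro h1
    have h2 : (s : G ⧸ L) = 1 := (QuotientGroup.eq_one_iff s).mpr h1
    rw [hs] at h2
    exact htri.hne h2
  have hs2 : s * s ∈ L := by
    rw [← QuotientGroup.eq_one_iff]
    have h2 : ((s * s : G) : G ⧸ L) = (s : G ⧸ L) * (s : G ⧸ L) := rfl
    rw [h2, hs]
    exact htri.ht
  exact comm_and_sq hS hact hU hLU hsU hsL hs2

/-- If moreover `G ⧸ L` has order 168 then `L` is trivial. -/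
theorem trivial_of_card_quotient [Finite G] (hS : SCH G) {L : Subgroup G} [hLn : L.Normal]
    [IsSimpleGroup (G ⧸ L)] (hL3 : ¬ 3 ∣ Nat.card L) (hc : Nat.card (G ⧸ L) = 168)
    (hcomm : ∀ a ∈ L, ∀ b ∈ L, a * b = b * a) (hsq : ∀ a ∈ L, a * a = 1) : L = ⊥ := by
  classical
  have hSQ := sch_quotient hS hL3
  obtain ⟨z, y, hz, hy, hzy⟩ := exists_frob7 hSQ hc
  obtain ⟨Z, hZ⟩ := QuotientGroup.mk_surjective z
  obtain ⟨Y, hY⟩ := QuotientGroup.mk_surjective y
  obtain ⟨h, _, hho⟩ := exists_lift_three hL3 hy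
  have hact : Act L h := ⟨hho, fun e he => hLn.conj_mem e he h, hL3⟩
  have hz7 : z ^ 7 = 1 := by
    rw [← hz]
    exact pow_orderOf_eq_one z
  have hy3 := cube_eq_one hy
  have hZ7 : Z ^ 7 ∈ L := by
    rw [← QuotientGroup.eq_one_iff]
    have h2 : ((Z ^ 7 : G) : G ⧸ L) = (Z : G ⧸ L) ^ 7 := rfl
    rw [h2, hZ, hz7]
  have hrel : (Y * Z) * (Z ^ 2 * Y)⁻¹ ∈ L := by
    rw [← QuotientGroup.eq_one_iff]
    have h2 : (((Y * Z) * (Z ^ 2 * Y)⁻¹ : G) : G ⧸ L) = ((Y : G ⧸ L) * (Z : G ⧸ L)) * ((Z : G ⧸ L) ^ 2 * (Y : G ⧸ L))⁻¹ := rfl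
    rw [h2, hZ, hY, ← hzy]
    group
  have hcj : ∀ m : ℕ, y * z ^ m * y⁻¹ = z ^ (2 * m) := by
    intro m
    rw [pow_mul, ← hzy, conj_pow]
  have h3 : ∀ i : ℕ, ∃ w : G, orderOf w = 3 ∧ w⁻¹ * (Z ^ i * Y) ∈ L := by
    intro i
    have hord : orderOf (z ^ i * y) = 3 := by
      apply orderOf_eq_prime
      · have h4 : (z ^ i * y) ^ 3 = z ^ i * (y * z ^ i * y⁻¹) * ((y * y) * z ^ i * (y * y)⁻¹) * (y * y * y) := by
          rw [pow_succ, pow_two]
          group
        have h5 : (y * y) * z ^ i * (y * y)⁻¹ = y * (y * z ^ i * y⁻¹) * y⁻¹ := by group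
        rw [h4, h5, hcj, hcj, hy3, mul_one, ← pow_add, ← pow_add]
        have h6 : i + 2 * i + 2 * (2 * i) = 7 * i := by ring
        rw [h6, pow_mul, hz7, one_pow]
      · intro h4
        have h5 : y = (z ^ i)⁻¹ := eq_inv_of_mul_eq_one_right h4
        have h6 : y ^ 7 = 1 := by
          rw [h5, inv_pow, ← pow_mul, mul_comm, pow_mul, hz7, one_pow, inv_one]
        have h7 := orderOf_dvd_of_pow_eq_one h6
        rw [hy] at h7
        omega
    obtain ⟨w, hw, hwo⟩ := exists_lift_three hL3 hord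
    refine ⟨w, hwo, ?_⟩
    rw [← QuotientGroup.eq]
    rw [hw]
    have h2 : ((Z ^ i * Y : G) : G ⧸ L) = (Z : G ⧸ L) ^ i * (Y : G ⧸ L) := rfl
    rw [h2, hZ, hY]
  have hZc := frob7_trivial hS hcomm hsq hL3 hZ7 hrel h3
  have hZL : Z ∉ L := by
    intro h1
    have h2 : (Z : G ⧸ L) = 1 := (QuotientGroup.eq_one_iff Z).mpr h1
    rw [hZ] at h2
    rw [h2, orderOf_one] at hz
    omega
  have key := eq_one_of_centralized hS hact (A := (L : Set G)) (fun _ h => h)
    (fun g a ha => hLn.conj_mem a ha g) (fun l hl a ha => hcomm l hl a ha) (s := Z)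
    (by
      intro a ha
      have h1 := hZc a ha
      calc Z * a = Z * a * Z⁻¹ * Z := by group
        _ = a * Z := by rw [h1])
    hZL
  rw [eq_bot_iff]
  intro a ha
  exact key a ha

/-- The statement of the theorem, given the simple case. -/
theorem reduction (core : SimpleCore.{u}) [Finite G] (X : Subgroup G) (hX : Nat.card X = 3)
    (hC : Subgroup.centralizer (X : Set G) = X) :
    (∃ (N : Subgroup G) (hN : N.Normal), Group.IsNilpotent N ∧ (Nat.card N).Coprime 3 ∧
        (Nat.card (G ⧸ N) = 3 ∨ Nonempty (G ⧸ N ≃* Equiv.Perm (Fin 3)))) ∨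
    (∃ (N : Subgroup G) (hN : N.Normal), IsMulCommutative N ∧ (∀ n ∈ N, n ^ 2 = 1) ∧
        Nonempty (G ⧸ N ≃* alternatingGroup (Fin 5))) ∨
    Nonempty (G ≃* Matrix.ProjectiveSpecialLinearGroup (Fin 2) (ZMod 7)) := by
  classical
  haveI : Fact (Nat.Prime 3) := ⟨by norm_num⟩
  have hS := sch_of_selfCentralizing X hX hC
  obtain ⟨x, hx⟩ : ∃ x : X, x ≠ 1 := by
    haveI : Nontrivial X := by
      rw [← Finite.one_lt_card_iff_nontrivial, hX]
      norm_num
    exact exists_ne 1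
  have hxo : orderOf (x : G) = 3 := by
    have h1 : x ^ 3 = 1 := by
      rw [← hX]
      exact pow_card_eq_one'
    rw [Subgroup.orderOf_coe]
    exact orderOf_eq_prime h1 hx
  set L := pPrimeCore 3 G with hLdef
  haveI hLn : L.Normal := pPrimeCore_normal 3 G
  have hLc : (Nat.card L).Coprime 3 := pPrimeCore_coprime 3
  have hL3 : ¬ 3 ∣ Nat.card L := by
    intro h
    have h3 := Nat.dvd_gcd h (dvd_refl 3)
    rw [Nat.Coprime.gcd_eq_one hLc] at h3
    omega
  have hmax : ∀ N : Subgroup G, N.Normal → ¬ 3 ∣ Nat.card N → N ≤ L := by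
    intro N hN hN3
    apply le_pPrimeCore hN
    exact ((Nat.Prime.coprime_iff_not_dvd (by norm_num : Nat.Prime 3)).mpr hN3).symm
  have hO := quotient_core_trivial hmax hL3
  have hSQ := sch_quotient hS hL3
  have hnil : Group.IsNilpotent L :=
    Act.isNilpotent hS (⟨hxo, fun e he => hLn.conj_mem e he _, hL3⟩ : Act L (x : G))
  have hxq : orderOf ((x : G) : G ⧸ L) = 3 := by
    apply orderOf_eq_prime
    · have h1 : (x : G) ^ 3 = 1 := by
        rw [← hxo]
        exact pow_orderOf_eq_one _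
      have h2 : ((x : G) : G ⧸ L) ^ 3 = (((x : G) ^ 3 : G) : G ⧸ L) := rfl
      rw [h2, h1]
      rfl
    · intro h1
      have hxL : (x : G) ∈ L := (QuotientGroup.eq_one_iff _).mp h1
      have h4 : orderOf (⟨x, hxL⟩ : L) ∣ Nat.card L := orderOf_dvd_natCard _
      rw [Subgroup.orderOf_mk, hxo] at h4
      exact hL3 h4
  by_cases hn : ∀ q : G ⧸ L, q * (x : G) * q⁻¹ = ((x : G) : G ⧸ L) ∨ q * (x : G) * q⁻¹ = ((x : G) : G ⧸ L)⁻¹
  · left
    refine ⟨L, hLn, hnil, hLc, ?_⟩
    rcases card_of_normal hSQ hxq hn with h3 | h6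
    · exact Or.inl h3
    · exact Or.inr (nonempty_equiv_perm h6 hO)
  · rcases normal_or_simple hSQ hO hxq with h1 | hsimple
    · exact absurd h1 hn
    · have hnc : ¬ ∀ a b : G ⧸ L, a * b = b * a := by
        intro hab
        apply hn
        intro q
        left
        rw [hab q]
        group
      obtain ⟨hcard, t, y, ht, hy, hty⟩ := core (G ⧸ L) hSQ ⟨_, hxq⟩ hnc
      obtain ⟨hcomm, hsq⟩ := elementary_of_simple_quotient hS hL3 ht hy hty
      rcases hcard with h60 | h168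
      · right
        left
        refine ⟨L, hLn, ?_, ?_, Cfsg.Agent.S0494.result h60⟩
        · refine IsMulCommutative.of_comm ?_ |> fun h => h
          intro a b
          exact Subtype.ext (hcomm a a.2 b b.2)
        · intro n hn
          rw [pow_two]
          exact hsq n hn
      · right
        right
        have hbot := trivial_of_card_quotient hS hL3 h168 hcomm hsq
        haveI : Fact (Nat.Prime 7) := ⟨by norm_num⟩
        obtain ⟨e⟩ := Cfsg.Agent.S0495.result h168 (F := ZMod 7) (ZMod.card 7)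
        have hbij : Function.Bijective (QuotientGroup.mk' L) := by
          refine ⟨?_, QuotientGroup.mk'_surjective L⟩
          rw [← MonoidHom.ker_eq_bot_iff, QuotientGroup.ker_mk']
          exact hbot
        exact ⟨(MulEquiv.ofBijective _ hbij).trans e⟩

end Cfsg.Agent.Lib.Blocks.SC3
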