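import Mathlib
import Cfsg.Prelude.Def_Blocks
import Cfsg.Agent.Lib.Blocks.PrincipalCen

/-!
# Orthogonality of generalized decomposition numbers (character form)

For a `p`-element `z`, `C = C_G(z)` and `y, y' ∈ C` both `p`-regular:

`∑_{ζ ∈ B} ζ (z y) * conj ζ (z y') = ∑_{ξ ∈ T} ξ y * conj ξ y'`,

where `T` is the set of characters of `C` in blocks inducing `B`.
-/

set_option autoImplicit false

namespace Cfsg.Agent.Lib.Blocks.SectionSum

open Cfsg Cfsg.Agent.Lib.Blocks.Local Cfsg.Agent.Lib.Blocks.Central Cfsg.Agent.Lib.Blocks.Osima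
  Cfsg.Agent.Lib.Blocks.Sections Cfsg.Agent.Lib.Blocks.Principal Cfsg.Agent.Lib.Blocks.Regular
  Cfsg.Agent.Lib.Blocks.SecondMain Cfsg.Agent.Lib.Blocks.PrincipalCen
open scoped ComplexConjugate

universe u

variable {G : Type u} [Group G] [Fintype G] {p : ℕ} [hp : Fact p.Prime] {M : Ideal AlgInt} [hMp : M.IsPrime]

set_option maxHeartbeats 1000000 in
open Classical in
/-- The main identity on the generalized decomposition numbers. -/
theorem sum_block_section (hM : IsPModular p M) {z : G} {k : ℕ} (hz : orderOf z = p ^ k) [Fintype (Cen z)]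
    (χ₀ : IrrCharacter G) (y y' : Cen z) (hy : ¬ p ∣ orderOf y) (hy' : ¬ p ∣ orderOf y') :
    ∑ ζ ∈ Finset.univ.filter (· ∈ blockOf M (χ₀ : G → ℂ)),
        (ζ : G → ℂ) (z * y) * conj ((ζ : G → ℂ) (z * y')) =
      ∑ ξ ∈ Finset.univ.filter (· ∈ inducers (Cen z) M (χ₀ : G → ℂ)),
        (ξ : Cen z → ℂ) y * conj ((ξ : Cen z → ℂ) y') := by
  set w : G := z * y' with hw
  -- The class function
  obtain ⟨ϑ, hϑdef⟩ : ∃ ϑ : G → ℂ, ϑ = ∑ ζ : IrrCharacter G, conj ((ζ : G → ℂ) w) • (ζ : G → ℂ) := ⟨_, rfl⟩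
  have hϑap : ∀ u, ϑ u = ∑ ζ : IrrCharacter G, (ζ : G → ℂ) u * conj ((ζ : G → ℂ) w) := by
    intro u
    simp only [hϑdef, Finset.sum_apply, Pi.smul_apply, smul_eq_mul]
    exact Finset.sum_congr rfl fun ζ _ => mul_comm _ _
  have hϑ : IsClassFunction G ϑ := by
    intro u c
    rw [hϑap, hϑap]
    exact Finset.sum_congr rfl fun ζ _ => by rw [isClassFunction_of_irr ζ.2]
  have hϑin : ∀ ζ : IrrCharacter G, classInner ϑ (ζ : G → ℂ) = conj ((ζ : G → ℂ) w) := fun ζ => by
    have h := Cfsg.Agent.Lib.Char.Ortho.classInner_sum_irr (fun ζ => conj ((ζ : G → ℂ) w)) ζ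
    rw [hϑdef]
    exact h
  have hval1 : ∀ u, IsConj u w → ϑ u = (Nat.card (Subgroup.centralizer ({w} : Set G)) : ℂ) := by
    intro u hu
    rw [hϑap, ← Cfsg.Agent.Lib.Char.CompleteCor.column_orth_conj (IsConj.refl w)]
    exact Finset.sum_congr rfl fun ζ _ => by
      rw [Cfsg.Agent.Lib.Char.CompleteCor.irr_apply_of_isConj hu]
  have hval0 : ∀ u, ¬ IsConj u w → ϑ u = 0 := by
    intro u hu
    rw [hϑap]
    exact Cfsg.Agent.Lib.Char.CompleteCor.column_orth_not_conj hu
  -- Left side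
  have hL := blockPart_section hM hz y hy χ₀ hϑ
  rw [blockPart_eq_sum, blockPart_eq_sum] at hL
  set T := inducers (Cen z) M (χ₀ : G → ℂ) with hT
  -- weak orthogonality on `H`
  set Q : Cen z → ℂ := fun t => ∑ ξ ∈ Finset.univ.filter (· ∈ T),
    (ξ : Cen z → ℂ) y * conj ((ξ : Cen z → ℂ) t) with hQ
  have hclosed : ∀ ξ ∈ T, blockOf M (ξ : Cen z → ℂ) ⊆ T := inducers_closed (Cen z) _
  have hloc := blockElt_mem_localCenter_of_closed hclosed
  have hQ0 : ∀ t : Cen z, p ∣ orderOf t → Q t = 0 := by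
    intro t ht
    have := Cfsg.Agent.Lib.Blocks.WeakOrth.sum_eq_zero_of_idempotent hM T (blockElt_mul_self T)
      (fun g => by simpa using hloc.2 g) y t hy ht
    rwa [Osima.finsum_mem_eq_sum_filter] at this
  have hQconj : ∀ t : Cen z, IsConj t y' → Q t = Q y' := by
    intro t ht
    simp only [hQ]
    exact Finset.sum_congr rfl fun ξ _ => by
      rw [Cfsg.Agent.Lib.Char.CompleteCor.irr_apply_of_isConj ht]
  have hR : ∑ ξ ∈ Finset.univ.filter (· ∈ T),
      classInner (fun c : Cen z => ϑ (z * c)) (ξ : Cen z → ℂ) * (ξ : Cen z → ℂ) y =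
      (Nat.card (Cen z) : ℂ)⁻¹ * ∑ t : Cen z, ϑ (z * t) * Q t := by
    simp only [classInner, hQ, Finset.mul_sum]
    simp only [Finset.sum_mul, Finset.mul_sum]
    rw [Finset.sum_comm]
    refine Finset.sum_congr rfl fun t _ => Finset.sum_congr rfl fun ξ _ => ?_
    ring
  have hterm : ∀ t : Cen z, ϑ (z * t) * Q t =
      if IsConj y' t then (Nat.card (Subgroup.centralizer ({w} : Set G)) : ℂ) * Q y' else 0 := by
    intro t
    split_ifs with h
    · rw [hval1 _ (isConj_mul_of_isConj h.symm), hQconj t h.symm]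
    · by_cases ht : p ∣ orderOf t
      · rw [hQ0 t ht, mul_zero]
      · rw [hval0 _ fun hc => h (isConj_of_isConj_mul hz ht hy' hc).symm, zero_mul]
  have hsum : ∑ t : Cen z, ϑ (z * t) * Q t =
      ((Subgroup.centralizer ({y'} : Set (Cen z))).index : ℂ) *
        ((Nat.card (Subgroup.centralizer ({w} : Set G)) : ℂ) * Q y') := by
    simp only [hterm]
    rw [Finset.sum_ite, Finset.sum_const_zero, add_zero, Finset.sum_const, nsmul_eq_mul,
      ← Cfsg.Agent.Lib.Char.Integrality.card_classFinset]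
    congr 2
    simp only [Cfsg.Agent.Lib.Char.Integrality.classFinset]
    congr!
  rw [hR, hsum] at hL
  -- cardinalities
  have hcardC : Nat.card (Subgroup.centralizer ({w} : Set G)) =
      Nat.card (Subgroup.centralizer ({y'} : Set (Cen z))) := card_centralizer_mul hz y' hy'
  have hidx : ((Subgroup.centralizer ({y'} : Set (Cen z))).index : ℂ) *
      (Nat.card (Subgroup.centralizer ({y'} : Set (Cen z))) : ℂ) = (Nat.card (Cen z) : ℂ) := by
    have := Subgroup.card_mul_index (Subgroup.centralizer ({y'} : Set (Cen z)))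
    rw [← this]
    push_cast
    ring
  have hne : (Nat.card (Cen z) : ℂ) ≠ 0 := Nat.cast_ne_zero.mpr Nat.card_pos.ne'
  have hfin : (Nat.card (Cen z) : ℂ)⁻¹ * (((Subgroup.centralizer ({y'} : Set (Cen z))).index : ℂ) *
      ((Nat.card (Subgroup.centralizer ({w} : Set G)) : ℂ) * Q y')) = Q y' := by
    rw [hcardC, ← mul_assoc, ← mul_assoc, mul_assoc _ ((Subgroup.centralizer ({y'} : Set (Cen z))).index : ℂ), hidx,
      inv_mul_cancel₀ hne, one_mul]
  rw [hfin] at hL
  simp only [hϑin] at hL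
  refine Eq.trans ?_ hL
  exact Finset.sum_congr rfl fun ζ _ => mul_comm _ _

end Cfsg.Agent.Lib.Blocks.SectionSum
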