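/-
Semidihedral defect groups: Fourier analysis on the cyclic part, abstractly.
-/
import Mathlib
import Cfsg.Agent.Lib.Blocks.Quat4
import Cfsg.Agent.Lib.Blocks.Semi1

set_option autoImplicit false
set_option linter.style.haveILetI false

namespace Cfsg.Agent.Lib.Blocks.Semi

open Cfsg.Agent.Lib.Blocks.DihS Cfsg.Agent.Lib.Blocks.Quat
open scoped ComplexConjugate

/-- The data of the columns on the rotations. -/
structure FS {ι : Type*} (S : Finset ι) (F : ι → ℕ → ℂ) (k : ℕ) (ζ : ℂ) : Prop where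
  hk : 3 ≤ k
  hζ : IsPrimitiveRoot ζ (2 ^ k)
  hsg : ∀ (l : ℕ) (i : ι), F i (sg (2 ^ (k - 1)) l) = F i l
  ortho : ∀ {l l' : ℕ}, 0 < l → l < 2 ^ k → l ≠ 2 ^ (k - 1) → 0 < l' → l' < 2 ^ k → l' ≠ 2 ^ (k - 1) →
    ∑ i ∈ S, F i l' * conj (F i l) =
      ((2 ^ k : ℕ) : ℂ) * ((if l' = l then 1 else 0) + (if l' = sg (2 ^ (k - 1)) l then 1 else 0))

/-- The Gram entries. -/
noncomputable def RS (M N a b : ℕ) : ℂ := dv M (a + (M - b)) + dv M (a * (N - 1) + (M - b))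

/-- The exponents used below. -/
def Lab (N a : ℕ) : Prop := (a % 2 = 0 ∧ a ≤ N) ∨ (a % 4 = 1 ∧ a < 2 * N)

lemma RS_val {N a b : ℕ} (hN : ∃ c, N = 4 * (c + 1)) (ha : Lab N a) (hb : Lab N b) :
    RS (2 * N) N a b = (RRv N a b : ℂ) := by
  obtain ⟨c, hc⟩ := hN
  have hpos : 0 < N := by omega
  have hb' : b < 2 * N := by
    rcases hb with hb | hb <;> omega
  have ha' : a < 2 * N := by
    rcases ha with ha | ha <;> omega
  have h2 : 2 * N ∣ a + (2 * N - b) ↔ a = b := by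
    constructor
    · rintro ⟨q, hq⟩
      rcases q with _ | _ | q
      · omega
      · omega
      · exfalso
        have : 2 * N * (q + 1 + 1) = 2 * N * q + 4 * N := by ring
        rw [this] at hq
        have : 0 ≤ 2 * N * q := Nat.zero_le _
        omega
    · rintro rfl
      exact ⟨1, by omega⟩
  have h3 : 2 * N ∣ a * (N - 1) + (2 * N - b) ↔ (a = 0 ∧ b = 0) ∨ (a = N ∧ b = N) := by
    have hz : ((a * (N - 1) + (2 * N - b) : ℕ) : ℤ) = a * N - a + 2 * N - b := by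
      have e1 : ((N - 1 : ℕ) : ℤ) = N - 1 := by
        rw [Nat.cast_sub (by omega)]
        simp
      have e2 : ((2 * N - b : ℕ) : ℤ) = 2 * N - b := by
        rw [Nat.cast_sub (by omega)]
        simp
      push_cast
      rw [e1, e2]
      ring
    constructor
    · rw [← Int.natCast_dvd_natCast, hz]
      rintro ⟨q, hq⟩
      push_cast at hq
      rcases ha with ⟨ha1, ha2⟩ | ⟨ha1, ha2⟩
      · obtain ⟨s, rfl⟩ : ∃ s, a = 2 * s := ⟨a / 2, by omega⟩
        have h5 : ((2 * s + b : ℕ) : ℤ) = 2 * N * ((s : ℤ) + 1 - q) := by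
          push_cast at hq ⊢
          linear_combination - hq
        set q' : ℤ := (s : ℤ) + 1 - q with hq'
        have hlo : 0 ≤ q' := by
          by_contra hn
          have : q' ≤ -1 := by omega
          have hN0 : (0 : ℤ) < N := by exact_mod_cast hpos
          have : 2 * (N : ℤ) * q' < 0 := by nlinarith
          have h6 : (0 : ℤ) ≤ ((2 * s + b : ℕ) : ℤ) := by positivity
          omega
        have hhi : q' < 2 := by
          by_contra hn
          have : 2 ≤ q' := by omega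
          have hN0 : (0 : ℤ) < N := by exact_mod_cast hpos
          have h7 : 4 * (N : ℤ) ≤ 2 * (N : ℤ) * q' := by nlinarith
          have h8 : ((2 * s + b : ℕ) : ℤ) < 4 * N := by
            have : 2 * s + b < 4 * N := by omega
            exact_mod_cast this
          omega
        obtain hq0 | hq1 : q' = 0 ∨ q' = 1 := by omega
        · rw [hq0] at h5
          left
          have : 2 * s + b = 0 := by
            have : ((2 * s + b : ℕ) : ℤ) = 0 := by rw [h5]; ring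
            exact_mod_cast this
          omega
        · rw [hq1] at h5
          right
          have : 2 * s + b = 2 * N := by
            have : ((2 * s + b : ℕ) : ℤ) = ((2 * N : ℕ) : ℤ) := by rw [h5]; push_cast; ring
            exact_mod_cast this
          rcases hb with hb | hb <;> omega
      · exfalso
        have h4 : (4 : ℤ) ∣ (a : ℤ) + b := by
          have e : (a : ℤ) + b = 4 * (((a : ℤ) * ((c : ℤ) + 1)) + 2 * ((c : ℤ) + 1) - 2 * ((c : ℤ) + 1) * q) := by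
            have hNc : (N : ℤ) = 4 * ((c : ℤ) + 1) := by rw [hc]; push_cast; ring
            rw [hNc] at hq
            linear_combination (-1 : ℤ) * hq
          exact ⟨_, e⟩
        have h5 : 4 ∣ a + b := by exact_mod_cast h4
        rcases hb with hb | hb <;> omega
    · rintro (⟨h1, h1'⟩ | ⟨h1, h1'⟩)
      · rw [h1, h1']
        simp
      · refine ⟨2 * (c + 1), ?_⟩
        have e1 : 2 * N - N = N := by omega
        rw [h1, h1', e1, hc]
        have e2 : 4 * (c + 1) - 1 = 4 * c + 3 := by omega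
        rw [e2]
        ring
  unfold RS RRv dv
  simp only [h2, h3]
  push_cast
  split_ifs <;> simp

namespace FS

variable {ι : Type*} {S : Finset ι} {F : ι → ℕ → ℂ} {k : ℕ} {ζ : ℂ} (h : FS S F k ζ)
include h

theorem two_mul_half : 2 ^ k = 2 * 2 ^ (k - 1) := by
  have := h.hk
  rw [← pow_succ']
  congr 1
  omega

/-- The cyclic part behind the data: a model for the exponents. -/
theorem half_four : ∃ c : ℕ, 2 ^ (k - 1) = 4 * (c + 1) := by
  have hk := h.hk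
  have h1 : 1 ≤ 2 ^ (k - 3) := Nat.one_le_two_pow
  refine ⟨2 ^ (k - 3) - 1, ?_⟩
  have e : k - 1 = (k - 3) + 2 := by omega
  rw [e, pow_add]
  omega

theorem sg_lt' (l : ℕ) : sg (2 ^ (k - 1)) l < 2 ^ k := by
  rw [h.two_mul_half]
  exact Nat.mod_lt _ (by positivity)

theorem sq_pred : ∃ c : ℕ, (2 ^ (k - 1) - 1) * (2 ^ (k - 1) - 1) = 2 ^ k * c + 1 := by
  obtain ⟨c, hc⟩ := h.half_four
  rw [h.two_mul_half, hc]
  refine ⟨2 * c + 1, ?_⟩
  have e1 : 4 * (c + 1) - 1 = 4 * c + 3 := by omega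
  rw [e1]
  ring

theorem pow_sg (a l : ℕ) : ζ ^ (a * sg (2 ^ (k - 1)) l) = ζ ^ (a * (2 ^ (k - 1) - 1) * l) := by
  have hz := h.hζ
  have hp : 0 < 2 ^ k := by positivity
  have h1 : ζ ^ sg (2 ^ (k - 1)) l = ζ ^ (l * (2 ^ (k - 1) - 1)) := by
    unfold sg
    rw [← h.two_mul_half, ← Nat.mod_add_div (l * (2 ^ (k - 1) - 1)) (2 ^ k)]
    rw [Nat.add_mul_mod_self_left, Nat.mod_mod, pow_add, pow_mul, hz.pow_eq_one, one_pow, mul_one]
  rw [mul_comm a, pow_mul, h1, ← pow_mul]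
  congr 1
  ring

theorem sg_sg' {l : ℕ} (hl : l < 2 ^ k) : sg (2 ^ (k - 1)) (sg (2 ^ (k - 1)) l) = l := by
  have hz := h.hζ
  have hp : 0 < 2 ^ k := by positivity
  apply Nat.ModEq.eq_of_lt_of_lt _ (h.sg_lt' _) hl
  obtain ⟨c, hc⟩ := h.sq_pred
  have h2 := h.two_mul_half
  unfold sg
  rw [← h2]
  show _ % _ = _ % _
  rw [Nat.mod_mod_of_dvd _ (dvd_refl _)]
  rw [Nat.mod_mul_mod, mul_assoc, hc, mul_add, mul_one, ← mul_assoc, mul_comm l, mul_assoc, Nat.add_comm,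
    Nat.add_mul_mod_self_left]

/-- The weighted sum over the exponents. -/
theorem sum_g (g : ℕ → ℂ) (hg : g 0 = 0) (hgN : g (2 ^ (k - 1)) = 0) {l : ℕ} (h0 : 0 < l) (hl : l < 2 ^ k)
    (he : l ≠ 2 ^ (k - 1)) :
    ∑ l' ∈ Finset.range (2 ^ k), g l' * ∑ i ∈ S, F i l' * conj (F i l) =
      ((2 ^ k : ℕ) : ℂ) * (g l + g (sg (2 ^ (k - 1)) l)) := by
  have h1 : ∀ l' ∈ Finset.range (2 ^ k), g l' * ∑ i ∈ S, F i l' * conj (F i l) =
      ((2 ^ k : ℕ) : ℂ) * (g l' * (if l' = l then 1 else 0) + g l' * (if l' = sg (2 ^ (k - 1)) l then 1 else 0)) := by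
    intro l' hl'
    rcases Nat.eq_zero_or_pos l' with rfl | hp
    · rw [hg]
      simp
    · by_cases e' : l' = 2 ^ (k - 1)
      · rw [e', hgN]
        simp
      · rw [h.ortho h0 hl he hp (Finset.mem_range.mp hl') e']
        ring
  rw [Finset.sum_congr rfl h1, ← Finset.mul_sum, Finset.sum_add_distrib]
  congr 2
  · simp only [mul_ite, mul_one, mul_zero]
    rw [Finset.sum_ite_eq' (Finset.range (2 ^ k)) l g, if_pos (Finset.mem_range.mpr hl)]
  · simp only [mul_ite, mul_one, mul_zero]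
    rw [Finset.sum_ite_eq' (Finset.range (2 ^ k)) (sg (2 ^ (k - 1)) l) g, if_pos (Finset.mem_range.mpr (h.sg_lt' l))]

/-- The inner products of weighted sums. -/
theorem sum_gg (g g' : ℕ → ℂ) (hg : g 0 = 0) (hgN : g (2 ^ (k - 1)) = 0) (hg' : g' 0 = 0)
    (hgN' : g' (2 ^ (k - 1)) = 0) :
    ∑ i ∈ S, (((2 ^ k : ℕ) : ℂ)⁻¹ * ∑ l' ∈ Finset.range (2 ^ k), g l' * F i l') *
        conj (((2 ^ k : ℕ) : ℂ)⁻¹ * ∑ l ∈ Finset.range (2 ^ k), g' l * F i l) =
      ((2 ^ k : ℕ) : ℂ)⁻¹ * ∑ l ∈ Finset.range (2 ^ k), conj (g' l) * (g l + g (sg (2 ^ (k - 1)) l)) := by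
  have hne := two_pow_ne_zero k
  have hsum := @h.sum_g
  have hsg := h.sg_lt'
  set N := 2 ^ k with hN
  have hNpos : 0 < N := by positivity
  have h1 : ∀ i, ((N : ℕ) : ℂ)⁻¹ * (∑ l' ∈ Finset.range N, g l' * F i l') *
      conj (((N : ℕ) : ℂ)⁻¹ * ∑ l ∈ Finset.range N, g' l * F i l) =
      ((N : ℕ) : ℂ)⁻¹ * ((N : ℕ) : ℂ)⁻¹ * ∑ l ∈ Finset.range N, conj (g' l) *
        ∑ l' ∈ Finset.range N, g l' * (F i l' * conj (F i l)) := by
    intro i
    rw [map_mul, map_inv₀, Complex.conj_natCast, map_sum, mul_mul_mul_comm, Finset.sum_mul_sum]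
    congr 1
    rw [Finset.sum_comm]
    refine Finset.sum_congr rfl fun l _ => ?_
    rw [Finset.mul_sum]
    refine Finset.sum_congr rfl fun l' _ => ?_
    rw [map_mul]
    ring
  simp only [h1]
  rw [← Finset.mul_sum, Finset.sum_comm]
  simp only [← Finset.mul_sum]
  have h2 : ∀ l ∈ Finset.range N, conj (g' l) * ∑ i ∈ S, ∑ l' ∈ Finset.range N, g l' * (F i l' * conj (F i l)) =
      ((N : ℕ) : ℂ) * (conj (g' l) * (g l + g (sg (2 ^ (k - 1)) l))) := by
    intro l hl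
    rcases Nat.eq_zero_or_pos l with rfl | hp
    · simp [hg']
    · by_cases e : l = 2 ^ (k - 1)
      · rw [e, hgN']
        simp
      · rw [Finset.sum_comm]
        simp only [← Finset.mul_sum]
        rw [hsum g hg hgN hp (Finset.mem_range.mp hl) e]
        ring
  rw [Finset.sum_congr rfl h2, ← Finset.mul_sum, ← mul_assoc, mul_assoc _ _ ((N : ℕ) : ℂ),
    inv_mul_cancel₀ hne, mul_one]

omit h in
lemma conj_root {M : ℕ} (hM : 0 < M) (hz : IsPrimitiveRoot ζ M) {a : ℕ} (ha : a ≤ M) (l : ℕ) :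
    conj (ζ ^ (a * l)) = ζ ^ ((M - a) * l) := by
  have h1 : ‖ζ‖ = 1 := hz.norm'_eq_one hM.ne'
  have h2 : conj ζ = ζ⁻¹ := (Complex.inv_eq_conj h1).symm
  have h0 : ζ ≠ 0 := hz.ne_zero hM.ne'
  rw [map_pow, h2, inv_pow]
  apply inv_eq_of_mul_eq_one_left
  rw [← pow_add, ← add_mul, Nat.sub_add_cancel ha, pow_mul, hz.pow_eq_one, one_pow]

/-- **The Gram matrix.** -/
theorem gram {κ₁ κ₂ κ₃ κ₄ : ℕ} (h3 : κ₃ ≤ 2 ^ k) (h4 : κ₄ ≤ 2 ^ k)
    (h12 : ζ ^ (κ₁ * 2 ^ (k - 1)) = ζ ^ (κ₂ * 2 ^ (k - 1))) (h34 : ζ ^ (κ₃ * 2 ^ (k - 1)) = ζ ^ (κ₄ * 2 ^ (k - 1))) :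
    ∑ i ∈ S, (qc F ζ (2 ^ k) κ₁ i - qc F ζ (2 ^ k) κ₂ i) * conj (qc F ζ (2 ^ k) κ₃ i - qc F ζ (2 ^ k) κ₄ i) =
      RS (2 ^ k) (2 ^ (k - 1)) κ₁ κ₃ - RS (2 ^ k) (2 ^ (k - 1)) κ₁ κ₄ - RS (2 ^ k) (2 ^ (k - 1)) κ₂ κ₃
        + RS (2 ^ k) (2 ^ (k - 1)) κ₂ κ₄ := by
  simp only [FQ.qc_sub]
  rw [h.sum_gg (fun l => ζ ^ (κ₁ * l) - ζ ^ (κ₂ * l)) (fun l => ζ ^ (κ₃ * l) - ζ ^ (κ₄ * l)) (by simp) (by simp [h12])
    (by simp) (by simp [h34])]
  have hne := two_pow_ne_zero k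
  have hζ := h.hζ
  have hps := h.pow_sg
  set H := 2 ^ (k - 1) with hH
  set N := 2 ^ k with hN
  have hNpos : 0 < N := by positivity
  have hexp : ∀ l ∈ Finset.range N, conj (ζ ^ (κ₃ * l) - ζ ^ (κ₄ * l)) *
      ((ζ ^ (κ₁ * l) - ζ ^ (κ₂ * l)) + (ζ ^ (κ₁ * sg H l) - ζ ^ (κ₂ * sg H l))) =
      ζ ^ ((κ₁ + (N - κ₃)) * l) - ζ ^ ((κ₁ + (N - κ₄)) * l) + ζ ^ ((κ₁ * (H - 1) + (N - κ₃)) * l) - ζ ^ ((κ₁ * (H - 1) + (N - κ₄)) * l)
      - ζ ^ ((κ₂ + (N - κ₃)) * l) + ζ ^ ((κ₂ + (N - κ₄)) * l) - ζ ^ ((κ₂ * (H - 1) + (N - κ₃)) * l) + ζ ^ ((κ₂ * (H - 1) + (N - κ₄)) * l) := by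
    intro l hl
    rw [map_sub, conj_root hNpos hζ h3, conj_root hNpos hζ h4, hps, hps]
    simp only [add_mul, pow_add]
    ring
  rw [Finset.sum_congr rfl hexp]
  simp only [Finset.sum_add_distrib, Finset.sum_sub_distrib, geom_mul hζ]
  have hif : ∀ t : ℕ, (if N ∣ t then (N : ℂ) else 0) = (N : ℂ) * dv N t := by
    intro t
    unfold dv
    split_ifs <;> simp
  simp only [hif, RS]
  field_simp
  ring

/-- Fourier inversion. -/
theorem inv_eq {l : ℕ} (h0 : 0 < l) (hl : l < 2 ^ k) (i : ι) :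
    F i (2 ^ k - l) = ∑ κ ∈ Finset.range (2 ^ k), ζ ^ (κ * l) * qc F ζ (2 ^ k) κ i := by
  have hne := two_pow_ne_zero k
  have hζ := h.hζ
  set N := 2 ^ k with hN
  unfold qc
  have h1 : ∀ κ, ζ ^ (κ * l) * (((N : ℕ) : ℂ)⁻¹ * ∑ l' ∈ Finset.range N, ζ ^ (κ * l') * F i l') =
      ((N : ℕ) : ℂ)⁻¹ * ∑ l' ∈ Finset.range N, ζ ^ ((l + l') * κ) * F i l' := by
    intro κ
    rw [mul_left_comm, Finset.mul_sum]
    congr 1
    refine Finset.sum_congr rfl fun l' _ => ?_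
    rw [add_mul, pow_add, mul_comm l κ, mul_comm l' κ]
    ring
  simp only [h1]
  rw [← Finset.mul_sum, Finset.sum_comm]
  simp only [← Finset.sum_mul]
  have h2 : ∀ l' ∈ Finset.range N, (∑ κ ∈ Finset.range N, ζ ^ ((l + l') * κ)) * F i l' =
      if l' = N - l then ((N : ℕ) : ℂ) * F i (N - l) else 0 := by
    intro l' hl'
    have hl'' := Finset.mem_range.mp hl'
    rw [geom_mul hζ]
    by_cases e : l' = N - l
    · rw [if_pos e, if_pos (by rw [e, Nat.add_sub_cancel' hl.le]), e]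
    · rw [if_neg e, if_neg, zero_mul]
      intro hd
      obtain ⟨c, hc⟩ := hd
      have hc1 : c = 1 := by
        rcases c with _ | _ | c
        · omega
        · rfl
        · exfalso
          have : N * (c + 1 + 1) = N * c + 2 * N := by ring
          rw [this] at hc
          have : 0 ≤ N * c := Nat.zero_le _
          omega
      rw [hc1] at hc
      omega
  rw [Finset.sum_congr rfl h2, Finset.sum_ite_eq' (Finset.range N) (N - l), if_pos (Finset.mem_range.mpr (by omega)),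
    ← mul_assoc, inv_mul_cancel₀ hne, one_mul]

/-- Symmetry of the multiplicities. -/
theorem qc_sym {κ κ' : ℕ} (e : ζ ^ κ' * ζ ^ κ = ζ ^ (κ * 2 ^ (k - 1))) (i : ι) :
    qc F ζ (2 ^ k) κ' i = qc F ζ (2 ^ k) κ i := by
  unfold qc
  congr 1
  have hζ := h.hζ
  have hNpos : 0 < 2 ^ k := by positivity
  have h0 : ζ ≠ 0 := hζ.ne_zero hNpos.ne'
  have hk1 : ζ ^ (κ * (2 ^ (k - 1) - 1)) * ζ ^ κ = ζ ^ (κ * 2 ^ (k - 1)) := by
    rw [← pow_add]
    congr 1
    have : 0 < 2 ^ (k - 1) := by positivity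
    obtain ⟨c, hc⟩ : ∃ c, 2 ^ (k - 1) = c + 1 := ⟨2 ^ (k - 1) - 1, by omega⟩
    rw [hc]
    simp only [Nat.add_sub_cancel]
    ring
  have hk2 : ζ ^ κ' = ζ ^ (κ * (2 ^ (k - 1) - 1)) :=
    mul_right_cancel₀ (pow_ne_zero _ h0) (e.trans hk1.symm)
  refine Finset.sum_nbij' (sg (2 ^ (k - 1))) (sg (2 ^ (k - 1))) ?_ ?_ ?_ ?_ ?_
  · intro l _
    exact Finset.mem_range.mpr (h.sg_lt' l)
  · intro l _
    exact Finset.mem_range.mpr (h.sg_lt' l)
  · intro l hl
    exact h.sg_sg' (Finset.mem_range.mp hl)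
  · intro l hl
    exact h.sg_sg' (Finset.mem_range.mp hl)
  · intro l hl
    rw [h.hsg, h.pow_sg, ← mul_comm l, pow_mul]
    congr 1
    rw [← pow_mul, mul_comm l, pow_mul, hk2, ← pow_mul]

/-- The column at the central involution. -/
theorem value_half (i : ι) :
    F i (2 ^ (k - 1)) = ∑ κ ∈ Finset.range (2 ^ k), (-1) ^ κ * qc F ζ (2 ^ k) κ i := by
  have hmul := h.two_mul_half
  have hpos : 0 < 2 ^ (k - 1) := by positivity
  have h1 := h.inv_eq hpos (by omega) i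
  rw [show 2 ^ k - 2 ^ (k - 1) = 2 ^ (k - 1) by omega] at h1
  rw [h1]
  refine Finset.sum_congr rfl fun κ _ => ?_
  rw [mul_comm κ, pow_mul, pow_half (by have := h.hk; omega) h.hζ]

/-- The value at a rotation when the multiplicities only depend on the parity. -/
theorem value_const {l : ℕ} (h0 : 0 < l) (hl : l < 2 ^ k) (he : l ≠ 2 ^ (k - 1)) (i : ι) {E O : ℂ}
    (hc : ∀ κ ∈ Finset.range (2 ^ (k - 1)), qc F ζ (2 ^ k) (2 * κ) i = E ∧ qc F ζ (2 ^ k) (2 * κ + 1) i = O) :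
    F i (2 ^ k - l) = 0 := by
  have hmul := h.two_mul_half
  have hζ := h.hζ
  rw [h.inv_eq h0 hl i]
  have hsplit : ∀ (m : ℕ) (f : ℕ → ℂ), ∑ κ ∈ Finset.range (2 * m), f κ =
      ∑ κ ∈ Finset.range m, (f (2 * κ) + f (2 * κ + 1)) := by
    intro m f
    induction m with
    | zero => simp
    | succ m ih =>
      rw [show 2 * (m + 1) = 2 * m + 1 + 1 by ring, Finset.sum_range_succ, Finset.sum_range_succ, ih,
        Finset.sum_range_succ, add_assoc]
  rw [hmul, hsplit]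
  have h1 : ∀ κ ∈ Finset.range (2 ^ (k - 1)), ζ ^ (2 * κ * l) * qc F ζ (2 * 2 ^ (k - 1)) (2 * κ) i +
      ζ ^ ((2 * κ + 1) * l) * qc F ζ (2 * 2 ^ (k - 1)) (2 * κ + 1) i =
      (E + ζ ^ l * O) * (ζ ^ (2 * l)) ^ κ := by
    intro κ hκ
    obtain ⟨e1, e2⟩ := hc κ hκ
    rw [hmul] at e1 e2
    rw [e1, e2, add_mul, one_mul, pow_add]
    have e3 : ζ ^ (2 * κ * l) = (ζ ^ (2 * l)) ^ κ := by
      rw [← pow_mul]
      congr 1
      ring
    rw [e3]
    ring
  rw [Finset.sum_congr rfl h1, ← Finset.mul_sum]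
  apply mul_eq_zero_of_right
  have hne : ζ ^ (2 * l) ≠ 1 := by
    intro h2
    have h3 := (hζ.pow_eq_one_iff_dvd _).mp h2
    rw [hmul] at h3
    have h4 : 2 ^ (k - 1) ∣ l := Nat.dvd_of_mul_dvd_mul_left (by norm_num) h3
    obtain ⟨c, rfl⟩ := h4
    have hc' : c = 1 := by
      rcases c with _ | _ | c
      · omega
      · rfl
      · exfalso
        have : 2 ^ (k - 1) * (c + 1 + 1) = 2 ^ (k - 1) * c + 2 * 2 ^ (k - 1) := by ring
        rw [this] at hl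
        have : 0 ≤ 2 ^ (k - 1) * c := Nat.zero_le _
        omega
    apply he
    rw [hc', mul_one]
  have h5 : (ζ ^ (2 * l) - 1) * ∑ κ ∈ Finset.range (2 ^ (k - 1)), (ζ ^ (2 * l)) ^ κ = (ζ ^ (2 * l)) ^ (2 ^ (k - 1)) - 1 :=
    mul_geom_sum _ _
  have h6 : (ζ ^ (2 * l)) ^ (2 ^ (k - 1)) = 1 := by
    rw [← pow_mul, show 2 * l * 2 ^ (k - 1) = 2 * 2 ^ (k - 1) * l by ring, ← hmul, pow_mul, hζ.pow_eq_one, one_pow]
  rw [h6, sub_self] at h5
  exact (mul_eq_zero.mp h5).resolve_left (sub_ne_zero.mpr hne)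

/-- Characters with `z` acting as a sign have multiplicities of one parity only. -/
theorem qc_even_zero {i : ι} (hF : ∀ l < 2 ^ (k - 1), F i (2 ^ (k - 1) + l) = - F i l) (κ : ℕ) :
    qc F ζ (2 ^ k) (2 * κ) i = 0 := by
  have hmul := h.two_mul_half
  have hζ := h.hζ
  have hh := pow_half (by have := h.hk; omega) hζ
  unfold qc
  apply mul_eq_zero_of_right
  rw [hmul, two_mul (2 ^ (k - 1)), Finset.sum_range_add, ← Finset.sum_add_distrib]
  refine Finset.sum_eq_zero fun l hl => ?_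
  rw [hF l (Finset.mem_range.mp hl), mul_add, pow_add]
  have h1 : ζ ^ (2 * κ * 2 ^ (k - 1)) = 1 := by
    rw [show 2 * κ * 2 ^ (k - 1) = 2 * 2 ^ (k - 1) * κ by ring, ← hmul, pow_mul, hζ.pow_eq_one, one_pow]
  rw [h1]
  ring

/-- Characters with `z` in the kernel have multiplicities of even exponent only. -/
theorem qc_odd_zero {i : ι} (hF : ∀ l < 2 ^ (k - 1), F i (2 ^ (k - 1) + l) = F i l) (κ : ℕ) :
    qc F ζ (2 ^ k) (2 * κ + 1) i = 0 := by
  have hmul := h.two_mul_half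
  have hζ := h.hζ
  have hh := pow_half (by have := h.hk; omega) hζ
  unfold qc
  apply mul_eq_zero_of_right
  rw [hmul, two_mul (2 ^ (k - 1)), Finset.sum_range_add, ← Finset.sum_add_distrib]
  refine Finset.sum_eq_zero fun l hl => ?_
  rw [hF l (Finset.mem_range.mp hl), mul_add, pow_add]
  have h1 : ζ ^ ((2 * κ + 1) * 2 ^ (k - 1)) = -1 := by
    rw [show (2 * κ + 1) * 2 ^ (k - 1) = 2 * 2 ^ (k - 1) * κ + 2 ^ (k - 1) by ring, pow_add, ← hmul, pow_mul,
      hζ.pow_eq_one, one_pow, one_mul, hh]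
  rw [h1]
  ring

end FS

end Cfsg.Agent.Lib.Blocks.Semi
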