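/-
Semidihedral defect groups: the integer vectors attached to the columns on the rotations.
-/
import Mathlib
import Cfsg.Agent.Lib.Blocks.Semi3

set_option autoImplicit false
set_option linter.style.haveILetI false

namespace Cfsg.Agent.Lib.Blocks.Semi

open Cfsg.Agent.Lib.Blocks.DihS Cfsg.Agent.Lib.Blocks.Quat
open scoped ComplexConjugate

section Abstract

/-- The alternating sum under the symmetries of the multiplicities. -/
lemma sum_alt_sd {c : ℕ → ℂ} {J : ℕ} (hJ2 : 2 ∣ J + 1)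
    (he : ∀ s ≤ 2 * (J + 1), c (2 * (2 * (J + 1) - s)) = c (2 * s))
    (ho : ∀ a b : ℕ, a % 2 = 1 → b % 2 = 1 → (a + b = 2 * (J + 1) ∨ a + b = 3 * (2 * (J + 1))) → c a = c b) :
    ∑ κ ∈ Finset.range (2 * (2 * (J + 1))), (-1) ^ κ * c κ =
      c 0 + c (2 * (J + 1)) + 2 * (∑ j ∈ Finset.range J, c (2 * (j + 1))) - 2 * ∑ i ∈ Finset.range (J + 1), c (4 * i + 1) := by
  have hsplit : ∀ (m : ℕ) (f : ℕ → ℂ), ∑ κ ∈ Finset.range (2 * m), f κ =
      ∑ κ ∈ Finset.range m, (f (2 * κ) + f (2 * κ + 1)) := by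
    intro m f
    induction m with
    | zero => simp
    | succ m ih =>
      rw [show 2 * (m + 1) = 2 * m + 1 + 1 by ring, Finset.sum_range_succ, Finset.sum_range_succ, ih,
        Finset.sum_range_succ, add_assoc]
  rw [hsplit]
  have h1 : ∀ κ ∈ Finset.range (2 * (J + 1)), (-1 : ℂ) ^ (2 * κ) * c (2 * κ) + (-1) ^ (2 * κ + 1) * c (2 * κ + 1) =
      c (2 * κ) - c (2 * κ + 1) := by
    intro κ _
    rw [pow_succ, pow_mul]
    norm_num
    ring
  rw [Finset.sum_congr rfl h1, Finset.sum_sub_distrib]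
  have h2 := sum_split_range J (fun s => c (2 * s))
  have h3 : ∀ i ∈ Finset.range J, c (2 * (i + 1)) + c (2 * (2 * (J + 1) - (i + 1))) = 2 * c (2 * (i + 1)) := by
    intro i hi
    have hi' := Finset.mem_range.mp hi
    rw [he (i + 1) (by omega)]
    ring
  rw [h2, Finset.sum_congr rfl h3, ← Finset.mul_sum]
  have h4 : ∑ κ ∈ Finset.range (2 * (J + 1)), c (2 * κ + 1) = ∑ i ∈ Finset.range (J + 1), (c (4 * i + 1) + c (4 * i + 3)) := by
    rw [hsplit (J + 1) (fun κ => c (2 * κ + 1))]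
    refine Finset.sum_congr rfl fun i _ => ?_
    rw [show 2 * (2 * i) + 1 = 4 * i + 1 by ring, show 2 * (2 * i + 1) + 1 = 4 * i + 3 by ring]
  rw [h4, Finset.sum_add_distrib]
  obtain ⟨h', hh'⟩ := hJ2
  have h5 : ∑ i ∈ Finset.range (J + 1), c (4 * i + 3) = ∑ i ∈ Finset.range (J + 1), c (4 * i + 1) := by
    refine Finset.sum_nbij' (fun i => if i < h' then h' - 1 - i else 3 * h' - 1 - i)
      (fun i => if i < h' then h' - 1 - i else 3 * h' - 1 - i) ?_ ?_ ?_ ?_ ?_
    · intro i hi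
      have hi' := Finset.mem_range.mp hi
      rw [Finset.mem_range]
      split_ifs <;> omega
    · intro i hi
      have hi' := Finset.mem_range.mp hi
      rw [Finset.mem_range]
      split_ifs <;> omega
    · intro i hi
      have hi' := Finset.mem_range.mp hi
      split_ifs <;> omega
    · intro i hi
      have hi' := Finset.mem_range.mp hi
      split_ifs <;> omega
    · intro i hi
      have hi' := Finset.mem_range.mp hi
      apply ho _ _ (by omega)
      · split_ifs <;> omega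
      · split_ifs <;> omega
  rw [h5]
  ring

variable {ι : Type*} {S : Finset ι} {F : ι → ℕ → ℂ} {k : ℕ} {ζ : ℂ}

/-- **The integers attached to the columns.** -/
theorem FS.exists_ints (h : FS S F k ζ) {J N : ℕ} (hN : 2 ^ (k - 1) = N) (hJ : N = 2 * (J + 1))
    (hnat : ∀ κ i, ∃ n : ℕ, qc F ζ (2 ^ k) κ i = n) :
    ∃ (n m : ι → ℕ → ℤ) (v e : ι → ℤ),
      (∀ s < J, ∀ t < J, ∑ i ∈ S, n i s * n i t = if s = t then 3 else 2) ∧
      (∀ s < J, ∀ t < J, ∑ i ∈ S, m i s * m i t = if s = t then 2 else 1) ∧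
      (∀ t < J, ∑ i ∈ S, v i * n i t = 2) ∧
      (∑ i ∈ S, v i * v i = 4) ∧
      (∀ s < J, ∀ t < J, ∑ i ∈ S, n i s * m i t = 0) ∧
      (∀ t < J, ∑ i ∈ S, v i * m i t = 0) ∧
      (∀ i, F i N = ((N * e i + v i + 2 * ∑ j ∈ Finset.range J, n i j - 2 * ∑ j ∈ Finset.range J, m i j : ℤ) : ℂ)) ∧
      (∀ δ : ι → ℂ, (∀ l, 0 < l → l < 2 ^ k → l ≠ N → ∑ i ∈ S, δ i * F i l = 0) →
        (∀ t < J, ∑ i ∈ S, δ i * (n i t : ℂ) = 0) ∧ (∀ t < J, ∑ i ∈ S, δ i * (m i t : ℂ) = 0) ∧
        ∑ i ∈ S, δ i * (v i : ℂ) = 0) ∧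
      (∀ i, (∀ l < N, F i (N + l) = - F i l) → v i = 0 ∧ ∀ t < J, n i t = 0) ∧
      (∀ i, (∀ l < N, F i (N + l) = F i l) → ∀ t < J, m i t = 0) := by
  choose c hc using hnat
  have hpos : 0 < N := by omega
  have hM : 2 ^ k = 2 * N := by
    rw [h.two_mul_half, hN]
  have hζ := h.hζ
  have hh : ζ ^ N = -1 := by
    have := pow_half (by have := h.hk; omega) hζ
    rwa [hN] at this
  have hζM : ζ ^ (2 * N) = 1 := by
    rw [← hM]
    exact hζ.pow_eq_one
  have hpar0 : ∀ s : ℕ, ζ ^ (2 * s * 2 ^ (k - 1)) = 1 := by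
    intro s
    rw [hN, show 2 * s * N = 2 * N * s by ring, pow_mul, hζM, one_pow]
  have hpar1 : ∀ s : ℕ, ζ ^ ((2 * s + 1) * 2 ^ (k - 1)) = -1 := by
    intro s
    rw [hN, show (2 * s + 1) * N = 2 * N * s + N by ring, pow_add, pow_mul, hζM, one_pow, one_mul, hh]
  have h4c : ∃ c', N = 4 * (c' + 1) := by
    rw [← hN]
    exact h.half_four
  have hreal : ∀ κ i, conj (qc F ζ (2 ^ k) κ i) = qc F ζ (2 ^ k) κ i := by
    intro κ i
    rw [hc, Complex.conj_natCast]
  -- the Gram matrix in integers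
  have hgr : ∀ {a₁ a₂ a₃ a₄ : ℕ}, Lab N a₃ → Lab N a₄ → Lab N a₁ → Lab N a₂ →
      ζ ^ (a₁ * 2 ^ (k - 1)) = ζ ^ (a₂ * 2 ^ (k - 1)) → ζ ^ (a₃ * 2 ^ (k - 1)) = ζ ^ (a₄ * 2 ^ (k - 1)) →
      ∑ i ∈ S, ((c a₁ i : ℤ) - c a₂ i) * ((c a₃ i : ℤ) - c a₄ i) =
        RRv N a₁ a₃ - RRv N a₁ a₄ - RRv N a₂ a₃ + RRv N a₂ a₄ := by
    intro a₁ a₂ a₃ a₄ h3 h4 h1 h2 h12 h34
    have hlt : ∀ {a : ℕ}, Lab N a → a ≤ 2 ^ k := by
      intro a ha
      rw [hM]
      rcases ha with ha | ha <;> omega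
    have h5 := h.gram (κ₁ := a₁) (κ₂ := a₂) (κ₃ := a₃) (κ₄ := a₄) (hlt h3) (hlt h4) h12 h34
    rw [hM, hN, RS_val h4c h1 h3, RS_val h4c h1 h4, RS_val h4c h2 h3, RS_val h4c h2 h4] at h5
    rw [← hM] at h5
    simp only [map_sub, hreal] at h5
    simp only [hc] at h5
    apply Int.cast_injective (α := ℂ)
    push_cast
    exact h5
  have heven : ∀ s ≤ N, ∀ i, c (2 * (N - s)) i = c (2 * s) i := by
    intro s hs i
    have h0 : ζ ≠ 0 := hζ.ne_zero (by positivity)
    have h1 := h.qc_sym (κ := 2 * s) (κ' := 2 * (N - s)) (by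
      rw [← pow_add, show 2 * (N - s) + 2 * s = 2 * N by omega, hζM, hpar0]) i
    rw [hc, hc] at h1
    exact_mod_cast h1
  have hodd : ∀ a b : ℕ, a % 2 = 1 → b % 2 = 1 → (a + b = N ∨ a + b = 3 * N) → ∀ i, c a i = c b i := by
    intro a b ha hb hab i
    have hba : b = 2 * (b / 2) + 1 := by omega
    have h1 := h.qc_sym (κ := b) (κ' := a) (by
      rw [hba, hpar1, ← hba, ← pow_add]
      rcases hab with e | e
      · rw [e, hh]
      · rw [e, show 3 * N = 2 * N + N by ring, pow_add, hζM, one_mul, hh]) i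
    rw [hc, hc] at h1
    exact_mod_cast h1
  have hN' : ζ ^ (N * 2 ^ (k - 1)) = ζ ^ (0 * 2 ^ (k - 1)) := by
    have := hpar0 (J + 1)
    rw [← hJ] at this
    simpa using this
  have hlabE : ∀ {a : ℕ}, a % 2 = 0 → a ≤ N → Lab N a := fun h1 h2 => Or.inl ⟨h1, h2⟩
  have hlabO : ∀ {a : ℕ}, a % 4 = 1 → a < 2 * N → Lab N a := fun h1 h2 => Or.inr ⟨h1, h2⟩
  have hp1' : ∀ s : ℕ, ζ ^ ((4 * (s + 1) + 1) * 2 ^ (k - 1)) = ζ ^ (1 * 2 ^ (k - 1)) := by
    intro s
    rw [show 4 * (s + 1) + 1 = 2 * (2 * (s + 1)) + 1 by ring, hpar1]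
    simpa using (hpar1 0).symm
  have hself : ∀ {a : ℕ}, a ≠ 0 → a ≠ N → RRv N a a = 1 := by
    intro a h1 h2
    unfold RRv
    rw [if_neg (by omega), if_pos rfl]
    rfl
  refine ⟨fun i t => (c (2 * (t + 1)) i : ℤ) - c 0 i, fun i t => (c (4 * (t + 1) + 1) i : ℤ) - c 1 i,
    fun i => (c N i : ℤ) - c 0 i, fun i => (c 0 i : ℤ) - c 1 i, ?_, ?_, ?_, ?_, ?_, ?_, ?_, ?_, ?_, ?_⟩
  · intro s hs t ht
    have h1 := hgr (a₁ := 2 * (s + 1)) (a₂ := 0) (a₃ := 2 * (t + 1)) (a₄ := 0) (hlabE (by omega) (by omega)) (hlabE (by omega) (by omega)) (hlabE (by omega) (by omega)) (hlabE (by omega) (by omega))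
      (by simpa using hpar0 (s + 1)) (by simpa using hpar0 (t + 1))
    simp only [h1]
    rw [RRv_ne (a := 2 * (s + 1)) (b := 0) (by omega), RRv_ne (a := 0) (b := 2 * (t + 1)) (by omega), RRv_zero hpos]
    by_cases hst : s = t
    · subst hst
      rw [if_pos rfl, RRv_self (by omega) (by omega)]
      norm_num
    · rw [if_neg hst, RRv_ne (by omega)]
      norm_num
  · intro s hs t ht
    have h1 := hgr (a₁ := 4 * (s + 1) + 1) (a₂ := 1) (a₃ := 4 * (t + 1) + 1) (a₄ := 1) (hlabO (by omega) (by omega)) (hlabO (by omega) (by omega)) (hlabO (by omega) (by omega)) (hlabO (by omega) (by omega))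
      (hp1' s) (hp1' t)
    simp only [h1]
    rw [RRv_ne (a := 4 * (s + 1) + 1) (b := 1) (by omega), RRv_ne (a := 1) (b := 4 * (t + 1) + 1) (by omega), hself (a := 1) (by omega) (by omega)]
    by_cases hst : s = t
    · subst hst
      rw [if_pos rfl, hself (by omega) (by omega)]
      norm_num
    · rw [if_neg hst, RRv_ne (by omega)]
      norm_num
  · intro t ht
    have h1 := hgr (a₁ := N) (a₂ := 0) (a₃ := 2 * (t + 1)) (a₄ := 0) (hlabE (by omega) (by omega)) (hlabE (by omega) (by omega)) (hlabE (by omega) (by omega)) (hlabE (by omega) (by omega))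
      hN' (by simpa using hpar0 (t + 1))
    simp only [h1]
    rw [RRv_ne (a := N) (b := 2 * (t + 1)) (by omega), RRv_ne (a := N) (b := 0) (by omega), RRv_ne (a := 0) (b := 2 * (t + 1)) (by omega), RRv_zero hpos]
    norm_num
  · have h1 := hgr (a₁ := N) (a₂ := 0) (a₃ := N) (a₄ := 0) (hlabE (by omega) (by omega)) (hlabE (by omega) (by omega)) (hlabE (by omega) (by omega)) (hlabE (by omega) (by omega)) hN' hN'
    simp only [h1]
    rw [RRv_top, RRv_ne (a := N) (b := 0) (by omega), RRv_ne (a := 0) (b := N) (by omega), RRv_zero hpos]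
    norm_num
  · intro s hs t ht
    have h1 := hgr (a₁ := 2 * (s + 1)) (a₂ := 0) (a₃ := 4 * (t + 1) + 1) (a₄ := 1) (hlabO (by omega) (by omega)) (hlabO (by omega) (by omega)) (hlabE (by omega) (by omega)) (hlabE (by omega) (by omega))
      (by simpa using hpar0 (s + 1)) (hp1' t)
    simp only [h1]
    rw [RRv_ne (a := 2 * (s + 1)) (b := 4 * (t + 1) + 1) (by omega), RRv_ne (a := 2 * (s + 1)) (b := 1) (by omega),
      RRv_ne (a := 0) (b := 4 * (t + 1) + 1) (by omega), RRv_ne (a := 0) (b := 1) (by omega)]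
    norm_num
  · intro t ht
    have h1 := hgr (a₁ := N) (a₂ := 0) (a₃ := 4 * (t + 1) + 1) (a₄ := 1) (hlabO (by omega) (by omega)) (hlabO (by omega) (by omega)) (hlabE (by omega) (by omega)) (hlabE (by omega) (by omega))
      hN' (hp1' t)
    simp only [h1]
    rw [RRv_ne (a := N) (b := 4 * (t + 1) + 1) (by omega), RRv_ne (a := N) (b := 1) (by omega),
      RRv_ne (a := 0) (b := 4 * (t + 1) + 1) (by omega), RRv_ne (a := 0) (b := 1) (by omega)]
    norm_num
  · intro i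
    have h1 := h.value_half i
    rw [hN] at h1
    rw [h1, hM]
    have hq : ∀ κ, qc F ζ (2 * N) κ i = (c κ i : ℂ) := by
      intro κ
      have := hc κ i
      rwa [hM] at this
    simp only [hq]
    have h2 := sum_alt_sd (c := fun κ => (c κ i : ℂ)) (J := J) (by
      obtain ⟨c', hc'⟩ := h4c
      exact ⟨2 * (c' + 1) / 2, by omega⟩) (by
      intro s hs
      rw [← hJ] at hs ⊢
      have := heven s hs i
      exact_mod_cast this) (by
      intro a b ha hb hab
      rw [← hJ] at hab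
      have := hodd a b ha hb hab i
      exact_mod_cast this)
    rw [← hJ] at h2
    rw [h2, Finset.sum_range_succ' (fun i_1 => ((c (4 * i_1 + 1) i : ℕ) : ℂ))]
    simp only [Nat.mul_zero, Nat.zero_add]
    push_cast
    rw [Finset.sum_sub_distrib, Finset.sum_sub_distrib]
    simp only [Finset.sum_const, Finset.card_range, nsmul_eq_mul]
    rw [hJ]
    push_cast
    ring
  · intro δ hδ
    have hd := fun (κ κ' : ℕ) (hp : ζ ^ (κ * N) = ζ ^ (κ' * N)) =>
      FQ.sum_dc_eq_zero (S := S) (F := F) (ζ := ζ) (M := 2 ^ k) (N := N) δ hδ hp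
    simp only [hc] at hd
    have hn' : ζ ^ (N * N) = ζ ^ (0 * N) := by rwa [hN] at hN'
    have hp0 : ∀ s : ℕ, ζ ^ (2 * s * N) = ζ ^ (0 * N) := by
      intro s
      have := hpar0 s
      rw [hN] at this
      simpa using this
    have hp1 : ∀ s : ℕ, ζ ^ ((2 * s + 1) * N) = ζ ^ (1 * N) := by
      intro s
      have := hpar1 s
      have h0 := hpar1 0
      rw [hN] at this h0
      rw [this]
      simpa using h0.symm
    refine ⟨fun t _ => ?_, fun t _ => ?_, ?_⟩
    · have := hd (2 * (t + 1)) 0 (hp0 _)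
      rw [← this]
      push_cast
      rfl
    · have := hd (2 * (2 * (t + 1)) + 1) 1 (hp1 _)
      rw [show 2 * (2 * (t + 1)) + 1 = 4 * (t + 1) + 1 by ring] at this
      rw [← this]
      push_cast
      rfl
    · have := hd N 0 hn'
      rw [← this]
      push_cast
      rfl
  · intro i hF
    have hz : ∀ κ, c (2 * κ) i = 0 := by
      intro κ
      have := h.qc_even_zero (i := i) (by rw [hN]; exact hF) κ
      rw [hc] at this
      exact_mod_cast this
    refine ⟨?_, fun t _ => ?_⟩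
    · have e1 := hz (J + 1)
      rw [← hJ] at e1
      have e0 := hz 0
      simp only [Nat.mul_zero] at e0
      simp [e1, e0]
    · have e0 := hz 0
      simp only [Nat.mul_zero] at e0
      simp [hz (t + 1), e0]
  · intro i hF t _
    have hz : ∀ κ, c (2 * κ + 1) i = 0 := by
      intro κ
      have := h.qc_odd_zero (i := i) (by rw [hN]; exact hF) κ
      rw [hc] at this
      exact_mod_cast this
    have e0 := hz 0
    simp only [Nat.mul_zero, Nat.zero_add] at e0
    have e1 := hz (2 * (t + 1))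
    rw [show 2 * (2 * (t + 1)) + 1 = 4 * (t + 1) + 1 by ring] at e1
    simp [e1, e0]

end Abstract

end Cfsg.Agent.Lib.Blocks.Semi
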