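/-
Semidihedral defect groups: the nilpotent block on the normalizer of the subgroup of order four.
-/
import Mathlib
import Cfsg.Agent.Lib.Blocks.Quat4
import Cfsg.Agent.Lib.Blocks.Semi4

set_option autoImplicit false
set_option linter.style.haveILetI false

namespace Cfsg.Agent.Lib.Blocks.Semi

open Cfsg Cfsg.Agent.Lib.Blocks.Local Cfsg.Agent.Lib.Blocks.Central Cfsg.Agent.Lib.Blocks.Osima
open Cfsg.Agent.Lib.Blocks.Covering Cfsg.Agent.Lib.Blocks.BlockHom Cfsg.Agent.Lib.Blocks.Pairs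
open Cfsg.Agent.Lib.Blocks.Twisted Cfsg.Agent.Lib.Blocks.Necklace Cfsg.Agent.Lib.Blocks.Sections
open Cfsg.Agent.Lib.Blocks.Regular Cfsg.Agent.Lib.Blocks.BlockCount Cfsg.Agent.Lib.Blocks.Nilp
open Cfsg.Agent.Lib.Blocks.Transport Cfsg.Agent.Lib.Blocks.MajorSub Cfsg.Agent.Lib.Blocks.Tame
open Cfsg.Agent.Lib.Blocks.Quat
open Cfsg.Agent.Lib.Char.Ortho
open scoped ComplexConjugate

universe u

section Nil

variable {K : Type u} [Group K] [Fintype K] {M : Ideal AlgInt} [hM : M.IsPrime]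

/-- A block with quaternion defect group of a group normalizing the subgroup of order four is nilpotent. -/
theorem isNilpotent_of_sd (hMp : IsPModular 2 M) {b : Set (IrrCharacter K)} (hb : IsPBlock M b) {P : Subgroup K}
    (hP : IsDefectGroup 2 M b P) {x t : K} {N : ℕ} (hd : SDD P x t N)
    (hn : ∀ k : K, k ∈ Subgroup.normalizer ((Subgroup.zpowers (QuatD.ww x N) : Subgroup K) : Set K)) :
    IsNilpotentBlock 2 M b := by
  classical
  haveI : Fact (Nat.Prime 2) := ⟨Nat.prime_two⟩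
  obtain ⟨e, hmax⟩ := Cfsg.Agent.S4552.exists_maximal_on_defect hMp hb hP
  refine ⟨hb, fun Q f hQf t' htN _ htreg => ?_⟩
  obtain ⟨g, hg⟩ := exists_conj_subpairLE hMp hmax hQf
  have hle := SubpairLE.le hg
  have hodd : Odd (orderOf (g * t' * g⁻¹)) := by
    have h1 : orderOf (g * t' * g⁻¹) = orderOf t' := by
      rw [← MulAut.conj_apply, MulEquiv.orderOf_eq]
    rw [h1]
    exact Nat.odd_iff.mpr (by
      have : ¬ 2 ∣ orderOf t' := htreg
      omega)
  have hcomm := hd.odd_comm_ww hodd (hn _)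
  have hnorm : ∀ u ∈ Q.map (MulAut.conj g).toMonoidHom, (g * t' * g⁻¹) * u * (g * t' * g⁻¹)⁻¹ ∈ Q.map (MulAut.conj g).toMonoidHom := by
    rintro _ ⟨q, hq, rfl⟩
    refine ⟨t' * q * t'⁻¹, (Subgroup.mem_normalizer_iff.mp htN q).mp hq, ?_⟩
    simp only [MulEquiv.coe_toMonoidHom, MulAut.conj_apply]
    group
  rw [Subgroup.mem_centralizer_iff]
  intro q hq
  have h1 := hd.odd_centralizes hle hodd hcomm hnorm (g * q * g⁻¹) ⟨q, hq, by simp⟩
  have h2 : g * (t' * q * t'⁻¹) * g⁻¹ = g * q * g⁻¹ := by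
    rw [← h1]
    group
  have h3 : t' * q * t'⁻¹ = q := by
    simpa using h2
  calc q * t' = (t' * q * t'⁻¹) * t' := by rw [h3]
    _ = t' * q := by group

end Nil

section Setup

variable {G : Type u} [Group G] [Fintype G] {M : Ideal AlgInt} [hM : M.IsPrime]

/-- The normalizer of the subgroup of order four contains `D C_G(D)`. -/
lemma HD_le_norm {D : Subgroup G} {x t : G} {N : ℕ} (hd : SDD D x t N) :
    Cfsg.Agent.Lib.Blocks.ZDefect.HD D ≤ Subgroup.normalizer ((Subgroup.zpowers (QuatD.ww x N) : Subgroup G) : Set G) := by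
  refine sup_le hd.D_le_norm ?_
  intro c hc
  refine mem_norm_of_comm (y := QuatD.ww x N) (Subgroup.mem_zpowers _) ?_
  exact (Subgroup.mem_centralizer_iff.mp hc _ (D.pow_mem hd.hxD _)).symm

/-- **The package on the normalizer of the subgroup of order four.** -/
theorem exists_packageK (hMp : IsPModular 2 M) {B : Set (IrrCharacter G)} (hB : IsPBlock M B) {D : Subgroup G}
    (hD : IsDefectGroup 2 M B D) {x t : G} {N : ℕ} (hd : SDD D x t N) {K : Subgroup G} [Fintype K]
    (hK : K = Subgroup.normalizer ((Subgroup.zpowers (QuatD.ww x N) : Subgroup G) : Set G)) :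
    ∃ (b : Set (IrrCharacter K)) (e : Set (IrrCharacter (Subgroup.centralizer ((D.subgroupOf K : Subgroup K) : Set K))))
      (χ₀ : IrrCharacter K) (L : IrrCharacter K → IrrCharacter (D.subgroupOf K)),
      IsInducedBlock M K b B ∧ NPack M 2 b (D.subgroupOf K) e χ₀ L := by
  classical
  haveI : Fact (Nat.Prime 2) := ⟨Nat.prime_two⟩
  obtain ⟨b₀, hb₀⟩ := Cfsg.Agent.S4698.exists_block_HD hMp hB hD
  have hle : Cfsg.Agent.Lib.Blocks.ZDefect.HD D ≤ K := by
    rw [hK]
    exact HD_le_norm hd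
  obtain ⟨c, -, hc, hdef⟩ := Cfsg.Agent.Lib.Blocks.ZDefect.exists_pair hMp hb₀ hD hle
  have hDK : D ≤ K := le_sup_left.trans hle
  have hd' := hd.subgroupOf hDK
  have hnil : IsNilpotentBlock 2 M c := by
    refine isNilpotent_of_sd hMp hc.1 hdef hd' ?_
    rintro ⟨k, hk⟩
    rw [Subgroup.mem_normalizer_iff]
    rw [hK] at hk
    have hk' := Subgroup.mem_normalizer_iff.mp hk
    have hw : ∀ z : K, z ∈ Subgroup.zpowers (QuatD.ww (⟨x, hDK hd.hxD⟩ : K) N) ↔ (z : G) ∈ Subgroup.zpowers (QuatD.ww x N) := by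
      intro z
      rw [Subgroup.mem_zpowers_iff, Subgroup.mem_zpowers_iff]
      constructor
      · rintro ⟨m, rfl⟩
        exact ⟨m, by simp [QuatD.ww]⟩
      · rintro ⟨m, hm⟩
        exact ⟨m, Subtype.ext (by simpa [QuatD.ww] using hm)⟩
    intro z
    rw [hw, hw]
    exact hk' z
  obtain ⟨e, χ₀, L, hpack⟩ := exists_npack hMp hnil hdef
  exact ⟨c, e, χ₀, L, hc, hpack⟩

end Setup

end Cfsg.Agent.Lib.Blocks.Semi
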