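/-
Semidihedral defect groups: the column at the central involution and the numbers `x` of the major subsection.
-/
import Mathlib
import Cfsg.Agent.Lib.Blocks.Quat6
import Cfsg.Agent.Lib.Blocks.Semi5

set_option autoImplicit false
set_option linter.style.haveILetI false

namespace Cfsg.Agent.Lib.Blocks.Semi

open Cfsg Cfsg.Agent.Lib.Blocks.Local Cfsg.Agent.Lib.Blocks.Central Cfsg.Agent.Lib.Blocks.Osima
open Cfsg.Agent.Lib.Blocks.Covering Cfsg.Agent.Lib.Blocks.BlockHom Cfsg.Agent.Lib.Blocks.Pairs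
open Cfsg.Agent.Lib.Blocks.Twisted Cfsg.Agent.Lib.Blocks.Necklace Cfsg.Agent.Lib.Blocks.Sections
open Cfsg.Agent.Lib.Blocks.Regular Cfsg.Agent.Lib.Blocks.BlockCount Cfsg.Agent.Lib.Blocks.Nilp
open Cfsg.Agent.Lib.Blocks.Transport Cfsg.Agent.Lib.Blocks.MajorSub Cfsg.Agent.Lib.Blocks.Tame
open Cfsg.Agent.Lib.Blocks.DihS Cfsg.Agent.Lib.Blocks.MajorSub2
open Cfsg.Agent.Lib.Blocks.BrauerFeit Cfsg.Agent.Lib.Blocks.HeightZero Cfsg.Agent.Lib.Blocks.SubsectionNorm
open Cfsg.Agent.Lib.Blocks.Quat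
open Cfsg.Agent.Lib.Char.Ortho
open scoped ComplexConjugate

universe u

section Link

variable {G : Type u} [Group G] [Fintype G] {M : Ideal AlgInt} [hM : M.IsPrime]
  {K : Subgroup G} [Fintype K] {b : Set (IrrCharacter K)} {P : Subgroup K}
  {e : Set (IrrCharacter (Subgroup.centralizer (P : Set K)))} {χ₀ : IrrCharacter K}
  {L : IrrCharacter K → IrrCharacter P}

namespace SCol

variable {B : Set (IrrCharacter G)} {x₀ t₀ : P} {N k : ℕ} (h : SCol M B K b P e χ₀ L x₀ t₀ N k)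
include h

/-- `z` is the square of `w`. -/
theorem ww_eq : (((x₀ ^ (N / 2) : P) : K) : G) * (((x₀ ^ (N / 2) : P) : K) : G) = (((x₀ ^ N : P) : K) : G) := by
  have h1 := h.hall.ww_sq
  have h2 := congrArg (fun y : P => ((y : K) : G)) h1
  simpa [QuatD.ww] using h2

/-- `K` lies in the centralizer of `z`. -/
theorem K_le_cen : K ≤ Cen (((x₀ ^ N : P) : K) : G) := by
  have h1 := norm_le_cen h.w_order
  rw [← h.hK, h.ww_eq] at h1
  exact h1

/-- `z` is central in `K`. -/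
theorem z_isCen : IsCen (((x₀ ^ N : P) : K)) := by
  intro g
  have h1 := Subgroup.mem_centralizer_singleton_iff.mp (h.K_le_cen g.2)
  exact Subtype.ext h1

/-- **The column at `z` is a form on `K`.** -/
theorem FK_N_eq [Fintype P] (χ : IrrCharacter G) :
    FK M P e χ₀ x₀ χ N = (Nat.card P : ℂ) *
      classInner (fun c : K => (χ : G → ℂ) ((((x₀ ^ N : P) : K) : G) * c)) (reg 2 (χ₀ : K → ℂ)) := by
  classical
  haveI : Fact (Nat.Prime 2) := ⟨Nat.prime_two⟩
  set zK : K := ((x₀ ^ N : P) : K) with hzK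
  have hcen : IsCen zK := h.z_isCen
  -- the values of `t`
  have hexp : (fun c : K => (χ : G → ℂ) ((zK : G) * c)) =
      fun c => ∑ ϑ : IrrCharacter K, ((mmK χ ϑ : ℂ) * ((ϑ : K → ℂ) zK / (ϑ : K → ℂ) 1)) * (ϑ : K → ℂ) c := by
    funext c
    have h1 := congrFun (Cfsg.Agent.Lib.Char.Complete.eq_sum_classInner _ (isClassFunction_resK (K := K) χ)) (zK * c)
    rw [Finset.sum_apply] at h1
    have h2 : ((zK * c : K) : G) = (zK : G) * c := rfl
    rw [h2] at h1
    rw [h1]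
    refine Finset.sum_congr rfl fun ϑ _ => ?_
    rw [Pi.smul_apply, smul_eq_mul, mmK_spec, mul_assoc]
    congr 1
    obtain ⟨a, -, ha⟩ := Cfsg.Agent.Lib.Char.BlichfeldtB.irr_central_mul ϑ.2 zK (fun g => hcen g)
    have h3 := ha 1
    rw [mul_one] at h3
    have h0 := Cfsg.Agent.Lib.Char.Ortho.irr_apply_one_ne_zero ϑ.2
    rw [ha c, h3]
    field_simp
  have hPf : ((Pf P).card : ℂ) = (Nat.card P : ℂ) := by
    have : (Pf P).card = Nat.card P := by
      rw [Nat.card_eq_fintype_card, Fintype.card_subtype]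
      rfl
    rw [this]
  have hR := h.hP.hR
  rw [hPf] at hR
  have hcl : IsClosed M b := isClosed_of_isPBlock h.hP.hmax.1.2.1
  have hin : ∀ ϑ : IrrCharacter K, (Nat.card P : ℂ) * classInner (ϑ : K → ℂ) (reg 2 (χ₀ : K → ℂ)) =
      if ϑ ∈ b then (L ϑ : P → ℂ) 1 else 0 := by
    intro ϑ
    by_cases hϑ : ϑ ∈ b
    · rw [if_pos hϑ]
      have h1 : reg 2 (ϑ : K → ℂ) = (L ϑ : P → ℂ) 1 • reg 2 (χ₀ : K → ℂ) := by
        funext c
        simp only [Pi.smul_apply, smul_eq_mul]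
        by_cases hc : 2 ∣ orderOf c
        · rw [reg_of_dvd _ hc, reg_of_dvd _ hc, mul_zero]
        · rw [reg_of_not_dvd _ hc, reg_of_not_dvd _ hc]
          exact h.hP.hreg ϑ hϑ c hc
      have h2 : classInner (ϑ : K → ℂ) (reg 2 (χ₀ : K → ℂ)) = classInner (reg 2 (ϑ : K → ℂ)) (reg 2 (χ₀ : K → ℂ)) := by
        rw [classInner, classInner]
        congr 1
        refine Finset.sum_congr rfl fun c _ => ?_
        by_cases hc : 2 ∣ orderOf c
        · rw [reg_of_dvd (χ₀ : K → ℂ) hc, map_zero, mul_zero, mul_zero]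
        · rw [reg_of_not_dvd (ϑ : K → ℂ) hc]
      rw [h2, h1, classInner_smul_left, Cfsg.Agent.Lib.Blocks.KleinFour.classInner_reg_reg', mul_left_comm, hR, mul_one]
    · rw [if_neg hϑ]
      have h1 := classInner_reg_eq_zero_of_closed h.hP.hMp hcl hϑ h.hP.hχ₀
      have h2 : classInner (reg 2 (χ₀ : K → ℂ)) (ϑ : K → ℂ) = 0 := by
        have h3 := classInner_reg_eq_zero_of_closed h.hP.hMp (A := bᶜ) (isClosed_compl hcl)
          (χ := χ₀) (ψ := ϑ) (fun h4 => h4 h.hP.hχ₀) hϑ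
        exact h3
      have h3 := classInner_conj_symm (reg 2 (χ₀ : K → ℂ)) (ϑ : K → ℂ)
      rw [h2, map_zero] at h3
      rw [← h3, mul_zero]
  rw [hexp]
  have hsum : classInner (fun c => ∑ ϑ : IrrCharacter K, ((mmK χ ϑ : ℂ) * ((ϑ : K → ℂ) zK / (ϑ : K → ℂ) 1)) * (ϑ : K → ℂ) c)
      (reg 2 (χ₀ : K → ℂ)) = ∑ ϑ : IrrCharacter K, ((mmK χ ϑ : ℂ) * ((ϑ : K → ℂ) zK / (ϑ : K → ℂ) 1)) *
        classInner (ϑ : K → ℂ) (reg 2 (χ₀ : K → ℂ)) := by
    rw [classInner]
    simp only [classInner, Finset.sum_mul, Finset.mul_sum]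
    rw [Finset.sum_comm]
    refine Finset.sum_congr rfl fun ϑ _ => Finset.sum_congr rfl fun c _ => ?_
    ring
  rw [hsum, Finset.mul_sum]
  unfold FK
  rw [NK_eq_sum h.hP χ (x₀ ^ N), Finset.sum_filter]
  refine Finset.sum_congr rfl fun ϑ _ => ?_
  rw [mul_left_comm, hin ϑ]
  by_cases hϑ : ϑ ∈ b
  · rw [if_pos hϑ, if_pos hϑ, h.hP.hcen ϑ hϑ (x₀ ^ N) hcen]
    ring
  · rw [if_neg hϑ, if_neg hϑ, mul_zero]

theorem z_order {z : G} (hz : (((x₀ ^ N : P) : K) : G) = z) : orderOf z = 2 ^ 1 := by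
  have hne : z ≠ 1 := by
    rw [← hz]
    exact h.rot_ne_one h.hall.N_pos (by have := h.hall.N_pos; omega)
  have hsq : z ^ 2 = 1 := by
    rw [← hz, sq]
    have h1 := h.hall.zz_sq
    have h2 := congrArg (fun y : P => ((y : K) : G)) h1
    simpa using h2
  rw [pow_one]
  exact orderOf_eq_prime hsq hne

/-- **The column at `z` comes from a central element.** -/
theorem exists_central [Fintype P] {z : G} (hz : (((x₀ ^ N : P) : K) : G) = z) [Fintype (Cen z)] :
    ∃ E ∈ localCenter G M, ∀ χ : IrrCharacter G, FK M P e χ₀ x₀ χ N =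
      (Nat.card P : ℂ) * (((χ : G → ℂ) 1 / (Nat.card G : ℂ)) * omega (χ : G → ℂ) E) := by
  classical
  haveI : Fact (Nat.Prime 2) := ⟨Nat.prime_two⟩
  have hKC : K ≤ Cen z := by
    rw [← hz]
    exact h.K_le_cen
  have hzo := h.z_order hz
  letI : Fintype (K.subgroupOf (Cen z)) := Fintype.ofFinite _
  set φ : K.subgroupOf (Cen z) ≃* K := Subgroup.subgroupOfEquivOfLe hKC with hφ
  set θ : IrrCharacter (K.subgroupOf (Cen z)) := irrComap φ χ₀ with hθ
  set Φ : Cen z → ℂ := indFun (K.subgroupOf (Cen z)) (θ : K.subgroupOf (Cen z) → ℂ) with hΦdef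
  have hΦ : IsCharacter (Cen z) Φ :=
    Cfsg.Agent.Lib.Char.IndRep.isCharacter_indFun _ (Cfsg.Agent.Lib.Char.Basic.isCharacter_of_isIrrCharacter θ.2)
  set w₀ : Cen z → ℂ := fun c => conj (reg 2 Φ c) with hw₀
  have hcl : IsClassFunction (Cen z) w₀ := by
    intro c d
    have h1 := isClassFunction_reg 2 (Cfsg.Agent.Lib.Char.Induced.indFun_isClassFunction (K.subgroupOf (Cen z))
      (θ : K.subgroupOf (Cen z) → ℂ)) c d
    simp only [hw₀]
    rw [h1]
  have h0 : ∀ c : Cen z, 2 ∣ orderOf c → w₀ c = 0 := by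
    intro c hc
    simp only [hw₀]
    rw [reg_of_dvd _ hc, map_zero]
  have hloc : ∀ c, MemLocalRing M (w₀ c) := by
    intro c
    simp only [hw₀]
    by_cases hc : 2 ∣ orderOf c
    · rw [reg_of_dvd _ hc, map_zero]
      exact memLocalRing_zero
    · rw [reg_of_not_dvd _ hc]
      obtain ⟨n, ρ, hρ⟩ := hΦ
      refine memLocalRing_of_isIntegral (map_isIntegral_int (starRingEnd ℂ) ?_)
      rw [← hρ]
      exact Cfsg.Agent.Lib.Char.Values.isIntegral_character ρ c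
  refine ⟨YY w₀, YY_mem hzo hcl h0 hloc, fun χ => ?_⟩
  rw [omega_YY (isClassFunction_of_irr χ.2), h.FK_N_eq]
  congr 1
  have h0' := Cfsg.Agent.Lib.Char.Ortho.irr_apply_one_ne_zero χ.2
  have hcard : (Nat.card G : ℂ) ≠ 0 := Nat.cast_ne_zero.mpr Nat.card_pos.ne'
  have h1 : ((χ : G → ℂ) 1 / (Nat.card G : ℂ)) * (((Nat.card G : ℂ) / (χ : G → ℂ) 1) *
      ((Nat.card (Cen z) : ℂ)⁻¹ * ∑ c : Cen z, w₀ c * (χ : G → ℂ) (z * c))) =
      (Nat.card (Cen z) : ℂ)⁻¹ * ∑ c : Cen z, w₀ c * (χ : G → ℂ) (z * c) := by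
    field_simp
  rw [h1]
  set t : Cen z → ℂ := fun c => (χ : G → ℂ) (z * c) with ht
  have htcl : IsClassFunction (Cen z) t := isClassFunction_secZ χ z
  have h2 : (Nat.card (Cen z) : ℂ)⁻¹ * ∑ c : Cen z, w₀ c * (χ : G → ℂ) (z * c) = classInner t (reg 2 Φ) := by
    rw [classInner]
    congr 1
    refine Finset.sum_congr rfl fun c _ => ?_
    simp only [hw₀, ht]
    ring
  have key2 : classInner (reg 2 Φ) t = classInner (reg 2 (χ₀ : K → ℂ)) (fun c : K => (χ : G → ℂ) (z * c)) := by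
    rw [hΦdef, reg_indFun, Cfsg.Agent.Lib.Char.Induced.frobenius_reciprocity _ _ _ htcl]
    rw [classInner, classInner]
    have hc1 : Nat.card (K.subgroupOf (Cen z)) = Nat.card K := Nat.card_congr φ.toEquiv
    rw [hc1]
    congr 1
    refine Fintype.sum_equiv φ.toEquiv _ _ fun a => ?_
    have h3 : orderOf (φ a) = orderOf a := MulEquiv.orderOf_eq φ a
    simp only [MulEquiv.toEquiv_eq_coe, EquivLike.coe_coe]
    congr 1
    by_cases hc : 2 ∣ orderOf a
    · rw [reg_of_dvd _ hc, reg_of_dvd _ (by rwa [h3])]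
    · rw [reg_of_not_dvd _ hc, reg_of_not_dvd _ (by rwa [h3])]
      rfl
  rw [h2, ← classInner_conj_symm (reg 2 Φ) t, key2, classInner_conj_symm, hz]

/-- Rotations of order at least four are not conjugate to `z`. -/
theorem rot_not_conj {z : G} (hz : (((x₀ ^ N : P) : K) : G) = z) {l : ℕ} (h0 : 0 < l) (hl : l < 2 * N) (he : l ≠ N) :
    ¬ IsConj z (((x₀ ^ l : P) : K) : G) := by
  intro hc
  have h1 : ((x₀ ^ l : P) : K).1 * ((x₀ ^ l : P) : K).1 = 1 := by
    obtain ⟨g, hg⟩ := isConj_iff.mp hc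
    have hzz : z * z = 1 := by
      rw [← sq]
      have := pow_orderOf_eq_one z
      rwa [h.z_order hz, pow_one] at this
    show (((x₀ ^ l : P) : K) : G) * (((x₀ ^ l : P) : K) : G) = 1
    rw [← hg]
    calc g * z * g⁻¹ * (g * z * g⁻¹) = g * (z * z) * g⁻¹ := by group
      _ = 1 := by rw [hzz]; group
  have h3 : x₀ ^ l * x₀ ^ l = 1 := h.coe_inj (by simpa using h1)
  have h4 : x₀ ^ (2 * l) = 1 := by rw [two_mul, pow_add, h3]
  have h5 := orderOf_dvd_of_pow_eq_one h4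
  rw [h.hall.hxo] at h5
  have h6 := Nat.le_of_dvd (by omega) h5
  have h7 : N ∣ l := by
    exact Nat.dvd_of_mul_dvd_mul_left (by norm_num) h5
  obtain ⟨c, rfl⟩ := h7
  rcases c with _ | _ | c
  · omega
  · omega
  · have : N * (c + 1 + 1) = N * c + 2 * N := by ring
    rw [this] at hl
    have : 0 ≤ N * c := Nat.zero_le _
    omega

open Classical in
/-- **The numbers `x` are orthogonal to the columns at the rotations.** -/
theorem XX_orth {z : G} (hz : (((x₀ ^ N : P) : K) : G) = z) [Fintype (Cen z)] {bz : Set (IrrCharacter (Cen z))}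
    (hC : IsInducedBlock M (Cen z) bz B) (a : IrrCharacter G) {l : ℕ} (h0 : 0 < l) (hl : l < 2 * N) (he : l ≠ N) :
    ∑ χ ∈ Finset.univ.filter (· ∈ B), XX 2 bz χ a * FK M P e χ₀ x₀ χ l = 0 := by
  haveI : Fact (Nat.Prime 2) := ⟨Nat.prime_two⟩
  have hMp := h.hP.hMp
  have heC : IsClosed M bz := isClosed_of_isPBlock hC.1
  have hzo := h.z_order hz
  have h1 : ∀ χ : IrrCharacter G, XX 2 bz χ a * FK M P e χ₀ x₀ χ l =
      ((2 : ℂ) ^ blockDefect 2 bz * (Nat.card (Cen z) : ℂ)⁻¹) *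
        ∑ c : Cen z, conj (gg 2 bz a c) * ((χ : G → ℂ) (z * c) * FK M P e χ₀ x₀ χ l) := by
    intro χ
    have h2 : sumInner (gg 2 bz χ) (gg 2 bz a) = sumInner (fun c : Cen z => (χ : G → ℂ) (z * c)) (gg 2 bz a) :=
      sumInner_reg_blockPart hMp heC _ (gg_mem bz a)
    rw [XX, classInner_eq_sumInner, h2, sumInner]
    push_cast
    simp only [Finset.mul_sum, Finset.sum_mul]
    refine Finset.sum_congr rfl fun c _ => ?_
    ring
  simp only [h1]
  rw [← Finset.mul_sum, Finset.sum_comm]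
  apply mul_eq_zero_of_right
  refine Finset.sum_eq_zero fun c _ => ?_
  rw [← Finset.mul_sum]
  by_cases hc : 2 ∣ orderOf c
  · rw [mem_regSpan_vanish (gg_mem (p := 2) bz a) hc, map_zero, zero_mul]
  · apply mul_eq_zero_of_right
    have hp : IsPPart 2 (z * (c : G)) z :=
      ⟨c, rfl, (Subgroup.mem_centralizer_singleton_iff.mp c.2).symm, ⟨1, hzo⟩, by rwa [Subgroup.orderOf_coe]⟩
    exact h.F_orth' hp hl.le (h.rot_not_conj hz (by omega) (by omega) (by omega))

/-- **The numbers `x` are integers.** -/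
theorem exists_X {z : G} (hz : (((x₀ ^ N : P) : K) : G) = z) [Fintype (Cen z)] (bz : Set (IrrCharacter (Cen z))) :
    ∃ X : IrrCharacter G → IrrCharacter G → ℤ, ∀ a c, XX 2 bz a c = X a c := by
  haveI : Fact (Nat.Prime 2) := ⟨Nat.prime_two⟩
  have hex : ∀ a c, ∃ n : ℤ, XX 2 bz a c = n := fun a c =>
    exists_int_of_mem_rootSums (XX_mem h.hP.hMp (h.z_order hz) bz a c)
  choose X hX using hex
  exact ⟨X, hX⟩

end SCol

end Link

end Cfsg.Agent.Lib.Blocks.Semi
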