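/-
Semidihedral defect groups: the characters with the central involution in their kernel.
-/
import Mathlib
import Cfsg.Agent.Lib.Blocks.Quat8a
import Cfsg.Agent.Lib.Blocks.Semi1

set_option autoImplicit false
set_option linter.style.haveILetI false

namespace Cfsg.Agent.Lib.Blocks.Semi

open Cfsg Cfsg.Agent.Lib.Blocks.Tame Cfsg.Agent.Lib.Blocks.CentralQuot Cfsg.Agent.Lib.Blocks.Pairs
open Cfsg.Agent.Lib.Blocks.Quat

universe u

section Dih

variable {H : Type u} [Group H]

/-- The quotient of a semidihedral group by its central involution is dihedral. -/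
theorem nonempty_quot_dih [Finite H] {Z D : Subgroup H} [Z.Normal] {x t : H} {N : ℕ} (h : SDD D x t N)
    (hZ : ∀ g, g ∈ Z ↔ g = 1 ∨ g = x ^ N) :
    Nonempty ((D.map (QuotientGroup.mk' Z) : Subgroup (H ⧸ Z)) ≃* DihedralGroup N) := by
  classical
  letI : Fintype H := Fintype.ofFinite H
  have hNpos := h.N_pos
  haveI : NeZero N := ⟨hNpos.ne'⟩
  set X : H ⧸ Z := (x : H ⧸ Z) with hX
  set T : H ⧸ Z := (t : H ⧸ Z) with hT
  have hXN : X ^ N = 1 := by
    rw [hX, ← QuotientGroup.mk_pow, QuotientGroup.eq_one_iff, hZ]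
    exact Or.inr rfl
  have hTT : T * T = 1 := by
    rw [hT, ← QuotientGroup.mk_mul, h.htt, QuotientGroup.mk_one]
  have hTX : T * X * T⁻¹ = X⁻¹ := by
    have h1 : T * X * T⁻¹ = X ^ (N - 1) := by
      have := congrArg (fun g : H => (g : H ⧸ Z)) h.htx
      simpa using this
    rw [h1]
    apply eq_inv_of_mul_eq_one_left
    rw [← pow_succ, show N - 1 + 1 = N by omega, hXN]
  let f : ZMod N → H ⧸ Z := fun i => X ^ i.val
  have hfpow : ∀ s : ℕ, f (s : ZMod N) = X ^ s := by
    intro s
    simp only [f]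
    rw [ZMod.val_natCast, ← pow_mod_orderOf X s, ← pow_mod_orderOf X (s % N)]
    have h1 : orderOf X ∣ N := orderOf_dvd_of_pow_eq_one hXN
    rw [Nat.mod_mod_of_dvd _ h1]
  have hfadd : ∀ i j : ZMod N, f (i + j) = f i * f j := by
    intro i j
    have h1 : i + j = ((i.val + j.val : ℕ) : ZMod N) := by
      push_cast
      rw [ZMod.natCast_zmod_val, ZMod.natCast_zmod_val]
    rw [h1, hfpow, pow_add]
  have hfzero : f 0 = 1 := by
    simp [f, ZMod.val_zero]
  have hfneg : ∀ i : ZMod N, f (-i) = (f i)⁻¹ := by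
    intro i
    apply eq_inv_of_mul_eq_one_left
    rw [← hfadd, neg_add_cancel, hfzero]
  have hTf : ∀ i : ZMod N, T * f i * T⁻¹ = f (-i) := by
    intro i
    simp only [f] at hfneg ⊢
    rw [← conj_pow, hTX, inv_pow]
    exact (hfneg i).symm
  have hTi : T⁻¹ = T := inv_eq_of_mul_eq_one_left hTT
  have hfT : ∀ i : ZMod N, f i * T = T * f (-i) := by
    intro i
    have h1 := hTf (-i)
    rw [neg_neg, hTi] at h1
    calc f i * T = (T * f (-i) * T) * T := by rw [h1]
      _ = T * f (-i) * (T * T) := by group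
      _ = T * f (-i) := by rw [hTT, mul_one]
  let ψf : DihedralGroup N → H ⧸ Z := fun g => match g with
    | DihedralGroup.r i => f i
    | DihedralGroup.sr i => T * f i
  let ψ : DihedralGroup N →* H ⧸ Z := MonoidHom.mk' ψf (by
    rintro (i | i) (j | j)
    · simp only [DihedralGroup.r_mul_r, ψf]
      exact hfadd i j
    · simp only [DihedralGroup.r_mul_sr, ψf]
      rw [← mul_assoc, hfT, mul_assoc, ← hfadd, sub_eq_add_neg, add_comm]
    · simp only [DihedralGroup.sr_mul_r, ψf]
      rw [hfadd, mul_assoc]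
    · simp only [DihedralGroup.sr_mul_sr, ψf]
      calc f (j - i) = (T * T) * f (j - i) := by rw [hTT, one_mul]
        _ = T * (T * f (-i)) * f j := by
          rw [sub_eq_add_neg, add_comm, hfadd]
          group
        _ = T * (f i * T) * f j := by rw [hfT]
        _ = _ := by group)
  have hψr : ∀ i, ψ (DihedralGroup.r i) = f i := fun _ => rfl
  have hψsr : ∀ i, ψ (DihedralGroup.sr i) = T * f i := fun _ => rfl
  have hinj : Function.Injective ψ := by
    rw [injective_iff_map_eq_one]
    rintro (i | i) hi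
    · rw [hψr] at hi
      have h1 : X ^ i.val = 1 := hi
      rw [hX, ← QuotientGroup.mk_pow, QuotientGroup.eq_one_iff, hZ] at h1
      have hlt : i.val < N := ZMod.val_lt i
      have h0 : i.val = 0 := by
        rcases h1 with h1 | h1
        · have h2 := h.pow_inj (s := i.val) (r := 0) (by omega) (by omega) (by simpa using h1)
          exact h2
        · have h2 := h.pow_inj (s := i.val) (r := N) (by omega) (by omega) h1
          omega
      have h2 : i = 0 := by
        rw [← ZMod.natCast_zmod_val i, h0]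
        simp
      rw [h2]
      rfl
    · exfalso
      rw [hψsr] at hi
      have h1 : ((t * x ^ i.val : H) : H ⧸ Z) = 1 := by
        rw [QuotientGroup.mk_mul, QuotientGroup.mk_pow]
        exact hi
      rw [QuotientGroup.eq_one_iff, hZ] at h1
      rcases h1 with h1 | h1
      · have h2 : t * x ^ i.val = x ^ 0 := by simpa using h1
        exact h.refl_ne _ _ h2
      · exact h.refl_ne _ _ h1
  have hrange : ψ.range = D.map (QuotientGroup.mk' Z) := by
    ext q
    constructor
    · rintro ⟨g, rfl⟩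
      rcases g with i | i
      · rw [hψr]
        exact ⟨x ^ i.val, D.pow_mem h.hxD _, by simp [f, hX]⟩
      · rw [hψsr]
        exact ⟨t * x ^ i.val, D.mul_mem h.htD (D.pow_mem h.hxD _), by simp [f, hX, hT]⟩
    · rintro ⟨g, hg, rfl⟩
      rcases h.hcov g hg with ⟨s, rfl⟩ | ⟨s, rfl⟩
      · refine ⟨DihedralGroup.r (s : ZMod N), ?_⟩
        rw [hψr, hfpow]
        simp [hX]
      · refine ⟨DihedralGroup.sr (s : ZMod N), ?_⟩
        rw [hψsr, hfpow]
        simp [hX, hT]
  refine ⟨((MonoidHom.ofInjective hinj).symm.symm.trans (MulEquiv.subgroupCongr hrange)).symm⟩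

end Dih

section Count

variable {H : Type u} [Group H] [Fintype H] {M : Ideal AlgInt}

/-- The subgroup generated by a central involution. -/
lemma zpowers_central {z : H} (hz : ∀ g : H, g * z = z * g) (hzz : z * z = 1) :
    (∀ g ∈ Subgroup.zpowers z, g = 1 ∨ g = z) ∧ (Subgroup.zpowers z).Normal ∧
      (∀ a ∈ Subgroup.zpowers z, ∀ g : H, g * a = a * g) := by
  have hZmem : ∀ g ∈ Subgroup.zpowers z, g = 1 ∨ g = z := by
    intro g hg
    obtain ⟨k, rfl⟩ := Subgroup.mem_zpowers_iff.mp hg
    have hz2 : z ^ 2 = 1 := by rw [sq, hzz]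
    rcases Int.emod_two_eq_zero_or_one k with h | h
    · left
      obtain ⟨q, rfl⟩ : ∃ q, k = 2 * q := ⟨k / 2, by omega⟩
      rw [zpow_mul, show z ^ (2 : ℤ) = 1 by exact_mod_cast hz2, one_zpow]
    · right
      obtain ⟨q, rfl⟩ : ∃ q, k = 2 * q + 1 := ⟨k / 2, by omega⟩
      rw [zpow_add, zpow_mul, show z ^ (2 : ℤ) = 1 by exact_mod_cast hz2, one_zpow, one_mul, zpow_one]
  have hc : ∀ a ∈ Subgroup.zpowers z, ∀ g : H, g * a = a * g := by
    intro a ha g
    rcases hZmem a ha with rfl | rfl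
    · simp
    · exact hz g
  refine ⟨hZmem, ⟨?_⟩, hc⟩
  intro a ha g
  rw [hc a ha g]
  simpa using ha

/-- **The number of characters of `b` with the central involution in the kernel.** -/
theorem card_E_of_sd (hMp : IsPModular 2 M) {b : Set (IrrCharacter H)} (hb : IsPBlock M b) {D : Subgroup H}
    (hD : IsDefectGroup 2 M b D) {n : ℕ} (hn : 4 ≤ n)
    {x t : H} (hd : SDD D x t (2 ^ (n - 2))) (hz : ∀ g : H, g * x ^ (2 ^ (n - 2)) = x ^ (2 ^ (n - 2)) * g) :
    Nat.card {ξ : IrrCharacter H // ξ ∈ b ∧ (ξ : H → ℂ) (x ^ (2 ^ (n - 2))) = (ξ : H → ℂ) 1} = 2 ^ (n - 3) + 3 := by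
  classical
  haveI : Fact (Nat.Prime 2) := ⟨Nat.prime_two⟩
  haveI : M.IsPrime := hMp.2.1.isPrime
  set z : H := x ^ (2 ^ (n - 2)) with hzdef
  have hzz : z * z = 1 := hd.zz_sq
  have hz1 : z ≠ 1 := hd.zz_ne_one
  have hzD : z ∈ D := hd.zz_mem
  let Z : Subgroup H := Subgroup.zpowers z
  obtain ⟨hZmem, hZn, hZc⟩ := zpowers_central hz hzz
  haveI : Z.Normal := hZn
  have hzZ : z ∈ Z := Subgroup.mem_zpowers z
  have hZp : IsPGroup 2 Z := by
    have : IsPGroup 2 (Subgroup.zpowers z) := by
      apply IsPGroup.of_card (n := 1)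
      rw [Nat.card_zpowers, pow_one]
      have hz2 : z ^ 2 = 1 := by rw [sq, hzz]
      rcases (Nat.dvd_prime Nat.prime_two).mp (orderOf_dvd_of_pow_eq_one hz2) with h | h
      · exact absurd (orderOf_eq_one_iff.mp h) hz1
      · exact h
    exact this
  letI : Fintype Z := Fintype.ofFinite _
  letI : Fintype (H ⧸ Z) := Fintype.ofFinite _
  have hbq : IsPBlock M (quotBlock Z b) := isPBlock_quotBlock hMp Z hZc hZp hb
  have hDq : IsDefectGroup 2 M (quotBlock Z b) (D.map (QuotientGroup.mk' Z)) :=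
    isDefectGroup_quotBlock Z hMp hZc hZp hb hD
  rw [← card_quotBlock Z hZmem hzZ b]
  have hdih : Nonempty ((D.map (QuotientGroup.mk' Z) : Subgroup (H ⧸ Z)) ≃* DihedralGroup (2 ^ (n - 2))) := by
    refine nonempty_quot_dih hd ?_
    intro g
    constructor
    · exact hZmem g
    · rintro (rfl | rfl)
      · exact Z.one_mem
      · exact hzZ
  have h1 := Cfsg.Agent.S4528.result M hMp (quotBlock Z b) hbq _ hDq (n - 1) (by omega) (by
    rw [show n - 1 - 1 = n - 2 by omega]
    exact hdih)
  rw [h1.1, show n - 1 - 2 = n - 3 by omega]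

end Count

end Cfsg.Agent.Lib.Blocks.Semi
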