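/-
Semidihedral defect groups: the sections of the class functions antisymmetric under the central involution.
-/
import Mathlib
import Cfsg.Agent.Lib.Blocks.Quat8b
import Cfsg.Agent.Lib.Blocks.Semi8a
import Cfsg.Agent.S4637

set_option autoImplicit false
set_option linter.style.haveILetI false

namespace Cfsg.Agent.Lib.Blocks.Semi

open Cfsg Cfsg.Agent.Lib.Blocks.Local Cfsg.Agent.Lib.Blocks.Central Cfsg.Agent.Lib.Blocks.Osima
open Cfsg.Agent.Lib.Blocks.Covering Cfsg.Agent.Lib.Blocks.BlockHom Cfsg.Agent.Lib.Blocks.Pairs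
open Cfsg.Agent.Lib.Blocks.Twisted Cfsg.Agent.Lib.Blocks.Necklace Cfsg.Agent.Lib.Blocks.Nilp
open Cfsg.Agent.Lib.Blocks.Regular Cfsg.Agent.Lib.Blocks.Sections Cfsg.Agent.Lib.Blocks.BlockCount
open Cfsg.Agent.Lib.Blocks.Transport Cfsg.Agent.Lib.Blocks.Quat

universe u

section Klein

/-- A group of order four with all squares trivial is a Klein four group. -/
lemma isKleinFour_of {X : Type*} [Group X] (h4 : Nat.card X = 4) (hsq : ∀ g : X, g * g = 1) : IsKleinFour X := by
  refine ⟨h4, ?_⟩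
  have h1 : Monoid.exponent X ∣ 2 := by
    apply Monoid.exponent_dvd_of_forall_pow_eq_one
    intro g
    rw [sq, hsq]
  rcases (Nat.dvd_prime Nat.prime_two).mp h1 with h2 | h2
  · exfalso
    rw [Monoid.exp_eq_one_iff] at h2
    have := Finite.card_le_one_iff_subsingleton.mpr h2
    omega
  · exact h2

variable {K : Type u} [Group K] [Finite K] {M : Ideal AlgInt}

/-- **A block with a Klein four defect group containing a nontrivial central element has rank one.** -/
theorem blockRank_one_of_klein (hMp : IsPModular 2 M) {f : Set (IrrCharacter K)} (hf : IsPBlock M f)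
    {Q : Subgroup K} (hQ : IsDefectGroup 2 M f Q) (hV : IsKleinFour Q) {u : K} (hu : u ∈ Q) (hu1 : u ≠ 1)
    (huc : ∀ g : K, g * u = u * g) : blockRank 2 f = 1 := by
  classical
  cases nonempty_fintype K
  haveI : Fact (Nat.Prime 2) := ⟨Nat.prime_two⟩
  haveI : M.IsPrime := hMp.2.1.isPrime
  obtain ⟨c, hmax⟩ := Cfsg.Agent.S4552.exists_maximal_on_defect hMp hf hQ
  have hc := isInducedBlock_of_brauerPair hMp hmax.1
  let T : Subgroup K := Subgroup.normalizer (Q : Set K) ⊓ blockStabilizer (Subgroup.centralizer (Q : Set K)) c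
  have hT : ∀ g : K, g ∈ T ↔ (g ∈ Subgroup.normalizer (Q : Set K) ∧ StabilizesBlock (Subgroup.centralizer (Q : Set K)) c g) :=
    fun g => Iff.rfl
  obtain ⟨-, -, h3⟩ := Cfsg.Agent.S4637.result M hMp f hf Q hQ hV c hc T hT _ rfl
  rw [h3]
  have hsq : ∀ g ∈ Q, g * g = 1 := by
    intro g hg
    have h1 := Monoid.pow_exponent_eq_one (⟨g, hg⟩ : Q)
    rw [hV.2, sq] at h1
    exact congrArg Subtype.val h1
  have hab : ∀ a ∈ Q, ∀ b ∈ Q, a * b = b * a := by
    intro a ha b hb
    have h1 := hsq _ (Q.mul_mem ha hb)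
    have h2 := hsq a ha
    have h3 := hsq b hb
    calc a * b = a * (a * b * (a * b)) * b := by rw [h1, mul_one]
      _ = (a * a) * b * a * (b * b) := by group
      _ = b * a := by rw [h2, h3]; group
  obtain ⟨he, hpow⟩ := Cfsg.Agent.S4637.inertial_facts M hMp Q hV.1 c hab hmax T hT
  rcases he with he | he
  · exact he
  exfalso
  rw [he] at hpow
  have hsq2 : ∀ g ∈ T, ∀ y ∈ Q, g ^ 2 * y * (g ^ 2)⁻¹ = y := by
    intro g hg y hy
    have hgN := (hT g).mp hg |>.1
    have hgu : g * u * g⁻¹ = u := by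
      rw [huc g]
      group
    have hgy : g * y * g⁻¹ ∈ Q := (Subgroup.mem_normalizer_iff.mp hgN y).mp hy
    have hstep : g * y * g⁻¹ = y → g ^ 2 * y * (g ^ 2)⁻¹ = y := by
      intro h1
      have e : g ^ 2 * y * (g ^ 2)⁻¹ = g * (g * y * g⁻¹) * g⁻¹ := by
        rw [sq]
        group
      rw [e, h1, h1]
    by_cases hy1 : y = 1
    · rw [hy1]
      group
    by_cases hyu : y = u
    · have h1 := hgu
      rw [← hyu] at h1
      exact hstep h1
    -- the elements of `Q`
    have hall : ∀ w : Q, (w : K) = 1 ∨ (w : K) = u ∨ (w : K) = y ∨ (w : K) = u * y := by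
      have hcard : (Finset.image (fun w : K => w) ({1, u, y, u * y} : Finset K)).card = 4 := by
        simp only [Finset.image_id']
        rw [Finset.card_insert_of_notMem, Finset.card_insert_of_notMem, Finset.card_pair]
        · intro h1
          have : u = 1 := by simpa using h1
          exact hu1 this
        · simp only [Finset.mem_insert, Finset.mem_singleton, not_or]
          refine ⟨fun h1 => hyu h1.symm, ?_⟩
          intro h1
          have : y = 1 := by simpa using h1
          exact hy1 this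
        · simp only [Finset.mem_insert, Finset.mem_singleton, not_or]
          refine ⟨fun h1 => hu1 h1.symm, fun h1 => hy1 h1.symm, ?_⟩
          intro h1
          have h2 : u * u * y = u := by rw [mul_assoc, ← h1, mul_one]
          rw [hsq u hu, one_mul] at h2
          exact hyu h2
      intro w
      by_contra hno
      push Not at hno
      have hsub : insert (w : K) ({1, u, y, u * y} : Finset K) ⊆ Q.carrier.toFinset := by
        intro a ha
        rw [Set.mem_toFinset]
        simp only [Finset.mem_insert, Finset.mem_singleton] at ha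
        rcases ha with rfl | rfl | rfl | rfl | rfl
        · exact w.2
        · exact Q.one_mem
        · exact hu
        · exact hy
        · exact Q.mul_mem hu hy
      have h5 := Finset.card_le_card hsub
      rw [Finset.card_insert_of_notMem (by
        simp only [Finset.mem_insert, Finset.mem_singleton, not_or]
        exact ⟨hno.1, hno.2.1, hno.2.2.1, hno.2.2.2⟩)] at h5
      simp only [Finset.image_id'] at hcard
      rw [hcard] at h5
      have h6 : Q.carrier.toFinset.card = Nat.card Q := by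
        rw [Nat.card_eq_fintype_card, Set.toFinset_card]
        rfl
      rw [h6, hV.1] at h5
      omega
    rcases hall ⟨_, hgy⟩ with h1 | h1 | h1 | h1
    · exfalso
      apply hy1
      have h2 : g * y * g⁻¹ = 1 := h1
      have : y = g⁻¹ * (g * y * g⁻¹) * g := by group
      rw [this, h2]
      group
    · exfalso
      apply hyu
      have h2 : g * y * g⁻¹ = u := h1
      have h3 : y = g⁻¹ * (g * y * g⁻¹) * g := by group
      rw [h3, h2]
      have h4 : g⁻¹ * u = u * g⁻¹ := huc g⁻¹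
      rw [h4]
      group
    · exact hstep h1
    · have h2 : g * y * g⁻¹ = u * y := h1
      have e : g ^ 2 * y * (g ^ 2)⁻¹ = g * (g * y * g⁻¹) * g⁻¹ := by
        rw [sq]
        group
      rw [e, h2]
      have e2 : g * (u * y) * g⁻¹ = (g * u * g⁻¹) * (g * y * g⁻¹) := by group
      rw [e2, hgu, h2, ← mul_assoc, hsq u hu, one_mul]
  have hTC : T ≤ Subgroup.centralizer (Q : Set K) := by
    intro g hg
    rw [Subgroup.mem_centralizer_iff]
    intro y hy
    have h1 := hpow g hg y hy
    have h2 := hsq2 g hg (g ^ 3 * y * (g ^ 3)⁻¹) (by rw [h1]; exact hy)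
    have h3 : g * y * g⁻¹ = y := by
      have h4 := hsq2 g hg y hy
      have h5 : g * y * g⁻¹ = g * (g ^ 2 * y * (g ^ 2)⁻¹) * g⁻¹ := by rw [h4]
      have h6 : g * (g ^ 2 * y * (g ^ 2)⁻¹) * g⁻¹ = g ^ 3 * y * (g ^ 3)⁻¹ := by
        have e3 : g ^ 3 = g * g ^ 2 := by rw [pow_succ']
        rw [e3]
        group
      rw [h5, h6, h1]
    calc y * g = (g * y * g⁻¹) * g := by rw [h3]
      _ = g * y := by group
  have := Subgroup.relIndex_eq_one.mpr hTC
  omega

end Klein

section Cen

variable {G : Type u} [Group G] {D : Subgroup G} {x t : G} {N : ℕ}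

/-- A rotation commuting with a reflection is `1` or `z`. -/
lemma SDD.comm_refl [Finite G] (h : SDD D x t N) {r s : ℕ} (hc : x ^ r * (t * x ^ s) = (t * x ^ s) * x ^ r) :
    x ^ r = 1 ∨ x ^ r = x ^ N := by
  classical
  letI : Fintype G := Fintype.ofFinite G
  have hNpos := h.N_pos
  have h1 : x ^ (r * (N - 1)) = x ^ r := by
    have h2 : (t * x ^ s) * x ^ r * (t * x ^ s)⁻¹ = x ^ (r * (N - 1)) := by
      have h3 : x ^ s * x ^ r = x ^ r * x ^ s := h.x_mul_comm s r
      calc (t * x ^ s) * x ^ r * (t * x ^ s)⁻¹ = t * (x ^ s * x ^ r) * (x ^ s)⁻¹ * t⁻¹ := by group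
        _ = t * x ^ r * t⁻¹ := by rw [h3]; group
        _ = _ := h.tc r
    rw [← h2, ← hc]
    group
  have hmod : x ^ r = x ^ (r % (2 * N)) := by
    rw [← h.hxo, pow_mod_orderOf]
  have hmodN : x ^ (r * (N - 1)) = x ^ ((r % (2 * N)) * (N - 1)) := by
    rw [pow_mul, hmod, ← pow_mul]
  rw [hmodN, hmod] at h1
  rcases h.rot_fixed (Nat.mod_lt _ (by omega)) h1 with h2 | h2
  · left
    rw [hmod, h2, pow_zero]
  · right
    rw [hmod, h2]

/-- The centralizer in `D` of a noncentral involution. -/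
lemma SDD.cen_klein [Finite G] (h : SDD D x t N) {v : G} (hv : v ∈ D) (hvv : v * v = 1) (hv1 : v ≠ 1) (hvz : v ≠ x ^ N)
    {g : G} (hg : g ∈ D) (hc : g * v = v * g) : g = 1 ∨ g = x ^ N ∨ g = v ∨ g = x ^ N * v := by
  classical
  obtain ⟨c, rfl⟩ : ∃ c : ℕ, v = t * x ^ (2 * c) := by
    rcases h.invol_cases hv hvv hv1 with h1 | ⟨c, h1⟩
    · exact absurd h1 hvz
    · exact ⟨c, h1⟩
  set s := 2 * c with hs
  rcases h.hcov g hg with ⟨r, rfl⟩ | ⟨r, rfl⟩
  · rcases h.comm_refl hc with h1 | h1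
    · exact Or.inl h1
    · exact Or.inr (Or.inl h1)
  · have h1 : (t * x ^ r) * (t * x ^ s)⁻¹ ∈ Subgroup.zpowers x := by
      have h2 : (t * x ^ r) * (t * x ^ s)⁻¹ = (t * x ^ r * t⁻¹) * (t * x ^ s * t⁻¹)⁻¹ := by group
      rw [h2, h.tc, h.tc]
      exact Subgroup.mul_mem _ (Subgroup.pow_mem _ (Subgroup.mem_zpowers x) _)
        (Subgroup.inv_mem _ (Subgroup.pow_mem _ (Subgroup.mem_zpowers x) _))
    obtain ⟨k, hk⟩ := (mem_powers_iff_mem_zpowers).mpr h1
    replace hk : x ^ k = (t * x ^ r) * (t * x ^ s)⁻¹ := hk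
    have h3 : x ^ k * (t * x ^ s) = (t * x ^ s) * x ^ k := by
      rw [hk]
      have e1 : (t * x ^ r) * (t * x ^ s)⁻¹ * (t * x ^ s) = t * x ^ r := by group
      rw [e1]
      calc t * x ^ r = (t * x ^ s) * (t * x ^ s)⁻¹ * (t * x ^ r) := by group
        _ = (t * x ^ s) * ((t * x ^ s)⁻¹ * (t * x ^ r)) := by group
        _ = _ := by
          congr 1
          apply mul_right_cancel (b := t * x ^ s)
          calc (t * x ^ s)⁻¹ * (t * x ^ r) * (t * x ^ s) = (t * x ^ s)⁻¹ * ((t * x ^ r) * (t * x ^ s)) := by group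
            _ = (t * x ^ s)⁻¹ * ((t * x ^ s) * (t * x ^ r)) := by rw [hc]
            _ = t * x ^ r := by group
            _ = _ := by group
    have h5 : t * x ^ r = x ^ k * (t * x ^ s) := by
      rw [hk]
      group
    rcases h.comm_refl h3 with h4 | h4
    · right
      right
      left
      rw [h5, h4, one_mul]
    · right
      right
      right
      rw [h5, h4]

/-- The centralizers in `D` of the elements with nontrivial square are cyclic. -/
theorem SDD.cen_cyclic [Finite G] (h : SDD D x t N) {v : G} (hv : v ∈ D) (hvv : v * v ≠ 1) :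
    IsCyclic ↥(D ⊓ Subgroup.centralizer ((Subgroup.zpowers v : Subgroup G) : Set G)) := by
  classical
  have hcomm : ∀ g, g ∈ D ⊓ Subgroup.centralizer ((Subgroup.zpowers v : Subgroup G) : Set G) → g * v = v * g := by
    intro g hg
    exact (Subgroup.mem_centralizer_iff.mp hg.2 v (Subgroup.mem_zpowers v)).symm
  have hzv := h.zz_mem_zpowers_of_sq hv hvv
  rcases h.hcov v hv with ⟨s, rfl⟩ | ⟨s, rfl⟩
  · apply Subgroup.isCyclic_of_le (H' := Subgroup.zpowers x)
    intro g hg
    rcases h.hcov g hg.1 with ⟨r, rfl⟩ | ⟨r, rfl⟩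
    · exact Subgroup.pow_mem _ (Subgroup.mem_zpowers x) r
    · exfalso
      have h1 := hcomm _ hg
      rcases h.comm_refl h1.symm with h2 | h2
      · apply hvv
        rw [h2, one_mul]
      · apply hvv
        rw [h2]
        exact h.zz_sq
  · apply Subgroup.isCyclic_of_le (H' := Subgroup.zpowers (t * x ^ s))
    have hrot : ∀ r : ℕ, x ^ r * (t * x ^ s) = (t * x ^ s) * x ^ r → x ^ r ∈ Subgroup.zpowers (t * x ^ s) := by
      intro r hr
      rcases h.comm_refl hr with h2 | h2
      · rw [h2]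
        exact Subgroup.one_mem _
      · rw [h2]
        exact hzv
    intro g hg
    rcases h.hcov g hg.1 with ⟨r, rfl⟩ | ⟨r, rfl⟩
    · exact hrot r (hcomm _ hg)
    · -- the quotient is a rotation
      have h1 : (t * x ^ r) * (t * x ^ s)⁻¹ ∈ Subgroup.zpowers x := by
        have h2 : (t * x ^ r) * (t * x ^ s)⁻¹ = (t * x ^ r * t⁻¹) * (t * x ^ s * t⁻¹)⁻¹ := by group
        rw [h2, h.tc, h.tc]
        exact Subgroup.mul_mem _ (Subgroup.pow_mem _ (Subgroup.mem_zpowers x) _)
          (Subgroup.inv_mem _ (Subgroup.pow_mem _ (Subgroup.mem_zpowers x) _))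
      obtain ⟨k, hk⟩ := (mem_powers_iff_mem_zpowers).mpr h1
      replace hk : x ^ k = (t * x ^ r) * (t * x ^ s)⁻¹ := hk
      have h2 := hcomm _ hg
      have h3 : x ^ k * (t * x ^ s) = (t * x ^ s) * x ^ k := by
        rw [hk]
        have e1 : (t * x ^ r) * (t * x ^ s)⁻¹ * (t * x ^ s) = t * x ^ r := by group
        rw [e1]
        calc t * x ^ r = (t * x ^ s) * (t * x ^ s)⁻¹ * (t * x ^ r) := by group
          _ = (t * x ^ s) * ((t * x ^ s)⁻¹ * (t * x ^ r)) := by group
          _ = _ := by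
            congr 1
            apply mul_right_cancel (b := t * x ^ s)
            calc (t * x ^ s)⁻¹ * (t * x ^ r) * (t * x ^ s) = (t * x ^ s)⁻¹ * ((t * x ^ r) * (t * x ^ s)) := by group
              _ = (t * x ^ s)⁻¹ * ((t * x ^ s) * (t * x ^ r)) := by rw [h2]
              _ = t * x ^ r := by group
              _ = _ := by group
      have h4 := hrot k h3
      rw [hk] at h4
      have h5 : t * x ^ r = ((t * x ^ r) * (t * x ^ s)⁻¹) * (t * x ^ s) := by group
      rw [h5]
      exact Subgroup.mul_mem _ h4 (Subgroup.mem_zpowers _)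

end Cen

section Sect

variable {G : Type u} [Group G] [Fintype G] {M : Ideal AlgInt} [hM : M.IsPrime]
  {B : Set (IrrCharacter G)} {D : Subgroup G} {e : Set (IrrCharacter (Subgroup.centralizer (D : Set G)))}
  {x t : G} {N : ℕ}

/-- **The local blocks have rank one**, when they do not fuse to the central involution. -/
theorem blockRank_eBlk_of (hMp : IsPModular 2 M) (hmax : IsMaximalBrauerPair 2 M B D e) (h : SDD D x t N)
    {v : G} (hv : v ∈ D) (hv1 : v ≠ 1)
    (hvzz : ∀ x₀ : G, SubpairLE 2 M ((Subgroup.zpowers v).map (MulAut.conj x₀).toMonoidHom)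
      (conjBlock (Subgroup.zpowers v) x₀ (eBlk M 2 D e v)) D e → x₀ * v * x₀⁻¹ ≠ x ^ N) :
    blockRank 2 (eBlk M 2 D e v) = 1 := by
  classical
  haveI : Fact (Nat.Prime 2) := ⟨Nat.prime_two⟩
  have hPe := hmax.1.1
  have hf := isPBlock_eBlk hMp hPe hv
  obtain ⟨x₀, hle, hdef⟩ := exists_conj_isDefectGroup_centralizer hMp hmax
    ((Subgroup.zpowers_le).mpr hv) hf (eBlk_spec hMp hPe hv)
  have hv' : x₀ * v * x₀⁻¹ ∈ D := SubpairLE.le hle (by
    rw [zpowers_map_conj]
    exact Subgroup.mem_zpowers _)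
  have hv1' : x₀ * v * x₀⁻¹ ≠ 1 := by
    intro h1
    apply hv1
    have : v = x₀⁻¹ * (x₀ * v * x₀⁻¹) * x₀ := by group
    rw [this, h1]
    group
  have hvz' : x₀ * v * x₀⁻¹ ≠ x ^ N := hvzz x₀ hle
  have hA : (Subgroup.zpowers v).map (MulAut.conj x₀).toMonoidHom = Subgroup.zpowers (x₀ * v * x₀⁻¹) := zpowers_map_conj x₀ v
  set A : Subgroup G := (Subgroup.zpowers v).map (MulAut.conj x₀).toMonoidHom with hAdef
  have hmem : x₀ * v * x₀⁻¹ ∈ Subgroup.centralizer (A : Set G) := by
    rw [hA, Subgroup.mem_centralizer_iff]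
    intro g hg
    obtain ⟨k, rfl⟩ := Subgroup.mem_zpowers_iff.mp hg
    exact ((Commute.refl _).zpow_left k).eq
  have hfc : IsPBlock M (conjBlock (Subgroup.zpowers v) x₀ (eBlk M 2 D e v)) :=
    (isBrauerPair_of_subpairLE hPe hle).2
  have h1 : blockRank 2 (conjBlock (Subgroup.zpowers v) x₀ (eBlk M 2 D e v)) = 1 := by
    by_cases hvv : (x₀ * v * x₀⁻¹) * (x₀ * v * x₀⁻¹) = 1
    · -- a noncentral involution
      set u : Subgroup.centralizer (A : Set G) := ⟨x₀ * v * x₀⁻¹, hmem⟩ with hu
      have hcom : ∀ g ∈ D ⊓ Subgroup.centralizer (A : Set G), g * (x₀ * v * x₀⁻¹) = (x₀ * v * x₀⁻¹) * g := by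
        intro g hg
        have h2 := Subgroup.mem_centralizer_iff.mp hg.2 (x₀ * v * x₀⁻¹) (by rw [hA]; exact Subgroup.mem_zpowers _)
        exact h2.symm
      have hall : ∀ g ∈ D ⊓ Subgroup.centralizer (A : Set G),
          g = 1 ∨ g = x ^ N ∨ g = x₀ * v * x₀⁻¹ ∨ g = x ^ N * (x₀ * v * x₀⁻¹) := fun g hg =>
        h.cen_klein hv' hvv hv1' hvz' hg.1 (hcom g hg)
      have hin : ∀ g, g ∈ D → (g * (x₀ * v * x₀⁻¹) = (x₀ * v * x₀⁻¹) * g) → g ∈ D ⊓ Subgroup.centralizer (A : Set G) := by
        intro g hg hc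
        refine ⟨hg, ?_⟩
        show g ∈ Subgroup.centralizer (A : Set G)
        rw [hA, Subgroup.mem_centralizer_iff]
        intro y hy
        obtain ⟨k, rfl⟩ := Subgroup.mem_zpowers_iff.mp hy
        exact ((show Commute g (x₀ * v * x₀⁻¹) from hc).symm.zpow_left k).eq
      have hcQ : ∀ g ∈ D ⊓ Subgroup.centralizer (A : Set G), g * g = 1 := by
        intro g hg
        rcases hall g hg with rfl | rfl | rfl | rfl
        · simp
        · exact h.zz_sq
        · exact hvv
        · have h2 := h.zz_comm hv'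
          calc x ^ N * (x₀ * v * x₀⁻¹) * (x ^ N * (x₀ * v * x₀⁻¹))
              = x ^ N * ((x₀ * v * x₀⁻¹) * x ^ N) * (x₀ * v * x₀⁻¹) := by group
            _ = x ^ N * (x ^ N * (x₀ * v * x₀⁻¹)) * (x₀ * v * x₀⁻¹) := by rw [h2]
            _ = (x ^ N * x ^ N) * ((x₀ * v * x₀⁻¹) * (x₀ * v * x₀⁻¹)) := by group
            _ = 1 := by rw [h.zz_sq, hvv, one_mul]
      have hzne : x ^ N * (x₀ * v * x₀⁻¹) ≠ 1 := by
        intro h2
        apply hvz'
        have h3 := eq_inv_of_mul_eq_one_right h2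
        rw [h3, h.zz_inv]
      have hcard : Nat.card (D ⊓ Subgroup.centralizer (A : Set G) : Subgroup G) = 4 := by
        set S : Finset G := {1, x ^ N, x₀ * v * x₀⁻¹, x ^ N * (x₀ * v * x₀⁻¹)} with hS
        have hScard : S.card = 4 := by
          rw [hS, Finset.card_insert_of_notMem, Finset.card_insert_of_notMem, Finset.card_pair]
          · intro h2
            have : x ^ N = 1 := by simpa using h2
            exact h.zz_ne_one this
          · simp only [Finset.mem_insert, Finset.mem_singleton, not_or]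
            refine ⟨fun h2 => hvz' h2.symm, fun h2 => hv1' (by simpa using h2)⟩
          · simp only [Finset.mem_insert, Finset.mem_singleton, not_or]
            exact ⟨fun h2 => h.zz_ne_one h2.symm, fun h2 => hv1' h2.symm, fun h2 => hzne h2.symm⟩
        have hset : ((D ⊓ Subgroup.centralizer (A : Set G) : Subgroup G) : Set G) = (S : Set G) := by
          ext g
          simp only [SetLike.mem_coe, hS, Finset.coe_insert, Finset.coe_singleton, Set.mem_insert_iff,
            Set.mem_singleton_iff]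
          constructor
          · exact hall g
          · rintro (rfl | rfl | rfl | rfl)
            · exact Subgroup.one_mem _
            · exact hin _ h.zz_mem (h.zz_comm hv').symm
            · exact hin _ hv' rfl
            · refine hin _ (D.mul_mem h.zz_mem hv') ?_
              have h2 := h.zz_comm hv'
              calc x ^ N * (x₀ * v * x₀⁻¹) * (x₀ * v * x₀⁻¹) = ((x₀ * v * x₀⁻¹) * x ^ N) * (x₀ * v * x₀⁻¹) := by rw [h2]
                _ = _ := by rw [mul_assoc]
        have h5 : Nat.card (D ⊓ Subgroup.centralizer (A : Set G) : Subgroup G) = Nat.card (S : Set G) := by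
          show Nat.card ((D ⊓ Subgroup.centralizer (A : Set G) : Subgroup G) : Set G) = _
          rw [hset]
        rw [h5, Nat.card_coe_set_eq, Set.ncard_coe_finset, hScard]
      let ι := Subgroup.subgroupOfEquivOfLe (H := D ⊓ Subgroup.centralizer (A : Set G))
        (K := Subgroup.centralizer (A : Set G)) inf_le_right
      have hV : IsKleinFour ↥((D ⊓ Subgroup.centralizer (A : Set G)).subgroupOf (Subgroup.centralizer (A : Set G))) := by
        refine isKleinFour_of ?_ ?_
        · rw [Nat.card_congr ι.toEquiv, hcard]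
        · intro g
          apply Subtype.ext
          apply Subtype.ext
          exact hcQ _ (Subgroup.mem_subgroupOf.mp g.2)
      refine blockRank_one_of_klein hMp hfc hdef hV (u := u) ?_ ?_ ?_
      · exact Subgroup.mem_subgroupOf.mpr (hin _ hv' rfl)
      · intro h2
        exact hv1' (congrArg Subtype.val h2)
      · intro g
        apply Subtype.ext
        have hvA : x₀ * v * x₀⁻¹ ∈ A := by
          rw [hA]
          exact Subgroup.mem_zpowers _
        exact (Subgroup.mem_centralizer_iff.mp g.2 (x₀ * v * x₀⁻¹) hvA).symm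
    · have hcyc := h.cen_cyclic hv' hvv
      rw [← hA] at hcyc
      have hcyc2 : IsCyclic ↥((D ⊓ Subgroup.centralizer (A : Set G)).subgroupOf (Subgroup.centralizer (A : Set G))) := by
        let ι := Subgroup.subgroupOfEquivOfLe (H := D ⊓ Subgroup.centralizer (A : Set G))
          (K := Subgroup.centralizer (A : Set G)) inf_le_right
        exact isCyclic_of_injective ι.toMonoidHom ι.injective
      have hne : ((D ⊓ Subgroup.centralizer (A : Set G)).subgroupOf (Subgroup.centralizer (A : Set G))) ≠ ⊥ := by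
        intro h0
        have h1 : (⟨x₀ * v * x₀⁻¹, hmem⟩ : Subgroup.centralizer (A : Set G)) ∈
            ((D ⊓ Subgroup.centralizer (A : Set G)).subgroupOf (Subgroup.centralizer (A : Set G))) := by
          rw [Subgroup.mem_subgroupOf]
          exact ⟨hv', hmem⟩
        rw [h0, Subgroup.mem_bot] at h1
        exact hv1' (congrArg Subtype.val h1)
      exact blockRank_eq_one_of_cyclic hMp hfc hdef hcyc2 hne
  rw [conjBlock_eq_conjB, conjB, Cfsg.Agent.Lib.Blocks.AbelianCount.blockRank_blockMap] at h1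
  exact h1

/-- **The local blocks have rank one.** -/
theorem blockRank_eBlk (hMp : IsPModular 2 M) (hmax : IsMaximalBrauerPair 2 M B D e) (h : SDD D x t N)
    {v : G} (hv : v ∈ D) (hv1 : v ≠ 1) (hvz : v ≠ x ^ N) (hz : ∀ g : G, g * x ^ N = x ^ N * g) :
    blockRank 2 (eBlk M 2 D e v) = 1 := by
  refine blockRank_eBlk_of hMp hmax h hv hv1 fun x₀ _ h1 => ?_
  apply hvz
  have h2 : v = x₀⁻¹ * (x₀ * v * x₀⁻¹) * x₀ := by group
  rw [h2, h1, hz x₀⁻¹]
  group

/-- Idempotents of blocks of equal subgroups, with the value condition. -/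
lemma EE_eq_aux (K₁ K₂ : Subgroup G) (hK : K₁ = K₂) (f : Set (IrrCharacter K₁)) (g : Set (IrrCharacter K₂))
    [Fintype K₂] (hf : IsPBlock M f) (hg : IsPBlock M g)
    (hval : ∀ ξ ∈ g, MemLocalIdeal M (omega (ξ : K₂ → ℂ) (res K₂ (EE K₁ f)) - 1)) : EE K₁ f = EE K₂ g := by
  classical
  subst hK
  obtain ⟨ξ, hξ⟩ := isPBlock_nonempty hg
  have h1 := hval ξ hξ
  rw [res_EE] at h1
  have heq : f = g := by
    by_contra hne
    have hξf : ξ ∉ f := by
      intro hm
      have : ξ ∈ f ∩ g := ⟨hm, hξ⟩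
      rw [Pairs.disjoint_of_isPBlock hf hg hne] at this
      exact this
    rw [omega_blockElt_of_notMem hξf, zero_sub] at h1
    apply not_memLocalIdeal_one (M := M)
    simpa using memLocalIdeal_neg h1
  rw [heq]

/-- A normal step with the same centralizer does not change the idempotent. -/
lemma EE_eq_of_normal {Q R : Subgroup G} (hC : Subgroup.centralizer (Q : Set G) = Subgroup.centralizer (R : Set G))
    {f : Set (IrrCharacter (Subgroup.centralizer (Q : Set G)))} {g : Set (IrrCharacter (Subgroup.centralizer (R : Set G)))}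
    [Fintype (Subgroup.centralizer (R : Set G))] {p : ℕ} [Fact p.Prime]
    (hn : IsNormalSubpair p M Q f R g) :
    EE (Subgroup.centralizer (Q : Set G)) f = EE (Subgroup.centralizer (R : Set G)) g := by
  obtain ⟨hf, hg, -, -, -, hval⟩ := isNormalSubpair_iff.mp hn
  exact EE_eq_aux _ _ hC f g hf.2 hg.2 hval

/-- **The idempotent below `(D, e)` at `z v` is that at `v`, for `z` central in `G`.** -/
theorem Ev_mul_central (hMp : IsPModular 2 M) (hPe : IsBrauerPair 2 M D e) {z v : G} (hz : ∀ g : G, g * z = z * g)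
    (hzD : z ∈ D) (hvD : v ∈ D) : Ev M 2 D e (z * v) = Ev M 2 D e v := by
  classical
  haveI : Fact (Nat.Prime 2) := ⟨Nat.prime_two⟩
  set V : Subgroup G := Subgroup.zpowers v ⊔ Subgroup.zpowers z with hV
  have hVD : V ≤ D := sup_le ((Subgroup.zpowers_le).mpr hvD) ((Subgroup.zpowers_le).mpr hzD)
  obtain ⟨g, hg, hgle⟩ := exists_subpairLE hMp hPe hVD
  have hVp : IsBrauerPair 2 M V g := isBrauerPair_of_subpairLE hPe hgle
  have hzcen : ∀ y : G, ∀ a ∈ Subgroup.zpowers z, a * y = y * a := by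
    intro y a ha
    obtain ⟨k, rfl⟩ := Subgroup.mem_zpowers_iff.mp ha
    exact ((show Commute z y from (hz y).symm).zpow_left k).eq
  -- the centralizers
  have hCv : Subgroup.centralizer ((Subgroup.zpowers v : Subgroup G) : Set G) = Subgroup.centralizer (V : Set G) := by
    apply le_antisymm
    · intro c hc
      have hcc : c ∈ Subgroup.centralizer ((Subgroup.zpowers z : Subgroup G) : Set G) := by
        rw [Subgroup.mem_centralizer_iff]
        intro a ha
        exact hzcen c a ha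
      have h1 : V ≤ Subgroup.centralizer ({c} : Set G) := by
        refine sup_le ?_ ?_
        · intro a ha
          rw [Subgroup.mem_centralizer_iff]
          rintro _ rfl
          exact (Subgroup.mem_centralizer_iff.mp hc a ha).symm
        · intro a ha
          rw [Subgroup.mem_centralizer_iff]
          rintro _ rfl
          exact (Subgroup.mem_centralizer_iff.mp hcc a ha).symm
      rw [Subgroup.mem_centralizer_iff]
      intro a ha
      have h2 := Subgroup.mem_centralizer_iff.mp (h1 ha) c rfl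
      exact h2.symm
    · exact Subgroup.centralizer_le (le_sup_left : Subgroup.zpowers v ≤ V)
  have hzv : ∀ c : G, (∀ a ∈ Subgroup.zpowers (z * v), a * c = c * a) ↔ (∀ a ∈ Subgroup.zpowers v, a * c = c * a) := by
    intro c
    have hcom : Commute c z := (hz c)
    constructor
    · intro h a ha
      obtain ⟨k, rfl⟩ := Subgroup.mem_zpowers_iff.mp ha
      have h1 := h (z * v) (Subgroup.mem_zpowers _)
      have h2 : v * c = c * v := by
        apply mul_left_cancel (a := z)
        calc z * (v * c) = (z * v) * c := by group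
          _ = c * (z * v) := h1
          _ = (c * z) * v := by group
          _ = (z * c) * v := by rw [hcom.eq]
          _ = z * (c * v) := by group
      exact ((show Commute v c from h2).zpow_left k).eq
    · intro h a ha
      obtain ⟨k, rfl⟩ := Subgroup.mem_zpowers_iff.mp ha
      have h1 := h v (Subgroup.mem_zpowers _)
      have h2 : (z * v) * c = c * (z * v) := by
        calc (z * v) * c = z * (v * c) := by group
          _ = z * (c * v) := by rw [h1]
          _ = (z * c) * v := by group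
          _ = (c * z) * v := by rw [hcom.eq]
          _ = c * (z * v) := by group
      exact ((show Commute (z * v) c from h2).zpow_left k).eq
  have hCzv : Subgroup.centralizer ((Subgroup.zpowers (z * v) : Subgroup G) : Set G) = Subgroup.centralizer (V : Set G) := by
    rw [← hCv]
    ext c
    rw [Subgroup.mem_centralizer_iff, Subgroup.mem_centralizer_iff]
    exact hzv c
  -- the abelian group `V`
  have hVc : ∀ w : G, (w = v ∨ w = z * v) → ∀ y ∈ V, y * w = w * y := by
    intro w hw y hy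
    have hvw : v * w = w * v := by
      rcases hw with rfl | rfl
      · rfl
      · rw [← mul_assoc, hz v, mul_assoc]
    have hle : V ≤ Subgroup.centralizer ({w} : Set G) := by
      refine sup_le ((Subgroup.zpowers_le).mpr ?_) ((Subgroup.zpowers_le).mpr ?_)
      · rw [Subgroup.mem_centralizer_iff]
        rintro _ rfl
        exact hvw.symm
      · rw [Subgroup.mem_centralizer_iff]
        rintro _ rfl
        exact hz _
    exact (Subgroup.mem_centralizer_iff.mp (hle hy) w rfl).symm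
  have hNv : V ≤ Subgroup.normalizer ((Subgroup.zpowers v : Subgroup G) : Set G) := fun y hy =>
    mem_norm_of_comm (Subgroup.mem_zpowers v) (hVc v (Or.inl rfl) y hy)
  have hNzv : V ≤ Subgroup.normalizer ((Subgroup.zpowers (z * v) : Subgroup G) : Set G) := fun y hy =>
    mem_norm_of_comm (Subgroup.mem_zpowers (z * v)) (hVc (z * v) (Or.inr rfl) y hy)
  have hQv : Subgroup.zpowers v ≤ V := le_sup_left
  have hQzv : Subgroup.zpowers (z * v) ≤ V := by
    rw [Subgroup.zpowers_le]
    exact V.mul_mem (Subgroup.mem_sup_right (Subgroup.mem_zpowers z)) (Subgroup.mem_sup_left (Subgroup.mem_zpowers v))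
  obtain ⟨f₁, hf₁, -⟩ := existsUnique_normal_subpair hMp hVp hQv hNv
  obtain ⟨f₂, hf₂, -⟩ := existsUnique_normal_subpair hMp hVp hQzv hNzv
  have hle₁ : SubpairLE 2 M (Subgroup.zpowers v) f₁ D e := SubpairLE.trans (Relation.ReflTransGen.single hf₁) hgle
  have hle₂ : SubpairLE 2 M (Subgroup.zpowers (z * v)) f₂ D e := SubpairLE.trans (Relation.ReflTransGen.single hf₂) hgle
  letI : Fintype (Subgroup.centralizer (V : Set G)) := Fintype.ofFinite _
  unfold Ev
  rw [← eq_eBlk hMp hPe hle₁, ← eq_eBlk hMp hPe hle₂]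
  exact (EE_eq_of_normal hCzv hf₂).trans (EE_eq_of_normal hCv hf₁).symm

variable {Ψ : G → ℂ}

lemma _root_.Cfsg.Agent.Lib.Blocks.Quat.AntiF.aa_mul' (hΨ : AntiF M B (x ^ N) Ψ) (hMp : IsPModular 2 M) (hPe : IsBrauerPair 2 M D e)
    (hzD : x ^ N ∈ D) (hz : ∀ g : G, g * x ^ N = x ^ N * g) {v : G}
    (hv : v ∈ D) : aaV M D e Ψ (x ^ N * v) = -aaV M D e Ψ v := by
  unfold aaV
  rw [Ev_mul_central hMp hPe hz hzD hv, hΨ.twTrace_mul hz]

/-- The values at the reflections vanish. -/
lemma _root_.Cfsg.Agent.Lib.Blocks.Quat.AntiF.aa_refl (hΨ : AntiF M B (x ^ N) Ψ) (hMp : IsPModular 2 M) (hPe : IsBrauerPair 2 M D e)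
    (h : SDD D x t N) (hz : ∀ g : G, g * x ^ N = x ^ N * g) (s : ℕ) : aaV M D e Ψ (t * x ^ s) = 0 := by
  have hv : t * x ^ s ∈ D := D.mul_mem h.htD (D.pow_mem h.hxD s)
  have h4 := hΨ.aa_conj hMp hPe hv (D.pow_mem h.hxD (N / 2))
  have h5 := h.ww_refl s
  simp only [QuatD.ww] at h5
  rw [h5, hΨ.aa_mul' hMp hPe h.zz_mem hz hv] at h4
  have h7 : (2 : ℂ) * aaV M D e Ψ (t * x ^ s) = 0 := by
    linear_combination -h4
  simpa using h7

/-- **The values at the identity vanish.** -/
theorem _root_.Cfsg.Agent.Lib.Blocks.Quat.AntiF.aa_eq_zero' (hΨ : AntiF M B (x ^ N) Ψ) (hMp : IsPModular 2 M) (hPe : IsBrauerPair 2 M D e)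
    (h : SDD D x t N) (hz : ∀ g : G, g * x ^ N = x ^ N * g)
    (h2 : ∀ l : ℕ, 0 < l → l < N / 2 → aaV M D e Ψ (x ^ l) = 0) {v : G} (hv : v ∈ D) (hv1 : v ≠ 1) (hvz : v ≠ x ^ N) :
    aaV M D e Ψ v = 0 := by
  have hNhalf := h.half_add
  have hNpos := h.N_pos
  obtain ⟨c, hc⟩ := h.N_four
  have haaz : ∀ s : ℕ, aaV M D e Ψ (x ^ (N + s)) = - aaV M D e Ψ (x ^ s) := by
    intro s
    rw [pow_add]
    exact hΨ.aa_mul' hMp hPe h.zz_mem hz (D.pow_mem h.hxD s)
  have haat : ∀ s : ℕ, aaV M D e Ψ (x ^ (s * (N - 1))) = aaV M D e Ψ (x ^ s) := by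
    intro s
    rw [← h.tc s]
    exact hΨ.aa_conj hMp hPe (D.pow_mem h.hxD s) h.htD
  -- the exponents
  have hexp_even : ∀ s : ℕ, s % 2 = 0 → s ≤ N → x ^ (s * (N - 1)) = x ^ (N + (N - s)) := by
    intro s hs hsN
    have hpw : s * (N - 1) + s = s * N := by
      obtain ⟨c', hc'⟩ : ∃ c', N = c' + 1 := ⟨N - 1, by omega⟩
      subst hc'
      simp only [Nat.add_sub_cancel]
      ring
    obtain ⟨q, rfl⟩ : ∃ q, s = 2 * q := ⟨s / 2, by omega⟩
    apply mul_right_cancel (b := x ^ (2 * q))
    rw [← pow_add, hpw, ← pow_add, h.pow_even_N, show N + (N - 2 * q) + 2 * q = 2 * N by omega, h.x_pow_two_N]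
  have hexp_odd : ∀ s : ℕ, s % 2 = 1 → s ≤ N → x ^ (s * (N - 1)) = x ^ (N - s) := by
    intro s hs hsN
    have hpw : s * (N - 1) + s = s * N := by
      obtain ⟨c', hc'⟩ : ∃ c', N = c' + 1 := ⟨N - 1, by omega⟩
      subst hc'
      simp only [Nat.add_sub_cancel]
      ring
    obtain ⟨q, rfl⟩ : ∃ q, s = 2 * q + 1 := ⟨s / 2, by omega⟩
    apply mul_right_cancel (b := x ^ (2 * q + 1))
    rw [← pow_add, hpw, ← pow_add, h.pow_odd_N, show N - (2 * q + 1) + (2 * q + 1) = N by omega]
  -- the rotations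
  have hrot1 : ∀ s : ℕ, 0 < s → s < N → aaV M D e Ψ (x ^ s) = 0 := by
    intro s hs0 hsN
    rcases lt_trichotomy s (N / 2) with h3 | h3 | h3
    · exact h2 s hs0 h3
    · -- order four
      have h4 := haat s
      have heven : s % 2 = 0 := by omega
      rw [hexp_even s heven hsN.le, haaz, show N - s = s by omega] at h4
      have h7 : (2 : ℂ) * aaV M D e Ψ (x ^ s) = 0 := by
        linear_combination -h4
      simpa using h7
    · have h5 : aaV M D e Ψ (x ^ (N - s)) = 0 := h2 (N - s) (by omega) (by omega)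
      have h4 := haat s
      rcases Nat.mod_two_eq_zero_or_one s with hp | hp
      · rw [hexp_even s hp hsN.le, haaz, h5] at h4
        rw [← h4]
        simp
      · rw [hexp_odd s hp hsN.le, h5] at h4
        exact h4.symm
  rcases h.hcov v hv with ⟨s, rfl⟩ | ⟨s, rfl⟩
  · -- reduction of the exponent
    have hs : x ^ s = x ^ (s % (2 * N)) := by
      rw [← h.hxo, pow_mod_orderOf]
    rw [hs] at hv1 hvz ⊢
    have hlt : s % (2 * N) < 2 * N := Nat.mod_lt _ (by omega)
    generalize s % (2 * N) = r at hv1 hvz hlt ⊢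
    have hr0 : 0 < r := by
      rcases Nat.eq_zero_or_pos r with rfl | h3
      · simp at hv1
      · exact h3
    have hrN : r ≠ N := by
      rintro rfl
      exact hvz rfl
    rcases lt_or_gt_of_ne hrN with h3 | h3
    · exact hrot1 r hr0 h3
    · have h4 := haaz (r - N)
      rw [show N + (r - N) = r by omega, hrot1 (r - N) (by omega) (by omega)] at h4
      simpa using h4
  · exact hΨ.aa_refl hMp hPe h hz s

/-- **A section vanishes by the rank one of the local block, if the value at the identity does.** -/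
theorem _root_.Cfsg.Agent.Lib.Blocks.Quat.AntiF.section_zero_of (hΨ : AntiF M B (x ^ N) Ψ) (hMp : IsPModular 2 M) (hmax : IsMaximalBrauerPair 2 M B D e)
    (h : SDD D x t N) (hz : ∀ g : G, g * x ^ N = x ^ N * g) {v : G} (hv : v ∈ D) (hv1 : v ≠ 1) (hvz : v ≠ x ^ N)
    (ha : aaV M D e Ψ v = 0)
    {c : G} (hc : c ∈ Kz v) (hreg : ¬ 2 ∣ orderOf c) : twTrace Ψ (v * c) (Ev M 2 D e v) = 0 := by
  classical
  letI : Fintype (Kz v) := Fintype.ofFinite _
  have hPe := hmax.1.1
  have hK : ∀ k ∈ Kz v, k * v = v * k := fun k hk =>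
    (Subgroup.mem_centralizer_iff.mp hk v (Subgroup.mem_zpowers v)).symm
  have hrank := blockRank_eBlk hMp hmax h hv hv1 hvz hz
  have hblk := isPBlock_eBlk hMp hPe hv
  obtain ⟨ϑ₀, hϑ₀⟩ := isPBlock_nonempty hblk
  set f := eBlk M 2 D e v with hfdef
  let φ : Kz v → ℂ := fun k => Ψ (v * k)
  have hτ : reg 2 (blockPart f φ) ∈ regSpan 2 f := reg_blockPart_mem f φ
  have hρ : reg 2 (ϑ₀ : Kz v → ℂ) ∈ regSpan 2 f :=
    Submodule.subset_span ⟨ϑ₀, hϑ₀, Cfsg.Agent.Lib.Blocks.Cartan.pRegularPart_eq_reg _ _⟩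
  have h1reg : ¬ 2 ∣ orderOf (1 : Kz v) := by
    rw [orderOf_one]
    norm_num
  have hρ1 : reg 2 (ϑ₀ : Kz v → ℂ) 1 ≠ 0 := by
    rw [reg_of_not_dvd _ h1reg]
    exact Cfsg.Agent.Lib.Char.Ortho.irr_apply_one_ne_zero ϑ₀.2
  have hne : (⟨_, hρ⟩ : regSpan 2 f) ≠ 0 := by
    intro h0
    have h3 := congrArg (fun u : regSpan 2 f => (u : Kz v → ℂ) 1) h0
    exact hρ1 h3
  have hrank' : Module.finrank ℂ (regSpan 2 f) = 1 := hrank
  obtain ⟨a, ha'⟩ := (finrank_eq_one_iff_of_nonzero' _ hne).mp hrank' ⟨_, hτ⟩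
  have ha2 : ∀ k, a * reg 2 (ϑ₀ : Kz v → ℂ) k = reg 2 (blockPart f φ) k := by
    intro k
    have h3 := congrArg (fun u : regSpan 2 f => (u : Kz v → ℂ) k) ha'
    exact h3
  have hval : ∀ k : Kz v, twTrace Ψ (v * k) (Ev M 2 D e v) = blockPart f φ k :=
    fun k => twTrace_EE_eq_blockPart hΨ.hcl hK f k
  have hτ1 : reg 2 (blockPart f φ) 1 = 0 := by
    rw [reg_of_not_dvd _ h1reg, ← hval 1]
    have : ((1 : Kz v) : G) = 1 := rfl
    rw [this, mul_one]
    exact ha
  have ha0 : a = 0 := by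
    have h3 := ha2 1
    rw [hτ1] at h3
    exact (mul_eq_zero.mp h3).resolve_right hρ1
  have h3 := ha2 ⟨c, hc⟩
  rw [ha0, zero_mul, reg_of_not_dvd _ (by rwa [Subgroup.orderOf_mk]), ← hval] at h3
  exact h3.symm

/-- **The sections vanish, by the rank one of the local blocks.** -/
theorem _root_.Cfsg.Agent.Lib.Blocks.Quat.AntiF.section_zero' (hΨ : AntiF M B (x ^ N) Ψ) (hMp : IsPModular 2 M) (hmax : IsMaximalBrauerPair 2 M B D e)
    (h : SDD D x t N) (hz : ∀ g : G, g * x ^ N = x ^ N * g)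
    (h2 : ∀ l : ℕ, 0 < l → l < N / 2 → aaV M D e Ψ (x ^ l) = 0) {v : G} (hv : v ∈ D) (hv1 : v ≠ 1) (hvz : v ≠ x ^ N)
    {c : G} (hc : c ∈ Kz v) (hreg : ¬ 2 ∣ orderOf c) : twTrace Ψ (v * c) (Ev M 2 D e v) = 0 :=
  hΨ.section_zero_of hMp hmax h hz hv hv1 hvz (hΨ.aa_eq_zero' hMp hmax.1.1 h hz h2 hv hv1 hvz) hc hreg

/-- **A class function in the span of the block, antisymmetric under `z`, vanishing on the regular elements and
at the first sections, is zero.** -/
theorem _root_.Cfsg.Agent.Lib.Blocks.Quat.AntiF.vanish' (hΨ : AntiF M B (x ^ N) Ψ) (hMp : IsPModular 2 M) (hmax : IsMaximalBrauerPair 2 M B D e)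
    (h : SDD D x t N) (hz : ∀ g : G, g * x ^ N = x ^ N * g)
    (h1 : ∀ y : G, ¬ 2 ∣ orderOf y → Ψ y = 0)
    (h2 : ∀ l : ℕ, 0 < l → l < N / 2 → aaV M D e Ψ (x ^ l) = 0) (g : G) : Ψ g = 0 := by
  classical
  haveI : Fact (Nat.Prime 2) := ⟨Nat.prime_two⟩
  have hPe := hmax.1.1
  obtain ⟨u, y, rfl, hcomm, ⟨k, hk⟩, hreg⟩ := Cfsg.Agent.Lib.Blocks.SecondMain.exists_isPPart 2 g
  by_cases hu1 : u = 1
  · subst hu1
    rw [one_mul]
    exact h1 y hreg
  by_cases huz : u = x ^ N
  · subst huz
    rw [hΨ.hanti, h1 y hreg, neg_zero]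
  have hyK : y ∈ Kz u := mem_centralizer_zpowers_iff.mpr hcomm.symm
  rw [sum_twTrace_EE (M := M) (Kz u) Ψ (u * y)]
  refine Finset.sum_eq_zero fun f _ => ?_
  have huk : u ^ (2 ^ k) = 1 := by
    rw [← hk]
    exact pow_orderOf_eq_one u
  by_cases hpair : IsBrauerPairOf 2 M B (Subgroup.zpowers u) f.1
  · obtain ⟨x₀, hx₀⟩ := exists_conj_subpairLE hMp hmax hpair
    have h3 := transport_pair x₀ (zpowers_map_conj x₀ u) f.1 (fun A a => SubpairLE 2 M A a D e) hx₀
    have hv₀ : x₀ * u * x₀⁻¹ ∈ D := SubpairLE.le h3 (Subgroup.mem_zpowers _)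
    have h4 := eq_eBlk hMp hPe h3
    have hE : cj x₀ (EE (Kz u) f.1) = Ev M 2 D e (x₀ * u * x₀⁻¹) := by
      rw [cj_EE_conjB (map_conj_centralizer_gen x₀ (zpowers_map_conj x₀ u)), Ev, h4]
    rw [← twTrace_conj hΨ.hcl x₀, hE]
    have h5 : x₀ * (u * y) * x₀⁻¹ = (x₀ * u * x₀⁻¹) * (x₀ * y * x₀⁻¹) := by group
    rw [h5]
    refine hΨ.section_zero' hMp hmax h hz h2 hv₀ ?_ ?_ ?_ ?_
    · intro h6
      apply hu1
      have : u = x₀⁻¹ * (x₀ * u * x₀⁻¹) * x₀ := by group
      rw [this, h6]
      group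
    · intro h6
      apply huz
      have h7 : u = x₀⁻¹ * (x₀ * u * x₀⁻¹) * x₀ := by group
      rw [h7, h6, hz x₀⁻¹]
      group
    · refine mem_centralizer_zpowers_iff.mpr ?_
      have h6 : y * u = u * y := hcomm.symm.eq
      calc x₀ * y * x₀⁻¹ * (x₀ * u * x₀⁻¹) = x₀ * (y * u) * x₀⁻¹ := by group
        _ = x₀ * (u * y) * x₀⁻¹ := by rw [h6]
        _ = _ := by group
    · rwa [Nilp.orderOf_conj']
  · exact hΨ.hnp huk f.2 hpair _ (mem_regC.mpr ⟨hyK, hreg⟩)


end Sect

end Cfsg.Agent.Lib.Blocks.Semi
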