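/-
Semidihedral defect groups: the characters not containing the central involution in their kernel, from above.
-/
import Mathlib
import Cfsg.Agent.Lib.Blocks.Quat8d
import Cfsg.Agent.Lib.Blocks.Semi6
import Cfsg.Agent.Lib.Blocks.Semi8b

set_option autoImplicit false
set_option linter.style.haveILetI false

namespace Cfsg.Agent.Lib.Blocks.Semi

open Cfsg Cfsg.Agent.Lib.Blocks.Local Cfsg.Agent.Lib.Blocks.Central Cfsg.Agent.Lib.Blocks.Osima
open Cfsg.Agent.Lib.Blocks.Covering Cfsg.Agent.Lib.Blocks.BlockHom Cfsg.Agent.Lib.Blocks.Pairs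
open Cfsg.Agent.Lib.Blocks.Twisted Cfsg.Agent.Lib.Blocks.Necklace Cfsg.Agent.Lib.Blocks.Nilp
open Cfsg.Agent.Lib.Blocks.Regular Cfsg.Agent.Lib.Blocks.Sections Cfsg.Agent.Lib.Blocks.BlockCount
open Cfsg.Agent.Lib.Blocks.Transport Cfsg.Agent.Lib.Blocks.Tame Cfsg.Agent.Lib.Blocks.Quat
open scoped ComplexConjugate

universe u

section Upper

variable {G : Type u} [Group G] [Fintype G] {M : Ideal AlgInt} [hM : M.IsPrime]
  {B : Set (IrrCharacter G)} {D : Subgroup G}
  {x t : G} {N : ℕ}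

/-- **The number of characters not containing `z` in the kernel, from above.** -/
theorem card_FF_le (hMp : IsPModular 2 M) (hB : IsPBlock M B) (hD : IsDefectGroup 2 M B D) (h : SDD D x t N)
    (hz : ∀ g : G, g * x ^ N = x ^ N * g) : (FF B (x ^ N)).card ≤ blockRank 2 B + (N / 2 - 1) := by
  classical
  haveI : Fact (Nat.Prime 2) := ⟨Nat.prime_two⟩
  obtain ⟨e, hmax⟩ := Cfsg.Agent.S4552.exists_maximal_on_defect hMp hB hD
  set F := FF B (x ^ N) with hF
  let T₁ : (F → ℂ) →ₗ[ℂ] (G → ℂ) := Fintype.linearCombination ℂ (fun ξ : F => reg 2 ((ξ : IrrCharacter G) : G → ℂ))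
  have hT₁ : ∀ c g, T₁ c g = ∑ ξ : F, c ξ * reg 2 ((ξ : IrrCharacter G) : G → ℂ) g := by
    intro c g
    simp only [T₁, Fintype.linearCombination_apply, Finset.sum_apply, Pi.smul_apply, smul_eq_mul]
  have hmem : ∀ c, T₁ c ∈ regSpan 2 B := by
    intro c
    simp only [T₁, Fintype.linearCombination_apply]
    exact Submodule.sum_mem _ fun ξ _ => Submodule.smul_mem _ _
      (Submodule.subset_span ⟨ξ, (mem_FF.mp ξ.2).1, Cfsg.Agent.Lib.Blocks.Cartan.pRegularPart_eq_reg _ _⟩)
  let T₂ : (F → ℂ) →ₗ[ℂ] (Fin (N / 2 - 1) → ℂ) := LinearMap.pi fun l =>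
    Fintype.linearCombination ℂ (fun ξ : F => twTrace ((ξ : IrrCharacter G) : G → ℂ) (x ^ (l.val + 1)) (Ev M 2 D e (x ^ (l.val + 1))))
  have hT₂ : ∀ c l, T₂ c l = ∑ ξ : F, c ξ * twTrace ((ξ : IrrCharacter G) : G → ℂ) (x ^ (l.val + 1)) (Ev M 2 D e (x ^ (l.val + 1))) := by
    intro c l
    simp only [T₂, LinearMap.pi_apply, Fintype.linearCombination_apply, smul_eq_mul]
  let T : (F → ℂ) →ₗ[ℂ] (regSpan 2 B) × (Fin (N / 2 - 1) → ℂ) := (T₁.codRestrict _ hmem).prod T₂
  have hinj : Function.Injective T := by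
    rw [← LinearMap.ker_eq_bot, LinearMap.ker_eq_bot']
    intro c hc
    have hc1 : T₁ c = 0 := by
      have := congrArg (fun u => ((u.1 : regSpan 2 B) : G → ℂ)) hc
      exact this
    have hc2 : T₂ c = 0 := congrArg Prod.snd hc
    have hanti := antiF_PsiF hMp hB hz c
    apply PsiF_eq_zero
    refine hanti.vanish' hMp hmax h hz ?_ ?_
    · intro y hy
      have h3 := congrFun hc1 y
      rw [hT₁] at h3
      simp only [PsiF]
      refine Eq.trans ?_ h3
      refine Finset.sum_congr rfl fun ξ _ => ?_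
      rw [reg_of_not_dvd _ hy]
    · intro l hl0 hl
      have h3 := congrFun hc2 ⟨l - 1, by omega⟩
      rw [hT₂] at h3
      simp only [show l - 1 + 1 = l by omega] at h3
      unfold aaV
      rw [twTrace_PsiF]
      exact h3
  have h1 := LinearMap.finrank_le_finrank_of_injective hinj
  rw [Module.finrank_prod, Module.finrank_fintype_fun_eq_card, Module.finrank_fintype_fun_eq_card, Fintype.card_fin,
    Fintype.card_coe] at h1
  exact h1

end Upper

end Cfsg.Agent.Lib.Blocks.Semi
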