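/-
Semidihedral defect groups: the characters not containing the central involution in their kernel, from below; the count at the central level.
-/
import Mathlib
import Cfsg.Agent.Lib.Blocks.Semi8c
import Cfsg.Agent.Lib.Blocks.Quat9

set_option autoImplicit false
set_option linter.style.haveILetI false

namespace Cfsg.Agent.Lib.Blocks.Semi

open Cfsg Cfsg.Agent.Lib.Blocks.Local Cfsg.Agent.Lib.Blocks.Central Cfsg.Agent.Lib.Blocks.Osima
open Cfsg.Agent.Lib.Blocks.Covering Cfsg.Agent.Lib.Blocks.BlockHom Cfsg.Agent.Lib.Blocks.Pairs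
open Cfsg.Agent.Lib.Blocks.Twisted Cfsg.Agent.Lib.Blocks.Necklace Cfsg.Agent.Lib.Blocks.Nilp
open Cfsg.Agent.Lib.Blocks.Regular Cfsg.Agent.Lib.Blocks.Sections Cfsg.Agent.Lib.Blocks.BlockCount
open Cfsg.Agent.Lib.Blocks.Transport Cfsg.Agent.Lib.Blocks.Tame Cfsg.Agent.Lib.Blocks.Quat
open scoped ComplexConjugate

universe u

section Col

variable {G : Type u} [Group G] [Fintype G] {M : Ideal AlgInt} [hM : M.IsPrime]
  {K : Subgroup G} [Fintype K] {b : Set (IrrCharacter K)} {P : Subgroup K}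
  {e : Set (IrrCharacter (Subgroup.centralizer (P : Set K)))} {χ₀ : IrrCharacter K}
  {L : IrrCharacter K → IrrCharacter P}

namespace SCol

variable {B : Set (IrrCharacter G)} {x₀ t₀ : P} {N k : ℕ} (h : SCol M B K b P e χ₀ L x₀ t₀ N k)
include h

/-- **The parity of the columns.** -/
theorem F_parity (hz : ∀ g : G, g * (((x₀ ^ N : P) : K) : G) = (((x₀ ^ N : P) : K) : G) * g) {χ : IrrCharacter G} {ε : ℂ}
    (hε : ε * ε = 1) (hεr : conj ε = ε) (hχ : ∀ g, (χ : G → ℂ) ((((x₀ ^ N : P) : K) : G) * g) = ε * (χ : G → ℂ) g) (l : ℕ) :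
    FK M P e χ₀ x₀ χ (N + l) = ε * FK M P e χ₀ x₀ χ l := by
  classical
  unfold FK
  rw [NK_eq_sum h.hP χ (x₀ ^ (N + l)), NK_eq_sum h.hP χ (x₀ ^ l), Finset.mul_sum]
  refine Finset.sum_congr rfl fun ϑ hϑ => ?_
  have hϑb : ϑ ∈ b := (Finset.mem_filter.mp hϑ).2
  by_cases hm : mmK χ ϑ = 0
  · rw [hm]
    simp
  have hcen : IsCen (((x₀ ^ N : P) : K)) := isCen_of_central hz
  obtain ⟨a, -, ha⟩ := Cfsg.Agent.Lib.Char.BlichfeldtB.irr_central_mul ϑ.2 ((x₀ ^ N : P) : K) (fun g => hcen g)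
  have hres : ∀ c : K, (fun c : K => (χ : G → ℂ) c) (((x₀ ^ N : P) : K) * c) = ε * (fun c : K => (χ : G → ℂ) c) c := by
    intro c
    exact hχ c
  have hinner := inner_eq_of_central (f := fun c : K => (χ : G → ℂ) c) hres ha
  rw [mmK_spec] at hinner
  have hm' : ((mmK χ ϑ : ℕ) : ℂ) ≠ 0 := by exact_mod_cast hm
  have h1 : ε * conj a = 1 := by
    have h2 : (ε * conj a - 1) * ((mmK χ ϑ : ℕ) : ℂ) = 0 := by linear_combination -hinner
    have h3 := (mul_eq_zero.mp h2).resolve_right hm'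
    linear_combination h3
  have h2 : a = ε := by
    have h3 : conj a = ε := by
      calc conj a = (ε * ε) * conj a := by rw [hε, one_mul]
        _ = ε * (ε * conj a) := by ring
        _ = ε := by rw [h1, mul_one]
    have h4 := congrArg conj h3
    rw [Complex.conj_conj, hεr] at h4
    exact h4
  have hϑ1 : (ϑ : K → ℂ) 1 ≠ 0 := Cfsg.Agent.Lib.Char.Ortho.irr_apply_one_ne_zero ϑ.2
  have hval : (ϑ : K → ℂ) ((x₀ ^ N : P) : K) = ε * (ϑ : K → ℂ) 1 := by
    have h3 := ha 1
    rwa [mul_one, h2] at h3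
  have hPz : ∀ g : P, g * x₀ ^ N = x₀ ^ N * g := fun g => h.hall.zz_comm (Subgroup.mem_top g)
  obtain ⟨a', -, ha'⟩ := Cfsg.Agent.Lib.Char.BlichfeldtB.irr_central_mul (L ϑ).2 (x₀ ^ N) hPz
  have hLne : (L ϑ : P → ℂ) 1 ≠ 0 := Cfsg.Agent.Lib.Char.Ortho.irr_apply_one_ne_zero (L ϑ).2
  have h3 := h.hP.hcen ϑ hϑb (x₀ ^ N) hcen
  have h4 := ha' 1
  rw [mul_one, h3, hval, mul_div_cancel_right₀ _ hϑ1] at h4
  have h5 : a' = ε := (mul_right_cancel₀ hLne h4).symm
  rw [pow_add, ha', h5]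
  ring

open Classical in
/-- **The number of characters not containing `z` in the kernel, from below.** -/
theorem card_FF_ge [Fintype P] (hz : ∀ g : G, g * (((x₀ ^ N : P) : K) : G) = (((x₀ ^ N : P) : K) : G) * g) :
    blockRank 2 B + (N / 2 - 1) ≤ (FF B (((x₀ ^ N : P) : K) : G)).card := by
  haveI : Fact (Nat.Prime 2) := ⟨Nat.prime_two⟩
  have hMp := h.hP.hMp
  set z : G := (((x₀ ^ N : P) : K) : G) with hzdef
  set J := N / 2 - 1 with hJdef
  have hNhalf := h.hall.half_add
  have hNpos := h.hall.N_pos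
  have h2N : N = 2 * (J + 1) := by omega
  have hζ := Complex.isPrimitiveRoot_exp (2 ^ k) (by positivity)
  set ζ := Complex.exp (2 * Real.pi * Complex.I / ((2 ^ k : ℕ) : ℂ)) with hζdef
  have hfq := h.fq hζ
  set S : Finset (IrrCharacter G) := Finset.univ.filter (· ∈ B) with hS
  obtain ⟨n, m, v, ee, -, hmm, -, -, -, -, -, hδ, -, hpar⟩ := hfq.exists_ints h.half_eq h2N (fun κ i => h.qc_nat hζ κ i)
  -- the square of the central character
  have hzz : z * z = 1 := by
    exact congrArg (fun y : P => ((y : K) : G)) h.hall.zz_sq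
  have hz1 : z ≠ 1 := by
    intro h0
    exact h.hall.zz_ne_one (h.coe_inj h0)
  have hdich : ∀ ξ : IrrCharacter G, ξ ∉ FF B z → ξ ∈ B → ∀ g, (ξ : G → ℂ) (z * g) = (ξ : G → ℂ) g := by
    intro ξ hξ hB g
    obtain ⟨a, -, ha⟩ := Cfsg.Agent.Lib.Char.BlichfeldtB.irr_central_mul ξ.2 z hz
    have h1 := ha 1
    rw [mul_one] at h1
    have h0 := Cfsg.Agent.Lib.Char.Ortho.irr_apply_one_ne_zero ξ.2
    have h2 : a * a = 1 := by
      have h3 := ha z
      rw [hzz, h1] at h3
      have h4 : (a * a - 1) * (ξ : G → ℂ) 1 = 0 := by linear_combination -h3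
      have h5 := (mul_eq_zero.mp h4).resolve_right h0
      linear_combination h5
    have h3 : a = 1 ∨ a = -1 := by
      have h4 : (a - 1) * (a + 1) = 0 := by linear_combination h2
      rcases mul_eq_zero.mp h4 with h5 | h5
      · left
        linear_combination h5
      · right
        linear_combination h5
    rcases h3 with rfl | rfl
    · rw [ha g, one_mul]
    · exfalso
      apply hξ
      rw [mem_FF]
      exact ⟨hB, by rw [h1]; ring⟩
  -- `m` vanishes off `F`
  have hm0 : ∀ ξ ∈ S, ξ ∉ FF B z → ∀ t < J, m ξ t = 0 := by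
    intro ξ hξ hF
    have hB : ξ ∈ B := (Finset.mem_filter.mp hξ).2
    apply hpar ξ
    intro l _
    rw [show FK M P e χ₀ x₀ ξ (N + l) = 1 * FK M P e χ₀ x₀ ξ l from
      h.F_parity hz (by norm_num) (by simp) (fun g => by rw [one_mul]; exact hdich ξ hF hB g) l, one_mul]
  have hFS : FF B z ⊆ S := fun ξ hξ => Finset.mem_filter.mpr ⟨Finset.mem_univ _, (mem_FF.mp hξ).1⟩
  -- the sums over `F`
  have hsumF : ∀ (t : ℕ), t < J → ∀ (φ : IrrCharacter G → ℂ), ∑ ξ ∈ S, (m ξ t : ℂ) * φ ξ = ∑ ξ ∈ FF B z, (m ξ t : ℂ) * φ ξ := by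
    intro t ht φ
    symm
    refine Finset.sum_subset hFS fun ξ hξ hF => ?_
    rw [hm0 ξ hξ hF t ht]
    simp
  -- the linear maps
  classical
  set F := FF B z with hF
  let T₁ : (F → ℂ) →ₗ[ℂ] (G → ℂ) := Fintype.linearCombination ℂ (fun ξ : F => reg 2 ((ξ : IrrCharacter G) : G → ℂ))
  have hT₁ : ∀ c g, T₁ c g = ∑ ξ : F, c ξ * reg 2 ((ξ : IrrCharacter G) : G → ℂ) g := by
    intro c g
    simp only [T₁, Fintype.linearCombination_apply, Finset.sum_apply, Pi.smul_apply, smul_eq_mul]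
  -- the range of `T₁`
  have hrange : LinearMap.range T₁ = regSpan 2 B := by
    apply le_antisymm
    · rintro _ ⟨c, rfl⟩
      simp only [T₁, Fintype.linearCombination_apply]
      exact Submodule.sum_mem _ fun ξ _ => Submodule.smul_mem _ _
        (Submodule.subset_span ⟨ξ, (mem_FF.mp ξ.2).1, Cfsg.Agent.Lib.Blocks.Cartan.pRegularPart_eq_reg _ _⟩)
    · rw [regSpan, Submodule.span_le]
      rintro _ ⟨η, hη, rfl⟩
      show pRegularPart 2 (η : G → ℂ) ∈ LinearMap.range T₁
      rw [Cfsg.Agent.Lib.Blocks.Cartan.pRegularPart_eq_reg]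
      refine ⟨fun ξ => 2 * classInner (reg 2 (η : G → ℂ)) (((ξ : IrrCharacter G) : G → ℂ)), ?_⟩
      exact reg_eq_two_sum hMp h.hB hz hzz hz1 hη
  -- the vectors in the kernel
  let cc : Fin J → (F → ℂ) := fun t ξ => (m (ξ : IrrCharacter G) t.val : ℂ)
  have hker : ∀ t, T₁ (cc t) = 0 := by
    intro t
    funext y
    rw [hT₁]
    by_cases hy : 2 ∣ orderOf y
    · refine Finset.sum_eq_zero fun ξ _ => ?_
      rw [reg_of_dvd _ hy, mul_zero]
    · have hp : IsPPart 2 y 1 := by
        refine ⟨y, one_mul y, Commute.one_left y, ⟨0, by simp⟩, hy⟩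
      have hδ1 := (hδ (fun ξ => (ξ : G → ℂ) y) (fun l h0 hl he => by
        rw [h.hNk] at hl
        refine h.F_orth' hp hl.le ?_
        intro hc
        have h1 := isConj_one_right.mp hc
        exact h.rot_ne_one (l := 2 * N - l) (by omega) (by omega) h1)).2.1 t.val t.isLt
      have h2 := hsumF t.val t.isLt (fun ξ => (ξ : G → ℂ) y)
      have h3 : ∑ ξ ∈ S, (m ξ t.val : ℂ) * (ξ : G → ℂ) y = 0 := by
        rw [← hδ1]
        exact Finset.sum_congr rfl fun _ _ => mul_comm _ _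
      rw [h3] at h2
      show ∑ ξ : F, (m (ξ : IrrCharacter G) t.val : ℂ) * reg 2 ((ξ : IrrCharacter G) : G → ℂ) y = 0
      rw [h2, ← Finset.sum_coe_sort F]
      refine Finset.sum_congr rfl fun ξ _ => ?_
      rw [reg_of_not_dvd _ hy]
  have hgram : ∀ s t : Fin J, ∑ ξ : F, cc t ξ * cc s ξ = if s = t then 2 else 1 := by
    intro s t
    have h1 := hmm t.val t.isLt s.val s.isLt
    have h2 := hsumF t.val t.isLt (fun ξ => (m ξ s.val : ℂ))
    have h3 : ∑ ξ ∈ S, (m ξ t.val : ℂ) * (m ξ s.val : ℂ) = ((if t.val = s.val then 2 else 1 : ℤ) : ℂ) := by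
      rw [← h1]
      push_cast
      rfl
    rw [h3] at h2
    show ∑ ξ : F, (m (ξ : IrrCharacter G) t.val : ℂ) * (m (ξ : IrrCharacter G) s.val : ℂ) = _
    rw [Finset.sum_coe_sort F (fun ξ => (m ξ t.val : ℂ) * (m ξ s.val : ℂ)), ← h2]
    by_cases hst : s = t
    · rw [if_pos hst, if_pos (by rw [hst])]
      norm_num
    · rw [if_neg hst, if_neg (fun h4 => hst (Fin.ext h4.symm))]
      norm_num
  have hind : LinearIndependent ℂ cc := by
    rw [Fintype.linearIndependent_iff]
    intro g hg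
    have hs : ∀ s : Fin J, g s + ∑ t, g t = 0 := by
      intro s
      have h1 : ∑ ξ : F, (∑ t, g t • cc t) ξ * cc s ξ = 0 := by
        rw [hg]
        simp
      have h2 : ∑ ξ : F, (∑ t, g t • cc t) ξ * cc s ξ = ∑ t, g t * (if s = t then 2 else 1) := by
        simp only [Finset.sum_apply, Pi.smul_apply, smul_eq_mul, Finset.sum_mul]
        rw [Finset.sum_comm]
        refine Finset.sum_congr rfl fun t _ => ?_
        rw [← hgram s t, Finset.mul_sum]
        refine Finset.sum_congr rfl fun ξ _ => ?_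
        ring
      rw [h2] at h1
      have h3 : ∀ t, g t * (if s = t then (2 : ℂ) else 1) = g t + (if s = t then g t else 0) := by
        intro t
        by_cases hst : s = t
        · rw [if_pos hst, if_pos hst]
          ring
        · rw [if_neg hst, if_neg hst]
          ring
      simp only [h3] at h1
      rw [Finset.sum_add_distrib, Finset.sum_ite_eq] at h1
      simp only [Finset.mem_univ, if_true] at h1
      linear_combination h1
    have hA : ∑ t, g t = 0 := by
      have h1 : ∑ s : Fin J, (g s + ∑ t, g t) = 0 := Finset.sum_eq_zero fun s _ => hs s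
      rw [Finset.sum_add_distrib, Finset.sum_const, Finset.card_univ, Fintype.card_fin, nsmul_eq_mul] at h1
      have h2 : ((J : ℂ) + 1) * ∑ t, g t = 0 := by linear_combination h1
      have h3 : ((J : ℂ) + 1) ≠ 0 := by
        exact_mod_cast Nat.succ_ne_zero J
      exact (mul_eq_zero.mp h2).resolve_left h3
    intro s
    have := hs s
    rw [hA, add_zero] at this
    exact this
  have hspan : Submodule.span ℂ (Set.range cc) ≤ LinearMap.ker T₁ := by
    rw [Submodule.span_le]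
    rintro _ ⟨t, rfl⟩
    exact hker t
  have h1 := Submodule.finrank_mono hspan
  rw [finrank_span_eq_card hind, Fintype.card_fin] at h1
  have h2 := LinearMap.finrank_range_add_finrank_ker T₁
  rw [hrange, Module.finrank_fintype_fun_eq_card, Fintype.card_coe] at h2
  rw [blockRank_eq]
  omega

end SCol

end Col

section Main

variable {G : Type u} [Group G] [Fintype G] {M : Ideal AlgInt} [hM : M.IsPrime]
  {B : Set (IrrCharacter G)} {D : Subgroup G}
  {x t : G} {N : ℕ}

/-- **The package of the columns.** -/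
theorem exists_scol (hMp : IsPModular 2 M) (hB : IsPBlock M B) (hD : IsDefectGroup 2 M B D) (h : SDD D x t N)
    {K : Subgroup G} [Fintype K] (hK : K = Subgroup.normalizer ((Subgroup.zpowers (QuatD.ww x N) : Subgroup G) : Set G))
    (hDK : D ≤ K) {k : ℕ} (hk : 3 ≤ k) (hNk : 2 ^ k = 2 * N) :
    ∃ (b : Set (IrrCharacter K)) (e : Set (IrrCharacter (Subgroup.centralizer ((D.subgroupOf K : Subgroup K) : Set K))))
      (χ₀ : IrrCharacter K) (L : IrrCharacter K → IrrCharacter (D.subgroupOf K)),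
      SCol M B K b (D.subgroupOf K) e χ₀ L ⟨⟨x, hDK h.hxD⟩, Subgroup.mem_subgroupOf.mpr h.hxD⟩
        ⟨⟨t, hDK h.htD⟩, Subgroup.mem_subgroupOf.mpr h.htD⟩ N k := by
  haveI : Fact (Nat.Prime 2) := ⟨Nat.prime_two⟩
  obtain ⟨b, e, χ₀, L, hind, hP⟩ := exists_packageK hMp hB hD h hK
  have hd1 := h.subgroupOf hDK
  have hd2 := hd1.subgroupOf (le_refl _)
  rw [Subgroup.subgroupOf_self] at hd2
  exact ⟨b, e, χ₀, L, ⟨hB, hind, hP, hd2, hK, hk, hNk⟩⟩

open Classical in
/-- **The count at the central level.** -/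
theorem card_central (hMp : IsPModular 2 M) (hB : IsPBlock M B) (hD : IsDefectGroup 2 M B D) {n : ℕ} (hn : 4 ≤ n)
    (h : SDD D x t (2 ^ (n - 2)))
    (hz : ∀ g : G, g * x ^ (2 ^ (n - 2)) = x ^ (2 ^ (n - 2)) * g) :
    Nat.card B = blockRank 2 B + 2 ^ (n - 2) + 2 := by
  haveI : Fact (Nat.Prime 2) := ⟨Nat.prime_two⟩
  have hE := card_E_of_sd hMp hB hD hn h hz
  have hF1 := card_FF_le hMp hB hD h hz
  -- the package
  let K : Subgroup G := Subgroup.normalizer ((Subgroup.zpowers (QuatD.ww x (2 ^ (n - 2))) : Subgroup G) : Set G)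
  letI : Fintype K := Fintype.ofFinite _
  have hDK : D ≤ K := h.D_le_norm
  have hn1 : (2 : ℕ) ^ (n - 1) = 2 * 2 ^ (n - 2) := by
    rw [← pow_succ']
    congr 1
    omega
  obtain ⟨b, e, χ₀, L, hq'⟩ := exists_scol hMp hB hD h (K := K) rfl hDK (k := n - 1) (by omega) hn1
  letI : Fintype (D.subgroupOf K) := Fintype.ofFinite _
  have hF2 := hq'.card_FF_ge hz
  have hF3 : blockRank 2 B + (2 ^ (n - 2) / 2 - 1) ≤ (FF B (x ^ (2 ^ (n - 2)))).card := hF2
  -- the partition
  have hzz : x ^ (2 ^ (n - 2)) * x ^ (2 ^ (n - 2)) = 1 := h.zz_sq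
  have hpart : Nat.card B = Nat.card {ξ : IrrCharacter G // ξ ∈ B ∧ (ξ : G → ℂ) (x ^ (2 ^ (n - 2))) = (ξ : G → ℂ) 1} +
      (FF B (x ^ (2 ^ (n - 2)))).card := by
    rw [Nat.card_eq_fintype_card, Nat.card_eq_fintype_card, Fintype.card_subtype, Fintype.card_subtype,
      Quat.FF, ← Finset.card_union_of_disjoint]
    · congr 1
      ext ξ
      simp only [Finset.mem_filter, Finset.mem_univ, true_and, Finset.mem_union]
      constructor
      · intro hξ
        rcases irr_central_sign ξ hz hzz with h1 | h1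
        · exact Or.inl ⟨hξ, h1⟩
        · exact Or.inr ⟨hξ, h1⟩
      · rintro (h1 | h1)
        · exact h1.1
        · exact h1.1
    · rw [Finset.disjoint_left]
      intro ξ h1 h2
      have h3 := (Finset.mem_filter.mp h1).2.2
      have h4 := (Finset.mem_filter.mp h2).2.2
      rw [h3] at h4
      have h6 : (2 : ℂ) * (ξ : G → ℂ) 1 = 0 := by linear_combination h4
      exact Cfsg.Agent.Lib.Char.Ortho.irr_apply_one_ne_zero ξ.2 (by simpa using h6)
  have hhalf : 2 ^ (n - 2) / 2 = 2 ^ (n - 3) := by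
    have : (2 : ℕ) ^ (n - 2) = 2 * 2 ^ (n - 3) := by
      rw [← pow_succ']
      congr 1
      omega
    rw [this]
    simp
  have hdouble : (2 : ℕ) ^ (n - 2) = 2 * 2 ^ (n - 3) := by
    rw [← pow_succ']
    congr 1
    omega
  have hpos : 0 < 2 ^ (n - 3) := by positivity
  rw [hhalf] at hF1 hF3
  omega

end Main

end Cfsg.Agent.Lib.Blocks.Semi
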