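/-
Semidihedral defect groups: the rank at the central level is at most two.
-/
import Mathlib
import Cfsg.Agent.Lib.Blocks.Semi8d

set_option autoImplicit false
set_option linter.style.haveILetI false

namespace Cfsg.Agent.Lib.Blocks.Semi

open Cfsg Cfsg.Agent.Lib.Blocks.Local Cfsg.Agent.Lib.Blocks.Central Cfsg.Agent.Lib.Blocks.Osima
open Cfsg.Agent.Lib.Blocks.Covering Cfsg.Agent.Lib.Blocks.BlockHom Cfsg.Agent.Lib.Blocks.Pairs
open Cfsg.Agent.Lib.Blocks.Twisted Cfsg.Agent.Lib.Blocks.Necklace Cfsg.Agent.Lib.Blocks.Nilp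
open Cfsg.Agent.Lib.Blocks.Regular Cfsg.Agent.Lib.Blocks.Sections Cfsg.Agent.Lib.Blocks.BlockCount
open Cfsg.Agent.Lib.Blocks.Transport Cfsg.Agent.Lib.Blocks.Tame Cfsg.Agent.Lib.Blocks.Quat
open Cfsg.Agent.Lib.Blocks.MajorSub Cfsg.Agent.Lib.Blocks.MajorSub2
open Cfsg.Agent.Lib.Blocks.BrauerFeit Cfsg.Agent.Lib.Blocks.HeightZero Cfsg.Agent.Lib.Blocks.SubsectionNorm
open scoped ComplexConjugate

universe u

section Gram

variable {X : Type*} [Fintype X] {J : ℕ}

/-- The family of the vectors. -/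
def famV (cc : Fin J → X → ℂ) (vv uu : X → ℂ) : Option (Option (Fin J)) → X → ℂ :=
  fun i => i.elim vv (fun j => j.elim uu cc)

/-- **Independence from the Gram matrix.** -/
lemma gram_indep (cc : Fin J → X → ℂ) (vv uu : X → ℂ)
    (hcc : ∀ s t : Fin J, ∑ ξ, cc t ξ * cc s ξ = if s = t then 2 else 1)
    (hvv : ∑ ξ, vv ξ * vv ξ = 4) (huu : ∑ ξ, uu ξ * uu ξ ≠ 0)
    (hvu : ∑ ξ, uu ξ * vv ξ = 0) (hcv : ∀ t, ∑ ξ, cc t ξ * vv ξ = 0) (hcu : ∀ t, ∑ ξ, cc t ξ * uu ξ = 0) :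
    LinearIndependent ℂ (famV cc vv uu) := by
  classical
  rw [Fintype.linearIndependent_iff]
  intro g hg
  have h0 : ∀ y : X → ℂ, g none * ∑ ξ, vv ξ * y ξ + (g (some none) * ∑ ξ, uu ξ * y ξ +
      ∑ s : Fin J, g (some (some s)) * ∑ ξ, cc s ξ * y ξ) = 0 := by
    intro y
    have h1 : ∑ ξ, (∑ i, g i • famV cc vv uu i) ξ * y ξ = 0 := by
      rw [hg]
      simp
    have h2 : ∑ ξ, (∑ i, g i • famV cc vv uu i) ξ * y ξ =
        ∑ i, g i * ∑ ξ, famV cc vv uu i ξ * y ξ := by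
      simp only [Finset.sum_apply, Pi.smul_apply, smul_eq_mul, Finset.sum_mul, Finset.mul_sum]
      rw [Finset.sum_comm]
      refine Finset.sum_congr rfl fun i _ => Finset.sum_congr rfl fun ξ _ => ?_
      ring
    rw [h2, Fintype.sum_option, Fintype.sum_option] at h1
    exact h1
  have hcomm : ∀ a b : X → ℂ, ∑ ξ, a ξ * b ξ = ∑ ξ, b ξ * a ξ :=
    fun a b => Finset.sum_congr rfl fun ξ _ => mul_comm _ _
  have hv0 : g none = 0 := by
    have h1 := h0 vv
    rw [hvv, hvu] at h1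
    simp only [hcv] at h1
    have h2 : (4 : ℂ) * g none = 0 := by
      simp only [mul_zero, Finset.sum_const_zero, add_zero] at h1
      linear_combination h1
    simpa using h2
  have hu0 : g (some none) = 0 := by
    have h1 := h0 uu
    rw [hcomm vv uu, hvu] at h1
    simp only [hcu] at h1
    simp only [mul_zero, Finset.sum_const_zero, add_zero, zero_add] at h1
    exact (mul_eq_zero.mp h1).resolve_right huu
  have hs : ∀ s : Fin J, g (some (some s)) + ∑ t, g (some (some t)) = 0 := by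
    intro s
    have h1 := h0 (cc s)
    rw [hv0, hu0] at h1
    simp only [zero_mul, zero_add] at h1
    simp only [hcc s] at h1
    have h3 : ∀ t, g (some (some t)) * (if s = t then (2 : ℂ) else 1) =
        g (some (some t)) + (if s = t then g (some (some t)) else 0) := by
      intro t
      by_cases hst : s = t
      · rw [if_pos hst, if_pos hst]
        ring
      · rw [if_neg hst, if_neg hst]
        ring
    simp only [h3] at h1
    rw [Finset.sum_add_distrib, Finset.sum_ite_eq] at h1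
    simp only [Finset.mem_univ, if_true] at h1
    linear_combination h1
  have hA : ∑ t, g (some (some t)) = 0 := by
    have h1 : ∑ s : Fin J, (g (some (some s)) + ∑ t, g (some (some t))) = 0 := Finset.sum_eq_zero fun s _ => hs s
    rw [Finset.sum_add_distrib, Finset.sum_const, Finset.card_univ, Fintype.card_fin, nsmul_eq_mul] at h1
    have h2 : ((J : ℂ) + 1) * ∑ t, g (some (some t)) = 0 := by linear_combination h1
    have h3 : ((J : ℂ) + 1) ≠ 0 := by
      exact_mod_cast Nat.succ_ne_zero J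
    exact (mul_eq_zero.mp h2).resolve_left h3
  intro i
  rcases i with _ | _ | s
  · exact hv0
  · exact hu0
  · have := hs s
    rw [hA, add_zero] at this
    exact this

end Gram

section Reg

variable {G : Type u} [Group G] [Fintype G] {M : Ideal AlgInt} [hM : M.IsPrime]

open Classical in
/-- The characters of the block containing `z` in the kernel. -/
noncomputable def EP (B : Set (IrrCharacter G)) (z : G) : Finset (IrrCharacter G) :=
  Finset.univ.filter (fun ξ : IrrCharacter G => ξ ∈ B ∧ (ξ : G → ℂ) z = (ξ : G → ℂ) 1)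

open Classical in
lemma mem_EP {B : Set (IrrCharacter G)} {z : G} {ξ : IrrCharacter G} :
    ξ ∈ EP B z ↔ ξ ∈ B ∧ (ξ : G → ℂ) z = (ξ : G → ℂ) 1 := by
  simp [EP]

open Classical in
/-- **The regular part of a character of the block in terms of the characters containing `z`.** -/
theorem reg_eq_two_sum_plus (hMp : IsPModular 2 M) {B : Set (IrrCharacter G)} (hB : IsPBlock M B) {z : G}
    (hz : ∀ g : G, g * z = z * g) (hzz : z * z = 1) (hz1 : z ≠ 1) {η : IrrCharacter G} (hη : η ∈ B) :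
    (Fintype.linearCombination ℂ (fun ξ : EP B z => reg 2 ((ξ : IrrCharacter G) : G → ℂ)))
      (fun ξ => 2 * classInner (reg 2 (η : G → ℂ)) (((ξ : IrrCharacter G) : G → ℂ))) = reg 2 (η : G → ℂ) := by
  haveI : Fact (Nat.Prime 2) := ⟨Nat.prime_two⟩
  letI : Fintype (IrrCharacter G) := Fintype.ofFinite _
  let Z : Subgroup G := Subgroup.zpowers z
  have hZmem : ∀ g ∈ Z, g = 1 ∨ g = z := by
    intro g hg
    obtain ⟨k, rfl⟩ := Subgroup.mem_zpowers_iff.mp hg
    have hz2 : z ^ 2 = 1 := by rw [sq, hzz]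
    have h1 : orderOf z ∣ 2 := orderOf_dvd_of_pow_eq_one hz2
    have h2 : z ^ k = z ^ (k % 2) := by
      rw [← zpow_mod_orderOf]
      have h3 : orderOf z = 2 := by
        rcases (Nat.dvd_prime Nat.prime_two).mp h1 with h | h
        · exact absurd (orderOf_eq_one_iff.mp h) hz1
        · exact h
      rw [h3]
      norm_num
    rw [h2]
    rcases Int.emod_two_eq_zero_or_one k with h | h
    · left
      rw [h, zpow_zero]
    · right
      rw [h, zpow_one]
  have hzZ : z ∈ Z := Subgroup.mem_zpowers z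
  have hZc : ∀ a ∈ Z, ∀ g : G, g * a = a * g := by
    intro a ha g
    rcases hZmem a ha with rfl | rfl
    · simp
    · exact hz g
  haveI hZn : Z.Normal := by
    constructor
    intro a ha g
    rw [hZc a ha g]
    simpa using ha
  have hord : orderOf z = 2 := by
    have hz2 : z ^ 2 = 1 := by rw [sq, hzz]
    rcases (Nat.dvd_prime Nat.prime_two).mp (orderOf_dvd_of_pow_eq_one hz2) with h | h
    · exact absurd (orderOf_eq_one_iff.mp h) hz1
    · exact h
  have hZcard : Nat.card Z = 2 := by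
    show Nat.card (Subgroup.zpowers z) = 2
    rw [Nat.card_zpowers, hord]
  have hZp : IsPGroup 2 Z := by
    apply IsPGroup.of_card (n := 1)
    rw [hZcard, pow_one]
  letI : Fintype Z := Fintype.ofFinite _
  have h1 := Cfsg.Agent.Lib.Blocks.CentralQuot.reg_eq_sum (p := 2) Z hZc hZp η
  have hKer : ∀ ξ : IrrCharacter G, (∀ n ∈ Z, (ξ : G → ℂ) n = (ξ : G → ℂ) 1) ↔ (ξ : G → ℂ) z = (ξ : G → ℂ) 1 := by
    intro ξ
    constructor
    · intro h
      exact h z hzZ
    · intro h n hn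
      rcases hZmem n hn with rfl | rfl
      · rfl
      · exact h
  have h5 : ∀ ξ : IrrCharacter G, (if ∀ n ∈ Z, (ξ : G → ℂ) n = (ξ : G → ℂ) 1 then (Nat.card Z : ℂ) * classInner (reg 2 (η : G → ℂ)) (ξ : G → ℂ) else 0) • reg 2 (ξ : G → ℂ) =
      if ξ ∈ EP B z then ((2 : ℂ) * classInner (reg 2 (η : G → ℂ)) (ξ : G → ℂ)) • reg 2 (ξ : G → ℂ) else 0 := by
    intro ξ
    by_cases hk : (ξ : G → ℂ) z = (ξ : G → ℂ) 1
    · rw [if_pos ((hKer ξ).mpr hk), hZcard]
      by_cases hξ : ξ ∈ B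
      · rw [if_pos (mem_EP.mpr ⟨hξ, hk⟩)]
        push_cast
        rfl
      · have hne : classInner (reg 2 (η : G → ℂ)) (ξ : G → ℂ) = 0 := by
          refine classInner_reg_eq_zero hMp ?_
          intro hs
          obtain ⟨χ₀, rfl⟩ := id hB
          exact hξ (sameBlock_trans hη hs)
        rw [if_neg (fun h6 => hξ (mem_EP.mp h6).1), hne, mul_zero, zero_smul]
    · rw [if_neg (fun h6 => hk ((hKer ξ).mp h6)), if_neg (fun h6 => hk (mem_EP.mp h6).2), zero_smul]
  rw [Fintype.linearCombination_apply]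
  conv_rhs => rw [h1]
  simp only [h5]
  rw [Finset.sum_ite_mem, Finset.univ_inter,
    ← Finset.sum_coe_sort (EP B z) (fun ξ => ((2 : ℂ) * classInner (reg 2 (η : G → ℂ)) (ξ : G → ℂ)) • reg 2 ((ξ : IrrCharacter G) : G → ℂ))]

end Reg

section Col

variable {G : Type u} [Group G] [Fintype G] {M : Ideal AlgInt} [hM : M.IsPrime]

omit hM in
lemma not_conj_of_invol {u r : G} (huu : u * u = 1) (hr : r * r ≠ 1) : ¬ IsConj u r := by
  intro hc
  obtain ⟨g, hg⟩ := isConj_iff.mp hc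
  apply hr
  rw [← hg]
  calc g * u * g⁻¹ * (g * u * g⁻¹) = g * (u * u) * g⁻¹ := by group
    _ = 1 := by rw [huu]; group

open Classical in
/-- **Orthogonality of the numbers of a section and the regular elements.** -/
theorem XX_reg_orth (hMp : IsPModular 2 M) {B : Set (IrrCharacter G)} (hB : IsPBlock M B) {u : G} {j : ℕ}
    (huo : orderOf u = 2 ^ j) (hu1 : u ≠ 1) [Fintype (Cen u)] {f' : Set (IrrCharacter (Cen u))} (hf' : IsPBlock M f')
    (a : IrrCharacter G) {y : G} (hy : ¬ 2 ∣ orderOf y) :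
    ∑ χ ∈ Finset.univ.filter (· ∈ B), XX 2 f' χ a * (χ : G → ℂ) y = 0 := by
  haveI : Fact (Nat.Prime 2) := ⟨Nat.prime_two⟩
  have heC : IsClosed M f' := isClosed_of_isPBlock hf'
  have h1 : ∀ χ : IrrCharacter G, XX 2 f' χ a * (χ : G → ℂ) y =
      ((2 : ℂ) ^ blockDefect 2 f' * (Nat.card (Cen u) : ℂ)⁻¹) *
        ∑ c : Cen u, conj (gg 2 f' a c) * ((χ : G → ℂ) (u * c) * (χ : G → ℂ) y) := by
    intro χ
    have h2 : sumInner (gg 2 f' χ) (gg 2 f' a) = sumInner (fun c : Cen u => (χ : G → ℂ) (u * c)) (gg 2 f' a) :=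
      sumInner_reg_blockPart hMp heC _ (gg_mem f' a)
    rw [XX, classInner_eq_sumInner, h2, sumInner]
    push_cast
    simp only [Finset.mul_sum, Finset.sum_mul]
    refine Finset.sum_congr rfl fun c _ => ?_
    ring
  simp only [h1]
  rw [← Finset.mul_sum, Finset.sum_comm]
  apply mul_eq_zero_of_right
  refine Finset.sum_eq_zero fun c _ => ?_
  rw [← Finset.mul_sum]
  by_cases hc : 2 ∣ orderOf c
  · rw [mem_regSpan_vanish (gg_mem (p := 2) f' a) hc, map_zero, zero_mul]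
  · apply mul_eq_zero_of_right
    have hp : IsPPart 2 (u * (c : G)) u :=
      ⟨c, rfl, (Subgroup.mem_centralizer_singleton_iff.mp c.2).symm, ⟨j, huo⟩, by rwa [Subgroup.orderOf_coe]⟩
    have hp2 : IsPPart 2 y⁻¹ 1 :=
      ⟨y⁻¹, one_mul _, Commute.one_left _, ⟨0, by simp⟩, by rwa [orderOf_inv]⟩
    have h2 := block_orthogonality hMp hp hp2 (fun hc' => hu1 (isConj_one_right.mp hc'.symm)) hB
    rw [Osima.finsum_mem_eq_sum_filter] at h2
    simpa using h2

variable {K : Subgroup G} [Fintype K] {b : Set (IrrCharacter K)} {P : Subgroup K}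
  {e : Set (IrrCharacter (Subgroup.centralizer (P : Set K)))} {χ₀ : IrrCharacter K}
  {L : IrrCharacter K → IrrCharacter P}

namespace SCol

variable {B : Set (IrrCharacter G)} {x₀ t₀ : P} {N k : ℕ} (h : SCol M B K b P e χ₀ L x₀ t₀ N k)
include h

/-- Rotations other than `z` do not square to one. -/
theorem rot_sq_ne {l : ℕ} (h0 : 0 < l) (hl : l < 2 * N) (he : l ≠ N) :
    (((x₀ ^ l : P) : K) : G) * (((x₀ ^ l : P) : K) : G) ≠ 1 := by
  intro h1
  have h3 : x₀ ^ l * x₀ ^ l = 1 := h.coe_inj (by simpa using h1)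
  have h4 : x₀ ^ (2 * l) = 1 := by rw [two_mul, pow_add, h3]
  have h5 := orderOf_dvd_of_pow_eq_one h4
  rw [h.hall.hxo] at h5
  have h7 : N ∣ l := by
    exact Nat.dvd_of_mul_dvd_mul_left (by norm_num) h5
  obtain ⟨c, rfl⟩ := h7
  rcases c with _ | _ | c
  · omega
  · omega
  · have : N * (c + 1 + 1) = N * c + 2 * N := by ring
    rw [this] at hl
    have : 0 ≤ N * c := Nat.zero_le _
    omega

open Classical in
/-- **The numbers of a section are orthogonal to the columns at the rotations.** -/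
theorem XX_orth_gen {u : G} {j : ℕ} (huo : orderOf u = 2 ^ j) [Fintype (Cen u)] {f' : Set (IrrCharacter (Cen u))}
    (hf' : IsPBlock M f') (a : IrrCharacter G) {l : ℕ} (hl : l ≤ 2 * N)
    (hnc : ¬ IsConj u (((x₀ ^ (2 * N - l) : P) : K) : G)) :
    ∑ χ ∈ Finset.univ.filter (· ∈ B), XX 2 f' χ a * FK M P e χ₀ x₀ χ l = 0 := by
  haveI : Fact (Nat.Prime 2) := ⟨Nat.prime_two⟩
  have hMp := h.hP.hMp
  have heC : IsClosed M f' := isClosed_of_isPBlock hf'
  have h1 : ∀ χ : IrrCharacter G, XX 2 f' χ a * FK M P e χ₀ x₀ χ l =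
      ((2 : ℂ) ^ blockDefect 2 f' * (Nat.card (Cen u) : ℂ)⁻¹) *
        ∑ c : Cen u, conj (gg 2 f' a c) * ((χ : G → ℂ) (u * c) * FK M P e χ₀ x₀ χ l) := by
    intro χ
    have h2 : sumInner (gg 2 f' χ) (gg 2 f' a) = sumInner (fun c : Cen u => (χ : G → ℂ) (u * c)) (gg 2 f' a) :=
      sumInner_reg_blockPart hMp heC _ (gg_mem f' a)
    rw [XX, classInner_eq_sumInner, h2, sumInner]
    push_cast
    simp only [Finset.mul_sum, Finset.sum_mul]
    refine Finset.sum_congr rfl fun c _ => ?_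
    ring
  simp only [h1]
  rw [← Finset.mul_sum, Finset.sum_comm]
  apply mul_eq_zero_of_right
  refine Finset.sum_eq_zero fun c _ => ?_
  rw [← Finset.mul_sum]
  by_cases hc : 2 ∣ orderOf c
  · rw [mem_regSpan_vanish (gg_mem (p := 2) f' a) hc, map_zero, zero_mul]
  · apply mul_eq_zero_of_right
    have hp : IsPPart 2 (u * (c : G)) u :=
      ⟨c, rfl, (Subgroup.mem_centralizer_singleton_iff.mp c.2).symm, ⟨j, huo⟩, by rwa [Subgroup.orderOf_coe]⟩
    exact h.F_orth' hp hl hnc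

open Classical in
/-- **The rank is at most two**, from an involution with a block of its centralizer which does not see the
characters not containing `z` in the kernel. -/
theorem rank_le_two_aux [Fintype P] (hz : ∀ g : G, g * (((x₀ ^ N : P) : K) : G) = (((x₀ ^ N : P) : K) : G) * g)
    {u : G} [Fintype (Cen u)] (huu : u * u = 1) (hu1 : u ≠ 1) {f' : Set (IrrCharacter (Cen u))}
    (hf' : IsInducedBlock M (Cen u) f' B)
    (hf0 : ∀ ξ ∈ FF B (((x₀ ^ N : P) : K) : G), ∀ c : Cen u, ¬ 2 ∣ orderOf c →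
      twTrace (ξ : G → ℂ) (u * c) (EE (Cen u) f') = 0)
    (hE : (EP B (((x₀ ^ N : P) : K) : G)).card = N / 2 + 3) :
    blockRank 2 B ≤ 2 := by
  haveI : Fact (Nat.Prime 2) := ⟨Nat.prime_two⟩
  have hMp := h.hP.hMp
  set z : G := (((x₀ ^ N : P) : K) : G) with hzdef
  set J := N / 2 - 1 with hJdef
  have hNhalf := h.hall.half_add
  have hNpos := h.hall.N_pos
  have h2N : N = 2 * (J + 1) := by omega
  have hζ := Complex.isPrimitiveRoot_exp (2 ^ k) (by positivity)
  set ζ := Complex.exp (2 * Real.pi * Complex.I / ((2 ^ k : ℕ) : ℂ)) with hζdef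
  have hfq := h.fq hζ
  set S : Finset (IrrCharacter G) := Finset.univ.filter (· ∈ B) with hS
  obtain ⟨n, m, v, ee, hnn, -, hvn, hvv, -, -, -, hδ, hpar, -⟩ := hfq.exists_ints h.half_eq h2N (fun κ i => h.qc_nat hζ κ i)
  have hzz : z * z = 1 := by
    exact congrArg (fun y : P => ((y : K) : G)) h.hall.zz_sq
  have hz1 : z ≠ 1 := by
    intro h0
    exact h.hall.zz_ne_one (h.coe_inj h0)
  -- the vectors vanish on `FF`
  have hv0 : ∀ ξ ∈ FF B z, v ξ = 0 ∧ ∀ t < J, n ξ t = 0 := by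
    intro ξ hξ
    apply hpar ξ
    intro l _
    rw [h.F_parity hz (ε := -1) (by norm_num) (by simp) (fun g => by rw [FF_anti hz hξ g]; ring) l]
    ring
  have hES : EP B z ⊆ S := fun ξ hξ => Finset.mem_filter.mpr ⟨Finset.mem_univ _, (mem_EP.mp hξ).1⟩
  have hsum : ∀ φ : IrrCharacter G → ℂ, (∀ ξ ∈ FF B z, φ ξ = 0) → ∑ ξ : EP B z, φ ξ = ∑ ξ ∈ S, φ ξ := by
    intro φ hφ
    rw [Finset.sum_coe_sort (EP B z) φ]
    refine Finset.sum_subset hES fun ξ hξ hne => ?_
    apply hφ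
    have hξB : ξ ∈ B := (Finset.mem_filter.mp hξ).2
    rcases irr_central_sign ξ hz hzz with h1 | h1
    · exact absurd (mem_EP.mpr ⟨hξB, h1⟩) hne
    · exact mem_FF.mpr ⟨hξB, h1⟩
  -- the involution
  have hu2 : orderOf u = 2 ^ 1 := by
    rw [pow_one]
    exact orderOf_eq_prime (by rw [sq, huu]) hu1
  have hex : ∀ a c, ∃ n : ℤ, XX 2 f' a c = n := fun a c =>
    exists_int_of_mem_rootSums (XX_mem hMp hu2 f' a c)
  choose X hX using hex
  have htrace := XX_trace hMp hu2 hf'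
  have hrk := Cfsg.Agent.Lib.Blocks.CentralQuot.blockRank_pos (p := 2) hf'.1
  have hne : ∑ χ ∈ S, XX 2 f' χ χ ≠ 0 := by
    rw [htrace]
    exact_mod_cast (Nat.mul_pos (pow_pos (by norm_num) _) hrk).ne'
  obtain ⟨a, -, ha⟩ := Finset.exists_ne_zero_of_sum_ne_zero hne
  -- the numbers vanish on `FF`
  have hX0 : ∀ ξ ∈ FF B z, (X ξ a : ℂ) = 0 := by
    intro ξ hξ
    rw [← hX]
    have hgg : gg 2 f' ξ = 0 := by
      funext c
      show reg 2 (blockPart f' (fun c : Cen u => (ξ : G → ℂ) (u * c))) c = 0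
      by_cases hc : 2 ∣ orderOf c
      · rw [reg_of_dvd _ hc]
      · have hK : ∀ k ∈ Cen u, k * u = u * k := fun k hk => Subgroup.mem_centralizer_singleton_iff.mp hk
        rw [reg_of_not_dvd _ hc, ← twTrace_EE_eq_blockPart (isClassFunction_of_irr ξ.2) hK f' c]
        exact hf0 ξ hξ c hc
    rw [XX, hgg]
    simp [classInner]
  -- the functions
  let cF : Fin J → IrrCharacter G → ℂ := fun s ξ => (n ξ s.val : ℂ) - (v ξ : ℂ) / 2
  let vF : IrrCharacter G → ℂ := fun ξ => (v ξ : ℂ)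
  let uF : IrrCharacter G → ℂ := fun ξ => (X ξ a : ℂ)
  have hc0 : ∀ s, ∀ ξ ∈ FF B z, cF s ξ = 0 := by
    intro s ξ hξ
    have h1 := hv0 ξ hξ
    simp only [cF]
    rw [h1.1, h1.2 s.val s.isLt]
    simp
  have hv00 : ∀ ξ ∈ FF B z, vF ξ = 0 := by
    intro ξ hξ
    simp only [vF]
    rw [(hv0 ξ hξ).1]
    simp
  -- the orthogonalities
  have hδy : ∀ y : G, ¬ 2 ∣ orderOf y → (∀ t < J, ∑ ξ ∈ S, (ξ : G → ℂ) y * (n ξ t : ℂ) = 0) ∧
      ∑ ξ ∈ S, (ξ : G → ℂ) y * (v ξ : ℂ) = 0 := by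
    intro y hy
    have hp : IsPPart 2 y 1 := by
      refine ⟨y, one_mul y, Commute.one_left y, ⟨0, by simp⟩, hy⟩
    have h1 := hδ (fun ξ => (ξ : G → ℂ) y) (fun l h0 hl he => by
      rw [h.hNk] at hl
      refine h.F_orth' hp hl.le ?_
      intro hc
      have h1 := isConj_one_right.mp hc
      exact h.rot_ne_one (l := 2 * N - l) (by omega) (by omega) h1)
    exact ⟨h1.1, h1.2.2⟩
  have hδu : (∀ t < J, ∑ ξ ∈ S, uF ξ * (n ξ t : ℂ) = 0) ∧ ∑ ξ ∈ S, uF ξ * (v ξ : ℂ) = 0 := by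
    have h1 := hδ uF (fun l h0 hl he => by
      rw [h.hNk] at hl
      have h2 := h.XX_orth_gen hu2 hf'.1 a hl.le
        (not_conj_of_invol huu (h.rot_sq_ne (l := 2 * N - l) (by omega) (by omega) (by omega)))
      rw [← h2]
      refine Finset.sum_congr rfl fun ξ _ => ?_
      simp only [uF]
      rw [hX])
    exact ⟨h1.1, h1.2.2⟩
  have hregu : ∀ y : G, ¬ 2 ∣ orderOf y → ∑ ξ ∈ S, uF ξ * (ξ : G → ℂ) y = 0 := by
    intro y hy
    have h1 := XX_reg_orth hMp h.hB (j := 1) hu2 hu1 hf'.1 a hy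
    rw [← h1]
    refine Finset.sum_congr rfl fun ξ _ => ?_
    simp only [uF]
    rw [hX]
  -- casts
  have hnn' : ∀ s < J, ∀ t < J, ∑ ξ ∈ S, (n ξ s : ℂ) * (n ξ t : ℂ) = if s = t then 3 else 2 := by
    intro s hs t ht
    have h1 := congrArg (Int.cast : ℤ → ℂ) (hnn s hs t ht)
    push_cast at h1
    rw [h1]
  have hvn' : ∀ t < J, ∑ ξ ∈ S, (v ξ : ℂ) * (n ξ t : ℂ) = 2 := by
    intro t ht
    have h1 := congrArg (Int.cast : ℤ → ℂ) (hvn t ht)
    push_cast at h1
    exact h1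
  have hvv' : ∑ ξ ∈ S, (v ξ : ℂ) * (v ξ : ℂ) = 4 := by
    have h1 := congrArg (Int.cast : ℤ → ℂ) hvv
    push_cast at h1
    exact h1
  have huu' : ∑ ξ ∈ S, uF ξ * uF ξ ≠ 0 := by
    have h1 := X_row hMp hu2 hf' hX a a
    have h2 := congrArg (Int.cast : ℤ → ℂ) h1
    push_cast at h2
    have h3 : ∑ ξ ∈ S, uF ξ * uF ξ = ∑ ξ ∈ S, (X a ξ : ℂ) * (X a ξ : ℂ) := by
      refine Finset.sum_congr rfl fun ξ _ => ?_
      simp only [uF]
      rw [X_symm hX ξ a]
    rw [h3, h2]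
    apply mul_ne_zero (pow_ne_zero _ (by norm_num))
    rwa [← hX]
  -- the linear map
  let T₁ : (EP B z → ℂ) →ₗ[ℂ] (G → ℂ) := Fintype.linearCombination ℂ (fun ξ : EP B z => reg 2 ((ξ : IrrCharacter G) : G → ℂ))
  have hT₁ : ∀ c g, T₁ c g = ∑ ξ : EP B z, c ξ * reg 2 ((ξ : IrrCharacter G) : G → ℂ) g := by
    intro c g
    simp only [T₁, Fintype.linearCombination_apply, Finset.sum_apply, Pi.smul_apply, smul_eq_mul]
  have hrange : LinearMap.range T₁ = regSpan 2 B := by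
    apply le_antisymm
    · rintro _ ⟨c, rfl⟩
      simp only [T₁, Fintype.linearCombination_apply]
      exact Submodule.sum_mem _ fun ξ _ => Submodule.smul_mem _ _
        (Submodule.subset_span ⟨ξ, (mem_EP.mp ξ.2).1, Cfsg.Agent.Lib.Blocks.Cartan.pRegularPart_eq_reg _ _⟩)
    · rw [regSpan, Submodule.span_le]
      rintro _ ⟨η, hη, rfl⟩
      show pRegularPart 2 (η : G → ℂ) ∈ LinearMap.range T₁
      rw [Cfsg.Agent.Lib.Blocks.Cartan.pRegularPart_eq_reg]
      refine ⟨fun ξ => 2 * classInner (reg 2 (η : G → ℂ)) (((ξ : IrrCharacter G) : G → ℂ)), ?_⟩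
      exact reg_eq_two_sum_plus hMp h.hB hz hzz hz1 hη
  -- kernel
  have hker : ∀ c : IrrCharacter G → ℂ, (∀ ξ ∈ FF B z, c ξ = 0) → (∀ y : G, ¬ 2 ∣ orderOf y → ∑ ξ ∈ S, c ξ * (ξ : G → ℂ) y = 0) →
      T₁ (fun ξ : EP B z => c ξ) = 0 := by
    intro c hc0' hc1
    funext y
    rw [hT₁]
    by_cases hy : 2 ∣ orderOf y
    · refine Finset.sum_eq_zero fun ξ _ => ?_
      rw [reg_of_dvd _ hy, mul_zero]
    · have h1 := hsum (fun ξ => c ξ * (ξ : G → ℂ) y) (fun ξ hξ => by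
        show c ξ * _ = 0
        rw [hc0' ξ hξ, zero_mul])
      rw [hc1 y hy] at h1
      show ∑ ξ : EP B z, c ξ * reg 2 ((ξ : IrrCharacter G) : G → ℂ) y = 0
      rw [← h1]
      refine Finset.sum_congr rfl fun ξ _ => ?_
      rw [reg_of_not_dvd _ hy]
  have hsp : ∀ s : Fin J, ∀ w : IrrCharacter G → ℂ, ∑ ξ ∈ S, cF s ξ * w ξ =
      ∑ ξ ∈ S, (n ξ s.val : ℂ) * w ξ - (1 / 2) * ∑ ξ ∈ S, (v ξ : ℂ) * w ξ := by
    intro s w
    rw [Finset.mul_sum, ← Finset.sum_sub_distrib]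
    refine Finset.sum_congr rfl fun ξ _ => ?_
    simp only [cF]
    ring
  have hsp' : ∀ s : Fin J, ∀ w : IrrCharacter G → ℂ, ∑ ξ ∈ S, w ξ * cF s ξ =
      ∑ ξ ∈ S, w ξ * (n ξ s.val : ℂ) - (1 / 2) * ∑ ξ ∈ S, w ξ * (v ξ : ℂ) := by
    intro s w
    rw [Finset.mul_sum, ← Finset.sum_sub_distrib]
    refine Finset.sum_congr rfl fun ξ _ => ?_
    simp only [cF]
    ring
  have hcomm : ∀ a b : IrrCharacter G → ℂ, ∑ ξ ∈ S, a ξ * b ξ = ∑ ξ ∈ S, b ξ * a ξ :=
    fun a b => Finset.sum_congr rfl fun ξ _ => mul_comm _ _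
  have hvecs : ∀ i : Option (Option (Fin J)), T₁ (famV (fun s (ξ : EP B z) => cF s ξ) (fun ξ => vF ξ) (fun ξ => uF ξ) i) = 0 := by
    intro i
    rcases i with _ | _ | s
    · refine hker vF hv00 fun y hy => ?_
      rw [hcomm]
      exact (hδy y hy).2
    · refine hker uF (fun ξ hξ => hX0 ξ hξ) fun y hy => hregu y hy
    · refine hker (cF s) (hc0 s) fun y hy => ?_
      rw [hsp, hcomm (fun ξ => (n ξ s.val : ℂ)), hcomm (fun ξ => (v ξ : ℂ))]
      show ∑ ξ ∈ S, (ξ : G → ℂ) y * (n ξ s.val : ℂ) - 1 / 2 * ∑ ξ ∈ S, (ξ : G → ℂ) y * (v ξ : ℂ) = 0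
      rw [(hδy y hy).1 s.val s.isLt, (hδy y hy).2]
      ring
  have hind : LinearIndependent ℂ (famV (fun s (ξ : EP B z) => cF s ξ) (fun ξ => vF ξ) (fun ξ => uF ξ)) := by
    refine gram_indep _ _ _ ?_ ?_ ?_ ?_ ?_ ?_
    · intro s t
      have h1 := hsum (fun ξ => cF t ξ * cF s ξ) (fun ξ hξ => by
        show cF t ξ * _ = 0
        rw [hc0 t ξ hξ, zero_mul])
      refine h1.trans ?_
      rw [hsp t (cF s), hsp' s, hsp' s, hcomm (fun ξ => (n ξ t.val : ℂ)) (fun ξ => (v ξ : ℂ))]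
      rw [hnn' t.val t.isLt s.val s.isLt, hvn' t.val t.isLt, hvn' s.val s.isLt, hvv']
      by_cases hst : s = t
      · subst hst
        simp only [if_true]
        norm_num
      · rw [if_neg (fun h7 => hst (Fin.ext h7.symm)), if_neg hst]
        norm_num
    · refine (hsum (fun ξ => vF ξ * vF ξ) (fun ξ hξ => by
        show vF ξ * _ = 0
        rw [hv00 ξ hξ, zero_mul])).trans hvv'
    · rw [hsum (fun ξ => uF ξ * uF ξ) (fun ξ hξ => by
        show (X ξ a : ℂ) * _ = 0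
        rw [hX0 ξ hξ, zero_mul])]
      exact huu'
    · refine (hsum (fun ξ => uF ξ * vF ξ) (fun ξ hξ => by
        show (X ξ a : ℂ) * _ = 0
        rw [hX0 ξ hξ, zero_mul])).trans hδu.2
    · intro t
      refine (hsum (fun ξ => cF t ξ * vF ξ) (fun ξ hξ => by
        show cF t ξ * _ = 0
        rw [hc0 t ξ hξ, zero_mul])).trans ?_
      rw [hsp]
      show ∑ ξ ∈ S, (n ξ t.val : ℂ) * (v ξ : ℂ) - 1 / 2 * ∑ ξ ∈ S, (v ξ : ℂ) * (v ξ : ℂ) = 0
      rw [hcomm (fun ξ => (n ξ t.val : ℂ)) (fun ξ => (v ξ : ℂ)), hvn' t.val t.isLt, hvv']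
      norm_num
    · intro t
      refine (hsum (fun ξ => cF t ξ * uF ξ) (fun ξ hξ => by
        show cF t ξ * _ = 0
        rw [hc0 t ξ hξ, zero_mul])).trans ?_
      rw [hsp, hcomm (fun ξ => (n ξ t.val : ℂ)) uF, hcomm (fun ξ => (v ξ : ℂ)) uF, hδu.1 t.val t.isLt, hδu.2]
      ring
  have hspan : Submodule.span ℂ (Set.range (famV (fun s (ξ : EP B z) => cF s ξ) (fun ξ => vF ξ) (fun ξ => uF ξ))) ≤ LinearMap.ker T₁ := by
    rw [Submodule.span_le]
    rintro _ ⟨i, rfl⟩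
    exact hvecs i
  have h1 := Submodule.finrank_mono hspan
  rw [finrank_span_eq_card hind] at h1
  have h2 := LinearMap.finrank_range_add_finrank_ker T₁
  rw [hrange, Module.finrank_fintype_fun_eq_card, Fintype.card_coe, hE] at h2
  have h3 : Fintype.card (Option (Option (Fin J))) = J + 2 := by
    simp
  rw [h3] at h1
  rw [blockRank_eq]
  omega

end SCol

end Col

end Cfsg.Agent.Lib.Blocks.Semi
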