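/-
Semidihedral defect groups: the rank at the central level is at most two (global form).
-/
import Mathlib
import Cfsg.Agent.Lib.Blocks.Semi8e

set_option autoImplicit false
set_option linter.style.haveILetI false

namespace Cfsg.Agent.Lib.Blocks.Semi

open Cfsg Cfsg.Agent.Lib.Blocks.Local Cfsg.Agent.Lib.Blocks.Central Cfsg.Agent.Lib.Blocks.Osima
open Cfsg.Agent.Lib.Blocks.Covering Cfsg.Agent.Lib.Blocks.BlockHom Cfsg.Agent.Lib.Blocks.Pairs
open Cfsg.Agent.Lib.Blocks.Twisted Cfsg.Agent.Lib.Blocks.Necklace Cfsg.Agent.Lib.Blocks.Nilp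
open Cfsg.Agent.Lib.Blocks.Regular Cfsg.Agent.Lib.Blocks.Sections Cfsg.Agent.Lib.Blocks.BlockCount
open Cfsg.Agent.Lib.Blocks.Transport Cfsg.Agent.Lib.Blocks.Tame Cfsg.Agent.Lib.Blocks.Quat
open Cfsg.Agent.Lib.Blocks.MajorSub Cfsg.Agent.Lib.Blocks.MajorSub2
open scoped ComplexConjugate

universe u

section Main

variable {G : Type u} [Group G] [Fintype G] {M : Ideal AlgInt} [hM : M.IsPrime]
  {B : Set (IrrCharacter G)} {D : Subgroup G} {e : Set (IrrCharacter (Subgroup.centralizer (D : Set G)))}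
  {x t : G} {N : ℕ}

open Classical in
/-- The block of the centralizer of the reflection. -/
theorem exists_uBlock (hMp : IsPModular 2 M) (hB : IsPBlock M B) (hmax : IsMaximalBrauerPair 2 M B D e) (h : SDD D x t N)
    (hz : ∀ g : G, g * x ^ N = x ^ N * g) [Fintype (Cen t)] :
    ∃ f' : Set (IrrCharacter (Cen t)), IsInducedBlock M (Cen t) f' B ∧
      ∀ ξ ∈ FF B (x ^ N), ∀ c : Cen t, ¬ 2 ∣ orderOf c → twTrace (ξ : G → ℂ) (t * c) (EE (Cen t) f') = 0 := by
  haveI : Fact (Nat.Prime 2) := ⟨Nat.prime_two⟩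
  have hPe := hmax.1.1
  have hv : t ∈ D := h.htD
  have hv1 : t ≠ 1 := fun h1 => h.refl_ne 0 0 (by simpa using h1)
  have hvz : t ≠ x ^ N := fun h1 => h.refl_ne 0 N (by simpa using h1)
  have key : ∀ (K₁ : Subgroup G) [Fintype K₁], K₁ = Kz t → ∃ f' : Set (IrrCharacter K₁), IsInducedBlock M K₁ f' B ∧
      ∀ ξ ∈ FF B (x ^ N), ∀ c : K₁, ¬ 2 ∣ orderOf c → twTrace (ξ : G → ℂ) (t * c) (EE K₁ f') = 0 := by
    rintro _ _ rfl
    refine ⟨eBlk M 2 D e t, ?_, ?_⟩
    · have hf := isPBlock_eBlk hMp hPe hv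
      have hQf : IsBrauerPair 2 M (Subgroup.zpowers t) (eBlk M 2 D e t) :=
        ⟨hPe.1.to_le ((Subgroup.zpowers_le).mpr hv), hf⟩
      have h1 := (isBrauerPairOf_iff_of_subpairLE hMp hQf (eBlk_spec hMp hPe hv)).mp hmax.1
      exact isInducedBlock_of_brauerPair hMp h1
    · intro ξ hξ c hc
      have hanti : AntiF M B (x ^ N) (ξ : G → ℂ) :=
        ⟨isClassFunction_of_irr ξ.2, FF_anti hz hξ,
          fun hu hf hnot a ha => twTrace_EE_eq_zero_of_not_pair hMp hB (mem_FF.mp hξ).1 hu hf hnot ha⟩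
      have ha := hanti.aa_refl hMp hPe h hz 0
      rw [pow_zero, mul_one] at ha
      exact hanti.section_zero_of hMp hmax h hz hv hv1 hvz ha c.2 (by rwa [Subgroup.orderOf_coe])
  exact key (Cen t) (Cfsg.Agent.Lib.Blocks.AbelianCount.cz_eq_cen t).symm

open Classical in
/-- **The rank at the central level is at most two.** -/
theorem rank_le_two (hMp : IsPModular 2 M) (hB : IsPBlock M B) (hD : IsDefectGroup 2 M B D) {n : ℕ} (hn : 4 ≤ n)
    (h : SDD D x t (2 ^ (n - 2))) (hz : ∀ g : G, g * x ^ (2 ^ (n - 2)) = x ^ (2 ^ (n - 2)) * g) :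
    blockRank 2 B ≤ 2 := by
  haveI : Fact (Nat.Prime 2) := ⟨Nat.prime_two⟩
  obtain ⟨e, hmax⟩ := Cfsg.Agent.S4552.exists_maximal_on_defect hMp hB hD
  have hE := card_E_of_sd hMp hB hD hn h hz
  let K : Subgroup G := Subgroup.normalizer ((Subgroup.zpowers (QuatD.ww x (2 ^ (n - 2))) : Subgroup G) : Set G)
  letI : Fintype K := Fintype.ofFinite _
  have hDK : D ≤ K := h.D_le_norm
  have hn1 : (2 : ℕ) ^ (n - 1) = 2 * 2 ^ (n - 2) := by
    rw [← pow_succ']
    congr 1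
    omega
  obtain ⟨b, e', χ₀, L, hq'⟩ := exists_scol hMp hB hD h (K := K) rfl hDK (k := n - 1) (by omega) hn1
  letI : Fintype (D.subgroupOf K) := Fintype.ofFinite _
  letI : Fintype (Cen t) := Fintype.ofFinite _
  obtain ⟨f', hf', hf0⟩ := exists_uBlock hMp hB hmax h hz
  have hhalf : 2 ^ (n - 2) / 2 = 2 ^ (n - 3) := by
    have : (2 : ℕ) ^ (n - 2) = 2 * 2 ^ (n - 3) := by
      rw [← pow_succ']
      congr 1
      omega
    rw [this]
    simp
  refine hq'.rank_le_two_aux (u := t) hz h.htt (fun h1 => h.refl_ne 0 0 (by simpa using h1)) hf' hf0 ?_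
  rw [hhalf, ← hE, Nat.card_eq_fintype_card, Fintype.card_subtype]
  rfl

end Main

end Cfsg.Agent.Lib.Blocks.Semi
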