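/-
Semidihedral defect groups: the fusion of the elements of the defect group and the ranks at the involutions.
-/
import Mathlib
import Cfsg.Agent.Lib.Blocks.Semi8f

set_option autoImplicit false
set_option linter.style.haveILetI false

namespace Cfsg.Agent.Lib.Blocks.Semi

open Cfsg Cfsg.Agent.Lib.Blocks.Local Cfsg.Agent.Lib.Blocks.Central Cfsg.Agent.Lib.Blocks.Osima
open Cfsg.Agent.Lib.Blocks.Covering Cfsg.Agent.Lib.Blocks.BlockHom Cfsg.Agent.Lib.Blocks.Pairs
open Cfsg.Agent.Lib.Blocks.Twisted Cfsg.Agent.Lib.Blocks.Necklace Cfsg.Agent.Lib.Blocks.Nilp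
open Cfsg.Agent.Lib.Blocks.Regular Cfsg.Agent.Lib.Blocks.Sections Cfsg.Agent.Lib.Blocks.BlockCount
open Cfsg.Agent.Lib.Blocks.Transport Cfsg.Agent.Lib.Blocks.Tame Cfsg.Agent.Lib.Blocks.Quat
open Cfsg.Agent.Lib.Blocks.AbelianCount
open scoped ComplexConjugate

universe u

section Fusion

variable {G : Type u} [Group G] {D : Subgroup G} {x t : G} {N : ℕ}

/-- **Noncentral involutions are conjugate to `t` in `D`.** -/
lemma SDD.invol_conj (h : SDD D x t N) {v : G} (hv : v ∈ D) (hvv : v * v = 1) (hv1 : v ≠ 1) (hvz : v ≠ x ^ N) :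
    ∃ d ∈ D, d * v * d⁻¹ = t := by
  obtain ⟨c, rfl⟩ := (h.invol_cases hv hvv hv1).resolve_left hvz
  obtain ⟨m, hm⟩ := h.hpow
  obtain ⟨b, hb⟩ := h.N_four
  have hNk : N / 2 - 1 = 2 * b + 1 := by omega
  have hcop : Nat.Coprime (2 * b + 1) N := by
    rw [hm]
    refine Nat.Coprime.pow_right _ ?_
    rw [Nat.coprime_two_right]
    exact ⟨b, rfl⟩
  have hN1 : 1 < N := by omega
  obtain ⟨q, -, hq⟩ := Nat.exists_mul_mod_eq_one_of_coprime hcop hN1
  -- the exponent
  set a := q * c with ha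
  have hexp : a * (N - 1) = a + 2 * c + (2 * N) * ((2 * b + 1) * q / N * c) := by
    have h1 : (2 * b + 1) * q = N * ((2 * b + 1) * q / N) + 1 := by
      have := Nat.div_add_mod ((2 * b + 1) * q) N
      omega
    set w := (2 * b + 1) * q / N with hw
    have hN2 : N - 1 = 2 * (2 * b + 1) + 1 := by omega
    rw [hN2, ha]
    have h2 : q * c * (2 * (2 * b + 1) + 1) = q * c + 2 * c * ((2 * b + 1) * q) := by ring
    rw [h2, h1]
    ring
  have hx : x ^ a * t = t * x ^ (a * (N - 1)) := by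
    have h1 := h.tc a
    have h2 : t⁻¹ = t := h.t_inv
    rw [h2] at h1
    calc x ^ a * t = t * (t * x ^ a * t) := by
          have e : t * (t * x ^ a * t) = (t * t) * x ^ a * t := by group
          rw [e, h.htt, one_mul]
      _ = _ := by rw [h1]
  have hval : x ^ a * t * (x ^ a)⁻¹ = t * x ^ (2 * c) := by
    rw [hx, hexp, pow_add, pow_add, pow_mul x (2 * N), h.x_pow_two_N, one_pow, mul_one]
    have e : t * (x ^ a * x ^ (2 * c)) * (x ^ a)⁻¹ = t * (x ^ a * x ^ (2 * c) * (x ^ a)⁻¹) := by group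
    rw [e, h.x_mul_comm a (2 * c)]
    group
  refine ⟨(x ^ a)⁻¹, D.inv_mem (D.pow_mem h.hxD a), ?_⟩
  rw [← hval]
  group

/-- **Conjugation between elements of `D` not squaring to one fixes `z`.** -/
lemma SDD.conj_fix [Finite G] (h : SDD D x t N) {g r : G} (hr : r ∈ D) (hr2 : r * r ≠ 1) (hs : g * r * g⁻¹ ∈ D) :
    g * x ^ N * g⁻¹ = x ^ N := by
  by_contra hne
  have h1 := h.zz_mem_zpowers_of_sq hr hr2
  obtain ⟨k, hk⟩ := Subgroup.mem_zpowers_iff.mp h1
  have h2 : g * x ^ N * g⁻¹ = (g * r * g⁻¹) ^ k := by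
    rw [← hk, ← conj_zpow]
  have hvD : g * x ^ N * g⁻¹ ∈ D := by
    rw [h2]
    exact D.zpow_mem hs k
  have hvv : (g * x ^ N * g⁻¹) * (g * x ^ N * g⁻¹) = 1 := by
    calc g * x ^ N * g⁻¹ * (g * x ^ N * g⁻¹) = g * (x ^ N * x ^ N) * g⁻¹ := by group
      _ = 1 := by rw [h.zz_sq]; group
  have hv1 : g * x ^ N * g⁻¹ ≠ 1 := by
    intro h3
    apply h.zz_ne_one
    have : x ^ N = g⁻¹ * (g * x ^ N * g⁻¹) * g := by group
    rw [this, h3]
    group
  have hcom : (g * r * g⁻¹) * (g * x ^ N * g⁻¹) = (g * x ^ N * g⁻¹) * (g * r * g⁻¹) := by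
    rw [h2]
    exact ((Commute.refl (g * r * g⁻¹)).zpow_right k).eq
  have hr' : (g * r * g⁻¹) * (g * r * g⁻¹) ≠ 1 := by
    intro h3
    apply hr2
    have e : (g * r * g⁻¹) * (g * r * g⁻¹) = g * (r * r) * g⁻¹ := by group
    rw [e] at h3
    have : r * r = g⁻¹ * (g * (r * r) * g⁻¹) * g := by group
    rw [this, h3]
    group
  apply hr'
  rcases h.cen_klein hvD hvv hv1 hne hs hcom with h3 | h3 | h3 | h3
  · rw [h3, mul_one]
  · rw [h3, h.zz_sq]
  · rw [h3, hvv]
  · rw [h3]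
    have h4 := h.zz_comm hvD
    calc x ^ N * (g * x ^ N * g⁻¹) * (x ^ N * (g * x ^ N * g⁻¹))
        = x ^ N * ((g * x ^ N * g⁻¹) * x ^ N) * (g * x ^ N * g⁻¹) := by group
      _ = x ^ N * (x ^ N * (g * x ^ N * g⁻¹)) * (g * x ^ N * g⁻¹) := by rw [h4]
      _ = (x ^ N * x ^ N) * ((g * x ^ N * g⁻¹) * (g * x ^ N * g⁻¹)) := by group
      _ = 1 := by rw [h.zz_sq, hvv, one_mul]

end Fusion

section Pairs

variable {G : Type u} [Group G] [Fintype G] {M : Ideal AlgInt} [hM : M.IsPrime]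
  {B : Set (IrrCharacter G)} {D : Subgroup G} {e : Set (IrrCharacter (Subgroup.centralizer (D : Set G)))}
  {x t : G} {N : ℕ}

/-- **The conjugate of a pair.** -/
lemma exists_conj_pair (hMp : IsPModular 2 M) (hmax : IsMaximalBrauerPair 2 M B D e) {y : G} (hy : y ∈ D)
    {b : Set (IrrCharacter (Kz y))} (hb : IsInducedBlock M (Kz y) b B) :
    ∃ g : G, SubpairLE 2 M ((Subgroup.zpowers y).map (MulAut.conj g).toMonoidHom)
      (conjBlock (Subgroup.zpowers y) g b) D e := by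
  have hp : IsPGroup 2 (Subgroup.zpowers y) := hmax.1.1.1.to_le ((Subgroup.zpowers_le).mpr hy)
  exact exists_conj_subpairLE hMp hmax (isBrauerPairOf_of_induced hp hb)

/-- The element moved by the conjugating element lies in `D`. -/
lemma conj_mem_of_pair {y g : G} {b : Set (IrrCharacter (Kz y))}
    (hg : SubpairLE 2 M ((Subgroup.zpowers y).map (MulAut.conj g).toMonoidHom)
      (conjBlock (Subgroup.zpowers y) g b) D e) : g * y * g⁻¹ ∈ D :=
  SubpairLE.le hg (by
    rw [zpowers_map_conj]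
    exact Subgroup.mem_zpowers _)

/-- A conjugate of a pair below `(D, e)`, with the centralizer of the image. -/
lemma subpairLE_conjB {y y' g : G} (hgy : g * y * g⁻¹ = y') {b : Set (IrrCharacter (Kz y))}
    (hg : SubpairLE 2 M ((Subgroup.zpowers y).map (MulAut.conj g).toMonoidHom)
      (conjBlock (Subgroup.zpowers y) g b) D e) :
    SubpairLE 2 M (Subgroup.zpowers y') (conjB g (map_conj_cz' hgy) b) D e :=
  transport_pair g (map_conj_zpowers' hgy) b (fun A a => SubpairLE 2 M A a D e) hg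

/-- **A block whose conjugates into `D` are conjugate inside `D` is the block below `(D, e)`.** -/
theorem eq_eBlk_of_fix (hMp : IsPModular 2 M) (hmax : IsMaximalBrauerPair 2 M B D e) {y : G} (hy : y ∈ D)
    (hfix : ∀ g : G, g * y * g⁻¹ ∈ D → ∃ d ∈ D, d * (g * y * g⁻¹) * d⁻¹ = y)
    {b : Set (IrrCharacter (Kz y))} (hb : IsInducedBlock M (Kz y) b B) : b = eBlk M 2 D e y := by
  obtain ⟨g, hg⟩ := exists_conj_pair hMp hmax hy hb
  obtain ⟨d, hd, hdy⟩ := hfix g (conj_mem_of_pair hg)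
  have h1 := subpairLE_conj_of_mem hd hg
  have h2 := (transport_mul d g (Subgroup.zpowers y) b (fun A a => SubpairLE 2 M A a D e)).mpr h1
  have hw : (d * g) * y * (d * g)⁻¹ = y := by
    calc (d * g) * y * (d * g)⁻¹ = d * (g * y * g⁻¹) * d⁻¹ := by group
      _ = y := hdy
  have h3 := subpairLE_conjB hw h2
  rw [conjB_of_mem (mem_cz_of_conj hw)] at h3
  exact eq_eBlk hMp hmax.1.1 h3

open Classical in
/-- When all blocks inducing `B` coincide, the inducers are that block. -/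
lemma inducers_eq_of_unique {K : Subgroup G} [Fintype K] {χ : IrrCharacter G} (hχ : χ ∈ B) (hB : IsPBlock M B)
    {b₀ : Set (IrrCharacter K)} (hb₀ : IsInducedBlock M K b₀ B) (huniq : ∀ b, IsInducedBlock M K b B → b = b₀) :
    inducers K M (χ : G → ℂ) = b₀ := by
  have hBeq : B = blockOf M (χ : G → ℂ) := isPBlock_eq_blockOf hB hχ
  ext ξ
  rw [mem_inducers_iff, ← hBeq]
  constructor
  · intro h
    have h1 := huniq _ h
    rw [← h1]
    exact mem_blockOf_self ξ
  · intro hξ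
    have h1 : b₀ = blockOf M (ξ : K → ℂ) := isPBlock_eq_blockOf hb₀.1 hξ
    rw [← h1]
    exact hb₀

end Pairs

end Cfsg.Agent.Lib.Blocks.Semi
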