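/-
Semidihedral defect groups: the ranks at the involutions and at the elements not squaring to one.
-/
import Mathlib
import Cfsg.Agent.Lib.Blocks.Semi9a

set_option autoImplicit false
set_option linter.style.haveILetI false

namespace Cfsg.Agent.Lib.Blocks.Semi

open Cfsg Cfsg.Agent.Lib.Blocks.Local Cfsg.Agent.Lib.Blocks.Central Cfsg.Agent.Lib.Blocks.Osima
open Cfsg.Agent.Lib.Blocks.Covering Cfsg.Agent.Lib.Blocks.BlockHom Cfsg.Agent.Lib.Blocks.Pairs
open Cfsg.Agent.Lib.Blocks.Twisted Cfsg.Agent.Lib.Blocks.Necklace Cfsg.Agent.Lib.Blocks.Nilp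
open Cfsg.Agent.Lib.Blocks.Regular Cfsg.Agent.Lib.Blocks.Sections Cfsg.Agent.Lib.Blocks.BlockCount
open Cfsg.Agent.Lib.Blocks.Transport Cfsg.Agent.Lib.Blocks.Tame Cfsg.Agent.Lib.Blocks.Quat
open Cfsg.Agent.Lib.Blocks.AbelianCount Cfsg.Agent.Lib.Blocks.MajorSub
open Cfsg.Agent.Lib.Char.Ortho
open scoped ComplexConjugate

universe u

section Major

variable {G : Type u} [Group G] [Fintype G] {M : Ideal AlgInt} [hM : M.IsPrime] {p : ℕ} [hp : Fact p.Prime]

/-- `P` is a defect group of the block below the maximal pair at a central element. -/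
theorem major_eBlk_defect (hMp : IsPModular p M) {B : Set (IrrCharacter G)} {P : Subgroup G}
    {e : Set (IrrCharacter (Subgroup.centralizer (P : Set G)))}
    (hmax : IsMaximalBrauerPair p M B P e) {z : G} (hz : z ∈ P)
    (hzc : z ∈ Subgroup.centralizer (P : Set G)) :
    IsDefectGroup p M (eBlk M p P e z) (P.subgroupOf (Kz z)) := by
  classical
  haveI : Fintype (Kz z) := Fintype.ofFinite _
  obtain ⟨hind, hd⟩ := major_eBlk hMp hmax hz hzc
  have hPe : IsBrauerPair p M P e := hmax.1.1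
  have hle := eBlk_spec hMp hPe hz
  have hcomm : ∀ a ∈ P, a * z = z * a := fun a ha => Subgroup.mem_centralizer_iff.mp hzc a ha
  have hQP : Subgroup.zpowers z ≤ P := (Subgroup.zpowers_le).mpr hz
  have hPK : P ≤ Kz z := fun a ha => mem_centralizer_zpowers_iff.mpr (hcomm a ha)
  have hPN : P ≤ Subgroup.normalizer ((Subgroup.zpowers z : Subgroup G) : Set G) := by
    intro a ha
    rw [Subgroup.mem_normalizer_iff]
    intro b
    constructor
    · rintro ⟨n, rfl⟩
      refine ⟨n, ?_⟩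
      have h1 : Commute a (z ^ n) := Commute.zpow_right (hcomm a ha) n
      show z ^ n = a * z ^ n * a⁻¹
      rw [h1.eq, mul_inv_cancel_right]
    · rintro ⟨n, hn⟩
      have hn' : z ^ n = a * b * a⁻¹ := hn
      have h1 : Commute a (z ^ n) := Commute.zpow_right (hcomm a ha) n
      refine ⟨n, ?_⟩
      have h2 : b = a⁻¹ * z ^ n * a := by rw [hn']; group
      show z ^ n = b
      rw [h2, mul_assoc, ← h1.eq, inv_mul_cancel_left]
  obtain ⟨f', hf', -⟩ := existsUnique_normal_subpair hMp hPe hQP hPN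
  have hle' : SubpairLE p M (Subgroup.zpowers z) f' P e := Relation.ReflTransGen.single hf'
  have hff : f' = eBlk M p P e z := eq_of_subpairLE hMp hPe hle' hle
  rw [hff] at hf'
  obtain ⟨x, hx, hxc⟩ := exists_coeff_of_normal_subpair hf'
  have hxK : x ∈ Kz z := mem_centralizer_zpowers_iff.mpr (Subgroup.mem_centralizer_iff.mp hx z hz).symm
  rw [coeff_EE, subgroupBlockCoeff_of_mem _ hxK] at hxc
  obtain ⟨y, S, -, hD⟩ := exists_isDefectGroup hMp hind.1
  have hDp := Cfsg.Agent.S0908.result p M hMp _ hind.1 _ hD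
  have hPp := Cfsg.Agent.S0908.result p M hMp B hmax.1.2.1 P (isDefectGroup_of_maximal hMp hmax)
  have hR : IsPGroup p (P.subgroupOf (Kz z)) := by
    intro g
    obtain ⟨n, hn⟩ := hPe.1 ⟨(g : G), Subgroup.mem_subgroupOf.mp g.2⟩
    refine ⟨n, ?_⟩
    apply Subtype.ext
    apply Subtype.ext
    have h1 := congrArg (Subtype.val) hn
    simpa using h1
  have hRx : P.subgroupOf (Kz z) ≤ Subgroup.centralizer ({⟨x, hxK⟩} : Set (Kz z)) := by
    intro g hg
    rw [Subgroup.mem_centralizer_iff]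
    rintro w rfl
    apply Subtype.ext
    have h1 := Subgroup.mem_centralizer_iff.mp hx (g : G) (Subgroup.mem_subgroupOf.mp hg)
    exact h1.symm
  obtain ⟨w, hw⟩ := exists_le_conj_of_coeff hMp hind.1 hD hxc hR hRx
  have hc1 : Nat.card (P.subgroupOf (Kz z)) = Nat.card P :=
    Nat.card_congr (Subgroup.subgroupOfEquivOfLe hPK).toEquiv
  have hc3 : ∀ D : Subgroup (Kz z), Nat.card (D.map (MulAut.conj w).toMonoidHom) = Nat.card D := fun D =>
    Nat.card_congr (D.equivMapOfInjective _ (MulAut.conj w).injective).symm.toEquiv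
  have heq : P.subgroupOf (Kz z) = _ := Subgroup.eq_of_le_of_card_ge hw (by
    rw [hc3, hc1, hDp, hPp, hd])
  rw [heq]
  exact Cfsg.Agent.Lib.Blocks.Principal.isDefectGroup_map_conj hD w

end Major

section Main

variable {G : Type u} [Group G] [Fintype G] {M : Ideal AlgInt} [hM : M.IsPrime]
  {B : Set (IrrCharacter G)} {D : Subgroup G} {e : Set (IrrCharacter (Subgroup.centralizer (D : Set G)))}
  {x t : G} {N : ℕ}

omit hM in
lemma conj_sq_one {v : G} (hv : v * v = 1) (g : G) : (g * v * g⁻¹) * (g * v * g⁻¹) = 1 := by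
  calc (g * v * g⁻¹) * (g * v * g⁻¹) = g * (v * v) * g⁻¹ := by group
    _ = 1 := by rw [hv]; group

omit hM in
lemma conj_ne_one' {v : G} (hv : v ≠ 1) (g : G) : g * v * g⁻¹ ≠ 1 := by
  intro h1
  apply hv
  have : v = g⁻¹ * (g * v * g⁻¹) * g := by group
  rw [this, h1]
  group

/-- The pair below `(D, e)` belongs to the block. -/
lemma induced_eBlk (hMp : IsPModular 2 M) (hmax : IsMaximalBrauerPair 2 M B D e) {y : G} (hy : y ∈ D) :
    IsInducedBlock M (Kz y) (eBlk M 2 D e y) B := by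
  haveI : Fact (Nat.Prime 2) := ⟨Nat.prime_two⟩
  letI : Fintype (Kz y) := Fintype.ofFinite _
  have hPe := hmax.1.1
  have hf := isPBlock_eBlk hMp hPe hy
  have hQf : IsBrauerPair 2 M (Subgroup.zpowers y) (eBlk M 2 D e y) :=
    ⟨hPe.1.to_le ((Subgroup.zpowers_le).mpr hy), hf⟩
  have h1 := (isBrauerPairOf_iff_of_subpairLE hMp hQf (eBlk_spec hMp hPe hy)).mp hmax.1
  exact isInducedBlock_of_brauerPair hMp h1

omit hM in
lemma blockRank_mono' {X : Type u} [Group X] [Fintype X] {A A' : Set (IrrCharacter X)} (h : A ⊆ A') :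
    blockRank 2 A ≤ blockRank 2 A' := by
  rw [blockRank_eq, blockRank_eq]
  exact Submodule.finrank_mono (Submodule.span_mono (Set.image_mono h))

omit hM in
lemma blockRank_union_le' {X : Type u} [Group X] [Fintype X] (A A' : Set (IrrCharacter X)) :
    blockRank 2 (A ∪ A') ≤ blockRank 2 A + blockRank 2 A' := by
  rw [blockRank_eq, blockRank_eq, blockRank_eq, regSpan, regSpan, regSpan, Set.image_union, Submodule.span_union]
  exact Submodule.finrank_add_le_finrank_add_finrank _ _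

open Classical in
/-- **If `t` is not conjugate to `z`, the rank at `t` is one.** -/
theorem rank_outer (hMp : IsPModular 2 M) (hmax : IsMaximalBrauerPair 2 M B D e) (h : SDD D x t N)
    (hnc : ¬ IsConj t (x ^ N)) {χ : IrrCharacter G} (hχ : χ ∈ B) :
    blockRank 2 (inducers (Cen t) M (χ : G → ℂ)) = 1 := by
  haveI : Fact (Nat.Prime 2) := ⟨Nat.prime_two⟩
  rw [← cz_eq_cen]
  letI : Fintype (CZ t) := Fintype.ofFinite _
  have hv1 : t ≠ 1 := fun h1 => h.refl_ne 0 0 (by simpa using h1)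
  have hfix : ∀ g : G, g * t * g⁻¹ ∈ D → ∃ d ∈ D, d * (g * t * g⁻¹) * d⁻¹ = t := by
    intro g hg
    exact h.invol_conj hg (conj_sq_one h.htt g) (conj_ne_one' hv1 g) (fun h1 => hnc (isConj_iff.mpr ⟨g, h1⟩))
  rw [inducers_eq_of_unique hχ hmax.1.2.1 (induced_eBlk hMp hmax h.htD)
    (fun b hb => eq_eBlk_of_fix hMp hmax h.htD hfix hb)]
  exact blockRank_eBlk_of hMp hmax h h.htD hv1 fun x₀ _ h1 => hnc (isConj_iff.mpr ⟨x₀, h1⟩)

open Classical in
/-- **If `t` is not conjugate to `z`, the rank at `z` is that of the block below `(D, e)`.** -/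
theorem rank_z_nc (hMp : IsPModular 2 M) (hmax : IsMaximalBrauerPair 2 M B D e) (h : SDD D x t N)
    (hnc : ¬ IsConj t (x ^ N)) {χ : IrrCharacter G} (hχ : χ ∈ B) :
    blockRank 2 (inducers (Cen (x ^ N)) M (χ : G → ℂ)) = blockRank 2 (eBlk M 2 D e (x ^ N)) := by
  haveI : Fact (Nat.Prime 2) := ⟨Nat.prime_two⟩
  rw [← cz_eq_cen]
  letI : Fintype (CZ (x ^ N)) := Fintype.ofFinite _
  have hfix : ∀ g : G, g * x ^ N * g⁻¹ ∈ D → ∃ d ∈ D, d * (g * x ^ N * g⁻¹) * d⁻¹ = x ^ N := by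
    intro g hg
    by_cases h1 : g * x ^ N * g⁻¹ = x ^ N
    · exact ⟨1, D.one_mem, by rw [h1]; group⟩
    · exfalso
      obtain ⟨d, hd, hdy⟩ := h.invol_conj hg (conj_sq_one h.zz_sq g) (conj_ne_one' h.zz_ne_one g) h1
      apply hnc
      refine IsConj.symm (isConj_iff.mpr ⟨d * g, ?_⟩)
      calc (d * g) * x ^ N * (d * g)⁻¹ = d * (g * x ^ N * g⁻¹) * d⁻¹ := by group
        _ = t := hdy
  rw [inducers_eq_of_unique hχ hmax.1.2.1 (induced_eBlk hMp hmax h.zz_mem)
    (fun b hb => eq_eBlk_of_fix hMp hmax h.zz_mem hfix hb)]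

open Classical in
/-- The rank at `z` from below. -/
theorem rank_z_ge (hMp : IsPModular 2 M) (hmax : IsMaximalBrauerPair 2 M B D e) (h : SDD D x t N)
    {χ : IrrCharacter G} (hχ : χ ∈ B) :
    blockRank 2 (eBlk M 2 D e (x ^ N)) ≤ blockRank 2 (inducers (Cen (x ^ N)) M (χ : G → ℂ)) := by
  rw [← cz_eq_cen]
  letI : Fintype (CZ (x ^ N)) := Fintype.ofFinite _
  have hind := induced_eBlk hMp hmax h.zz_mem
  exact blockRank_mono' fun ξ hξ g => hind.2.2 ξ hξ χ hχ g

open Classical in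
/-- **The rank at `z` from above, when `t` is conjugate to `z`.** -/
theorem rank_z_le (hMp : IsPModular 2 M) (hmax : IsMaximalBrauerPair 2 M B D e) (h : SDD D x t N)
    (hc : IsConj t (x ^ N)) {χ : IrrCharacter G} (hχ : χ ∈ B) :
    blockRank 2 (inducers (Cen (x ^ N)) M (χ : G → ℂ)) ≤ blockRank 2 (eBlk M 2 D e (x ^ N)) + 1 := by
  haveI : Fact (Nat.Prime 2) := ⟨Nat.prime_two⟩
  rw [← cz_eq_cen]
  letI : Fintype (CZ (x ^ N)) := Fintype.ofFinite _
  have hB := hmax.1.2.1
  have hPe := hmax.1.1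
  have hBeq : B = blockOf M (χ : G → ℂ) := isPBlock_eq_blockOf hB hχ
  have hv1 : t ≠ 1 := fun h1 => h.refl_ne 0 0 (by simpa using h1)
  obtain ⟨g₀, hg₀⟩ := isConj_iff.mp hc
  set bt : Set (IrrCharacter (CZ (x ^ N))) := conjB g₀ (map_conj_cz' hg₀) (eBlk M 2 D e t) with hbtdef
  have hcases : ∀ b : Set (IrrCharacter (CZ (x ^ N))), IsInducedBlock M (CZ (x ^ N)) b B →
      b = eBlk M 2 D e (x ^ N) ∨ b = bt := by
    intro b hb
    obtain ⟨g, hg⟩ := exists_conj_pair hMp hmax h.zz_mem hb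
    have hgm := conj_mem_of_pair hg
    by_cases h1 : g * x ^ N * g⁻¹ = x ^ N
    · left
      have h3 := subpairLE_conjB h1 hg
      rw [conjB_of_mem (mem_cz_of_conj h1)] at h3
      exact eq_eBlk hMp hPe h3
    · right
      obtain ⟨d, hd, hdy⟩ := h.invol_conj hgm (conj_sq_one h.zz_sq g) (conj_ne_one' h.zz_ne_one g) h1
      have h2 := (transport_mul d g (Subgroup.zpowers (x ^ N)) b (fun A a => SubpairLE 2 M A a D e)).mpr
        (subpairLE_conj_of_mem hd hg)
      have hw : (d * g) * x ^ N * (d * g)⁻¹ = t := by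
        calc (d * g) * x ^ N * (d * g)⁻¹ = d * (g * x ^ N * g⁻¹) * d⁻¹ := by group
          _ = t := hdy
      have h3 := subpairLE_conjB hw h2
      have h4 := eq_eBlk hMp hPe h3
      have hw2 : (g₀ * (d * g)) * x ^ N * (g₀ * (d * g))⁻¹ = x ^ N := by
        calc (g₀ * (d * g)) * x ^ N * (g₀ * (d * g))⁻¹ = g₀ * ((d * g) * x ^ N * (d * g)⁻¹) * g₀⁻¹ := by group
          _ = x ^ N := by rw [hw, hg₀]
      rw [hbtdef, ← h4, ← conjB_mul (map_conj_cz' hg₀) (map_conj_cz' hw) (map_conj_cz' hw2),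
        conjB_of_mem (mem_cz_of_conj hw2)]
  have hsub : inducers (CZ (x ^ N)) M (χ : G → ℂ) ⊆ eBlk M 2 D e (x ^ N) ∪ bt := by
    intro ξ hξ
    have h1 := mem_inducers_iff.mp hξ
    rw [← hBeq] at h1
    have h2 : ξ ∈ blockOf M (ξ : CZ (x ^ N) → ℂ) := mem_blockOf_self ξ
    rcases hcases _ h1 with h3 | h3
    · rw [h3] at h2
      exact Or.inl h2
    · rw [h3] at h2
      exact Or.inr h2
  by_cases hbt : bt = eBlk M 2 D e (x ^ N)
  · rw [hbt, Set.union_self] at hsub
    have := blockRank_mono' (X := CZ (x ^ N)) hsub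
    omega
  · have hr : blockRank 2 (eBlk M 2 D e t) = 1 := by
      refine blockRank_eBlk_of hMp hmax h h.htD hv1 fun x₀ hle h5 => ?_
      have h6 := subpairLE_conjB h5 hle
      have h7 := eq_eBlk hMp hPe h6
      rw [conjB_eq_of_mul_mem (map_conj_cz' h5) (map_conj_cz' hg₀) (mul_inv_mem_cz h5 hg₀)] at h7
      exact hbt h7
    have hrt : blockRank 2 bt = 1 := by
      rw [hbtdef, conjB, blockRank_blockMap]
      exact hr
    have h1 := blockRank_mono' (X := CZ (x ^ N)) hsub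
    have h2 := blockRank_union_le' (X := CZ (x ^ N)) (eBlk M 2 D e (x ^ N)) bt
    omega

/-- **The pair at `z` below a pair at an element not squaring to one.** -/
theorem normal_pair (hMp : IsPModular 2 M) (hmax : IsMaximalBrauerPair 2 M B D e) (h : SDD D x t N)
    {r : G} (hr : r ∈ D) (hr2 : r * r ≠ 1) {F : Set (IrrCharacter (Kz r))} (hF : IsInducedBlock M (Kz r) F B) :
    IsNormalSubpair 2 M (Subgroup.zpowers (x ^ N)) (eBlk M 2 D e (x ^ N)) (Subgroup.zpowers r) F := by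
  haveI : Fact (Nat.Prime 2) := ⟨Nat.prime_two⟩
  have hPe := hmax.1.1
  have hzr := h.zz_mem_zpowers_of_sq hr hr2
  have hQA : Subgroup.zpowers (x ^ N) ≤ Subgroup.zpowers r := (Subgroup.zpowers_le).mpr hzr
  have hRb : IsBrauerPair 2 M (Subgroup.zpowers r) F := ⟨hPe.1.to_le ((Subgroup.zpowers_le).mpr hr), hF.1⟩
  have hPN : Subgroup.zpowers r ≤ Subgroup.normalizer ((Subgroup.zpowers (x ^ N) : Subgroup G) : Set G) := by
    intro a ha
    obtain ⟨k, rfl⟩ := Subgroup.mem_zpowers_iff.mp ha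
    exact mem_norm_of_comm (y := r) hzr (((Commute.refl r).zpow_left k).eq)
  obtain ⟨f₀, hn, -⟩ := existsUnique_normal_subpair hMp hRb hQA hPN
  obtain ⟨g, hg⟩ := exists_conj_pair hMp hmax hr hF
  have hgz := h.conj_fix hr hr2 (conj_mem_of_pair hg)
  have hle₀ : SubpairLE 2 M (Subgroup.zpowers (x ^ N)) f₀ (Subgroup.zpowers r) F := Relation.ReflTransGen.single hn
  have h5 := subpairLE_conj_gen g (map_conj_zpowers' hgz) rfl (map_conj_cz' hgz)
    (map_conj_centralizer (Subgroup.zpowers r) g) hle₀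
  rw [← conjBlock_eq_conjB, conjB_of_mem (mem_cz_of_conj hgz)] at h5
  have h6 := eq_eBlk hMp hPe (h5.trans hg)
  rwa [h6] at hn

/-- **A block of a centralizer in `C(z)` induces the block at `z` if and only if the corresponding block induces `B`.** -/
theorem induced_iff_cen' (hMp : IsPModular 2 M) (hmax : IsMaximalBrauerPair 2 M B D e) (h : SDD D x t N)
    [Fintype (Kz (x ^ N))] {r : G} (hr : r ∈ D) (hr2 : r * r ≠ 1)
    (hCW : Subgroup.centralizer ((Subgroup.zpowers (x ^ N) : Subgroup G) : Set G) ≤ Kz (x ^ N))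
    (hQA : Subgroup.zpowers (x ^ N) ≤ Subgroup.zpowers r) (hAW : Subgroup.zpowers r ≤ Kz (x ^ N))
    {f' : Set (IrrCharacter (Subgroup.centralizer (((Subgroup.zpowers r).subgroupOf (Kz (x ^ N)) : Subgroup (Kz (x ^ N))) : Set (Kz (x ^ N)))))}
    (hf' : IsPBlock M f') :
    IsInducedBlock M (Subgroup.centralizer (((Subgroup.zpowers r).subgroupOf (Kz (x ^ N)) : Subgroup (Kz (x ^ N))) : Set (Kz (x ^ N)))) f'
        (eBlk M 2 D e (x ^ N)) ↔
      IsInducedBlock M (Subgroup.centralizer ((Subgroup.zpowers r : Subgroup G) : Set G))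
        (blockMap (cD hCW hQA hAW).symm f') B := by
  classical
  haveI : Fact (Nat.Prime 2) := ⟨Nat.prime_two⟩
  letI : Fintype (Subgroup.centralizer ((Subgroup.zpowers r : Subgroup G) : Set G)) := Fintype.ofFinite _
  have hPe := hmax.1.1
  have hbz := induced_eBlk hMp hmax h.zz_mem
  constructor
  · intro hf
    have hfb : IsInducedBlockIn M (Kz (x ^ N)) (Subgroup.centralizer ((Subgroup.zpowers r : Subgroup G) : Set G))
        (blockMap (cD hCW hQA hAW).symm f') (eBlk M 2 D e (x ^ N)) := by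
      apply (isInducedBlock_iff_in hCW hQA hAW).mp
      rw [blockMap_blockMap_symm]
      exact hf
    exact isInducedBlock_trans' ((Subgroup.centralizer_le hQA).trans hCW) hbz hfb
  · intro hc
    have hn := normal_pair hMp hmax h hr hr2 hc
    have hb := isBrauerPairOf_down hCW hbz.1 (fun t => (subgroupBlockCoeff_coe _ t).symm) hQA hAW hn
    rw [blockMap_blockMap_symm] at hb
    exact isInducedBlock_of_brauerPair hMp hb

open Classical in
/-- **The ranks of the sections at the elements not squaring to one agree in `G` and in `C(z)`.** -/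
theorem rank_inducers_eq' (hMp : IsPModular 2 M) (hmax : IsMaximalBrauerPair 2 M B D e) (h : SDD D x t N)
    [Fintype (Kz (x ^ N))] {χ : IrrCharacter G} (hχ : χ ∈ B) {χ' : IrrCharacter (Kz (x ^ N))} (hχ' : χ' ∈ eBlk M 2 D e (x ^ N))
    {r : G} (hr : r ∈ D) (hr2 : r * r ≠ 1) (hrW : r ∈ Kz (x ^ N)) :
    blockRank 2 (inducers (Cen (⟨r, hrW⟩ : Kz (x ^ N))) M (χ' : Kz (x ^ N) → ℂ)) = blockRank 2 (inducers (Cen r) M (χ : G → ℂ)) := by
  haveI : Fact (Nat.Prime 2) := ⟨Nat.prime_two⟩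
  have hBeq : B = blockOf M (χ : G → ℂ) := isPBlock_eq_blockOf hmax.1.2.1 hχ
  have hbz := induced_eBlk hMp hmax h.zz_mem
  have hbeq : eBlk M 2 D e (x ^ N) = blockOf M (χ' : Kz (x ^ N) → ℂ) := isPBlock_eq_blockOf hbz.1 hχ'
  have hzr := h.zz_mem_zpowers_of_sq hr hr2
  have hQA : Subgroup.zpowers (x ^ N) ≤ Subgroup.zpowers r := (Subgroup.zpowers_le).mpr hzr
  have hAW : Subgroup.zpowers r ≤ Kz (x ^ N) := (Subgroup.zpowers_le).mpr hrW
  have hCW : Subgroup.centralizer ((Subgroup.zpowers (x ^ N) : Subgroup G) : Set G) ≤ Kz (x ^ N) := le_refl _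
  have e1 : Cen (⟨r, hrW⟩ : Kz (x ^ N)) = Subgroup.centralizer (((Subgroup.zpowers r).subgroupOf (Kz (x ^ N)) : Subgroup (Kz (x ^ N))) : Set (Kz (x ^ N))) := by
    rw [show (Subgroup.zpowers r).subgroupOf (Kz (x ^ N)) = Subgroup.zpowers (⟨r, hrW⟩ : Kz (x ^ N)) from
      (Cfsg.Agent.Lib.Blocks.Tame.zpowers_subgroupOf (⟨r, hrW⟩ : Kz (x ^ N))).symm]
    exact (cz_eq_cen _).symm
  have e2 : Cen r = Subgroup.centralizer ((Subgroup.zpowers r : Subgroup G) : Set G) := (cz_eq_cen r).symm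
  rw [e1, e2]
  letI : Fintype (Subgroup.centralizer ((Subgroup.zpowers r : Subgroup G) : Set G)) := Fintype.ofFinite _
  letI : Fintype (Subgroup.centralizer (((Subgroup.zpowers r).subgroupOf (Kz (x ^ N)) : Subgroup (Kz (x ^ N))) : Set (Kz (x ^ N)))) := Fintype.ofFinite _
  have hset : inducers (Subgroup.centralizer (((Subgroup.zpowers r).subgroupOf (Kz (x ^ N)) : Subgroup (Kz (x ^ N))) : Set (Kz (x ^ N)))) M (χ' : Kz (x ^ N) → ℂ) =
      blockMap (cD hCW hQA hAW) (inducers (Subgroup.centralizer ((Subgroup.zpowers r : Subgroup G) : Set G)) M (χ : G → ℂ)) := by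
    ext ξ'
    rw [mem_blockMap_iff, mem_inducers_iff, mem_inducers_iff, ← hBeq, ← hbeq]
    have hf' : IsPBlock M (blockOf M (ξ' : _ → ℂ)) := ⟨ξ', rfl⟩
    rw [induced_iff_cen' hMp hmax h hr hr2 hCW hQA hAW hf']
    have h2 : blockMap (cD hCW hQA hAW).symm (blockOf M (ξ' : _ → ℂ)) =
        blockOf M ((irrComap (cD hCW hQA hAW).symm ξ' : IrrCharacter _) : _ → ℂ) :=
      (blockOf_comap _ ξ').symm
    rw [h2]
  rw [hset, blockRank_blockMap]

end Main

end Cfsg.Agent.Lib.Blocks.Semi
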