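/-
Semidihedral defect groups: the count `k(B) - l(B)`.
-/
import Mathlib
import Cfsg.Agent.Lib.Blocks.Semi9b

set_option autoImplicit false
set_option linter.style.haveILetI false

namespace Cfsg.Agent.Lib.Blocks.Semi

open Cfsg Cfsg.Agent.Lib.Blocks.Local Cfsg.Agent.Lib.Blocks.Central Cfsg.Agent.Lib.Blocks.Osima
open Cfsg.Agent.Lib.Blocks.Covering Cfsg.Agent.Lib.Blocks.BlockHom Cfsg.Agent.Lib.Blocks.Pairs
open Cfsg.Agent.Lib.Blocks.Twisted Cfsg.Agent.Lib.Blocks.Necklace Cfsg.Agent.Lib.Blocks.Nilp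
open Cfsg.Agent.Lib.Blocks.Regular Cfsg.Agent.Lib.Blocks.Sections Cfsg.Agent.Lib.Blocks.BlockCount
open Cfsg.Agent.Lib.Blocks.Transport Cfsg.Agent.Lib.Blocks.Tame Cfsg.Agent.Lib.Blocks.Quat
open Cfsg.Agent.Lib.Blocks.AbelianCount
open scoped ComplexConjugate

universe u

section Main

variable {G : Type u} [Group G] [Fintype G] {M : Ideal AlgInt} [hM : M.IsPrime]
  {B : Set (IrrCharacter G)} {D : Subgroup G} {x t : G}

omit hM in
lemma sq_of_isConj {a c : G} (h : IsConj a c) (ha : a * a = 1) : c * c = 1 := by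
  obtain ⟨g, rfl⟩ := isConj_iff.mp h
  exact conj_sq_one ha g

open Classical in
/-- **The count at the block at `z`.** -/
theorem count_main (hMp : IsPModular 2 M) (hB : IsPBlock M B) (hD : IsDefectGroup 2 M B D) {n : ℕ} (hn : 4 ≤ n)
    (h : SDD D x t (2 ^ (n - 2))) :
    ∀ (K : Subgroup G) [Fintype K], Kz (x ^ (2 ^ (n - 2))) = K → ∃ (_ : D ≤ K) (b : Set (IrrCharacter K)),
      IsInducedBlock M K b B ∧ IsDefectGroup 2 M b (D.subgroupOf K) ∧
        (Nat.card B = blockRank 2 B + 2 ^ (n - 2) + 1 ∨ Nat.card B = blockRank 2 B + 2 ^ (n - 2) + 2) := by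
  rintro K _ rfl
  haveI : Fact (Nat.Prime 2) := ⟨Nat.prime_two⟩
  obtain ⟨e, hmax⟩ := Cfsg.Agent.S4552.exists_maximal_on_defect hMp hB hD
  set N := 2 ^ (n - 2) with hN
  have hPe := hmax.1.1
  have hzc : x ^ N ∈ Subgroup.centralizer (D : Set G) :=
    Subgroup.mem_centralizer_iff.mpr fun a ha => h.zz_comm ha
  have hmemW : ∀ g : G, g * x ^ N * g⁻¹ = x ^ N → g ∈ Kz (x ^ N) := fun g hg => mem_cz_of_conj hg
  have hDW : D ≤ Kz (x ^ N) := fun a ha => by
    refine hmemW a ?_
    rw [h.zz_comm ha]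
    group
  have hbz := induced_eBlk hMp hmax h.zz_mem
  have hdef := major_eBlk_defect hMp hmax h.zz_mem hzc
  refine ⟨hDW, eBlk M 2 D e (x ^ N), hbz, hdef, ?_⟩
  have hbzB := hbz.1
  set bz := eBlk M 2 D e (x ^ N) with hbzdef
  obtain ⟨χ₁, hχ₁⟩ := isPBlock_nonempty hB
  obtain ⟨χ', hχ'⟩ := isPBlock_nonempty hbzB
  have hv1 : t ≠ 1 := fun h1 => h.refl_ne 0 0 (by simpa using h1)
  have htz : t ≠ x ^ N := fun h1 => h.refl_ne 0 N (by simpa using h1)
  -- the central level
  have hd' := h.subgroupOf hDW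
  set xW : Kz (x ^ N) := ⟨x, hDW h.hxD⟩ with hxW
  set tW : Kz (x ^ N) := ⟨t, hDW h.htD⟩ with htW
  set zW : Kz (x ^ N) := ⟨x ^ N, hDW h.zz_mem⟩ with hzW
  have hzWeq : xW ^ N = zW := Subtype.ext (by simp [hxW, hzW])
  have hcen : ∀ g : Kz (x ^ N), g * zW = zW * g := by
    intro g
    apply Subtype.ext
    exact (Subgroup.mem_centralizer_iff.mp g.2 (x ^ N) (Subgroup.mem_zpowers _)).symm
  have hcen' : ∀ g : Kz (x ^ N), g * xW ^ N = xW ^ N * g := by
    intro g
    rw [hzWeq]
    exact hcen g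
  have hcentral := card_central hMp hbzB hdef hn hd' hcen'
  -- the representatives
  obtain ⟨R, hR, hnc, hcov⟩ := exists_R D
  set Ro := R.filter (fun r => r * r ≠ 1) with hRo
  have hRo1 : ∀ r ∈ Ro, r ∈ D ∧ r ≠ 1 ∧ r * r ≠ 1 := fun r hr =>
    ⟨(hR r (Finset.mem_filter.mp hr).1).1, (hR r (Finset.mem_filter.mp hr).1).2, (Finset.mem_filter.mp hr).2⟩
  have hncRo : ∀ s ∈ Ro, ∀ u ∈ Ro, IsConj s u → s = u := fun s hs u hu hc =>
    hnc s (Finset.mem_filter.mp hs).1 u (Finset.mem_filter.mp hu).1 hc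
  have hcovRo : ∀ r ∈ D, r * r ≠ 1 → ∃ s ∈ Ro, IsConj r s := by
    intro r hr hr2
    have hr1 : r ≠ 1 := by
      rintro rfl
      simp at hr2
    obtain ⟨s, hs, hc⟩ := hcov r hr hr1
    exact ⟨s, Finset.mem_filter.mpr ⟨hs, fun h3 => hr2 (sq_of_isConj hc.symm h3)⟩, hc⟩
  have hzRo : x ^ N ∉ Ro := fun h3 => (hRo1 _ h3).2.2 h.zz_sq
  have htRo : t ∉ Ro := fun h3 => (hRo1 _ h3).2.2 h.htt
  -- the level of `W`
  set RW : Finset (Kz (x ^ N)) := insert zW (insert tW (Ro.subtype (· ∈ Kz (x ^ N)))) with hRW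
  have hzWt : zW ≠ tW := fun h3 => htz (congrArg Subtype.val h3).symm
  have hWo : ∀ r ∈ Ro.subtype (· ∈ Kz (x ^ N)), (r : G) ∈ D ∧ (r : G) ≠ 1 ∧ (r : G) * (r : G) ≠ 1 := fun r hr =>
    hRo1 _ (Finset.mem_subtype.mp hr)
  have hzWo : zW ∉ Ro.subtype (· ∈ Kz (x ^ N)) := fun h3 => hzRo (Finset.mem_subtype.mp h3)
  have htWo : tW ∉ Ro.subtype (· ∈ Kz (x ^ N)) := fun h3 => htRo (Finset.mem_subtype.mp h3)
  have hcW : ∀ {a c : Kz (x ^ N)}, IsConj a c → IsConj (a : G) (c : G) := by
    intro a c hc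
    obtain ⟨g, hg⟩ := isConj_iff.mp hc
    exact isConj_iff.mpr ⟨g, congrArg Subtype.val hg⟩
  have hzconj : ∀ c : Kz (x ^ N), IsConj c zW → c = zW := by
    intro c hc
    obtain ⟨g, hg⟩ := isConj_iff.mp hc.symm
    rw [← hg]
    have := hcen g
    rw [this]
    group
  have hrep := card_eq_of_reps hMp hbzB hdef RW
    (by
      intro r hr
      rcases Finset.mem_insert.mp hr with rfl | hr
      · exact ⟨Subgroup.mem_subgroupOf.mpr h.zz_mem, fun h3 => h.zz_ne_one (congrArg Subtype.val h3)⟩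
      rcases Finset.mem_insert.mp hr with rfl | hr
      · exact ⟨Subgroup.mem_subgroupOf.mpr h.htD, fun h3 => hv1 (congrArg Subtype.val h3)⟩
      · exact ⟨Subgroup.mem_subgroupOf.mpr (hWo r hr).1, fun h3 => (hWo r hr).2.1 (congrArg Subtype.val h3)⟩)
    (by
      intro s hs u hu hc
      rcases Finset.mem_insert.mp hs with rfl | hs
      · exact (hzconj u hc.symm).symm
      rcases Finset.mem_insert.mp hu with rfl | hu
      · exact hzconj s hc
      rcases Finset.mem_insert.mp hs with rfl | hs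
      · rcases Finset.mem_insert.mp hu with rfl | hu
        · rfl
        · exact absurd (sq_of_isConj (hcW hc) h.htt) (hWo u hu).2.2
      · rcases Finset.mem_insert.mp hu with rfl | hu
        · exact absurd (sq_of_isConj (hcW hc).symm h.htt) (hWo s hs).2.2
        · exact Subtype.ext (hncRo _ (Finset.mem_subtype.mp hs) _ (Finset.mem_subtype.mp hu) (hcW hc)))
    (by
      intro r hr hr1
      have hrD : (r : G) ∈ D := Subgroup.mem_subgroupOf.mp hr
      have hr1' : (r : G) ≠ 1 := fun h4 => hr1 (Subtype.ext h4)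
      by_cases hr2 : (r : G) * (r : G) = 1
      · by_cases hrz : (r : G) = x ^ N
        · exact ⟨zW, Finset.mem_insert_self _ _, by rw [show r = zW from Subtype.ext hrz]⟩
        · obtain ⟨d, hd, hdr⟩ := h.invol_conj hrD hr2 hr1' hrz
          refine ⟨tW, Finset.mem_insert_of_mem (Finset.mem_insert_self _ _), ?_⟩
          exact isConj_iff.mpr ⟨⟨d, hDW hd⟩, Subtype.ext hdr⟩
      · obtain ⟨s, hs, hc⟩ := hcovRo _ hrD hr2
        obtain ⟨g, hg⟩ := isConj_iff.mp hc
        have hsD := (hRo1 s hs).1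
        have hgW : g ∈ Kz (x ^ N) := hmemW g (h.conj_fix hrD hr2 (by rw [hg]; exact hsD))
        refine ⟨⟨s, hDW hsD⟩, Finset.mem_insert_of_mem (Finset.mem_insert_of_mem (Finset.mem_subtype.mpr hs)), ?_⟩
        exact isConj_iff.mpr ⟨⟨g, hgW⟩, Subtype.ext hg⟩)
    hχ'
  rw [hRW, Finset.sum_insert (by
    intro h3
    rcases Finset.mem_insert.mp h3 with h3 | h3
    · exact hzWt h3
    · exact hzWo h3), Finset.sum_insert htWo] at hrep
  -- the terms of the sum
  have hbzeq : bz = blockOf M (χ' : Kz (x ^ N) → ℂ) := isPBlock_eq_blockOf hbzB hχ'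
  have hWz : blockRank 2 (inducers (Cen zW) M (χ' : Kz (x ^ N) → ℂ)) = blockRank 2 bz := by
    have key : ∀ K' : Subgroup (Kz (x ^ N)), K' = ⊤ →
        blockRank 2 (inducers K' M (χ' : Kz (x ^ N) → ℂ)) = blockRank 2 (blockOf M (χ' : Kz (x ^ N) → ℂ)) := by
      rintro _ rfl
      exact blockRank_inducers_top χ'
    rw [hbzeq]
    refine key _ ?_
    rw [eq_top_iff]
    intro g _
    rw [Subgroup.mem_centralizer_singleton_iff]
    exact hcen g
  have hWt : blockRank 2 (inducers (Cen tW) M (χ' : Kz (x ^ N) → ℂ)) = 1 := by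
    obtain ⟨e', hmaxW⟩ := Cfsg.Agent.S4552.exists_maximal_on_defect hMp hbzB hdef
    refine rank_outer hMp hmaxW hd' ?_ hχ'
    rw [hzWeq]
    intro hc
    exact hzWt (hzconj tW hc).symm
  have hsumW : ∑ r ∈ Ro.subtype (· ∈ Kz (x ^ N)), blockRank 2 (inducers (Cen r) M (χ' : Kz (x ^ N) → ℂ)) =
      ∑ r ∈ Ro, blockRank 2 (inducers (Cen r) M (χ₁ : G → ℂ)) := by
    refine Finset.sum_bij (fun r _ => (r : G)) ?_ ?_ ?_ ?_
    · intro r hr
      exact Finset.mem_subtype.mp hr
    · intro r _ r' _ hrr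
      exact Subtype.ext hrr
    · intro r hr
      exact ⟨⟨r, hDW (hRo1 r hr).1⟩, Finset.mem_subtype.mpr hr, rfl⟩
    · intro r hr
      have hrR := Finset.mem_subtype.mp hr
      exact rank_inducers_eq' hMp hmax h hχ₁ hχ' (hRo1 _ hrR).1 (hRo1 _ hrR).2.2 r.2
  rw [hWz, hWt, hsumW] at hrep
  set A := ∑ r ∈ Ro, blockRank 2 (inducers (Cen r) M (χ₁ : G → ℂ)) with hA
  have hAeq : blockRank 2 bz + A + 1 = N + 2 := by
    omega
  -- the level of `G`
  by_cases hcz : IsConj t (x ^ N)
  · have h1 := card_eq_of_reps hMp hB hD (insert (x ^ N) Ro)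
      (by
        intro r hr
        rcases Finset.mem_insert.mp hr with rfl | hr
        · exact ⟨h.zz_mem, h.zz_ne_one⟩
        · exact ⟨(hRo1 r hr).1, (hRo1 r hr).2.1⟩)
      (by
        intro s hs u hu hc
        rcases Finset.mem_insert.mp hs with rfl | hs
        · rcases Finset.mem_insert.mp hu with rfl | hu
          · rfl
          · exact absurd (sq_of_isConj hc h.zz_sq) (hRo1 u hu).2.2
        · rcases Finset.mem_insert.mp hu with rfl | hu
          · exact absurd (sq_of_isConj hc.symm h.zz_sq) (hRo1 s hs).2.2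
          · exact hncRo s hs u hu hc)
      (by
        intro r hr hr1
        by_cases hr2 : r * r = 1
        · by_cases hrz : r = x ^ N
          · exact ⟨x ^ N, Finset.mem_insert_self _ _, by rw [hrz]⟩
          · obtain ⟨d, hd, hdr⟩ := h.invol_conj hr hr2 hr1 hrz
            refine ⟨x ^ N, Finset.mem_insert_self _ _, ?_⟩
            exact (isConj_iff.mpr ⟨d, hdr⟩).trans hcz
        · obtain ⟨s, hs, hc⟩ := hcovRo r hr hr2
          exact ⟨s, Finset.mem_insert_of_mem hs, hc⟩)
      hχ₁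
    rw [Finset.sum_insert hzRo] at h1
    have h2 : blockRank 2 bz ≤ _ := rank_z_ge hMp hmax h hχ₁
    have h3 : _ ≤ blockRank 2 bz + 1 := rank_z_le hMp hmax h hcz hχ₁
    omega
  · have htRo' : x ^ N ∉ insert t Ro := by
      intro h3
      rcases Finset.mem_insert.mp h3 with h3 | h3
      · exact htz h3.symm
      · exact hzRo h3
    have h1 := card_eq_of_reps hMp hB hD (insert (x ^ N) (insert t Ro))
      (by
        intro r hr
        rcases Finset.mem_insert.mp hr with rfl | hr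
        · exact ⟨h.zz_mem, h.zz_ne_one⟩
        rcases Finset.mem_insert.mp hr with rfl | hr
        · exact ⟨h.htD, hv1⟩
        · exact ⟨(hRo1 r hr).1, (hRo1 r hr).2.1⟩)
      (by
        intro s hs u hu hc
        rcases Finset.mem_insert.mp hs with rfl | hs
        · rcases Finset.mem_insert.mp hu with rfl | hu
          · rfl
          rcases Finset.mem_insert.mp hu with rfl | hu
          · exact absurd hc.symm hcz
          · exact absurd (sq_of_isConj hc h.zz_sq) (hRo1 u hu).2.2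
        rcases Finset.mem_insert.mp hs with hst | hs'
        · rw [hst] at hc
          rcases Finset.mem_insert.mp hu with huz | hu'
          · rw [huz] at hc
            exact absurd hc hcz
          rcases Finset.mem_insert.mp hu' with hut | hu''
          · rw [hst, hut]
          · exact absurd (sq_of_isConj hc h.htt) (hRo1 u hu'').2.2
        · rcases Finset.mem_insert.mp hu with huz | hu'
          · rw [huz] at hc
            exact absurd (sq_of_isConj hc.symm h.zz_sq) (hRo1 s hs').2.2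
          rcases Finset.mem_insert.mp hu' with hut | hu''
          · rw [hut] at hc
            exact absurd (sq_of_isConj hc.symm h.htt) (hRo1 s hs').2.2
          · exact hncRo s hs' u hu'' hc)
      (by
        intro r hr hr1
        by_cases hr2 : r * r = 1
        · by_cases hrz : r = x ^ N
          · exact ⟨x ^ N, Finset.mem_insert_self _ _, by rw [hrz]⟩
          · obtain ⟨d, hd, hdr⟩ := h.invol_conj hr hr2 hr1 hrz
            exact ⟨t, Finset.mem_insert_of_mem (Finset.mem_insert_self _ _), isConj_iff.mpr ⟨d, hdr⟩⟩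
        · obtain ⟨s, hs, hc⟩ := hcovRo r hr hr2
          exact ⟨s, Finset.mem_insert_of_mem (Finset.mem_insert_of_mem hs), hc⟩)
      hχ₁
    rw [Finset.sum_insert htRo', Finset.sum_insert htRo] at h1
    have h2 : _ = blockRank 2 bz := rank_z_nc hMp hmax h hcz hχ₁
    have h3 := rank_outer hMp hmax h hcz hχ₁
    omega

end Main

end Cfsg.Agent.Lib.Blocks.Semi
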