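/-
Semidihedral defect groups: the relation between three rows of the matrix of a block of rank at most two.
-/
import Mathlib
import Cfsg.Agent.Lib.Blocks.Semi9c
import Cfsg.Agent.Lib.Blocks.Semi7

set_option autoImplicit false
set_option linter.style.haveILetI false

namespace Cfsg.Agent.Lib.Blocks.Semi

open Cfsg Cfsg.Agent.Lib.Blocks.Sections Cfsg.Agent.Lib.Blocks.BlockCount
open Cfsg.Agent.Lib.Blocks.MajorSub Cfsg.Agent.Lib.Blocks.MajorSub2 Cfsg.Agent.Lib.Blocks.Tame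
open Cfsg.Agent.Lib.Blocks.Quat
open scoped ComplexConjugate

universe u

section Main

variable {G : Type u} [Group G] [Fintype G]

/-- **Three rows of the matrix of a block of rank at most two are dependent.** -/
theorem rel_XX {u : G} [Fintype (Cen u)] {bz : Set (IrrCharacter (Cen u))} (hrk : blockRank 2 bz ≤ 2)
    (a b c : IrrCharacter G) : ∃ α β γ : ℂ, (α ≠ 0 ∨ β ≠ 0 ∨ γ ≠ 0) ∧
      ∀ i : IrrCharacter G, α * XX 2 bz a i + β * XX 2 bz b i + γ * XX 2 bz c i = 0 := by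
  haveI : Fact (Nat.Prime 2) := ⟨Nat.prime_two⟩
  let v : Fin 3 → regSpan 2 bz := ![⟨gg 2 bz a, gg_mem bz a⟩, ⟨gg 2 bz b, gg_mem bz b⟩, ⟨gg 2 bz c, gg_mem bz c⟩]
  have hnot : ¬ LinearIndependent ℂ v := by
    intro hli
    have h1 := hli.fintype_card_le_finrank
    rw [Fintype.card_fin] at h1
    rw [blockRank_eq] at hrk
    omega
  obtain ⟨g, hg, hne⟩ := Fintype.not_linearIndependent_iff.mp hnot
  rw [Fin.sum_univ_three] at hg
  have hval : ∀ y : Cen u, g 0 * gg 2 bz a y + g 1 * gg 2 bz b y + g 2 * gg 2 bz c y = 0 := by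
    intro y
    have h1 := congrFun (congrArg Subtype.val hg) y
    simpa [v] using h1
  refine ⟨g 0, g 1, g 2, ?_, fun i => ?_⟩
  · obtain ⟨j, hj⟩ := hne
    fin_cases j
    · exact Or.inl hj
    · exact Or.inr (Or.inl hj)
    · exact Or.inr (Or.inr hj)
  · simp only [XX, classInner]
    have h2 : ∑ y : Cen u, (g 0 * gg 2 bz a y + g 1 * gg 2 bz b y + g 2 * gg 2 bz c y) * conj (gg 2 bz i y) = 0 :=
      Finset.sum_eq_zero fun y _ => by rw [hval y, zero_mul]
    have h3 : ∑ y : Cen u, (g 0 * gg 2 bz a y + g 1 * gg 2 bz b y + g 2 * gg 2 bz c y) * conj (gg 2 bz i y) =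
        g 0 * ∑ y : Cen u, gg 2 bz a y * conj (gg 2 bz i y) + g 1 * ∑ y : Cen u, gg 2 bz b y * conj (gg 2 bz i y) +
          g 2 * ∑ y : Cen u, gg 2 bz c y * conj (gg 2 bz i y) := by
      rw [Finset.mul_sum, Finset.mul_sum, Finset.mul_sum, ← Finset.sum_add_distrib, ← Finset.sum_add_distrib]
      refine Finset.sum_congr rfl fun y _ => ?_
      ring
    rw [h3] at h2
    linear_combination (((2 : ℕ) : ℂ) ^ blockDefect 2 bz * (Nat.card (Cen u) : ℂ)⁻¹) * h2

end Main

end Cfsg.Agent.Lib.Blocks.Semi
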