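import Mathlib
import Cfsg.Agent.Lib.Blocks.SC3I

/-!
# Trivial intersection Sylow 3-subgroups of order 9: basic tools

`SCW G` says that centralizers of elements of order three have exponent three. The results about an
element of order 3 acting on a group of order prime to 3 from `SC3A` carry over.
-/

set_option autoImplicit false

namespace Cfsg.Agent.Lib.Blocks.TI9

open Cfsg Cfsg.Agent.Lib.Blocks.SC3 Cfsg.Agent.Lib.Blocks.Principal
open scoped ComplexConjugate

universe u

variable {G : Type u} [Group G]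

/-- Centralizers of elements of order 3 have exponent 3. -/
def SCW (G : Type u) [Group G] : Prop :=
  ∀ y : G, orderOf y = 3 → ∀ c : G, c * y = y * c → c ^ 3 = 1

namespace ActW

variable {E : Subgroup G} {y : G}

theorem fix [Finite G] (hS : SCW G) (h : Act E y) {e : G} (he : e ∈ E) (hf : y * e * y⁻¹ = e) : e = 1 := by
  have h1 : e * y = y * e := by
    have h0 : y * e = (y * e * y⁻¹) * y := by group
    rw [h0, hf]
  have h3 : e ^ 3 = 1 := hS y h.ord e h1
  have h4 : orderOf e ∣ 3 := orderOf_dvd_of_pow_eq_one h3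
  have h5 : orderOf (⟨e, he⟩ : E) ∣ Nat.card E := orderOf_dvd_natCard _
  rw [Subgroup.orderOf_mk] at h5
  rcases (Nat.dvd_prime (by norm_num : Nat.Prime 3)).mp h4 with h6 | h6
  · exact orderOf_eq_one_iff.mp h6
  · rw [h6] at h5
    exact absurd h5 h.cop

theorem isNilpotent [Finite G] (hS : SCW G) (h : Act E y) : Group.IsNilpotent E := by
  refine Cfsg.Agent.Lib.Thompson.Main.thompson_nilpotent (q := 3) (by norm_num) (Nat.card E) E h.aut rfl ?_ (h.aut_iter)
  intro e he
  apply Subtype.ext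
  apply fix hS h e.2
  exact congrArg Subtype.val he

/-- Every element of `E` is a commutator with `y`. -/
theorem exists_comm [Finite G] (hS : SCW G) (h : Act E y) {u : G} (hu : u ∈ E) :
    ∃ w ∈ E, u = w * (y * w⁻¹ * y⁻¹) := by
  let f : E → E := fun w => w * (h.aut w)⁻¹
  have hf : Function.Injective f := by
    intro a b hab
    have h1 : (a : G) * (y * (a : G)⁻¹ * y⁻¹) = b * (y * (b : G)⁻¹ * y⁻¹) := by
      have := congrArg Subtype.val hab
      simpa [f, mul_assoc] using this
    have h2 : y * ((b : G)⁻¹ * a) * y⁻¹ = (b : G)⁻¹ * a := by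
      have h3 : (b : G)⁻¹ * a = (y * (b : G)⁻¹ * y⁻¹) * (y * (a : G)⁻¹ * y⁻¹)⁻¹ := by
        have h4 : (y * (b : G)⁻¹ * y⁻¹) = (b : G)⁻¹ * (a * (y * (a : G)⁻¹ * y⁻¹)) := by
          rw [h1]
          group
        rw [h4]
        group
      calc y * ((b : G)⁻¹ * a) * y⁻¹ = (y * (b : G)⁻¹ * y⁻¹) * (y * (a : G)⁻¹ * y⁻¹)⁻¹ := by group
        _ = _ := h3.symm
    have h5 := fix hS h (E.mul_mem (E.inv_mem b.2) a.2) h2
    apply Subtype.ext
    have h6 : (a : G) = b := by
      have := mul_eq_one_iff_eq_inv.mp h5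
      exact (inv_inj.mp this).symm
    exact h6
  have hf2 : Function.Surjective f := Finite.injective_iff_surjective.mp hf
  obtain ⟨w, hw⟩ := hf2 ⟨u, hu⟩
  refine ⟨w, w.2, ?_⟩
  have := congrArg Subtype.val hw
  simp only [f, Subgroup.coe_mul, Subgroup.coe_inv, Act.aut_apply] at this
  rw [← this]
  group

/-- Coset elements are conjugate to `y` under `E`. -/
theorem coset_conj [Finite G] (hS : SCW G) (h : Act E y) {u : G} (hu : u ∈ E) :
    ∃ w ∈ E, u * y = w * y * w⁻¹ := by
  obtain ⟨w, hw, rfl⟩ := exists_comm hS h hu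
  refine ⟨w, hw, ?_⟩
  group

/-- The number of elements is congruent to 1 modulo 3. -/
theorem card_mod [Finite G] (hS : SCW G) (h : Act E y) : Nat.card E % 3 = 1 := by
  classical
  haveI : Fintype E := Fintype.ofFinite _
  haveI : Fact (Nat.Prime 3) := ⟨by norm_num⟩
  let f : Function.End E := fun e => h.aut e
  have hf : f ^ 3 ^ 1 = 1 := by
    have h0 : f ^ 3 ^ 1 = f * f * f := by
      rw [pow_one, pow_succ, pow_two]
    rw [h0]
    funext e
    exact h.aut_iter e
  have h1 := Equiv.Perm.card_fixedPoints_modEq (f := f) (p := 3) (n := 1) hf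
  have h2 : Fintype.card (Function.fixedPoints f) = 1 := by
    rw [Fintype.card_eq_one_iff]
    refine ⟨⟨1, ?_⟩, ?_⟩
    · show f 1 = 1
      exact map_one h.aut
    · rintro ⟨e, he⟩
      apply Subtype.ext
      apply Subtype.ext
      have he' : f e = e := he
      have := fix hS h e.2 (congrArg Subtype.val he')
      simpa using this
  rw [Nat.card_eq_fintype_card]
  rw [h2] at h1
  exact h1

end ActW

/-- The four-group lemma: if `a`, `b` have order 3 and `a b` is an involution, then `b⁻¹` is conjugate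
to `a`. -/
theorem conj_of_mul_invol {a b t : G} (ha : orderOf a = 3) (hb : orderOf b = 3) (ht : orderOf t = 2)
    (hab : a * b = t) : IsConj b⁻¹ a := by
  have hy : b⁻¹ ∈ Zt t := by
    refine ⟨by rw [orderOf_inv, hb], ?_⟩
    have : t * b⁻¹ = a := by rw [← hab]; group
    rw [this, ha]
  have htri := tri_of_mem ht hy
  set r := b⁻¹ * t * (b⁻¹)⁻¹ with hr
  have h1 : t * b⁻¹ = a := by rw [← hab]; group
  rw [isConj_iff]
  refine ⟨r, ?_⟩
  have h2 : r * b⁻¹ * r⁻¹ = r * (b⁻¹ * r * (b⁻¹)⁻¹) * b⁻¹ := by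
    rw [htri.inv_r]
    group
  rw [h2, htri.yr, ← h1]
  have h3 : r * (t * r) = t := by
    rw [← mul_assoc, ← htri.comm, mul_assoc, htri.hr, mul_one]
  rw [h3]

theorem orderOf_of_isConj {g h : G} (hc : IsConj g h) : orderOf g = orderOf h := by
  obtain ⟨k, hk⟩ := isConj_iff.mp hc
  have h3 : (MulAut.conj k) g = h := hk
  rw [← h3, MulEquiv.orderOf_eq]

theorem isConj_of_inv {g h : G} (hc : IsConj g⁻¹ h⁻¹) : IsConj g h := by
  obtain ⟨k, hk⟩ := isConj_iff.mp hc
  refine isConj_iff.mpr ⟨k, ?_⟩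
  have h1 : k * g * k⁻¹ = (k * g⁻¹ * k⁻¹)⁻¹ := by group
  rw [h1, hk, inv_inv]

/-- Two elements of order 3 in different classes: no conjugate of the first times an involution lies in
the class of the second. -/
theorem cnt_mixed_eq_zero {s₁ s₂ t : G} (h1 : orderOf s₁ = 3) (h2 : orderOf s₂ = 3) (ht : orderOf t = 2)
    (hne : ¬ IsConj s₁ s₂) : Cnt s₂ s₁ t = 0 := by
  rw [Cnt]
  haveI : IsEmpty {s : G // IsConj s₁ s ∧ IsConj (s * t) s₂} := by
    refine ⟨fun s => ?_⟩
    obtain ⟨s, hs1, hs2⟩ := s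
    have ho1 : orderOf s = 3 := by rw [← orderOf_of_isConj hs1, h1]
    have ho2 : orderOf (s * t) = 3 := by rw [orderOf_of_isConj hs2, h2]
    have h3 := conj_of_mul_invol (a := s⁻¹) (b := s * t) (t := t) (by rw [orderOf_inv, ho1]) ho2 ht (by group)
    have h4 := isConj_of_inv h3
    exact hne (hs1.trans (h4.symm.trans hs2))
  exact Nat.card_of_isEmpty

/-- Involutions inverting elements of a subgroup of exponent 3: `t s = s t s⁻¹`. -/
theorem mul_eq_conj {t s : G} (hs : s ^ 3 = 1) (hinv : t * s * t⁻¹ = s⁻¹) : t * s = s * t * s⁻¹ := by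
  have h1 : s * s * s = 1 := by
    rw [← hs, pow_succ, pow_two]
  have h2 : s⁻¹ = s * s := by
    rw [inv_eq_iff_mul_eq_one, ← mul_assoc]
    exact h1
  have h3 : t * s⁻¹ * t⁻¹ = s := by
    have h4 : t * s⁻¹ * t⁻¹ = (t * s * t⁻¹)⁻¹ := by group
    rw [h4, hinv, inv_inv]
  calc t * s = (t * s * t⁻¹) * t := by group
    _ = s⁻¹ * t := by rw [hinv]
    _ = s * s * t := by rw [h2]
    _ = s * (t * s⁻¹ * t⁻¹) * t := by rw [h3]
    _ = s * t * s⁻¹ := by group

end Cfsg.Agent.Lib.Blocks.TI9
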