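import Mathlib
import Cfsg.Agent.Lib.Blocks.TI9A

/-!
# Trivial intersection Sylow 3-subgroups of order 9: character tools

* `cnt_general`: the class algebra constants in terms of the irreducible characters;
* `kbound`: if `t` inverts a subgroup `S` of exponent 3, then for every character `ξ`,
  `|ξ(t)| ≤ [ξ|_S, 1_S]` (from the restriction to `S ⟨t⟩`);
* `exists_int_value`: integrality of the values on real elements of order 3.
-/

set_option autoImplicit false

namespace Cfsg.Agent.Lib.Blocks.TI9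

open Cfsg Cfsg.Agent.Lib.Blocks.SC3 Cfsg.Agent.Lib.Blocks.Principal
open scoped ComplexConjugate

universe u

variable {G : Type u} [Group G]

/-- The class algebra constants. -/
theorem cnt_general [Finite G] [Fintype (IrrCharacter G)] (x z g : G) :
    (Nat.card (Cn x) : ℂ) * Cnt x z g = ((Cn z).index : ℂ) *
      ∑ χ : IrrCharacter G, conj ((χ : G → ℂ) x) * ((χ : G → ℂ) z * (χ : G → ℂ) g / (χ : G → ℂ) 1) := by
  classical
  haveI : Fintype G := Fintype.ofFinite G
  have hcnt : (Cnt x z g : ℂ) = ∑ s : G, if IsConj z s ∧ IsConj (s * g) x then (1 : ℂ) else 0 := by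
    rw [Finset.sum_boole, Cnt, Nat.card_eq_fintype_card, Fintype.card_subtype]
  have hcol : ∀ h : G, ∑ χ : IrrCharacter G, conj ((χ : G → ℂ) x) * (χ : G → ℂ) h =
      if IsConj h x then (Nat.card (Cn x) : ℂ) else 0 := by
    intro h
    split_ifs with hh
    · have h1 := Cfsg.Agent.Lib.Char.CompleteCor.column_orth_conj hh.symm
      have h2 := congrArg (starRingEnd ℂ) h1
      rw [map_sum, Complex.conj_natCast] at h2
      rw [← h2]
      refine Finset.sum_congr rfl fun χ _ => ?_
      rw [map_mul, Complex.conj_conj]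
    · have h1 := Cfsg.Agent.Lib.Char.CompleteCor.column_orth_not_conj (fun h3 => hh (IsConj.symm h3) : ¬ IsConj x h)
      have h2 := congrArg (starRingEnd ℂ) h1
      rw [map_sum, map_zero] at h2
      rw [← h2]
      refine Finset.sum_congr rfl fun χ _ => ?_
      rw [map_mul, Complex.conj_conj]
  have hsum : (Nat.card (Cn x) : ℂ) * Cnt x z g = ∑ s : G, (if IsConj z s then
      ∑ χ : IrrCharacter G, conj ((χ : G → ℂ) x) * (χ : G → ℂ) (s * g) else 0) := by
    rw [hcnt, Finset.mul_sum]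
    refine Finset.sum_congr rfl fun s _ => ?_
    by_cases h5 : IsConj z s
    · rw [if_pos h5, hcol]
      by_cases h6 : IsConj (s * g) x
      · rw [if_pos ⟨h5, h6⟩, if_pos h6, mul_one]
      · rw [if_neg (fun h7 => h6 h7.2), if_neg h6, mul_zero]
    · rw [if_neg h5, if_neg (fun h7 => h5 h7.1), mul_zero]
  rw [hsum]
  have hswap : ∀ s : G, (if IsConj z s then
      ∑ χ : IrrCharacter G, conj ((χ : G → ℂ) x) * (χ : G → ℂ) (s * g) else 0) =
      ∑ χ : IrrCharacter G, conj ((χ : G → ℂ) x) * (if IsConj z s then (χ : G → ℂ) (s * g) else 0) := by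
    intro s
    split_ifs
    · rfl
    · simp
  simp only [hswap]
  rw [Finset.sum_comm, Finset.mul_sum]
  refine Finset.sum_congr rfl fun χ _ => ?_
  rw [← Finset.mul_sum, Cfsg.Agent.Lib.Blocks.WeakOrth.sum_isConj_mul χ.2 z g, centralChar]
  ring

/-- The subgroup `S ⟨t⟩`. -/
def Kt (S : Subgroup G) (t : G) (ht : t * t = 1) (hinv : ∀ s ∈ S, t * s * t⁻¹ = s⁻¹) : Subgroup G where
  carrier := {g | g ∈ S ∨ t * g ∈ S}
  one_mem' := Or.inl S.one_mem
  mul_mem' := by
    have hti : t⁻¹ = t := inv_eq_of_mul_eq_one_right ht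
    rintro a b (ha | ha) (hb | hb)
    · exact Or.inl (S.mul_mem ha hb)
    · right
      have h1 : t * (a * b) = (t * a * t⁻¹) * (t * b) := by group
      rw [h1, hinv a ha]
      exact S.mul_mem (S.inv_mem ha) hb
    · right
      have h1 : t * (a * b) = (t * a) * b := by group
      rw [h1]
      exact S.mul_mem ha hb
    · left
      have h1 : a * b = (t * (t * a) * t⁻¹) * (t * b) := by
        rw [hti]
        calc a * b = (t * t) * a * (t * t) * b := by rw [ht]; group
          _ = _ := by group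
      rw [h1, hinv _ ha]
      exact S.mul_mem (S.inv_mem ha) hb
  inv_mem' := by
    have hti : t⁻¹ = t := inv_eq_of_mul_eq_one_right ht
    rintro a (ha | ha)
    · exact Or.inl (S.inv_mem ha)
    · right
      have h1 : t * a⁻¹ = t * (t * a)⁻¹ * t⁻¹ := by
        have h2 : t * (t * a)⁻¹ * t⁻¹ = t * a⁻¹ * (t * t)⁻¹ := by group
        rw [h2, ht]
        group
      rw [h1, hinv _ (S.inv_mem ha), inv_inv]
      exact ha

theorem mem_Kt {S : Subgroup G} {t : G} {ht : t * t = 1} {hinv : ∀ s ∈ S, t * s * t⁻¹ = s⁻¹} {g : G} :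
    g ∈ Kt S t ht hinv ↔ g ∈ S ∨ t * g ∈ S := Iff.rfl

/-- The sign character of `S ⟨t⟩`. -/
noncomputable def sgnKt (S : Subgroup G) (t : G) (ht : t * t = 1) (hinv : ∀ s ∈ S, t * s * t⁻¹ = s⁻¹)
    (htS : t ∉ S) : Kt S t ht hinv →* ℂˣ := by
  classical
  refine MonoidHom.mk' (fun k => if (k : G) ∈ S then 1 else -1) ?_
  have hti : t⁻¹ = t := inv_eq_of_mul_eq_one_right ht
  have hnot : ∀ a : G, a ∈ S → t * a ∉ S := by
    intro a ha h1
    apply htS
    have h2 : t = (t * a) * a⁻¹ := by group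
    rw [h2]
    exact S.mul_mem h1 (S.inv_mem ha)
  have hout : ∀ a : G, a ∉ S → t * a ∈ S ∨ a ∈ S → t * a ∈ S := by
    intro a h1 h2
    rcases h2 with h2 | h2
    · exact h2
    · exact absurd h2 h1
  rintro ⟨a, ha⟩ ⟨b, hb⟩
  simp only [Subgroup.coe_mul]
  by_cases ha' : a ∈ S <;> by_cases hb' : b ∈ S
  · simp [ha', hb', S.mul_mem ha' hb']
  · have h1 : t * b ∈ S := hout b hb' (Or.symm hb)
    have h2 : a * b ∉ S := fun h3 => hb' (by
      have h4 : b = a⁻¹ * (a * b) := by group
      rw [h4]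
      exact S.mul_mem (S.inv_mem ha') h3)
    simp [ha', hb', h2]
  · have h2 : a * b ∉ S := fun h3 => ha' (by
      have h4 : a = (a * b) * b⁻¹ := by group
      rw [h4]
      exact S.mul_mem h3 (S.inv_mem hb'))
    simp [ha', hb', h2]
  · have h1 : t * a ∈ S := hout a ha' (Or.symm ha)
    have h3 : t * b ∈ S := hout b hb' (Or.symm hb)
    have h2 : a * b ∈ S := by
      have h5 : a * b = (t * (t * a) * t⁻¹) * (t * b) := by
        rw [hti]
        calc a * b = (t * t) * a * (t * t) * b := by rw [ht]; group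
          _ = _ := by group
      rw [h5, hinv _ h1]
      exact S.mul_mem (S.inv_mem h1) h3
    simp [ha', hb', h2]

/-- Sums over `S ⟨t⟩`. -/
theorem sum_Kt [Finite G] [Fintype G] (S : Subgroup G) (t : G) (ht : t * t = 1) (hinv : ∀ s ∈ S, t * s * t⁻¹ = s⁻¹)
    (htS : t ∉ S) [Fintype S] [Fintype (Kt S t ht hinv)] (F : G → ℂ) :
    ∑ k : Kt S t ht hinv, F k = ∑ s : S, F s + ∑ s : S, F (t * s) := by
  classical
  have hti : t⁻¹ = t := inv_eq_of_mul_eq_one_right ht
  let e : S ⊕ S → Kt S t ht hinv := fun x => match x with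
    | Sum.inl s => ⟨s, Or.inl s.2⟩
    | Sum.inr s => ⟨t * s, Or.inr (by rw [← mul_assoc, ht, one_mul]; exact s.2)⟩
  have he : Function.Bijective e := by
    constructor
    · rintro (a | a) (b | b) h
      · have : (a : G) = b := congrArg (fun k : Kt S t ht hinv => (k : G)) h
        rw [Subtype.ext this]
      · exfalso
        have h1 : (a : G) = t * b := congrArg (fun k : Kt S t ht hinv => (k : G)) h
        apply htS
        have h2 : t = a * (b : G)⁻¹ := by rw [h1]; group
        rw [h2]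
        exact S.mul_mem a.2 (S.inv_mem b.2)
      · exfalso
        have h1 : t * (a : G) = b := congrArg (fun k : Kt S t ht hinv => (k : G)) h
        apply htS
        have h2 : t = b * (a : G)⁻¹ := by rw [← h1]; group
        rw [h2]
        exact S.mul_mem b.2 (S.inv_mem a.2)
      · have h1 : t * (a : G) = t * b := congrArg (fun k : Kt S t ht hinv => (k : G)) h
        rw [Subtype.ext (mul_left_cancel h1)]
    · rintro ⟨k, hk | hk⟩
      · exact ⟨Sum.inl ⟨k, hk⟩, rfl⟩
      · refine ⟨Sum.inr ⟨t * k, hk⟩, ?_⟩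
        apply Subtype.ext
        show t * (t * k) = k
        rw [← mul_assoc, ht, one_mul]
  rw [← Fintype.sum_equiv (Equiv.ofBijective e he) (fun x => F (e x)) (fun k => F k) (fun _ => rfl)]
  rw [Fintype.sum_sum_type]

theorem card_Kt [Finite G] (S : Subgroup G) (t : G) (ht : t * t = 1) (hinv : ∀ s ∈ S, t * s * t⁻¹ = s⁻¹)
    (htS : t ∉ S) : Nat.card (Kt S t ht hinv) = 2 * Nat.card S := by
  classical
  haveI : Fintype G := Fintype.ofFinite G
  haveI : Fintype S := Fintype.ofFinite S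
  haveI : Fintype (Kt S t ht hinv) := Fintype.ofFinite _
  have h1 := sum_Kt S t ht hinv htS (fun _ => (1 : ℂ))
  simp only [Finset.sum_const, Finset.card_univ, nsmul_eq_mul, mul_one] at h1
  have h2 : ((Fintype.card (Kt S t ht hinv) : ℕ) : ℂ) = ((2 * Fintype.card S : ℕ) : ℂ) := by
    push_cast
    rw [h1]
    ring
  rw [Nat.card_eq_fintype_card, Nat.card_eq_fintype_card]
  exact_mod_cast h2

/-- **The `K`-bound.** If the involution `t` inverts the subgroup `S` of exponent 3, then for every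
character `ξ`, both `(∑ ξ(s) + |S| ξ(t)) / (2 |S|)` and `(∑ ξ(s) - |S| ξ(t)) / (2 |S|)` are natural
numbers: the multiplicities of the two linear characters of `S ⟨t⟩` with kernel containing `S`. -/
theorem kbound [Finite G] {S : Subgroup G} {t : G} (ht : t * t = 1) (hS3 : ∀ s ∈ S, s ^ 3 = 1)
    (hinv : ∀ s ∈ S, t * s * t⁻¹ = s⁻¹) (htS : t ∉ S) {ξ : G → ℂ} (hξ : IsCharacter G ξ) [Fintype S] :
    ∃ u v : ℕ, ∑ s : S, ξ s + (Nat.card S : ℂ) * ξ t = 2 * (Nat.card S : ℂ) * u ∧
      ∑ s : S, ξ s - (Nat.card S : ℂ) * ξ t = 2 * (Nat.card S : ℂ) * v := by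
  classical
  haveI : Fintype G := Fintype.ofFinite G
  set K := Kt S t ht hinv with hK
  haveI : Fintype K := Fintype.ofFinite K
  have hc := Cfsg.Agent.Lib.Char.Basic.isCharacter_comp_hom hξ K.subtype
  have h1 := Cfsg.Agent.Lib.Char.Basic.isCharacter_of_isIrrCharacter (trivChar K).2
  have hsgn : IsCharacter K (fun k => ((sgnKt S t ht hinv htS k : ℂˣ) : ℂ)) := by
    obtain ⟨n, ρ, -, h⟩ := Cfsg.Agent.Lib.Char.LinearChars.isIrr_of_hom (sgnKt S t ht hinv htS)
    exact ⟨n, ρ, h⟩
  obtain ⟨u, hu⟩ := Cfsg.Agent.Lib.Char.Ortho.exists_nat_classInner_of_isCharacter hc h1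
  obtain ⟨v, hv⟩ := Cfsg.Agent.Lib.Char.Ortho.exists_nat_classInner_of_isCharacter hc hsgn
  have hcard : (Nat.card K : ℂ) = 2 * (Nat.card S : ℂ) := by
    rw [hK, card_Kt S t ht hinv htS]
    push_cast
    ring
  have hne : (Nat.card K : ℂ) ≠ 0 := by exact_mod_cast Nat.card_pos.ne'
  have hconj : ∀ s : S, ξ (t * s) = ξ t := by
    intro s
    rw [mul_eq_conj (hS3 s s.2) (hinv s s.2)]
    exact (Cfsg.Agent.Lib.Char.Basic.isClassFunction_of_isCharacter hξ) _ _
  have hsum : ∑ s : S, ξ (t * s) = (Nat.card S : ℂ) * ξ t := by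
    rw [Finset.sum_congr rfl (fun s _ => hconj s), Finset.sum_const, Finset.card_univ, nsmul_eq_mul,
      Nat.card_eq_fintype_card]
  refine ⟨u, v, ?_, ?_⟩
  · rw [Cfsg.Agent.Lib.Char.Induced.classInner_def] at hu
    rw [← hcard, ← hu, ← mul_assoc, mul_inv_cancel₀ hne, one_mul]
    simp only [Function.comp, coe_trivChar, map_one, mul_one, Subgroup.subtype_apply]
    have h2 := sum_Kt S t ht hinv htS (fun g => ξ g)
    rw [hsum] at h2
    exact h2.symm
  · rw [Cfsg.Agent.Lib.Char.Induced.classInner_def] at hv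
    rw [← hcard, ← hv, ← mul_assoc, mul_inv_cancel₀ hne, one_mul]
    have h2 := sum_Kt S t ht hinv htS (fun g => ξ g * conj ((if g ∈ S then (1 : ℂ) else -1)))
    have h3 : ∑ k : K, ξ (K.subtype k) * conj ((sgnKt S t ht hinv htS k : ℂˣ) : ℂ) =
        ∑ k : K, (fun g => ξ g * conj ((if g ∈ S then (1 : ℂ) else -1))) k := by
      refine Finset.sum_congr rfl fun k _ => ?_
      have h4 : ((sgnKt S t ht hinv htS k : ℂˣ) : ℂ) = if (k : G) ∈ S then (1 : ℂ) else -1 := by
        simp only [sgnKt, MonoidHom.mk'_apply]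
        split_ifs <;> simp
      rw [h4]
      rfl
    simp only [Function.comp] at h3 ⊢
    rw [h3, h2]
    have h5 : ∀ s : S, (t * (s : G)) ∉ S := by
      intro s h6
      apply htS
      have h7 : t = (t * (s : G)) * (s : G)⁻¹ := by group
      rw [h7]
      exact S.mul_mem h6 (S.inv_mem s.2)
    have h6 : ∑ s : S, (fun g => ξ g * conj ((if g ∈ S then (1 : ℂ) else -1))) (s : G) = ∑ s : S, ξ s := by
      refine Finset.sum_congr rfl fun s _ => ?_
      simp [s.2]
    have h7 : ∑ s : S, (fun g => ξ g * conj ((if g ∈ S then (1 : ℂ) else -1))) (t * (s : G)) =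
        -∑ s : S, ξ (t * s) := by
      rw [← Finset.sum_neg_distrib]
      refine Finset.sum_congr rfl fun s _ => ?_
      simp [h5 s]
    rw [h6, h7, hsum]
    ring

/-- The multiplicity of the trivial character on the subgroup generated by a real element of order 3. -/
theorem exists_nat_zpowers {ξ : G → ℂ} [Finite G] (hξ : IsCharacter G ξ) {s : G} (hs : orderOf s = 3)
    (hr : IsConj s s⁻¹) : ∃ m : ℕ, ξ 1 + 2 * ξ s = 3 * m := by
  classical
  have hcl := Cfsg.Agent.Lib.Char.Basic.isClassFunction_of_isCharacter hξ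
  obtain ⟨m, hm⟩ := exists_nat_of_subgroup hξ (Subgroup.zpowers s) (v := ξ s) (by
    intro b hb hb1
    have hs3 : s ^ 3 = 1 := by rw [← hs]; exact pow_orderOf_eq_one s
    rw [mem_zpowers_iff_mem_range_orderOf, hs] at hb
    simp only [Finset.mem_image, Finset.mem_range] at hb
    obtain ⟨i, hi, rfl⟩ := hb
    interval_cases i
    · simp at hb1
    · simp
    · have h2 : s ^ 2 = s⁻¹ := by
        rw [eq_inv_iff_mul_eq_one, ← pow_succ]
        exact hs3
      rw [h2]
      obtain ⟨c, hc⟩ := isConj_iff.mp hr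
      rw [← hc]
      exact hcl _ _)
  refine ⟨m, ?_⟩
  rw [Nat.card_zpowers, hs] at hm
  push_cast at hm
  linear_combination hm

/-- Integrality of the values on real elements of order 3. -/
theorem exists_int_value {ξ : G → ℂ} [Finite G] (hξ : IsCharacter G ξ) {s : G} (hs : orderOf s = 3) (hr : IsConj s s⁻¹) :
    ∃ z : ℤ, ξ s = z := by
  classical
  obtain ⟨m, hm⟩ := exists_nat_zpowers hξ hs hr
  obtain ⟨D, hD⟩ := Cfsg.Agent.Lib.Char.Values.IsCharacter.exists_one_eq hξ
  rw [hD] at hm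
  have h1 : ξ s = (((3 * m - D : ℤ) : ℚ) / 2 : ℚ) := by
    push_cast
    linear_combination (1 / 2 : ℂ) * hm
  have hint := Cfsg.Agent.Lib.Char.Values.IsCharacter.isIntegral hξ s
  rw [h1] at hint
  have hint2 : IsIntegral ℤ (((3 * m - D : ℤ) : ℚ) / 2 : ℚ) := by
    have h2 : algebraMap ℚ ℂ (((3 * m - D : ℤ) : ℚ) / 2 : ℚ) = ((((3 * m - D : ℤ) : ℚ) / 2 : ℚ) : ℂ) := rfl
    rw [← h2] at hint
    exact (isIntegral_algebraMap_iff (algebraMap ℚ ℂ).injective).1 hint
  obtain ⟨z, hz⟩ := IsIntegrallyClosed.isIntegral_iff.1 hint2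
  refine ⟨z, ?_⟩
  rw [h1, ← hz]
  simp

end Cfsg.Agent.Lib.Blocks.TI9
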