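import Mathlib
import Cfsg.Prelude.Def_Blocks
import Cfsg.Agent.Lib.Blocks.PrincipalCen
import Cfsg.Agent.Lib.Blocks.BrauerMap
import Cfsg.Agent.Lib.Blocks.BlockHom

/-!
# A group with a self-centralizing normal `p`-subgroup has a single `p`-block, and consequences
-/

set_option autoImplicit false

namespace Cfsg.Agent.Lib.Blocks.TI9

open Cfsg Cfsg.Agent.Lib.Blocks.Local Cfsg.Agent.Lib.Blocks.Central Cfsg.Agent.Lib.Blocks.Osima
  Cfsg.Agent.Lib.Blocks.Sections Cfsg.Agent.Lib.Blocks.Principal Cfsg.Agent.Lib.Blocks.PrincipalCen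
  Cfsg.Agent.Lib.Blocks.BlockHom Cfsg.Agent.Lib.Blocks.BrauerMap

universe u

section OneBlock

variable {H : Type u} [Group H] [Fintype H] {M : Ideal AlgInt}

theorem sum_coeff_classSum (g : H) :
    ∑ x : H, (classSum g).coeff x = ((Subgroup.centralizer ({g} : Set H)).index : ℂ) := by
  have h1 := omega_classSum (χ := fun _ : H => (1 : ℂ)) (fun _ _ => rfl) g
  rw [centralChar_trivChar, omega] at h1
  simpa using h1

/-- An element of a normal `p`-subgroup: the central character is the class size modulo `M`. -/
theorem memLocalIdeal_centralChar_sub_index {p : ℕ} [Fact p.Prime] (hM : IsPModular p M)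
    (P : Subgroup H) [hPn : P.Normal] (hP : IsPGroup p P) {χ : H → ℂ} (hχ : IsIrrCharacter H χ) {g : H}
    (hg : g ∈ P) :
    MemLocalIdeal M (centralChar χ g - ((Subgroup.centralizer ({g} : Set H)).index : ℂ)) := by
  classical
  haveI hMp : M.IsPrime := isPrime_of_isPModular hM
  set n : ℂ := ((Subgroup.centralizer ({g} : Set H)).index : ℂ) with hn
  set a : MonoidAlgebra ℂ H := classSum g - n • (1 : MonoidAlgebra ℂ H) with ha
  have hnl : MemLocalRing M n := memLocalRing_natCast _
  have h1loc : (1 : MonoidAlgebra ℂ H) ∈ localCenter H M := (localCenter H M).one_mem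
  have haloc : a ∈ localCenter H M :=
    (localCenter H M).sub_mem (classSum_mem_localCenter g) (smul_mem_localCenter hnl h1loc)
  have hom : omega χ a = centralChar χ g - n := by
    rw [ha, omega_sub, omega_classSum (isClassFunction_of_irr hχ), omega_smul, omega_one hχ, mul_one]
  rw [← hom]
  refine memLocalIdeal_omega_of_coset_sum hM P hP hχ haloc ?_
  intro g0 s hs
  have hcoef : ∀ x, a.coeff x = (classSum g).coeff x - n * (1 : MonoidAlgebra ℂ H).coeff x := by
    intro x
    simp [ha]
  have hcls : ∀ x, (classSum g).coeff x ≠ 0 → x ∈ P := by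
    intro x hx
    by_contra hxP
    apply hx
    apply coeff_classSum_of_not_isConj
    intro hc
    obtain ⟨c, rfl⟩ := isConj_iff.1 hc
    exact hxP (hPn.conj_mem g hg c)
  have h1coef : ∀ x, (1 : MonoidAlgebra ℂ H).coeff x ≠ 0 → x = 1 := by
    intro x hx
    by_contra hx1
    apply hx
    rw [coeff_one_apply, if_neg hx1]
  by_cases hg0 : g0 ∈ P
  · have hsP : ∀ x, x ∈ s ↔ x ∈ P := by
      intro x
      rw [hs x]
      constructor
      · intro h
        have := P.mul_mem hg0 h
        simpa using this
      · intro h
        exact P.mul_mem (P.inv_mem hg0) h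
    have h2 : ∑ x ∈ s, (classSum g).coeff x = n := by
      rw [hn, ← sum_coeff_classSum g]
      refine Finset.sum_subset (Finset.subset_univ _) fun x _ hx => ?_
      by_contra hne
      exact hx ((hsP x).2 (hcls x hne))
    have h3 : ∑ x ∈ s, (1 : MonoidAlgebra ℂ H).coeff x = 1 := by
      rw [Finset.sum_eq_single 1]
      · rw [coeff_one_apply, if_pos rfl]
      · intro b _ hb
        rw [coeff_one_apply, if_neg hb]
      · intro h
        exact absurd ((hsP 1).2 P.one_mem) h
    simp only [hcoef, Finset.sum_sub_distrib, ← Finset.mul_sum, h2, h3, mul_one, sub_self]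
    exact memLocalIdeal_zero
  · have hsP : ∀ x, x ∈ s → x ∉ P := by
      intro x hx hxP
      have h2 := (hs x).1 hx
      apply hg0
      have := P.mul_mem hxP (P.inv_mem h2)
      simpa using this
    have h2 : ∑ x ∈ s, a.coeff x = 0 := by
      refine Finset.sum_eq_zero fun x hx => ?_
      rw [hcoef]
      have h3 : (classSum g).coeff x = 0 := by
        by_contra hne
        exact hsP x hx (hcls x hne)
      have h4 : (1 : MonoidAlgebra ℂ H).coeff x = 0 := by
        by_contra hne
        have := h1coef x hne
        rw [this] at hx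
        exact hsP 1 hx P.one_mem
      rw [h3, h4]
      ring
    rw [h2]
    exact memLocalIdeal_zero

/-- A self-centralizing normal `p`-subgroup: there is a single block. -/
theorem mem_principalBlock_of_selfCen {p : ℕ} [Fact p.Prime] (hM : IsPModular p M)
    (P : Subgroup H) [hPn : P.Normal] (hP : IsPGroup p P)
    (hC : Subgroup.centralizer (P : Set H) ≤ P) (ψ : IrrCharacter H) : ψ ∈ principalBlock M H := by
  haveI hMp : M.IsPrime := isPrime_of_isPModular hM
  intro g
  rw [centralChar_trivChar]
  by_cases hg : g ∈ P
  · have := memLocalIdeal_centralChar_sub_index hM P hP ψ.2 hg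
    have h2 := memLocalIdeal_neg this
    convert h2 using 1
    ring
  · have hg' : g ∉ Subgroup.centralizer (P : Set H) := fun h => hg (hC h)
    have h1 := memLocalIdeal_centralChar_of_not_centralizer hM P hP ψ.2 hg'
    have h2 := memLocalIdeal_centralChar_of_not_centralizer hM P hP (χ := fun _ : H => (1 : ℂ))
      (Cfsg.Agent.Lib.Char.Burnside2.isIrrCharacter_one) hg'
    rw [centralChar_trivChar] at h2
    exact memLocalIdeal_sub h2 h1

end OneBlock

section Vanish

variable {G : Type u} [Group G] [Fintype G] {M : Ideal AlgInt} {p : ℕ} [hp : Fact p.Prime]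

/-- If `C_G(x)` has a single block then a character outside the principal block vanishes on the
section of `x`. -/
theorem apply_eq_zero_of_notMem (hM : IsPModular p M) {x : G} {k : ℕ} (hx : orderOf x = p ^ k)
    [Fintype (Cen x)] (hU : ∀ ψ : IrrCharacter (Cen x), ψ ∈ principalBlock M (Cen x))
    (y : Cen x) (hy : ¬ p ∣ orderOf y) {χ : IrrCharacter G} (hχ : χ ∉ principalBlock M G) :
    (χ : G → ℂ) (x * y) = 0 := by
  classical
  haveI hMp : M.IsPrime := isPrime_of_isPModular hM
  have h1 := sum_inducers_of_notMem hM hx y hy (trivChar G) χ hχ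
  rw [inducers_trivChar hM hx] at h1
  have huniv : principalBlock M (Cen x) = Set.univ := Set.eq_univ_of_forall hU
  rw [huniv] at h1
  have hco : ∀ c : Cen x, blockCoeff (Set.univ : Set (IrrCharacter (Cen x))) c =
      (1 : MonoidAlgebra ℂ (Cen x)).coeff c := by
    intro c
    have h2 := blockElt_compl (∅ : Set (IrrCharacter (Cen x)))
    rw [blockElt_empty, sub_zero, Set.compl_empty] at h2
    have h3 := congrArg (fun u => u.coeff c) h2
    simpa only [coeff_blockElt] using h3
  simp only [hco] at h1
  rw [Finset.sum_eq_single 1] at h1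
  · simpa [coeff_one_apply, secElt] using h1
  · intro b _ hb
    rw [coeff_one_apply, if_neg hb, zero_mul]
  · simp

/-- A character vanishing at an element with `p'`-class size is outside the principal block. -/
theorem notMem_principalBlock_of_apply_eq_zero (hM : IsPModular p M) {w : G}
    (hw : ¬ p ∣ (Subgroup.centralizer ({w} : Set G)).index) {χ : IrrCharacter G}
    (h0 : (χ : G → ℂ) w = 0) : χ ∉ principalBlock M G := by
  intro h
  have h1 := h w
  rw [centralChar_trivChar] at h1
  have h2 : centralChar (χ : G → ℂ) w = 0 := by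
    rw [centralChar, h0, mul_zero, zero_div]
  rw [h2, sub_zero] at h1
  exact hw ((memLocalIdeal_natCast_iff hM).1 h1)

end Vanish

end Cfsg.Agent.Lib.Blocks.TI9
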