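import Mathlib

/-!
# Trivial intersection Sylow 3-subgroups of order 9: combinatorics of integer columns
-/

set_option autoImplicit false

namespace Cfsg.Agent.Lib.Blocks.TI9

section Combinatorics

variable {ι : Type*} [Fintype ι] [DecidableEq ι]

theorem sum_two {α : Type*} [AddCommMonoid α] (F : ι → α) {A B : ι} (hAB : A ≠ B) (h0 : ∀ k, k ≠ A → k ≠ B → F k = 0) :
    ∑ k, F k = F A + F B := by
  have hsub : ({A, B} : Finset ι) ⊆ Finset.univ := Finset.subset_univ _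
  rw [← Finset.sum_subset hsub, Finset.sum_pair hAB]
  intro k _ hk
  simp only [Finset.mem_insert, Finset.mem_singleton, not_or] at hk
  exact h0 k hk.1 hk.2

theorem sum_six {α : Type*} [AddCommMonoid α] (F : ι → α) {a b c d e f : ι}
    (hab : a ≠ b) (hac : a ≠ c) (had : a ≠ d) (hae : a ≠ e) (haf : a ≠ f)
    (hbc : b ≠ c) (hbd : b ≠ d) (hbe : b ≠ e) (hbf : b ≠ f)
    (hcd : c ≠ d) (hce : c ≠ e) (hcf : c ≠ f)
    (hde : d ≠ e) (hdf : d ≠ f) (hef : e ≠ f)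
    (h0 : ∀ k, k ≠ a → k ≠ b → k ≠ c → k ≠ d → k ≠ e → k ≠ f → F k = 0) :
    ∑ k, F k = F a + (F b + (F c + (F d + (F e + F f)))) := by
  have hsub : ({a, b, c, d, e, f} : Finset ι) ⊆ Finset.univ := Finset.subset_univ _
  rw [← Finset.sum_subset hsub]
  · rw [Finset.sum_insert (by simp [hab, hac, had, hae, haf]),
      Finset.sum_insert (by simp [hbc, hbd, hbe, hbf]),
      Finset.sum_insert (by simp [hcd, hce, hcf]),
      Finset.sum_insert (by simp [hde, hdf]),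
      Finset.sum_pair hef]
  · intro k _ hk
    simp only [Finset.mem_insert, Finset.mem_singleton, not_or] at hk
    exact h0 k hk.1 hk.2.1 hk.2.2.1 hk.2.2.2.1 hk.2.2.2.2.1 hk.2.2.2.2.2

theorem eq_one_or_of_sq {w : ℤ} (hw : w ^ 2 = 1) : w = 1 ∨ w = -1 := by
  have h6 : (w - 1) * (w + 1) = 0 := by linear_combination hw
  rcases mul_eq_zero.mp h6 with h7 | h7
  · left; omega
  · right; omega

theorem sq_ne_two (w : ℤ) : w ^ 2 ≠ 2 := by
  intro h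
  have h1 : w ≤ 1 := by nlinarith
  have h2 : -1 ≤ w := by nlinarith
  interval_cases w <;> omega

theorem sq_ne_three (w : ℤ) : w ^ 2 ≠ 3 := by
  intro h
  have h1 : w ≤ 1 := by nlinarith
  have h2 : -1 ≤ w := by nlinarith
  interval_cases w <;> omega

/-- The support. -/
theorem supp_facts (w : ι → ℤ) {n : ℤ} (hs : ∑ i, (w i) ^ 2 = n) :
    ∑ i ∈ Finset.univ.filter (fun i => w i ≠ 0), (w i) ^ 2 = n ∧
    (∀ i ∈ Finset.univ.filter (fun i => w i ≠ 0), 1 ≤ (w i) ^ 2) ∧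
    ((Finset.univ.filter (fun i => w i ≠ 0)).card : ℤ) ≤ n := by
  set s := Finset.univ.filter (fun i => w i ≠ 0) with hs'
  have h2 : ∑ i ∈ s, (w i) ^ 2 = n := by
    rw [hs', Finset.sum_filter_of_ne]
    · exact hs
    · intro i _ h3 h4
      apply h3
      rw [h4]
      norm_num
  have hone : ∀ i ∈ s, 1 ≤ (w i) ^ 2 := by
    intro i hi
    have h3 := (Finset.mem_filter.mp hi).2
    have h4 : 0 < (w i) ^ 2 := by positivity
    omega
  refine ⟨h2, hone, ?_⟩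
  have h3 : s.card * 1 ≤ ∑ i ∈ s, (w i) ^ 2 := by
    have := Finset.card_nsmul_le_sum s (fun i => (w i) ^ 2) 1 hone
    simpa using this
  rw [h2] at h3
  simpa using h3

theorem two_of_sum_sq (w : ι → ℤ) (hs : ∑ i, (w i) ^ 2 = 2) :
    ∃ A B, A ≠ B ∧ (w A = 1 ∨ w A = -1) ∧ (w B = 1 ∨ w B = -1) ∧ ∀ k, k ≠ A → k ≠ B → w k = 0 := by
  obtain ⟨h2, hone, hcard⟩ := supp_facts w hs
  set s := Finset.univ.filter (fun i => w i ≠ 0) with hs'
  have hzero : ∀ k, k ∉ s → w k = 0 := by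
    intro k hks
    by_contra h3
    exact hks (Finset.mem_filter.mpr ⟨Finset.mem_univ _, h3⟩)
  have hcases : s.card = 0 ∨ s.card = 1 ∨ s.card = 2 := by omega
  rcases hcases with h3 | h3 | h3
  · rw [Finset.card_eq_zero] at h3
    rw [h3] at h2
    simp at h2
  · exfalso
    obtain ⟨i, hi⟩ := Finset.card_eq_one.mp h3
    rw [hi, Finset.sum_singleton] at h2
    exact sq_ne_two _ h2
  · obtain ⟨i, j, hij, hi⟩ := Finset.card_eq_two.mp h3
    have hi1 : i ∈ s := by rw [hi]; simp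
    have hj1 : j ∈ s := by rw [hi]; simp
    rw [hi, Finset.sum_pair hij] at h2
    have h4 := hone i hi1
    have h5 := hone j hj1
    refine ⟨i, j, hij, eq_one_or_of_sq (by omega), eq_one_or_of_sq (by omega), ?_⟩
    intro k hki hkj
    apply hzero k
    rw [hi]
    simp [hki, hkj]

theorem three_of_sum_sq (w : ι → ℤ) (hs : ∑ i, (w i) ^ 2 = 3) :
    ∃ C D E, C ≠ D ∧ C ≠ E ∧ D ≠ E ∧ (w C = 1 ∨ w C = -1) ∧ (w D = 1 ∨ w D = -1) ∧ (w E = 1 ∨ w E = -1) ∧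
      ∀ k, k ≠ C → k ≠ D → k ≠ E → w k = 0 := by
  obtain ⟨h2, hone, hcard⟩ := supp_facts w hs
  set s := Finset.univ.filter (fun i => w i ≠ 0) with hs'
  have hzero : ∀ k, k ∉ s → w k = 0 := by
    intro k hks
    by_contra h3
    exact hks (Finset.mem_filter.mpr ⟨Finset.mem_univ _, h3⟩)
  have hcases : s.card = 0 ∨ s.card = 1 ∨ s.card = 2 ∨ s.card = 3 := by omega
  rcases hcases with h3 | h3 | h3 | h3
  · rw [Finset.card_eq_zero] at h3
    rw [h3] at h2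
    simp at h2
  · exfalso
    obtain ⟨i, hi⟩ := Finset.card_eq_one.mp h3
    rw [hi, Finset.sum_singleton] at h2
    exact sq_ne_three _ h2
  · exfalso
    obtain ⟨i, j, hij, hi⟩ := Finset.card_eq_two.mp h3
    have hi1 : i ∈ s := by rw [hi]; simp
    have hj1 : j ∈ s := by rw [hi]; simp
    rw [hi, Finset.sum_pair hij] at h2
    have h4 := hone i hi1
    have h5 := hone j hj1
    have h6 : (w i) ^ 2 = 1 ∨ (w i) ^ 2 = 2 := by omega
    rcases h6 with h6 | h6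
    · exact sq_ne_two (w j) (by omega)
    · exact sq_ne_two (w i) h6
  · obtain ⟨i, j, k, hij, hik, hjk, hi⟩ := Finset.card_eq_three.mp h3
    have hi1 : i ∈ s := by rw [hi]; simp
    have hj1 : j ∈ s := by rw [hi]; simp
    have hk1 : k ∈ s := by rw [hi]; simp
    rw [hi, Finset.sum_insert (by simp [hij, hik]), Finset.sum_pair hjk] at h2
    have h4 := hone i hi1
    have h5 := hone j hj1
    have h6 := hone k hk1
    refine ⟨i, j, k, hij, hik, hjk, eq_one_or_of_sq (by omega), eq_one_or_of_sq (by omega),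
      eq_one_or_of_sq (by omega), ?_⟩
    intro l hli hlj hlk
    apply hzero l
    rw [hi]
    simp [hli, hlj, hlk]

theorem case_num_pos (p q : ℤ) (h : p = q + 3) (hnn : 0 ≤ 8 - p ^ 2 - q ^ 2) :
    p = 1 ∧ q = -2 ∨ p = 2 ∧ q = -1 := by
  subst h
  have h4 : q ≤ -1 := by nlinarith
  have h5 : -2 ≤ q := by nlinarith
  interval_cases q <;> simp

theorem case_num_neg (p q : ℤ) (h : p = q - 3) (hnn : 0 ≤ 8 - p ^ 2 - q ^ 2) :
    p = -2 ∧ q = 1 ∨ p = -1 ∧ q = 2 := by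
  subst h
  have h4 : q ≤ 2 := by nlinarith
  have h5 : 1 ≤ q := by nlinarith
  interval_cases q <;> simp

/-- The output of `pair_rows`. -/
structure PairRows (z₁ z₂ : ι → ℤ) (d : ι → ℤ) (i₀ A B C D E : ι) (δ : ℤ) : Prop where
  hAB : A ≠ B
  hA0 : i₀ ≠ A
  hB0 : i₀ ≠ B
  hC0 : i₀ ≠ C
  hD0 : i₀ ≠ D
  hE0 : i₀ ≠ E
  hAC : A ≠ C
  hAD : A ≠ D
  hAE : A ≠ E
  hBC : B ≠ C
  hBD : B ≠ D
  hBE : B ≠ E
  hCD : C ≠ D
  hCE : C ≠ E
  hDE : D ≠ E
  hδ : δ = 1 ∨ δ = -1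
  z1A : z₁ A = δ
  z2A : z₂ A = -2 * δ
  z1B : z₁ B = -2 * δ
  z2B : z₂ B = δ
  dAB : d A = d B
  z1C : z₁ C = 1 ∨ z₁ C = -1
  z1D : z₁ D = 1 ∨ z₁ D = -1
  z1E : z₁ E = 1 ∨ z₁ E = -1
  z2C : z₂ C = z₁ C
  z2D : z₂ D = z₁ D
  z2E : z₂ E = z₁ E
  rest1 : ∀ k, k ≠ i₀ → k ≠ A → k ≠ B → k ≠ C → k ≠ D → k ≠ E → z₁ k = 0
  rest2 : ∀ k, k ≠ i₀ → k ≠ A → k ≠ B → k ≠ C → k ≠ D → k ≠ E → z₂ k = 0

set_option maxHeartbeats 1000000 in
/-- Two orthogonal columns of norm 9, congruent modulo 3, with value 1 at the trivial character, and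
orthogonal to the column of degrees. -/
theorem pair_rows (z₁ z₂ d : ι → ℤ) (i₀ : ι) (hd : ∀ i, 0 < d i) (h10 : z₁ i₀ = 1) (h20 : z₂ i₀ = 1)
    (hn1 : ∑ k, (z₁ k) ^ 2 = 9) (hn2 : ∑ k, (z₂ k) ^ 2 = 9) (ho : ∑ k, z₁ k * z₂ k = 0)
    (hc : ∀ k, (3 : ℤ) ∣ z₁ k - z₂ k) (hd1 : ∑ k, z₁ k * d k = 0) (hd2 : ∑ k, z₂ k * d k = 0) :
    ∃ A B C D E δ, PairRows z₁ z₂ d i₀ A B C D E δ := by
  choose w hw using hc
  have hz2 : ∀ k, z₂ k = z₁ k - 3 * w k := fun k => by linear_combination -hw k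
  have hw2 : ∑ k, (w k) ^ 2 = 2 := by
    have h1 : ∑ k, 9 * (w k) ^ 2 = ∑ k, ((z₁ k) ^ 2 - 2 * (z₁ k * z₂ k) + (z₂ k) ^ 2) := by
      refine Finset.sum_congr rfl fun k _ => ?_
      rw [hz2 k]
      ring
    rw [← Finset.mul_sum, Finset.sum_add_distrib, Finset.sum_sub_distrib, ← Finset.mul_sum, hn1, hn2, ho] at h1
    omega
  obtain ⟨P, Q, hPQ, hwP, hwQ, hw0⟩ := two_of_sum_sq w hw2
  have hw10 : w i₀ = 0 := by
    have := hz2 i₀
    rw [h10, h20] at this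
    omega
  have hP0 : i₀ ≠ P := by
    rintro rfl
    rcases hwP with h | h <;> omega
  have hQ0 : i₀ ≠ Q := by
    rintro rfl
    rcases hwQ with h | h <;> omega
  -- the degree relation
  have hdeg : w P * d P + w Q * d Q = 0 := by
    have h1 : ∑ k, w k * d k = w P * d P + w Q * d Q := by
      apply sum_two _ hPQ
      intro k h2 h3
      rw [hw0 k h2 h3, zero_mul]
    have h2 : ∑ k, 3 * (w k * d k) = ∑ k, (z₁ k * d k - z₂ k * d k) := by
      refine Finset.sum_congr rfl fun k _ => ?_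
      rw [hz2 k]
      ring
    rw [← Finset.mul_sum, Finset.sum_sub_distrib, hd1, hd2, h1] at h2
    omega
  have hdP := hd P
  have hdQ := hd Q
  -- the inner product of `z₁` and `w`
  have hin : z₁ P * w P + z₁ Q * w Q = 3 := by
    have h1 : ∑ k, z₁ k * w k = z₁ P * w P + z₁ Q * w Q := by
      apply sum_two _ hPQ
      intro k h2 h3
      rw [hw0 k h2 h3, mul_zero]
    have h2 : ∑ k, 3 * (z₁ k * w k) = ∑ k, ((z₁ k) ^ 2 - z₁ k * z₂ k) := by
      refine Finset.sum_congr rfl fun k _ => ?_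
      rw [hz2 k]
      ring
    rw [← Finset.mul_sum, Finset.sum_sub_distrib, hn1, ho, h1] at h2
    omega
  -- the rest
  let f : ι → ℤ := fun k => if k = i₀ ∨ k = P ∨ k = Q then 0 else z₁ k
  have hf : ∑ k, (f k) ^ 2 = 8 - (z₁ P) ^ 2 - (z₁ Q) ^ 2 := by
    have h1 : ∀ k, (f k) ^ 2 = (z₁ k) ^ 2 - (if k = i₀ then 1 else 0) - (if k = P then (z₁ P) ^ 2 else 0) -
        (if k = Q then (z₁ Q) ^ 2 else 0) := by
      intro k
      simp only [f]
      by_cases h2 : k = i₀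
      · subst h2
        simp [hP0, hQ0, h10]
      · by_cases h3 : k = P
        · subst h3
          simp [hPQ, h2]
        · by_cases h4 : k = Q
          · subst h4
            simp [h2, h3]
          · simp [h2, h3, h4]
    rw [Finset.sum_congr rfl (fun k _ => h1 k), Finset.sum_sub_distrib, Finset.sum_sub_distrib,
      Finset.sum_sub_distrib, hn1]
    simp only [Finset.sum_ite_eq', Finset.mem_univ, if_true]
    ring
  have hfnn : 0 ≤ ∑ k, (f k) ^ 2 := Finset.sum_nonneg fun k _ => sq_nonneg _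
  -- the cases
  have hcase : (w P = 1 ∧ w Q = -1 ∧ d P = d Q ∧ (z₁ P = 1 ∧ z₁ Q = -2 ∨ z₁ P = 2 ∧ z₁ Q = -1)) ∨
      (w P = -1 ∧ w Q = 1 ∧ d P = d Q ∧ (z₁ P = -2 ∧ z₁ Q = 1 ∨ z₁ P = -1 ∧ z₁ Q = 2)) := by
    rw [hf] at hfnn
    rcases hwP with h1 | h1 <;> rcases hwQ with h2 | h2 <;> rw [h1, h2] at hdeg hin
    · exfalso; omega
    · left
      refine ⟨h1, h2, by omega, ?_⟩
      exact case_num_pos _ _ (by omega) hfnn
    · right
      refine ⟨h1, h2, by omega, ?_⟩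
      exact case_num_neg _ _ (by omega) hfnn
    · exfalso; omega
  have hf3 : ∑ k, (f k) ^ 2 = 3 := by
    rw [hf]
    rcases hcase with ⟨-, -, -, h | h⟩ | ⟨-, -, -, h | h⟩ <;> rw [h.1, h.2] <;> norm_num
  obtain ⟨C, D, E, hCD, hCE, hDE, hC, hD, hE, hf0⟩ := three_of_sum_sq f hf3
  have hfne : ∀ X, (f X = 1 ∨ f X = -1) → X ≠ i₀ ∧ X ≠ P ∧ X ≠ Q ∧ f X = z₁ X := by
    intro X hX
    by_cases h1 : X = i₀ ∨ X = P ∨ X = Q
    · exfalso
      have : f X = 0 := by simp only [f]; rw [if_pos h1]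
      rcases hX with h | h <;> omega
    · have h2 : f X = z₁ X := by simp only [f]; rw [if_neg h1]
      push Not at h1
      exact ⟨h1.1, h1.2.1, h1.2.2, h2⟩
  obtain ⟨hC0, hCP, hCQ, hCz⟩ := hfne C hC
  obtain ⟨hD0, hDP, hDQ, hDz⟩ := hfne D hD
  obtain ⟨hE0, hEP, hEQ, hEz⟩ := hfne E hE
  rw [hCz] at hC
  rw [hDz] at hD
  rw [hEz] at hE
  have hz2eq : ∀ X, X ≠ P → X ≠ Q → z₂ X = z₁ X := by
    intro X h1 h2
    rw [hz2 X, hw0 X h1 h2]
    ring
  have hrest1 : ∀ k, k ≠ i₀ → k ≠ P → k ≠ Q → k ≠ C → k ≠ D → k ≠ E → z₁ k = 0 := by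
    intro k h1 h2 h3 h4 h5 h6
    have h7 := hf0 k h4 h5 h6
    simp only [f] at h7
    rwa [if_neg (by rintro (h | h | h); exacts [h1 h, h2 h, h3 h])] at h7
  have hrest2 : ∀ k, k ≠ i₀ → k ≠ P → k ≠ Q → k ≠ C → k ≠ D → k ≠ E → z₂ k = 0 := by
    intro k h1 h2 h3 h4 h5 h6
    rw [hz2eq k h2 h3]
    exact hrest1 k h1 h2 h3 h4 h5 h6
  have hzP := hz2 P
  have hzQ := hz2 Q
  -- build the output
  rcases hcase with ⟨h1, h2, h3, ⟨h4, h5⟩ | ⟨h4, h5⟩⟩ | ⟨h1, h2, h3, ⟨h4, h5⟩ | ⟨h4, h5⟩⟩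
  · exact ⟨P, Q, C, D, E, 1, hPQ, hP0, hQ0, hC0.symm, hD0.symm, hE0.symm, hCP.symm, hDP.symm, hEP.symm,
      hCQ.symm, hDQ.symm, hEQ.symm, hCD, hCE, hDE, Or.inl rfl, by omega, by omega, by omega, by omega, h3,
      hC, hD, hE, hz2eq C hCP hCQ, hz2eq D hDP hDQ, hz2eq E hEP hEQ, hrest1, hrest2⟩
  · exact ⟨Q, P, C, D, E, -1, hPQ.symm, hQ0, hP0, hC0.symm, hD0.symm, hE0.symm, hCQ.symm, hDQ.symm, hEQ.symm,
      hCP.symm, hDP.symm, hEP.symm, hCD, hCE, hDE, Or.inr rfl, by omega, by omega, by omega, by omega, h3.symm,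
      hC, hD, hE, hz2eq C hCP hCQ, hz2eq D hDP hDQ, hz2eq E hEP hEQ,
      fun k a b c d e f => hrest1 k a c b d e f, fun k a b c d e f => hrest2 k a c b d e f⟩
  · exact ⟨Q, P, C, D, E, 1, hPQ.symm, hQ0, hP0, hC0.symm, hD0.symm, hE0.symm, hCQ.symm, hDQ.symm, hEQ.symm,
      hCP.symm, hDP.symm, hEP.symm, hCD, hCE, hDE, Or.inl rfl, by omega, by omega, by omega, by omega, h3.symm,
      hC, hD, hE, hz2eq C hCP hCQ, hz2eq D hDP hDQ, hz2eq E hEP hEQ,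
      fun k a b c d e f => hrest1 k a c b d e f, fun k a b c d e f => hrest2 k a c b d e f⟩
  · exact ⟨P, Q, C, D, E, -1, hPQ, hP0, hQ0, hC0.symm, hD0.symm, hE0.symm, hCP.symm, hDP.symm, hEP.symm,
      hCQ.symm, hDQ.symm, hEQ.symm, hCD, hCE, hDE, Or.inr rfl, by omega, by omega, by omega, by omega, h3,
      hC, hD, hE, hz2eq C hCP hCQ, hz2eq D hDP hDQ, hz2eq E hEP hEQ, hrest1, hrest2⟩

end Combinatorics

end Cfsg.Agent.Lib.Blocks.TI9
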