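import Mathlib
import Cfsg.Prelude.Def_Blocks
import Cfsg.Agent.Lib.Blocks.WeakOrth
import Cfsg.Agent.Lib.Blocks.DefectAvg
import Cfsg.Agent.Lib.Blocks.Principal
import Cfsg.Agent.Lib.Char.CompleteCor
import Cfsg.Agent.Lib.Char.Galois
import Cfsg.Agent.Lib.Char.Values

/-!
# Character lemmas: class multiplication counts, rational values at real elements of order `3` or `6`,
integrality of averages
-/

set_option autoImplicit false

namespace Cfsg.Agent.Lib.Blocks.TI9

open Cfsg Cfsg.Agent.Lib.Blocks.Central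
open scoped ComplexConjugate

universe u

variable {G : Type u} [Group G]

/-- The class multiplication formula. -/
theorem cnt_general_char [Fintype G] [Fintype (IrrCharacter G)] (a b g : G) :
    ∑ χ : IrrCharacter G, centralChar (χ : G → ℂ) a * (χ : G → ℂ) g * conj ((χ : G → ℂ) b) =
      (Nat.card (Subgroup.centralizer ({b} : Set G)) : ℂ) *
        (Nat.card {s : G // IsConj a s ∧ IsConj (s * g) b} : ℂ) := by
  classical
  have h1 : ∀ χ : IrrCharacter G, centralChar (χ : G → ℂ) a * (χ : G → ℂ) g * conj ((χ : G → ℂ) b) =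
      ∑ h : G, (if IsConj a h then (χ : G → ℂ) (h * g) * conj ((χ : G → ℂ) b) else 0) := by
    intro χ
    rw [← Cfsg.Agent.Lib.Blocks.WeakOrth.sum_isConj_mul χ.2 a g, Finset.sum_mul]
    refine Finset.sum_congr rfl fun h _ => ?_
    split_ifs <;> simp
  simp only [h1]
  rw [Finset.sum_comm]
  have hcnt : (Nat.card {s : G // IsConj a s ∧ IsConj (s * g) b} : ℂ) =
      ∑ s : G, if IsConj a s ∧ IsConj (s * g) b then (1 : ℂ) else 0 := by
    rw [Finset.sum_boole, Nat.card_eq_fintype_card, Fintype.card_subtype]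
  rw [hcnt, Finset.mul_sum]
  refine Finset.sum_congr rfl fun s _ => ?_
  by_cases h5 : IsConj a s
  · have h7 : ∀ χ : IrrCharacter G, (if IsConj a s then (χ : G → ℂ) (s * g) * conj ((χ : G → ℂ) b) else 0) =
        (χ : G → ℂ) (s * g) * conj ((χ : G → ℂ) b) := fun χ => if_pos h5
    simp only [h7]
    by_cases h6 : IsConj (s * g) b
    · rw [if_pos ⟨h5, h6⟩, Cfsg.Agent.Lib.Char.CompleteCor.column_orth_conj h6, mul_one]
      obtain ⟨c, rfl⟩ := isConj_iff.1 h6
      rw [Cfsg.Agent.S0916.card_centralizer_conj]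
    · rw [if_neg (fun h8 => h6 h8.2), Cfsg.Agent.Lib.Char.CompleteCor.column_orth_not_conj h6, mul_zero]
  · have h7 : ∀ χ : IrrCharacter G, (if IsConj a s then (χ : G → ℂ) (s * g) * conj ((χ : G → ℂ) b) else 0) =
        0 := fun χ => if_neg h5
    simp only [h7]
    rw [if_neg (fun h8 => h5 h8.1)]
    simp

/-- Values at real elements with `x ^ 6 = 1` are rational integers. -/
theorem exists_int_of_sixth [Finite G] {χ : G → ℂ} (hχ : IsCharacter G χ) {x : G} (h6 : x ^ 6 = 1)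
    (hr : IsConj x x⁻¹) : ∃ z : ℤ, χ x = z := by
  have hcl : χ x⁻¹ = χ x := by
    obtain ⟨n, ρ, rfl⟩ := hχ
    obtain ⟨k, hk⟩ := isConj_iff.1 hr
    rw [← hk]
    simp
  have hint := Cfsg.Agent.Lib.Char.Values.IsCharacter.isIntegral hχ x
  obtain ⟨n, ρ, rfl⟩ := hχ
  obtain ⟨ι, hι, z, hz, hzk⟩ := Cfsg.Agent.Lib.Char.Galois.character_eigen ρ x (n := 6) (by norm_num) h6
  have h1 : ρ.character x = ∑ i, z i := by
    have := hzk 1
    simpa using this
  have hfix : ∀ u : (ZMod 6)ˣ, ∑ i, z i ^ (u : ZMod 6).val = ∑ i, z i := by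
    intro u
    have hu : (u : ZMod 6).val = 1 ∨ (u : ZMod 6).val = 5 := by
      revert u
      decide
    rcases hu with hu | hu
    · rw [hu]
      simp
    · rw [hu, ← hzk 5, ← h1]
      have : x ^ 5 = x⁻¹ := by
        rw [eq_inv_iff_mul_eq_one, ← pow_succ, h6]
      rw [this]
      exact hcl
  obtain ⟨q, hq⟩ := Cfsg.Agent.Lib.Char.Galois.rat_of_fixed 6 z hz hfix
  rw [← h1] at hq
  rw [hq] at hint
  have hint2 : IsIntegral ℤ q := by
    have h2 : algebraMap ℚ ℂ q = (q : ℂ) := rfl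
    rw [← h2] at hint
    exact (isIntegral_algebraMap_iff (algebraMap ℚ ℂ).injective).1 hint
  obtain ⟨m, hm⟩ := IsIntegrallyClosed.isIntegral_iff.1 hint2
  refine ⟨m, ?_⟩
  rw [hq, ← hm]
  simp

/-- Divisibility from integrality of a quotient. -/
theorem int_dvd_of_isIntegral (m : ℤ) (n : ℕ) (hn : n ≠ 0)
    (h : IsIntegral ℤ ((n : ℂ)⁻¹ * (m : ℂ))) : (n : ℤ) ∣ m := by
  have h1 : (n : ℂ)⁻¹ * (m : ℂ) = algebraMap ℚ ℂ ((n : ℚ)⁻¹ * (m : ℚ)) := by
    simp
  rw [h1] at h
  have h2 : IsIntegral ℤ ((n : ℚ)⁻¹ * (m : ℚ)) :=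
    (isIntegral_algebraMap_iff (algebraMap ℚ ℂ).injective).1 h
  obtain ⟨k, hk⟩ := IsIntegrallyClosed.isIntegral_iff.1 h2
  refine ⟨k, ?_⟩
  have hn0 : (n : ℚ) ≠ 0 := by exact_mod_cast hn
  have h3 : (m : ℚ) = n * k := by
    have hk' : (k : ℚ) = (n : ℚ)⁻¹ * (m : ℚ) := by simpa using hk
    rw [hk']
    field_simp
  exact_mod_cast h3

/-- Integrality of an average along a cyclic subgroup commuting with an element. -/
theorem isIntegral_avg [Finite G] {χ : G → ℂ} (hχ : IsCharacter G χ) (x y : G) (hc : Commute x y) :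
    IsIntegral ℤ (((orderOf y : ℕ) : ℂ)⁻¹ * ∑ i : Fin (orderOf y), χ (x * y ^ (i : ℕ))) := by
  classical
  obtain ⟨n, ρ, rfl⟩ := hχ
  letI : Fintype (Subgroup.zpowers y) := Fintype.ofFinite _
  have hfin : IsOfFinOrder y := isOfFinOrder_of_finite y
  have h1 := Cfsg.Agent.Lib.Blocks.DefectAvg.isIntegral_avg_character ρ (Subgroup.zpowers y) x (by
    intro q hq
    obtain ⟨k, rfl⟩ := Subgroup.mem_zpowers_iff.1 hq
    exact (hc.zpow_right k).eq)
  rw [Nat.card_zpowers, ← Equiv.sum_comp (finEquivZPowers hfin)] at h1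
  simpa [finEquivZPowers_apply] using h1

end Cfsg.Agent.Lib.Blocks.TI9
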