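import Mathlib
import Cfsg.Agent.Lib.Blocks.TI9B
import Cfsg.Agent.Lib.Blocks.TI9C
import Cfsg.Agent.Lib.Blocks.SC3D

/-!
# Trivial intersection Sylow 3-subgroups of order 9: the group setting and the columns
-/

set_option autoImplicit false

namespace Cfsg.Agent.Lib.Blocks.TI9

open Cfsg Cfsg.Agent.Lib.Blocks.SC3 Cfsg.Agent.Lib.Blocks.Principal
open scoped ComplexConjugate

universe u

variable {G : Type u} [Group G]

/-- The normalizer of a subgroup, as a shorthand. -/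
abbrev Nm (S : Subgroup G) : Subgroup G := Subgroup.normalizer (S : Set G)

/-- The setting: a Sylow 3-subgroup `S` of order 9, abelian of exponent 3, and `C(s) = S` for `1 ≠ s ∈ S`. -/
structure Fpf9 (S : Subgroup G) : Prop where
  card : Nat.card S = 9
  comm : ∀ a ∈ S, ∀ b ∈ S, a * b = b * a
  exp : ∀ a ∈ S, a ^ 3 = 1
  cen : ∀ s ∈ S, s ≠ 1 → ∀ c, c * s = s * c → c ∈ S
  cj : ∀ y : G, orderOf y = 3 → ∃ h, h * y * h⁻¹ ∈ S
  fus : ∀ a ∈ S, ∀ b ∈ S, IsConj a b → b ∈ cls (Nm S) a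

namespace Fpf9

variable {S : Subgroup G}

theorem orderOf_eq (hF : Fpf9 S) {s : G} (hs : s ∈ S) (h1 : s ≠ 1) : orderOf s = 3 :=
  orderOf_eq_prime (hF.exp s hs) h1

theorem scw (hF : Fpf9 S) : SCW G := by
  intro y hy c hc
  obtain ⟨h, hh⟩ := hF.cj y hy
  have hne : h * y * h⁻¹ ≠ 1 := by
    intro h1
    have h2 : y = 1 := by
      have h3 : y = h⁻¹ * (h * y * h⁻¹) * h := by group
      rw [h3, h1]
      group
    rw [h2, orderOf_one] at hy
    omega
  have h4 := hF.cen _ hh hne (h * c * h⁻¹) (by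
    calc h * c * h⁻¹ * (h * y * h⁻¹) = h * (c * y) * h⁻¹ := by group
      _ = h * (y * c) * h⁻¹ := by rw [hc]
      _ = _ := by group)
  have h5 := hF.exp _ h4
  have h6 : (h * c * h⁻¹) ^ 3 = h * c ^ 3 * h⁻¹ := by
    have : h * c * h⁻¹ = (MulAut.conj h) c := rfl
    rw [this, ← map_pow]
    rfl
  rw [h6] at h5
  have h7 : c ^ 3 = h⁻¹ * (h * c ^ 3 * h⁻¹) * h := by group
  rw [h7, h5]
  group

theorem Cn_eq (hF : Fpf9 S) {s : G} (hs : s ∈ S) (h1 : s ≠ 1) : Cn s = S := by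
  apply le_antisymm
  · intro c hc
    exact hF.cen s hs h1 c (mem_Cn.mp hc)
  · intro c hc
    exact mem_Cn.mpr (hF.comm c hc s hs)

theorem card_Cn [Finite G] (hF : Fpf9 S) {y : G} (hy : orderOf y = 3) : Nat.card (Cn y) = 9 := by
  obtain ⟨h, hh⟩ := hF.cj y hy
  have hne : h * y * h⁻¹ ≠ 1 := by
    intro h1
    have h2 : y = 1 := by
      have h3 : y = h⁻¹ * (h * y * h⁻¹) * h := by group
      rw [h3, h1]
      group
    rw [h2, orderOf_one] at hy
    omega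
  have h2 := Cfsg.Agent.S0916.card_centralizer_conj h y
  have h3 : Subgroup.centralizer ({h * y * h⁻¹} : Set G) = S := hF.Cn_eq hh hne
  show Nat.card (Subgroup.centralizer ({y} : Set G)) = 9
  rw [← h2, h3, hF.card]

theorem le_Nm (S : Subgroup G) : S ≤ Nm S := Subgroup.le_normalizer

/-- An involution normalizing `S`, not in `S`, inverts `S`. -/
theorem inverts (hF : Fpf9 S) {t : G} (ht : t * t = 1) (htS : t ∉ S) (htN : t ∈ Nm S) :
    ∀ s ∈ S, t * s * t⁻¹ = s⁻¹ := by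
  intro s hs
  have hti : t⁻¹ = t := inv_eq_of_mul_eq_one_right ht
  have h1 : t * s * t⁻¹ ∈ S := (Subgroup.mem_normalizer_iff.mp htN s).mp hs
  by_contra hne
  have h2 : s * (t * s * t⁻¹) ≠ 1 := by
    intro h3
    exact hne (eq_inv_of_mul_eq_one_right h3)
  apply htS
  apply hF.cen _ (S.mul_mem hs h1) h2
  have h4 : t * (s * (t * s * t⁻¹)) * t⁻¹ = (t * s * t⁻¹) * s := by
    rw [hti]
    calc t * (s * (t * s * t)) * t = (t * s * t) * s * (t * t) := by group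
      _ = _ := by rw [ht]; group
  rw [hF.comm _ h1 _ hs] at h4
  calc t * (s * (t * s * t⁻¹)) = (t * (s * (t * s * t⁻¹)) * t⁻¹) * t := by group
    _ = _ := by rw [h4]

theorem inf_Cn (hF : Fpf9 S) {s : G} (hs : s ∈ S) (h1 : s ≠ 1) : (Nm S ⊓ Cn s : Subgroup G) = S := by
  rw [hF.Cn_eq hs h1]
  exact inf_eq_right.mpr (le_Nm S)

/-- The classes in `S` have order `|N : S|`. -/
theorem card_cls [Finite G] (hF : Fpf9 S) {s : G} (hs : s ∈ S) (h1 : s ≠ 1) :
    Nat.card (cls (Nm S) s) * 9 = Nat.card (Nm S) := by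
  have h2 := card_cls_mul (Nm S) s
  rwa [hF.inf_Cn hs h1, hF.card] at h2

theorem cls_sub (hF : Fpf9 S) {s : G} (hs : s ∈ S) (h1 : s ≠ 1) {g : G} (hg : g ∈ cls (Nm S) s) : g ∈ S ∧ g ≠ 1 := by
  obtain ⟨n, hn, rfl⟩ := hg
  refine ⟨(Subgroup.mem_normalizer_iff.mp hn s).mp hs, ?_⟩
  intro h2
  apply h1
  have h3 : s = n⁻¹ * (n * s * n⁻¹) * n := by group
  rw [h3, h2]
  group

end Fpf9

end Cfsg.Agent.Lib.Blocks.TI9
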