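import Mathlib
import Cfsg.Agent.Lib.Blocks.TI9D

/-!
# Trivial intersection Sylow 3-subgroups of order 9: the six characters not vanishing on two classes
-/

set_option autoImplicit false

namespace Cfsg.Agent.Lib.Blocks.TI9

open Cfsg Cfsg.Agent.Lib.Blocks.SC3 Cfsg.Agent.Lib.Blocks.Principal
open scoped ComplexConjugate

universe u

variable {G : Type u} [Group G] [Finite G]

attribute [local instance] Classical.propDecidable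

section Columns

variable [Fintype (IrrCharacter G)] {s s' : G} {z z' : IrrCharacter G → ℤ}

theorem col_sum (hz : ∀ χ : IrrCharacter G, (χ : G → ℂ) s = z χ) (g : G) :
    ∑ χ : IrrCharacter G, (χ : G → ℂ) g * (z χ : ℂ) = if IsConj g s then (Nat.card (Cn s) : ℂ) else 0 := by
  haveI : Fintype G := Fintype.ofFinite G
  have hconj : ∀ χ : IrrCharacter G, conj ((χ : G → ℂ) s) = (z χ : ℂ) := by
    intro χ
    rw [hz χ]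
    simp
  split_ifs with hg
  · have h1 := Cfsg.Agent.Lib.Char.CompleteCor.column_orth_conj hg
    have h3 : Nat.card (Subgroup.centralizer ({g} : Set G)) = Nat.card (Cn s) := by
      obtain ⟨k, rfl⟩ := isConj_iff.mp hg
      exact (Cfsg.Agent.S0916.card_centralizer_conj k g).symm
    rw [h3] at h1
    rw [← h1]
    refine Finset.sum_congr rfl fun χ _ => ?_
    rw [hconj]
  · have h1 := Cfsg.Agent.Lib.Char.CompleteCor.column_orth_not_conj hg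
    rw [← h1]
    refine Finset.sum_congr rfl fun χ _ => ?_
    rw [hconj]

theorem col_norm (hz : ∀ χ : IrrCharacter G, (χ : G → ℂ) s = z χ) :
    ∑ χ : IrrCharacter G, (z χ) ^ 2 = (Nat.card (Cn s) : ℤ) := by
  have h1 := col_sum hz s
  rw [if_pos (IsConj.refl s)] at h1
  have h2 : ((∑ χ : IrrCharacter G, (z χ) ^ 2 : ℤ) : ℂ) = (((Nat.card (Cn s) : ℕ) : ℤ) : ℂ) := by
    push_cast
    rw [← h1]
    refine Finset.sum_congr rfl fun χ _ => ?_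
    rw [hz χ]
    ring
  exact_mod_cast h2

theorem col_orth (hz : ∀ χ : IrrCharacter G, (χ : G → ℂ) s = z χ) (hz' : ∀ χ : IrrCharacter G, (χ : G → ℂ) s' = z' χ)
    (hne : ¬ IsConj s s') : ∑ χ : IrrCharacter G, z χ * z' χ = 0 := by
  have h1 := col_sum hz' s
  rw [if_neg hne] at h1
  have h2 : ((∑ χ : IrrCharacter G, z χ * z' χ : ℤ) : ℂ) = ((0 : ℤ) : ℂ) := by
    push_cast
    rw [← h1]
    refine Finset.sum_congr rfl fun χ _ => ?_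
    rw [hz χ]
  exact_mod_cast h2

theorem col_triv (hz : ∀ χ : IrrCharacter G, (χ : G → ℂ) s = z χ) : z (trivChar G) = 1 := by
  have h1 := hz (trivChar G)
  simp only [coe_trivChar] at h1
  exact_mod_cast h1.symm

theorem col_deg (hz : ∀ χ : IrrCharacter G, (χ : G → ℂ) s = z χ) (hs : s ≠ 1) {d : IrrCharacter G → ℤ}
    (hd : ∀ χ : IrrCharacter G, (χ : G → ℂ) 1 = d χ) : ∑ χ : IrrCharacter G, z χ * d χ = 0 := by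
  have h1 := col_sum hz 1
  rw [if_neg (fun h : IsConj (1 : G) s => hs (isConj_one_right.mp h))] at h1
  have h2 : ((∑ χ : IrrCharacter G, z χ * d χ : ℤ) : ℂ) = ((0 : ℤ) : ℂ) := by
    push_cast
    rw [← h1]
    refine Finset.sum_congr rfl fun χ _ => ?_
    rw [hd χ]
    ring
  exact_mod_cast h2

theorem col_cnt (hz : ∀ χ : IrrCharacter G, (χ : G → ℂ) s = z χ) (w g : G) :
    (Nat.card (Cn s) : ℂ) * Cnt s w g = ((Cn w).index : ℂ) *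
      ∑ χ : IrrCharacter G, (z χ : ℂ) * ((χ : G → ℂ) w * (χ : G → ℂ) g / (χ : G → ℂ) 1) := by
  rw [cnt_general]
  congr 1
  refine Finset.sum_congr rfl fun χ _ => ?_
  rw [hz χ]
  simp

end Columns

/-- The six characters not vanishing on `s₁` or `s₂`. -/
structure Six (s₁ s₂ : G) (χ₁ χ₂ β₁ β₂ β₃ : IrrCharacter G) (δ ρ₁ ρ₂ ρ₃ : ℤ) (a b₁ b₂ b₃ : ℕ) : Prop where
  hδ : δ = 1 ∨ δ = -1
  hρ₁ : ρ₁ = 1 ∨ ρ₁ = -1
  hρ₂ : ρ₂ = 1 ∨ ρ₂ = -1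
  hρ₃ : ρ₃ = 1 ∨ ρ₃ = -1
  v11 : (χ₁ : G → ℂ) s₁ = δ
  v21 : (χ₂ : G → ℂ) s₁ = -2 * δ
  v12 : (χ₁ : G → ℂ) s₂ = -2 * δ
  v22 : (χ₂ : G → ℂ) s₂ = δ
  w11 : (β₁ : G → ℂ) s₁ = ρ₁
  w21 : (β₂ : G → ℂ) s₁ = ρ₂
  w31 : (β₃ : G → ℂ) s₁ = ρ₃
  w12 : (β₁ : G → ℂ) s₂ = ρ₁
  w22 : (β₂ : G → ℂ) s₂ = ρ₂
  w32 : (β₃ : G → ℂ) s₂ = ρ₃
  ha : 0 < a
  hb₁ : 0 < b₁
  hb₂ : 0 < b₂
  hb₃ : 0 < b₃
  d1 : (χ₁ : G → ℂ) 1 = a
  d2 : (χ₂ : G → ℂ) 1 = a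
  db₁ : (β₁ : G → ℂ) 1 = b₁
  db₂ : (β₂ : G → ℂ) 1 = b₂
  db₃ : (β₃ : G → ℂ) 1 = b₃
  col1 : ∀ g, 1 + (χ₁ : G → ℂ) g * δ + (χ₂ : G → ℂ) g * (-2 * δ) + (β₁ : G → ℂ) g * ρ₁ + (β₂ : G → ℂ) g * ρ₂ +
    (β₃ : G → ℂ) g * ρ₃ = if IsConj g s₁ then 9 else 0
  col2 : ∀ g, 1 + (χ₁ : G → ℂ) g * (-2 * δ) + (χ₂ : G → ℂ) g * δ + (β₁ : G → ℂ) g * ρ₁ + (β₂ : G → ℂ) g * ρ₂ +
    (β₃ : G → ℂ) g * ρ₃ = if IsConj g s₂ then 9 else 0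
  cnt1 : ∀ w g, 9 * (Cnt s₁ w g : ℂ) = ((Cn w).index : ℂ) * (1 + δ * ((χ₁ : G → ℂ) w * (χ₁ : G → ℂ) g / a) +
    (-2 * δ) * ((χ₂ : G → ℂ) w * (χ₂ : G → ℂ) g / a) + ρ₁ * ((β₁ : G → ℂ) w * (β₁ : G → ℂ) g / b₁) +
    ρ₂ * ((β₂ : G → ℂ) w * (β₂ : G → ℂ) g / b₂) + ρ₃ * ((β₃ : G → ℂ) w * (β₃ : G → ℂ) g / b₃))
  cnt2 : ∀ w g, 9 * (Cnt s₂ w g : ℂ) = ((Cn w).index : ℂ) * (1 + (-2 * δ) * ((χ₁ : G → ℂ) w * (χ₁ : G → ℂ) g / a) +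
    δ * ((χ₂ : G → ℂ) w * (χ₂ : G → ℂ) g / a) + ρ₁ * ((β₁ : G → ℂ) w * (β₁ : G → ℂ) g / b₁) +
    ρ₂ * ((β₂ : G → ℂ) w * (β₂ : G → ℂ) g / b₂) + ρ₃ * ((β₃ : G → ℂ) w * (β₃ : G → ℂ) g / b₃))
  nt₁ : χ₁ ≠ trivChar G
  nt₂ : χ₂ ≠ trivChar G
  ntb₁ : β₁ ≠ trivChar G
  ntb₂ : β₂ ≠ trivChar G
  ntb₃ : β₃ ≠ trivChar G
  n12 : χ₁ ≠ χ₂
  n1b₁ : χ₁ ≠ β₁
  n1b₂ : χ₁ ≠ β₂
  n1b₃ : χ₁ ≠ β₃
  n2b₁ : χ₂ ≠ β₁
  n2b₂ : χ₂ ≠ β₂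
  n2b₃ : χ₂ ≠ β₃
  nb12 : β₁ ≠ β₂
  nb13 : β₁ ≠ β₃
  nb23 : β₂ ≠ β₃
  rest : ∀ ξ : IrrCharacter G, ξ ≠ trivChar G → ξ ≠ χ₁ → ξ ≠ χ₂ → ξ ≠ β₁ → ξ ≠ β₂ → ξ ≠ β₃ →
    (ξ : G → ℂ) s₁ = 0 ∧ (ξ : G → ℂ) s₂ = 0

/-- The existence of the six characters. -/
theorem exists_six {s₁ s₂ : G} (h1 : orderOf s₁ = 3) (h2 : orderOf s₂ = 3) (hr1 : IsConj s₁ s₁⁻¹) (hr2 : IsConj s₂ s₂⁻¹)
    (hc1 : Nat.card (Cn s₁) = 9) (hc2 : Nat.card (Cn s₂) = 9) (hne : ¬ IsConj s₁ s₂) :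
    ∃ (χ₁ χ₂ β₁ β₂ β₃ : IrrCharacter G) (δ ρ₁ ρ₂ ρ₃ : ℤ) (a b₁ b₂ b₃ : ℕ), Six s₁ s₂ χ₁ χ₂ β₁ β₂ β₃ δ ρ₁ ρ₂ ρ₃ a b₁ b₂ b₃ := by
  classical
  haveI : Fintype (IrrCharacter G) := Fintype.ofFinite _
  have hchar : ∀ χ : IrrCharacter G, IsCharacter G (χ : G → ℂ) := fun χ =>
    Cfsg.Agent.Lib.Char.Basic.isCharacter_of_isIrrCharacter χ.2
  choose z₁ hz₁ using fun χ : IrrCharacter G => exists_int_value (hchar χ) h1 hr1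
  choose z₂ hz₂ using fun χ : IrrCharacter G => exists_int_value (hchar χ) h2 hr2
  choose D hDpos hD using fun χ : IrrCharacter G => Cfsg.Agent.Lib.Char.Ortho.irr_degree_pos χ.2
  have hs1 : s₁ ≠ 1 := by rintro rfl; rw [orderOf_one] at h1; omega
  have hs2 : s₂ ≠ 1 := by rintro rfl; rw [orderOf_one] at h2; omega
  have hcong : ∀ {s : G} {z : IrrCharacter G → ℤ}, orderOf s = 3 → IsConj s s⁻¹ →
      (∀ χ : IrrCharacter G, (χ : G → ℂ) s = z χ) → ∀ χ, (3 : ℤ) ∣ z χ - D χ := by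
    intro s z ho hr hz χ
    obtain ⟨m, hm⟩ := exists_nat_zpowers (hchar χ) ho hr
    rw [hD χ, hz χ] at hm
    have h3 : ((D χ : ℤ) + 2 * z χ : ℤ) = 3 * m := by
      have : (((D χ : ℤ) + 2 * z χ : ℤ) : ℂ) = ((3 * m : ℤ) : ℂ) := by
        push_cast
        exact hm
      exact_mod_cast this
    exact ⟨z χ - m, by linear_combination -h3⟩
  have hzz : ∀ χ, (3 : ℤ) ∣ z₁ χ - z₂ χ := by
    intro χ
    have h3 := hcong h1 hr1 hz₁ χ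
    have h4 := hcong h2 hr2 hz₂ χ
    have h5 := dvd_sub h3 h4
    have h6 : z₁ χ - D χ - (z₂ χ - D χ) = z₁ χ - z₂ χ := by ring
    rwa [h6] at h5
  have hn1 := col_norm hz₁
  have hn2 := col_norm hz₂
  rw [hc1] at hn1
  rw [hc2] at hn2
  obtain ⟨A, B, C, E, F, δ, hP⟩ := pair_rows z₁ z₂ (fun χ => (D χ : ℤ)) (trivChar G)
    (fun χ => by exact_mod_cast hDpos χ) (col_triv hz₁) (col_triv hz₂) (by exact_mod_cast hn1) (by exact_mod_cast hn2)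
    (col_orth hz₁ hz₂ hne) hzz (col_deg hz₁ hs1 (fun χ => by rw [hD χ]; simp))
    (col_deg hz₂ hs2 (fun χ => by rw [hD χ]; simp))
  have hdAB : D A = D B := by exact_mod_cast hP.dAB
  have h11 : z₁ (trivChar G) = 1 := col_triv hz₁
  have h21 : z₂ (trivChar G) = 1 := col_triv hz₂
  have hexp : ∀ {α : Type} [AddCommMonoid α] (F' : IrrCharacter G → α), (∀ k, k ≠ trivChar G → k ≠ A → k ≠ B → k ≠ C → k ≠ E → k ≠ F → F' k = 0) →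
      ∑ k, F' k = F' (trivChar G) + (F' A + (F' B + (F' C + (F' E + F' F)))) := by
    intro α _ F' h0
    exact sum_six F' hP.hA0 hP.hB0 hP.hC0 hP.hD0 hP.hE0 hP.hAB hP.hAC hP.hAD hP.hAE hP.hBC hP.hBD hP.hBE hP.hCD hP.hCE hP.hDE h0
  have hc1' : (Nat.card (Cn s₁) : ℂ) = 9 := by rw [hc1]; norm_num
  have hc2' : (Nat.card (Cn s₂) : ℂ) = 9 := by rw [hc2]; norm_num
  have hf1 : ∀ k, k ≠ trivChar G → k ≠ A → k ≠ B → k ≠ C → k ≠ E → k ≠ F → z₁ k = 0 := hP.rest1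
  have hf2 : ∀ k, k ≠ trivChar G → k ≠ A → k ≠ B → k ≠ C → k ≠ E → k ≠ F → z₂ k = 0 := hP.rest2
  have hvδ : (z₁ A : ℂ) = δ := by rw [hP.z1A]
  refine ⟨A, B, C, E, F, δ, z₁ C, z₁ E, z₁ F, D A, D C, D E, D F, ?_⟩
  refine ⟨hP.hδ, hP.z1C, hP.z1D, hP.z1E, ?_, ?_, ?_, ?_, ?_, ?_, ?_, ?_, ?_, ?_, hDpos A, hDpos C, hDpos E, hDpos F,
    hD A, ?_, hD C, hD E, hD F, ?_, ?_, ?_, ?_, hP.hA0.symm, hP.hB0.symm, hP.hC0.symm, hP.hD0.symm, hP.hE0.symm, hP.hAB,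
    hP.hAC, hP.hAD, hP.hAE, hP.hBC, hP.hBD, hP.hBE, hP.hCD, hP.hCE, hP.hDE, ?_⟩
  · rw [hz₁, hP.z1A]
  · rw [hz₁, hP.z1B]; push_cast; ring
  · rw [hz₂, hP.z2A]; push_cast; ring
  · rw [hz₂, hP.z2B]
  · rw [hz₁]
  · rw [hz₁]
  · rw [hz₁]
  · rw [hz₂, hP.z2C]
  · rw [hz₂, hP.z2D]
  · rw [hz₂, hP.z2E]
  · rw [hD B, hdAB]
  · intro g
    have h3 := col_sum hz₁ g
    rw [hc1', hexp _ (fun k h01 h02 h03 h04 h05 h06 => by rw [hf1 k h01 h02 h03 h04 h05 h06]; simp)] at h3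
    simp only [coe_trivChar, h11, hP.z1A, hP.z1B] at h3
    rw [← h3]
    push_cast
    ring
  · intro g
    have h3 := col_sum hz₂ g
    rw [hc2', hexp _ (fun k h01 h02 h03 h04 h05 h06 => by rw [hf2 k h01 h02 h03 h04 h05 h06]; simp)] at h3
    simp only [coe_trivChar, h21, hP.z2A, hP.z2B, hP.z2C, hP.z2D, hP.z2E] at h3
    rw [← h3]
    push_cast
    ring
  · intro w g
    have h3 := col_cnt hz₁ w g
    rw [hc1', hexp _ (fun k h01 h02 h03 h04 h05 h06 => by rw [hf1 k h01 h02 h03 h04 h05 h06]; simp)] at h3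
    simp only [coe_trivChar, h11, hP.z1A, hP.z1B] at h3
    rw [h3, hD A, hD B, hD C, hD E, hD F, hdAB]
    congr 1
    push_cast
    ring
  · intro w g
    have h3 := col_cnt hz₂ w g
    rw [hc2', hexp _ (fun k h01 h02 h03 h04 h05 h06 => by rw [hf2 k h01 h02 h03 h04 h05 h06]; simp)] at h3
    simp only [coe_trivChar, h21, hP.z2A, hP.z2B, hP.z2C, hP.z2D, hP.z2E] at h3
    rw [h3, hD A, hD B, hD C, hD E, hD F, hdAB]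
    congr 1
    push_cast
    ring
  · intro ξ h01 h02 h03 h04 h05 h06
    rw [hz₁, hz₂, hf1 ξ h01 h02 h03 h04 h05 h06, hf2 ξ h01 h02 h03 h04 h05 h06]
    simp

end Cfsg.Agent.Lib.Blocks.TI9
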