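import Mathlib

/-!
# Trivial intersection Sylow 3-subgroups of order 9: the numerical core
-/

set_option autoImplicit false

namespace Cfsg.Agent.Lib.Blocks.TI9

/-- The quotient `w / (9 w - 8 ρ)`. -/
noncomputable def gg (ρ w : ℤ) : ℚ := (w : ℚ) / (9 * w - 8 * ρ)

theorem gg_pos_le5 {w : ℤ} (hw : 2 ≤ w) : gg 1 w ≤ 1 / 5 := by
  have h : (2 : ℚ) ≤ w := by exact_mod_cast hw
  unfold gg
  push_cast
  rw [div_le_div_iff₀ (by linarith) (by norm_num)]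
  linarith

theorem gg_pos_le3 {w : ℤ} (hw : 3 ≤ w) : gg 1 w ≤ 3 / 19 := by
  have h : (3 : ℚ) ≤ w := by exact_mod_cast hw
  unfold gg
  push_cast
  rw [div_le_div_iff₀ (by linarith) (by norm_num)]
  linarith

theorem gg_pos_le7 {w : ℤ} (hw : 4 ≤ w) : gg 1 w ≤ 1 / 7 := by
  have h : (4 : ℚ) ≤ w := by exact_mod_cast hw
  unfold gg
  push_cast
  rw [div_le_div_iff₀ (by linarith) (by norm_num)]
  linarith

theorem gg_neg_lt {w : ℤ} (hw : 0 ≤ w) : gg (-1) w < 1 / 9 := by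
  have h : (0 : ℚ) ≤ w := by exact_mod_cast hw
  unfold gg
  push_cast
  rw [div_lt_div_iff₀ (by linarith) (by norm_num)]
  linarith

/-- The condition on `w` depending on the sign. -/
def Cnd (ρ w : ℤ) : Prop := (ρ = 1 ∧ 2 ≤ w) ∨ (ρ = -1 ∧ 0 ≤ w)

theorem gg_le5 {ρ w : ℤ} (h : Cnd ρ w) : gg ρ w ≤ 1 / 5 := by
  rcases h with ⟨rfl, h⟩ | ⟨rfl, h⟩
  · exact gg_pos_le5 h
  · have := gg_neg_lt h
    linarith

theorem delta_pos_false {w w₁ w₂ w₃ ρ₁ ρ₂ ρ₃ : ℤ} (hw : 0 ≤ w) (h₁ : Cnd ρ₁ w₁) (h₂ : Cnd ρ₂ w₂) (h₃ : Cnd ρ₃ w₃)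
    (hd : w - ρ₁ * w₁ - ρ₂ * w₂ - ρ₃ * w₃ = -3)
    (hI : 1 - 4 * (w : ℚ) / (9 * w + 4) ≤ gg ρ₁ w₁ + gg ρ₂ w₂ + gg ρ₃ w₃) : False := by
  have hq : (0 : ℚ) ≤ w := by exact_mod_cast hw
  have hL : 5 / 9 < 1 - 4 * (w : ℚ) / (9 * w + 4) := by
    have h1 : 4 * (w : ℚ) / (9 * w + 4) < 4 / 9 := by
      rw [div_lt_div_iff₀ (by linarith) (by norm_num)]
      linarith
    linarith
  have h5₁ := gg_le5 h₁
  have h5₂ := gg_le5 h₂
  have h5₃ := gg_le5 h₃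
  rcases h₁ with ⟨rfl, h₁⟩ | ⟨rfl, h₁⟩
  · rcases h₂ with ⟨rfl, h₂⟩ | ⟨rfl, h₂⟩
    · rcases h₃ with ⟨rfl, h₃⟩ | ⟨rfl, h₃⟩
      · by_cases c₁ : 4 ≤ w₁
        · have := gg_pos_le7 c₁
          linarith
        by_cases c₂ : 4 ≤ w₂
        · have := gg_pos_le7 c₂
          linarith
        by_cases c₃ : 4 ≤ w₃
        · have := gg_pos_le7 c₃
          linarith
        have hw' : w = w₁ + w₂ + w₃ - 3 := by linarith
        subst hw'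
        have h1 : w₁ ≤ 3 := by omega
        have h2 : w₂ ≤ 3 := by omega
        have h3 : w₃ ≤ 3 := by omega
        interval_cases w₁ <;> interval_cases w₂ <;> interval_cases w₃ <;> norm_num [gg] at hI
      · have := gg_neg_lt h₃
        linarith
    · have := gg_neg_lt h₂
      linarith
  · have := gg_neg_lt h₁
    linarith

theorem L_ge2 {w : ℤ} (hw : 2 ≤ w) : 3 / 7 ≤ 1 - 4 * (w : ℚ) / (9 * w - 4) := by
  have hq : (2 : ℚ) ≤ w := by exact_mod_cast hw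
  have h1 : 4 * (w : ℚ) / (9 * w - 4) ≤ 4 / 7 := by
    rw [div_le_div_iff₀ (by linarith) (by norm_num)]
    linarith
  linarith

theorem L_ge3 {w : ℤ} (hw : 3 ≤ w) : 11 / 23 ≤ 1 - 4 * (w : ℚ) / (9 * w - 4) := by
  have hq : (3 : ℚ) ≤ w := by exact_mod_cast hw
  have h1 : 4 * (w : ℚ) / (9 * w - 4) ≤ 12 / 23 := by
    rw [div_le_div_iff₀ (by linarith) (by norm_num)]
    linarith
  linarith

theorem L_ge4 {w : ℤ} (hw : 4 ≤ w) : 1 / 2 ≤ 1 - 4 * (w : ℚ) / (9 * w - 4) := by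
  have hq : (4 : ℚ) ≤ w := by exact_mod_cast hw
  have h1 : 4 * (w : ℚ) / (9 * w - 4) ≤ 1 / 2 := by
    rw [div_le_div_iff₀ (by linarith) (by norm_num)]
    linarith
  linarith

theorem L_ge5 {w : ℤ} (hw : 5 ≤ w) : 21 / 41 ≤ 1 - 4 * (w : ℚ) / (9 * w - 4) := by
  have hq : (5 : ℚ) ≤ w := by exact_mod_cast hw
  have h1 : 4 * (w : ℚ) / (9 * w - 4) ≤ 20 / 41 := by
    rw [div_le_div_iff₀ (by linarith) (by norm_num)]
    linarith
  linarith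

theorem case_none {w w₁ w₂ w₃ : ℤ} (h₁ : 0 ≤ w₁) (h₂ : 0 ≤ w₂) (h₃ : 0 ≤ w₃)
    (hd : -w + w₁ + w₂ + w₃ = -3)
    (hI : 1 - 4 * (w : ℚ) / (9 * w - 4) ≤ gg (-1) w₁ + gg (-1) w₂ + gg (-1) w₃) : False := by
  have := L_ge3 (w := w) (by omega)
  have := gg_neg_lt h₁
  have := gg_neg_lt h₂
  have := gg_neg_lt h₃
  linarith

theorem case_one {w w₁ w₂ w₃ : ℤ} (hw : 1 ≤ w) (h₁ : 2 ≤ w₁) (h₂ : 0 ≤ w₂) (h₃ : 0 ≤ w₃)
    (hI : 1 - 4 * (w : ℚ) / (9 * w - 4) ≤ gg 1 w₁ + gg (-1) w₂ + gg (-1) w₃) : w = 1 := by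
  by_contra hne
  have := L_ge2 (w := w) (by omega)
  have := gg_pos_le5 h₁
  have := gg_neg_lt h₂
  have := gg_neg_lt h₃
  linarith

theorem gg_sum_lt {w : ℤ} (hw : 7 ≤ w) : gg 1 w + gg (-1) (w + 1) < 8 / 35 := by
  have hq : (7 : ℚ) ≤ w := by exact_mod_cast hw
  unfold gg
  push_cast
  have h1 : (0 : ℚ) < 9 * w - 8 * 1 := by linarith
  have h2 : (0 : ℚ) < 9 * (w + 1) - 8 * -1 := by linarith
  rw [div_add_div _ _ h1.ne' h2.ne', div_lt_div_iff₀ (by positivity) (by norm_num)]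
  nlinarith

/-- The case of two positive signs. -/
theorem case_two {w w₁ w₂ w₃ : ℤ} (hw : 1 ≤ w) (h₁ : 2 ≤ w₁) (h₂ : 2 ≤ w₂) (h₃ : 0 ≤ w₃)
    (hd : w₃ = w + w₁ + w₂ - 3)
    (hI : 1 - 4 * (w : ℚ) / (9 * w - 4) ≤ gg 1 w₁ + gg 1 w₂ + gg (-1) w₃) :
    w = 1 ∨ (w = 2 ∧ (w₁ = 2 ∧ w₂ ≤ 6 ∨ w₂ = 2 ∧ w₁ ≤ 6)) ∨ (w = 3 ∧ w₁ = 2 ∧ w₂ = 2) := by
  have a1 := gg_pos_le5 h₁
  have a2 := gg_pos_le5 h₂
  have a3 := gg_neg_lt h₃
  by_cases c1 : w = 1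
  · exact Or.inl c1
  right
  have hw5 : w ≤ 4 := by
    by_contra h
    have := L_ge5 (w := w) (by omega)
    linarith
  have hw2 : w = 2 ∨ w = 3 ∨ w = 4 := by omega
  rcases hw2 with rfl | rfl | rfl
  · left
    refine ⟨rfl, ?_⟩
    have hL := L_ge2 (w := 2) le_rfl
    by_cases c2 : w₁ = 2
    · left
      refine ⟨c2, ?_⟩
      by_contra h
      subst c2
      have h5 : w₃ = w₂ + 1 := by omega
      subst h5
      have := gg_sum_lt (w := w₂) (by omega)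
      linarith
    · by_cases c3 : w₂ = 2
      · right
        refine ⟨c3, ?_⟩
        by_contra h
        subst c3
        have h5 : w₃ = w₁ + 1 := by omega
        subst h5
        have := gg_sum_lt (w := w₁) (by omega)
        linarith
      · exfalso
        have b1 := gg_pos_le3 (w := w₁) (by omega)
        have b2 := gg_pos_le3 (w := w₂) (by omega)
        norm_num at hL
        linarith
  · right
    refine ⟨rfl, ?_⟩
    have hL := L_ge3 (w := 3) le_rfl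
    by_cases c2 : w₁ = 2
    · refine ⟨c2, ?_⟩
      by_contra h
      have b2 := gg_pos_le3 (w := w₂) (by omega)
      norm_num at hL
      linarith
    · exfalso
      have b1 := gg_pos_le3 (w := w₁) (by omega)
      norm_num at hL
      linarith
  · exfalso
    have hL := L_ge4 (w := 4) le_rfl
    by_cases c2 : w₁ = 2
    · by_cases c3 : w₂ = 2
      · subst c2 c3
        have h5 : w₃ = 5 := by omega
        subst h5
        norm_num [gg] at hI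
      · have b2 := gg_pos_le3 (w := w₂) (by omega)
        norm_num at hL
        linarith
    · have b1 := gg_pos_le3 (w := w₁) (by omega)
      norm_num at hL
      linarith

/-- Pass from the equation to the inequality. -/
theorem main_ineq {a b₁ b₂ b₃ A B₁ B₂ B₃ w w₁ w₂ w₃ ρ₁ ρ₂ ρ₃ : ℤ} (ha : 0 < a) (hb₁ : 0 < b₁) (hb₂ : 0 < b₂) (hb₃ : 0 < b₃)
    (hAw : A ≤ w) (h1 : -w₁ ≤ B₁) (h2 : -w₂ ≤ B₂) (h3 : -w₃ ≤ B₃)
    (e₁ : b₁ = 9 * w₁ - 8 * ρ₁) (e₂ : b₂ = 9 * w₂ - 8 * ρ₂) (e₃ : b₃ = 9 * w₃ - 8 * ρ₃)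
    (hT : a * b₁ * b₂ * b₃ - 4 * A * b₁ * b₂ * b₃ + B₁ * a * b₂ * b₃ + B₂ * a * b₁ * b₃ + B₃ * a * b₁ * b₂ = 0) :
    1 - 4 * (w : ℚ) / a ≤ gg ρ₁ w₁ + gg ρ₂ w₂ + gg ρ₃ w₃ := by
  have ha' : (0 : ℚ) < a := by exact_mod_cast ha
  have hb₁' : (0 : ℚ) < b₁ := by exact_mod_cast hb₁
  have hb₂' : (0 : ℚ) < b₂ := by exact_mod_cast hb₂
  have hb₃' : (0 : ℚ) < b₃ := by exact_mod_cast hb₃
  have hT' : 1 - 4 * (A : ℚ) / a + (B₁ : ℚ) / b₁ + (B₂ : ℚ) / b₂ + (B₃ : ℚ) / b₃ = 0 := by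
    have h0 : ((a * b₁ * b₂ * b₃ - 4 * A * b₁ * b₂ * b₃ + B₁ * a * b₂ * b₃ + B₂ * a * b₁ * b₃ + B₃ * a * b₁ * b₂ : ℤ) : ℚ) = 0 := by
      rw [hT]
      simp
    push_cast at h0
    field_simp
    linarith
  have g1 : gg ρ₁ w₁ = (w₁ : ℚ) / b₁ := by
    unfold gg
    rw [e₁]
    push_cast
    rfl
  have g2 : gg ρ₂ w₂ = (w₂ : ℚ) / b₂ := by
    unfold gg
    rw [e₂]
    push_cast
    rfl
  have g3 : gg ρ₃ w₃ = (w₃ : ℚ) / b₃ := by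
    unfold gg
    rw [e₃]
    push_cast
    rfl
  have t1 : -((w₁ : ℚ) / b₁) ≤ (B₁ : ℚ) / b₁ := by
    rw [← neg_div]
    apply div_le_div_of_nonneg_right _ hb₁'.le
    exact_mod_cast h1
  have t2 : -((w₂ : ℚ) / b₂) ≤ (B₂ : ℚ) / b₂ := by
    rw [← neg_div]
    apply div_le_div_of_nonneg_right _ hb₂'.le
    exact_mod_cast h2
  have t3 : -((w₃ : ℚ) / b₃) ≤ (B₃ : ℚ) / b₃ := by
    rw [← neg_div]
    apply div_le_div_of_nonneg_right _ hb₃'.le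
    exact_mod_cast h3
  have t0 : 4 * (A : ℚ) / a ≤ 4 * (w : ℚ) / a := by
    apply div_le_div_of_nonneg_right _ ha'.le
    have : (A : ℚ) ≤ w := by exact_mod_cast hAw
    linarith
  rw [g1, g2, g3]
  linarith

/-- The numerical data of the six characters at an involution inverting the Sylow subgroup. -/
structure NumData (δ ρ₁ ρ₂ ρ₃ a b₁ b₂ b₃ A B₁ B₂ B₃ u v u₁ v₁ u₂ v₂ u₃ v₃ : ℤ) : Prop where
  hδ : δ = 1 ∨ δ = -1
  hρ₁ : ρ₁ = 1 ∨ ρ₁ = -1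
  hρ₂ : ρ₂ = 1 ∨ ρ₂ = -1
  hρ₃ : ρ₃ = 1 ∨ ρ₃ = -1
  ha : 0 < a
  hb₁ : 0 < b₁
  hb₂ : 0 < b₂
  hb₃ : 0 < b₃
  hb₁1 : b₁ ≠ 1
  hb₂1 : b₂ ≠ 1
  hb₃1 : b₃ ≠ 1
  hu : 0 ≤ u
  hv : 0 ≤ v
  hu₁ : 0 ≤ u₁
  hv₁ : 0 ≤ v₁
  hu₂ : 0 ≤ u₂
  hv₂ : 0 ≤ v₂
  hu₃ : 0 ≤ u₃
  hv₃ : 0 ≤ v₃
  e1 : a - 4 * δ + 9 * A = 18 * u
  e2 : a - 4 * δ - 9 * A = 18 * v
  e11 : b₁ + 8 * ρ₁ + 9 * B₁ = 18 * u₁
  e12 : b₁ + 8 * ρ₁ - 9 * B₁ = 18 * v₁
  e21 : b₂ + 8 * ρ₂ + 9 * B₂ = 18 * u₂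
  e22 : b₂ + 8 * ρ₂ - 9 * B₂ = 18 * v₂
  e31 : b₃ + 8 * ρ₃ + 9 * B₃ = 18 * u₃
  e32 : b₃ + 8 * ρ₃ - 9 * B₃ = 18 * v₃
  hA : 0 ≤ A
  hdeg : 1 - δ * a + ρ₁ * b₁ + ρ₂ * b₂ + ρ₃ * b₃ = 0
  hT : a * b₁ * b₂ * b₃ - 4 * A * b₁ * b₂ * b₃ + B₁ * a * b₂ * b₃ + B₂ * a * b₁ * b₃ + B₃ * a * b₁ * b₂ = 0

variable {δ ρ₁ ρ₂ ρ₃ a b₁ b₂ b₃ A B₁ B₂ B₃ u v u₁ v₁ u₂ v₂ u₃ v₃ : ℤ}

theorem NumData.swap12 (h : NumData δ ρ₁ ρ₂ ρ₃ a b₁ b₂ b₃ A B₁ B₂ B₃ u v u₁ v₁ u₂ v₂ u₃ v₃) :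
    NumData δ ρ₂ ρ₁ ρ₃ a b₂ b₁ b₃ A B₂ B₁ B₃ u v u₂ v₂ u₁ v₁ u₃ v₃ :=
  { hδ := h.hδ, hρ₁ := h.hρ₂, hρ₂ := h.hρ₁, hρ₃ := h.hρ₃, ha := h.ha, hb₁ := h.hb₂, hb₂ := h.hb₁, hb₃ := h.hb₃,
    hb₁1 := h.hb₂1, hb₂1 := h.hb₁1, hb₃1 := h.hb₃1, hu := h.hu, hv := h.hv, hu₁ := h.hu₂, hv₁ := h.hv₂,
    hu₂ := h.hu₁, hv₂ := h.hv₁, hu₃ := h.hu₃, hv₃ := h.hv₃, e1 := h.e1, e2 := h.e2, e11 := h.e21, e12 := h.e22,
    e21 := h.e11, e22 := h.e12, e31 := h.e31, e32 := h.e32, hA := h.hA,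
    hdeg := by have := h.hdeg; linarith,
    hT := by have := h.hT; linear_combination this }

theorem NumData.swap13 (h : NumData δ ρ₁ ρ₂ ρ₃ a b₁ b₂ b₃ A B₁ B₂ B₃ u v u₁ v₁ u₂ v₂ u₃ v₃) :
    NumData δ ρ₃ ρ₂ ρ₁ a b₃ b₂ b₁ A B₃ B₂ B₁ u v u₃ v₃ u₂ v₂ u₁ v₁ :=
  { hδ := h.hδ, hρ₁ := h.hρ₃, hρ₂ := h.hρ₂, hρ₃ := h.hρ₁, ha := h.ha, hb₁ := h.hb₃, hb₂ := h.hb₂, hb₃ := h.hb₁,
    hb₁1 := h.hb₃1, hb₂1 := h.hb₂1, hb₃1 := h.hb₁1, hu := h.hu, hv := h.hv, hu₁ := h.hu₃, hv₁ := h.hv₃,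
    hu₂ := h.hu₂, hv₂ := h.hv₂, hu₃ := h.hu₁, hv₃ := h.hv₁, e1 := h.e1, e2 := h.e2, e11 := h.e31, e12 := h.e32,
    e21 := h.e21, e22 := h.e22, e31 := h.e11, e32 := h.e12, hA := h.hA,
    hdeg := by have := h.hdeg; linarith,
    hT := by have := h.hT; linear_combination this }

/-- The conclusion of the numerical analysis. -/
def NumConcl (δ ρ₁ ρ₂ ρ₃ a b₁ b₂ b₃ A B₁ B₂ B₃ : ℤ) : Prop :=
  (δ = -1 ∧ a = 5 ∧ A = 1) ∨ (δ = -1 ∧ a = 14 ∧ A = 2 ∧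
    (ρ₁ : ℚ) * B₁ ^ 2 / b₁ + (ρ₂ : ℚ) * B₂ ^ 2 / b₂ + (ρ₃ : ℚ) * B₃ ^ 2 / b₃ = 27 / 35)

theorem NumConcl.swap12 (h : NumConcl δ ρ₁ ρ₂ ρ₃ a b₁ b₂ b₃ A B₁ B₂ B₃) : NumConcl δ ρ₂ ρ₁ ρ₃ a b₂ b₁ b₃ A B₂ B₁ B₃ := by
  rcases h with h | ⟨h1, h2, h3, h4⟩
  · exact Or.inl h
  · exact Or.inr ⟨h1, h2, h3, by linarith⟩

theorem NumConcl.swap13 (h : NumConcl δ ρ₁ ρ₂ ρ₃ a b₁ b₂ b₃ A B₁ B₂ B₃) : NumConcl δ ρ₃ ρ₂ ρ₁ a b₃ b₂ b₁ A B₃ B₂ B₁ := by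
  rcases h with h | ⟨h1, h2, h3, h4⟩
  · exact Or.inl h
  · exact Or.inr ⟨h1, h2, h3, by linarith⟩

theorem numeric_one (h : NumData (-1) 1 (-1) (-1) a b₁ b₂ b₃ A B₁ B₂ B₃ u v u₁ v₁ u₂ v₂ u₃ v₃) :
    NumConcl (-1) 1 (-1) (-1) a b₁ b₂ b₃ A B₁ B₂ B₃ := by
  obtain ⟨-, -, -, -, ha, hb₁, hb₂, hb₃, hb₁1, hb₂1, hb₃1, hu, hv, hu₁, hv₁, hu₂, hv₂, hu₃, hv₃, e1, e2, e11, e12, e21, e22,
    e31, e32, hA, hdeg, hT⟩ := h
  have hI := main_ineq (w := u + v) (w₁ := u₁ + v₁) (w₂ := u₂ + v₂) (w₃ := u₃ + v₃) (ρ₁ := 1) (ρ₂ := -1) (ρ₃ := -1) ha hb₁ hb₂ hb₃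
    (by omega) (by omega) (by omega) (by omega) (by omega) (by omega) (by omega) hT
  have haeq : (a : ℚ) = 9 * ((u + v : ℤ) : ℚ) - 4 := by
    have : a = 9 * (u + v) - 4 := by omega
    rw [this]
    push_cast
    ring
  rw [haeq] at hI
  have hw := case_one (w := u + v) (w₁ := u₁ + v₁) (w₂ := u₂ + v₂) (w₃ := u₃ + v₃) (by omega) (by omega) (by omega) (by omega) hI
  left
  exact ⟨rfl, by omega, by omega⟩

set_option maxHeartbeats 2000000 in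
theorem numeric_two (h : NumData (-1) 1 1 (-1) a b₁ b₂ b₃ A B₁ B₂ B₃ u v u₁ v₁ u₂ v₂ u₃ v₃) :
    NumConcl (-1) 1 1 (-1) a b₁ b₂ b₃ A B₁ B₂ B₃ := by
  obtain ⟨-, -, -, -, ha, hb₁, hb₂, hb₃, hb₁1, hb₂1, hb₃1, hu, hv, hu₁, hv₁, hu₂, hv₂, hu₃, hv₃, e1, e2, e11, e12, e21, e22,
    e31, e32, hA, hdeg, hT⟩ := h
  have hI := main_ineq (w := u + v) (w₁ := u₁ + v₁) (w₂ := u₂ + v₂) (w₃ := u₃ + v₃) (ρ₁ := 1) (ρ₂ := 1) (ρ₃ := -1) ha hb₁ hb₂ hb₃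
    (by omega) (by omega) (by omega) (by omega) (by omega) (by omega) (by omega) hT
  have haeq : (a : ℚ) = 9 * ((u + v : ℤ) : ℚ) - 4 := by
    have : a = 9 * (u + v) - 4 := by omega
    rw [this]
    push_cast
    ring
  rw [haeq] at hI
  have hw := case_two (w := u + v) (w₁ := u₁ + v₁) (w₂ := u₂ + v₂) (w₃ := u₃ + v₃) (by omega) (by omega) (by omega) (by omega)
    (by omega) hI
  rcases hw with hw | ⟨hw, ⟨hw1, hw2⟩ | ⟨hw1, hw2⟩⟩ | ⟨hw, hw1, hw2⟩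
  · left
    exact ⟨rfl, by omega, by omega⟩
  · have hcases : u₂ + v₂ = 2 ∨ u₂ + v₂ = 3 ∨ u₂ + v₂ = 4 ∨ u₂ + v₂ = 5 ∨ u₂ + v₂ = 6 := by omega
    obtain rfl : a = 14 := by omega
    obtain rfl : b₁ = 10 := by omega
    rcases hcases with c | c | c | c | c
    · obtain rfl : b₂ = 10 := by omega
      obtain rfl : b₃ = 35 := by omega
      right
      norm_num at hT
      obtain rfl : A = 2 := by omega
      obtain rfl : B₁ = -2 := by omega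
      obtain rfl : B₂ = -2 := by omega
      obtain rfl : B₃ = -1 := by omega
      exact ⟨rfl, rfl, rfl, by norm_num⟩
    · obtain rfl : b₂ = 19 := by omega
      obtain rfl : b₃ = 44 := by omega
      norm_num at hT
      exfalso
      omega
    · obtain rfl : b₂ = 28 := by omega
      obtain rfl : b₃ = 53 := by omega
      norm_num at hT
      exfalso
      omega
    · obtain rfl : b₂ = 37 := by omega
      obtain rfl : b₃ = 62 := by omega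
      norm_num at hT
      exfalso
      omega
    · obtain rfl : b₂ = 46 := by omega
      obtain rfl : b₃ = 71 := by omega
      norm_num at hT
      exfalso
      omega
  · have hcases : u₁ + v₁ = 2 ∨ u₁ + v₁ = 3 ∨ u₁ + v₁ = 4 ∨ u₁ + v₁ = 5 ∨ u₁ + v₁ = 6 := by omega
    obtain rfl : a = 14 := by omega
    obtain rfl : b₂ = 10 := by omega
    rcases hcases with c | c | c | c | c
    · obtain rfl : b₁ = 10 := by omega
      obtain rfl : b₃ = 35 := by omega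
      right
      norm_num at hT
      obtain rfl : A = 2 := by omega
      obtain rfl : B₁ = -2 := by omega
      obtain rfl : B₂ = -2 := by omega
      obtain rfl : B₃ = -1 := by omega
      exact ⟨rfl, rfl, rfl, by norm_num⟩
    · obtain rfl : b₁ = 19 := by omega
      obtain rfl : b₃ = 44 := by omega
      norm_num at hT
      exfalso
      omega
    · obtain rfl : b₁ = 28 := by omega
      obtain rfl : b₃ = 53 := by omega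
      norm_num at hT
      exfalso
      omega
    · obtain rfl : b₁ = 37 := by omega
      obtain rfl : b₃ = 62 := by omega
      norm_num at hT
      exfalso
      omega
    · obtain rfl : b₁ = 46 := by omega
      obtain rfl : b₃ = 71 := by omega
      norm_num at hT
      exfalso
      omega
  · exfalso
    obtain rfl : a = 23 := by omega
    obtain rfl : b₁ = 10 := by omega
    obtain rfl : b₂ = 10 := by omega
    obtain rfl : b₃ = 44 := by omega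
    norm_num at hT
    omega

/-- **The numerical analysis**: the degree of `χ₁` is 5, or 14 with an exceptional value of a quadratic form. -/
theorem numeric (h : NumData δ ρ₁ ρ₂ ρ₃ a b₁ b₂ b₃ A B₁ B₂ B₃ u v u₁ v₁ u₂ v₂ u₃ v₃) :
    NumConcl δ ρ₁ ρ₂ ρ₃ a b₁ b₂ b₃ A B₁ B₂ B₃ := by
  have hc : ∀ {ρ b B u v : ℤ}, (ρ = 1 ∨ ρ = -1) → 0 < b → b ≠ 1 → 0 ≤ u → 0 ≤ v → b + 8 * ρ + 9 * B = 18 * u →
      b + 8 * ρ - 9 * B = 18 * v → Cnd ρ (u + v) := by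
    intro ρ b B u v h1 h2 h3 h4 h5 h6 h7
    rcases h1 with rfl | rfl
    · left
      exact ⟨rfl, by omega⟩
    · right
      exact ⟨rfl, by omega⟩
  rcases h.hδ with rfl | rfl
  · exfalso
    have ha := h.ha
    have e1 := h.e1
    have e2 := h.e2
    have hdeg := h.hdeg
    have hu := h.hu
    have hv := h.hv
    have hA := h.hA
    have h11 := h.e11
    have h12 := h.e12
    have h21 := h.e21
    have h22 := h.e22
    have h31 := h.e31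
    have h32 := h.e32
    have hI := main_ineq (w := u + v) (w₁ := u₁ + v₁) (w₂ := u₂ + v₂) (w₃ := u₃ + v₃) (ρ₁ := ρ₁) (ρ₂ := ρ₂) (ρ₃ := ρ₃) ha h.hb₁ h.hb₂ h.hb₃
      (by omega) (by have := h.hu₁; have := h.hv₁; omega) (by have := h.hu₂; have := h.hv₂; omega)
      (by have := h.hu₃; have := h.hv₃; omega) (by omega) (by omega) (by omega) h.hT
    have haeq : (a : ℚ) = 9 * ((u + v : ℤ) : ℚ) + 4 := by
      have : a = 9 * (u + v) + 4 := by omega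
      rw [this]
      push_cast
      ring
    rw [haeq] at hI
    refine delta_pos_false (w := u + v) (by omega) (hc h.hρ₁ h.hb₁ h.hb₁1 h.hu₁ h.hv₁ h11 h12)
      (hc h.hρ₂ h.hb₂ h.hb₂1 h.hu₂ h.hv₂ h21 h22) (hc h.hρ₃ h.hb₃ h.hb₃1 h.hu₃ h.hv₃ h31 h32) ?_ hI
    have hb1 : b₁ = 9 * (u₁ + v₁) - 8 * ρ₁ := by omega
    have hb2 : b₂ = 9 * (u₂ + v₂) - 8 * ρ₂ := by omega
    have hb3 : b₃ = 9 * (u₃ + v₃) - 8 * ρ₃ := by omega
    have hq1 : ρ₁ * ρ₁ = 1 := by rcases h.hρ₁ with rfl | rfl <;> norm_num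
    have hq2 : ρ₂ * ρ₂ = 1 := by rcases h.hρ₂ with rfl | rfl <;> norm_num
    have hq3 : ρ₃ * ρ₃ = 1 := by rcases h.hρ₃ with rfl | rfl <;> norm_num
    have ha9 : a = 9 * (u + v) + 4 := by omega
    rw [hb1, hb2, hb3, ha9] at hdeg
    nlinarith
  · rcases h.hρ₁ with rfl | rfl <;> rcases h.hρ₂ with rfl | rfl <;> rcases h.hρ₃ with rfl | rfl
    · exfalso
      have := h.hdeg
      have := h.e1
      have := h.e2
      have := h.e11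
      have := h.e12
      have := h.e21
      have := h.e22
      have := h.e31
      have := h.e32
      have := h.hb₁
      have := h.hb₂
      have := h.hb₃
      have := h.hb₁1
      have := h.hb₂1
      have := h.hb₃1
      have := h.hu
      have := h.hv
      have := h.ha
      omega
    · exact numeric_two h
    · exact (numeric_two h.swap13.swap12.swap13).swap13.swap12.swap13
    · exact numeric_one h
    · exact (numeric_two h.swap13).swap13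
    · exact (numeric_one h.swap12).swap12
    · exact (numeric_one h.swap13).swap13
    · exfalso
      have ha := h.ha
      have e1 := h.e1
      have e2 := h.e2
      have hdeg := h.hdeg
      have hu := h.hu
      have hv := h.hv
      have hA := h.hA
      have h11 := h.e11
      have h12 := h.e12
      have h21 := h.e21
      have h22 := h.e22
      have h31 := h.e31
      have h32 := h.e32
      have := h.hu₁
      have := h.hv₁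
      have := h.hu₂
      have := h.hv₂
      have := h.hu₃
      have := h.hv₃
      have hI := main_ineq (w := u + v) (w₁ := u₁ + v₁) (w₂ := u₂ + v₂) (w₃ := u₃ + v₃) (ρ₁ := -1) (ρ₂ := -1) (ρ₃ := -1) ha h.hb₁ h.hb₂ h.hb₃
        (by omega) (by omega) (by omega) (by omega) (by omega) (by omega) (by omega) h.hT
      have haeq : (a : ℚ) = 9 * ((u + v : ℤ) : ℚ) - 4 := by
        have : a = 9 * (u + v) - 4 := by omega
        rw [this]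
        push_cast
        ring
      rw [haeq] at hI
      exact case_none (w := u + v) (w₁ := u₁ + v₁) (w₂ := u₂ + v₂) (w₃ := u₃ + v₃) (by omega) (by omega) (by omega) (by omega) hI

end Cfsg.Agent.Lib.Blocks.TI9
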