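import Mathlib

/-!
# A combinatorial lemma on integer vectors: the `3 × 3` grid

Six integer vectors `r j`, `c k` (`j, k : Fin 3`) on a finite set with `⟨r j, r k⟩ = 3 δ`,
`⟨c j, c k⟩ = 3 δ`, `⟨r j, c k⟩ = 1`, `∑ r j = ∑ c k`, with values `(1, 0, 0)` at a base point, and such
that the vanishing of `∑ r j` at a point forces all of them to vanish there, are supported on nine points
forming a grid.
-/

set_option autoImplicit false

namespace Cfsg.Agent.Lib.Blocks.TI9

variable {ι : Type*} [Fintype ι]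

/-- The hypotheses of the grid lemma for the "rows" alone. -/
structure Rows (r : Fin 3 → ι → ℤ) (o : ι) : Prop where
  rr : ∀ j k, ∑ i, r j i * r k i = if j = k then 3 else 0
  ro : ∀ j, r j o = if j = 0 then 1 else 0
  van : ∀ i, ∑ j, r j i = 0 → ∀ j, r j i = 0

variable {r : Fin 3 → ι → ℤ} {o : ι}

theorem Rows.sq_le (h : Rows r o) (j : Fin 3) (i : ι) : (r j i) ^ 2 ≤ 3 := by
  classical
  have h1 := h.rr j j
  rw [if_pos rfl] at h1
  have h2 : r j i * r j i ≤ ∑ i', r j i' * r j i' :=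
    Finset.single_le_sum (f := fun i' => r j i' * r j i') (fun i' _ => mul_self_nonneg _) (Finset.mem_univ i)
  rw [h1] at h2
  nlinarith

theorem Rows.abs_le (h : Rows r o) (j : Fin 3) (i : ι) : r j i = -1 ∨ r j i = 0 ∨ r j i = 1 := by
  have h1 := h.sq_le j i
  have h2 : r j i ≤ 1 := by nlinarith
  have h3 : -1 ≤ r j i := by nlinarith
  omega

/-- The sum of the rows. -/
def tot (r : Fin 3 → ι → ℤ) (i : ι) : ℤ := ∑ j, r j i

omit [Fintype ι] in
theorem tot_eq (i : ι) : tot r i = r 0 i + r 1 i + r 2 i := by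
  simp [tot, Fin.sum_univ_three]

theorem Rows.sum_tot_mul (h : Rows r o) (k : Fin 3) : ∑ i, tot r i * r k i = 3 := by
  have h1 : ∀ i, tot r i * r k i = r 0 i * r k i + r 1 i * r k i + r 2 i * r k i := by
    intro i
    rw [tot_eq]
    ring
  simp only [h1, Finset.sum_add_distrib, h.rr]
  fin_cases k <;> simp

theorem Rows.sum_tot_sq (h : Rows r o) : ∑ i, tot r i * tot r i = 9 := by
  have h1 : ∀ i, tot r i * tot r i = tot r i * r 0 i + tot r i * r 1 i + tot r i * r 2 i := by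
    intro i
    conv_lhs => rw [tot_eq]
    conv_lhs => rw [← tot_eq (r := r) i]
    rw [tot_eq (r := r) i]
    ring
  simp only [h1, Finset.sum_add_distrib, h.sum_tot_mul]
  norm_num

/-- The sum of the squares of the rows. -/
def wt (r : Fin 3 → ι → ℤ) (i : ι) : ℤ := r 0 i * r 0 i + r 1 i * r 1 i + r 2 i * r 2 i

theorem Rows.sum_wt (h : Rows r o) : ∑ i, wt r i = 9 := by
  simp only [wt, Finset.sum_add_distrib, h.rr]
  norm_num

/-- No point has three nonzero coordinates whose sum is `± 1`. -/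
theorem Rows.no_bad (h : Rows r o) (i₀ : ι) (j : Fin 3) (hab : (tot r i₀) ^ 2 = 1)
    (hj : r j i₀ = - tot r i₀) (hno : i₀ ≠ o) : False := by
  classical
  have hsum : ∑ i, (tot r i - 2 * r j i) * (tot r i - 2 * r j i) = 9 := by
    have h1 : ∀ i, (tot r i - 2 * r j i) * (tot r i - 2 * r j i) =
        tot r i * tot r i - 4 * (tot r i * r j i) + 4 * (r j i * r j i) := by
      intro i
      ring
    simp only [h1, Finset.sum_add_distrib, Finset.sum_sub_distrib, ← Finset.mul_sum, h.sum_tot_sq,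
      h.sum_tot_mul, h.rr]
    norm_num
  have hi₀ : (tot r i₀ - 2 * r j i₀) * (tot r i₀ - 2 * r j i₀) = 9 := by
    rw [hj]
    nlinarith
  have herase := Finset.add_sum_erase Finset.univ
    (fun i => (tot r i - 2 * r j i) * (tot r i - 2 * r j i)) (Finset.mem_univ i₀)
  rw [hsum] at herase
  simp only [hi₀] at herase
  have hz : ∑ i ∈ Finset.univ.erase i₀, (tot r i - 2 * r j i) * (tot r i - 2 * r j i) = 0 := by
    linarith
  have h0 := (Finset.sum_eq_zero_iff_of_nonneg (fun i _ => mul_self_nonneg _)).1 hz o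
    (Finset.mem_erase.2 ⟨hno.symm, Finset.mem_univ o⟩)
  have h1 : tot r o = 1 := by
    rw [tot_eq, h.ro, h.ro, h.ro]
    simp
  have h2 : tot r o - 2 * r j o = 0 := mul_self_eq_zero.1 h0
  rw [h1] at h2
  omega

theorem Rows.tot_ne_of_bad (h : Rows r o) : wt r o = 1 := by
  simp [wt, h.ro]

omit [Fintype ι] in
lemma pw_aux (a b c : ℤ) (ha : a = -1 ∨ a = 0 ∨ a = 1) (hb : b = -1 ∨ b = 0 ∨ b = 1)
    (hc : c = -1 ∨ c = 0 ∨ c = 1) (h0 : a + b + c ≠ 0)
    (h1 : a = -(a + b + c) → (a + b + c) ^ 2 = 1 → False)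
    (h2 : b = -(a + b + c) → (a + b + c) ^ 2 = 1 → False)
    (h3 : c = -(a + b + c) → (a + b + c) ^ 2 = 1 → False) :
    0 ≤ (a + b + c) * (a + b + c) - (a * a + b * b + c * c) := by
  rcases ha with rfl | rfl | rfl <;> rcases hb with rfl | rfl | rfl <;> rcases hc with rfl | rfl | rfl <;>
    first
    | omega
    | (exfalso; exact h0 (by decide))
    | (exfalso; exact h1 (by decide) (by decide))
    | (exfalso; exact h2 (by decide) (by decide))
    | (exfalso; exact h3 (by decide) (by decide))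

omit [Fintype ι] in
lemma pw_aux2 (a b c : ℤ) (ha : a = -1 ∨ a = 0 ∨ a = 1) (hb : b = -1 ∨ b = 0 ∨ b = 1)
    (hc : c = -1 ∨ c = 0 ∨ c = 1) (hw : a * a + b * b + c * c = (a + b + c) * (a + b + c)) :
    (a = 0 ∧ b = 0) ∨ (a = 0 ∧ c = 0) ∨ (b = 0 ∧ c = 0) := by
  rcases ha with rfl | rfl | rfl <;> rcases hb with rfl | rfl | rfl <;> rcases hc with rfl | rfl | rfl <;>
    simp_all

/-- A point has at most one nonzero coordinate. -/
theorem Rows.wt_eq (h : Rows r o) (i : ι) : wt r i = tot r i * tot r i := by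
  classical
  -- pointwise nonnegativity
  have hnn : ∀ i, 0 ≤ tot r i * tot r i - wt r i := by
    intro i
    by_cases h0 : tot r i = 0
    · have h1 := h.van i h0
      simp [wt, tot_eq, h1]
    · by_cases hio : i = o
      · subst hio
        simp [wt, tot_eq, h.ro]
      · have hbad : ∀ j, r j i = - tot r i → (tot r i) ^ 2 = 1 → False := fun j hj h1 =>
          h.no_bad i j h1 hj hio
        have h00 := hbad 0
        have h01 := hbad 1
        have h02 := hbad 2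
        rw [tot_eq] at h0 h00 h01 h02 ⊢
        rw [wt]
        exact pw_aux _ _ _ (h.abs_le 0 i) (h.abs_le 1 i) (h.abs_le 2 i) h0 h00 h01 h02
  have hs : ∑ i, (tot r i * tot r i - wt r i) = 0 := by
    rw [Finset.sum_sub_distrib, h.sum_tot_sq, h.sum_wt]
    norm_num
  have h1 := (Finset.sum_eq_zero_iff_of_nonneg (fun i _ => hnn i)).1 hs i (Finset.mem_univ i)
  linarith

/-- At most one coordinate is nonzero at a point. -/
theorem Rows.at_most_one (h : Rows r o) (i : ι) :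
    (r 0 i = 0 ∧ r 1 i = 0) ∨ (r 0 i = 0 ∧ r 2 i = 0) ∨ (r 1 i = 0 ∧ r 2 i = 0) := by
  have hw := h.wt_eq i
  rw [wt, tot_eq] at hw
  exact pw_aux2 _ _ _ (h.abs_le 0 i) (h.abs_le 1 i) (h.abs_le 2 i) hw

/-- The nonzero coordinate is the total, and the other coordinates vanish. -/
theorem Rows.eq_tot (h : Rows r o) (i : ι) {j : Fin 3} (hj : r j i ≠ 0) :
    r j i = tot r i ∧ ∀ k, k ≠ j → r k i = 0 := by
  have hw := h.at_most_one i
  rw [tot_eq]
  fin_cases j
  · have hj' : r 0 i ≠ 0 := hj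
    have h1 : r 1 i = 0 ∧ r 2 i = 0 := by tauto
    refine ⟨?_, fun k hk => ?_⟩
    · show r 0 i = _
      rw [h1.1, h1.2]; ring
    · fin_cases k
      · exact absurd rfl hk
      · exact h1.1
      · exact h1.2
  · have hj' : r 1 i ≠ 0 := hj
    have h1 : r 0 i = 0 ∧ r 2 i = 0 := by tauto
    refine ⟨?_, fun k hk => ?_⟩
    · show r 1 i = _
      rw [h1.1, h1.2]; ring
    · fin_cases k
      · exact h1.1
      · exact absurd rfl hk
      · exact h1.2
  · have hj' : r 2 i ≠ 0 := hj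
    have h1 : r 0 i = 0 ∧ r 1 i = 0 := by tauto
    refine ⟨?_, fun k hk => ?_⟩
    · show r 2 i = _
      rw [h1.1, h1.2]; ring
    · fin_cases k
      · exact h1.1
      · exact h1.2
      · exact absurd rfl hk

/-- The nonvanishing of the total gives a nonzero coordinate. -/
theorem exists_coord (i : ι) (h : tot r i ≠ 0) : ∃ j, r j i ≠ 0 := by
  by_contra hc
  push Not at hc
  apply h
  simp [tot_eq, hc]

theorem Rows.sq_of_ne (h : Rows r o) (i : ι) {j : Fin 3} (hj : r j i ≠ 0) : r j i * r j i = 1 := by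
  rcases h.abs_le j i with h1 | h1 | h1
  · rw [h1]; norm_num
  · exact absurd h1 hj
  · rw [h1]; norm_num

section Grid

variable {c : Fin 3 → ι → ℤ}

/-- The grid lemma. -/
theorem exists_grid (hr : Rows r o) (hc : Rows c o) (hrc : ∀ j k, ∑ i, r j i * c k i = 1)
    (hsum : ∀ i, tot r i = tot c i) :
    ∃ f : Fin 3 → Fin 3 → ι, f 0 0 = o ∧
      (∀ j k, r j (f j k) ≠ 0 ∧ c k (f j k) ≠ 0) ∧
      (∀ i, tot r i ≠ 0 → ∃ j k, f j k = i) ∧
      (∀ j k j' k', f j k = f j' k' → j = j' ∧ k = k') := by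
  classical
  -- the product is `0` or `1`
  have h01 : ∀ j k i, r j i * c k i = 0 ∨ r j i * c k i = 1 := by
    intro j k i
    by_cases h1 : r j i = 0
    · left; rw [h1, zero_mul]
    by_cases h2 : c k i = 0
    · left; rw [h2, mul_zero]
    right
    have h3 := (hr.eq_tot i h1).1
    have h4 := (hc.eq_tot i h2).1
    rw [← hsum i, ← h3] at h4
    rw [h4]
    exact hr.sq_of_ne i h1
  have hex : ∀ j k, ∃ i, r j i * c k i = 1 ∧ ∀ i', r j i' * c k i' = 1 → i' = i := by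
    intro j k
    have hs := hrc j k
    have hne : ∃ i, r j i * c k i = 1 := by
      by_contra hcon
      push Not at hcon
      have : ∑ i, r j i * c k i = 0 := Finset.sum_eq_zero fun i _ => (h01 j k i).resolve_right (hcon i)
      omega
    obtain ⟨i, hi⟩ := hne
    refine ⟨i, hi, fun i' hi' => ?_⟩
    by_contra hne
    have h2 : ∑ x ∈ ({i, i'} : Finset ι), r j x * c k x ≤ ∑ x, r j x * c k x :=
      Finset.sum_le_sum_of_subset_of_nonneg (Finset.subset_univ _) (fun x _ _ => by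
        rcases h01 j k x with h | h <;> omega)
    rw [Finset.sum_pair (Ne.symm hne), hi, hi', hs] at h2
    omega
  choose f hf hfu using hex
  have hfne : ∀ j k, r j (f j k) ≠ 0 ∧ c k (f j k) ≠ 0 := by
    intro j k
    have h1 := hf j k
    constructor
    · intro h2
      rw [h2, zero_mul] at h1
      omega
    · intro h2
      rw [h2, mul_zero] at h1
      omega
  refine ⟨f, ?_, hfne, ?_, ?_⟩
  · symm
    apply hfu
    rw [hr.ro, hc.ro]
    simp
  · intro i hi
    obtain ⟨j, hj⟩ := exists_coord i hi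
    obtain ⟨k, hk⟩ := exists_coord (r := c) i (by rwa [← hsum i])
    refine ⟨j, k, (hfu j k i ?_).symm⟩
    rcases h01 j k i with h | h
    · rcases mul_eq_zero.1 h with h | h
      · exact absurd h hj
      · exact absurd h hk
    · exact h
  · intro j k j' k' h
    constructor
    · by_contra hjj
      have h1 := (hr.eq_tot _ (hfne j k).1).2 j' (Ne.symm hjj)
      rw [h] at h1
      exact (hfne j' k').1 h1
    · by_contra hkk
      have h1 := (hc.eq_tot _ (hfne j k).2).2 k' (Ne.symm hkk)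
      rw [h] at h1
      exact (hfne j' k').2 h1

end Grid

section GramSec

variable {A B C P Q : ι → ℤ}

/-- The Gram data of the five columns. -/
structure Gram (A B C P Q : ι → ℤ) (o : ι) : Prop where
  AA : ∑ i, A i * A i = 18
  BB : ∑ i, B i * B i = 18
  CC : ∑ i, C i * C i = 9
  PP : ∑ i, P i * P i = 6
  QQ : ∑ i, Q i * Q i = 6
  AB : ∑ i, A i * B i = 0
  AC : ∑ i, A i * C i = 0
  AP : ∑ i, A i * P i = 0
  AQ : ∑ i, A i * Q i = 0
  BC : ∑ i, B i * C i = 0
  BP : ∑ i, B i * P i = 0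
  BQ : ∑ i, B i * Q i = 0
  CP : ∑ i, C i * P i = 0
  CQ : ∑ i, C i * Q i = 0
  PQ : ∑ i, P i * Q i = 0
  d1 : ∀ i, (3 : ℤ) ∣ A i + 2 * C i
  d2 : ∀ i, (2 : ℤ) ∣ A i + P i
  d3 : ∀ i, (3 : ℤ) ∣ B i + 2 * C i
  d4 : ∀ i, (2 : ℤ) ∣ B i + Q i
  Ao : A o = 1
  Bo : B o = 1
  Co : C o = 1
  Po : P o = 1
  Qo : Q o = 1
  van : ∀ i, C i = 0 → A i = 0 ∧ B i = 0 ∧ P i = 0 ∧ Q i = 0

theorem Gram.eval (h : Gram A B C P Q o) (a₁ a₂ a₃ a₄ a₅ b₁ b₂ b₃ b₄ b₅ : ℤ) :
    ∑ i, (a₁ * A i + a₂ * B i + a₃ * C i + a₄ * P i + a₅ * Q i) *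
        (b₁ * A i + b₂ * B i + b₃ * C i + b₄ * P i + b₅ * Q i) =
      18 * (a₁ * b₁) + 18 * (a₂ * b₂) + 9 * (a₃ * b₃) + 6 * (a₄ * b₄) + 6 * (a₅ * b₅) := by
  have h1 : ∀ i, (a₁ * A i + a₂ * B i + a₃ * C i + a₄ * P i + a₅ * Q i) *
        (b₁ * A i + b₂ * B i + b₃ * C i + b₄ * P i + b₅ * Q i) =
      (a₁ * b₁) * (A i * A i) + (a₂ * b₂) * (B i * B i) + (a₃ * b₃) * (C i * C i) +
      (a₄ * b₄) * (P i * P i) + (a₅ * b₅) * (Q i * Q i) +
      (a₁ * b₂ + a₂ * b₁) * (A i * B i) + (a₁ * b₃ + a₃ * b₁) * (A i * C i) +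
      (a₁ * b₄ + a₄ * b₁) * (A i * P i) + (a₁ * b₅ + a₅ * b₁) * (A i * Q i) +
      (a₂ * b₃ + a₃ * b₂) * (B i * C i) + (a₂ * b₄ + a₄ * b₂) * (B i * P i) +
      (a₂ * b₅ + a₅ * b₂) * (B i * Q i) + (a₃ * b₄ + a₄ * b₃) * (C i * P i) +
      (a₃ * b₅ + a₅ * b₃) * (C i * Q i) + (a₄ * b₅ + a₅ * b₄) * (P i * Q i) := by
    intro i
    ring
  simp only [h1, Finset.sum_add_distrib, ← Finset.mul_sum, h.AA, h.BB, h.CC, h.PP, h.QQ, h.AB, h.AC, h.AP,
    h.AQ, h.BC, h.BP, h.BQ, h.CP, h.CQ, h.PQ]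
  ring

/-- The sum of products of two functions with given rational coordinates. -/
theorem Gram.pair (h : Gram A B C P Q o) {U V : ι → ℤ} {n m : ℤ} {a₁ a₂ a₃ a₄ a₅ b₁ b₂ b₃ b₄ b₅ : ℤ}
    (hU : ∀ i, n * U i = a₁ * A i + a₂ * B i + a₃ * C i + a₄ * P i + a₅ * Q i)
    (hV : ∀ i, m * V i = b₁ * A i + b₂ * B i + b₃ * C i + b₄ * P i + b₅ * Q i) :
    n * m * ∑ i, U i * V i =
      18 * (a₁ * b₁) + 18 * (a₂ * b₂) + 9 * (a₃ * b₃) + 6 * (a₄ * b₄) + 6 * (a₅ * b₅) := by
  rw [← h.eval, Finset.mul_sum]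
  refine Finset.sum_congr rfl fun i _ => ?_
  rw [← hU, ← hV]
  ring

/-- The row functions. -/
def rowF (A C P : ι → ℤ) (j : Fin 3) (i : ι) : ℤ :=
  ![(A i + 2 * C i + 3 * P i) / 6, (A i + 2 * C i - 3 * P i) / 6, (C i - A i) / 3] j

omit [Fintype ι] in
theorem rowF_0 (i : ι) : rowF A C P 0 i = (A i + 2 * C i + 3 * P i) / 6 := rfl
omit [Fintype ι] in
theorem rowF_1 (i : ι) : rowF A C P 1 i = (A i + 2 * C i - 3 * P i) / 6 := rfl
omit [Fintype ι] in
theorem rowF_2 (i : ι) : rowF A C P 2 i = (C i - A i) / 3 := rfl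

/-- The relations of the row functions to the data. -/
structure RowRel (A C P : ι → ℤ) : Prop where
  e0 : ∀ i, 6 * rowF A C P 0 i = A i + 2 * C i + 3 * P i
  e1 : ∀ i, 6 * rowF A C P 1 i = A i + 2 * C i - 3 * P i
  e2 : ∀ i, 3 * rowF A C P 2 i = C i - A i

omit [Fintype ι] in
theorem rowRel_of (h3 : ∀ i, (3 : ℤ) ∣ A i + 2 * C i) (h2 : ∀ i, (2 : ℤ) ∣ A i + P i) : RowRel A C P := by
  refine ⟨fun i => ?_, fun i => ?_, fun i => ?_⟩
  · have := h3 i
    have := h2 i
    rw [rowF_0]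
    omega
  · have := h3 i
    have := h2 i
    rw [rowF_1]
    omega
  · have := h3 i
    rw [rowF_2]
    omega

theorem Gram.rows (h : Gram A B C P Q o) : Rows (rowF A C P) o := by
  have hR := rowRel_of h.d1 h.d2
  have e0 : ∀ i, (6 : ℤ) * rowF A C P 0 i = 1 * A i + 0 * B i + 2 * C i + 3 * P i + 0 * Q i := fun i => by
    rw [hR.e0]; ring
  have e1 : ∀ i, (6 : ℤ) * rowF A C P 1 i = 1 * A i + 0 * B i + 2 * C i + (-3) * P i + 0 * Q i := fun i => by
    rw [hR.e1]; ring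
  have e2 : ∀ i, (3 : ℤ) * rowF A C P 2 i = (-1) * A i + 0 * B i + 1 * C i + 0 * P i + 0 * Q i := fun i => by
    rw [hR.e2]; ring
  refine ⟨?_, ?_, ?_⟩
  · have h00 := h.pair e0 e0
    have h01 := h.pair e0 e1
    have h02 := h.pair e0 e2
    have h11 := h.pair e1 e1
    have h12 := h.pair e1 e2
    have h22 := h.pair e2 e2
    have hsym : ∀ j k : Fin 3, ∑ i, rowF A C P j i * rowF A C P k i = ∑ i, rowF A C P k i * rowF A C P j i :=
      fun j k => Finset.sum_congr rfl fun i _ => mul_comm _ _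
    intro j k
    have h10 := hsym 1 0
    have h20 := hsym 2 0
    have h21 := hsym 2 1
    fin_cases j <;> fin_cases k <;> simp only [Fin.zero_eta, Fin.mk_one, Fin.reduceFinMk] <;> norm_num <;> omega
  · intro j
    have hA := h.Ao
    have hC := h.Co
    have hP := h.Po
    fin_cases j <;> simp only [Fin.zero_eta, Fin.mk_one, Fin.reduceFinMk, rowF_0, rowF_1, rowF_2, hA, hC, hP] <;> norm_num <;> decide
  · intro i hi
    have h0 : rowF A C P 0 i + rowF A C P 1 i + rowF A C P 2 i = 0 := by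
      rw [← hi]
      simp [Fin.sum_univ_three]
    have hc : C i = 0 := by
      have h1 := hR.e0 i
      have h2 := hR.e1 i
      have h3 := hR.e2 i
      omega
    obtain ⟨h1, -, h3, -⟩ := h.van i hc
    have e0' := hR.e0 i
    have e1' := hR.e1 i
    have e2' := hR.e2 i
    rw [h1, h3, hc] at e0' e1'
    rw [h1, hc] at e2'
    intro j
    fin_cases j
    · show rowF A C P 0 i = 0
      omega
    · show rowF A C P 1 i = 0
      omega
    · show rowF A C P 2 i = 0
      omega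

omit [Fintype ι] in
theorem tot_rowF (hR : RowRel A C P) (i : ι) : tot (rowF A C P) i = C i := by
  rw [tot_eq]
  have h1 := hR.e0 i
  have h2 := hR.e1 i
  have h3 := hR.e2 i
  omega

/-- The mirror of a Gram datum. -/
theorem Gram.swap (h : Gram A B C P Q o) : Gram B A C Q P o where
  AA := h.BB
  BB := h.AA
  CC := h.CC
  PP := h.QQ
  QQ := h.PP
  AB := by rw [← h.AB]; exact Finset.sum_congr rfl fun i _ => mul_comm _ _
  AC := h.BC
  AP := h.BQ
  AQ := h.BP
  BC := h.AC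
  BP := h.AQ
  BQ := h.AP
  CP := h.CQ
  CQ := h.CP
  PQ := by rw [← h.PQ]; exact Finset.sum_congr rfl fun i _ => mul_comm _ _
  d1 := h.d3
  d2 := h.d4
  d3 := h.d1
  d4 := h.d2
  Ao := h.Bo
  Bo := h.Ao
  Co := h.Co
  Po := h.Qo
  Qo := h.Po
  van := fun i hi => by
    obtain ⟨h1, h2, h3, h4⟩ := h.van i hi
    exact ⟨h2, h1, h4, h3⟩

/-- The coefficients `b`. -/
def bb : Fin 3 → ℤ := ![1, 1, -2]
/-- The coefficients `η`. -/
def ee : Fin 3 → ℤ := ![1, -1, 0]

/-- The values at a point with a nonzero coordinate. -/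
theorem values_of_coord (hR : RowRel A C P) (h : Rows (rowF A C P) o) (i : ι) {j : Fin 3} (hj : rowF A C P j i ≠ 0) :
    A i = C i * bb j ∧ P i = C i * ee j := by
  obtain ⟨h1, h2⟩ := h.eq_tot i hj
  rw [tot_rowF hR] at h1
  have e0 := hR.e0 i
  have e1 := hR.e1 i
  have e2 := hR.e2 i
  fin_cases j
  · have h3 := h2 1 (by decide)
    have h4 := h2 2 (by decide)
    have h1' : rowF A C P 0 i = C i := h1
    rw [h3] at e1
    rw [h4] at e2
    rw [h1'] at e0
    simp only [bb, ee, Fin.zero_eta, Matrix.cons_val_zero]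
    omega
  · have h3 := h2 0 (by decide)
    have h4 := h2 2 (by decide)
    have h1' : rowF A C P 1 i = C i := h1
    rw [h3] at e0
    rw [h4] at e2
    rw [h1'] at e1
    simp only [bb, ee, Fin.mk_one, Matrix.cons_val_one, Matrix.cons_val_zero]
    omega
  · have h3 := h2 0 (by decide)
    have h4 := h2 1 (by decide)
    have h1' : rowF A C P 2 i = C i := h1
    rw [h3] at e0
    rw [h4] at e1
    rw [h1'] at e2
    simp only [bb, ee, Fin.reduceFinMk, Matrix.cons_val]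
    omega

/-- **The grid.** -/
theorem Gram.exists_grid (h : Gram A B C P Q o) :
    ∃ f : Fin 3 → Fin 3 → ι, f 0 0 = o ∧ (∀ j k, C (f j k) = 1 ∨ C (f j k) = -1) ∧
      (∀ i, C i ≠ 0 → ∃ j k, f j k = i) ∧
      (∀ j k j' k', f j k = f j' k' → j = j' ∧ k = k') ∧
      (∀ j k, A (f j k) = C (f j k) * bb j ∧ P (f j k) = C (f j k) * ee j ∧
        B (f j k) = C (f j k) * bb k ∧ Q (f j k) = C (f j k) * ee k) := by
  have hR := rowRel_of h.d1 h.d2
  have hR' := rowRel_of h.d3 h.d4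
  have hr := h.rows
  have hc := h.swap.rows
  have hrc : ∀ j k, ∑ i, rowF A C P j i * rowF B C Q k i = 1 := by
    have e0 : ∀ i, (6 : ℤ) * rowF A C P 0 i = 1 * A i + 0 * B i + 2 * C i + 3 * P i + 0 * Q i := fun i => by
      rw [hR.e0]; ring
    have e1 : ∀ i, (6 : ℤ) * rowF A C P 1 i = 1 * A i + 0 * B i + 2 * C i + (-3) * P i + 0 * Q i := fun i => by
      rw [hR.e1]; ring
    have e2 : ∀ i, (3 : ℤ) * rowF A C P 2 i = (-1) * A i + 0 * B i + 1 * C i + 0 * P i + 0 * Q i := fun i => by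
      rw [hR.e2]; ring
    have e0' : ∀ i, (6 : ℤ) * rowF B C Q 0 i = 0 * A i + 1 * B i + 2 * C i + 0 * P i + 3 * Q i := fun i => by
      rw [hR'.e0]; ring
    have e1' : ∀ i, (6 : ℤ) * rowF B C Q 1 i = 0 * A i + 1 * B i + 2 * C i + 0 * P i + (-3) * Q i := fun i => by
      rw [hR'.e1]; ring
    have e2' : ∀ i, (3 : ℤ) * rowF B C Q 2 i = 0 * A i + (-1) * B i + 1 * C i + 0 * P i + 0 * Q i := fun i => by
      rw [hR'.e2]; ring
    have h00 := h.pair e0 e0'
    have h01 := h.pair e0 e1'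
    have h02 := h.pair e0 e2'
    have h10 := h.pair e1 e0'
    have h11 := h.pair e1 e1'
    have h12 := h.pair e1 e2'
    have h20 := h.pair e2 e0'
    have h21 := h.pair e2 e1'
    have h22 := h.pair e2 e2'
    intro j k
    fin_cases j <;> fin_cases k <;> simp only [Fin.zero_eta, Fin.mk_one, Fin.reduceFinMk] <;> norm_num <;> omega
  have hsum : ∀ i, tot (rowF A C P) i = tot (rowF B C Q) i := fun i => by
    rw [tot_rowF hR, tot_rowF hR']
  obtain ⟨f, hf0, hfne, hfs, hfi⟩ := Cfsg.Agent.Lib.Blocks.TI9.exists_grid hr hc hrc hsum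
  refine ⟨f, hf0, ?_, ?_, hfi, ?_⟩
  · intro j k
    have h1 := (hr.eq_tot _ (hfne j k).1).1
    rw [tot_rowF hR] at h1
    rw [← h1]
    rcases hr.abs_le j (f j k) with h2 | h2 | h2
    · exact Or.inr h2
    · exact absurd h2 (hfne j k).1
    · exact Or.inl h2
  · intro i hi
    exact hfs i (by rwa [tot_rowF hR])
  · intro j k
    obtain ⟨h1, h2⟩ := values_of_coord hR hr _ (hfne j k).1
    obtain ⟨h3, h4⟩ := values_of_coord hR' hc _ (hfne j k).2
    exact ⟨h1, h2, h3, h4⟩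

end GramSec

end Cfsg.Agent.Lib.Blocks.TI9
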