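import Mathlib

/-!
# The normalizer in the `3²:2²` situation: a model in `S₃ × S₃`

`G36 = D₃ × D₃`.  From an elementary abelian `T` of order `9` with `C_G(T) = T` and `N_G(T)/T` a
Klein four-group we build an injective homomorphism `G36 → G` with image `N_G(T)`, mapping the rotations
onto `T`.
-/

set_option autoImplicit false

namespace Cfsg.Agent.Lib.Blocks.TI9

open DihedralGroup

/-- The model. -/
abbrev G36 := DihedralGroup 3 × DihedralGroup 3

section Dih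

variable {G : Type*} [Group G] {e t : G}

lemma dih_add (he : e ^ 3 = 1) (i j : ZMod 3) : e ^ (i + j).val = e ^ i.val * e ^ j.val := by
  rw [ZMod.val_add, ← pow_add]
  exact (pow_eq_pow_mod _ he).symm

lemma dih_sub (he : e ^ 3 = 1) (i j : ZMod 3) : e ^ (j - i).val = e ^ j.val * (e ^ i.val)⁻¹ := by
  have h := dih_add he (j - i) i
  rw [sub_add_cancel] at h
  rw [h, mul_inv_cancel_right]

lemma dih_conj_pow (hte : t * e * t⁻¹ = e⁻¹) (k : ℕ) : t * e ^ k * t⁻¹ = (e ^ k)⁻¹ := by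
  rw [← conj_pow, hte, inv_pow]

lemma dih_conj_fix (hte : t * e * t⁻¹ = e) (k : ℕ) : t * e ^ k * t⁻¹ = e ^ k := by
  rw [← conj_pow, hte]

lemma dih_comm_inv (a b : ℕ) : e ^ a * (e ^ b)⁻¹ = (e ^ b)⁻¹ * e ^ a :=
  ((Commute.pow_pow (Commute.refl e) a b).inv_right).eq

/-- The homomorphism from the dihedral group of order `6` given by an element of order dividing `3`
and an element inverting it with square `1`. -/
def dih (e t : G) (he : e ^ 3 = 1) (ht : t * t = 1) (hte : t * e * t⁻¹ = e⁻¹) : DihedralGroup 3 →* G where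
  toFun x := match x with
    | r i => e ^ i.val
    | sr i => t * e ^ i.val
  map_one' := by
    show e ^ (0 : ZMod 3).val = 1
    simp
  map_mul' := by
    have hti : t⁻¹ = t := inv_eq_of_mul_eq_one_left ht
    have hk : ∀ k : ℕ, t * e ^ k * t = (e ^ k)⁻¹ := by
      intro k
      have := dih_conj_pow hte k
      rwa [hti] at this
    have hc : ∀ k : ℕ, t * e ^ k = (e ^ k)⁻¹ * t := by
      intro k
      rw [← hk k, mul_assoc (t * e ^ k), ht, mul_one]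
    have hc' : ∀ k : ℕ, e ^ k * t = t * (e ^ k)⁻¹ := by
      intro k
      rw [← hk k, ← mul_assoc, ← mul_assoc, ht, one_mul]
    rintro (i | i) (j | j)
    · show e ^ (i + j).val = e ^ i.val * e ^ j.val
      exact dih_add he i j
    · show t * e ^ (j - i).val = e ^ i.val * (t * e ^ j.val)
      rw [dih_sub he, ← mul_assoc (e ^ i.val), hc', mul_assoc t, dih_comm_inv]
    · show t * e ^ (i + j).val = t * e ^ i.val * e ^ j.val
      rw [dih_add he, mul_assoc]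
    · show e ^ (j - i).val = t * e ^ i.val * (t * e ^ j.val)
      rw [dih_sub he, dih_comm_inv, ← mul_assoc (t * e ^ i.val), hk]

@[simp] lemma dih_r (he : e ^ 3 = 1) (ht : t * t = 1) (hte : t * e * t⁻¹ = e⁻¹) (i : ZMod 3) :
    dih e t he ht hte (r i) = e ^ i.val := rfl

@[simp] lemma dih_sr (he : e ^ 3 = 1) (ht : t * t = 1) (hte : t * e * t⁻¹ = e⁻¹) (i : ZMod 3) :
    dih e t he ht hte (sr i) = t * e ^ i.val := rfl

lemma zmod3_cases (i : ZMod 3) : i = 0 ∨ i = 1 ∨ i = 2 := by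
  revert i
  decide

/-- If `x ^ 3 = 1` then `x ^ 2 = 1` forces `x = 1`. -/
lemma eq_one_of_sq {x : G} (h3 : x ^ 3 = 1) (h2 : x * x = 1) : x = 1 := by
  have : x ^ 3 = x * (x * x) := by rw [pow_succ, pow_two, mul_assoc]
  rw [h2, mul_one] at this
  rw [← this, h3]

/-- Elements of order `3`: their powers. -/
lemma pow_val_eq_one {x : G} (hx3 : x ^ 3 = 1) (hx1 : x ≠ 1) {i : ZMod 3} (h : x ^ i.val = 1) : i = 0 := by
  rcases zmod3_cases i with rfl | rfl | rfl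
  · rfl
  · exfalso
    apply hx1
    have h1 : (1 : ZMod 3).val = 1 := rfl
    rwa [h1, pow_one] at h
  · exfalso
    apply hx1
    have h1 : (2 : ZMod 3).val = 2 := rfl
    rw [h1, pow_two] at h
    exact eq_one_of_sq hx3 h

lemma val_pow_three {x : G} (hx3 : x ^ 3 = 1) (k : ℕ) : (x ^ k) ^ 3 = 1 := by
  rw [← pow_mul, mul_comm, pow_mul, hx3, one_pow]

lemma conj_mul' (t a b : G) : t * (a * b) * t⁻¹ = (t * a * t⁻¹) * (t * b * t⁻¹) := by group

lemma conj_inv' (t a : G) : t * a⁻¹ * t⁻¹ = (t * a * t⁻¹)⁻¹ := by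
  simp [mul_assoc]

end Dih

section Span

variable {G : Type*} [Group G] {e₁ e₂ t : G}

/-- Two independent eigenvectors of an involution. -/
structure Pair (e₁ e₂ t : G) : Prop where
  h1 : e₁ ^ 3 = 1
  h2 : e₂ ^ 3 = 1
  ne1 : e₁ ≠ 1
  ne2 : e₂ ≠ 1
  comm : e₁ * e₂ = e₂ * e₁
  a1 : t * e₁ * t⁻¹ = e₁⁻¹
  a2 : t * e₂ * t⁻¹ = e₂

theorem Pair.ind (P : Pair e₁ e₂ t) (i j : ZMod 3) (h : e₁ ^ i.val * e₂ ^ j.val = 1) : i = 0 ∧ j = 0 := by
  have h1 : (e₁ ^ i.val)⁻¹ * e₂ ^ j.val = 1 := by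
    have h2 := conj_mul' t (e₁ ^ i.val) (e₂ ^ j.val)
    rw [h, dih_conj_pow P.a1, dih_conj_fix P.a2, mul_one, mul_inv_cancel] at h2
    exact h2.symm
  have h3 : e₂ ^ j.val = e₁ ^ i.val := (inv_mul_eq_one.1 h1).symm
  rw [h3] at h
  have hA := eq_one_of_sq (val_pow_three P.h1 i.val) h
  have hi : i = 0 := pow_val_eq_one P.h1 P.ne1 hA
  have hj : j = 0 := pow_val_eq_one P.h2 P.ne2 (by rw [h3, hA])
  exact ⟨hi, hj⟩

theorem Pair.span (P : Pair e₁ e₂ t) {T : Subgroup G} [Finite G] (h1T : e₁ ∈ T) (h2T : e₂ ∈ T)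
    (hcard : Nat.card T = 9) (x : G) (hx : x ∈ T) : ∃ i j : ZMod 3, x = e₁ ^ i.val * e₂ ^ j.val := by
  let F : ZMod 3 × ZMod 3 → T := fun p => ⟨e₁ ^ p.1.val * e₂ ^ p.2.val,
    T.mul_mem (T.pow_mem h1T _) (T.pow_mem h2T _)⟩
  have hF : Function.Injective F := by
    rintro ⟨i, j⟩ ⟨i', j'⟩ h
    have h1 : e₁ ^ i.val * e₂ ^ j.val = e₁ ^ i'.val * e₂ ^ j'.val := congrArg Subtype.val h
    have h2 : e₁ ^ (i - i').val * e₂ ^ (j - j').val = 1 := by
      rw [dih_sub P.h1, dih_sub P.h2, dih_comm_inv]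
      calc (e₁ ^ i'.val)⁻¹ * e₁ ^ i.val * (e₂ ^ j.val * (e₂ ^ j'.val)⁻¹)
          = (e₁ ^ i'.val)⁻¹ * (e₁ ^ i.val * e₂ ^ j.val) * (e₂ ^ j'.val)⁻¹ := by
            simp only [mul_assoc]
        _ = 1 := by
            rw [h1]
            simp only [inv_mul_cancel_left, mul_inv_cancel]
    obtain ⟨h3, h4⟩ := P.ind _ _ h2
    rw [Prod.mk.injEq]
    exact ⟨sub_eq_zero.1 h3, sub_eq_zero.1 h4⟩
  have hbij : Function.Bijective F := by
    apply hF.bijective_of_nat_card_le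
    rw [hcard, Nat.card_prod, Nat.card_zmod]
  obtain ⟨⟨i, j⟩, hij⟩ := hbij.2 ⟨x, hx⟩
  exact ⟨i, j, (congrArg Subtype.val hij).symm⟩

/-- A nontrivial power of `x`, `x ^ 3 = 1`. -/
lemma pow_val_cases {x : G} (hx3 : x ^ 3 = 1) (i : ZMod 3) (hi : x ^ i.val ≠ 1) : x ^ i.val = x ∨ x ^ i.val = x⁻¹ := by
  rcases zmod3_cases i with rfl | rfl | rfl
  · exact absurd (by simp) hi
  · left
    have h1 : (1 : ZMod 3).val = 1 := rfl
    rw [h1, pow_one]
  · right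
    have h1 : (2 : ZMod 3).val = 2 := rfl
    rw [h1, eq_inv_iff_mul_eq_one, ← pow_succ]
    exact hx3

theorem Pair.inv_mem (P : Pair e₁ e₂ t) {T : Subgroup G}
    (hspan : ∀ x ∈ T, ∃ i j : ZMod 3, x = e₁ ^ i.val * e₂ ^ j.val) {y : G} (hy : y ∈ T)
    (hty : t * y * t⁻¹ = y⁻¹) (hy1 : y ≠ 1) : y = e₁ ∨ y = e₁⁻¹ := by
  obtain ⟨i, j, rfl⟩ := hspan y hy
  have hcp : e₁ ^ i.val * e₂ ^ j.val = e₂ ^ j.val * e₁ ^ i.val :=
    (Commute.pow_pow (show Commute e₁ e₂ from P.comm) _ _).eq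
  rw [conj_mul', dih_conj_pow P.a1, dih_conj_fix P.a2, mul_inv_rev] at hty
  have hcp2 : (e₂ ^ j.val)⁻¹ * (e₁ ^ i.val)⁻¹ = (e₁ ^ i.val)⁻¹ * (e₂ ^ j.val)⁻¹ := by
    rw [← mul_inv_rev, ← mul_inv_rev, hcp]
  have h2 : e₂ ^ j.val = (e₂ ^ j.val)⁻¹ := by
    rw [hcp2] at hty
    exact mul_left_cancel hty
  have h3 : e₂ ^ j.val * e₂ ^ j.val = 1 := by
    nth_rw 1 [h2]
    exact inv_mul_cancel _
  have h4 := eq_one_of_sq (val_pow_three P.h2 j.val) h3
  rw [h4, mul_one] at hy1 ⊢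
  exact pow_val_cases P.h1 i hy1

theorem Pair.fix_mem (P : Pair e₁ e₂ t) {T : Subgroup G}
    (hspan : ∀ x ∈ T, ∃ i j : ZMod 3, x = e₁ ^ i.val * e₂ ^ j.val) {y : G} (hy : y ∈ T)
    (hty : t * y * t⁻¹ = y) (hy1 : y ≠ 1) : y = e₂ ∨ y = e₂⁻¹ := by
  obtain ⟨i, j, rfl⟩ := hspan y hy
  rw [conj_mul', dih_conj_pow P.a1, dih_conj_fix P.a2] at hty
  have h2 : (e₁ ^ i.val)⁻¹ = e₁ ^ i.val := mul_right_cancel hty
  have h3 : e₁ ^ i.val * e₁ ^ i.val = 1 := by
    nth_rw 1 [← h2]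
    exact inv_mul_cancel _
  have h4 := eq_one_of_sq (val_pow_three P.h1 i.val) h3
  rw [h4, one_mul] at hy1 ⊢
  exact pow_val_cases P.h2 j hy1

end Span

section Model

variable {G : Type*} [Group G]

/-- The model of the normalizer. -/
structure Mod (T : Subgroup G) (φ : G36 →* G) : Prop where
  inj : Function.Injective φ
  memN : ∀ g, g ∈ Subgroup.normalizer (T : Set G) → ∃ g₀, φ g₀ = g
  mapN : ∀ g₀, φ g₀ ∈ Subgroup.normalizer (T : Set G)
  memT : ∀ x, x ∈ T ↔ ∃ i j : ZMod 3, x = φ (r i, r j)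

theorem mod_of_data [Finite G] {T : Subgroup G} {e₁ e₂ t₁ t₂ : G} (P : Pair e₁ e₂ t₁) (h1T : e₁ ∈ T) (h2T : e₂ ∈ T)
    (hcard : Nat.card T = 9) (hcardN : Nat.card (Subgroup.normalizer (T : Set G)) = 36)
    (ht₁ : t₁ * t₁ = 1) (ht₂ : t₂ * t₂ = 1) (htt : t₁ * t₂ = t₂ * t₁)
    (a21 : t₂ * e₁ * t₂⁻¹ = e₁) (a22 : t₂ * e₂ * t₂⁻¹ = e₂⁻¹)
    (h1N : t₁ ∈ Subgroup.normalizer (T : Set G)) (h2N : t₂ ∈ Subgroup.normalizer (T : Set G)) :
    ∃ φ : G36 →* G, Mod T φ := by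
  classical
  set f := dih e₁ t₁ P.h1 ht₁ P.a1 with hf
  set g := dih e₂ t₂ P.h2 ht₂ a22 with hg
  have c1 : Commute e₁ e₂ := P.comm
  have c2 : Commute e₁ t₂ := by
    have : t₂ * e₁ = e₁ * t₂ := by
      calc t₂ * e₁ = t₂ * e₁ * t₂⁻¹ * t₂ := by group
        _ = e₁ * t₂ := by rw [a21]
    exact this.symm
  have c3 : Commute t₁ e₂ := by
    calc t₁ * e₂ = t₁ * e₂ * t₁⁻¹ * t₁ := by group
      _ = e₂ * t₁ := by rw [P.a2]
  have c4 : Commute t₁ t₂ := htt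
  have hcomm : ∀ a b, Commute (f a) (g b) := by
    rintro (i | i) (j | j)
    · exact c1.pow_pow _ _
    · exact (c2.pow_left _).mul_right (c1.pow_pow _ _)
    · exact (c3.pow_right _).mul_left (c1.pow_pow _ _)
    · exact ((c4.mul_right (c3.pow_right _))).mul_left
        ((c2.pow_left _).mul_right (c1.pow_pow _ _))
  let φ : G36 →* G := MonoidHom.noncommCoprod f g hcomm
  have hφ : ∀ a b, φ (a, b) = f a * g b := fun a b => rfl
  have hφ1 : φ (r 1, 1) = e₁ := by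
    have h1 : (1 : DihedralGroup 3) = r 0 := rfl
    rw [hφ, h1]
    show e₁ ^ (1 : ZMod 3).val * e₂ ^ (0 : ZMod 3).val = e₁
    have h2 : (1 : ZMod 3).val = 1 := rfl
    rw [h2]
    simp
  have hφ2 : φ (1, r 1) = e₂ := by
    have h1 : (1 : DihedralGroup 3) = r 0 := rfl
    rw [hφ, h1]
    show e₁ ^ (0 : ZMod 3).val * e₂ ^ (1 : ZMod 3).val = e₂
    have h2 : (1 : ZMod 3).val = 1 := rfl
    rw [h2]
    simp
  have hφT : ∀ i j : ZMod 3, φ (r i, r j) = e₁ ^ i.val * e₂ ^ j.val := fun i j => rfl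
  have hinv1 : e₁⁻¹ ≠ e₁ := fun h => P.ne1 (eq_one_of_sq P.h1 (by nth_rw 1 [← h]; exact inv_mul_cancel _))
  have hinv2 : e₂⁻¹ ≠ e₂ := fun h => P.ne2 (eq_one_of_sq P.h2 (by nth_rw 1 [← h]; exact inv_mul_cancel _))
  have hinj : Function.Injective φ := by
    rw [injective_iff_map_eq_one]
    intro x hx
    have h1 : φ (x * (r 1, 1) * x⁻¹) = e₁ := by
      rw [map_mul, map_mul, map_inv, hx, hφ1]
      simp
    have h2 : φ (x * (1, r 1) * x⁻¹) = e₂ := by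
      rw [map_mul, map_mul, map_inv, hx, hφ2]
      simp
    have hdec1 : ∀ y : G36, y * (r 1, 1) * y⁻¹ = (r 1, 1) ∨ y * (r 1, 1) * y⁻¹ = ((r 1, 1) : G36)⁻¹ := by
      decide
    have hdec2 : ∀ y : G36, y * (1, r 1) * y⁻¹ = (1, r 1) ∨ y * (1, r 1) * y⁻¹ = ((1, r 1) : G36)⁻¹ := by
      decide
    have hdec3 : ∀ y : G36, y * (r 1, 1) * y⁻¹ = (r 1, 1) → y * (1, r 1) * y⁻¹ = (1, r 1) →
        ∃ i j : ZMod 3, y = (r i, r j) := by
      decide
    have h3 : x * (r 1, 1) * x⁻¹ = (r 1, 1) := by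
      rcases hdec1 x with h | h
      · exact h
      · exfalso
        rw [h, map_inv, hφ1] at h1
        exact hinv1 h1
    have h4 : x * (1, r 1) * x⁻¹ = (1, r 1) := by
      rcases hdec2 x with h | h
      · exact h
      · exfalso
        rw [h, map_inv, hφ2] at h2
        exact hinv2 h2
    obtain ⟨i, j, rfl⟩ := hdec3 x h3 h4
    rw [hφT] at hx
    obtain ⟨rfl, rfl⟩ := P.ind i j hx
    rfl
  have hTN : T ≤ Subgroup.normalizer (T : Set G) := Subgroup.le_normalizer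
  have hmapN : ∀ g₀, φ g₀ ∈ Subgroup.normalizer (T : Set G) := by
    have hfN : ∀ a, f a ∈ Subgroup.normalizer (T : Set G) := by
      rintro (i | i)
      · exact hTN (T.pow_mem h1T _)
      · exact Subgroup.mul_mem _ h1N (hTN (T.pow_mem h1T _))
    have hgN : ∀ a, g a ∈ Subgroup.normalizer (T : Set G) := by
      rintro (i | i)
      · exact hTN (T.pow_mem h2T _)
      · exact Subgroup.mul_mem _ h2N (hTN (T.pow_mem h2T _))
    rintro ⟨a, b⟩
    exact Subgroup.mul_mem _ (hfN a) (hgN b)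
  refine ⟨φ, hinj, ?_, hmapN, ?_⟩
  · intro x hx
    let F : G36 → Subgroup.normalizer (T : Set G) := fun g₀ => ⟨φ g₀, hmapN g₀⟩
    have hF : Function.Injective F := fun a b h => hinj (congrArg Subtype.val h)
    have hbij : Function.Bijective F := by
      apply hF.bijective_of_nat_card_le
      rw [hcardN, Nat.card_prod, DihedralGroup.nat_card]
    obtain ⟨g₀, hg₀⟩ := hbij.2 ⟨x, hx⟩
    exact ⟨g₀, congrArg Subtype.val hg₀⟩
  · intro x
    constructor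
    · intro hx
      obtain ⟨i, j, rfl⟩ := P.span h1T h2T hcard x hx
      exact ⟨i, j, (hφT i j).symm⟩
    · rintro ⟨i, j, rfl⟩
      rw [hφT]
      exact T.mul_mem (T.pow_mem h1T _) (T.pow_mem h2T _)

/-- An involution not centralizing `T` inverts a nontrivial element. -/
lemma exists_inverted {T : Subgroup G} {t : G} (htN : t ∈ Subgroup.normalizer (T : Set G)) (htt : t * t = 1)
    {x : G} (hx : x ∈ T) (hne : t * x * t⁻¹ ≠ x) : ∃ e ∈ T, e ≠ 1 ∧ t * e * t⁻¹ = e⁻¹ := by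
  have hy := (Subgroup.mem_normalizer_iff.1 htN x).1 hx
  have hti : t⁻¹ = t := inv_eq_of_mul_eq_one_left htt
  refine ⟨x * (t * x * t⁻¹)⁻¹, T.mul_mem hx (T.inv_mem hy), ?_, ?_⟩
  · intro h
    exact hne (mul_inv_eq_one.1 h).symm
  · have hyy : t * (t * x * t⁻¹) * t⁻¹ = x := by
      rw [hti]
      calc t * (t * x * t) * t = (t * t) * x * (t * t) := by group
        _ = x := by rw [htt]; group
    have hy2 : t * (t * x * t⁻¹)⁻¹ * t⁻¹ = x⁻¹ := by
      calc t * (t * x * t⁻¹)⁻¹ * t⁻¹ = (t * (t * x * t⁻¹) * t⁻¹)⁻¹ := conj_inv' _ _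
        _ = x⁻¹ := by rw [hyy]
    rw [conj_mul', hy2, mul_inv_rev, inv_inv]

/-- An involution not inverting `T` fixes a nontrivial element. -/
lemma exists_fixed {T : Subgroup G} {t : G} (htN : t ∈ Subgroup.normalizer (T : Set G)) (htt : t * t = 1)
    (hcomm : ∀ x ∈ T, ∀ y ∈ T, x * y = y * x)
    {x : G} (hx : x ∈ T) (hne : t * x * t⁻¹ ≠ x⁻¹) : ∃ e ∈ T, e ≠ 1 ∧ t * e * t⁻¹ = e := by
  have hy := (Subgroup.mem_normalizer_iff.1 htN x).1 hx
  have hti : t⁻¹ = t := inv_eq_of_mul_eq_one_left htt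
  refine ⟨x * (t * x * t⁻¹), T.mul_mem hx hy, ?_, ?_⟩
  · intro h
    exact hne (eq_inv_of_mul_eq_one_right h)
  · rw [conj_mul']
    have h2 : t * (t * x * t⁻¹) * t⁻¹ = x := by
      rw [hti]
      calc t * (t * x * t) * t = (t * t) * x * (t * t) := by group
        _ = x := by rw [htt]; group
    rw [h2]
    exact hcomm _ hy _ hx

/-- **Construction of the model.** -/
theorem exists_model [Finite G] (T : Subgroup G) (h3 : ∀ x ∈ T, x ^ 3 = 1) (hcomm : ∀ x ∈ T, ∀ y ∈ T, x * y = y * x)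
    (hcard : Nat.card T = 9) (hC : Subgroup.centralizer (T : Set G) = T)
    [hn : (T.subgroupOf (Subgroup.normalizer (T : Set G))).Normal]
    (hK : IsKleinFour (↥(Subgroup.normalizer (T : Set G)) ⧸ T.subgroupOf (Subgroup.normalizer (T : Set G)))) :
    ∃ φ : G36 →* G, Mod T φ := by
  classical
  set NN : Subgroup G := Subgroup.normalizer (T : Set G) with hNN
  have hTN : T ≤ NN := Subgroup.le_normalizer
  -- order of the normalizer
  have hcardA : Nat.card (T.subgroupOf NN) = 9 := by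
    rw [← hcard]
    exact Nat.card_congr (Subgroup.subgroupOfEquivOfLe hTN).toEquiv
  have hcardN : Nat.card NN = 36 := by
    have h1 := Subgroup.card_eq_card_quotient_mul_card_subgroup (T.subgroupOf NN)
    rw [hcardA, hK.card_four] at h1
    omega
  -- a subgroup of order 4 in the normalizer
  obtain ⟨Q, hQ⟩ := Sylow.exists_subgroup_card_pow_prime (G := NN) 2 (n := 2) (by rw [hcardN]; norm_num)
  have hQc : Nat.card Q = 4 := by rw [hQ]; norm_num
  have hQT : ∀ q : NN, q ∈ Q → (q : G) ∈ T → q = 1 := by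
    intro q hq hqT
    have h1 : orderOf (⟨q, hq⟩ : Q) ∣ 4 := by
      rw [← hQc]
      exact orderOf_dvd_natCard _
    have h2 : orderOf (⟨(q : G), hqT⟩ : T) ∣ 9 := by
      rw [← hcard]
      exact orderOf_dvd_natCard _
    have h3' : orderOf q = orderOf (⟨q, hq⟩ : Q) := (Subgroup.orderOf_mk q hq).symm
    have h4 : orderOf (q : G) = orderOf (⟨(q : G), hqT⟩ : T) := (Subgroup.orderOf_mk _ hqT).symm
    have h5 : orderOf (q : G) = orderOf q := Subgroup.orderOf_coe q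
    have h6 : orderOf q ∣ 4 := h3' ▸ h1
    have h7 : orderOf q ∣ 9 := by
      rw [← h5, h4]; exact h2
    have h8 : orderOf q ∣ Nat.gcd 4 9 := Nat.dvd_gcd h6 h7
    have h9 : orderOf q = 1 := by
      simpa using h8
    exact orderOf_eq_one_iff.1 h9
  have hsq : ∀ q : NN, q ∈ Q → q * q = 1 := by
    intro q hq
    apply hQT _ (Q.mul_mem hq hq)
    have h1 : (QuotientGroup.mk q : NN ⧸ T.subgroupOf NN) ^ 2 = 1 := by
      have := Monoid.pow_exponent_eq_one (QuotientGroup.mk q : NN ⧸ T.subgroupOf NN)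
      rwa [hK.exponent_two] at this
    rw [← QuotientGroup.mk_pow, QuotientGroup.eq_one_iff, pow_two] at h1
    exact Subgroup.mem_subgroupOf.1 h1
  -- two distinct nontrivial elements of `Q`
  obtain ⟨u, hu, v, hv, hu1, hv1, huv⟩ : ∃ u : NN, u ∈ Q ∧ ∃ v : NN, v ∈ Q ∧ u ≠ 1 ∧ v ≠ 1 ∧ u ≠ v := by
    have h2 : 2 < Nat.card Q := by omega
    haveI : Fintype Q := Fintype.ofFinite Q
    rw [Nat.card_eq_fintype_card] at h2
    obtain ⟨a, b, c, hab, hac, hbc⟩ := Fintype.two_lt_card_iff.1 h2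
    by_cases ha : (a : NN) = 1
    · have hb : (b : NN) ≠ 1 := fun h => hab (Subtype.ext (by rw [ha, h]))
      have hc : (c : NN) ≠ 1 := fun h => hac (Subtype.ext (by rw [ha, h]))
      exact ⟨b, b.2, c, c.2, hb, hc, fun h => hbc (Subtype.ext h)⟩
    · by_cases hb : (b : NN) = 1
      · have hc : (c : NN) ≠ 1 := fun h => hbc (Subtype.ext (by rw [hb, h]))
        exact ⟨a, a.2, c, c.2, ha, hc, fun h => hac (Subtype.ext h)⟩
      · exact ⟨a, a.2, b, b.2, ha, hb, fun h => hab (Subtype.ext h)⟩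
  -- facts on elements of `Q`
  have hQcomm : ∀ a ∈ Q, ∀ b ∈ Q, a * b = b * a := by
    intro a ha b hb
    have h1 := hsq _ (Q.mul_mem ha hb)
    have ha' := hsq _ ha
    have hb' := hsq _ hb
    have hai : a⁻¹ = a := inv_eq_of_mul_eq_one_left ha'
    have hbi : b⁻¹ = b := inv_eq_of_mul_eq_one_left hb'
    calc a * b = (b * a)⁻¹ := by
          rw [mul_inv_rev, hai, hbi]
      _ = b * a := inv_eq_of_mul_eq_one_left (hsq _ (Q.mul_mem hb ha))
  -- `q ≠ 1` in `Q` does not centralize `T`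
  have hnotcen : ∀ q : NN, q ∈ Q → q ≠ 1 → ∃ x ∈ T, (q : G) * x * (q : G)⁻¹ ≠ x := by
    intro q hq hq1
    by_contra hcon
    push Not at hcon
    apply hq1
    apply hQT q hq
    rw [← hC]
    show (q : G) ∈ Subgroup.centralizer (T : Set G)
    rw [Subgroup.mem_centralizer_iff]
    intro x hx
    have := hcon x hx
    calc x * (q : G) = (q : G) * x * (q : G)⁻¹ * (q : G) := by rw [this]
      _ = (q : G) * x := by group
  have hsqG : ∀ q : NN, q ∈ Q → (q : G) * (q : G) = 1 := by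
    intro q hq
    have := congrArg Subtype.val (hsq q hq)
    simpa using this
  -- some element of `{u, v}` does not invert `T`
  obtain ⟨t₁, ht₁, ht₁1, v', hv', hv'1, ht₁v', x₂, hx₂, hx₂ne⟩ : ∃ t₁ : NN, t₁ ∈ Q ∧ t₁ ≠ 1 ∧ ∃ v' : NN, v' ∈ Q ∧ v' ≠ 1 ∧ t₁ ≠ v' ∧
      ∃ x ∈ T, (t₁ : G) * x * (t₁ : G)⁻¹ ≠ x⁻¹ := by
    by_cases hui : ∃ x ∈ T, (u : G) * x * (u : G)⁻¹ ≠ x⁻¹
    · exact ⟨u, hu, hu1, v, hv, hv1, huv, hui⟩
    · by_cases hvi : ∃ x ∈ T, (v : G) * x * (v : G)⁻¹ ≠ x⁻¹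
      · exact ⟨v, hv, hv1, u, hu, hu1, huv.symm, hvi⟩
      · exfalso
        push Not at hui hvi
        apply huv
        have h1 : u * v = 1 := by
          apply hQT _ (Q.mul_mem hu hv)
          rw [← hC]
          show ((u * v : NN) : G) ∈ Subgroup.centralizer (T : Set G)
          rw [Subgroup.mem_centralizer_iff]
          intro x hx
          have h2 := hui x⁻¹ (T.inv_mem hx)
          have h3' := hvi x hx
          rw [inv_inv] at h2
          have h4 : (u : G) * (v : G) * x * ((u : G) * (v : G))⁻¹ = x := by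
            calc (u : G) * (v : G) * x * ((u : G) * (v : G))⁻¹
                = (u : G) * ((v : G) * x * (v : G)⁻¹) * (u : G)⁻¹ := by group
              _ = x := by rw [h3', h2]
          simp only [Subgroup.coe_mul]
          calc x * ((u : G) * (v : G)) = ((u : G) * (v : G) * x * ((u : G) * (v : G))⁻¹) * ((u : G) * (v : G)) := by
                rw [h4]
            _ = (u : G) * (v : G) * x := by group
        calc u = u * (v * v) := by rw [hsq v hv, mul_one]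
          _ = (u * v) * v := by group
          _ = v := by rw [h1, one_mul]
  -- the eigenvectors of `t₁`
  obtain ⟨x₁, hx₁, hx₁ne⟩ := hnotcen t₁ ht₁ ht₁1
  have htt : (t₁ : G) * t₁ = 1 := hsqG t₁ ht₁
  obtain ⟨e₁, he₁T, he₁1, ha₁₁⟩ := exists_inverted t₁.2 htt hx₁ hx₁ne
  obtain ⟨e₂, he₂T, he₂1, ha₁₂⟩ := exists_fixed t₁.2 htt hcomm hx₂ hx₂ne
  have P : Pair e₁ e₂ (t₁ : G) := ⟨h3 _ he₁T, h3 _ he₂T, he₁1, he₂1, hcomm _ he₁T _ he₂T, ha₁₁, ha₁₂⟩
  have hspan := P.span he₁T he₂T hcard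
  -- the action of `v'`
  have hvc : (t₁ : G) * v' = v' * t₁ := congrArg Subtype.val (hQcomm t₁ ht₁ v' hv')
  have hconjT : ∀ n ∈ NN, ∀ x ∈ T, n * x * n⁻¹ ∈ T := fun n hn x hx =>
    (Subgroup.mem_normalizer_iff.1 hn x).1 hx
  have hswap : ∀ z : G, (t₁ : G) * ((v' : G) * z * (v' : G)⁻¹) * (t₁ : G)⁻¹ =
      (v' : G) * ((t₁ : G) * z * (t₁ : G)⁻¹) * (v' : G)⁻¹ := by
    intro z
    calc (t₁ : G) * ((v' : G) * z * (v' : G)⁻¹) * (t₁ : G)⁻¹
        = ((t₁ : G) * v') * z * ((t₁ : G) * v')⁻¹ := by group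
      _ = ((v' : G) * t₁) * z * ((v' : G) * t₁)⁻¹ := by rw [hvc]
      _ = _ := by group
  have hv1' : (v' : G) * e₁ * (v' : G)⁻¹ = e₁ ∨ (v' : G) * e₁ * (v' : G)⁻¹ = e₁⁻¹ := by
    apply P.inv_mem hspan (hconjT _ v'.2 _ he₁T)
    · rw [hswap, ha₁₁]
      group
    · intro h
      apply he₁1
      have : e₁ = (v' : G)⁻¹ * ((v' : G) * e₁ * (v' : G)⁻¹) * v' := by group
      rw [this, h]
      group
  have hv2' : (v' : G) * e₂ * (v' : G)⁻¹ = e₂ ∨ (v' : G) * e₂ * (v' : G)⁻¹ = e₂⁻¹ := by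
    apply P.fix_mem hspan (hconjT _ v'.2 _ he₂T)
    · rw [hswap, ha₁₂]
    · intro h
      apply he₂1
      have : e₂ = (v' : G)⁻¹ * ((v' : G) * e₂ * (v' : G)⁻¹) * v' := by group
      rw [this, h]
      group
  -- centralizing `e₁, e₂` means being trivial
  have hcentral : ∀ q : NN, q ∈ Q → (q : G) * e₁ * (q : G)⁻¹ = e₁ → (q : G) * e₂ * (q : G)⁻¹ = e₂ → q = 1 := by
    intro q hq h1 h2
    apply hQT q hq
    rw [← hC]
    show (q : G) ∈ Subgroup.centralizer (T : Set G)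
    rw [Subgroup.mem_centralizer_iff]
    intro x hx
    obtain ⟨i, j, rfl⟩ := hspan x hx
    have h4 : (q : G) * (e₁ ^ i.val * e₂ ^ j.val) * (q : G)⁻¹ = e₁ ^ i.val * e₂ ^ j.val := by
      rw [conj_mul', dih_conj_fix h1, dih_conj_fix h2]
    calc e₁ ^ i.val * e₂ ^ j.val * (q : G)
        = (q : G) * (e₁ ^ i.val * e₂ ^ j.val) * (q : G)⁻¹ * (q : G) := by rw [h4]
      _ = (q : G) * (e₁ ^ i.val * e₂ ^ j.val) := by group
  have hQcard : ∀ a ∈ Q, ∀ b ∈ Q, a ≠ b → a * b ≠ 1 := by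
    intro a ha b hb hab h
    apply hab
    calc a = a * (b * b) := by rw [hsq b hb, mul_one]
      _ = (a * b) * b := by group
      _ = b := by rw [h, one_mul]
  have hti₁ : (t₁ : G) * e₁⁻¹ * (t₁ : G)⁻¹ = e₁ := by
    calc (t₁ : G) * e₁⁻¹ * (t₁ : G)⁻¹ = ((t₁ : G) * e₁ * (t₁ : G)⁻¹)⁻¹ := conj_inv' _ _
      _ = e₁ := by rw [ha₁₁, inv_inv]
  have hti₂ : (t₁ : G) * e₂⁻¹ * (t₁ : G)⁻¹ = e₂⁻¹ := by
    calc (t₁ : G) * e₂⁻¹ * (t₁ : G)⁻¹ = ((t₁ : G) * e₂ * (t₁ : G)⁻¹)⁻¹ := conj_inv' _ _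
      _ = e₂⁻¹ := by rw [ha₁₂]
  -- the choice of `t₂`
  have hinv1 : e₁⁻¹ ≠ e₁ := fun h => he₁1 (eq_one_of_sq P.h1 (by nth_rw 1 [← h]; exact inv_mul_cancel _))
  have hinv2 : e₂⁻¹ ≠ e₂ := fun h => he₂1 (eq_one_of_sq P.h2 (by nth_rw 1 [← h]; exact inv_mul_cancel _))
  obtain ⟨t₂, ht₂, ha₂₁, ha₂₂⟩ : ∃ t₂ : NN, t₂ ∈ Q ∧ (t₂ : G) * e₁ * (t₂ : G)⁻¹ = e₁ ∧ (t₂ : G) * e₂ * (t₂ : G)⁻¹ = e₂⁻¹ := by
    rcases hv2' with h2 | h2
    · -- `v'` fixes `e₂`: impossible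
      exfalso
      rcases hv1' with h1 | h1
      · exact hv'1 (hcentral v' hv' h1 h2)
      · apply hQcard t₁ ht₁ v' hv' ht₁v'
        apply hcentral _ (Q.mul_mem ht₁ hv')
        · have : ((t₁ * v' : NN) : G) * e₁ * ((t₁ * v' : NN) : G)⁻¹ =
              (t₁ : G) * ((v' : G) * e₁ * (v' : G)⁻¹) * (t₁ : G)⁻¹ := by
            simp only [Subgroup.coe_mul]
            group
          rw [this, h1, hti₁]
        · have : ((t₁ * v' : NN) : G) * e₂ * ((t₁ * v' : NN) : G)⁻¹ =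
              (t₁ : G) * ((v' : G) * e₂ * (v' : G)⁻¹) * (t₁ : G)⁻¹ := by
            simp only [Subgroup.coe_mul]
            group
          rw [this, h2, ha₁₂]
    · rcases hv1' with h1 | h1
      · exact ⟨v', hv', h1, h2⟩
      · refine ⟨t₁ * v', Q.mul_mem ht₁ hv', ?_, ?_⟩
        · have : ((t₁ * v' : NN) : G) * e₁ * ((t₁ * v' : NN) : G)⁻¹ =
              (t₁ : G) * ((v' : G) * e₁ * (v' : G)⁻¹) * (t₁ : G)⁻¹ := by
            simp only [Subgroup.coe_mul]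
            group
          rw [this, h1, hti₁]
        · have : ((t₁ * v' : NN) : G) * e₂ * ((t₁ * v' : NN) : G)⁻¹ =
              (t₁ : G) * ((v' : G) * e₂ * (v' : G)⁻¹) * (t₁ : G)⁻¹ := by
            simp only [Subgroup.coe_mul]
            group
          rw [this, h2, hti₂]
  exact mod_of_data P he₁T he₂T hcard hcardN htt (hsqG t₂ ht₂)
    (congrArg Subtype.val (hQcomm t₁ ht₁ t₂ ht₂)) ha₂₁ ha₂₂ t₁.2 t₂.2

end Model

end Cfsg.Agent.Lib.Blocks.TI9
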