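import Mathlib
import Cfsg.Agent.Lib.Blocks.TI9Grid
import Cfsg.Agent.Lib.Blocks.TI9Block
import Cfsg.Agent.Lib.Blocks.TI9Char
import Cfsg.Agent.Lib.Blocks.TI9Local
import Cfsg.Agent.Lib.Transfer.AbTwoMain

/-!
# The `3²:2²` situation: local facts in `G` transported from the model
-/

set_option autoImplicit false
set_option maxRecDepth 100000

namespace Cfsg.Agent.Lib.Blocks.TI9

open DihedralGroup Cfsg
open scoped ComplexConjugate

universe u

/-- The elements of the model. -/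
abbrev E1 : G36 := (r 1, 1)
abbrev E2 : G36 := (1, r 1)
abbrev W : G36 := (r 1, r 1)
abbrev P1 : G36 := (r 1, sr 0)
abbrev P2 : G36 := (sr 0, r 1)
abbrev T1 : G36 := (sr 0, 1)
abbrev T2 : G36 := (1, sr 0)

/-- The elements whose square is a nontrivial rotation. -/
abbrev Good (x : G36) : Prop := (∃ i j : ZMod 3, x ^ 2 = (r i, r j)) ∧ x ^ 2 ≠ 1

variable {G : Type u} [Group G] [Finite G]

/-- The hypotheses. -/
structure Sit (T : Subgroup G) (φ : G36 →* G) : Prop where
  mod : Mod T φ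
  h3 : ∀ x ∈ T, x ^ 3 = 1
  hcomm : ∀ x ∈ T, ∀ y ∈ T, x * y = y * x
  hC : Subgroup.centralizer (T : Set G) = T
  hloc : ∀ t ∈ T, t ≠ 1 → Subgroup.centralizer ({t} : Set G) ≤ Subgroup.normalizer (T : Set G)
  hSyl : ¬ 3 ∣ T.index

variable {T : Subgroup G} {φ : G36 →* G}

theorem Sit.sq_mem (S : Sit T φ) {x₀ : G36} (h : Good x₀) : (φ x₀) ^ 2 ∈ T ∧ (φ x₀) ^ 2 ≠ 1 := by
  obtain ⟨⟨i, j, hij⟩, h1⟩ := h
  constructor
  · rw [← map_pow, hij]
    exact (S.mod.memT _).2 ⟨i, j, rfl⟩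
  · intro h2
    rw [← map_pow] at h2
    apply h1
    exact S.mod.inj (by rw [h2, map_one])

/-- TI: an element conjugating an element of `T#` to an element of `T#` normalizes `T`. -/
theorem Sit.ti (S : Sit T φ) {g x y : G} (hx : x ∈ T) (hx1 : x ≠ 1) (hy : y ∈ T) (hy1 : y ≠ 1)
    (h : g * x * g⁻¹ = y) : g ∈ Subgroup.normalizer (T : Set G) := by
  classical
  have hdec : ∀ a : G36, a ^ 3 = 1 → ∃ i j : ZMod 3, a = (r i, r j) := by
    decide
  have hmem : ∀ z ∈ T, g * z * g⁻¹ ∈ T := by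
    intro z hz
    have h1 : g * z * g⁻¹ ∈ Subgroup.centralizer ({y} : Set G) := by
      rw [Subgroup.mem_centralizer_singleton_iff, ← h]
      have h2 := S.hcomm z hz x hx
      calc g * z * g⁻¹ * (g * x * g⁻¹) = g * (z * x) * g⁻¹ := by group
        _ = g * (x * z) * g⁻¹ := by rw [h2]
        _ = g * x * g⁻¹ * (g * z * g⁻¹) := by group
    obtain ⟨a, ha⟩ := S.mod.memN _ (S.hloc y hy hy1 h1)
    have h3 : a ^ 3 = 1 := by
      apply S.mod.inj
      rw [map_pow, ha, map_one, conj_pow, S.h3 z hz]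
      group
    obtain ⟨i, j, rfl⟩ := hdec a h3
    exact (S.mod.memT _).2 ⟨i, j, ha.symm⟩
  rw [Subgroup.mem_normalizer_iff]
  intro z
  refine ⟨hmem z, fun hz => ?_⟩
  let F : T → T := fun t => ⟨g * t * g⁻¹, hmem t t.2⟩
  have hF : Function.Injective F := by
    intro a b hab
    have h1 : g * (a : G) * g⁻¹ = g * (b : G) * g⁻¹ := congrArg Subtype.val hab
    exact Subtype.ext (by simpa using h1)
  obtain ⟨t, ht⟩ := (Finite.injective_iff_surjective.1 hF) ⟨_, hz⟩
  have h1 : g * (t : G) * g⁻¹ = g * z * g⁻¹ := congrArg Subtype.val ht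
  have h2 : (t : G) = z := by simpa using h1
  rw [← h2]
  exact t.2

theorem Sit.cen_le (S : Sit T φ) {x₀ : G36} (h : Good x₀) :
    Subgroup.centralizer ({φ x₀} : Set G) ≤ Subgroup.normalizer (T : Set G) := by
  intro g hg
  obtain ⟨h1, h2⟩ := S.sq_mem h
  refine S.hloc _ h1 h2 ?_
  rw [Subgroup.mem_centralizer_singleton_iff] at hg ⊢
  exact ((show Commute g (φ x₀) from hg).pow_right 2).eq

/-- Conjugacy of the images is conjugacy in the model. -/
theorem Sit.conj_lift (S : Sit T φ) {x₀ y₀ : G36} (hx : Good x₀) (hy : Good y₀) (h : IsConj (φ x₀) (φ y₀)) :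
    ∃ c : G36, c * x₀ * c⁻¹ = y₀ := by
  obtain ⟨g, hg⟩ := isConj_iff.1 h
  obtain ⟨h1, h2⟩ := S.sq_mem hx
  obtain ⟨h3, h4⟩ := S.sq_mem hy
  have h5 : g * (φ x₀) ^ 2 * g⁻¹ = (φ y₀) ^ 2 := by
    rw [← hg, conj_pow]
  obtain ⟨c, rfl⟩ := S.mod.memN _ (S.ti h1 h2 h3 h4 h5)
  refine ⟨c, S.mod.inj ?_⟩
  rw [map_mul, map_mul, map_inv]
  exact hg

/-- The centralizer in `G` is the image of the centralizer in the model. -/
theorem Sit.card_cen (S : Sit T φ) {x₀ : G36} (h : Good x₀) :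
    Nat.card (Subgroup.centralizer ({φ x₀} : Set G)) =
      (Finset.univ.filter (fun c : G36 => c * x₀ = x₀ * c)).card := by
  classical
  have h1 : Subgroup.centralizer ({φ x₀} : Set G) ≃ {c : G36 // c * x₀ = x₀ * c} := by
    refine Equiv.symm (Equiv.ofBijective (fun c => ⟨φ c.1, ?_⟩) ⟨?_, ?_⟩)
    · rw [Subgroup.mem_centralizer_singleton_iff, ← map_mul, c.2, map_mul]
    · intro a b hab
      exact Subtype.ext (S.mod.inj (congrArg Subtype.val hab))
    · intro g
      obtain ⟨c, hc⟩ := S.mod.memN _ (S.cen_le h g.2)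
      refine ⟨⟨c, S.mod.inj ?_⟩, Subtype.ext hc⟩
      have h2 := Subgroup.mem_centralizer_singleton_iff.1 g.2
      rw [map_mul, map_mul, hc]
      exact h2
  rw [Nat.card_congr h1, Nat.card_eq_fintype_card, Fintype.card_subtype]

section Values

open Cfsg.Agent.Lib.Blocks.Principal Cfsg.Agent.Lib.Blocks.Sections Cfsg.Agent.Lib.Blocks.Local
  Cfsg.Agent.Lib.Char.CompleteCor

/-- The class function property on the model. -/
theorem apply_model (φ : G36 →* G) (χ : IrrCharacter G) {x₀ y₀ : G36} (h : ∃ c : G36, c * x₀ * c⁻¹ = y₀) :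
    (χ : G → ℂ) (φ y₀) = (χ : G → ℂ) (φ x₀) := by
  obtain ⟨c, rfl⟩ := h
  rw [map_mul, map_mul, map_inv]
  exact isIrr_classFunction χ.2 _ _

theorem exists_int_model (φ : G36 →* G) (χ : IrrCharacter G) {x₀ : G36} (h6 : x₀ ^ 6 = 1)
    (hr : ∃ c : G36, c * x₀ * c⁻¹ = x₀⁻¹) : ∃ z : ℤ, (χ : G → ℂ) (φ x₀) = z := by
  refine exists_int_of_sixth (Cfsg.Agent.Lib.Char.Values.IsIrrCharacter.isCharacter χ.2) ?_ ?_
  · rw [← map_pow, h6, map_one]
  · obtain ⟨c, hc⟩ := hr
    refine isConj_iff.2 ⟨φ c, ?_⟩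
    rw [← map_inv, ← map_mul, ← map_mul, hc, map_inv]

/-- Divisibility by `3` from an average. -/
theorem avg3 {χ : G → ℂ} (hχ : IsCharacter G χ) {x y : G} (hc : Commute x y) (hy : orderOf y = 3) {a c : ℤ}
    (h1 : χ x = a) (h2 : χ (x * y) = c) (h3 : χ (x * y ^ 2) = c) : (3 : ℤ) ∣ a + 2 * c := by
  have h := isIntegral_avg hχ x y hc
  rw [hy, Fin.sum_univ_three] at h
  have h4 := int_dvd_of_isIntegral (a + 2 * c) 3 (by norm_num) (by
    convert h using 2
    simp only [Fin.isValue, Fin.val_zero, pow_zero, mul_one, Fin.val_one, pow_one, Fin.val_two]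
    rw [h1, h2, h3]
    push_cast
    ring)
  exact_mod_cast h4

/-- Divisibility by `2` from an average. -/
theorem avg2 {χ : G → ℂ} (hχ : IsCharacter G χ) {x y : G} (hc : Commute x y) (hy : orderOf y = 2) {a c : ℤ}
    (h1 : χ x = a) (h2 : χ (x * y) = c) : (2 : ℤ) ∣ a + c := by
  have h := isIntegral_avg hχ x y hc
  rw [hy, Fin.sum_univ_two] at h
  have h4 := int_dvd_of_isIntegral (a + c) 2 (by norm_num) (by
    convert h using 2
    simp only [Fin.isValue, Fin.val_zero, pow_zero, mul_one, Fin.val_one, pow_one]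
    rw [h1, h2]
    push_cast
    ring)
  exact_mod_cast h4

variable [Fintype (IrrCharacter G)]

/-- Orthogonality for integer values. -/
theorem orth_int_conj {U V : IrrCharacter G → ℤ} {u v : G} (hU : ∀ χ : IrrCharacter G, (χ : G → ℂ) u = U χ)
    (hV : ∀ χ : IrrCharacter G, (χ : G → ℂ) v = V χ) (hc : IsConj u v) :
    ∑ χ, U χ * V χ = (Nat.card (Subgroup.centralizer ({u} : Set G)) : ℤ) := by
  classical
  haveI := Fintype.ofFinite G
  have h := column_orth_conj hc
  simp only [hU, hV, map_intCast] at h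
  exact_mod_cast h

theorem orth_int_not_conj {U V : IrrCharacter G → ℤ} {u v : G} (hU : ∀ χ : IrrCharacter G, (χ : G → ℂ) u = U χ)
    (hV : ∀ χ : IrrCharacter G, (χ : G → ℂ) v = V χ) (hc : ¬ IsConj u v) :
    ∑ χ, U χ * V χ = 0 := by
  classical
  haveI := Fintype.ofFinite G
  have h := column_orth_not_conj hc
  simp only [hU, hV, map_intCast] at h
  exact_mod_cast h

theorem Sit.not_conj (S : Sit T φ) {x₀ y₀ : G36} (hx : Good x₀) (hy : Good y₀) (h : ¬ ∃ c : G36, c * x₀ * c⁻¹ = y₀) :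
    ¬ IsConj (φ x₀) (φ y₀) := fun hc => h (S.conj_lift hx hy hc)

/-- A single `3`-block in the centralizer of a nontrivial element of `T`. -/
theorem Sit.single_block (S : Sit T φ) {M : Ideal AlgInt} (hM : IsPModular 3 M) [Fact (Nat.Prime 3)] {x : G} (hx : x ∈ T) (hx1 : x ≠ 1)
    [Fintype (Sections.Cen x)] (ψ : IrrCharacter (Sections.Cen x)) : ψ ∈ principalBlock M (Sections.Cen x) := by
  have hTC : T ≤ Sections.Cen x := by
    intro t ht
    rw [Subgroup.mem_centralizer_singleton_iff]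
    exact S.hcomm t ht x hx
  haveI hn : (T.subgroupOf (Sections.Cen x)).Normal :=
    (Subgroup.normal_subgroupOf_iff_le_normalizer hTC).2 (S.hloc x hx hx1)
  refine Cfsg.Agent.Lib.Blocks.TI9.mem_principalBlock_of_selfCen hM (T.subgroupOf (Sections.Cen x)) ?_ ?_ ψ
  · intro q
    refine ⟨1, Subtype.ext (Subtype.ext ?_)⟩
    simpa using S.h3 _ (Subgroup.mem_subgroupOf.1 q.2)
  · intro h hh
    rw [Subgroup.mem_subgroupOf, ← S.hC, Subgroup.mem_centralizer_iff]
    intro t ht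
    have h1 := Subgroup.mem_centralizer_iff.1 hh ⟨t, hTC ht⟩ (Subgroup.mem_subgroupOf.2 ht)
    exact congrArg Subtype.val h1

end Values

section Gram

open Cfsg.Agent.Lib.Blocks.Principal Cfsg.Agent.Lib.Blocks.Sections Cfsg.Agent.Lib.Blocks.Local
  Cfsg.Agent.Lib.Char.CompleteCor

variable [Fintype (IrrCharacter G)]

/-- The integer values and their Gram data. -/
structure Vals (φ : G36 →* G) (A B C P Q : IrrCharacter G → ℤ) : Prop where
  hA : ∀ χ : IrrCharacter G, (χ : G → ℂ) (φ E1) = A χ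
  hB : ∀ χ : IrrCharacter G, (χ : G → ℂ) (φ E2) = B χ
  hC : ∀ χ : IrrCharacter G, (χ : G → ℂ) (φ W) = C χ
  hP : ∀ χ : IrrCharacter G, (χ : G → ℂ) (φ P1) = P χ
  hQ : ∀ χ : IrrCharacter G, (χ : G → ℂ) (φ P2) = Q χ
  gram : Gram A B C P Q (trivChar G)

theorem good_E1 : Good E1 := by decide
theorem good_E2 : Good E2 := by decide
theorem good_W : Good W := by decide
theorem good_P1 : Good P1 := by decide
theorem good_P2 : Good P2 := by decide

theorem Sit.exists_vals (S : Sit T φ) :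
    ∃ A B C P Q : IrrCharacter G → ℤ, Vals φ A B C P Q := by
  classical
  haveI := Fintype.ofFinite G
  haveI : Fact (Nat.Prime 3) := ⟨by norm_num⟩
  obtain ⟨M, hM⟩ := Cfsg.Agent.Lib.Transfer.AbTwo.exists_modular' 3 (by norm_num)
  have hA : ∀ χ : IrrCharacter G, ∃ z : ℤ, (χ : G → ℂ) (φ E1) = z := fun χ =>
    exists_int_model φ χ (by decide) (by decide)
  have hB : ∀ χ : IrrCharacter G, ∃ z : ℤ, (χ : G → ℂ) (φ E2) = z := fun χ =>
    exists_int_model φ χ (by decide) (by decide)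
  have hC : ∀ χ : IrrCharacter G, ∃ z : ℤ, (χ : G → ℂ) (φ W) = z := fun χ =>
    exists_int_model φ χ (by decide) (by decide)
  have hP : ∀ χ : IrrCharacter G, ∃ z : ℤ, (χ : G → ℂ) (φ P1) = z := fun χ =>
    exists_int_model φ χ (by decide) (by decide)
  have hQ : ∀ χ : IrrCharacter G, ∃ z : ℤ, (χ : G → ℂ) (φ P2) = z := fun χ =>
    exists_int_model φ χ (by decide) (by decide)
  choose A hA using hA
  choose B hB using hB
  choose C hC using hC
  choose P hP using hP
  choose Q hQ using hQ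
  refine ⟨A, B, C, P, Q, hA, hB, hC, hP, hQ, ?_⟩
  have cc : ∀ {U : IrrCharacter G → ℤ} {x₀ : G36} (_ : ∀ χ : IrrCharacter G, (χ : G → ℂ) (φ x₀) = U χ) (_ : Good x₀),
      ∑ χ, U χ * U χ = ((Finset.univ.filter (fun c : G36 => c * x₀ = x₀ * c)).card : ℤ) := by
    intro U x₀ hU hg
    rw [orth_int_conj hU hU (IsConj.refl _), S.card_cen hg]
  have nc : ∀ {U V : IrrCharacter G → ℤ} {x₀ y₀ : G36} (_ : ∀ χ : IrrCharacter G, (χ : G → ℂ) (φ x₀) = U χ)
      (_ : ∀ χ : IrrCharacter G, (χ : G → ℂ) (φ y₀) = V χ) (_ : Good x₀) (_ : Good y₀)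
      (_ : ¬ ∃ c : G36, c * x₀ * c⁻¹ = y₀), ∑ χ, U χ * V χ = 0 := by
    intro U V x₀ y₀ hU hV hx hy h
    exact orth_int_not_conj hU hV (S.not_conj hx hy h)
  -- orders
  have ordY : ∀ y₀ : G36, orderOf (φ y₀) = orderOf y₀ := fun y₀ => orderOf_injective φ S.mod.inj y₀
  have hchar : ∀ χ : IrrCharacter G, IsCharacter G (χ : G → ℂ) := fun χ =>
    Cfsg.Agent.Lib.Char.Values.IsIrrCharacter.isCharacter χ.2
  have ordE2 : orderOf (φ E2) = 3 := by
    rw [ordY]
    exact orderOf_eq_prime (by decide) (by decide)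
  have ordE1 : orderOf (φ E1) = 3 := by
    rw [ordY]
    exact orderOf_eq_prime (by decide) (by decide)
  have ordT1 : orderOf (φ T1) = 2 := by
    rw [ordY]
    exact orderOf_eq_prime (by decide) (by decide)
  have ordT2 : orderOf (φ T2) = 2 := by
    rw [ordY]
    exact orderOf_eq_prime (by decide) (by decide)
  -- block data
  have hvan : ∀ χ : IrrCharacter G, C χ = 0 → A χ = 0 ∧ B χ = 0 ∧ P χ = 0 ∧ Q χ = 0 := by
    intro χ h0
    have hW0 : (χ : G → ℂ) (φ W) = 0 := by rw [hC, h0]; simp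
    have hWT : φ W ∈ T := (S.mod.memT _).2 ⟨1, 1, rfl⟩
    have hE1T : φ E1 ∈ T := (S.mod.memT _).2 ⟨1, 0, rfl⟩
    have hE2T : φ E2 ∈ T := (S.mod.memT _).2 ⟨0, 1, rfl⟩
    have hT1 : T ≤ Subgroup.centralizer ({φ W} : Set G) := by
      intro t ht
      rw [Subgroup.mem_centralizer_singleton_iff]
      exact S.hcomm t ht _ hWT
    have hidx : ¬ 3 ∣ (Subgroup.centralizer ({φ W} : Set G)).index := fun h =>
      S.hSyl (h.trans (Subgroup.index_dvd_of_le hT1))
    have hnot := notMem_principalBlock_of_apply_eq_zero hM hidx hW0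
    have hinj1 : φ E1 ≠ 1 := fun h => absurd (S.mod.inj (h.trans (map_one φ).symm)) (by decide)
    have hinj2 : φ E2 ≠ 1 := fun h => absurd (S.mod.inj (h.trans (map_one φ).symm)) (by decide)
    letI : Fintype (Cen (φ E1)) := Fintype.ofFinite _
    letI : Fintype (Cen (φ E2)) := Fintype.ofFinite _
    have hU1 := S.single_block hM hE1T hinj1
    have hU2 := S.single_block hM hE2T hinj2
    have h3 : ¬ (3 : ℕ) ∣ orderOf (1 : Cen (φ E1)) := by simp
    have h3' : ¬ (3 : ℕ) ∣ orderOf (1 : Cen (φ E2)) := by simp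
    have ho1 : orderOf (φ E1) = 3 ^ 1 := by rw [ordE1]; norm_num
    have ho2 : orderOf (φ E2) = 3 ^ 1 := by rw [ordE2]; norm_num
    have v1 := apply_eq_zero_of_notMem hM ho1 hU1 1 h3 hnot
    have v2 := apply_eq_zero_of_notMem hM ho2 hU2 1 h3' hnot
    have mT2 : φ T2 ∈ Cen (φ E1) := by
      rw [Subgroup.mem_centralizer_singleton_iff, ← map_mul, ← map_mul]
      congr 1
    have mT1 : φ T1 ∈ Cen (φ E2) := by
      rw [Subgroup.mem_centralizer_singleton_iff, ← map_mul, ← map_mul]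
      congr 1
    have h4 : ¬ (3 : ℕ) ∣ orderOf (⟨φ T2, mT2⟩ : Cen (φ E1)) := by
      rw [Subgroup.orderOf_mk, ordT2]
      norm_num
    have h4' : ¬ (3 : ℕ) ∣ orderOf (⟨φ T1, mT1⟩ : Cen (φ E2)) := by
      rw [Subgroup.orderOf_mk, ordT1]
      norm_num
    have v3 := apply_eq_zero_of_notMem hM ho1 hU1 ⟨φ T2, mT2⟩ h4 hnot
    have v4 := apply_eq_zero_of_notMem hM ho2 hU2 ⟨φ T1, mT1⟩ h4' hnot
    rw [← map_mul] at v3 v4
    simp only [Subgroup.coe_one, mul_one] at v1 v2
    have e3 : E1 * T2 = P1 := by decide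
    have e4 : E2 * T1 = P2 := by decide
    rw [e3, hP] at v3
    rw [e4, hQ] at v4
    rw [hA] at v1
    rw [hB] at v2
    exact ⟨by exact_mod_cast v1, by exact_mod_cast v2, by exact_mod_cast v3, by exact_mod_cast v4⟩
  have hone : ∀ {U : IrrCharacter G → ℤ} {x₀ : G36} (_ : ∀ χ : IrrCharacter G, (χ : G → ℂ) (φ x₀) = U χ),
      U (trivChar G) = 1 := by
    intro U x₀ hU
    have := hU (trivChar G)
    simp only [coe_trivChar] at this
    exact_mod_cast this.symm
  refine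
    { AA := by rw [cc hA good_E1]; rfl
      BB := by rw [cc hB good_E2]; rfl
      CC := by rw [cc hC good_W]; rfl
      PP := by rw [cc hP good_P1]; rfl
      QQ := by rw [cc hQ good_P2]; rfl
      AB := nc hA hB good_E1 good_E2 (by decide)
      AC := nc hA hC good_E1 good_W (by decide)
      AP := nc hA hP good_E1 good_P1 (by decide)
      AQ := nc hA hQ good_E1 good_P2 (by decide)
      BC := nc hB hC good_E2 good_W (by decide)
      BP := nc hB hP good_E2 good_P1 (by decide)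
      BQ := nc hB hQ good_E2 good_P2 (by decide)
      CP := nc hC hP good_W good_P1 (by decide)
      CQ := nc hC hQ good_W good_P2 (by decide)
      PQ := nc hP hQ good_P1 good_P2 (by decide)
      d1 := fun χ => ?_
      d2 := fun χ => ?_
      d3 := fun χ => ?_
      d4 := fun χ => ?_
      Ao := hone hA
      Bo := hone hB
      Co := hone hC
      Po := hone hP
      Qo := hone hQ
      van := hvan }
  · refine avg3 (hchar χ) (x := φ E1) (y := φ E2) ?_ ordE2 (hA χ) ?_ ?_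
    · show φ E1 * φ E2 = φ E2 * φ E1
      rw [← map_mul, ← map_mul]
      congr 1
    · rw [← map_mul]
      exact hC χ
    · rw [← map_pow, ← map_mul, ← hC χ]
      exact apply_model φ χ (by decide)
  · refine avg2 (hchar χ) (x := φ E1) (y := φ T2) ?_ ordT2 (hA χ) ?_
    · show φ E1 * φ T2 = φ T2 * φ E1
      rw [← map_mul, ← map_mul]
      congr 1
    · rw [← map_mul]
      exact hP χ
  · refine avg3 (hchar χ) (x := φ E2) (y := φ E1) ?_ ordE1 (hB χ) ?_ ?_
    · show φ E2 * φ E1 = φ E1 * φ E2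
      rw [← map_mul, ← map_mul]
      congr 1
    · rw [← map_mul, ← hC χ]
      exact apply_model φ χ (by decide)
    · rw [← map_pow, ← map_mul, ← hC χ]
      exact apply_model φ χ (by decide)
  · refine avg2 (hchar χ) (x := φ E2) (y := φ T1) ?_ ordT1 (hB χ) ?_
    · show φ E2 * φ T1 = φ T1 * φ E2
      rw [← map_mul, ← map_mul]
      congr 1
    · rw [← map_mul]
      exact hQ χ

end Gram

end Cfsg.Agent.Lib.Blocks.TI9
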