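import Mathlib
import Cfsg.Agent.Lib.Blocks.TI9Sit

/-!
# The `3²:2²` situation: the class multiplication equations and the linear character
-/

set_option autoImplicit false
set_option maxRecDepth 100000

namespace Cfsg.Agent.Lib.Blocks.TI9

open DihedralGroup Cfsg
open scoped ComplexConjugate
open Cfsg.Agent.Lib.Blocks.Principal Cfsg.Agent.Lib.Blocks.Central
  Cfsg.Agent.Lib.Char.CompleteCor

universe u

/-- The algebra of the mixing equations. -/
theorem mix_core (ρ00 ρ01 ρ02 ρ10 ρ11 ρ12 ρ20 ρ21 ρ22 D20 D21 D22 : ℂ)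
    (M1 : ρ00 + ρ01 + ρ02 + (ρ10 + ρ11 + ρ12) - 2 * (ρ20 + ρ21 + ρ22) = 0)
    (M2 : ρ00 + ρ10 + ρ20 + (ρ01 + ρ11 + ρ21) - 2 * (ρ02 + ρ12 + ρ22) = 0)
    (M3 : ρ00 + ρ01 - 2 * ρ02 + (ρ10 + ρ11 - 2 * ρ12) - 2 * (ρ20 + ρ21 - 2 * ρ22) = 0)
    (hR : D20 * ρ20 + D21 * ρ21 + D22 * ρ22 = 0) (hD : D20 + D21 + D22 = 0) :
    (D20 - D21) * (ρ20 - ρ21) = 0 ∧ ρ20 + ρ21 = 2 * ρ22 := by
  have h1 : ρ20 + ρ21 = 2 * ρ22 := by
    linear_combination (1 / 3 : ℂ) * M2 - (1 / 3 : ℂ) * M3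
  refine ⟨?_, h1⟩
  linear_combination 2 * hR - (ρ20 + ρ21) * hD + D22 * h1

section Mixing

variable {G : Type u} [Group G]

/-- If `x`, `x s` have order dividing `3` and `s` is an involution then `x` and `x s` are conjugate. -/
theorem isConj_mul_invol {x s : G} (hx : x ^ 3 = 1) (hs : s * s = 1) (hxs : (x * s) ^ 3 = 1) : IsConj x (x * s) := by
  refine isConj_iff.2 ⟨x⁻¹ * s * x, ?_⟩
  have hsi : s⁻¹ = s := inv_eq_of_mul_eq_one_left hs
  have h1 : x * s * (x * s) * (x * s) = 1 := by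
    rw [← hxs, pow_succ, pow_two]
  have h2 : s * x * s * x = x⁻¹ * s := by
    have : s * x * s * x * s = x⁻¹ := by
      apply eq_inv_of_mul_eq_one_right
      simpa [mul_assoc] using h1
    rw [← this]
    calc s * x * s * x = s * x * s * x * (s * s) := by rw [hs, mul_one]
      _ = s * x * s * x * s * s := by simp only [mul_assoc]
  have hx2 : x⁻¹ * x⁻¹ = x := by
    have : x * x * x = 1 := by rw [← hx, pow_succ, pow_two]
    calc x⁻¹ * x⁻¹ = x⁻¹ * x⁻¹ * (x * x * x) := by rw [this, mul_one]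
      _ = x := by group
  calc x⁻¹ * s * x * x * (x⁻¹ * s * x)⁻¹ = x⁻¹ * (s * x * s⁻¹ * x) := by group
    _ = x⁻¹ * (s * x * s * x) := by rw [hsi]
    _ = x⁻¹ * (x⁻¹ * s) := by rw [h2]
    _ = x⁻¹ * x⁻¹ * s := by group
    _ = x * s := by rw [hx2]

/-- An involution inverting an element of order dividing `3`: the product is conjugate to the involution. -/
theorem isConj_mul_of_inverts {i e : G} (he : e ^ 3 = 1) (hi : i * e * i⁻¹ = e⁻¹) : IsConj i (i * e) := by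
  refine isConj_iff.2 ⟨e, ?_⟩
  have h1 : i * e = e⁻¹ * i := by
    rw [← hi]
    group
  have h2 : i * e⁻¹ * i⁻¹ = e := by
    calc i * e⁻¹ * i⁻¹ = (i * e * i⁻¹)⁻¹ := by group
      _ = e := by rw [hi, inv_inv]
  have h3 : i * e⁻¹ = e * i := by
    calc i * e⁻¹ = i * e⁻¹ * i⁻¹ * i := by group
      _ = e * i := by rw [h2]
  have h4 : e * e = e⁻¹ := by
    rw [eq_inv_iff_mul_eq_one, ← he, pow_succ, pow_two]
  rw [h1, mul_assoc, h3, ← mul_assoc, h4]

end Mixing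

section Grid

variable {G : Type u} [Group G] [Fintype G] [Fintype (IrrCharacter G)]

/-- The grid data. -/
structure GridD (f : Fin 3 → Fin 3 → IrrCharacter G) (A B C P Q : IrrCharacter G → ℤ) : Prop where
  h0 : f 0 0 = trivChar G
  hσ : ∀ j k, C (f j k) = 1 ∨ C (f j k) = -1
  hs : ∀ χ, C χ ≠ 0 → ∃ j k, f j k = χ
  hi : ∀ j k j' k', f j k = f j' k' → j = j' ∧ k = k'
  hv : ∀ j k, A (f j k) = C (f j k) * bb j ∧ P (f j k) = C (f j k) * ee j ∧
    B (f j k) = C (f j k) * bb k ∧ Q (f j k) = C (f j k) * ee k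

variable {f : Fin 3 → Fin 3 → IrrCharacter G} {A B C P Q : IrrCharacter G → ℤ}

theorem GridD.sum_eq (g : GridD f A B C P Q) (F : IrrCharacter G → ℂ) (hF : ∀ χ, C χ = 0 → F χ = 0) :
    ∑ χ, F χ = ∑ j, ∑ k, F (f j k) := by
  classical
  set I : Finset (IrrCharacter G) := (Finset.univ : Finset (Fin 3 × Fin 3)).image (fun p => f p.1 p.2) with hI
  have h1 : ∑ χ, F χ = ∑ χ ∈ I, F χ := by
    refine (Finset.sum_subset (Finset.subset_univ I) fun χ _ hχ => hF χ ?_).symm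
    by_contra hne
    obtain ⟨j, k, rfl⟩ := g.hs χ hne
    exact hχ (Finset.mem_image.2 ⟨(j, k), Finset.mem_univ _, rfl⟩)
  rw [h1, hI, Finset.sum_image, Fintype.sum_prod_type]
  rintro ⟨j, k⟩ - ⟨j', k'⟩ - h
  obtain ⟨rfl, rfl⟩ := g.hi j k j' k' h
  rfl

/-- The signed character. -/
noncomputable def XX (f : Fin 3 → Fin 3 → IrrCharacter G) (C : IrrCharacter G → ℤ) (j k : Fin 3) (y : G) : ℂ :=
  (C (f j k) : ℂ) * (f j k : G → ℂ) y

theorem GridD.sq (g : GridD f A B C P Q) (j k : Fin 3) : (C (f j k) : ℂ) * (C (f j k) : ℂ) = 1 := by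
  rcases g.hσ j k with h | h <;> rw [h] <;> simp

theorem GridD.sig_ne (g : GridD f A B C P Q) (j k : Fin 3) : (C (f j k) : ℂ) ≠ 0 := by
  intro h
  have := g.sq j k
  rw [h] at this
  simp at this

@[simp] theorem bb_0 : bb 0 = 1 := rfl
@[simp] theorem bb_1 : bb 1 = 1 := rfl
@[simp] theorem bb_2 : bb 2 = -2 := rfl
@[simp] theorem ee_0 : ee 0 = 1 := rfl
@[simp] theorem ee_1 : ee 1 = -1 := rfl
@[simp] theorem ee_2 : ee 2 = 0 := rfl

/-- Sums of a function against `C`. -/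
theorem GridD.sum_C (g : GridD f A B C P Q) (y : G) :
    ∑ χ : IrrCharacter G, (χ : G → ℂ) y * (C χ : ℂ) = ∑ j, ∑ k, XX f C j k y := by
  rw [g.sum_eq _ (fun χ h => by rw [h]; simp)]
  refine Finset.sum_congr rfl fun j _ => Finset.sum_congr rfl fun k _ => ?_
  rw [XX, mul_comm]

/-- Sums of a function against a column with values `σ v`. -/
theorem GridD.sum_col (g : GridD f A B C P Q) {U : IrrCharacter G → ℤ} (hU : ∀ χ, C χ = 0 → U χ = 0)
    {v : Fin 3 → Fin 3 → ℤ} (hv : ∀ j k, U (f j k) = C (f j k) * v j k) (y : G) :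
    ∑ χ : IrrCharacter G, (χ : G → ℂ) y * (U χ : ℂ) = ∑ j, ∑ k, (v j k : ℂ) * XX f C j k y := by
  rw [g.sum_eq _ (fun χ h => by rw [hU χ h]; simp)]
  refine Finset.sum_congr rfl fun j _ => Finset.sum_congr rfl fun k _ => ?_
  rw [XX, hv]
  push_cast
  ring

section

variable {T : Subgroup G} {φ : G36 →* G}

/-- The rows sum to zero away from the classes of `W`, `E1`, `P1`. -/
theorem row_zero (V : Vals φ A B C P Q) (g : GridD f A B C P Q) {y : G} (h1 : ¬ IsConj y (φ W))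
    (h2 : ¬ IsConj y (φ E1)) (h3 : ¬ IsConj y (φ P1)) (j : Fin 3) : ∑ k, XX f C j k y = 0 := by
  have o1 := column_orth_not_conj h1
  have o2 := column_orth_not_conj h2
  have o3 := column_orth_not_conj h3
  simp only [V.hC, V.hA, V.hP, map_intCast] at o1 o2 o3
  rw [g.sum_C] at o1
  rw [g.sum_col (fun χ h => (V.gram.van χ h).1) (v := fun j _ => bb j) (fun j k => (g.hv j k).1)] at o2
  rw [g.sum_col (fun χ h => (V.gram.van χ h).2.2.1) (v := fun j _ => ee j) (fun j k => (g.hv j k).2.1)] at o3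
  simp only [Fin.sum_univ_three, bb_0, bb_1, bb_2, ee_0, ee_1, ee_2] at o1 o2 o3 ⊢
  push_cast at o2 o3
  fin_cases j
  · show XX f C 0 0 y + XX f C 0 1 y + XX f C 0 2 y = 0
    linear_combination (1 / 3 : ℂ) * o1 + (1 / 6 : ℂ) * o2 + (1 / 2 : ℂ) * o3
  · show XX f C 1 0 y + XX f C 1 1 y + XX f C 1 2 y = 0
    linear_combination (1 / 3 : ℂ) * o1 + (1 / 6 : ℂ) * o2 - (1 / 2 : ℂ) * o3
  · show XX f C 2 0 y + XX f C 2 1 y + XX f C 2 2 y = 0
    linear_combination (1 / 3 : ℂ) * o1 - (1 / 3 : ℂ) * o2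

/-- The columns sum to zero away from the classes of `W`, `E2`, `P2`. -/
theorem col_zero (V : Vals φ A B C P Q) (g : GridD f A B C P Q) {y : G} (h1 : ¬ IsConj y (φ W))
    (h2 : ¬ IsConj y (φ E2)) (h3 : ¬ IsConj y (φ P2)) (k : Fin 3) : ∑ j, XX f C j k y = 0 := by
  have o1 := column_orth_not_conj h1
  have o2 := column_orth_not_conj h2
  have o3 := column_orth_not_conj h3
  simp only [V.hC, V.hB, V.hQ, map_intCast] at o1 o2 o3
  rw [g.sum_C] at o1
  rw [g.sum_col (fun χ h => (V.gram.van χ h).2.1) (v := fun _ k => bb k) (fun j k => (g.hv j k).2.2.1)] at o2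
  rw [g.sum_col (fun χ h => (V.gram.van χ h).2.2.2) (v := fun _ k => ee k) (fun j k => (g.hv j k).2.2.2)] at o3
  simp only [Fin.sum_univ_three, bb_0, bb_1, bb_2, ee_0, ee_1, ee_2] at o1 o2 o3 ⊢
  push_cast at o2 o3
  fin_cases k
  · show XX f C 0 0 y + XX f C 1 0 y + XX f C 2 0 y = 0
    linear_combination (1 / 3 : ℂ) * o1 + (1 / 6 : ℂ) * o2 + (1 / 2 : ℂ) * o3
  · show XX f C 0 1 y + XX f C 1 1 y + XX f C 2 1 y = 0
    linear_combination (1 / 3 : ℂ) * o1 + (1 / 6 : ℂ) * o2 - (1 / 2 : ℂ) * o3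
  · show XX f C 0 2 y + XX f C 1 2 y + XX f C 2 2 y = 0
    linear_combination (1 / 3 : ℂ) * o1 - (1 / 3 : ℂ) * o2

/-- The mixing sum. -/
theorem mix_sum {s : G} (hs : s * s = 1) {a b : G} (ha : a ^ 3 = 1) (hb : b ^ 3 = 1)
    (hab : ¬ IsConj a b) {U U' : IrrCharacter G → ℤ} (hU : ∀ χ : IrrCharacter G, (χ : G → ℂ) a = U χ)
    (hU' : ∀ χ : IrrCharacter G, (χ : G → ℂ) b = U' χ) :
    ∑ χ : IrrCharacter G, (U χ : ℂ) * (U' χ : ℂ) * ((χ : G → ℂ) s / (χ : G → ℂ) 1) = 0 := by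
  classical
  have h1 := cnt_general_char a b s
  haveI hempty : IsEmpty {x : G // IsConj a x ∧ IsConj (x * s) b} := by
    constructor
    rintro ⟨x, hx1, hx2⟩
    obtain ⟨c, rfl⟩ := isConj_iff.1 hx1
    obtain ⟨d, hd⟩ := isConj_iff.1 hx2
    have h3 : (c * a * c⁻¹) ^ 3 = 1 := by
      rw [conj_pow, ha]
      group
    have h4 : (c * a * c⁻¹ * s) ^ 3 = 1 := by
      have h5 : c * a * c⁻¹ * s = d⁻¹ * b * d := by
        rw [← hd]
        group
      rw [h5]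
      have h6 : d⁻¹ * b * d = d⁻¹ * b * (d⁻¹)⁻¹ := by group
      rw [h6, conj_pow, hb]
      group
    have h5 := isConj_mul_invol h3 hs h4
    exact hab (hx1.trans (h5.trans hx2))
  have h0 : Nat.card {x : G // IsConj a x ∧ IsConj (x * s) b} = 0 := Nat.card_of_isEmpty
  rw [h0] at h1
  simp only [Nat.cast_zero, mul_zero] at h1
  have hidx : ((Subgroup.centralizer ({a} : Set G)).index : ℂ) ≠ 0 :=
    Nat.cast_ne_zero.2 Subgroup.index_ne_zero_of_finite
  have h2 : ∑ χ : IrrCharacter G, centralChar (χ : G → ℂ) a * (χ : G → ℂ) s * conj ((χ : G → ℂ) b) =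
      ((Subgroup.centralizer ({a} : Set G)).index : ℂ) *
        ∑ χ : IrrCharacter G, (U χ : ℂ) * (U' χ : ℂ) * ((χ : G → ℂ) s / (χ : G → ℂ) 1) := by
    rw [Finset.mul_sum]
    refine Finset.sum_congr rfl fun χ _ => ?_
    rw [centralChar, hU, hU', map_intCast]
    ring
  rw [h2] at h1
  exact (mul_eq_zero.1 h1).resolve_left hidx

/-- The inverter sum. -/
theorem inv_sum {s : G} (hs : s * s = 1) {x : G} {U : IrrCharacter G → ℤ}
    (hU : ∀ χ : IrrCharacter G, (χ : G → ℂ) x = U χ) :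
    ((Subgroup.centralizer ({s} : Set G)).index : ℂ) *
      ∑ χ : IrrCharacter G, ((χ : G → ℂ) s) ^ 2 / (χ : G → ℂ) 1 * (U χ : ℂ) =
    (Nat.card (Subgroup.centralizer ({s} : Set G)) : ℂ) *
      (Nat.card {i : G // IsConj s i ∧ IsConj (i * x) s} : ℂ) := by
  classical
  rw [← cnt_general_char s s x, Finset.mul_sum]
  refine Finset.sum_congr rfl fun χ _ => ?_
  have hsi : s⁻¹ = s := inv_eq_of_mul_eq_one_left hs
  have h1 : conj ((χ : G → ℂ) s) = (χ : G → ℂ) s := by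
    have := Cfsg.Agent.Lib.Char.Values.IsCharacter.inv (Cfsg.Agent.Lib.Char.Values.IsIrrCharacter.isCharacter χ.2) s
    rw [hsi] at this
    exact this.symm
  rw [centralChar, hU, h1]
  ring

/-- The count of inverting conjugates. -/
theorem count_lt (S : Sit T φ) {a e : G36} (ha : a * a = 1) (he : e ^ 3 = 1)
    (hdec1 : ∀ c : G36, c * W * c⁻¹ = W⁻¹ → c * e * c⁻¹ = e⁻¹)
    (hdec2 : ∃ c : G36, c * a * c⁻¹ = a * e) (hdec3 : (a * W) * (a * W) ≠ 1) :
    Nat.card {i : G // IsConj (φ a) i ∧ IsConj (i * φ W) (φ a)} <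
      Nat.card {i : G // IsConj (φ a) i ∧ IsConj (i * φ e) (φ a)} := by
  classical
  have hsq : ∀ {x y : G}, x * x = 1 → IsConj x y → y * y = 1 := by
    intro x y hx hxy
    obtain ⟨c, rfl⟩ := isConj_iff.1 hxy
    calc c * x * c⁻¹ * (c * x * c⁻¹) = c * (x * x) * c⁻¹ := by group
      _ = 1 := by rw [hx]; group
  have hs : φ a * φ a = 1 := by rw [← map_mul, ha, map_one]
  have hWT : φ W ∈ T := (S.mod.memT _).2 ⟨1, 1, rfl⟩
  have hW1 : φ W ≠ 1 := fun h => absurd (S.mod.inj (h.trans (map_one φ).symm)) (by decide)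
  have hincl : ∀ i : G, (IsConj (φ a) i ∧ IsConj (i * φ W) (φ a)) → (IsConj (φ a) i ∧ IsConj (i * φ e) (φ a)) := by
    rintro i ⟨h1, h2⟩
    refine ⟨h1, ?_⟩
    have hi : i * i = 1 := hsq hs h1
    have hiw : (i * φ W) * (i * φ W) = 1 := hsq hs h2.symm
    have hii : i⁻¹ = i := inv_eq_of_mul_eq_one_left hi
    have h3 : i * φ W * i⁻¹ = (φ W)⁻¹ := by
      rw [hii]
      apply eq_inv_of_mul_eq_one_left
      simpa [mul_assoc] using hiw
    have hWi : (φ W)⁻¹ ∈ T := T.inv_mem hWT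
    have hWi1 : (φ W)⁻¹ ≠ 1 := inv_ne_one.2 hW1
    obtain ⟨c, rfl⟩ := S.mod.memN _ (S.ti hWT hW1 hWi hWi1 h3)
    have h4 : c * W * c⁻¹ = W⁻¹ := by
      apply S.mod.inj
      rw [map_mul, map_mul, map_inv, map_inv]
      exact h3
    have h5 := hdec1 c h4
    have h6 : φ c * φ e * (φ c)⁻¹ = (φ e)⁻¹ := by
      rw [← map_inv, ← map_mul, ← map_mul, h5, map_inv]
    have h7 : (φ e) ^ 3 = 1 := by rw [← map_pow, he, map_one]
    exact (isConj_mul_of_inverts h7 h6).symm.trans h1.symm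
  have hss : IsConj (φ a) (φ a) ∧ IsConj (φ a * φ e) (φ a) := by
    refine ⟨IsConj.refl _, ?_⟩
    obtain ⟨c, hc⟩ := hdec2
    apply IsConj.symm
    refine isConj_iff.2 ⟨φ c, ?_⟩
    rw [← map_inv, ← map_mul, ← map_mul, ← map_mul, hc]
  have hns : ¬ (IsConj (φ a) (φ a) ∧ IsConj (φ a * φ W) (φ a)) := by
    rintro ⟨-, h2⟩
    have h3 := hsq hs h2.symm
    apply hdec3
    apply S.mod.inj
    rw [map_mul, map_mul, map_one]
    exact h3
  have hcard : ∀ Pr : G → Prop, Nat.card {i : G // Pr i} = Set.ncard {i | Pr i} := fun Pr =>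
    Nat.card_coe_set_eq {i | Pr i}
  rw [hcard, hcard]
  apply Set.ncard_lt_ncard _ (Set.toFinite _)
  refine ⟨fun i hi => hincl i hi, fun hcon => hns (hcon hss)⟩

/-- The ratio. -/
noncomputable def RR (f : Fin 3 → Fin 3 → IrrCharacter G) (s : G) (j k : Fin 3) : ℂ :=
  (f j k : G → ℂ) s / (f j k : G → ℂ) 1

theorem XX_eq (f : Fin 3 → Fin 3 → IrrCharacter G) (C : IrrCharacter G → ℤ) (s : G) (j k : Fin 3) :
    XX f C j k s = XX f C j k 1 * RR f s j k := by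
  have h0 : (f j k : G → ℂ) 1 ≠ 0 := Cfsg.Agent.Lib.Char.Ortho.irr_apply_one_ne_zero (f j k).2
  simp only [XX, RR]
  field_simp

/-- Mixing sums on the grid. -/
theorem GridD.mix_grid (g : GridD f A B C P Q) {U U' : IrrCharacter G → ℤ} (hU : ∀ χ, C χ = 0 → U χ = 0)
    {v v' : Fin 3 → Fin 3 → ℤ} (hv : ∀ j k, U (f j k) = C (f j k) * v j k)
    (hv' : ∀ j k, U' (f j k) = C (f j k) * v' j k) (Y : IrrCharacter G → ℂ) :
    ∑ χ, (U χ : ℂ) * (U' χ : ℂ) * Y χ = ∑ j, ∑ k, (v j k : ℂ) * (v' j k : ℂ) * Y (f j k) := by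
  rw [g.sum_eq _ (fun χ h => by rw [hU χ h]; simp)]
  refine Finset.sum_congr rfl fun j _ => Finset.sum_congr rfl fun k _ => ?_
  rw [hv, hv']
  push_cast
  linear_combination (v j k : ℂ) * (v' j k : ℂ) * Y (f j k) * g.sq j k

/-- Inverter sums on the grid. -/
theorem GridD.inv_grid (g : GridD f A B C P Q) {U : IrrCharacter G → ℤ} (hU : ∀ χ, C χ = 0 → U χ = 0)
    {v : Fin 3 → Fin 3 → ℤ} (hv : ∀ j k, U (f j k) = C (f j k) * v j k) (s : G) :
    ∑ χ : IrrCharacter G, ((χ : G → ℂ) s) ^ 2 / (χ : G → ℂ) 1 * (U χ : ℂ) =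
      ∑ j, ∑ k, (v j k : ℂ) * (RR f s j k ^ 2 * XX f C j k 1) := by
  rw [g.sum_eq _ (fun χ h => by rw [hU χ h]; simp)]
  refine Finset.sum_congr rfl fun j _ => Finset.sum_congr rfl fun k _ => ?_
  have h0 : (f j k : G → ℂ) 1 ≠ 0 := Cfsg.Agent.Lib.Char.Ortho.irr_apply_one_ne_zero (f j k).2
  rw [hv]
  simp only [RR, XX]
  push_cast
  field_simp

/-- The equations for one involution. -/
theorem key_eqs {T : Subgroup G} {φ : G36 →* G} (S : Sit T φ) (V : Vals φ A B C P Q) (g : GridD f A B C P Q) {s : G}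
    (hs : s * s = 1) (hrow : ∀ j, ∑ k, XX f C j k s = 0) (hcol : ∀ k, ∑ j, XX f C j k s = 0)
    (hrowD : ∀ j, ∑ k, XX f C j k 1 = 0) (hcolD : ∀ k, ∑ j, XX f C j k 1 = 0) :
    (XX f C 2 0 1 - XX f C 2 1 1) * (RR f s 2 0 - RR f s 2 1) = 0 ∧ RR f s 2 0 + RR f s 2 1 = 2 * RR f s 2 2 ∧
    (XX f C 0 2 1 - XX f C 1 2 1) * (RR f s 0 2 - RR f s 1 2) = 0 ∧ RR f s 0 2 + RR f s 1 2 = 2 * RR f s 2 2 := by
  have pw : ∀ x₀ : G36, x₀ ^ 3 = 1 → (φ x₀) ^ 3 = 1 := fun x₀ h => by rw [← map_pow, h, map_one]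
  have m1 := mix_sum hs (pw E1 (by decide)) (pw W (by decide))
    (S.not_conj good_E1 good_W (by decide)) V.hA V.hC
  have m2 := mix_sum hs (pw E2 (by decide)) (pw W (by decide))
    (S.not_conj good_E2 good_W (by decide)) V.hB V.hC
  have m3 := mix_sum hs (pw E1 (by decide)) (pw E2 (by decide))
    (S.not_conj good_E1 good_E2 (by decide)) V.hA V.hB
  have hC1 : ∀ j k, C (f j k) = C (f j k) * (fun _ _ => (1 : ℤ)) j k := fun j k => by simp
  rw [g.mix_grid (fun χ h => (V.gram.van χ h).1) (v := fun j _ => bb j) (fun j k => (g.hv j k).1) hC1] at m1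
  rw [g.mix_grid (fun χ h => (V.gram.van χ h).2.1) (v := fun _ k => bb k) (fun j k => (g.hv j k).2.2.1) hC1] at m2
  rw [g.mix_grid (fun χ h => (V.gram.van χ h).1) (v := fun j _ => bb j) (v' := fun _ k => bb k) (fun j k => (g.hv j k).1)
    (fun j k => (g.hv j k).2.2.1)] at m3
  have r2 := hrow 2
  have c2 := hcol 2
  have rD2 := hrowD 2
  have cD2 := hcolD 2
  rw [Fin.sum_univ_three] at r2 c2 rD2 cD2
  rw [XX_eq f C s 2 0, XX_eq f C s 2 1, XX_eq f C s 2 2] at r2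
  rw [XX_eq f C s 0 2, XX_eq f C s 1 2, XX_eq f C s 2 2] at c2
  change ∑ j, ∑ k, ((bb j : ℤ) : ℂ) * ((1 : ℤ) : ℂ) * RR f s j k = 0 at m1
  change ∑ j, ∑ k, ((bb k : ℤ) : ℂ) * ((1 : ℤ) : ℂ) * RR f s j k = 0 at m2
  change ∑ j, ∑ k, ((bb j : ℤ) : ℂ) * ((bb k : ℤ) : ℂ) * RR f s j k = 0 at m3
  simp only [Fin.sum_univ_three, bb_0, bb_1, bb_2] at m1 m2 m3
  push_cast at m1 m2 m3
  obtain ⟨h1, h2⟩ := mix_core (RR f s 0 0) (RR f s 0 1) (RR f s 0 2) (RR f s 1 0) (RR f s 1 1) (RR f s 1 2)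
    (RR f s 2 0) (RR f s 2 1) (RR f s 2 2) (XX f C 2 0 1) (XX f C 2 1 1) (XX f C 2 2 1)
    (by linear_combination m1) (by linear_combination m2) (by linear_combination m3) r2 rD2
  obtain ⟨h3, h4⟩ := mix_core (RR f s 0 0) (RR f s 1 0) (RR f s 2 0) (RR f s 0 1) (RR f s 1 1) (RR f s 2 1)
    (RR f s 0 2) (RR f s 1 2) (RR f s 2 2) (XX f C 0 2 1) (XX f C 1 2 1) (XX f C 2 2 1)
    (by linear_combination m2) (by linear_combination m1) (by linear_combination m3) c2 cD2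
  exact ⟨h1, h2, h3, h4⟩

/-- The inverter contradiction: equal ratios in the third row force equal counts. -/
theorem count_eq_of_row {s : G} {x y : G} {Ux Uy : IrrCharacter G → ℤ}
    (g : GridD f A B C P Q) (hs : s * s = 1)
    (hUx : ∀ χ : IrrCharacter G, (χ : G → ℂ) x = Ux χ) (hUy : ∀ χ : IrrCharacter G, (χ : G → ℂ) y = Uy χ)
    (hUx0 : ∀ χ, C χ = 0 → Ux χ = 0) (hUy0 : ∀ χ, C χ = 0 → Uy χ = 0)
    {vx vy : Fin 3 → Fin 3 → ℤ} (hvx : ∀ j k, Ux (f j k) = C (f j k) * vx j k)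
    (hvy : ∀ j k, Uy (f j k) = C (f j k) * vy j k)
    (heq : ∑ j, ∑ k, (vx j k : ℂ) * (RR f s j k ^ 2 * XX f C j k 1) =
      ∑ j, ∑ k, (vy j k : ℂ) * (RR f s j k ^ 2 * XX f C j k 1)) :
    Nat.card {i : G // IsConj s i ∧ IsConj (i * x) s} = Nat.card {i : G // IsConj s i ∧ IsConj (i * y) s} := by
  have f1 := inv_sum hs hUx
  have f2 := inv_sum hs hUy
  rw [g.inv_grid hUx0 hvx] at f1
  rw [g.inv_grid hUy0 hvy, ← heq, f1] at f2
  have hne : (Nat.card (Subgroup.centralizer ({s} : Set G)) : ℂ) ≠ 0 := Nat.cast_ne_zero.2 Nat.card_pos.ne'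
  have h3 := mul_left_cancel₀ hne f2
  exact_mod_cast h3

/-- **The linear character.** -/
theorem Sit.exists_linear {T : Subgroup G} {φ : G36 →* G} (S : Sit T φ) :
    ∃ χ : IrrCharacter G, (χ : G → ℂ) 1 = 1 ∧ (χ : G → ℂ) (φ E1) = 1 ∧ (χ : G → ℂ) (φ E2) = 1 ∧
      (χ : G → ℂ) (φ P1) = -1 ∧ (χ : G → ℂ) (φ P2) = -1 := by
  classical
  obtain ⟨A, B, C, P, Q, V⟩ := S.exists_vals
  obtain ⟨f, h0, hσ, hs, hi, hv⟩ := V.gram.exists_grid
  have g : GridD f A B C P Q := ⟨h0, hσ, hs, hi, hv⟩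
  have hnot : ∀ {y : G} {x₀ : G36}, y * y = 1 → x₀ * x₀ ≠ 1 → ¬ IsConj y (φ x₀) := by
    intro y x₀ hy hx hc
    apply hx
    obtain ⟨c, hc⟩ := isConj_iff.1 hc
    apply S.mod.inj
    rw [map_mul, map_one, ← hc]
    calc c * y * c⁻¹ * (c * y * c⁻¹) = c * (y * y) * c⁻¹ := by group
      _ = 1 := by rw [hy]; group
  have rowall : ∀ {y : G}, y * y = 1 → ∀ j, ∑ k, XX f C j k y = 0 := fun hy j =>
    row_zero V g (hnot hy (by decide)) (hnot hy (by decide)) (hnot hy (by decide)) j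
  have colall : ∀ {y : G}, y * y = 1 → ∀ k, ∑ j, XX f C j k y = 0 := fun hy k =>
    col_zero V g (hnot hy (by decide)) (hnot hy (by decide)) (hnot hy (by decide)) k
  have rowD := rowall (y := 1) (one_mul 1)
  have colD := colall (y := 1) (one_mul 1)
  have hT1 : φ T1 * φ T1 = 1 := by rw [← map_mul]; exact (congrArg φ (by decide)).trans (map_one φ)
  have hT2 : φ T2 * φ T2 = 1 := by rw [← map_mul]; exact (congrArg φ (by decide)).trans (map_one φ)
  obtain ⟨k1, k2, -, -⟩ := key_eqs S V g hT1 (rowall hT1) (colall hT1) rowD colD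
  obtain ⟨-, -, k3, k4⟩ := key_eqs S V g hT2 (rowall hT2) (colall hT2) rowD colD
  have hC1 : ∀ j k, C (f j k) = C (f j k) * (fun _ _ => (1 : ℤ)) j k := fun j k => by simp
  have hCid : ∀ χ, C χ = 0 → C χ = 0 := fun _ h => h
  -- row: `s = φ T1`
  have hne1 : RR f (φ T1) 2 0 ≠ RR f (φ T1) 2 1 := by
    intro heq
    have h22 : RR f (φ T1) 2 2 = RR f (φ T1) 2 0 := by
      have : (2 : ℂ) * RR f (φ T1) 2 2 = 2 * RR f (φ T1) 2 0 := by
        rw [← k2, ← heq]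
        ring
      exact mul_left_cancel₀ two_ne_zero this
    have hcnt := count_eq_of_row g hT1 V.hC V.hA hCid (fun χ h => (V.gram.van χ h).1) hC1
      (vy := fun j _ => bb j) (fun j k => (g.hv j k).1) (by
        have r2 := rowD 2
        rw [Fin.sum_univ_three] at r2
        simp only [Fin.sum_univ_three, bb_0, bb_1, bb_2]
        push_cast
        rw [h22, ← heq]
        linear_combination (3 : ℂ) * RR f (φ T1) 2 0 ^ 2 * r2)
    have hlt := count_lt S (a := T1) (e := E1) (by decide) (by decide) (by decide) (by decide) (by decide)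
    omega
  have hD1 : XX f C 2 0 1 = XX f C 2 1 1 := by
    rcases mul_eq_zero.1 k1 with h | h
    · exact sub_eq_zero.1 h
    · exact absurd (sub_eq_zero.1 h) hne1
  -- column: `s = φ T2`
  have hne2 : RR f (φ T2) 0 2 ≠ RR f (φ T2) 1 2 := by
    intro heq
    have h22 : RR f (φ T2) 2 2 = RR f (φ T2) 0 2 := by
      have : (2 : ℂ) * RR f (φ T2) 2 2 = 2 * RR f (φ T2) 0 2 := by
        rw [← k4, ← heq]
        ring
      exact mul_left_cancel₀ two_ne_zero this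
    have hcnt := count_eq_of_row g hT2 V.hC V.hB hCid (fun χ h => (V.gram.van χ h).2.1) hC1
      (vy := fun _ k => bb k) (fun j k => (g.hv j k).2.2.1) (by
        have c2 := colD 2
        rw [Fin.sum_univ_three] at c2
        simp only [Fin.sum_univ_three, bb_0, bb_1, bb_2]
        push_cast
        rw [h22, ← heq]
        linear_combination (3 : ℂ) * RR f (φ T2) 0 2 ^ 2 * c2)
    have hlt := count_lt S (a := T2) (e := E2) (by decide) (by decide) (by decide) (by decide) (by decide)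
    omega
  have hD2 : XX f C 0 2 1 = XX f C 1 2 1 := by
    rcases mul_eq_zero.1 k3 with h | h
    · exact sub_eq_zero.1 h
    · exact absurd (sub_eq_zero.1 h) hne2
  -- the degree
  have hD00 : XX f C 0 0 1 = 1 := by
    rw [XX, h0, V.gram.Co]
    simp
  have hD11 : XX f C 1 1 1 = 1 := by
    have r0 := rowD 0
    have r1 := rowD 1
    have c0 := colD 0
    have c1 := colD 1
    rw [Fin.sum_univ_three] at r0 r1 c0 c1
    linear_combination hD00 - (1 / 2 : ℂ) * (r0 - r1 - hD2 + c0 - c1 - hD1)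
  -- the sign
  obtain ⟨d, hd⟩ := Cfsg.Agent.Lib.Char.Values.IsCharacter.exists_one_eq
    (Cfsg.Agent.Lib.Char.Values.IsIrrCharacter.isCharacter (f 1 1).2)
  have hsig : C (f 1 1) = 1 := by
    rcases hσ 1 1 with h | h
    · exact h
    · exfalso
      rw [XX, h, hd] at hD11
      push_cast at hD11
      have h2 : ((d : ℂ) + 1) = 0 := by linear_combination -hD11
      have h3 : ((d + 1 : ℕ) : ℂ) = 0 := by push_cast; exact h2
      have h4 : d + 1 = 0 := by exact_mod_cast h3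
      omega
  refine ⟨f 1 1, ?_, ?_, ?_, ?_, ?_⟩
  · rw [XX, hsig] at hD11
    simpa using hD11
  · rw [V.hA, (hv 1 1).1, hsig]
    simp
  · rw [V.hB, (hv 1 1).2.2.1, hsig]
    simp
  · rw [V.hP, (hv 1 1).2.1, hsig]
    simp
  · rw [V.hQ, (hv 1 1).2.2.2, hsig]
    simp

end

end Grid

end Cfsg.Agent.Lib.Blocks.TI9
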