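import Mathlib
import Cfsg.Agent.Lib.Blocks.TI9Mix
import Cfsg.Agent.Lib.Transfer.AbTwoQuot
import Cfsg.Agent.Lib.Char.LinearChars
import Cfsg.Agent.S0058

/-!
# The `3²:2²` situation: the end of the proof
-/

set_option autoImplicit false
set_option maxRecDepth 100000

namespace Cfsg.Agent.Lib.Blocks.TI9

open DihedralGroup Cfsg
open Cfsg.Agent.Lib.Transfer.AbTwo Cfsg.Agent.Lib.Blocks.AbFrob

universe u

variable {G : Type u} [Group G] [Finite G] {T : Subgroup G} {φ : G36 →* G}

theorem not_cyclic_of_exp (H : Subgroup G) (h3 : ∀ x ∈ H, x ^ 3 = 1) (hcard : Nat.card H = 9) : ¬ IsCyclic H := by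
  intro hc
  obtain ⟨g, hg⟩ := hc.exists_generator
  have h1 := orderOf_eq_card_of_forall_mem_zpowers hg
  rw [hcard] at h1
  have h2 : orderOf g ∣ 3 := orderOf_dvd_of_pow_eq_one (Subtype.ext (by simpa using h3 _ g.2))
  rw [h1] at h2
  omega

/-- A normal `3'`-subgroup is trivial. -/
theorem Sit.core_trivial (S : Sit T φ) (hcard : Nat.card T = 9) (O : Subgroup G) [hO : O.Normal]
    (hc : (Nat.card O).Coprime 3) : O = ⊥ := by
  haveI : IsMulCommutative T := ⟨⟨fun a b => Subtype.ext (S.hcomm _ a.2 _ b.2)⟩⟩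
  have hcop : (Nat.card T).Coprime (Nat.card O) := by
    rw [hcard, show 9 = 3 ^ 2 by norm_num]
    exact (Nat.Coprime.pow_left 2 hc.symm)
  have hOT : ∀ x, x ∈ O → x ∈ T → x = 1 := by
    intro x h1 h2
    exact Subgroup.disjoint_def.1 (Subgroup.disjoint_of_coprime_natCard hcop.symm) h1 h2
  have h := Cfsg.Agent.S0058.result T O (not_cyclic_of_exp T S.h3 hcard) (by
    rw [Subgroup.normalizer_eq_top_iff.2 hO]
    exact le_top) hcop
  rw [← h, eq_bot_iff]
  refine iSup₂_le fun a ha => ?_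
  intro n hn
  obtain ⟨haT, ha1⟩ := ha
  obtain ⟨hnO, hnC⟩ := hn
  have hnN := S.hloc a haT ha1 hnC
  have hnT : n ∈ T := by
    rw [← S.hC, Subgroup.mem_centralizer_iff]
    intro t ht
    have h1 : n * t * n⁻¹ ∈ T := (Subgroup.mem_normalizer_iff.1 hnN t).1 ht
    have h2 : n * t * n⁻¹ * t⁻¹ ∈ T := T.mul_mem h1 (T.inv_mem ht)
    have h3 : n * t * n⁻¹ * t⁻¹ ∈ O := by
      have h4 : t * n⁻¹ * t⁻¹ ∈ O := hO.conj_mem _ (O.inv_mem hnO) t
      have h5 := O.mul_mem hnO h4
      simpa [mul_assoc] using h5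
    have h4 := hOT _ h3 h2
    have h5 : n * t * n⁻¹ = t := mul_inv_eq_one.1 h4
    calc t * n = n * t * n⁻¹ * n := by rw [h5]
      _ = n * t := by group
  rw [Subgroup.mem_bot]
  exact hOT n hnO hnT

/-- **The end of the proof.** -/
theorem Sit.normal (S : Sit T φ) (hcard : Nat.card T = 9) (P₀ : Sylow 3 G) (hP₀ : (P₀ : Subgroup G) = T) : T.Normal := by
  classical
  haveI := Fintype.ofFinite G
  haveI := Fintype.ofFinite (Cfsg.IrrCharacter G)
  haveI : Fact (Nat.Prime 3) := ⟨by norm_num⟩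
  obtain ⟨χ, h1, hE1, hE2, hP1, hP2⟩ := S.exists_linear
  obtain ⟨l, hl⟩ := Cfsg.Agent.Lib.Char.LinearChars.exists_hom_of_isCharacter_one
    (Cfsg.Agent.Lib.Char.Values.IsIrrCharacter.isCharacter χ.2) h1
  subst hP₀
  have hlv : ∀ g, (χ : G → ℂ) g = ((l g : ℂˣ) : ℂ) := fun g => congrFun hl g
  have lE1 : l (φ E1) = 1 := Units.ext (by rw [← hlv, hE1]; rfl)
  have lE2 : l (φ E2) = 1 := Units.ext (by rw [← hlv, hE2]; rfl)
  have lT1 : ((l (φ T1) : ℂˣ) : ℂ) = -1 := by
    have h2 : P2 = T1 * E2 := by decide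
    rw [h2, map_mul, hlv, map_mul, lE2, mul_one] at hP2
    exact hP2
  have lT2 : ((l (φ T2) : ℂˣ) : ℂ) = -1 := by
    have h2 : P1 = E1 * T2 := by decide
    rw [h2, map_mul, hlv, map_mul, lE1, one_mul] at hP1
    exact hP1
  have hdecrot : ∀ i j : ZMod 3, ((r i, r j) : G36) = E1 ^ i.val * E2 ^ j.val := by
    decide
  have lrot : ∀ i j : ZMod 3, l (φ (r i, r j)) = 1 := by
    intro i j
    rw [hdecrot, map_mul, map_mul, map_pow, map_pow, map_pow, map_pow, lE1, lE2]
    simp
  set K : Subgroup G := l.ker with hK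
  haveI hKn : K.Normal := MonoidHom.normal_ker l
  have hTK : (P₀ : Subgroup G) ≤ K := by
    intro x hx
    obtain ⟨i, j, rfl⟩ := (S.mod.memT x).1 hx
    exact lrot i j
  set P : Sylow 3 K := P₀.subtype hTK with hP
  have hPc : (P : Subgroup K) = (P₀ : Subgroup G).subgroupOf K := Sylow.coe_subtype P₀ hTK
  have hmemP : ∀ x : K, x ∈ (P : Subgroup K) ↔ (x : G) ∈ (P₀ : Subgroup G) := by
    intro x
    rw [hPc, Subgroup.mem_subgroupOf]
  have hzK : φ (T1 * T2) ∈ K := by
    show l (φ (T1 * T2)) = 1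
    apply Units.ext
    rw [map_mul, map_mul, Units.val_mul, lT1, lT2]
    simp
  have hA : Act P (⟨φ (T1 * T2), hzK⟩ : K) := by
    refine ⟨by norm_num, ?_, ?_, ?_, ?_⟩
    · refine ⟨⟨fun a b => Subtype.ext (Subtype.ext ?_)⟩⟩
      exact S.hcomm _ ((hmemP _).1 a.2) _ ((hmemP _).1 b.2)
    · apply not_cyclic_of_exp
      · intro x hx
        exact Subtype.ext (by simpa using S.h3 _ ((hmemP x).1 hx))
      · rw [hPc, ← hcard]
        exact Nat.card_congr (Subgroup.subgroupOfEquivOfLe hTK).toEquiv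
    · intro x hx
      apply Subtype.ext
      obtain ⟨i, j, hij⟩ := (S.mod.memT _).1 ((hmemP x).1 hx)
      have hdec : ∀ i j : ZMod 3, (T1 * T2) * ((r i, r j) : G36) * (T1 * T2)⁻¹ = ((r i, r j) : G36)⁻¹ := by
        decide
      simp only [Subgroup.coe_mul, Subgroup.coe_inv]
      rw [hij, ← map_inv, ← map_mul, ← map_mul, hdec, map_inv]
    · intro n hn
      -- `n` normalizes `T`
      have hnN : (n : G) ∈ Subgroup.normalizer ((P₀ : Subgroup G) : Set G) := by
        rw [Subgroup.mem_normalizer_iff]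
        intro h
        constructor
        · intro hh
          have h2 := (mem_NN_iff.1 hn ⟨h, hTK hh⟩).1 ((hmemP _).2 hh)
          exact (hmemP _).1 h2
        · intro hh
          have hh' : (n : G) * h * (n : G)⁻¹ ∈ K := hTK hh
          have hhK : h ∈ K := by
            have h3 : h = (n : G)⁻¹ * ((n : G) * h * (n : G)⁻¹) * n := by group
            rw [h3]
            exact K.mul_mem (K.mul_mem (K.inv_mem n.2) hh') n.2
          have h2 := (mem_NN_iff.1 hn ⟨h, hhK⟩).2 ((hmemP _).2 hh)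
          exact (hmemP _).1 h2
      obtain ⟨n₀, hn₀⟩ := S.mod.memN _ hnN
      have hdec : ∀ n₀ : G36, (∀ i j : ZMod 3, n₀ * ((r i, r j) : G36) * n₀⁻¹ = (r i, r j)) ∨
          (∀ i j : ZMod 3, n₀ * ((r i, r j) : G36) * n₀⁻¹ = ((r i, r j) : G36)⁻¹) ∨
          ∃ i j : ZMod 3, n₀ = (r i, r j) * T1 ∨ n₀ = (r i, r j) * T2 := by
        decide
      have hln : l (φ n₀) = 1 := by
        rw [hn₀]
        exact n.2
      have hne : ¬ ∃ i j : ZMod 3, n₀ = (r i, r j) * T1 ∨ n₀ = (r i, r j) * T2 := by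
        rintro ⟨i, j, h | h⟩
        · rw [h, map_mul, map_mul, lrot, one_mul] at hln
          have h5 := congrArg (fun u : ℂˣ => (u : ℂ)) hln
          simp only [lT1, Units.val_one] at h5
          norm_num at h5
        · rw [h, map_mul, map_mul, lrot, one_mul] at hln
          have h5 := congrArg (fun u : ℂˣ => (u : ℂ)) hln
          simp only [lT2, Units.val_one] at h5
          norm_num at h5
      rcases hdec n₀ with h | h | h
      · left
        intro x hx
        apply Subtype.ext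
        obtain ⟨i, j, hij⟩ := (S.mod.memT _).1 ((hmemP x).1 hx)
        simp only [Subgroup.coe_mul, Subgroup.coe_inv]
        rw [hij, ← hn₀, ← map_inv, ← map_mul, ← map_mul, h]
      · right
        intro x hx
        apply Subtype.ext
        obtain ⟨i, j, hij⟩ := (S.mod.memT _).1 ((hmemP x).1 hx)
        simp only [Subgroup.coe_mul, Subgroup.coe_inv]
        rw [hij, ← hn₀, ← map_inv, ← map_mul, ← map_mul, h, map_inv]
      · exact absurd h hne
  -- the core
  have hO : pPrimeCore 3 K = ⊥ := by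
    haveI hch : (pPrimeCore 3 K).Characteristic := Cfsg.Agent.Lib.Solvable.PSeries.pPrimeCore_char 3 K
    haveI hOn : ((pPrimeCore 3 K).map K.subtype).Normal :=
      Cfsg.Agent.Lib.Basic.PCore.map_subtype_normal_of_characteristic _
    have hcop : (Nat.card ((pPrimeCore 3 K).map K.subtype)).Coprime 3 := by
      have h2 : Nat.card ((pPrimeCore 3 K).map K.subtype) = Nat.card (pPrimeCore 3 K) :=
        Nat.card_congr (Subgroup.equivMapOfInjective _ _ K.subtype_injective).symm.toEquiv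
      rw [h2]
      exact Cfsg.Agent.Lib.Solvable.Carter.card_pPrimeCore_coprime (G := K) 3
    have h3 := S.core_trivial hcard _ hcop
    exact (Subgroup.map_eq_bot_iff_of_injective _ K.subtype_injective).1 h3
  have hPn : (P : Subgroup K).Normal := core_normal hA hO
  haveI hPch : (P : Subgroup K).Characteristic := Sylow.characteristic_of_normal P hPn
  have hmap := Cfsg.Agent.Lib.Basic.PCore.map_subtype_normal_of_characteristic (N := K) (P : Subgroup K)
  rw [hPc, Subgroup.map_subgroupOf_eq_of_le hTK] at hmap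
  exact hmap

end Cfsg.Agent.Lib.Blocks.TI9
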