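import Mathlib
import Cfsg.Agent.Lib.Blocks.TI9E
import Cfsg.Agent.Lib.Blocks.TI9F

/-!
# Trivial intersection Sylow 3-subgroups of order 9: consequences of simplicity, counts of involutions
-/

set_option autoImplicit false

namespace Cfsg.Agent.Lib.Blocks.TI9

open Cfsg Cfsg.Agent.Lib.Blocks.SC3 Cfsg.Agent.Lib.Blocks.Principal
open scoped ComplexConjugate

universe u

variable {G : Type u} [Group G] [Finite G]

/-- A simple nonabelian group has no nontrivial linear character. -/
theorem degree_ne_one_of_simple [IsSimpleGroup G] (hnc : ∃ u v : G, u * v ≠ v * u) {χ : IrrCharacter G}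
    (hχ : χ ≠ trivChar G) {b : ℕ} (hb : (χ : G → ℂ) 1 = b) : b ≠ 1 := by
  intro hb1
  have hc1 := Cfsg.Agent.Lib.Char.Basic.isCharacter_of_isIrrCharacter χ.2
  have h9 : (χ : G → ℂ) 1 = 1 := by rw [hb, hb1]; simp
  obtain ⟨φ, hφ⟩ := Cfsg.Agent.Lib.Char.LinearChars.exists_hom_of_isCharacter_one hc1 h9
  rcases (inferInstance : (φ.ker).Normal).eq_bot_or_eq_top with h10 | h10
  · obtain ⟨u, v, huv⟩ := hnc
    apply huv
    have h11 : Function.Injective φ := (MonoidHom.ker_eq_bot_iff φ).mp h10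
    apply h11
    rw [map_mul, map_mul, mul_comm]
  · apply hχ
    apply Subtype.ext
    rw [hφ]
    funext g
    have h11 : g ∈ φ.ker := by rw [h10]; trivial
    rw [MonoidHom.mem_ker.mp h11]
    simp

/-- In a simple group, a nontrivial irreducible character is faithful. -/
theorem eq_one_of_value_eq_degree [IsSimpleGroup G] {χ : IrrCharacter G} (hχ : χ ≠ trivChar G) {g : G}
    (h : (χ : G → ℂ) g = (χ : G → ℂ) 1) : g = 1 := by
  classical
  haveI : Fintype G := Fintype.ofFinite G
  obtain ⟨χ', hχ'⟩ := χ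
  obtain ⟨n, ρ, hρ, rfl⟩ := hχ'
  have h14 : g ∈ Cfsg.Agent.Lib.Char.Codegree.repKer ρ := by
    rw [← Cfsg.Agent.Lib.Char.Codegree.character_eq_one_iff]
    exact h
  rcases (inferInstance : (Cfsg.Agent.Lib.Char.Codegree.repKer ρ).Normal).eq_bot_or_eq_top with h15 | h15
  · rwa [h15, Subgroup.mem_bot] at h14
  · exfalso
    apply hχ
    have hall : ∀ x : G, ρ.character x = ρ.character 1 := by
      intro x
      have h16 : x ∈ Cfsg.Agent.Lib.Char.Codegree.repKer ρ := by
        rw [h15]
        trivial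
      rw [← Cfsg.Agent.Lib.Char.Codegree.character_eq_one_iff] at h16
      exact h16
    by_contra hne
    have hne' : ρ.character ≠ (trivChar G : G → ℂ) := by
      intro h17
      apply hne
      exact Subtype.ext h17
    have h17 := Cfsg.Agent.Lib.Char.Ortho.classInner_irr_of_ne (⟨n, ρ, hρ, rfl⟩ : IsIrrCharacter G ρ.character) (trivChar G).2 hne'
    rw [Cfsg.Agent.Lib.Char.Induced.classInner_def] at h17
    have h18 : ∑ x : G, ρ.character x * conj ((trivChar G : G → ℂ) x) = (Nat.card G : ℂ) * ρ.character 1 := by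
      rw [Finset.sum_congr rfl (fun x _ => by rw [hall x, coe_trivChar]; simp : ∀ x ∈ Finset.univ, ρ.character x * conj ((trivChar G : G → ℂ) x) = ρ.character 1)]
      rw [Finset.sum_const, Finset.card_univ, nsmul_eq_mul, Nat.card_eq_fintype_card]
    rw [h18] at h17
    have hG : (Nat.card G : ℂ) ≠ 0 := by exact_mod_cast Nat.card_pos.ne'
    rw [← mul_assoc, inv_mul_cancel₀ hG, one_mul] at h17
    exact Cfsg.Agent.Lib.Char.Ortho.irr_apply_one_ne_zero (⟨n, ρ, hρ, rfl⟩ : IsIrrCharacter G ρ.character) h17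

section SCW

/-- An involution does not commute with an element of order 3. -/
theorem not_comm_inv (hS : SCW G) {t y : G} (ht : t * t = 1) (hne : t ≠ 1) (hy : orderOf y = 3) :
    t * y ≠ y * t := by
  intro h1
  have h3 := hS y hy t h1
  apply hne
  calc t = t ^ 3 * (t * t)⁻¹ := by group
    _ = 1 := by rw [h3, ht]; group

/-- The order of a subgroup of a centralizer of an involution is prime to 3. -/
theorem cop_of_le (hS : SCW G) {t : G} (ht : t * t = 1) (hne : t ≠ 1) {E : Subgroup G} (hE : E ≤ Cn t) :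
    ¬ 3 ∣ Nat.card E := by
  intro h3
  haveI : Fact (Nat.Prime 3) := ⟨by norm_num⟩
  obtain ⟨w, hw⟩ := exists_prime_orderOf_dvd_card' (G := E) 3 h3
  have hw3 : orderOf (w : G) = 3 := by
    rw [Subgroup.orderOf_coe, hw]
  apply not_comm_inv hS ht hne hw3
  exact (mem_Cn.mp (hE w.2)).symm

/-- The key element: two involutions inverting an element of order 3 are conjugate by an element of its centralizer. -/
theorem exists_w (hS : SCW G) {y t z : G} (hy : orderOf y = 3) (ht : t * t = 1) (hz : z * z = 1)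
    (hty : t * y * t⁻¹ = y⁻¹) (hzy : z * y * z⁻¹ = y⁻¹) :
    ∃ w : G, w * y = y * w ∧ w * z * w⁻¹ = t := by
  have hti : t⁻¹ = t := inv_eq_of_mul_eq_one_right ht
  have hzi : z⁻¹ = z := inv_eq_of_mul_eq_one_right hz
  have hc : (z * t) * y = y * (z * t) := by
    have h1 : t * y = y⁻¹ * t := by
      calc t * y = (t * y * t⁻¹) * t := by group
        _ = _ := by rw [hty]
    have h2 : z * y⁻¹ = y * z := by
      have h3 : z * y = y⁻¹ * z := by
        calc z * y = (z * y * z⁻¹) * z := by group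
          _ = _ := by rw [hzy]
      calc z * y⁻¹ = (z * y * z⁻¹)⁻¹ * z := by group
        _ = y * z := by rw [hzy]; group
    calc (z * t) * y = z * (t * y) := by group
      _ = z * (y⁻¹ * t) := by rw [h1]
      _ = (z * y⁻¹) * t := by group
      _ = (y * z) * t := by rw [h2]
      _ = _ := by group
  have hw3 := hS y hy _ hc
  have hinv : z * (z * t) * z⁻¹ = (z * t)⁻¹ := by
    rw [hzi, mul_inv_rev, hti, hzi]
    calc z * (z * t) * z = (z * z) * t * z := by group
      _ = t * z := by rw [hz]; group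
  have h5 := mul_eq_conj hw3 hinv
  refine ⟨z * t, hc, ?_⟩
  have h6 : z * (z * t) = t := by
    calc z * (z * t) = (z * z) * t := by group
      _ = t := by rw [hz]; group
  rw [h6] at h5
  exact h5.symm

/-- If `t` inverts `s` and `u z` is conjugate to `s`, for involutions `u`, `z`, then `t` and `z` are conjugate. -/
theorem isConj_of_invert (hS : SCW G) {s t u z : G} (hs : orderOf s = 3) (ht : t * t = 1) (hinv : t * s * t⁻¹ = s⁻¹)
    (hu : u * u = 1) (hz : z * z = 1) (hc : IsConj (u * z) s) : IsConj t z := by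
  obtain ⟨g, hg⟩ := isConj_iff.mp hc.symm
  set y := u * z with hy
  have hy3 : orderOf y = 3 := by rw [← hs]; exact orderOf_of_isConj hc
  set t' := g * t * g⁻¹ with ht'
  have ht'2 : t' * t' = 1 := by
    rw [ht']
    calc g * t * g⁻¹ * (g * t * g⁻¹) = g * (t * t) * g⁻¹ := by group
      _ = 1 := by rw [ht]; group
  have ht'y : t' * y * t'⁻¹ = y⁻¹ := by
    rw [← hg, ht']
    calc g * t * g⁻¹ * (g * s * g⁻¹) * (g * t * g⁻¹)⁻¹ = g * (t * s * t⁻¹) * g⁻¹ := by group
      _ = g * s⁻¹ * g⁻¹ := by rw [hinv]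
      _ = _ := by group
  have hzy : z * y * z⁻¹ = y⁻¹ := by
    rw [hy, mul_inv_rev, inv_eq_of_mul_eq_one_right hz, inv_eq_of_mul_eq_one_right hu]
    calc z * (u * z) * z = z * u * (z * z) := by group
      _ = _ := by rw [hz]; group
  obtain ⟨w, -, hw⟩ := exists_w hS hy3 ht'2 hz ht'y hzy
  have h1 : IsConj z t' := isConj_iff.mpr ⟨w, hw⟩
  have h2 : IsConj t t' := isConj_iff.mpr ⟨g, rfl⟩
  exact h2.trans h1.symm

/-- The count of `u ∼ t` with `u t ∼ s`, when `t` inverts `s`. -/
theorem cnt_self9 (hS : SCW G) {s t : G} (hs : orderOf s = 3) (ht : orderOf t = 2) (hinv : t * s * t⁻¹ = s⁻¹) :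
    Cnt s t t = Nat.card (Cn t) := by
  classical
  have ht1 : t * t = 1 := by
    have := pow_orderOf_eq_one t
    rwa [ht, pow_two] at this
  have hti : t⁻¹ = t := inv_eq_of_mul_eq_one_right ht1
  have hne : t ≠ 1 := by
    rintro rfl
    rw [orderOf_one] at ht
    omega
  have hs3 : s ^ 3 = 1 := by rw [← hs]; exact pow_orderOf_eq_one s
  have hmem : ∀ h : Cn t, IsConj t ((h : G) * s * (h : G)⁻¹ * t) ∧
      IsConj ((h : G) * s * (h : G)⁻¹ * t * t) s := by
    intro h
    have hc := mem_Cn.mp h.2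
    set x := (h : G) * s * (h : G)⁻¹ with hx
    have hx3 : x ^ 3 = 1 := by
      have : x = (MulAut.conj (h : G)) s := rfl
      rw [this, ← map_pow, hs3, map_one]
    have hxinv : t * x * t⁻¹ = x⁻¹ := by
      have h1 : t * (h : G) = (h : G) * t := hc.symm
      rw [hx]
      calc t * ((h : G) * s * (h : G)⁻¹) * t⁻¹ = (t * (h : G)) * s * (t * (h : G))⁻¹ := by group
        _ = (h : G) * t * s * ((h : G) * t)⁻¹ := by rw [h1]
        _ = (h : G) * (t * s * t⁻¹) * (h : G)⁻¹ := by group
        _ = _ := by rw [hinv]; group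
    constructor
    · have h2 := mul_eq_conj (t := t) (s := x⁻¹) (by rw [inv_pow, hx3, inv_one]) (by
        have : t * x⁻¹ * t⁻¹ = (t * x * t⁻¹)⁻¹ := by group
        rw [this, hxinv])
      -- `x t = x⁻¹ t x`
      have h3 : x * t = x⁻¹ * t * x := by
        have h4 : t * x = x⁻¹ * t := by
          calc t * x = (t * x * t⁻¹) * t := by group
            _ = _ := by rw [hxinv]
        have h5 : x * x = x⁻¹ := by
          rw [eq_inv_iff_mul_eq_one]
          calc x * x * x = x ^ 3 := by rw [pow_succ, pow_two]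
            _ = 1 := hx3
        calc x * t = x⁻¹ * (x * x) * t := by group
          _ = x⁻¹ * x⁻¹ * t := by rw [h5]
          _ = x⁻¹ * (x⁻¹ * t) := by group
          _ = x⁻¹ * (t * x) := by rw [h4]
          _ = _ := by group
      rw [h3]
      exact isConj_iff.mpr ⟨x⁻¹, by group⟩
    · have h2 : x * t * t = x := by rw [mul_assoc, ht1, mul_one]
      rw [h2]
      exact (isConj_iff.mpr ⟨(h : G), rfl⟩ : IsConj s x).symm
  let F : Cn t → {u // IsConj t u ∧ IsConj (u * t) s} := fun h => ⟨_, hmem h⟩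
  have hF : Function.Bijective F := by
    constructor
    · intro h h' he
      have h1 : (h : G) * s * (h : G)⁻¹ * t = h' * s * (h' : G)⁻¹ * t := congrArg Subtype.val he
      have h2 : (h : G) * s * (h : G)⁻¹ = h' * s * (h' : G)⁻¹ := mul_right_cancel h1
      have h3 : ((h' : G)⁻¹ * h) * s = s * ((h' : G)⁻¹ * h) := by
        calc ((h' : G)⁻¹ * h) * s = (h' : G)⁻¹ * ((h : G) * s * (h : G)⁻¹) * h := by group
          _ = (h' : G)⁻¹ * (h' * s * (h' : G)⁻¹) * h := by rw [h2]
          _ = _ := by group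
      have h4 := hS s hs _ h3
      have h5 : (h' : G)⁻¹ * h ∈ Cn t := (Cn t).mul_mem ((Cn t).inv_mem h'.2) h.2
      have h6 : (h' : G)⁻¹ * h = 1 := by
        by_contra h7
        have h8 : orderOf ((h' : G)⁻¹ * h) = 3 := orderOf_eq_prime h4 h7
        exact not_comm_inv hS ht1 hne h8 (mem_Cn.mp h5).symm
      apply Subtype.ext
      have h9 := mul_eq_one_iff_eq_inv.mp h6
      exact (inv_inj.mp h9).symm
    · rintro ⟨u, hu1, hu2⟩
      obtain ⟨g, hg⟩ := isConj_iff.mp hu2.symm
      obtain ⟨g', hg'⟩ := isConj_iff.mp hu1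
      have hu : u * u = 1 := by
        rw [← hg']
        calc g' * t * g'⁻¹ * (g' * t * g'⁻¹) = g' * (t * t) * g'⁻¹ := by group
          _ = 1 := by rw [ht1]; group
      set y := u * t with hy
      have hy3 : orderOf y = 3 := by rw [← hs]; exact orderOf_of_isConj hu2
      set t' := g * t * g⁻¹ with ht'
      have ht'2 : t' * t' = 1 := by
        rw [ht']
        calc g * t * g⁻¹ * (g * t * g⁻¹) = g * (t * t) * g⁻¹ := by group
          _ = 1 := by rw [ht1]; group
      have ht'y : t' * y * t'⁻¹ = y⁻¹ := by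
        rw [← hg, ht']
        calc g * t * g⁻¹ * (g * s * g⁻¹) * (g * t * g⁻¹)⁻¹ = g * (t * s * t⁻¹) * g⁻¹ := by group
          _ = g * s⁻¹ * g⁻¹ := by rw [hinv]
          _ = _ := by group
      have hzy : t * y * t⁻¹ = y⁻¹ := by
        rw [hy, mul_inv_rev, hti, inv_eq_of_mul_eq_one_right hu]
        calc t * (u * t) * t = t * u * (t * t) := by group
          _ = _ := by rw [ht1]; group
      obtain ⟨w, hwy, hw⟩ := exists_w hS hy3 ht'2 ht1 ht'y hzy
      have hh : w⁻¹ * g ∈ Cn t := by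
        rw [mem_Cn]
        have h1 : g * t * g⁻¹ = w * t * w⁻¹ := by rw [hw]
        calc w⁻¹ * g * t = w⁻¹ * (g * t * g⁻¹) * g := by group
          _ = w⁻¹ * (w * t * w⁻¹) * g := by rw [h1]
          _ = _ := by group
      refine ⟨⟨w⁻¹ * g, hh⟩, ?_⟩
      apply Subtype.ext
      show w⁻¹ * g * s * (w⁻¹ * g)⁻¹ * t = u
      have h2 : w⁻¹ * g * s * (w⁻¹ * g)⁻¹ = y := by
        calc w⁻¹ * g * s * (w⁻¹ * g)⁻¹ = w⁻¹ * (g * s * g⁻¹) * w := by group
          _ = w⁻¹ * y * w := by rw [hg]
          _ = w⁻¹ * (w * y) := by rw [mul_assoc, hwy]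
          _ = y := by group
      rw [h2, hy, mul_assoc, ht1, mul_one]
  have h1 := Nat.card_congr (Equiv.ofBijective F hF)
  rw [Cnt, ← h1]

end SCW

end Cfsg.Agent.Lib.Blocks.TI9
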