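import Mathlib
import Cfsg.Agent.Lib.Blocks.TI9G

/-!
# Trivial intersection Sylow 3-subgroups of order 9: the case `|N(S) : S| = 4`, numerical data
-/

set_option autoImplicit false

namespace Cfsg.Agent.Lib.Blocks.TI9

open Cfsg Cfsg.Agent.Lib.Blocks.SC3 Cfsg.Agent.Lib.Blocks.Principal
open scoped ComplexConjugate

universe u

variable {G : Type u} [Group G] [Finite G]

/-- The setting of the main case. -/
structure Main (S : Subgroup G) (t s₁ s₂ : G) : Prop where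
  hF : Fpf9 S
  ht : orderOf t = 2
  htS : t ∉ S
  hinv : ∀ s ∈ S, t * s * t⁻¹ = s⁻¹
  h1 : s₁ ∈ S
  h2 : s₂ ∈ S
  n1 : s₁ ≠ 1
  n2 : s₂ ≠ 1
  hne : ¬ IsConj s₁ s₂
  hN : Nat.card (Nm S) = 36

namespace Main

variable {S : Subgroup G} {t s₁ s₂ : G}

theorem t2 (h : Main S t s₁ s₂) : t * t = 1 := by
  have := pow_orderOf_eq_one t
  rwa [h.ht, pow_two] at this

theorem t_ne (h : Main S t s₁ s₂) : t ≠ 1 := by
  intro h1
  have h2 := h.ht
  rw [h1, orderOf_one] at h2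
  omega

theorem o1 (h : Main S t s₁ s₂) : orderOf s₁ = 3 := h.hF.orderOf_eq h.h1 h.n1

theorem o2 (h : Main S t s₁ s₂) : orderOf s₂ = 3 := h.hF.orderOf_eq h.h2 h.n2

theorem r1 (h : Main S t s₁ s₂) : IsConj s₁ s₁⁻¹ := isConj_iff.mpr ⟨t, h.hinv s₁ h.h1⟩

theorem r2 (h : Main S t s₁ s₂) : IsConj s₂ s₂⁻¹ := isConj_iff.mpr ⟨t, h.hinv s₂ h.h2⟩

theorem c1 (h : Main S t s₁ s₂) : Nat.card (Cn s₁) = 9 := h.hF.card_Cn h.o1

theorem c2 (h : Main S t s₁ s₂) : Nat.card (Cn s₂) = 9 := h.hF.card_Cn h.o2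

theorem scw (h : Main S t s₁ s₂) : SCW G := h.hF.scw

theorem nc (h : Main S t s₁ s₂) : ∃ u v : G, u * v ≠ v * u :=
  ⟨t, s₁, not_comm_inv h.scw h.t2 h.t_ne h.o1⟩

/-- The sum of a class function over `S`. -/
theorem sum_S (h : Main S t s₁ s₂) [Fintype S] {ξ : G → ℂ} (hξ : ∀ g k : G, ξ (k * g * k⁻¹) = ξ g) :
    ∑ s : S, ξ s = ξ 1 + 4 * ξ s₁ + 4 * ξ s₂ := by
  classical
  haveI : Fintype G := Fintype.ofFinite G
  set F : Finset G := Finset.univ.filter (· ∈ S) with hF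
  set A : Finset G := Finset.univ.filter (· ∈ cls (Nm S) s₁) with hA
  set B : Finset G := Finset.univ.filter (· ∈ cls (Nm S) s₂) with hB
  have hcardF : F.card = 9 := by
    have := h.hF.card
    rw [Nat.card_eq_fintype_card, Fintype.card_subtype] at this
    convert this
  have hcA : A.card = 4 := by
    have h3 := h.hF.card_cls h.h1 h.n1
    rw [h.hN, Nat.card_eq_fintype_card, Fintype.card_subtype] at h3
    have h4 : A.card * 9 = 36 := by
      convert h3
    omega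
  have hcB : B.card = 4 := by
    have h3 := h.hF.card_cls h.h2 h.n2
    rw [h.hN, Nat.card_eq_fintype_card, Fintype.card_subtype] at h3
    have h4 : B.card * 9 = 36 := by
      convert h3
    omega
  have hdis : Disjoint A B := by
    rw [Finset.disjoint_left]
    intro x hx1 hx2
    simp only [hA, hB, Finset.mem_filter, Finset.mem_univ, true_and] at hx1 hx2
    obtain ⟨n, -, rfl⟩ := hx1
    obtain ⟨n', -, hn'⟩ := hx2
    apply h.hne
    have h5 : IsConj s₁ (n * s₁ * n⁻¹) := isConj_iff.mpr ⟨n, rfl⟩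
    have h6 : IsConj s₂ (n * s₁ * n⁻¹) := isConj_iff.mpr ⟨n', hn'⟩
    exact h5.trans h6.symm
  have h1A : (1 : G) ∉ A ∪ B := by
    intro h7
    rcases Finset.mem_union.mp h7 with h8 | h8
    · simp only [hA, Finset.mem_filter, Finset.mem_univ, true_and] at h8
      exact (h.hF.cls_sub h.h1 h.n1 h8).2 rfl
    · simp only [hB, Finset.mem_filter, Finset.mem_univ, true_and] at h8
      exact (h.hF.cls_sub h.h2 h.n2 h8).2 rfl
  have hsub : insert 1 (A ∪ B) ⊆ F := by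
    intro x hx
    simp only [hF, Finset.mem_filter, Finset.mem_univ, true_and]
    rcases Finset.mem_insert.mp hx with rfl | hx
    · exact S.one_mem
    · rcases Finset.mem_union.mp hx with h8 | h8
      · simp only [hA, Finset.mem_filter, Finset.mem_univ, true_and] at h8
        exact (h.hF.cls_sub h.h1 h.n1 h8).1
      · simp only [hB, Finset.mem_filter, Finset.mem_univ, true_and] at h8
        exact (h.hF.cls_sub h.h2 h.n2 h8).1
  have heq : insert 1 (A ∪ B) = F := by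
    apply Finset.eq_of_subset_of_card_le hsub
    rw [hcardF, Finset.card_insert_of_notMem h1A, Finset.card_union_of_disjoint hdis, hcA, hcB]
  have h2 : ∑ s : S, ξ s = ∑ x ∈ F, ξ x := by
    symm
    apply Finset.sum_subtype
    intro x
    simp [hF]
  have hsA : ∑ x ∈ A, ξ x = 4 * ξ s₁ := by
    rw [Finset.sum_congr rfl (fun x hx => ?_ : ∀ x ∈ A, ξ x = ξ s₁), Finset.sum_const, hcA]
    · simp
    · simp only [hA, Finset.mem_filter, Finset.mem_univ, true_and] at hx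
      obtain ⟨n, -, rfl⟩ := hx
      exact hξ _ _
  have hsB : ∑ x ∈ B, ξ x = 4 * ξ s₂ := by
    rw [Finset.sum_congr rfl (fun x hx => ?_ : ∀ x ∈ B, ξ x = ξ s₂), Finset.sum_const, hcB]
    · simp
    · simp only [hB, Finset.mem_filter, Finset.mem_univ, true_and] at hx
      obtain ⟨n, -, rfl⟩ := hx
      exact hξ _ _
  rw [h2, ← heq, Finset.sum_insert h1A, Finset.sum_union hdis, hsA, hsB]
  ring

/-- The `K`-bound in the main case. -/
theorem kb2 (h : Main S t s₁ s₂) {ξ : G → ℂ} (hξ : IsCharacter G ξ) :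
    ∃ u v : ℕ, ξ 1 + 4 * ξ s₁ + 4 * ξ s₂ + 9 * ξ t = 18 * u ∧ ξ 1 + 4 * ξ s₁ + 4 * ξ s₂ - 9 * ξ t = 18 * v := by
  classical
  haveI : Fintype S := Fintype.ofFinite S
  obtain ⟨u, v, hu, hv⟩ := kbound h.t2 h.hF.exp h.hinv h.htS hξ
  rw [h.sum_S (Cfsg.Agent.Lib.Char.Basic.isClassFunction_of_isCharacter hξ), h.hF.card] at hu hv
  refine ⟨u, v, ?_, ?_⟩
  · push_cast at hu
    linear_combination hu
  · push_cast at hv
    linear_combination hv

/-- The value at an involution of the first two exceptional characters coincide. -/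
theorem eq_of_col {s₁ s₂ : G} {χ₁ χ₂ β₁ β₂ β₃ : IrrCharacter G} {δ ρ₁ ρ₂ ρ₃ : ℤ} {a b₁ b₂ b₃ : ℕ}
    (hS : Six s₁ s₂ χ₁ χ₂ β₁ β₂ β₃ δ ρ₁ ρ₂ ρ₃ a b₁ b₂ b₃) {g : G} (h1 : ¬ IsConj g s₁) (h2 : ¬ IsConj g s₂) :
    (χ₁ : G → ℂ) g = (χ₂ : G → ℂ) g := by
  classical
  have e1 := hS.col1 g
  have e2 := hS.col2 g
  rw [if_neg h1] at e1
  rw [if_neg h2] at e2
  have hδ : (δ : ℂ) ≠ 0 := by
    rcases hS.hδ with rfl | rfl <;> norm_num
  have h3 : (δ : ℂ) * ((χ₁ : G → ℂ) g - (χ₂ : G → ℂ) g) = 0 := by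
    linear_combination (1 / 3 : ℂ) * e1 - (1 / 3 : ℂ) * e2
  have h4 := (mul_eq_zero.mp h3).resolve_left hδ
  linear_combination h4

end Main

end Cfsg.Agent.Lib.Blocks.TI9
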