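import Mathlib
import Cfsg.Agent.Lib.Blocks.TI9H

/-!
# Trivial intersection Sylow 3-subgroups of order 9: the numerical data of the main case
-/

set_option autoImplicit false

namespace Cfsg.Agent.Lib.Blocks.TI9

open Cfsg Cfsg.Agent.Lib.Blocks.SC3 Cfsg.Agent.Lib.Blocks.Principal
open scoped ComplexConjugate

universe u

variable {G : Type u} [Group G] [Finite G]

namespace Main

variable {S : Subgroup G} {t s₁ s₂ : G} {χ₁ χ₂ β₁ β₂ β₃ : IrrCharacter G} {δ ρ₁ ρ₂ ρ₃ : ℤ} {a b₁ b₂ b₃ : ℕ}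

theorem not_conj_invol {s g : G} (hs : orderOf s = 3) (hg : orderOf g = 2) : ¬ IsConj g s := by
  intro h
  have := orderOf_of_isConj h
  omega

theorem not_conj_one {s : G} (hs : orderOf s = 3) : ¬ IsConj (1 : G) s := by
  intro h
  have := orderOf_of_isConj h
  rw [orderOf_one] at this
  omega

theorem sq_one {x : ℤ} (h : x = 1 ∨ x = -1) : (x : ℂ) * x = 1 := by
  rcases h with rfl | rfl <;> simp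

theorem ne_zero_sign {x : ℤ} (h : x = 1 ∨ x = -1) : (x : ℂ) ≠ 0 := by
  rcases h with rfl | rfl <;> simp

/-- The relation at `t` coming from zero-forcing. -/
theorem rel_T (h : Main S t s₁ s₂) (hS : Six s₁ s₂ χ₁ χ₂ β₁ β₂ β₃ δ ρ₁ ρ₂ ρ₃ a b₁ b₂ b₃) {A B₁ B₂ B₃ : ℤ}
    (hA : (χ₁ : G → ℂ) t = A) (hA2 : (χ₂ : G → ℂ) t = A) (hB₁ : (β₁ : G → ℂ) t = B₁) (hB₂ : (β₂ : G → ℂ) t = B₂)
    (hB₃ : (β₃ : G → ℂ) t = B₃) :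
    (1 : ℂ) - 4 * A / a + B₁ / b₁ + B₂ / b₂ + B₃ / b₃ = 0 := by
  have e := hS.cnt2 s₁ t
  rw [cnt_mixed_eq_zero h.o1 h.o2 h.ht h.hne, hS.v11, hS.v21, hS.w11, hS.w21, hS.w31, hA, hA2, hB₁, hB₂, hB₃] at e
  have hidx : (((Cn s₁).index : ℕ) : ℂ) ≠ 0 := by
    exact_mod_cast (Subgroup.index_ne_zero_of_finite : (Cn s₁).index ≠ 0)
  have e2 : (1 : ℂ) + -2 * δ * (δ * A / a) + δ * (-2 * δ * A / a) + ρ₁ * (ρ₁ * B₁ / b₁) + ρ₂ * (ρ₂ * B₂ / b₂) + ρ₃ * (ρ₃ * B₃ / b₃) = 0 := by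
    have e3 : ((Cn s₁).index : ℂ) * ((1 : ℂ) + -2 * δ * (δ * A / a) + δ * (-2 * δ * A / a) + ρ₁ * (ρ₁ * B₁ / b₁) + ρ₂ * (ρ₂ * B₂ / b₂) + ρ₃ * (ρ₃ * B₃ / b₃)) = 0 := by
      rw [← e]
      simp
    exact (mul_eq_zero.mp e3).resolve_left hidx
  have d2 := sq_one hS.hδ
  have r1 := sq_one hS.hρ₁
  have r2 := sq_one hS.hρ₂
  have r3 := sq_one hS.hρ₃
  linear_combination e2 + (4 * A / a : ℂ) * d2 - (B₁ / b₁ : ℂ) * r1 - (B₂ / b₂ : ℂ) * r2 - (B₃ / b₃ : ℂ) * r3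

/-- Positivity of the value at `t`. -/
theorem rel_A (h : Main S t s₁ s₂) (hS : Six s₁ s₂ χ₁ χ₂ β₁ β₂ β₃ δ ρ₁ ρ₂ ρ₃ a b₁ b₂ b₃) {A B₁ B₂ B₃ : ℤ}
    (hA : (χ₁ : G → ℂ) t = A) (hA2 : (χ₂ : G → ℂ) t = A) (hB₁ : (β₁ : G → ℂ) t = B₁) (hB₂ : (β₂ : G → ℂ) t = B₂)
    (hB₃ : (β₃ : G → ℂ) t = B₃) : 0 ≤ A := by
  have e := hS.cnt1 s₁ t
  have hT := h.rel_T hS hA hA2 hB₁ hB₂ hB₃
  rw [hS.v11, hS.v21, hS.w11, hS.w21, hS.w31, hA, hA2, hB₁, hB₂, hB₃] at e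
  have hapos : (a : ℂ) ≠ 0 := by exact_mod_cast hS.ha.ne'
  have d2 := sq_one hS.hδ
  have r1 := sq_one hS.hρ₁
  have r2 := sq_one hS.hρ₂
  have r3 := sq_one hS.hρ₃
  have e2 : (1 : ℂ) + δ * (δ * A / a) + -2 * δ * (-2 * δ * A / a) + ρ₁ * (ρ₁ * B₁ / b₁) + ρ₂ * (ρ₂ * B₂ / b₂) + ρ₃ * (ρ₃ * B₃ / b₃) = 9 * A / a := by
    linear_combination hT + (5 * A / a : ℂ) * d2 + (B₁ / b₁ : ℂ) * r1 + (B₂ / b₂ : ℂ) * r2 + (B₃ / b₃ : ℂ) * r3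
  rw [e2] at e
  have e3 : ((Cnt s₁ s₁ t * a : ℕ) : ℂ) = (((Cn s₁).index : ℕ) : ℂ) * A := by
    push_cast
    have : (9 : ℂ) * (Cnt s₁ s₁ t * a) = 9 * (((Cn s₁).index : ℂ) * A) := by
      calc (9 : ℂ) * (Cnt s₁ s₁ t * a) = (9 * Cnt s₁ s₁ t) * a := by ring
        _ = ((Cn s₁).index : ℂ) * (9 * A / a) * a := by rw [e]
        _ = _ := by field_simp
    have h9 : (9 : ℂ) ≠ 0 := by norm_num
    exact mul_left_cancel₀ h9 this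
  have e4 : ((Cnt s₁ s₁ t * a : ℕ) : ℤ) = ((Cn s₁).index : ℤ) * A := by exact_mod_cast e3
  by_contra hneg
  have hneg' : A < 0 := by omega
  have hpos : (0 : ℤ) < ((Cn s₁).index : ℤ) := by
    exact_mod_cast Nat.pos_of_ne_zero (Subgroup.index_ne_zero_of_finite : (Cn s₁).index ≠ 0)
  have h5 : ((Cn s₁).index : ℤ) * A < 0 := mul_neg_of_pos_of_neg hpos hneg'
  have h6 : (0 : ℤ) ≤ ((Cnt s₁ s₁ t * a : ℕ) : ℤ) := Int.natCast_nonneg _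
  omega

/-- The numerical data of the main case. -/
theorem numdata [IsSimpleGroup G] (h : Main S t s₁ s₂) (hS : Six s₁ s₂ χ₁ χ₂ β₁ β₂ β₃ δ ρ₁ ρ₂ ρ₃ a b₁ b₂ b₃) :
    ∃ A B₁ B₂ B₃ u v u₁ v₁ u₂ v₂ u₃ v₃ : ℤ, (χ₁ : G → ℂ) t = A ∧ (χ₂ : G → ℂ) t = A ∧ (β₁ : G → ℂ) t = B₁ ∧
      (β₂ : G → ℂ) t = B₂ ∧ (β₃ : G → ℂ) t = B₃ ∧
      NumData δ ρ₁ ρ₂ ρ₃ a b₁ b₂ b₃ A B₁ B₂ B₃ u v u₁ v₁ u₂ v₂ u₃ v₃ := by
  classical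
  haveI : Fintype G := Fintype.ofFinite G
  have hch : ∀ ξ : IrrCharacter G, IsCharacter G (ξ : G → ℂ) := fun ξ =>
    Cfsg.Agent.Lib.Char.Basic.isCharacter_of_isIrrCharacter ξ.2
  obtain ⟨A, hA⟩ := Cfsg.Agent.Lib.Blocks.BSInd.exists_int_of_involution (hch χ₁) h.ht
  obtain ⟨B₁, hB₁⟩ := Cfsg.Agent.Lib.Blocks.BSInd.exists_int_of_involution (hch β₁) h.ht
  obtain ⟨B₂, hB₂⟩ := Cfsg.Agent.Lib.Blocks.BSInd.exists_int_of_involution (hch β₂) h.ht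
  obtain ⟨B₃, hB₃⟩ := Cfsg.Agent.Lib.Blocks.BSInd.exists_int_of_involution (hch β₃) h.ht
  have hA2 : (χ₂ : G → ℂ) t = A := by
    rw [← hA]
    exact (eq_of_col hS (not_conj_invol h.o1 h.ht) (not_conj_invol h.o2 h.ht)).symm
  obtain ⟨u, v, hu, hv⟩ := h.kb2 (hch χ₁)
  obtain ⟨u₁, v₁, hu₁, hv₁⟩ := h.kb2 (hch β₁)
  obtain ⟨u₂, v₂, hu₂, hv₂⟩ := h.kb2 (hch β₂)
  obtain ⟨u₃, v₃, hu₃, hv₃⟩ := h.kb2 (hch β₃)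
  rw [hS.d1, hS.v11, hS.v12, hA] at hu hv
  rw [hS.db₁, hS.w11, hS.w12, hB₁] at hu₁ hv₁
  rw [hS.db₂, hS.w21, hS.w22, hB₂] at hu₂ hv₂
  rw [hS.db₃, hS.w31, hS.w32, hB₃] at hu₃ hv₃
  have hT := h.rel_T hS hA hA2 hB₁ hB₂ hB₃
  have hA0 := h.rel_A hS hA hA2 hB₁ hB₂ hB₃
  have hd := hS.col1 1
  rw [if_neg (not_conj_one h.o1), hS.d1, hS.d2, hS.db₁, hS.db₂, hS.db₃] at hd
  have ha' : (a : ℂ) ≠ 0 := by exact_mod_cast hS.ha.ne'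
  have hb₁' : (b₁ : ℂ) ≠ 0 := by exact_mod_cast hS.hb₁.ne'
  have hb₂' : (b₂ : ℂ) ≠ 0 := by exact_mod_cast hS.hb₂.ne'
  have hb₃' : (b₃ : ℂ) ≠ 0 := by exact_mod_cast hS.hb₃.ne'
  refine ⟨A, B₁, B₂, B₃, u, v, u₁, v₁, u₂, v₂, u₃, v₃, hA, hA2, hB₁, hB₂, hB₃, ?_⟩
  refine ⟨hS.hδ, hS.hρ₁, hS.hρ₂, hS.hρ₃, by exact_mod_cast hS.ha, by exact_mod_cast hS.hb₁, by exact_mod_cast hS.hb₂,
    by exact_mod_cast hS.hb₃, ?_, ?_, ?_, by positivity, by positivity, by positivity, by positivity, by positivity,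
    by positivity, by positivity, by positivity, ?_, ?_, ?_, ?_, ?_, ?_, ?_, ?_, hA0, ?_, ?_⟩
  · have := degree_ne_one_of_simple h.nc hS.ntb₁ hS.db₁
    exact_mod_cast this
  · have := degree_ne_one_of_simple h.nc hS.ntb₂ hS.db₂
    exact_mod_cast this
  · have := degree_ne_one_of_simple h.nc hS.ntb₃ hS.db₃
    exact_mod_cast this
  · have : (((a : ℤ) - 4 * δ + 9 * A : ℤ) : ℂ) = ((18 * u : ℤ) : ℂ) := by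
      push_cast
      linear_combination hu
    exact_mod_cast this
  · have : (((a : ℤ) - 4 * δ - 9 * A : ℤ) : ℂ) = ((18 * v : ℤ) : ℂ) := by
      push_cast
      linear_combination hv
    exact_mod_cast this
  · have : (((b₁ : ℤ) + 8 * ρ₁ + 9 * B₁ : ℤ) : ℂ) = ((18 * u₁ : ℤ) : ℂ) := by
      push_cast
      linear_combination hu₁
    exact_mod_cast this
  · have : (((b₁ : ℤ) + 8 * ρ₁ - 9 * B₁ : ℤ) : ℂ) = ((18 * v₁ : ℤ) : ℂ) := by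
      push_cast
      linear_combination hv₁
    exact_mod_cast this
  · have : (((b₂ : ℤ) + 8 * ρ₂ + 9 * B₂ : ℤ) : ℂ) = ((18 * u₂ : ℤ) : ℂ) := by
      push_cast
      linear_combination hu₂
    exact_mod_cast this
  · have : (((b₂ : ℤ) + 8 * ρ₂ - 9 * B₂ : ℤ) : ℂ) = ((18 * v₂ : ℤ) : ℂ) := by
      push_cast
      linear_combination hv₂
    exact_mod_cast this
  · have : (((b₃ : ℤ) + 8 * ρ₃ + 9 * B₃ : ℤ) : ℂ) = ((18 * u₃ : ℤ) : ℂ) := by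
      push_cast
      linear_combination hu₃
    exact_mod_cast this
  · have : (((b₃ : ℤ) + 8 * ρ₃ - 9 * B₃ : ℤ) : ℂ) = ((18 * v₃ : ℤ) : ℂ) := by
      push_cast
      linear_combination hv₃
    exact_mod_cast this
  · have : ((1 - δ * (a : ℤ) + ρ₁ * (b₁ : ℤ) + ρ₂ * (b₂ : ℤ) + ρ₃ * (b₃ : ℤ) : ℤ) : ℂ) = ((0 : ℤ) : ℂ) := by
      push_cast
      linear_combination hd
    exact_mod_cast this
  · have : (((a : ℤ) * b₁ * b₂ * b₃ - 4 * A * b₁ * b₂ * b₃ + B₁ * a * b₂ * b₃ + B₂ * a * b₁ * b₃ + B₃ * a * b₁ * b₂ : ℤ) : ℂ) = ((0 : ℤ) : ℂ) := by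
      push_cast
      have e : (a : ℂ) * b₁ * b₂ * b₃ - 4 * A * b₁ * b₂ * b₃ + B₁ * a * b₂ * b₃ + B₂ * a * b₁ * b₃ + B₃ * a * b₁ * b₂ =
          (a : ℂ) * b₁ * b₂ * b₃ * ((1 : ℂ) - 4 * A / a + B₁ / b₁ + B₂ / b₂ + B₃ / b₃) := by
        field_simp
      rw [e, hT, mul_zero]
    exact_mod_cast this

/-- The value of `|C(t)|` in terms of the characters. -/
theorem val_tt (h : Main S t s₁ s₂) (hS : Six s₁ s₂ χ₁ χ₂ β₁ β₂ β₃ δ ρ₁ ρ₂ ρ₃ a b₁ b₂ b₃) {A B₁ B₂ B₃ : ℤ}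
    (hA : (χ₁ : G → ℂ) t = A) (hA2 : (χ₂ : G → ℂ) t = A) (hB₁ : (β₁ : G → ℂ) t = B₁) (hB₂ : (β₂ : G → ℂ) t = B₂)
    (hB₃ : (β₃ : G → ℂ) t = B₃) :
    9 * (Nat.card (Cn t) : ℂ) = ((Cn t).index : ℂ) * (1 - δ * (A * A / a) + ρ₁ * (B₁ * B₁ / b₁) + ρ₂ * (B₂ * B₂ / b₂) +
      ρ₃ * (B₃ * B₃ / b₃)) := by
  have e := hS.cnt1 t t
  rw [cnt_self9 h.scw h.o1 h.ht (h.hinv s₁ h.h1), hA, hA2, hB₁, hB₂, hB₃] at e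
  rw [e]
  ring

/-- Arithmetic of the value `a = 14`. -/
theorem no_14 {c m n : ℕ} (hn : c * m = n) (h9 : 9 ∣ n) (h3 : ¬ 3 ∣ c) (h : 35 * c = 8 * m) : False := by
  have hc : Nat.Coprime 9 c := by
    have h4 : Nat.Coprime 3 c := (Nat.Prime.coprime_iff_not_dvd Nat.prime_three).mpr h3
    exact Nat.Coprime.pow_left 2 h4
  have hm : 9 ∣ m := by
    rw [← hn] at h9
    exact hc.dvd_of_dvd_mul_left h9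
  have h5 : 9 ∣ 35 * c := by
    rw [h]
    exact Dvd.dvd.mul_left hm 8
  have h6 : 9 ∣ c := (by norm_num : Nat.Coprime 9 35).dvd_of_dvd_mul_left h5
  exact h3 (dvd_trans (by norm_num) h6)

theorem not3_c (h : Main S t s₁ s₂) : ¬ 3 ∣ Nat.card (Cn t) :=
  cop_of_le h.scw h.t2 h.t_ne le_rfl

theorem card_index (t : G) : Nat.card (Cn t) * (Cn t).index = Nat.card G :=
  Subgroup.card_mul_index _

/-- The case `a = 14` does not occur. -/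
theorem not14 (h : Main S t s₁ s₂) (hS : Six s₁ s₂ χ₁ χ₂ β₁ β₂ β₃ (-1) ρ₁ ρ₂ ρ₃ 14 b₁ b₂ b₃) {B₁ B₂ B₃ : ℤ}
    (hA : (χ₁ : G → ℂ) t = (2 : ℤ)) (hA2 : (χ₂ : G → ℂ) t = (2 : ℤ)) (hB₁ : (β₁ : G → ℂ) t = B₁) (hB₂ : (β₂ : G → ℂ) t = B₂)
    (hB₃ : (β₃ : G → ℂ) t = B₃) (hq : (ρ₁ : ℚ) * B₁ ^ 2 / b₁ + (ρ₂ : ℚ) * B₂ ^ 2 / b₂ + (ρ₃ : ℚ) * B₃ ^ 2 / b₃ = 27 / 35) : False := by
  have e := h.val_tt hS hA hA2 hB₁ hB₂ hB₃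
  have hq' : (ρ₁ : ℂ) * (B₁ * B₁ / b₁) + (ρ₂ : ℂ) * (B₂ * B₂ / b₂) + (ρ₃ : ℂ) * (B₃ * B₃ / b₃) = 27 / 35 := by
    have := congrArg (fun x : ℚ => (x : ℂ)) hq
    push_cast at this
    linear_combination this
  have e2 : 35 * (Nat.card (Cn t) : ℂ) = 8 * ((Cn t).index : ℂ) := by
    have e3 : (9 : ℂ) * (35 * (Nat.card (Cn t) : ℂ)) = 9 * (8 * ((Cn t).index : ℂ)) := by
      calc (9 : ℂ) * (35 * (Nat.card (Cn t) : ℂ)) = 35 * (9 * (Nat.card (Cn t) : ℂ)) := by ring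
        _ = _ := by
          rw [e]
          push_cast
          have e4 : (1 : ℂ) - (-1) * (2 * 2 / (14 : ℂ)) + ρ₁ * (B₁ * B₁ / b₁) + ρ₂ * (B₂ * B₂ / b₂) + ρ₃ * (B₃ * B₃ / b₃) = 72 / 35 := by
            linear_combination hq'
          rw [e4]
          ring
    exact mul_left_cancel₀ (by norm_num) e3
  have e5 : 35 * Nat.card (Cn t) = 8 * (Cn t).index := by exact_mod_cast e2
  refine no_14 (card_index t) ?_ h.not3_c e5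
  rw [← h.hF.card]
  exact Subgroup.card_subgroup_dvd_card S

/-- After the numerical analysis: `δ = -1`, `a = 5`, `A = 1`. -/
theorem main_values [IsSimpleGroup G] (h : Main S t s₁ s₂) (hS : Six s₁ s₂ χ₁ χ₂ β₁ β₂ β₃ δ ρ₁ ρ₂ ρ₃ a b₁ b₂ b₃) :
    ∃ B₁ B₂ B₃ u v u₁ v₁ u₂ v₂ u₃ v₃ : ℤ, δ = -1 ∧ a = 5 ∧ (χ₁ : G → ℂ) t = (1 : ℤ) ∧ (χ₂ : G → ℂ) t = (1 : ℤ) ∧ (β₁ : G → ℂ) t = B₁ ∧
      (β₂ : G → ℂ) t = B₂ ∧ (β₃ : G → ℂ) t = B₃ ∧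
      NumData (-1) ρ₁ ρ₂ ρ₃ 5 b₁ b₂ b₃ 1 B₁ B₂ B₃ u v u₁ v₁ u₂ v₂ u₃ v₃ := by
  obtain ⟨A, B₁, B₂, B₃, u, v, u₁, v₁, u₂, v₂, u₃, v₃, hA, hA2, hB₁, hB₂, hB₃, hD⟩ := h.numdata hS
  have hC := numeric hD
  rcases hC with ⟨rfl, ha, rfl⟩ | ⟨rfl, ha, rfl, hq⟩
  · have ha5 : a = 5 := by exact_mod_cast ha
    subst ha5
    exact ⟨B₁, B₂, B₃, u, v, u₁, v₁, u₂, v₂, u₃, v₃, rfl, rfl, hA, hA2, hB₁, hB₂, hB₃, by exact_mod_cast hD⟩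
  · exfalso
    have ha14 : a = 14 := by exact_mod_cast ha
    subst ha14
    have hq' : (ρ₁ : ℚ) * (B₁ : ℚ) ^ 2 / (b₁ : ℚ) + (ρ₂ : ℚ) * (B₂ : ℚ) ^ 2 / (b₂ : ℚ) + (ρ₃ : ℚ) * (B₃ : ℚ) ^ 2 / (b₃ : ℚ) = 27 / 35 := by
      exact_mod_cast hq
    exact h.not14 hS hA hA2 hB₁ hB₂ hB₃ hq'

end Main

end Cfsg.Agent.Lib.Blocks.TI9
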