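import Mathlib
import Cfsg.Agent.Lib.Blocks.TI9I

/-!
# Trivial intersection Sylow 3-subgroups of order 9: the square of the character of degree 5
-/

set_option autoImplicit false

namespace Cfsg.Agent.Lib.Blocks.TI9

open Cfsg Cfsg.Agent.Lib.Blocks.SC3 Cfsg.Agent.Lib.Blocks.Principal
open scoped ComplexConjugate

universe u

section Numeric

variable {b₁ b₂ b₃ B₁ B₂ B₃ M₁ M₂ m₁ m₂ m₃ u' v' u v u₁ v₁ u₂ v₂ u₃ v₃ : ℤ}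

theorem tensor_finish (hu₂ : 0 ≤ u₂) (hv₂ : 0 ≤ v₂) (hu₃ : 0 ≤ u₃) (hv₃ : 0 ≤ v₃)
    (e21 : b₂ + 8 * (-1) + 9 * B₂ = 18 * u₂) (e22 : b₂ + 8 * (-1) - 9 * B₂ = 18 * v₂)
    (e31 : b₃ + 8 * (-1) + 9 * B₃ = 18 * u₃) (e32 : b₃ + 8 * (-1) - 9 * B₃ = 18 * v₃)
    (hdeg : 1 - (-1) * 5 + 1 * b₁ + (-1) * b₂ + (-1) * b₃ = 0)
    (hT : 5 * b₁ * b₂ * b₃ - 4 * 1 * b₁ * b₂ * b₃ + B₁ * 5 * b₂ * b₃ + B₂ * 5 * b₁ * b₃ + B₃ * 5 * b₁ * b₂ = 0)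
    (h9 : b₁ = 10 ∨ b₁ = 19) : b₁ = 10 ∧ B₁ = -2 ∧ b₂ = 8 ∧ B₂ = 0 ∧ b₃ = 8 ∧ B₃ = 0 := by
  have h1 : b₂ = 9 * (u₂ + v₂) + 8 := by clear hT; omega
  have h2 : b₃ = 9 * (u₃ + v₃) + 8 := by clear hT; omega
  rcases h9 with h9 | h9
  · have h10 : u₂ + v₂ + (u₃ + v₃) = 0 := by clear hT; omega
    have h11 : b₂ = 8 := by clear hT; omega
    have h12 : b₃ = 8 := by clear hT; omega
    have h14 : B₂ = 0 := by clear hT; omega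
    have h16 : B₃ = 0 := by clear hT; omega
    subst h9 h11 h12 h14 h16
    norm_num at hT
    refine ⟨rfl, by omega, rfl, rfl, rfl, rfl⟩
  · exfalso
    have h11 : u₂ + v₂ + (u₃ + v₃) = 1 := by clear hT; omega
    have h12 : (b₂ = 8 ∧ b₃ = 17) ∨ (b₂ = 17 ∧ b₃ = 8) := by clear hT; omega
    rcases h12 with ⟨h13, h14⟩ | ⟨h13, h14⟩
    · subst h9 h13 h14
      norm_num at hT
      omega
    · subst h9 h13 h14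
      norm_num at hT
      omega

theorem tensor_one (h : NumData (-1) 1 (-1) (-1) 5 b₁ b₂ b₃ 1 B₁ B₂ B₃ u v u₁ v₁ u₂ v₂ u₃ v₃)
    (hM₁ : 0 ≤ M₁) (hM₂ : 0 ≤ M₂) (hm₁ : 0 ≤ m₁) (hm₂ : 0 ≤ m₂) (hm₃ : 0 ≤ m₃) (hu' : 0 ≤ u') (hv' : 0 ≤ v')
    (hs1 : 1 = 1 - M₁ + 2 * M₂ + m₁ - m₂ - m₃)
    (hs2 : 4 = 1 + 2 * M₁ - M₂ + m₁ - m₂ - m₃)
    (hd : 25 = 9 * (u' + v') + 1 + 5 * M₁ + 5 * M₂ + m₁ * b₁ + m₂ * b₂ + m₃ * b₃)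
    (hi₁ : 1 ≤ m₁) :
    b₁ = 10 ∧ B₁ = -2 ∧ b₂ = 8 ∧ B₂ = 0 ∧ b₃ = 8 ∧ B₃ = 0 := by
  obtain ⟨-, -, -, -, ha, hb₁, hb₂, hb₃, hb₁1, hb₂1, hb₃1, hu, hv, hu₁, hv₁, hu₂, hv₂, hu₃, hv₃, e1, e2, e11, e12, e21, e22,
    e31, e32, hA, hdeg, hT⟩ := h
  have h1 : b₁ = 9 * (u₁ + v₁) - 8 := by omega
  have h2 : b₂ = 9 * (u₂ + v₂) + 8 := by omega
  have h3 : b₃ = 9 * (u₃ + v₃) + 8 := by omega
  have h4 : 2 ≤ u₁ + v₁ := by omega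
  have hb10 : 10 ≤ b₁ := by omega
  have hb28 : 8 ≤ b₂ := by omega
  have hb38 : 8 ≤ b₃ := by omega
  have hp1 : 10 ≤ m₁ * b₁ := by nlinarith
  have hp2 : 0 ≤ m₂ * b₂ := by positivity
  have hp3 : 0 ≤ m₃ * b₃ := by positivity
  have hM : M₁ = M₂ + 1 := by omega
  have hM2 : M₂ = 0 := by omega
  have hm : m₁ = 1 + m₂ + m₃ := by omega
  have hm20 : m₂ = 0 := by
    by_contra hne
    have h5 : 1 ≤ m₂ := by omega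
    have h6 : 2 ≤ m₁ := by omega
    have h7 : 20 ≤ m₁ * b₁ := by nlinarith
    omega
  have hm30 : m₃ = 0 := by
    by_contra hne
    have h5 : 1 ≤ m₃ := by omega
    have h6 : 2 ≤ m₁ := by omega
    have h7 : 20 ≤ m₁ * b₁ := by nlinarith
    omega
  have hm1 : m₁ = 1 := by omega
  rw [hm1, hm20, hm30] at hd
  have h8 : b₁ + 9 * (u' + v') = 19 := by omega
  have h9 : b₁ = 10 ∨ b₁ = 19 := by omega
  exact tensor_finish hu₂ hv₂ hu₃ hv₃ e21 e22 e31 e32 hdeg hT h9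

/-- The conclusion of the tensor analysis. -/
def TensorConcl (ρ₁ ρ₂ ρ₃ b₁ b₂ b₃ B₁ B₂ B₃ : ℤ) : Prop :=
  (ρ₁ = 1 ∧ ρ₂ = -1 ∧ ρ₃ = -1 ∧ b₁ = 10 ∧ B₁ = -2 ∧ b₂ = 8 ∧ B₂ = 0 ∧ b₃ = 8 ∧ B₃ = 0) ∨
  (ρ₁ = -1 ∧ ρ₂ = 1 ∧ ρ₃ = -1 ∧ b₂ = 10 ∧ B₂ = -2 ∧ b₁ = 8 ∧ B₁ = 0 ∧ b₃ = 8 ∧ B₃ = 0) ∨
  (ρ₁ = -1 ∧ ρ₂ = -1 ∧ ρ₃ = 1 ∧ b₃ = 10 ∧ B₃ = -2 ∧ b₂ = 8 ∧ B₂ = 0 ∧ b₁ = 8 ∧ B₁ = 0)

theorem tensor_all {ρ₁ ρ₂ ρ₃ : ℤ} (h : NumData (-1) ρ₁ ρ₂ ρ₃ 5 b₁ b₂ b₃ 1 B₁ B₂ B₃ u v u₁ v₁ u₂ v₂ u₃ v₃)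
    (hM₁ : 0 ≤ M₁) (hM₂ : 0 ≤ M₂) (hm₁ : 0 ≤ m₁) (hm₂ : 0 ≤ m₂) (hm₃ : 0 ≤ m₃) (hu' : 0 ≤ u') (hv' : 0 ≤ v')
    (hs1 : 1 = 1 - M₁ + 2 * M₂ + m₁ * ρ₁ + m₂ * ρ₂ + m₃ * ρ₃)
    (hs2 : 4 = 1 + 2 * M₁ - M₂ + m₁ * ρ₁ + m₂ * ρ₂ + m₃ * ρ₃)
    (hd : 25 = 9 * (u' + v') + 1 + 5 * M₁ + 5 * M₂ + m₁ * b₁ + m₂ * b₂ + m₃ * b₃)
    (hh : 1 = (u' - v') + 1 + M₁ + M₂ + m₁ * B₁ + m₂ * B₂ + m₃ * B₃)
    (hi₁ : ρ₁ ≤ m₁) (hi₂ : ρ₂ ≤ m₂) (hi₃ : ρ₃ ≤ m₃) : TensorConcl ρ₁ ρ₂ ρ₃ b₁ b₂ b₃ B₁ B₂ B₃ := by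
  have hlow : ∀ {ρ b B u v : ℤ}, (ρ = 1 ∨ ρ = -1) → 0 < b → b ≠ 1 → 0 ≤ u → 0 ≤ v → b + 8 * ρ + 9 * B = 18 * u →
      b + 8 * ρ - 9 * B = 18 * v → 8 ≤ b ∧ (ρ = 1 → 10 ≤ b) := by
    intro ρ b B u v hρ hb hb1 hu hv e1 e2
    rcases hρ with rfl | rfl
    · refine ⟨by omega, fun _ => by omega⟩
    · refine ⟨by omega, fun h => by omega⟩
  have hl₁ := hlow h.hρ₁ h.hb₁ h.hb₁1 h.hu₁ h.hv₁ h.e11 h.e12
  have hl₂ := hlow h.hρ₂ h.hb₂ h.hb₂1 h.hu₂ h.hv₂ h.e21 h.e22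
  have hl₃ := hlow h.hρ₃ h.hb₃ h.hb₃1 h.hu₃ h.hv₃ h.e31 h.e32
  have hp1 : 0 ≤ m₁ * b₁ := mul_nonneg hm₁ h.hb₁.le
  have hp2 : 0 ≤ m₂ * b₂ := mul_nonneg hm₂ h.hb₂.le
  have hp3 : 0 ≤ m₃ * b₃ := mul_nonneg hm₃ h.hb₃.le
  have hbig : ∀ {x y : ℤ}, 1 ≤ x → 10 ≤ y → 10 ≤ x * y := fun {x y} h1 h2 => by nlinarith
  rcases h.hρ₁ with r1 | r1 <;> rcases h.hρ₂ with r2 | r2 <;> rcases h.hρ₃ with r3 | r3 <;> subst r1 r2 r3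
  · exfalso
    have h1 := hbig (by omega : 1 ≤ m₁) (hl₁.2 rfl)
    have h2 := hbig (by omega : 1 ≤ m₂) (hl₂.2 rfl)
    omega
  · exfalso
    have h1 := hbig (by omega : 1 ≤ m₁) (hl₁.2 rfl)
    have h2 := hbig (by omega : 1 ≤ m₂) (hl₂.2 rfl)
    omega
  · exfalso
    have h1 := hbig (by omega : 1 ≤ m₁) (hl₁.2 rfl)
    have h2 := hbig (by omega : 1 ≤ m₃) (hl₃.2 rfl)
    omega
  · left
    obtain ⟨h1, h2, h3, h4, h5, h6⟩ := tensor_one h hM₁ hM₂ hm₁ hm₂ hm₃ hu' hv' (by omega) (by omega) hd (by omega)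
    exact ⟨rfl, rfl, rfl, h1, h2, h3, h4, h5, h6⟩
  · exfalso
    have h1 := hbig (by omega : 1 ≤ m₂) (hl₂.2 rfl)
    have h2 := hbig (by omega : 1 ≤ m₃) (hl₃.2 rfl)
    omega
  · right; left
    have hd' : 25 = 9 * (u' + v') + 1 + 5 * M₁ + 5 * M₂ + m₂ * b₂ + m₁ * b₁ + m₃ * b₃ := by linarith
    obtain ⟨h1, h2, h3, h4, h5, h6⟩ := tensor_one h.swap12 hM₁ hM₂ hm₂ hm₁ hm₃ hu' hv' (by omega) (by omega) hd' (by omega)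
    exact ⟨rfl, rfl, rfl, h1, h2, h3, h4, h5, h6⟩
  · right; right
    have hd' : 25 = 9 * (u' + v') + 1 + 5 * M₁ + 5 * M₂ + m₃ * b₃ + m₂ * b₂ + m₁ * b₁ := by linarith
    obtain ⟨h1, h2, h3, h4, h5, h6⟩ := tensor_one h.swap13 hM₁ hM₂ hm₃ hm₂ hm₁ hu' hv' (by omega) (by omega) hd' (by omega)
    exact ⟨rfl, rfl, rfl, h1, h2, h3, h4, h5, h6⟩
  · exfalso
    have h1 : M₂ = M₁ - 1 := by omega
    have h2 : M₁ = m₁ + m₂ + m₃ + 2 := by omega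
    have h3 : m₁ = 0 := by omega
    have h4 : m₂ = 0 := by omega
    have h5 : m₃ = 0 := by omega
    subst h3 h4 h5
    simp only [zero_mul, add_zero] at hd hh
    omega

end Numeric

variable {G : Type u} [Group G] [Finite G]

variable {S : Subgroup G} {t s₁ s₂ : G} {χ₁ χ₂ β₁ β₂ β₃ : IrrCharacter G} {δ ρ₁ ρ₂ ρ₃ : ℤ} {a b₁ b₂ b₃ : ℕ}

namespace Six

attribute [local instance] Classical.propDecidable

theorem swap12 (h : Six s₁ s₂ χ₁ χ₂ β₁ β₂ β₃ δ ρ₁ ρ₂ ρ₃ a b₁ b₂ b₃) : Six s₁ s₂ χ₁ χ₂ β₂ β₁ β₃ δ ρ₂ ρ₁ ρ₃ a b₂ b₁ b₃ :=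
  { hδ := h.hδ, hρ₁ := h.hρ₂, hρ₂ := h.hρ₁, hρ₃ := h.hρ₃, v11 := h.v11, v21 := h.v21, v12 := h.v12, v22 := h.v22,
    w11 := h.w21, w21 := h.w11, w31 := h.w31, w12 := h.w22, w22 := h.w12, w32 := h.w32, ha := h.ha, hb₁ := h.hb₂,
    hb₂ := h.hb₁, hb₃ := h.hb₃, d1 := h.d1, d2 := h.d2, db₁ := h.db₂, db₂ := h.db₁, db₃ := h.db₃,
    col1 := fun g => by rw [← h.col1 g]; ring,
    col2 := fun g => by rw [← h.col2 g]; ring,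
    cnt1 := fun w g => by rw [h.cnt1 w g]; ring,
    cnt2 := fun w g => by rw [h.cnt2 w g]; ring,
    nt₁ := h.nt₁, nt₂ := h.nt₂, ntb₁ := h.ntb₂, ntb₂ := h.ntb₁, ntb₃ := h.ntb₃, n12 := h.n12, n1b₁ := h.n1b₂,
    n1b₂ := h.n1b₁, n1b₃ := h.n1b₃, n2b₁ := h.n2b₂, n2b₂ := h.n2b₁, n2b₃ := h.n2b₃, nb12 := h.nb12.symm,
    nb13 := h.nb23, nb23 := h.nb13,
    rest := fun ξ a1 a2 a3 a4 a5 a6 => h.rest ξ a1 a2 a3 a5 a4 a6 }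

theorem swap13 (h : Six s₁ s₂ χ₁ χ₂ β₁ β₂ β₃ δ ρ₁ ρ₂ ρ₃ a b₁ b₂ b₃) : Six s₁ s₂ χ₁ χ₂ β₃ β₂ β₁ δ ρ₃ ρ₂ ρ₁ a b₃ b₂ b₁ :=
  { hδ := h.hδ, hρ₁ := h.hρ₃, hρ₂ := h.hρ₂, hρ₃ := h.hρ₁, v11 := h.v11, v21 := h.v21, v12 := h.v12, v22 := h.v22,
    w11 := h.w31, w21 := h.w21, w31 := h.w11, w12 := h.w32, w22 := h.w22, w32 := h.w12, ha := h.ha, hb₁ := h.hb₃,
    hb₂ := h.hb₂, hb₃ := h.hb₁, d1 := h.d1, d2 := h.d2, db₁ := h.db₃, db₂ := h.db₂, db₃ := h.db₁,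
    col1 := fun g => by rw [← h.col1 g]; ring,
    col2 := fun g => by rw [← h.col2 g]; ring,
    cnt1 := fun w g => by rw [h.cnt1 w g]; ring,
    cnt2 := fun w g => by rw [h.cnt2 w g]; ring,
    nt₁ := h.nt₁, nt₂ := h.nt₂, ntb₁ := h.ntb₃, ntb₂ := h.ntb₂, ntb₃ := h.ntb₁, n12 := h.n12, n1b₁ := h.n1b₃,
    n1b₂ := h.n1b₂, n1b₃ := h.n1b₁, n2b₁ := h.n2b₃, n2b₂ := h.n2b₂, n2b₃ := h.n2b₁, nb12 := h.nb23.symm,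
    nb13 := h.nb13.symm, nb23 := h.nb12.symm,
    rest := fun ξ a1 a2 a3 a4 a5 a6 => h.rest ξ a1 a2 a3 a6 a5 a4 }

/-- The character `χ₁` is real. -/
theorem conj_eq (hS : Six s₁ s₂ χ₁ χ₂ β₁ β₂ β₃ δ ρ₁ ρ₂ ρ₃ a b₁ b₂ b₃) (g : G) :
    conj ((χ₁ : G → ℂ) g) = (χ₁ : G → ℂ) g := by
  classical
  haveI : Fintype G := Fintype.ofFinite G
  have hc := Cfsg.Agent.Lib.Char.Basic.isCharacter_of_isIrrCharacter χ₁.2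
  have hX := Cfsg.Agent.Lib.Char.Ortho.isCharacter_conj hc
  have hnorm : classInner (fun g => conj ((χ₁ : G → ℂ) g)) (fun g => conj ((χ₁ : G → ℂ) g)) = 1 := by
    have h1 := Cfsg.Agent.Lib.Char.Ortho.classInner_irr_self χ₁.2
    rw [Cfsg.Agent.Lib.Char.Induced.classInner_def] at h1 ⊢
    rw [← h1]
    congr 1
    refine Finset.sum_congr rfl fun x _ => ?_
    rw [Complex.conj_conj, mul_comm]
  have hirr := Cfsg.Agent.Lib.Char.Ortho.isIrrCharacter_of_classInner_self_eq_one hX hnorm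
  set ξ : IrrCharacter G := ⟨_, hirr⟩ with hξ
  have hv1 : (ξ : G → ℂ) s₁ = δ := by
    show conj ((χ₁ : G → ℂ) s₁) = δ
    rw [hS.v11]
    simp
  have hv2 : (ξ : G → ℂ) s₂ = -2 * δ := by
    show conj ((χ₁ : G → ℂ) s₂) = -2 * δ
    rw [hS.v12]
    have h1 : (-2 * (δ : ℂ)) = ((-2 * δ : ℤ) : ℂ) := by push_cast; ring
    rw [h1, map_intCast]
  have hδ0 : (δ : ℂ) ≠ 0 := by
    rcases hS.hδ with rfl | rfl <;> simp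
  have hne1 : (δ : ℂ) ≠ -2 * δ := by
    intro h1
    have h2 : (3 : ℂ) * δ = 0 := by linear_combination h1
    rcases mul_eq_zero.mp h2 with h3 | h3
    · norm_num at h3
    · exact hδ0 h3
  have hne2 : (-2 * (δ : ℂ)) ≠ δ := fun h => hne1 h.symm
  have hξχ : ξ = χ₁ := by
    by_contra hne
    by_cases h0 : ξ = trivChar G
    · have h1 : (ξ : G → ℂ) s₁ = (ξ : G → ℂ) s₂ := by
        rw [h0]
        simp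
      rw [hv1, hv2] at h1
      exact hne1 h1
    by_cases h2 : ξ = χ₂
    · have h3 := hv1
      rw [h2, hS.v21] at h3
      exact hne2 h3
    by_cases h3 : ξ = β₁
    · have h4 := hv1
      have h5 := hv2
      rw [h3, hS.w11] at h4
      rw [h3, hS.w12] at h5
      rw [h4] at h5
      exact hne1 h5
    by_cases h4 : ξ = β₂
    · have h5 := hv1
      have h6 := hv2
      rw [h4, hS.w21] at h5
      rw [h4, hS.w22] at h6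
      rw [h5] at h6
      exact hne1 h6
    by_cases h5 : ξ = β₃
    · have h6 := hv1
      have h7 := hv2
      rw [h5, hS.w31] at h6
      rw [h5, hS.w32] at h7
      rw [h6] at h7
      exact hne1 h7
    have h6 := (hS.rest ξ h0 hne h2 h3 h4 h5).1
    rw [hv1] at h6
    exact hδ0 h6
  have h7 : (ξ : G → ℂ) g = (χ₁ : G → ℂ) g := by rw [hξχ]
  exact h7

theorem inner_ne [Fintype G] {ξ ψ : IrrCharacter G} (h : ξ ≠ ψ) : classInner (ξ : G → ℂ) (ψ : G → ℂ) = 0 :=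
  Cfsg.Agent.Lib.Char.Ortho.classInner_irr_of_ne ξ.2 ψ.2 (fun h1 => h (Subtype.ext h1))

/-- The pointwise identity for `χ₁ χ₂`. -/
theorem prod_identity (hS : Six s₁ s₂ χ₁ χ₂ β₁ β₂ β₃ (-1) ρ₁ ρ₂ ρ₃ a b₁ b₂ b₃) (g : G) :
    (χ₁ : G → ℂ) g * (χ₂ : G → ℂ) g = (χ₁ : G → ℂ) g * (χ₁ : G → ℂ) g - 1 - (χ₁ : G → ℂ) g - ρ₁ * (β₁ : G → ℂ) g -
      ρ₂ * (β₂ : G → ℂ) g - ρ₃ * (β₃ : G → ℂ) g := by
  classical
  haveI : Fintype G := Fintype.ofFinite G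
  have e1 := hS.col1 g
  have e2 := hS.col2 g
  have r1 := Main.sq_one hS.hρ₁
  have r2 := Main.sq_one hS.hρ₂
  have r3 := Main.sq_one hS.hρ₃
  push_cast at e1 e2
  by_cases h1 : IsConj g s₁
  · have a1 := Cfsg.Agent.Lib.Char.CompleteCor.irr_apply_of_isConj h1 χ₁
    have a2 := Cfsg.Agent.Lib.Char.CompleteCor.irr_apply_of_isConj h1 χ₂
    have a3 := Cfsg.Agent.Lib.Char.CompleteCor.irr_apply_of_isConj h1 β₁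
    have a4 := Cfsg.Agent.Lib.Char.CompleteCor.irr_apply_of_isConj h1 β₂
    have a5 := Cfsg.Agent.Lib.Char.CompleteCor.irr_apply_of_isConj h1 β₃
    rw [a1, a2, a3, a4, a5, hS.v11, hS.v21, hS.w11, hS.w21, hS.w31]
    push_cast
    linear_combination r1 + r2 + r3
  by_cases h2 : IsConj g s₂
  · have a1 := Cfsg.Agent.Lib.Char.CompleteCor.irr_apply_of_isConj h2 χ₁
    have a2 := Cfsg.Agent.Lib.Char.CompleteCor.irr_apply_of_isConj h2 χ₂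
    have a3 := Cfsg.Agent.Lib.Char.CompleteCor.irr_apply_of_isConj h2 β₁
    have a4 := Cfsg.Agent.Lib.Char.CompleteCor.irr_apply_of_isConj h2 β₂
    have a5 := Cfsg.Agent.Lib.Char.CompleteCor.irr_apply_of_isConj h2 β₃
    rw [a1, a2, a3, a4, a5, hS.v12, hS.v22, hS.w12, hS.w22, hS.w32]
    push_cast
    linear_combination r1 + r2 + r3
  have h3 := Main.eq_of_col hS h1 h2
  rw [if_neg h1] at e1
  rw [h3] at e1 ⊢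
  linear_combination e1

end Six

namespace Main

open Cfsg.Agent.Lib.Char.Ortho Cfsg.Agent.Lib.Char.Basic

/-- The decomposition of the square of `χ₁`. -/
theorem tensor (h : Main S t s₁ s₂) (hS : Six s₁ s₂ χ₁ χ₂ β₁ β₂ β₃ (-1) ρ₁ ρ₂ ρ₃ 5 b₁ b₂ b₃) {B₁ B₂ B₃ : ℤ}
    (hA : (χ₁ : G → ℂ) t = (1 : ℤ)) (hA2 : (χ₂ : G → ℂ) t = (1 : ℤ)) (hB₁ : (β₁ : G → ℂ) t = B₁)
    (hB₂ : (β₂ : G → ℂ) t = B₂) (hB₃ : (β₃ : G → ℂ) t = B₃) :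
    ∃ M₁ M₂ m₁ m₂ m₃ u' v' : ℕ,
      (1 : ℤ) = 1 - M₁ + 2 * M₂ + m₁ * ρ₁ + m₂ * ρ₂ + m₃ * ρ₃ ∧
      (4 : ℤ) = 1 + 2 * M₁ - M₂ + m₁ * ρ₁ + m₂ * ρ₂ + m₃ * ρ₃ ∧
      (25 : ℤ) = 9 * (u' + v') + 1 + 5 * M₁ + 5 * M₂ + m₁ * b₁ + m₂ * b₂ + m₃ * b₃ ∧
      (1 : ℤ) = ((u' : ℤ) - v') + 1 + M₁ + M₂ + m₁ * B₁ + m₂ * B₂ + m₃ * B₃ ∧
      ρ₁ ≤ m₁ ∧ ρ₂ ≤ m₂ ∧ ρ₃ ≤ m₃ := by
  classical
  haveI : Fintype G := Fintype.ofFinite G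
  have hch : ∀ ξ : IrrCharacter G, IsCharacter G (ξ : G → ℂ) := fun ξ => isCharacter_of_isIrrCharacter ξ.2
  set γ : G → ℂ := (χ₁ : G → ℂ) * (χ₁ : G → ℂ) with hγdef
  have hγ : IsCharacter G γ := isCharacter_mul (hch χ₁) (hch χ₁)
  choose m hm using fun ψ : IrrCharacter G => exists_nat_classInner hγ ψ
  have hdec := decomp_eq_sum_classInner hγ
  have happ : ∀ g, γ g = ∑ ψ : IrrCharacter G, (m ψ : ℂ) * (ψ : G → ℂ) g := by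
    intro g
    conv_lhs => rw [hdec]
    rw [Finset.sum_apply]
    refine Finset.sum_congr rfl fun ψ _ => ?_
    rw [Pi.smul_apply, hm, smul_eq_mul]
  let P : IrrCharacter G → Prop := fun ψ => ψ = trivChar G ∨ ψ = χ₁ ∨ ψ = χ₂ ∨ ψ = β₁ ∨ ψ = β₂ ∨ ψ = β₃
  let m' : IrrCharacter G → ℕ := fun ψ => if P ψ then 0 else m ψ
  let R : G → ℂ := ∑ ψ : IrrCharacter G, m' ψ • (ψ : G → ℂ)
  have hR : IsCharacter G R := isCharacter_finset_sum _ (fun ψ _ => isCharacter_nsmul (hch ψ) (m' ψ))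
  have hRapp : ∀ g, R g = ∑ ψ : IrrCharacter G, (m' ψ : ℂ) * (ψ : G → ℂ) g := by
    intro g
    simp only [R, Finset.sum_apply, Pi.smul_apply, nsmul_eq_mul, Pi.mul_apply, Pi.natCast_apply]
  have hm'0 : ∀ ψ, P ψ → (m' ψ : ℂ) = 0 := by
    intro ψ hψ
    simp only [m', if_pos hψ, Nat.cast_zero]
  have hsplit : ∀ g, γ g = (m (trivChar G) : ℂ) + (m χ₁ : ℂ) * (χ₁ : G → ℂ) g + (m χ₂ : ℂ) * (χ₂ : G → ℂ) g +
      (m β₁ : ℂ) * (β₁ : G → ℂ) g + (m β₂ : ℂ) * (β₂ : G → ℂ) g + (m β₃ : ℂ) * (β₃ : G → ℂ) g + R g := by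
    intro g
    have h1 : ∑ ψ : IrrCharacter G, (m ψ : ℂ) * (ψ : G → ℂ) g =
        ∑ ψ : IrrCharacter G, ((m ψ : ℂ) - m' ψ) * (ψ : G → ℂ) g + ∑ ψ : IrrCharacter G, (m' ψ : ℂ) * (ψ : G → ℂ) g := by
      rw [← Finset.sum_add_distrib]
      refine Finset.sum_congr rfl fun ψ _ => ?_
      ring
    have h2 := sum_six (fun ψ : IrrCharacter G => ((m ψ : ℂ) - m' ψ) * (ψ : G → ℂ) g)
      hS.nt₁.symm hS.nt₂.symm hS.ntb₁.symm hS.ntb₂.symm hS.ntb₃.symm hS.n12 hS.n1b₁ hS.n1b₂ hS.n1b₃ hS.n2b₁ hS.n2b₂ hS.n2b₃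
      hS.nb12 hS.nb13 hS.nb23 (by
        intro k a1 a2 a3 a4 a5 a6
        have hnP : ¬ P k := by
          rintro (h0 | h0 | h0 | h0 | h0 | h0)
          · exact a1 h0
          · exact a2 h0
          · exact a3 h0
          · exact a4 h0
          · exact a5 h0
          · exact a6 h0
        simp only [m', if_neg hnP, sub_self, zero_mul])
    rw [happ, h1, h2, hRapp]
    simp only [hm'0 _ (Or.inl rfl : P (trivChar G)), hm'0 _ (Or.inr (Or.inl rfl) : P χ₁),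
      hm'0 _ (Or.inr (Or.inr (Or.inl rfl)) : P χ₂), hm'0 _ (Or.inr (Or.inr (Or.inr (Or.inl rfl))) : P β₁),
      hm'0 _ (Or.inr (Or.inr (Or.inr (Or.inr (Or.inl rfl)))) : P β₂),
      hm'0 _ (Or.inr (Or.inr (Or.inr (Or.inr (Or.inr rfl)))) : P β₃), coe_trivChar, sub_zero]
    ring
  have hRz : ∀ g, (∀ ψ : IrrCharacter G, ¬ P ψ → (ψ : G → ℂ) g = 0) → R g = 0 := by
    intro g hg
    rw [hRapp]
    refine Finset.sum_eq_zero fun ψ _ => ?_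
    by_cases hψ : P ψ
    · rw [hm'0 ψ hψ, zero_mul]
    · rw [hg ψ hψ, mul_zero]
  have hnP : ∀ ψ : IrrCharacter G, ¬ P ψ → ψ ≠ trivChar G ∧ ψ ≠ χ₁ ∧ ψ ≠ χ₂ ∧ ψ ≠ β₁ ∧ ψ ≠ β₂ ∧ ψ ≠ β₃ := by
    intro ψ hψ
    refine ⟨fun h0 => hψ (Or.inl h0), fun h0 => hψ (Or.inr (Or.inl h0)), fun h0 => hψ (Or.inr (Or.inr (Or.inl h0))),
      fun h0 => hψ (Or.inr (Or.inr (Or.inr (Or.inl h0)))), fun h0 => hψ (Or.inr (Or.inr (Or.inr (Or.inr (Or.inl h0))))),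
      fun h0 => hψ (Or.inr (Or.inr (Or.inr (Or.inr (Or.inr h0)))))⟩
  have hRs1 : R s₁ = 0 := hRz s₁ fun ψ hψ => by
    obtain ⟨a1, a2, a3, a4, a5, a6⟩ := hnP ψ hψ
    exact (hS.rest ψ a1 a2 a3 a4 a5 a6).1
  have hRs2 : R s₂ = 0 := hRz s₂ fun ψ hψ => by
    obtain ⟨a1, a2, a3, a4, a5, a6⟩ := hnP ψ hψ
    exact (hS.rest ψ a1 a2 a3 a4 a5 a6).2
  obtain ⟨u', v', hu', hv'⟩ := h.kb2 hR
  rw [hRs1, hRs2] at hu' hv'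
  have hR1 : R 1 = 9 * ((u' : ℂ) + v') := by linear_combination (1 / 2 : ℂ) * hu' + (1 / 2 : ℂ) * hv'
  have hRt : R t = (u' : ℂ) - v' := by linear_combination (1 / 18 : ℂ) * hu' - (1 / 18 : ℂ) * hv'
  -- the multiplicity of the trivial character
  have hm0 : (m (trivChar G) : ℂ) = 1 := by
    rw [← hm (trivChar G)]
    have h1 := classInner_irr_self χ₁.2
    rw [Cfsg.Agent.Lib.Char.Induced.classInner_def] at h1 ⊢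
    rw [← h1]
    congr 1
    refine Finset.sum_congr rfl fun x _ => ?_
    rw [hγdef, Pi.mul_apply, hS.conj_eq x, coe_trivChar]
    simp
  -- the inner products
  have hfun : (χ₁ : G → ℂ) * (χ₂ : G → ℂ) = γ - (trivChar G : G → ℂ) - (χ₁ : G → ℂ) - (ρ₁ : ℂ) • (β₁ : G → ℂ) -
      (ρ₂ : ℂ) • (β₂ : G → ℂ) - (ρ₃ : ℂ) • (β₃ : G → ℂ) := by
    funext g
    simp only [Pi.mul_apply, Pi.sub_apply, Pi.smul_apply, smul_eq_mul, coe_trivChar, hγdef]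
    exact hS.prod_identity g
  have hkey : ∀ ψ : IrrCharacter G, classInner ((χ₁ : G → ℂ) * (χ₂ : G → ℂ)) (ψ : G → ℂ) =
      (m ψ : ℂ) - classInner (trivChar G : G → ℂ) (ψ : G → ℂ) - classInner (χ₁ : G → ℂ) (ψ : G → ℂ) -
        ρ₁ * classInner (β₁ : G → ℂ) (ψ : G → ℂ) - ρ₂ * classInner (β₂ : G → ℂ) (ψ : G → ℂ) -
        ρ₃ * classInner (β₃ : G → ℂ) (ψ : G → ℂ) := by
    intro ψ
    rw [hfun, classInner_sub_left, classInner_sub_left, classInner_sub_left, classInner_sub_left, classInner_sub_left,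
      classInner_smul_left, classInner_smul_left, classInner_smul_left, hm]
  have hχχ : IsCharacter G ((χ₁ : G → ℂ) * (χ₂ : G → ℂ)) := isCharacter_mul (hch χ₁) (hch χ₂)
  have hi₁ : ρ₁ ≤ (m β₁ : ℤ) := by
    obtain ⟨n, hn⟩ := exists_nat_classInner hχχ β₁
    have h1 := hkey β₁
    rw [hn, Six.inner_ne hS.ntb₁.symm, Six.inner_ne hS.n1b₁, Six.inner_ne hS.nb12.symm, Six.inner_ne hS.nb13.symm,
      classInner_irr_self β₁.2] at h1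
    have h2 : (n : ℤ) = (m β₁ : ℤ) - ρ₁ := by
      have : ((n : ℤ) : ℂ) = (((m β₁ : ℤ) - ρ₁ : ℤ) : ℂ) := by
        push_cast
        linear_combination h1
      exact_mod_cast this
    have h3 : (0 : ℤ) ≤ n := Int.natCast_nonneg n
    omega
  have hi₂ : ρ₂ ≤ (m β₂ : ℤ) := by
    obtain ⟨n, hn⟩ := exists_nat_classInner hχχ β₂
    have h1 := hkey β₂
    rw [hn, Six.inner_ne hS.ntb₂.symm, Six.inner_ne hS.n1b₂, Six.inner_ne hS.nb12, Six.inner_ne hS.nb23.symm,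
      classInner_irr_self β₂.2] at h1
    have h2 : (n : ℤ) = (m β₂ : ℤ) - ρ₂ := by
      have : ((n : ℤ) : ℂ) = (((m β₂ : ℤ) - ρ₂ : ℤ) : ℂ) := by
        push_cast
        linear_combination h1
      exact_mod_cast this
    have h3 : (0 : ℤ) ≤ n := Int.natCast_nonneg n
    omega
  have hi₃ : ρ₃ ≤ (m β₃ : ℤ) := by
    obtain ⟨n, hn⟩ := exists_nat_classInner hχχ β₃
    have h1 := hkey β₃
    rw [hn, Six.inner_ne hS.ntb₃.symm, Six.inner_ne hS.n1b₃, Six.inner_ne hS.nb13, Six.inner_ne hS.nb23,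
      classInner_irr_self β₃.2] at h1
    have h2 : (n : ℤ) = (m β₃ : ℤ) - ρ₃ := by
      have : ((n : ℤ) : ℂ) = (((m β₃ : ℤ) - ρ₃ : ℤ) : ℂ) := by
        push_cast
        linear_combination h1
      exact_mod_cast this
    have h3 : (0 : ℤ) ≤ n := Int.natCast_nonneg n
    omega
  -- evaluations
  have es1 := hsplit s₁
  have es2 := hsplit s₂
  have ed := hsplit 1
  have et := hsplit t
  simp only [hγdef, Pi.mul_apply] at es1 es2 ed et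
  rw [hS.v11, hS.v21, hS.w11, hS.w21, hS.w31, hRs1, hm0] at es1
  rw [hS.v12, hS.v22, hS.w12, hS.w22, hS.w32, hRs2, hm0] at es2
  rw [hS.d1, hS.d2, hS.db₁, hS.db₂, hS.db₃, hR1, hm0] at ed
  rw [hA, hA2, hB₁, hB₂, hB₃, hRt, hm0] at et
  push_cast at es1 es2 ed et
  refine ⟨m χ₁, m χ₂, m β₁, m β₂, m β₃, u', v', ?_, ?_, ?_, ?_, hi₁, hi₂, hi₃⟩
  · have : (((1 : ℤ) : ℂ)) = ((1 - (m χ₁ : ℤ) + 2 * (m χ₂ : ℤ) + (m β₁ : ℤ) * ρ₁ + (m β₂ : ℤ) * ρ₂ + (m β₃ : ℤ) * ρ₃ : ℤ) : ℂ) := by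
      push_cast
      linear_combination es1
    exact_mod_cast this
  · have : (((4 : ℤ) : ℂ)) = ((1 + 2 * (m χ₁ : ℤ) - (m χ₂ : ℤ) + (m β₁ : ℤ) * ρ₁ + (m β₂ : ℤ) * ρ₂ + (m β₃ : ℤ) * ρ₃ : ℤ) : ℂ) := by
      push_cast
      linear_combination es2
    exact_mod_cast this
  · have : (((25 : ℤ) : ℂ)) = ((9 * ((u' : ℤ) + v') + 1 + 5 * (m χ₁ : ℤ) + 5 * (m χ₂ : ℤ) + (m β₁ : ℤ) * b₁ + (m β₂ : ℤ) * b₂ + (m β₃ : ℤ) * b₃ : ℤ) : ℂ) := by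
      push_cast
      linear_combination ed
    exact_mod_cast this
  · have : (((1 : ℤ) : ℂ)) = ((((u' : ℤ) - v') + 1 + (m χ₁ : ℤ) + (m χ₂ : ℤ) + (m β₁ : ℤ) * B₁ + (m β₂ : ℤ) * B₂ + (m β₃ : ℤ) * B₃ : ℤ) : ℂ) := by
      push_cast
      linear_combination et
    exact_mod_cast this

end Main

end Cfsg.Agent.Lib.Blocks.TI9
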