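import Mathlib
import Cfsg.Agent.Lib.Blocks.TI9J
import Cfsg.Agent.Lib.Basic.SylowInto

/-!
# Trivial intersection Sylow 3-subgroups of order 9: four-groups normalized by elements of order 3
-/

set_option autoImplicit false

namespace Cfsg.Agent.Lib.Blocks.TI9

open Cfsg Cfsg.Agent.Lib.Blocks.SC3 Cfsg.Agent.Lib.Blocks.Principal
open scoped ComplexConjugate

universe u

variable {G : Type u} [Group G] [Finite G]

/-- `C(t) ∩ C(r)` is acted on by an element of order 3. -/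
theorem tri_act (hS : SCW G) {t y r : G} (h : Tri t y r) : Act (Er t r) y := by
  refine ⟨h.hy3, ?_, cop_of_le hS h.ht h.hne inf_le_left⟩
  intro e he
  obtain ⟨h1, h2⟩ := mem_Er.mp he
  have h3 := Tri.comm_tr he
  rw [mem_Er]
  constructor
  · calc y * e * y⁻¹ * t = y * e * y⁻¹ * (y * (t * r) * y⁻¹) := by rw [h.ytr]
      _ = y * (e * (t * r)) * y⁻¹ := by group
      _ = y * ((t * r) * e) * y⁻¹ := by rw [h3]
      _ = (y * (t * r) * y⁻¹) * (y * e * y⁻¹) := by group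
      _ = _ := by rw [h.ytr]
  · calc y * e * y⁻¹ * r = y * e * y⁻¹ * (y * t * y⁻¹) := by rw [h.yt]
      _ = y * (e * t) * y⁻¹ := by group
      _ = y * (t * e) * y⁻¹ := by rw [h1]
      _ = (y * t * y⁻¹) * (y * e * y⁻¹) := by group
      _ = _ := by rw [h.yt]

/-- Free action: `|Zt t| = |C(t)| |R|`, in the weak setting. -/
theorem card_ZtW (hS : SCW G) {t : G} (ht : orderOf t = 2) {R : Finset G} (hR : Reps t R) :
    Nat.card (Zt t) = Nat.card (Cn t) * R.card := by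
  classical
  have hch : ∀ ρ : R, ∃ y ∈ Zt t, y * t * y⁻¹ = (ρ : G) := fun ρ => hR.mem ρ ρ.2
  choose yy hyy hyt using hch
  let F : Cn t × R → Zt t := fun p => ⟨p.1 * yy p.2 * (p.1 : G)⁻¹, conj_mem_Zt p.1.2 (hyy p.2)⟩
  have hF : Function.Bijective F := by
    have hmap : ∀ (h : Cn t) (ρ : R), (h : G) * yy ρ * (h : G)⁻¹ * t * ((h : G) * yy ρ * (h : G)⁻¹)⁻¹ =
        (h : G) * ρ * (h : G)⁻¹ := by
      intro h ρ
      have hc := mem_Cn.mp h.2
      have h1 : (h : G)⁻¹ * t * h = t := by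
        calc (h : G)⁻¹ * t * h = (h : G)⁻¹ * (h * t) := by rw [hc]; group
          _ = t := by group
      calc (h : G) * yy ρ * (h : G)⁻¹ * t * ((h : G) * yy ρ * (h : G)⁻¹)⁻¹
          = h * yy ρ * ((h : G)⁻¹ * t * h) * (yy ρ)⁻¹ * (h : G)⁻¹ := by group
        _ = h * (yy ρ * t * (yy ρ)⁻¹) * (h : G)⁻¹ := by rw [h1]; group
        _ = _ := by rw [hyt]
    constructor
    · rintro ⟨h, ρ⟩ ⟨h', ρ'⟩ he
      have he' : (h : G) * yy ρ * (h : G)⁻¹ = h' * yy ρ' * (h' : G)⁻¹ := congrArg Subtype.val he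
      have h1 : (h : G) * ρ * (h : G)⁻¹ = h' * ρ' * (h' : G)⁻¹ := by
        rw [← hmap, ← hmap, he']
      have h2 : (ρ : G) = ρ' := by
        apply hR.uniq ρ ρ.2 ρ' ρ'.2 ((h' : G)⁻¹ * h) ((Cn t).mul_mem ((Cn t).inv_mem h'.2) h.2)
        calc (h' : G)⁻¹ * h * ρ * ((h' : G)⁻¹ * h)⁻¹ = (h' : G)⁻¹ * (h * ρ * (h : G)⁻¹) * h' := by group
          _ = _ := by rw [h1]; group
      have h3 : ρ = ρ' := Subtype.ext h2
      subst h3
      -- `h'⁻¹ h` centralizes `yy ρ`, and `t`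
      have h4 : ((h' : G)⁻¹ * h) * yy ρ = yy ρ * ((h' : G)⁻¹ * h) := by
        calc ((h' : G)⁻¹ * h) * yy ρ = (h' : G)⁻¹ * (h * yy ρ * (h : G)⁻¹) * h := by group
          _ = (h' : G)⁻¹ * (h' * yy ρ * (h' : G)⁻¹) * h := by rw [he']
          _ = _ := by group
      have hw3 := hS _ (hyy ρ).1 _ h4
      -- an element of order 1 or 3 in `C(t)`
      have hwc : (h' : G)⁻¹ * h ∈ Cn t := (Cn t).mul_mem ((Cn t).inv_mem h'.2) h.2
      have ht1 : t * t = 1 := by
        have := pow_orderOf_eq_one t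
        rwa [ht, pow_two] at this
      have hne : t ≠ 1 := by
        rintro rfl
        rw [orderOf_one] at ht
        omega
      have h6 : (h' : G)⁻¹ * h = 1 := by
        by_contra h7
        have h8 : orderOf ((h' : G)⁻¹ * h) = 3 := orderOf_eq_prime hw3 h7
        apply not_comm_inv hS ht1 hne h8
        exact (mem_Cn.mp hwc).symm
      have h9 : (h : G) = h' := by
        have := mul_eq_one_iff_eq_inv.mp h6
        exact (inv_inj.mp this).symm
      have h10 : h = h' := Subtype.ext h9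
      rw [h10]
    · rintro ⟨y, hy⟩
      obtain ⟨ρ, hρ, h, hh, he⟩ := hR.cover (y * t * y⁻¹) ⟨y, hy, rfl⟩
      let ρ' : R := ⟨ρ, hρ⟩
      -- `y' = h⁻¹ y h` carries `t` to `ρ`
      set y' := h⁻¹ * y * h with hy'
      have hhc := mem_Cn.mp hh
      have hh1 : h⁻¹ * t * h = t := by
        calc h⁻¹ * t * h = h⁻¹ * (h * t) := by rw [hhc]; group
          _ = t := by group
      have hy'Z : y' ∈ Zt t := by
        have := conj_mem_Zt ((Cn t).inv_mem hh) hy
        simpa [hy'] using this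
      have hy't : y' * t * y'⁻¹ = ρ := by
        have h1 : y' * t * y'⁻¹ = h⁻¹ * (y * (h * t * h⁻¹) * y⁻¹) * h := by rw [hy']; group
        have h2 : h * t * h⁻¹ = t := by rw [hhc]; group
        rw [h1, h2, ← he]
        group
      have ht0 := tri_of_mem ht (hyy ρ')
      have hact := tri_act hS ht0
      have hyt0 : yy ρ' * t * (yy ρ')⁻¹ = ρ := hyt ρ'
      rw [hyt0] at ht0 hact
      have ht1 := tri_of_mem ht hy'Z
      rw [hy't] at ht1
      -- `e = y' y0⁻¹` lies in `Er t ρ`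
      have hemem : y' * (yy ρ')⁻¹ ∈ Er t ρ := by
        rw [mem_Er]
        constructor
        · have h1 : (y' * (yy ρ')⁻¹) * t * (y' * (yy ρ')⁻¹)⁻¹ = y' * ((yy ρ')⁻¹ * t * yy ρ') * y'⁻¹ := by group
          have h2 : y' * (t * ρ) * y'⁻¹ = t := ht1.ytr
          rw [ht0.inv, h2] at h1
          calc y' * (yy ρ')⁻¹ * t = (y' * (yy ρ')⁻¹) * t * (y' * (yy ρ')⁻¹)⁻¹ * (y' * (yy ρ')⁻¹) := by group
            _ = _ := by rw [h1]
        · have h1 : (y' * (yy ρ')⁻¹) * ρ * (y' * (yy ρ')⁻¹)⁻¹ = y' * ((yy ρ')⁻¹ * ρ * yy ρ') * y'⁻¹ := by group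
          have h2 : (yy ρ')⁻¹ * ρ * yy ρ' = t := by
            rw [← hyt0]
            group
          rw [h2, hy't] at h1
          calc y' * (yy ρ')⁻¹ * ρ = (y' * (yy ρ')⁻¹) * ρ * (y' * (yy ρ')⁻¹)⁻¹ * (y' * (yy ρ')⁻¹) := by group
            _ = _ := by rw [h1]
      obtain ⟨w, hw, hwe⟩ := ActW.coset_conj hS hact hemem
      have hwH : w ∈ Cn t := (Subgroup.mem_inf.mp hw).1
      refine ⟨(⟨h * w, (Cn t).mul_mem hh hwH⟩, ρ'), ?_⟩
      apply Subtype.ext
      show (h * w) * yy ρ' * (h * w)⁻¹ = y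
      have h3 : y' = w * yy ρ' * w⁻¹ := by
        rw [← hwe]
        group
      calc (h * w) * yy ρ' * (h * w)⁻¹ = h * (w * yy ρ' * w⁻¹) * h⁻¹ := by group
        _ = h * y' * h⁻¹ := by rw [h3]
        _ = y := by rw [hy']; group
  have h1 := Nat.card_congr (Equiv.ofBijective F hF)
  rw [← h1, Nat.card_prod]
  congr 1
  simp

/-- Representatives in a Sylow 2-subgroup of `C(t)`, of order at most 8. -/
theorem exists_reps_le {t : G} (ht : orderOf t = 2) {N : ℕ} (hc : Nat.card (Cn t) = 8 * N) (hN : ¬ 2 ∣ N) :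
    ∃ R : Finset G, Reps t R ∧ R.card ≤ 8 := by
  classical
  haveI : Fact (Nat.Prime 2) := ⟨Nat.prime_two⟩
  obtain ⟨Q⟩ : Nonempty (Sylow 2 (Cn t)) := inferInstance
  have hQcard : Nat.card Q ≤ 8 := by
    obtain ⟨k, hk⟩ := IsPGroup.iff_card.mp Q.isPGroup'
    have h1 : Nat.card Q ∣ 8 * N := by
      rw [← hc]
      exact Subgroup.card_subgroup_dvd_card _
    have h2 : Nat.Coprime (Nat.card Q) N := by
      rw [hk]
      exact Nat.Coprime.pow_left k ((Nat.Prime.coprime_iff_not_dvd Nat.prime_two).mpr hN)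
    have h3 := h2.dvd_of_dvd_mul_right h1
    exact Nat.le_of_dvd (by norm_num) h3
  let Q' : Subgroup G := (Q : Subgroup (Cn t)).map (Cn t).subtype
  have hQ'card : Nat.card Q' = Nat.card Q := by
    exact Nat.card_congr ((Q : Subgroup (Cn t)).equivMapOfInjective _ (Subgroup.subtype_injective _)).symm.toEquiv
  have hP : ∀ r ∈ Jt t, ∃ h ∈ Cn t, h * r * h⁻¹ ∈ Q' := by
    intro r hr
    obtain ⟨y, hy, rfl⟩ := hr
    have htr := tri_of_mem ht hy
    set r := y * t * y⁻¹ with hr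
    have hrC : r ∈ Cn t := mem_Cn.mpr htr.comm.symm
    have hp : IsPGroup 2 (Subgroup.zpowers r) := by
      rintro ⟨x, hx⟩
      obtain ⟨k, rfl⟩ := Subgroup.mem_zpowers_iff.mp hx
      refine ⟨1, Subtype.ext ?_⟩
      show (r ^ k) ^ 2 ^ 1 = 1
      have h1 : r ^ 2 = 1 := by rw [pow_two]; exact htr.hr
      rw [pow_one, ← zpow_natCast, ← zpow_mul, mul_comm, zpow_mul, zpow_natCast, h1, one_zpow]
    obtain ⟨c, hc'⟩ := Cfsg.Agent.Lib.Basic.SylowInto.conj_into (Cn t) Q _ hp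
    refine ⟨c, c.2, ?_⟩
    have h2 := hc' ⟨r, hrC⟩ (Subgroup.mem_zpowers r)
    exact ⟨_, h2, rfl⟩
  obtain ⟨R, hR, hRP⟩ := exists_reps t (fun ρ => ρ ∈ Q') hP
  refine ⟨R, hR, ?_⟩
  haveI : Fintype Q' := Fintype.ofFinite _
  have h1 : R.card ≤ Nat.card Q' := by
    rw [Nat.card_eq_fintype_card, ← Fintype.card_coe R]
    exact Fintype.card_le_of_injective (fun x : R => (⟨x, hRP x x.2⟩ : Q'))
      (fun a b h => Subtype.ext (congrArg (fun z : Q' => (z : G)) h))
  omega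

/-- The index of the centralizer of a 2-central involution is odd. -/
theorem index_odd {t : G} (ht : orderOf t = 2) (hall : ∀ z : G, orderOf z = 2 → IsConj t z) : ¬ 2 ∣ (Cn t).index := by
  classical
  haveI : Fact (Nat.Prime 2) := ⟨Nat.prime_two⟩
  have hp : IsPGroup 2 (Subgroup.zpowers t) := by
    rintro ⟨x, hx⟩
    obtain ⟨k, rfl⟩ := Subgroup.mem_zpowers_iff.mp hx
    refine ⟨1, Subtype.ext ?_⟩
    show (t ^ k) ^ 2 ^ 1 = 1
    have h1 : t ^ 2 = 1 := by rw [← ht]; exact pow_orderOf_eq_one t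
    rw [pow_one, ← zpow_natCast, ← zpow_mul, mul_comm, zpow_mul, zpow_natCast, h1, one_zpow]
  obtain ⟨P, hP⟩ := hp.exists_le_sylow
  have htP : t ∈ (P : Subgroup G) := hP (Subgroup.mem_zpowers t)
  haveI : Nontrivial (P : Subgroup G) := by
    refine ⟨⟨⟨t, htP⟩, 1, ?_⟩⟩
    intro h
    have h1 : t = 1 := congrArg (fun z : (P : Subgroup G) => (z : G)) h
    rw [h1, orderOf_one] at ht
    omega
  haveI : Nontrivial (Subgroup.center (P : Subgroup G)) := P.isPGroup'.center_nontrivial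
  have h2 : IsPGroup 2 (Subgroup.center (P : Subgroup G)) := IsPGroup.to_subgroup P.isPGroup' _
  obtain ⟨k, hk⟩ := IsPGroup.iff_card.mp h2
  have hk0 : k ≠ 0 := by
    rintro rfl
    rw [pow_zero] at hk
    exact (Finite.one_lt_card (α := Subgroup.center (P : Subgroup G))).ne' hk
  have h3 : 2 ∣ Nat.card (Subgroup.center (P : Subgroup G)) := by
    rw [hk]
    exact dvd_pow_self 2 hk0
  obtain ⟨w, hw⟩ := exists_prime_orderOf_dvd_card' (G := Subgroup.center (P : Subgroup G)) 2 h3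
  set z : G := ((w : (P : Subgroup G)) : G) with hz
  have hz2 : orderOf z = 2 := by
    rw [hz, Subgroup.orderOf_coe, Subgroup.orderOf_coe, hw]
  have hPz : (P : Subgroup G) ≤ Cn z := by
    intro x hx
    rw [mem_Cn]
    have h4 := (Subgroup.mem_center_iff.mp w.2) ⟨x, hx⟩
    exact congrArg (fun y : (P : Subgroup G) => (y : G)) h4
  have h5 : (Cn z).index ∣ (P : Subgroup G).index := Subgroup.index_dvd_of_le hPz
  have h6 : (Cn z).index = (Cn t).index := by
    obtain ⟨g, hg⟩ := isConj_iff.mp (hall z hz2)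
    have h7 : Nat.card (Cn z) = Nat.card (Cn t) := by
      rw [← hg]
      exact Cfsg.Agent.S0916.card_centralizer_conj g t
    have h8 := Subgroup.card_mul_index (Cn z)
    have h9 := Subgroup.card_mul_index (Cn t)
    rw [h7] at h8
    exact Nat.eq_of_mul_eq_mul_left Nat.card_pos (h8.trans h9.symm)
  rw [← h6]
  intro h10
  exact P.not_dvd_index (dvd_trans h10 h5)

end Cfsg.Agent.Lib.Blocks.TI9
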