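import Mathlib
import Cfsg.Agent.Lib.Blocks.TI9K

/-!
# Trivial intersection Sylow 3-subgroups of order 9: the order of the group in the main case
-/

set_option autoImplicit false

namespace Cfsg.Agent.Lib.Blocks.TI9

open Cfsg Cfsg.Agent.Lib.Blocks.SC3 Cfsg.Agent.Lib.Blocks.Principal
open scoped ComplexConjugate

universe u

variable {G : Type u} [Group G] [Finite G]

/-- The final values of the six characters. -/
structure Final (t s₁ s₂ : G) (χ₁ χ₂ β₁ β₂ β₃ : IrrCharacter G) : Prop where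
  six : Six s₁ s₂ χ₁ χ₂ β₁ β₂ β₃ (-1) 1 (-1) (-1) 5 10 8 8
  a1 : (χ₁ : G → ℂ) t = (1 : ℤ)
  a2 : (χ₂ : G → ℂ) t = (1 : ℤ)
  b1 : (β₁ : G → ℂ) t = (-2 : ℤ)
  b2 : (β₂ : G → ℂ) t = (0 : ℤ)
  b3 : (β₃ : G → ℂ) t = (0 : ℤ)

theorem invol_numeric {v B C E : ℤ} (h1 : B = v + 5) (h2 : 1 + v + B - C - E = 0)
    (h3 : 40 + 8 * v * v + 4 * B * B - 5 * C * C - 5 * E * E = 0) (hv1 : -5 ≤ v) (hv2 : v ≤ 4) : False := by
  have hE : E = 6 + 2 * v - C := by omega
  subst h1 hE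
  interval_cases v
  · have h4 : C * C + 4 * C - 16 = 0 := by nlinarith
    have h5 : C ≤ 3 := by nlinarith
    have h6 : -7 ≤ C := by nlinarith
    interval_cases C <;> omega
  all_goals first
    | (ring_nf at h3; omega)
    | skip
  · have h4 : C * C - 6 * C + 4 = 0 := by nlinarith
    have h5 : C ≤ 6 := by nlinarith
    have h6 : 0 ≤ C := by nlinarith
    interval_cases C <;> omega

namespace Main

variable {S : Subgroup G} {t s₁ s₂ : G} {χ₁ χ₂ β₁ β₂ β₃ : IrrCharacter G}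

theorem exists_final [IsSimpleGroup G] (h : Main S t s₁ s₂) :
    ∃ χ₁ χ₂ β₁ β₂ β₃ : IrrCharacter G, Final t s₁ s₂ χ₁ χ₂ β₁ β₂ β₃ := by
  obtain ⟨χ₁, χ₂, β₁, β₂, β₃, δ, ρ₁, ρ₂, ρ₃, a, b₁, b₂, b₃, hS⟩ := exists_six h.o1 h.o2 h.r1 h.r2 h.c1 h.c2 h.hne
  obtain ⟨B₁, B₂, B₃, u, v, u₁, v₁, u₂, v₂, u₃, v₃, rfl, rfl, hA, hA2, hB₁, hB₂, hB₃, hD⟩ := h.main_values hS
  obtain ⟨M₁, M₂, m₁, m₂, m₃, u', v', hs1, hs2, hd, hh, hi₁, hi₂, hi₃⟩ := h.tensor hS hA hA2 hB₁ hB₂ hB₃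
  have hC := tensor_all hD (by positivity) (by positivity) (by positivity) (by positivity) (by positivity) (by positivity)
    (by positivity) hs1 hs2 hd hh hi₁ hi₂ hi₃
  rcases hC with ⟨rfl, rfl, rfl, h1, rfl, h3, rfl, h5, rfl⟩ | ⟨rfl, rfl, rfl, h1, rfl, h3, rfl, h5, rfl⟩ |
    ⟨rfl, rfl, rfl, h1, rfl, h3, rfl, h5, rfl⟩
  · have e1 : b₁ = 10 := by exact_mod_cast h1
    have e2 : b₂ = 8 := by exact_mod_cast h3
    have e3 : b₃ = 8 := by exact_mod_cast h5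
    subst e1 e2 e3
    exact ⟨χ₁, χ₂, β₁, β₂, β₃, hS, hA, hA2, hB₁, hB₂, hB₃⟩
  · have e1 : b₂ = 10 := by exact_mod_cast h1
    have e2 : b₁ = 8 := by exact_mod_cast h3
    have e3 : b₃ = 8 := by exact_mod_cast h5
    subst e1 e2 e3
    exact ⟨χ₁, χ₂, β₂, β₁, β₃, hS.swap12, hA, hA2, hB₂, hB₁, hB₃⟩
  · have e1 : b₃ = 10 := by exact_mod_cast h1
    have e2 : b₂ = 8 := by exact_mod_cast h3
    have e3 : b₁ = 8 := by exact_mod_cast h5
    subst e1 e2 e3
    exact ⟨χ₁, χ₂, β₃, β₂, β₁, hS.swap13, hA, hA2, hB₃, hB₂, hB₁⟩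

/-- The equation `45 |C(t)| = 8 |G : C(t)|`. -/
theorem eq45 (h : Main S t s₁ s₂) (hf : Final t s₁ s₂ χ₁ χ₂ β₁ β₂ β₃) :
    45 * Nat.card (Cn t) = 8 * (Cn t).index := by
  have e := h.val_tt hf.six hf.a1 hf.a2 hf.b1 hf.b2 hf.b3
  push_cast at e
  have e2 : (45 : ℂ) * (Nat.card (Cn t) : ℂ) = 8 * ((Cn t).index : ℂ) := by
    have e3 : (9 : ℂ) * (Nat.card (Cn t) : ℂ) = ((Cn t).index : ℂ) * (8 / 5) := by
      rw [e]
      norm_num
    linear_combination 5 * e3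
  exact_mod_cast e2

/-- The number of `u ∼ s₁` with `u t ∼ s₁`. -/
theorem cnt_one (h : Main S t s₁ s₂) (hf : Final t s₁ s₂ χ₁ χ₂ β₁ β₂ β₃) :
    45 * Cnt s₁ s₁ t = Nat.card G := by
  have e := hf.six.cnt1 s₁ t
  rw [hf.six.v11, hf.six.v21, hf.six.w11, hf.six.w21, hf.six.w31, hf.a1, hf.a2, hf.b1, hf.b2, hf.b3] at e
  push_cast at e
  have e2 : (5 : ℂ) * (Cnt s₁ s₁ t : ℂ) = ((Cn s₁).index : ℂ) := by
    have e3 : (9 : ℂ) * (Cnt s₁ s₁ t : ℂ) = ((Cn s₁).index : ℂ) * (9 / 5) := by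
      rw [e]
      norm_num
    linear_combination (5 / 9 : ℂ) * e3
  have e4 : 5 * Cnt s₁ s₁ t = (Cn s₁).index := by exact_mod_cast e2
  have e5 := card_index s₁
  rw [h.c1, ← e4] at e5
  omega

theorem cnt_two (h : Main S t s₁ s₂) (hf : Final t s₁ s₂ χ₁ χ₂ β₁ β₂ β₃) :
    45 * Cnt s₂ s₂ t = Nat.card G := by
  have e := hf.six.cnt2 s₂ t
  rw [hf.six.v12, hf.six.v22, hf.six.w12, hf.six.w22, hf.six.w32, hf.a1, hf.a2, hf.b1, hf.b2, hf.b3] at e
  push_cast at e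
  have e2 : (5 : ℂ) * (Cnt s₂ s₂ t : ℂ) = ((Cn s₂).index : ℂ) := by
    have e3 : (9 : ℂ) * (Cnt s₂ s₂ t : ℂ) = ((Cn s₂).index : ℂ) * (9 / 5) := by
      rw [e]
      norm_num
    linear_combination (5 / 9 : ℂ) * e3
  have e4 : 5 * Cnt s₂ s₂ t = (Cn s₂).index := by exact_mod_cast e2
  have e5 := card_index s₂
  rw [h.c2, ← e4] at e5
  omega

/-- All involutions are conjugate. -/
theorem conj_all [IsSimpleGroup G] (h : Main S t s₁ s₂) (hf : Final t s₁ s₂ χ₁ χ₂ β₁ β₂ β₃) (z : G) (hz : orderOf z = 2) :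
    IsConj t z := by
  classical
  haveI : Fintype G := Fintype.ofFinite G
  by_contra hne
  have hch : ∀ ξ : IrrCharacter G, IsCharacter G (ξ : G → ℂ) := fun ξ =>
    Cfsg.Agent.Lib.Char.Basic.isCharacter_of_isIrrCharacter ξ.2
  have hz2 : z * z = 1 := by
    have := pow_orderOf_eq_one z
    rwa [hz, pow_two] at this
  obtain ⟨v, hv⟩ := Cfsg.Agent.Lib.Blocks.BSInd.exists_int_of_involution (hch χ₁) hz
  obtain ⟨B, hB⟩ := Cfsg.Agent.Lib.Blocks.BSInd.exists_int_of_involution (hch β₁) hz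
  obtain ⟨C, hC⟩ := Cfsg.Agent.Lib.Blocks.BSInd.exists_int_of_involution (hch β₂) hz
  obtain ⟨E, hE⟩ := Cfsg.Agent.Lib.Blocks.BSInd.exists_int_of_involution (hch β₃) hz
  have hS := hf.six
  have hnz1 : ¬ IsConj z s₁ := not_conj_invol h.o1 hz
  have hnz2 : ¬ IsConj z s₂ := not_conj_invol h.o2 hz
  have hv2 : (χ₂ : G → ℂ) z = v := by
    rw [← hv]
    exact (eq_of_col hS hnz1 hnz2).symm
  have hcnt1 : Cnt s₁ t z = 0 := by
    rw [Cnt]
    haveI : IsEmpty {u : G // IsConj t u ∧ IsConj (u * z) s₁} := by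
      refine ⟨fun u => ?_⟩
      obtain ⟨u, hu1, hu2⟩ := u
      have hu : u * u = 1 := by
        obtain ⟨g, rfl⟩ := isConj_iff.mp hu1
        calc g * t * g⁻¹ * (g * t * g⁻¹) = g * (t * t) * g⁻¹ := by group
          _ = 1 := by rw [h.t2]; group
      exact hne (isConj_of_invert h.scw h.o1 h.t2 (h.hinv s₁ h.h1) hu hz2 hu2)
    exact Nat.card_of_isEmpty
  have hcnt2 : Cnt s₁ z z = 0 := by
    rw [Cnt]
    haveI : IsEmpty {u : G // IsConj z u ∧ IsConj (u * z) s₁} := by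
      refine ⟨fun u => ?_⟩
      obtain ⟨u, hu1, hu2⟩ := u
      have hu : u * u = 1 := by
        obtain ⟨g, rfl⟩ := isConj_iff.mp hu1
        calc g * z * g⁻¹ * (g * z * g⁻¹) = g * (z * z) * g⁻¹ := by group
          _ = 1 := by rw [hz2]; group
      exact hne (isConj_of_invert h.scw h.o1 h.t2 (h.hinv s₁ h.h1) hu hz2 hu2)
    exact Nat.card_of_isEmpty
  have e1 := hS.cnt1 t z
  rw [hcnt1, hf.a1, hf.a2, hf.b1, hf.b2, hf.b3, hv, hv2, hB, hC, hE] at e1
  have e2 := hS.cnt1 z z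
  rw [hcnt2, hv, hv2, hB, hC, hE] at e2
  have e3 := hS.col1 z
  rw [if_neg hnz1, hv, hv2, hB, hC, hE] at e3
  have hi1 : ((Cn t).index : ℂ) ≠ 0 := by
    exact_mod_cast (Subgroup.index_ne_zero_of_finite : (Cn t).index ≠ 0)
  have hi2 : ((Cn z).index : ℂ) ≠ 0 := by
    exact_mod_cast (Subgroup.index_ne_zero_of_finite : (Cn z).index ≠ 0)
  push_cast at e1 e2 e3
  simp only [mul_zero, zero_mul, Nat.cast_zero] at e1 e2
  have e1' := (mul_eq_zero.mp e1.symm).resolve_left hi1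
  have e2' := (mul_eq_zero.mp e2.symm).resolve_left hi2
  have f1 : B = v + 5 := by
    have : ((B : ℤ) : ℂ) = ((v + 5 : ℤ) : ℂ) := by
      push_cast
      linear_combination (-5 : ℂ) * e1'
    exact_mod_cast this
  have f2 : 1 + v + B - C - E = 0 := by
    have : ((1 + v + B - C - E : ℤ) : ℂ) = ((0 : ℤ) : ℂ) := by
      push_cast
      linear_combination e3
    exact_mod_cast this
  have f3 : 40 + 8 * v * v + 4 * B * B - 5 * C * C - 5 * E * E = 0 := by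
    have : ((40 + 8 * v * v + 4 * B * B - 5 * C * C - 5 * E * E : ℤ) : ℂ) = ((0 : ℤ) : ℂ) := by
      push_cast
      linear_combination (40 : ℂ) * e2'
    exact_mod_cast this
  have hbound := Cfsg.Agent.Lib.Char.Values.IsCharacter.norm_le (hch χ₁) z
  rw [hv, hS.d1, Complex.norm_intCast, Complex.norm_natCast] at hbound
  have hb2 : (|v| : ℤ) ≤ 5 := by exact_mod_cast hbound
  have hb3 := abs_le.mp hb2
  have hv5 : v ≠ 5 := by
    rintro rfl
    have h1 : (χ₁ : G → ℂ) z = (χ₁ : G → ℂ) 1 := by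
      rw [hv, hS.d1]
      norm_num
    have h2 := eq_one_of_value_eq_degree hS.nt₁ h1
    rw [h2, orderOf_one] at hz
    omega
  exact invol_numeric f1 f2 f3 hb3.1 (by omega)

/-- The count of elements of order 3 with `u t` of order 3. -/
theorem card_ge (h : Main S t s₁ s₂) : Cnt s₁ s₁ t + Cnt s₂ s₂ t ≤ Nat.card (Zt t) := by
  classical
  have hmem : ∀ {s u : G}, orderOf s = 3 → IsConj s u → IsConj (u * t) s → u ∈ Zt t := by
    intro s u hs h1 h2
    refine ⟨by rw [← orderOf_of_isConj h1, hs], ?_⟩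
    have h3 : IsConj (t * u) (u * t) := isConj_iff.mpr ⟨u, by group⟩
    rw [orderOf_of_isConj h3, orderOf_of_isConj h2, hs]
  let F : {u // IsConj s₁ u ∧ IsConj (u * t) s₁} ⊕ {u // IsConj s₂ u ∧ IsConj (u * t) s₂} → Zt t :=
    Sum.elim (fun u => ⟨u.1, hmem h.o1 u.2.1 u.2.2⟩) (fun u => ⟨u.1, hmem h.o2 u.2.1 u.2.2⟩)
  have hF : Function.Injective F := by
    rintro (⟨u, hu⟩ | ⟨u, hu⟩) (⟨u', hu'⟩ | ⟨u', hu'⟩) he
    · have : u = u' := congrArg Subtype.val he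
      subst this
      rfl
    · have : u = u' := congrArg Subtype.val he
      subst this
      exact absurd (hu.1.trans hu'.1.symm) h.hne
    · have : u = u' := congrArg Subtype.val he
      subst this
      exact absurd (hu'.1.trans hu.1.symm) h.hne
    · have : u = u' := congrArg Subtype.val he
      subst this
      rfl
  have h1 := Nat.card_le_card_of_injective F hF
  rw [Nat.card_sum] at h1
  exact h1

/-- The order of `G`. -/
theorem card_eq [IsSimpleGroup G] (h : Main S t s₁ s₂) : Nat.card G = 360 := by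
  obtain ⟨χ₁, χ₂, β₁, β₂, β₃, hf⟩ := h.exists_final
  have h45 := h.eq45 hf
  have hall := h.conj_all hf
  have hodd := index_odd h.ht hall
  have hn := card_index t
  have hn3 := h.not3_c
  have hc1 := h.cnt_one hf
  have hc2 := h.cnt_two hf
  have hge := h.card_ge
  set c := Nat.card (Cn t) with hc
  set m := (Cn t).index with hm
  have hcpos : 0 < c := Nat.card_pos
  obtain ⟨N, hN⟩ : 8 ∣ c := by
    have h1 : 8 ∣ 45 * c := ⟨m, h45⟩
    exact (by norm_num : Nat.Coprime 8 45).dvd_of_dvd_mul_left h1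
  have hmN : m = 45 * N := by omega
  have hN2 : ¬ 2 ∣ N := by
    intro h1
    apply hodd
    rw [hmN]
    exact Dvd.dvd.mul_left h1 45
  have hN3 : ¬ 3 ∣ N := by
    intro h1
    apply hn3
    rw [hN]
    exact Dvd.dvd.mul_left h1 8
  obtain ⟨R, hR, hRc⟩ := exists_reps_le h.ht hN hN2
  have hZ := card_ZtW h.scw h.ht hR
  rw [← hc] at hZ
  have hle : 2 * Nat.card G ≤ 45 * (c * 8) := by
    have h1 : Nat.card (Zt t) ≤ c * 8 := by
      rw [hZ]
      exact Nat.mul_le_mul_left c hRc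
    omega
  have hNpos : 0 < N := by omega
  have hN4 : N ≤ 4 := by
    rw [← hn, hN, hmN] at hle
    have h2 : 2 * (8 * N * (45 * N)) = (8 * N) * (90 * N) := by ring
    have h3 : 45 * (8 * N * 8) = (8 * N) * 360 := by ring
    rw [h2, h3] at hle
    have h4 := Nat.le_of_mul_le_mul_left hle (by omega)
    omega
  have hN1 : N = 1 := by
    interval_cases N
    · rfl
    · exact absurd (by norm_num) hN2
    · exact absurd (by norm_num) hN3
    · exact absurd (by norm_num) hN2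
  rw [← hn, hN, hmN, hN1]

end Main

end Cfsg.Agent.Lib.Blocks.TI9
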