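import Mathlib
import Cfsg.Agent.Lib.Blocks.TI9L

/-!
# Trivial intersection Sylow 3-subgroups of order 9: the case `|N(S) : S| = 2`
-/

set_option autoImplicit false

namespace Cfsg.Agent.Lib.Blocks.TI9

open Cfsg Cfsg.Agent.Lib.Blocks.SC3 Cfsg.Agent.Lib.Blocks.Principal
open scoped ComplexConjugate

universe u

/-- The numerics of a third column. -/
theorem third_num {X U₁ U₂ U₃ : ℤ} (hX : (3 : ℤ) ∣ X - 1) (h₁ : (3 : ℤ) ∣ U₁ - 1) (h₂ : (3 : ℤ) ∣ U₂ - 1) (h₃ : (3 : ℤ) ∣ U₃ - 1)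
    (hr : 1 - X + U₁ + U₂ + U₃ = 0) (hn : 1 + X * X + X * X + U₁ * U₁ + U₂ * U₂ + U₃ * U₃ ≤ 9) :
    X = 1 ∧ ((U₁ = -2 ∧ U₂ = 1 ∧ U₃ = 1) ∨ (U₁ = 1 ∧ U₂ = -2 ∧ U₃ = 1) ∨ (U₁ = 1 ∧ U₂ = 1 ∧ U₃ = -2)) := by
  have p1 := mul_self_nonneg X
  have p2 := mul_self_nonneg U₁
  have p3 := mul_self_nonneg U₂
  have p4 := mul_self_nonneg U₃
  have b1 : X ≤ 2 := by nlinarith
  have b2 : -2 ≤ X := by nlinarith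
  have b3 : U₁ ≤ 2 := by nlinarith
  have b4 : -2 ≤ U₁ := by nlinarith
  have b5 : U₂ ≤ 2 := by nlinarith
  have b6 : -2 ≤ U₂ := by nlinarith
  have b7 : U₃ ≤ 2 := by nlinarith
  have b8 : -2 ≤ U₃ := by nlinarith
  have c1 : X = 1 ∨ X = -2 := by omega
  have c2 : U₁ = 1 ∨ U₁ = -2 := by omega
  have c3 : U₂ = 1 ∨ U₂ = -2 := by omega
  have c4 : U₃ = 1 ∨ U₃ = -2 := by omega
  rcases c1 with rfl | rfl <;> rcases c2 with rfl | rfl <;> rcases c3 with rfl | rfl <;> rcases c4 with rfl | rfl <;>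
    simp_all

/-- The pattern of a third column. -/
def Pat (ρ₁ ρ₂ ρ₃ u₁ u₂ u₃ : ℤ) : Prop :=
  (u₁ = -2 * ρ₁ ∧ u₂ = ρ₂ ∧ u₃ = ρ₃) ∨ (u₁ = ρ₁ ∧ u₂ = -2 * ρ₂ ∧ u₃ = ρ₃) ∨ (u₁ = ρ₁ ∧ u₂ = ρ₂ ∧ u₃ = -2 * ρ₃)

theorem third_num2 {δ ρ₁ ρ₂ ρ₃ x y u₁ u₂ u₃ : ℤ} (hδ : δ = 1 ∨ δ = -1) (hρ₁ : ρ₁ = 1 ∨ ρ₁ = -1) (hρ₂ : ρ₂ = 1 ∨ ρ₂ = -1)
    (hρ₃ : ρ₃ = 1 ∨ ρ₃ = -1) (hx : (3 : ℤ) ∣ x - δ) (h₁ : (3 : ℤ) ∣ u₁ - ρ₁) (h₂ : (3 : ℤ) ∣ u₂ - ρ₂) (h₃ : (3 : ℤ) ∣ u₃ - ρ₃)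
    (c1 : 1 + x * δ + y * (-2 * δ) + u₁ * ρ₁ + u₂ * ρ₂ + u₃ * ρ₃ = 0)
    (c2 : 1 + x * (-2 * δ) + y * δ + u₁ * ρ₁ + u₂ * ρ₂ + u₃ * ρ₃ = 0)
    (hn : 1 + x * x + y * y + u₁ * u₁ + u₂ * u₂ + u₃ * u₃ ≤ 9) :
    x = δ ∧ y = δ ∧ Pat ρ₁ ρ₂ ρ₃ u₁ u₂ u₃ := by
  have sq : ∀ {a : ℤ}, (a = 1 ∨ a = -1) → a * a = 1 := by
    intro a ha
    rcases ha with rfl | rfl <;> norm_num
  have hδ2 := sq hδ
  have hρ₁2 := sq hρ₁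
  have hρ₂2 := sq hρ₂
  have hρ₃2 := sq hρ₃
  have hxy : x = y := by
    have h1 : 3 * (δ * (x - y)) = 0 := by linear_combination c1 - c2
    have h2 : δ * (x - y) = 0 := by omega
    have h3 : δ ≠ 0 := by
      rcases hδ with rfl | rfl <;> norm_num
    have h4 := (mul_eq_zero.mp h2).resolve_left h3
    omega
  subst hxy
  have hdv : ∀ {a b : ℤ}, a * a = 1 → (3 : ℤ) ∣ b - a → (3 : ℤ) ∣ a * b - 1 := by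
    intro a b ha hb
    have h1 : a * b - 1 = a * (b - a) := by linear_combination ha
    rw [h1]
    exact Dvd.dvd.mul_left hb a
  have hnum := third_num (X := δ * x) (U₁ := ρ₁ * u₁) (U₂ := ρ₂ * u₂) (U₃ := ρ₃ * u₃) (hdv hδ2 hx) (hdv hρ₁2 h₁) (hdv hρ₂2 h₂)
    (hdv hρ₃2 h₃) (by linear_combination c1) (by
      have e1 : 1 + δ * x * (δ * x) + δ * x * (δ * x) + ρ₁ * u₁ * (ρ₁ * u₁) + ρ₂ * u₂ * (ρ₂ * u₂) + ρ₃ * u₃ * (ρ₃ * u₃) =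
          1 + (δ * δ) * (x * x) + (δ * δ) * (x * x) + (ρ₁ * ρ₁) * (u₁ * u₁) + (ρ₂ * ρ₂) * (u₂ * u₂) + (ρ₃ * ρ₃) * (u₃ * u₃) := by ring
      rw [e1, hδ2, hρ₁2, hρ₂2, hρ₃2]
      linarith)
  have hback : ∀ {a b c : ℤ}, a * a = 1 → a * b = c → b = a * c := by
    intro a b c ha h
    rw [← h]
    linear_combination (-b) * ha
  obtain ⟨h1, h2⟩ := hnum
  have hxδ : x = δ := by
    have := hback hδ2 h1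
    rw [this]
    ring
  refine ⟨hxδ, hxδ, ?_⟩
  rcases h2 with ⟨a1, a2, a3⟩ | ⟨a1, a2, a3⟩ | ⟨a1, a2, a3⟩
  · left
    have b1 := hback hρ₁2 a1
    have b2 := hback hρ₂2 a2
    have b3 := hback hρ₃2 a3
    exact ⟨by rw [b1]; ring, by rw [b2]; ring, by rw [b3]; ring⟩
  · right; left
    have b1 := hback hρ₁2 a1
    have b2 := hback hρ₂2 a2
    have b3 := hback hρ₃2 a3
    exact ⟨by rw [b1]; ring, by rw [b2]; ring, by rw [b3]; ring⟩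
  · right; right
    have b1 := hback hρ₁2 a1
    have b2 := hback hρ₂2 a2
    have b3 := hback hρ₃2 a3
    exact ⟨by rw [b1]; ring, by rw [b2]; ring, by rw [b3]; ring⟩

variable {G : Type u} [Group G] [Finite G]

attribute [local instance] Classical.propDecidable

variable {s₁ s₂ s₃ : G} {χ₁ χ₂ β₁ β₂ β₃ : IrrCharacter G} {δ ρ₁ ρ₂ ρ₃ : ℤ} {a b₁ b₂ b₃ : ℕ}

theorem cong_three {ξ : G → ℂ} (hξ : IsCharacter G ξ) {s s' : G} (hs : orderOf s = 3) (hr : IsConj s s⁻¹) (hs' : orderOf s' = 3)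
    (hr' : IsConj s' s'⁻¹) {z z' : ℤ} (hz : ξ s = z) (hz' : ξ s' = z') : (3 : ℤ) ∣ z - z' := by
  obtain ⟨m, hm⟩ := exists_nat_zpowers hξ hs hr
  obtain ⟨m', hm'⟩ := exists_nat_zpowers hξ hs' hr'
  rw [hz] at hm
  rw [hz'] at hm'
  have h1 : (((2 * z - 2 * z' : ℤ)) : ℂ) = ((3 * ((m : ℤ) - m') : ℤ) : ℂ) := by
    push_cast
    linear_combination hm - hm'
  have h2 : 2 * z - 2 * z' = 3 * ((m : ℤ) - m') := by exact_mod_cast h1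
  omega

/-- The data of a third column. -/
structure Third (s₃ : G) (χ₁ χ₂ β₁ β₂ β₃ : IrrCharacter G) (δ u₁ u₂ u₃ : ℤ) : Prop where
  x : (χ₁ : G → ℂ) s₃ = δ
  y : (χ₂ : G → ℂ) s₃ = δ
  w₁ : (β₁ : G → ℂ) s₃ = u₁
  w₂ : (β₂ : G → ℂ) s₃ = u₂
  w₃ : (β₃ : G → ℂ) s₃ = u₃
  col : ∀ g, 1 + (χ₁ : G → ℂ) g * δ + (χ₂ : G → ℂ) g * δ + (β₁ : G → ℂ) g * u₁ + (β₂ : G → ℂ) g * u₂ +
    (β₃ : G → ℂ) g * u₃ = if IsConj g s₃ then 9 else 0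

/-- The third column. -/
theorem third_col (hS : Six s₁ s₂ χ₁ χ₂ β₁ β₂ β₃ δ ρ₁ ρ₂ ρ₃ a b₁ b₂ b₃) (ho₁ : orderOf s₁ = 3) (hr₁ : IsConj s₁ s₁⁻¹)
    (ho : orderOf s₃ = 3) (hr : IsConj s₃ s₃⁻¹) (hc : Nat.card (Cn s₃) = 9) (h1 : ¬ IsConj s₃ s₁) (h2 : ¬ IsConj s₃ s₂) :
    ∃ u₁ u₂ u₃ : ℤ, Third s₃ χ₁ χ₂ β₁ β₂ β₃ δ u₁ u₂ u₃ ∧ Pat ρ₁ ρ₂ ρ₃ u₁ u₂ u₃ := by
  classical
  haveI : Fintype G := Fintype.ofFinite G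
  have hch : ∀ ξ : IrrCharacter G, IsCharacter G (ξ : G → ℂ) := fun ξ =>
    Cfsg.Agent.Lib.Char.Basic.isCharacter_of_isIrrCharacter ξ.2
  choose z hz using fun ξ : IrrCharacter G => exists_int_value (hch ξ) ho hr
  have hn := col_norm hz
  rw [hc] at hn
  have e1 := hS.col1 s₃
  have e2 := hS.col2 s₃
  rw [if_neg h1, hz χ₁, hz χ₂, hz β₁, hz β₂, hz β₃] at e1
  rw [if_neg h2, hz χ₁, hz χ₂, hz β₁, hz β₂, hz β₃] at e2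
  have e1' : 1 + z χ₁ * δ + z χ₂ * (-2 * δ) + z β₁ * ρ₁ + z β₂ * ρ₂ + z β₃ * ρ₃ = 0 := by
    have : ((1 + z χ₁ * δ + z χ₂ * (-2 * δ) + z β₁ * ρ₁ + z β₂ * ρ₂ + z β₃ * ρ₃ : ℤ) : ℂ) = ((0 : ℤ) : ℂ) := by
      push_cast
      linear_combination e1
    exact_mod_cast this
  have e2' : 1 + z χ₁ * (-2 * δ) + z χ₂ * δ + z β₁ * ρ₁ + z β₂ * ρ₂ + z β₃ * ρ₃ = 0 := by
    have : ((1 + z χ₁ * (-2 * δ) + z χ₂ * δ + z β₁ * ρ₁ + z β₂ * ρ₂ + z β₃ * ρ₃ : ℤ) : ℂ) = ((0 : ℤ) : ℂ) := by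
      push_cast
      linear_combination e2
    exact_mod_cast this
  have hz0 : z (trivChar G) = 1 := col_triv hz
  -- the splitting of the norm
  let P : IrrCharacter G → Prop := fun ψ => ψ = trivChar G ∨ ψ = χ₁ ∨ ψ = χ₂ ∨ ψ = β₁ ∨ ψ = β₂ ∨ ψ = β₃
  have h3 : ∑ ψ : IrrCharacter G, (z ψ) ^ 2 = ∑ ψ : IrrCharacter G, (if P ψ then (z ψ) ^ 2 else 0) +
      ∑ ψ : IrrCharacter G, (if P ψ then 0 else (z ψ) ^ 2) := by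
    rw [← Finset.sum_add_distrib]
    refine Finset.sum_congr rfl fun ψ _ => ?_
    by_cases hψ : P ψ <;> simp [hψ]
  have hPP : ∀ {ψ : IrrCharacter G}, ψ ≠ trivChar G → ψ ≠ χ₁ → ψ ≠ χ₂ → ψ ≠ β₁ → ψ ≠ β₂ → ψ ≠ β₃ → ¬ P ψ := by
    intro ψ a1 a2 a3 a4 a5 a6
    rintro (h0 | h0 | h0 | h0 | h0 | h0)
    · exact a1 h0
    · exact a2 h0
    · exact a3 h0
    · exact a4 h0
    · exact a5 h0
    · exact a6 h0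
  have h4 := sum_six (fun ψ : IrrCharacter G => if P ψ then (z ψ) ^ 2 else 0)
      hS.nt₁.symm hS.nt₂.symm hS.ntb₁.symm hS.ntb₂.symm hS.ntb₃.symm hS.n12 hS.n1b₁ hS.n1b₂ hS.n1b₃ hS.n2b₁ hS.n2b₂ hS.n2b₃
      hS.nb12 hS.nb13 hS.nb23 (by
        intro k a1 a2 a3 a4 a5 a6
        simp only [if_neg (hPP a1 a2 a3 a4 a5 a6)])
  have hP0 : P (trivChar G) := Or.inl rfl
  have hP1 : P χ₁ := Or.inr (Or.inl rfl)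
  have hP2 : P χ₂ := Or.inr (Or.inr (Or.inl rfl))
  have hP3 : P β₁ := Or.inr (Or.inr (Or.inr (Or.inl rfl)))
  have hP4 : P β₂ := Or.inr (Or.inr (Or.inr (Or.inr (Or.inl rfl))))
  have hP5 : P β₃ := Or.inr (Or.inr (Or.inr (Or.inr (Or.inr rfl))))
  simp only [if_pos hP0, if_pos hP1, if_pos hP2, if_pos hP3, if_pos hP4, if_pos hP5, hz0] at h4
  have h5 : 0 ≤ ∑ ψ : IrrCharacter G, (if P ψ then 0 else (z ψ) ^ 2) :=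
    Finset.sum_nonneg fun ψ _ => by
      split_ifs
      · exact le_rfl
      · positivity
  rw [h3, h4] at hn
  push_cast at hn
  have hbound : 1 + z χ₁ * z χ₁ + z χ₂ * z χ₂ + z β₁ * z β₁ + z β₂ * z β₂ + z β₃ * z β₃ ≤ 9 := by
    nlinarith
  have hcong : ∀ (ξ : IrrCharacter G) {w : ℤ}, (ξ : G → ℂ) s₁ = w → (3 : ℤ) ∣ z ξ - w := fun ξ {w} hw =>
    cong_three (hch ξ) ho hr ho₁ hr₁ (hz ξ) hw
  obtain ⟨hx, hy, hpat⟩ := third_num2 hS.hδ hS.hρ₁ hS.hρ₂ hS.hρ₃ (hcong χ₁ hS.v11) (hcong β₁ hS.w11) (hcong β₂ hS.w21)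
    (hcong β₃ hS.w31) e1' e2' hbound
  -- the rest of the column vanishes
  have hsq : ∀ {w r : ℤ}, (r = 1 ∨ r = -1) → w = r → w ^ 2 = 1 := by
    rintro w r hr rfl
    rcases hr with rfl | rfl <;> norm_num
  have hsq' : ∀ {w r : ℤ}, (r = 1 ∨ r = -1) → w = -2 * r → w ^ 2 = 4 := by
    rintro w r hr rfl
    rcases hr with rfl | rfl <;> norm_num
  have hsix : z β₁ ^ 2 + z β₂ ^ 2 + z β₃ ^ 2 = 6 := by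
    rcases hpat with ⟨a1, a2, a3⟩ | ⟨a1, a2, a3⟩ | ⟨a1, a2, a3⟩
    · rw [hsq' hS.hρ₁ a1, hsq hS.hρ₂ a2, hsq hS.hρ₃ a3]; norm_num
    · rw [hsq hS.hρ₁ a1, hsq' hS.hρ₂ a2, hsq hS.hρ₃ a3]; norm_num
    · rw [hsq hS.hρ₁ a1, hsq hS.hρ₂ a2, hsq' hS.hρ₃ a3]; norm_num
  have hx2 : z χ₁ ^ 2 = 1 := hsq hS.hδ hx
  have hy2 : z χ₂ ^ 2 = 1 := hsq hS.hδ hy
  have hrest : ∑ ψ : IrrCharacter G, (if P ψ then 0 else (z ψ) ^ 2) = 0 := by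
    have : (1 : ℤ) ^ 2 + (z χ₁ ^ 2 + (z χ₂ ^ 2 + (z β₁ ^ 2 + (z β₂ ^ 2 + z β₃ ^ 2)))) + ∑ ψ : IrrCharacter G, (if P ψ then 0 else (z ψ) ^ 2) = 9 := hn
    rw [hx2, hy2] at this
    linarith
  have hzero : ∀ ψ : IrrCharacter G, ¬ P ψ → z ψ = 0 := by
    intro ψ hψ
    have h6 := (Finset.sum_eq_zero_iff_of_nonneg (fun ψ _ => by
      split_ifs
      · exact le_rfl
      · positivity)).mp hrest ψ (Finset.mem_univ ψ)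
    rw [if_neg hψ] at h6
    exact pow_eq_zero_iff (by norm_num) |>.mp h6
  refine ⟨z β₁, z β₂, z β₃, ⟨?_, ?_, hz β₁, hz β₂, hz β₃, ?_⟩, hpat⟩
  · rw [hz χ₁, hx]
  · rw [hz χ₂, hy]
  · intro g
    have h7 := col_sum hz g
    have hc' : (Nat.card (Cn s₃) : ℂ) = 9 := by rw [hc]; norm_num
    rw [hc', sum_six (fun ψ : IrrCharacter G => (ψ : G → ℂ) g * (z ψ : ℂ))
      hS.nt₁.symm hS.nt₂.symm hS.ntb₁.symm hS.ntb₂.symm hS.ntb₃.symm hS.n12 hS.n1b₁ hS.n1b₂ hS.n1b₃ hS.n2b₁ hS.n2b₂ hS.n2b₃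
      hS.nb12 hS.nb13 hS.nb23 (by
        intro k a1 a2 a3 a4 a5 a6
        simp only [hzero k (hPP a1 a2 a3 a4 a5 a6), Int.cast_zero, mul_zero])] at h7
    rw [← h7, hz0, hx, hy, coe_trivChar]
    push_cast
    ring

end Cfsg.Agent.Lib.Blocks.TI9
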