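import Mathlib
import Cfsg.Agent.Lib.Blocks.TI9M

/-!
# Trivial intersection Sylow 3-subgroups of order 9: the case `|N(S) : S| = 2` is impossible in a simple group
-/

set_option autoImplicit false

namespace Cfsg.Agent.Lib.Blocks.TI9

open Cfsg Cfsg.Agent.Lib.Blocks.SC3 Cfsg.Agent.Lib.Blocks.Principal
open scoped ComplexConjugate

universe u

variable {G : Type u} [Group G] [Finite G]

variable {s₁ s₂ s₃ s₄ t : G} {χ₁ χ₂ β₁ β₂ β₃ : IrrCharacter G} {δ ρ₁ ρ₂ ρ₃ : ℤ} {a b₁ b₂ b₃ : ℕ}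

/-- The arithmetic core. -/
theorem e2_core [IsSimpleGroup G] (ht : orderOf t = 2) (ho₁ : orderOf s₁ = 3) (ho₂ : orderOf s₂ = 3) (hne : ¬ IsConj s₁ s₂)
    (hnc : ∃ u v : G, u * v ≠ v * u) (hS : Six s₁ s₂ χ₁ χ₂ β₁ β₂ β₃ δ ρ₁ ρ₂ ρ₃ a b₁ b₂ b₃)
    (hk₁ : ρ₁ = δ) (hk₂ : b₁ = a) (hk₃ : (β₁ : G → ℂ) t = (χ₂ : G → ℂ) t)
    (hl₁ : ρ₂ = δ) (hl₂ : b₂ = a) (hl₃ : (β₂ : G → ℂ) t = (χ₂ : G → ℂ) t) : False := by
  classical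
  haveI : Fintype G := Fintype.ofFinite G
  have hk₁' := hk₁.symm
  have hk₂' := hk₂.symm
  have hl₁' := hl₁.symm
  have hl₂' := hl₂.symm
  subst hk₁' hk₂' hl₁' hl₂'
  have hch : ∀ ξ : IrrCharacter G, IsCharacter G (ξ : G → ℂ) := fun ξ =>
    Cfsg.Agent.Lib.Char.Basic.isCharacter_of_isIrrCharacter ξ.2
  obtain ⟨A, hA⟩ := Cfsg.Agent.Lib.Blocks.BSInd.exists_int_of_involution (hch χ₁) ht
  obtain ⟨B, hB⟩ := Cfsg.Agent.Lib.Blocks.BSInd.exists_int_of_involution (hch β₃) ht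
  have hA2 : (χ₂ : G → ℂ) t = A := by
    rw [← hA]
    exact (Main.eq_of_col hS (Main.not_conj_invol ho₁ ht) (Main.not_conj_invol ho₂ ht)).symm
  rw [hA2] at hk₃ hl₃
  have e1 := hS.col1 t
  rw [if_neg (Main.not_conj_invol ho₁ ht), hA, hA2, hk₃, hl₃, hB] at e1
  have e2 := hS.col1 1
  rw [if_neg (Main.not_conj_one ho₁), hS.d1, hS.d2, hS.db₁, hS.db₂, hS.db₃] at e2
  have e3 := hS.cnt2 s₁ t
  rw [cnt_mixed_eq_zero ho₁ ho₂ ht hne, hS.v11, hS.v21, hS.w11, hS.w21, hS.w31, hA, hA2, hk₃, hl₃, hB] at e3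
  have hidx : (((Cn s₁).index : ℕ) : ℂ) ≠ 0 := by
    exact_mod_cast (Subgroup.index_ne_zero_of_finite : (Cn s₁).index ≠ 0)
  have e4 : (1 : ℂ) + -2 * δ * (δ * A / a) + δ * (-2 * δ * A / a) + δ * (δ * A / a) + δ * (δ * A / a) + ρ₃ * (ρ₃ * B / b₃) = 0 := by
    have e5 : ((Cn s₁).index : ℂ) * ((1 : ℂ) + -2 * δ * (δ * A / a) + δ * (-2 * δ * A / a) + δ * (δ * A / a) + δ * (δ * A / a) + ρ₃ * (ρ₃ * B / b₃)) = 0 := by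
      rw [← e3]
      simp
    exact (mul_eq_zero.mp e5).resolve_left hidx
  have hapos := hS.ha
  have hb₃pos := hS.hb₃
  have ha' : (a : ℂ) ≠ 0 := by exact_mod_cast hapos.ne'
  have hb' : (b₃ : ℂ) ≠ 0 := by exact_mod_cast hb₃pos.ne'
  have d2 := Main.sq_one hS.hδ
  have r3 := Main.sq_one hS.hρ₃
  have e6 : (1 : ℂ) - 2 * A / a + B / b₃ = 0 := by
    linear_combination e4 + (2 * A / a : ℂ) * d2 - (B / b₃ : ℂ) * r3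
  have f1 : 1 + δ * A + ρ₃ * B = 0 := by
    have : ((1 + δ * A + ρ₃ * B : ℤ) : ℂ) = ((0 : ℤ) : ℂ) := by
      push_cast
      linear_combination e1
    exact_mod_cast this
  have f2 : 1 + δ * (a : ℤ) + ρ₃ * (b₃ : ℤ) = 0 := by
    have : ((1 + δ * (a : ℤ) + ρ₃ * (b₃ : ℤ) : ℤ) : ℂ) = ((0 : ℤ) : ℂ) := by
      push_cast
      linear_combination e2
    exact_mod_cast this
  have f3 : (a : ℤ) * b₃ - 2 * A * b₃ + B * a = 0 := by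
    have : (((a : ℤ) * b₃ - 2 * A * b₃ + B * a : ℤ) : ℂ) = ((0 : ℤ) : ℂ) := by
      push_cast
      have e7 : (a : ℂ) * b₃ - 2 * A * b₃ + B * a = (a : ℂ) * b₃ * ((1 : ℂ) - 2 * A / a + B / b₃) := by
        field_simp
      rw [e7, e6, mul_zero]
    exact_mod_cast this
  have hne1 : (A : ℤ) ≠ a := by
    intro h1
    have h2 : (χ₁ : G → ℂ) t = (χ₁ : G → ℂ) 1 := by
      rw [hA, hS.d1, h1]
      simp
    have h3 := eq_one_of_value_eq_degree hS.nt₁ h2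
    rw [h3, orderOf_one] at ht
    omega
  have hdeg1 : (b₃ : ℤ) ≠ 1 := by
    have := degree_ne_one_of_simple hnc hS.ntb₃ hS.db₃
    exact_mod_cast this
  have hbp : (0 : ℤ) < a := by exact_mod_cast hapos
  have hb3p : (0 : ℤ) < b₃ := by exact_mod_cast hb₃pos
  rcases hS.hδ with h1 | h1 <;> rcases hS.hρ₃ with h2 | h2 <;> rw [h1] at f1 f2 <;> rw [h2] at f1 f2
  · omega
  · have h3 : (b₃ : ℤ) = a + 1 := by omega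
    have h4 : B = A + 1 := by omega
    rw [h3, h4] at f3
    have h5 : ((a : ℤ) - A) * ((a : ℤ) + 2) = 0 := by linear_combination f3
    rcases mul_eq_zero.mp h5 with h6 | h6
    · exact hne1 (by omega)
    · omega
  · have h3 : (b₃ : ℤ) = a - 1 := by omega
    have h4 : B = A - 1 := by omega
    rw [h3, h4] at f3
    have h5 : ((a : ℤ) - A) * ((a : ℤ) - 2) = 0 := by linear_combination f3
    rcases mul_eq_zero.mp h5 with h6 | h6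
    · exact hne1 (by omega)
    · omega
  · omega

/-- The consequence of the matching of two columns. -/
theorem match_of_eq {χ₂ β : IrrCharacter G} {ρ : ℤ} {b : ℕ} (hρ : ρ = 1 ∨ ρ = -1) (hδ : δ = 1 ∨ δ = -1) (ha : 0 < a) (hb : 0 < b)
    (d2 : (χ₂ : G → ℂ) 1 = a) (db : (β : G → ℂ) 1 = b) (h1 : (δ : ℂ) * (χ₂ : G → ℂ) 1 = ρ * (β : G → ℂ) 1)
    (h2 : (δ : ℂ) * (χ₂ : G → ℂ) t = ρ * (β : G → ℂ) t) : ρ = δ ∧ b = a ∧ (β : G → ℂ) t = (χ₂ : G → ℂ) t := by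
  rw [d2, db] at h1
  have h3 : δ * (a : ℤ) = ρ * (b : ℤ) := by exact_mod_cast h1
  have ha' : (0 : ℤ) < a := by exact_mod_cast ha
  have hb' : (0 : ℤ) < b := by exact_mod_cast hb
  have hρδ : ρ = δ := by
    rcases hρ with rfl | rfl <;> rcases hδ with rfl | rfl <;> first | rfl | omega
  subst hρδ
  have h4 : (b : ℤ) = a := by
    rcases hδ with rfl | rfl <;> omega
  have hδ0 : (ρ : ℂ) ≠ 0 := by
    rcases hδ with rfl | rfl <;> simp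
  refine ⟨rfl, by exact_mod_cast h4, ?_⟩
  exact (mul_left_cancel₀ hδ0 h2).symm

variable (hS : Six s₁ s₂ χ₁ χ₂ β₁ β₂ β₃ δ ρ₁ ρ₂ ρ₃ a b₁ b₂ b₃) {u₁ u₂ u₃ : ℤ}
include hS

theorem match_k {s₃ : G} (hT : Third s₃ χ₁ χ₂ β₁ β₂ β₃ δ u₁ u₂ u₃) (hp : Pat ρ₁ ρ₂ ρ₃ u₁ u₂ u₃)
    (hn1 : ¬ IsConj (1 : G) s₁) (hn3 : ¬ IsConj (1 : G) s₃) (ht1 : ¬ IsConj t s₁) (ht3 : ¬ IsConj t s₃) :
    (ρ₁ = δ ∧ b₁ = a ∧ (β₁ : G → ℂ) t = (χ₂ : G → ℂ) t ∧ u₁ = -2 * ρ₁ ∧ u₂ = ρ₂ ∧ u₃ = ρ₃) ∨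
    (ρ₂ = δ ∧ b₂ = a ∧ (β₂ : G → ℂ) t = (χ₂ : G → ℂ) t ∧ u₁ = ρ₁ ∧ u₂ = -2 * ρ₂ ∧ u₃ = ρ₃) ∨
    (ρ₃ = δ ∧ b₃ = a ∧ (β₃ : G → ℂ) t = (χ₂ : G → ℂ) t ∧ u₁ = ρ₁ ∧ u₂ = ρ₂ ∧ u₃ = -2 * ρ₃) := by
  classical
  have e1 := hS.col1 1
  have e2 := hT.col 1
  have e3 := hS.col1 t
  have e4 := hT.col t
  rw [if_neg hn1] at e1
  rw [if_neg hn3] at e2
  rw [if_neg ht1] at e3
  rw [if_neg ht3] at e4
  rcases hp with ⟨a1, a2, a3⟩ | ⟨a1, a2, a3⟩ | ⟨a1, a2, a3⟩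
  · left
    subst a1 a2 a3
    push_cast at e1 e2 e3 e4
    obtain ⟨h1, h2, h3⟩ := match_of_eq hS.hρ₁ hS.hδ hS.ha hS.hb₁ hS.d2 hS.db₁ (by linear_combination (1 / 3 : ℂ) * e2 - (1 / 3 : ℂ) * e1)
      (by linear_combination (1 / 3 : ℂ) * e4 - (1 / 3 : ℂ) * e3)
    exact ⟨h1, h2, h3, rfl, rfl, rfl⟩
  · right; left
    subst a1 a2 a3
    push_cast at e1 e2 e3 e4
    obtain ⟨h1, h2, h3⟩ := match_of_eq hS.hρ₂ hS.hδ hS.ha hS.hb₂ hS.d2 hS.db₂ (by linear_combination (1 / 3 : ℂ) * e2 - (1 / 3 : ℂ) * e1)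
      (by linear_combination (1 / 3 : ℂ) * e4 - (1 / 3 : ℂ) * e3)
    exact ⟨h1, h2, h3, rfl, rfl, rfl⟩
  · right; right
    subst a1 a2 a3
    push_cast at e1 e2 e3 e4
    obtain ⟨h1, h2, h3⟩ := match_of_eq hS.hρ₃ hS.hδ hS.ha hS.hb₃ hS.d2 hS.db₃ (by linear_combination (1 / 3 : ℂ) * e2 - (1 / 3 : ℂ) * e1)
      (by linear_combination (1 / 3 : ℂ) * e4 - (1 / 3 : ℂ) * e3)
    exact ⟨h1, h2, h3, rfl, rfl, rfl⟩

omit hS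

/-- Four classes of elements of order 3 with self-centralizing normalizers of order 18 do not exist in a simple group. -/
theorem four_classes_false [IsSimpleGroup G] (ht : orderOf t = 2) (hnc : ∃ u v : G, u * v ≠ v * u)
    (ho₁ : orderOf s₁ = 3) (ho₂ : orderOf s₂ = 3) (ho₃ : orderOf s₃ = 3) (ho₄ : orderOf s₄ = 3)
    (hr₁ : IsConj s₁ s₁⁻¹) (hr₂ : IsConj s₂ s₂⁻¹) (hr₃ : IsConj s₃ s₃⁻¹) (hr₄ : IsConj s₄ s₄⁻¹)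
    (hc₁ : Nat.card (Cn s₁) = 9) (hc₂ : Nat.card (Cn s₂) = 9) (hc₃ : Nat.card (Cn s₃) = 9) (hc₄ : Nat.card (Cn s₄) = 9)
    (n12 : ¬ IsConj s₁ s₂) (n31 : ¬ IsConj s₃ s₁) (n32 : ¬ IsConj s₃ s₂) (n41 : ¬ IsConj s₄ s₁) (n42 : ¬ IsConj s₄ s₂)
    (n43 : ¬ IsConj s₄ s₃) : False := by
  classical
  obtain ⟨χ₁, χ₂, β₁, β₂, β₃, δ, ρ₁, ρ₂, ρ₃, a, b₁, b₂, b₃, hS⟩ := exists_six ho₁ ho₂ hr₁ hr₂ hc₁ hc₂ n12
  obtain ⟨u₁, u₂, u₃, hT, hp⟩ := third_col hS ho₁ hr₁ ho₃ hr₃ hc₃ n31 n32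
  obtain ⟨w₁, w₂, w₃, hT', hp'⟩ := third_col hS ho₁ hr₁ ho₄ hr₄ hc₄ n41 n42
  have hn1 := Main.not_conj_one ho₁
  have hn3 := Main.not_conj_one ho₃
  have hn4 := Main.not_conj_one ho₄
  have ht1 := Main.not_conj_invol ho₁ ht
  have ht3 := Main.not_conj_invol ho₃ ht
  have ht4 := Main.not_conj_invol ho₄ ht
  have hm := match_k (t := t) hS hT hp hn1 hn3 ht1 ht3
  have hm' := match_k (t := t) hS hT' hp' hn1 hn4 ht1 ht4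
  have hcross := hT.col s₄
  rw [if_neg n43, hT'.x, hT'.y, hT'.w₁, hT'.w₂, hT'.w₃] at hcross
  have hcross' : 1 + δ * δ + δ * δ + w₁ * u₁ + w₂ * u₂ + w₃ * u₃ = 0 := by
    have : ((1 + δ * δ + δ * δ + w₁ * u₁ + w₂ * u₂ + w₃ * u₃ : ℤ) : ℂ) = ((0 : ℤ) : ℂ) := by
      push_cast
      linear_combination hcross
    exact_mod_cast this
  have sq : ∀ {a : ℤ}, (a = 1 ∨ a = -1) → a * a = 1 := by
    intro a ha
    rcases ha with rfl | rfl <;> norm_num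
  have d2 := sq hS.hδ
  have r1 := sq hS.hρ₁
  have r2 := sq hS.hρ₂
  have r3 := sq hS.hρ₃
  have hcore := fun {χ₁' χ₂' β₁' β₂' β₃' : IrrCharacter G} {δ' ρ₁' ρ₂' ρ₃' : ℤ} {a' b₁' b₂' b₃' : ℕ} (hS' : Six s₁ s₂ χ₁' χ₂' β₁' β₂' β₃' δ' ρ₁' ρ₂' ρ₃' a' b₁' b₂' b₃') =>
    @e2_core G _ _ s₁ s₂ t χ₁' χ₂' β₁' β₂' β₃' δ' ρ₁' ρ₂' ρ₃' a' b₁' b₂' b₃' _ ht ho₁ ho₂ n12 hnc hS'
  rcases hm with ⟨a1, a2, a3, e1, e2, e3⟩ | ⟨a1, a2, a3, e1, e2, e3⟩ | ⟨a1, a2, a3, e1, e2, e3⟩ <;>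
    rcases hm' with ⟨c1, c2, c3, f1, f2, f3⟩ | ⟨c1, c2, c3, f1, f2, f3⟩ | ⟨c1, c2, c3, f1, f2, f3⟩
  · have h9 : (9 : ℤ) = 0 := by
      rw [e1, e2, e3, f1, f2, f3] at hcross'
      linear_combination hcross' - 2 * d2 - 4 * r1 - r2 - r3
    norm_num at h9
  · exact hcore hS a1 a2 a3 c1 c2 c3
  · exact hcore hS.swap12.swap13 c1 c2 c3 a1 a2 a3
  · exact hcore hS c1 c2 c3 a1 a2 a3
  · have h9 : (9 : ℤ) = 0 := by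
      rw [e1, e2, e3, f1, f2, f3] at hcross'
      linear_combination hcross' - 2 * d2 - r1 - 4 * r2 - r3
    norm_num at h9
  · exact hcore hS.swap13 c1 c2 c3 a1 a2 a3
  · exact hcore hS.swap12.swap13 a1 a2 a3 c1 c2 c3
  · exact hcore hS.swap13 a1 a2 a3 c1 c2 c3
  · have h9 : (9 : ℤ) = 0 := by
      rw [e1, e2, e3, f1, f2, f3] at hcross'
      linear_combination hcross' - 2 * d2 - r1 - r2 - 4 * r3
    norm_num at h9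

end Cfsg.Agent.Lib.Blocks.TI9
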