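import Mathlib
import Cfsg.Agent.Lib.Blocks.TI9N

/-!
# Trivial intersection Sylow 3-subgroups of order 9: the main theorem
-/

set_option autoImplicit false

namespace Cfsg.Agent.Lib.Blocks.TI9

open Cfsg Cfsg.Agent.Lib.Blocks.SC3 Cfsg.Agent.Lib.Blocks.Principal
open scoped ComplexConjugate

universe u

variable {G : Type u} [Group G] [Finite G] {S : Subgroup G}

/-- The case `|N(S) : S| = 2` does not occur. -/
theorem e2_contra [IsSimpleGroup G] (hF : Fpf9 S) (hN : Nat.card (Nm S) = 18) {t : G} (ht : orderOf t = 2)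
    (htS : t ∉ S) (htN : t ∈ Nm S) : False := by
  classical
  haveI : Fintype G := Fintype.ofFinite G
  have t2 : t * t = 1 := by
    have := pow_orderOf_eq_one t
    rwa [ht, pow_two] at this
  have tne : t ≠ 1 := by
    rintro rfl
    rw [orderOf_one] at ht
    omega
  have hinv := hF.inverts t2 htS htN
  have hconj : ∀ a ∈ S, a ≠ 1 → ∀ b ∈ S, IsConj a b → b = a ∨ b = a⁻¹ := by
    intro a ha ha1 b hb hab
    have hcls := hF.fus a ha b hb hab
    have hcard := hF.card_cls ha ha1
    rw [hN] at hcard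
    have hc2 : Nat.card (cls (Nm S) a) = 2 := by omega
    by_contra hne
    push Not at hne
    have ha3 := hF.exp a ha
    have hane : a ≠ a⁻¹ := by
      intro h1
      have h2 : a * a = 1 := by
        nth_rw 2 [h1]
        exact mul_inv_cancel a
      apply ha1
      calc a = a ^ 3 * (a * a)⁻¹ := by group
        _ = 1 := by rw [ha3, h2]; group
    have hinvmem : a⁻¹ ∈ cls (Nm S) a := ⟨t, htN, hinv a ha⟩
    let f : Fin 3 → cls (Nm S) a := ![⟨a, self_mem_cls _ _⟩, ⟨a⁻¹, hinvmem⟩, ⟨b, hcls⟩]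
    have hf : Function.Injective f := by
      intro i j hij
      have hij' : (f i : G) = f j := congrArg Subtype.val hij
      fin_cases i <;> fin_cases j <;> first
        | rfl
        | exact absurd hij' hane
        | exact absurd hij'.symm hane
        | exact absurd hij' hne.1.symm
        | exact absurd hij'.symm hne.1.symm
        | exact absurd hij' hne.2.symm
        | exact absurd hij'.symm hne.2.symm
    have h3 := Nat.card_le_card_of_injective f hf
    rw [hc2, Nat.card_fin] at h3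
    omega
  set F : Finset G := Finset.univ.filter (· ∈ S) with hFdef
  have hcardF : F.card = 9 := by
    have := hF.card
    rw [Nat.card_eq_fintype_card, Fintype.card_subtype] at this
    convert this
  have hins : ∀ (a : G) (s : Finset G), (insert a s).card ≤ s.card + 1 := fun a s => Finset.card_insert_le a s
  have hm : ∀ {x : G}, x ∈ F → x ∈ S := fun {x} hx => by simpa [hFdef] using hx
  obtain ⟨s₁, hs₁F, hs₁⟩ := Finset.exists_mem_notMem_of_card_lt_card (s := ({1} : Finset G)) (t := F) (by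
    rw [hcardF]; simp)
  obtain ⟨s₂, hs₂F, hs₂⟩ := Finset.exists_mem_notMem_of_card_lt_card (s := insert s₁⁻¹ (insert s₁ ({1} : Finset G))) (t := F) (by
    rw [hcardF]
    have h1 := hins s₁⁻¹ (insert s₁ ({1} : Finset G))
    have h2 := hins s₁ ({1} : Finset G)
    simp only [Finset.card_singleton] at h2
    omega)
  obtain ⟨s₃, hs₃F, hs₃⟩ := Finset.exists_mem_notMem_of_card_lt_card
    (s := insert s₂⁻¹ (insert s₂ (insert s₁⁻¹ (insert s₁ ({1} : Finset G))))) (t := F) (by
    rw [hcardF]
    have h1 := hins s₂⁻¹ (insert s₂ (insert s₁⁻¹ (insert s₁ ({1} : Finset G))))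
    have h2 := hins s₂ (insert s₁⁻¹ (insert s₁ ({1} : Finset G)))
    have h3 := hins s₁⁻¹ (insert s₁ ({1} : Finset G))
    have h4 := hins s₁ ({1} : Finset G)
    simp only [Finset.card_singleton] at h4
    omega)
  obtain ⟨s₄, hs₄F, hs₄⟩ := Finset.exists_mem_notMem_of_card_lt_card
    (s := insert s₃⁻¹ (insert s₃ (insert s₂⁻¹ (insert s₂ (insert s₁⁻¹ (insert s₁ ({1} : Finset G))))))) (t := F) (by
    rw [hcardF]
    have h0 := hins s₃⁻¹ (insert s₃ (insert s₂⁻¹ (insert s₂ (insert s₁⁻¹ (insert s₁ ({1} : Finset G))))))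
    have h00 := hins s₃ (insert s₂⁻¹ (insert s₂ (insert s₁⁻¹ (insert s₁ ({1} : Finset G)))))
    have h1 := hins s₂⁻¹ (insert s₂ (insert s₁⁻¹ (insert s₁ ({1} : Finset G))))
    have h2 := hins s₂ (insert s₁⁻¹ (insert s₁ ({1} : Finset G)))
    have h3 := hins s₁⁻¹ (insert s₁ ({1} : Finset G))
    have h4 := hins s₁ ({1} : Finset G)
    simp only [Finset.card_singleton] at h4
    omega)
  simp only [Finset.mem_insert, Finset.mem_singleton, not_or] at hs₁ hs₂ hs₃ hs₄
  have m1 := hm hs₁F
  have m2 := hm hs₂F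
  have m3 := hm hs₃F
  have m4 := hm hs₄F
  have n1 : s₁ ≠ 1 := hs₁
  have n2 : s₂ ≠ 1 := hs₂.2.2
  have n3 : s₃ ≠ 1 := hs₃.2.2.2.2
  have n4 : s₄ ≠ 1 := hs₄.2.2.2.2.2.2
  have ho₁ := hF.orderOf_eq m1 n1
  have ho₂ := hF.orderOf_eq m2 n2
  have ho₃ := hF.orderOf_eq m3 n3
  have ho₄ := hF.orderOf_eq m4 n4
  have hreal : ∀ {s : G}, s ∈ S → IsConj s s⁻¹ := fun {s} hs => isConj_iff.mpr ⟨t, hinv s hs⟩
  have hnc : ∀ {a b : G}, a ∈ S → a ≠ 1 → b ∈ S → b ≠ a → b ≠ a⁻¹ → ¬ IsConj a b := by
    intro a b ha ha1 hb h1 h2 h3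
    rcases hconj a ha ha1 b hb h3 with h4 | h4
    · exact h1 h4
    · exact h2 h4
  refine four_classes_false (s₁ := s₁) (s₂ := s₂) (s₃ := s₃) (s₄ := s₄) ht
    ⟨t, s₁, not_comm_inv hF.scw t2 tne ho₁⟩ ho₁ ho₂ ho₃ ho₄ (hreal m1) (hreal m2) (hreal m3) (hreal m4)
    (hF.card_Cn ho₁) (hF.card_Cn ho₂) (hF.card_Cn ho₃) (hF.card_Cn ho₄)
    (hnc m1 n1 m2 hs₂.2.1 hs₂.1)
    (fun h => hnc m1 n1 m3 hs₃.2.2.2.1 hs₃.2.2.1 h.symm)
    (fun h => hnc m2 n2 m3 hs₃.2.1 hs₃.1 h.symm)
    (fun h => hnc m1 n1 m4 hs₄.2.2.2.2.2.1 hs₄.2.2.2.2.1 h.symm)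
    (fun h => hnc m2 n2 m4 hs₄.2.2.2.1 hs₄.2.2.1 h.symm)
    (fun h => hnc m3 n3 m4 hs₄.2.1 hs₄.1 h.symm)

/-- The order of `G` in the main theorem. -/
theorem fpf9_card [IsSimpleGroup G] (P : Sylow 3 G) (hF : Fpf9 (P : Subgroup G)) {a b : G} (ha : orderOf a = 3)
    (hb : orderOf b = 3) (hab : ¬ IsConj a b) : Nat.card G = 360 := by
  classical
  haveI : Fintype G := Fintype.ofFinite G
  haveI : Fact (Nat.Prime 3) := ⟨Nat.prime_three⟩
  haveI : Fact (Nat.Prime 2) := ⟨Nat.prime_two⟩
  set S : Subgroup G := (P : Subgroup G) with hSdef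
  obtain ⟨h₁, hh₁⟩ := hF.cj a ha
  obtain ⟨h₂, hh₂⟩ := hF.cj b hb
  set s₁ := h₁ * a * h₁⁻¹ with hs₁
  set s₂ := h₂ * b * h₂⁻¹ with hs₂
  have hne : ¬ IsConj s₁ s₂ := by
    intro h
    apply hab
    have h1 : IsConj a s₁ := isConj_iff.mpr ⟨h₁, rfl⟩
    have h2 : IsConj b s₂ := isConj_iff.mpr ⟨h₂, rfl⟩
    exact h1.trans (h.trans h2.symm)
  have n1 : s₁ ≠ 1 := by
    intro h
    rw [hs₁, conj_eq_one_iff] at h
    rw [h, orderOf_one] at ha
    omega
  have n2 : s₂ ≠ 1 := by
    intro h
    rw [hs₂, conj_eq_one_iff] at h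
    rw [h, orderOf_one] at hb
    omega
  obtain ⟨E, hE⟩ : 9 ∣ Nat.card (Nm S) := by
    rw [← hF.card]
    exact Subgroup.card_dvd_of_le (Fpf9.le_Nm S)
  have hE0 : 0 < E := by
    have : 0 < Nat.card (Nm S) := Nat.card_pos
    omega
  have hc1 := hF.card_cls hh₁ n1
  have hc2 := hF.card_cls hh₂ n2
  rw [hE] at hc1 hc2
  have hc1' : Nat.card (cls (Nm S) s₁) = E := by omega
  have hc2' : Nat.card (cls (Nm S) s₂) = E := by omega
  -- `2 E ≤ 8`
  have hE4 : 2 * E ≤ 8 := by
    set F : Finset G := Finset.univ.filter (· ∈ S) with hFdef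
    have hcardF : F.card = 9 := by
      have := hF.card
      rw [Nat.card_eq_fintype_card, Fintype.card_subtype] at this
      convert this
    set A : Finset G := Finset.univ.filter (· ∈ cls (Nm S) s₁) with hA
    set B : Finset G := Finset.univ.filter (· ∈ cls (Nm S) s₂) with hB
    have hcA : A.card = E := by
      rw [← hc1', Nat.card_eq_fintype_card, Fintype.card_subtype]
    have hcB : B.card = E := by
      rw [← hc2', Nat.card_eq_fintype_card, Fintype.card_subtype]
    have hdis : Disjoint A B := by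
      rw [Finset.disjoint_left]
      intro x hx1 hx2
      simp only [hA, hB, Finset.mem_filter, Finset.mem_univ, true_and] at hx1 hx2
      obtain ⟨n, -, rfl⟩ := hx1
      obtain ⟨n', -, hn'⟩ := hx2
      apply hne
      have h5 : IsConj s₁ (n * s₁ * n⁻¹) := isConj_iff.mpr ⟨n, rfl⟩
      have h6 : IsConj s₂ (n * s₁ * n⁻¹) := isConj_iff.mpr ⟨n', hn'⟩
      exact h5.trans h6.symm
    have h1A : (1 : G) ∉ A ∪ B := by
      intro h7
      rcases Finset.mem_union.mp h7 with h8 | h8
      · simp only [hA, Finset.mem_filter, Finset.mem_univ, true_and] at h8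
        exact (hF.cls_sub hh₁ n1 h8).2 rfl
      · simp only [hB, Finset.mem_filter, Finset.mem_univ, true_and] at h8
        exact (hF.cls_sub hh₂ n2 h8).2 rfl
    have hsub : insert 1 (A ∪ B) ⊆ F := by
      intro x hx
      simp only [hFdef, Finset.mem_filter, Finset.mem_univ, true_and]
      rcases Finset.mem_insert.mp hx with rfl | hx
      · exact S.one_mem
      · rcases Finset.mem_union.mp hx with h8 | h8
        · simp only [hA, Finset.mem_filter, Finset.mem_univ, true_and] at h8
          exact (hF.cls_sub hh₁ n1 h8).1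
        · simp only [hB, Finset.mem_filter, Finset.mem_univ, true_and] at h8
          exact (hF.cls_sub hh₂ n2 h8).1
    have h3 := Finset.card_le_card hsub
    rw [hcardF, Finset.card_insert_of_notMem h1A, Finset.card_union_of_disjoint hdis, hcA, hcB] at h3
    omega
  -- `3` does not divide `E`
  have hE3 : ¬ 3 ∣ E := by
    intro h3
    apply P.not_dvd_index
    have h4 := Subgroup.card_mul_index S
    have h5 := Subgroup.card_mul_index (Nm S)
    rw [hF.card] at h4
    rw [hE] at h5
    have h6 : S.index = E * (Nm S).index := by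
      have h7 : 9 * S.index = 9 * (E * (Nm S).index) := by
        rw [h4, ← h5]
        ring
      exact Nat.eq_of_mul_eq_mul_left (by norm_num) h7
    rw [← hSdef, h6]
    exact Dvd.dvd.mul_right h3 _
  have hEcases : E = 1 ∨ E = 2 ∨ E = 4 := by
    have : E ≠ 3 := by
      rintro rfl
      exact hE3 (dvd_refl 3)
    omega
  rcases hEcases with rfl | rfl | rfl
  · -- Burnside
    exfalso
    have hNS : (Nm S : Subgroup G) = S := by
      apply le_antisymm _ (Fpf9.le_Nm S)
      have h1 : Nat.card (Nm S) ≤ Nat.card S := by rw [hE, hF.card]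
      exact (Subgroup.eq_of_le_of_card_ge (Fpf9.le_Nm S) h1).ge
    have hle : Subgroup.normalizer ((P : Subgroup G) : Set G) ≤ Subgroup.centralizer ((P : Subgroup G) : Set G) := by
      intro x hx
      have hx' : x ∈ S := by
        rw [← hNS]
        exact hx
      rw [Subgroup.mem_centralizer_iff]
      intro y hy
      exact hF.comm y hy x hx'
    have hc := MonoidHom.ker_transferSylow_isComplement' P hle
    have hcm : Nat.card (MonoidHom.transferSylow P hle).ker * 9 = Nat.card G := by
      have h1 := hc.card_mul_card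
      have h2 : Nat.card ((P : Subgroup G) : Type u) = 9 := hF.card
      rwa [h2] at h1
    haveI hnormal : (MonoidHom.transferSylow P hle).ker.Normal := inferInstance
    rcases hnormal.eq_bot_or_eq_top with h2 | h2
    · rw [h2, Subgroup.card_bot, one_mul] at hcm
      have hStop : S = ⊤ := Subgroup.eq_top_of_card_eq S (by rw [hF.card, hcm])
      have hnorm : (Subgroup.zpowers a).Normal := by
        refine ⟨fun x hx g => ?_⟩
        have h3 := hF.comm g (by rw [hStop]; trivial) x (by rw [hStop]; trivial)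
        have h4 : g * x * g⁻¹ = x := by rw [h3]; group
        rw [h4]
        exact hx
      rcases hnorm.eq_bot_or_eq_top with h5 | h5
      · have h6 : a = 1 := by
          have h7 := Subgroup.mem_zpowers a
          rw [h5, Subgroup.mem_bot] at h7
          exact h7
        rw [h6, orderOf_one] at ha
        omega
      · have h6 := Nat.card_zpowers a
        rw [h5, Subgroup.card_top, ha, ← hcm] at h6
        omega
    · rw [h2, Subgroup.card_top] at hcm
      have : 0 < Nat.card G := Nat.card_pos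
      omega
  · -- the case `E = 2`
    exfalso
    obtain ⟨t, ht⟩ := exists_prime_orderOf_dvd_card' (G := Nm S) 2 (by rw [hE]; norm_num)
    have ht' : orderOf (t : G) = 2 := by
      rw [Subgroup.orderOf_coe, ht]
    have htS : (t : G) ∉ S := by
      intro h1
      have h2 := hF.exp _ h1
      have h3 : (t : G) ^ 2 = 1 := by rw [← ht']; exact pow_orderOf_eq_one _
      have h4 : (t : G) = 1 := by
        calc (t : G) = (t : G) ^ 3 * ((t : G) ^ 2)⁻¹ := by group
          _ = 1 := by rw [h2, h3]; group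
      rw [h4, orderOf_one] at ht'
      omega
    exact e2_contra hF (by rw [hE]) ht' htS t.2
  · -- the main case
    obtain ⟨t, ht⟩ := exists_prime_orderOf_dvd_card' (G := Nm S) 2 (by rw [hE]; norm_num)
    have ht' : orderOf (t : G) = 2 := by
      rw [Subgroup.orderOf_coe, ht]
    have htS : (t : G) ∉ S := by
      intro h1
      have h2 := hF.exp _ h1
      have h3 : (t : G) ^ 2 = 1 := by rw [← ht']; exact pow_orderOf_eq_one _
      have h4 : (t : G) = 1 := by
        calc (t : G) = (t : G) ^ 3 * ((t : G) ^ 2)⁻¹ := by group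
          _ = 1 := by rw [h2, h3]; group
      rw [h4, orderOf_one] at ht'
      omega
    have t2 : (t : G) * t = 1 := by
      have := pow_orderOf_eq_one (t : G)
      rwa [ht', pow_two] at this
    have hm : Main S (t : G) s₁ s₂ :=
      { hF := hF, ht := ht', htS := htS, hinv := hF.inverts t2 htS t.2, h1 := hh₁, h2 := hh₂, n1 := n1, n2 := n2,
        hne := hne, hN := by rw [hE] }
    exact hm.card_eq

end Cfsg.Agent.Lib.Blocks.TI9
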