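import Mathlib

/-!
# The arithmetic core of the `3²:D₈` situation

Two rational lemmas about six coordinates of the columns of involutions.
-/

set_option autoImplicit false

namespace Cfsg.Agent.Lib.Blocks.TID8

/-- The polynomial heart of the fused case. -/
theorem S1_poly (e m n R A B Em En σ p q : ℚ) (hEm : Em = e ^ 2 - m ^ 2) (hEn : En = e ^ 2 - n ^ 2)
    (hR : R ^ 2 * Em = En) (hσ : σ = m + n) (hp : p = A - B) (hq : q = A + B)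
    (H : (Em * (A + R * B) ^ 2 + σ * (m * A ^ 2 + n * B ^ 2) - 6 * e * σ * (A ^ 2 - B ^ 2)) *
        (Em * (B + R * A) ^ 2 + σ * (m * B ^ 2 + n * A ^ 2)) =
        (Em * (A + R * B) * (B + R * A) + σ ^ 2 * A * B - 3 * e * σ * (A ^ 2 - B ^ 2)) ^ 2)
    (he : e ≠ 0) (hσ0 : σ ≠ 0) (hp0 : p ≠ 0) (hq0 : q ≠ 0) :
    3 * (Em * (1 - R) ^ 2 + σ ^ 2) * p + 8 * e * σ * q = 0 := by
  have rel0 : Em * (1 - R ^ 2) = n ^ 2 - m ^ 2 := by
    have h : Em * (1 - R ^ 2) = Em - R ^ 2 * Em := by ring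
    rw [h, hR, hEm, hEn]
    ring
  set G₁ : ℚ := Em * (1 - R) ^ 2 + σ ^ 2 with hG₁
  set G₂ : ℚ := Em * (1 + R) ^ 2 + σ ^ 2 with hG₂
  have hA : A = (p + q) / 2 := by rw [hp, hq]; ring
  have hB : B = (q - p) / 2 := by rw [hp, hq]; ring
  have k1 : 4 * (Em * (A + R * B) ^ 2 + σ * (m * A ^ 2 + n * B ^ 2) - 6 * e * σ * (A ^ 2 - B ^ 2)) =
      G₂ * q ^ 2 + G₁ * p ^ 2 - 2 * (12 * e * σ * p * q) := by
    rw [hA, hB, hG₁, hG₂, hσ]
    linear_combination (2 * p * q) * rel0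
  have k2 : 4 * (Em * (B + R * A) ^ 2 + σ * (m * B ^ 2 + n * A ^ 2)) = G₂ * q ^ 2 + G₁ * p ^ 2 := by
    rw [hA, hB, hG₁, hG₂, hσ]
    linear_combination (-2 * p * q) * rel0
  have k3 : 4 * (Em * (A + R * B) * (B + R * A) + σ ^ 2 * A * B - 3 * e * σ * (A ^ 2 - B ^ 2)) =
      G₂ * q ^ 2 - G₁ * p ^ 2 - 12 * e * σ * p * q := by
    rw [hA, hB, hG₁, hG₂]
    ring
  have rel1 : G₁ * G₂ = 4 * e ^ 2 * σ ^ 2 := by
    have h1 : Em * Em * (1 - R ^ 2) ^ 2 = (n ^ 2 - m ^ 2) ^ 2 := by rw [← rel0]; ring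
    have h2 : Em + En = 2 * e ^ 2 - m ^ 2 - n ^ 2 := by rw [hEm, hEn]; ring
    have h3 : Em * (1 + R ^ 2) = 2 * e ^ 2 - m ^ 2 - n ^ 2 := by
      rw [← h2, ← hR]
      ring
    rw [hG₁, hG₂, hσ]
    linear_combination h1 + 2 * (m + n) ^ 2 * h3
  have H2 : (G₂ * q ^ 2 + G₁ * p ^ 2 - 2 * (12 * e * σ * p * q)) * (G₂ * q ^ 2 + G₁ * p ^ 2) =
      (G₂ * q ^ 2 - G₁ * p ^ 2 - 12 * e * σ * p * q) ^ 2 := by
    rw [← k1, ← k2, ← k3]
    linear_combination 16 * H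
  have H3 : (16 * e * σ * p ^ 2 * q) * (3 * G₁ * p + 8 * e * σ * q) = 0 := by
    linear_combination (-1 : ℚ) * H2 + 4 * p ^ 2 * q ^ 2 * rel1
  have h0 : 16 * e * σ * p ^ 2 * q ≠ 0 := by
    have := pow_ne_zero 2 hp0
    positivity
  exact (mul_eq_zero.1 H3).resolve_left h0

theorem form_id (σ c P P' L L' : ℚ) (hc : c = 1 - σ) (hc0 : c ≠ 0) (hσ0 : σ ≠ 0) :
    2 * (P * P') - 2 * ((P - L) * (P' - L')) / c =
      -(2 / (c * σ)) * ((σ * P - L) * (σ * P' - L')) + 2 / σ * (L * L') := by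
  field_simp
  rw [hc]
  ring

theorem scale_id (σ c En Em m n a a' l l' x x' y y' : ℚ) (hc0 : c ≠ 0) (hσ0 : σ ≠ 0) (hEm0 : Em ≠ 0) (hEn0 : En ≠ 0) :
    (σ * En / 2) * (-(2 / (c * σ)) * (a * a') + 2 / σ * (l * l') + 2 * m / Em * (x * x') + 2 * n / En * (y * y')) =
      -(En / c * (a * a')) + En * (l * l') + σ * (En / Em * m * (x * x') + n * (y * y')) := by
  field_simp
  ring

/-- The fused case over the rationals: the two columns determine `R`. -/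
theorem fused_rat (e m n P M N P₂ M₂ N₂ g ν c Em En σ : ℚ) (hEm : Em = e ^ 2 - m ^ 2) (hEn : En = e ^ 2 - n ^ 2)
    (hσ : σ = m + n) (hc : c = 1 - σ) (hc0 : c ≠ 0) (he : e ≠ 0) (hEm0 : Em ≠ 0) (hEn0 : En ≠ 0) (hσ0 : σ ≠ 0)
    (hM : M ≠ 0) (hν : ν ≠ 0) (hg : g ≠ 0)
    (h1 : 2 * e / Em * (M * M) - 2 * e / En * (N * N) = g)
    (h2 : 2 * e / Em * (M₂ * M₂) - 2 * e / En * (N₂ * N₂) = -(ν ^ 2 * g))
    (h3 : 2 * e / Em * (M * M₂) - 2 * e / En * (N * N₂) = 0)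
    (h4 : 2 * (P * P) - 2 * ((P - (M + N)) * (P - (M + N))) / c + 2 * m / Em * (M * M) + 2 * n / En * (N * N) = 6 * g)
    (h5 : 2 * (P₂ * P₂) - 2 * ((P₂ - (M₂ + N₂)) * (P₂ - (M₂ + N₂))) / c + 2 * m / Em * (M₂ * M₂) + 2 * n / En * (N₂ * N₂) = 0)
    (h6 : 2 * (P * P₂) - 2 * ((P - (M + N)) * (P₂ - (M₂ + N₂))) / c + 2 * m / Em * (M * M₂) +
      2 * n / En * (N * N₂) = 3 * ν * g) :
    ∃ R : ℚ, R ≠ 0 ∧ R ^ 2 * Em = En ∧ 3 * (Em * (1 - R) ^ 2 + σ ^ 2) * (R * M - N) + 8 * e * σ * (R * M + N) = 0 := by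
  obtain ⟨Y, hY⟩ : ∃ Y : ℚ, Y = 2 * e / Em := ⟨_, rfl⟩
  obtain ⟨Z, hZ⟩ : ∃ Z : ℚ, Z = 2 * e / En := ⟨_, rfl⟩
  rw [← hY, ← hZ] at h1 h2 h3
  have hY0 : Y ≠ 0 := by
    rw [hY]
    exact div_ne_zero (mul_ne_zero two_ne_zero he) hEm0
  have hZ0 : Z ≠ 0 := by
    rw [hZ]
    exact div_ne_zero (mul_ne_zero two_ne_zero he) hEn0
  obtain ⟨κ, hκ⟩ : ∃ κ : ℚ, κ = N₂ / (Y * M) := ⟨_, rfl⟩
  have hN₂ : N₂ = κ * Y * M := by
    rw [hκ]
    field_simp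
  have hM₂ : M₂ = κ * Z * N := by
    have h : Y * M * (M₂ - κ * Z * N) = 0 := by
      rw [hN₂] at h3
      linear_combination h3
    have h' := (mul_eq_zero.1 h).resolve_left (mul_ne_zero hY0 hM)
    linear_combination h'
  have hνκ : ν ^ 2 = κ ^ 2 * (Y * Z) := by
    have h : g * (ν ^ 2 - κ ^ 2 * (Y * Z)) = 0 := by
      rw [hM₂, hN₂] at h2
      linear_combination h2 + κ ^ 2 * (Y * Z) * h1
    have h' := (mul_eq_zero.1 h).resolve_left hg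
    linear_combination h'
  have hκ0 : κ ≠ 0 := by
    intro h
    rw [h] at hνκ
    apply hν
    simpa using hνκ
  obtain ⟨R, hRdef⟩ : ∃ R : ℚ, R = ν / (κ * Z) := ⟨_, rfl⟩
  have hR0 : R ≠ 0 := by
    rw [hRdef]
    exact div_ne_zero hν (mul_ne_zero hκ0 hZ0)
  have hνR : ν = R * (κ * Z) := by
    rw [hRdef]
    field_simp
  have hRY : R ^ 2 * Z = Y := by
    have h : (κ * Z) ^ 2 * (R ^ 2 * Z - Y) = 0 := by
      have h5 : (R * (κ * Z)) ^ 2 = κ ^ 2 * (Y * Z) := by rw [← hνR, hνκ]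
      linear_combination Z * h5
    have h' := (mul_eq_zero.1 h).resolve_left (pow_ne_zero 2 (mul_ne_zero hκ0 hZ0))
    linear_combination h'
  have hR : R ^ 2 * Em = En := by
    rw [hY, hZ] at hRY
    field_simp at hRY
    linear_combination hRY
  refine ⟨R, hR0, hR, ?_⟩
  have hM₂' : M₂ = ν * N / R := by
    rw [hM₂, hνR]
    field_simp
  have hN₂' : N₂ = ν * R * M := by
    rw [hN₂, hνR, ← hRY]
    ring
  have hEmY : Em * Y = 2 * e := by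
    rw [hY]
    field_simp
  have hEnZ : En * Z = 2 * e := by
    rw [hZ]
    field_simp
  have hg' : En * g = 2 * e * ((R * M) ^ 2 - N ^ 2) := by
    have h7 : En * Y = R ^ 2 * (2 * e) := by rw [← hR, mul_assoc, hEmY]
    rw [← h1]
    linear_combination (M * M) * h7 - (N * N) * hEnZ
  have hEE : En / Em = R ^ 2 := by
    rw [← hR]
    field_simp
  obtain ⟨a₁, ha₁⟩ : ∃ a₁ : ℚ, a₁ = σ * P - (M + N) := ⟨_, rfl⟩
  obtain ⟨a₂, ha₂⟩ : ∃ a₂ : ℚ, a₂ = σ * P₂ - (M₂ + N₂) := ⟨_, rfl⟩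
  rw [form_id σ c _ _ _ _ hc hc0 hσ0, ← ha₁] at h4
  rw [form_id σ c _ _ _ _ hc hc0 hσ0, ← ha₂] at h5
  rw [form_id σ c _ _ _ _ hc hc0 hσ0, ← ha₁, ← ha₂] at h6
  have hRM₂ : R * M₂ = ν * N := by
    rw [hM₂']
    field_simp
  have hRN₂ : R * N₂ = ν * (R * (R * M)) := by
    rw [hN₂']
    ring
  have hNN₂ : N₂ = ν * (R * M) := by
    rw [hN₂']
    ring
  have e1 : En / c * (a₁ * a₁) = Em * (R * M + R * N) ^ 2 + σ * (m * (R * M) ^ 2 + n * N ^ 2) -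
      6 * e * σ * ((R * M) ^ 2 - N ^ 2) := by
    have k := scale_id σ c En Em m n a₁ a₁ (M + N) (M + N) M M N N hc0 hσ0 hEm0 hEn0
    rw [h4, hEE] at k
    linear_combination k - (M + N) ^ 2 * hR - 3 * σ * hg'
  have e2 : En / c * (a₂ * a₂) = ν ^ 2 * (Em * (N + R * (R * M)) ^ 2 + σ * (m * N ^ 2 + n * (R * M) ^ 2)) := by
    have k := scale_id σ c En Em m n a₂ a₂ (M₂ + N₂) (M₂ + N₂) M₂ M₂ N₂ N₂ hc0 hσ0 hEm0 hEn0
    rw [h5, hEE] at k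
    have t1 : En * ((M₂ + N₂) * (M₂ + N₂)) = Em * (ν * (N + R * (R * M))) ^ 2 := by
      rw [← hR]
      have : R * (M₂ + N₂) = ν * (N + R * (R * M)) := by
        rw [mul_add, hRM₂, hRN₂]
        ring
      rw [← this]
      ring
    have t2 : R ^ 2 * m * (M₂ * M₂) = m * (ν * N) ^ 2 := by
      rw [← hRM₂]
      ring
    have t3 : N₂ * N₂ = (ν * (R * M)) ^ 2 := by
      rw [hNN₂]
      ring
    rw [t1, t2, t3] at k
    linear_combination k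
  have e3 : En / c * (a₁ * a₂) = ν * (Em * (R * M + R * N) * (N + R * (R * M)) + σ ^ 2 * (R * M) * N -
      3 * e * σ * ((R * M) ^ 2 - N ^ 2)) := by
    have k := scale_id σ c En Em m n a₁ a₂ (M + N) (M₂ + N₂) M M₂ N N₂ hc0 hσ0 hEm0 hEn0
    rw [h6, hEE] at k
    have t1 : En * ((M + N) * (M₂ + N₂)) = Em * (R * M + R * N) * (ν * (N + R * (R * M))) := by
      rw [← hR]
      have : R * (M₂ + N₂) = ν * (N + R * (R * M)) := by
        rw [mul_add, hRM₂, hRN₂]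
        ring
      rw [← this]
      ring
    have t2 : R ^ 2 * m * (M * M₂) = m * (R * M) * (ν * N) := by
      rw [← hRM₂]
      ring
    have t3 : N * N₂ = N * (ν * (R * M)) := by
      rw [hNN₂]
    rw [t1, t2, t3] at k
    linear_combination k - (3 / 2 : ℚ) * ν * σ * hg' - σ * ν * (R * M) * N * hσ
  have H0 : (En / c * (a₁ * a₁)) * (En / c * (a₂ * a₂)) = (En / c * (a₁ * a₂)) ^ 2 := by ring
  rw [e1, e2, e3] at H0
  have H1 : (Em * (R * M + R * N) ^ 2 + σ * (m * (R * M) ^ 2 + n * N ^ 2) - 6 * e * σ * ((R * M) ^ 2 - N ^ 2)) *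
      (Em * (N + R * (R * M)) ^ 2 + σ * (m * N ^ 2 + n * (R * M) ^ 2)) =
      (Em * (R * M + R * N) * (N + R * (R * M)) + σ ^ 2 * (R * M) * N - 3 * e * σ * ((R * M) ^ 2 - N ^ 2)) ^ 2 := by
    have hν2 : ν ^ 2 ≠ 0 := pow_ne_zero 2 hν
    apply mul_left_cancel₀ hν2
    linear_combination H0
  have hpq : (R * M - N) * (R * M + N) ≠ 0 := by
    intro h
    have : En * g = 0 := by
      rw [hg']
      linear_combination 2 * e * h
    exact (mul_ne_zero hEn0 hg) this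
  have hp0 : R * M - N ≠ 0 := left_ne_zero_of_mul hpq
  have hq0 : R * M + N ≠ 0 := right_ne_zero_of_mul hpq
  refine S1_poly e m n R (R * M) N Em En σ _ _ hEm hEn hR hσ rfl rfl ?_ he hσ0 hp0 hq0
  have h11 : R * M + R * N = R * M + R * N := rfl
  linear_combination H1

theorem phi_shift (e m n κ κ' M M' N N' : ℚ) (hA : e + m ≠ 0) (hB : e - m ≠ 0) (hC : e + n ≠ 0) (hE : e - n ≠ 0) :
    (κ * (e + m) + M) * (κ' * (e + m) + M') / (e + m) + (κ * (e - m) - M) * (κ' * (e - m) - M') / (e - m) -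
      (κ * (e + n) + N) * (κ' * (e + n) + N') / (e + n) - (κ * (e - n) - N) * (κ' * (e - n) - N') / (e - n) =
    2 * e / ((e + m) * (e - m)) * (M * M') - 2 * e / ((e + n) * (e - n)) * (N * N') := by
  field_simp
  ring

theorem bp_shift (e m n c κ κ' M M' N N' : ℚ) (hc : c = 1 - (m + n)) (hc0 : c ≠ 0)
    (hA : e + m ≠ 0) (hB : e - m ≠ 0) (hC : e + n ≠ 0) (hE : e - n ≠ 0) :
    2 - 2 * ((κ * c + (1 - κ) - (M + N)) * (κ' * c + (1 - κ') - (M' + N'))) / c -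
      (κ * (e + m) + M) * (κ' * (e + m) + M') / (e + m) + (κ * (e - m) - M) * (κ' * (e - m) - M') / (e - m) -
      (κ * (e + n) + N) * (κ' * (e + n) + N') / (e + n) + (κ * (e - n) - N) * (κ' * (e - n) - N') / (e - n) =
    2 * ((1 - κ) * (1 - κ')) - 2 * (((1 - κ) - (M + N)) * ((1 - κ') - (M' + N'))) / c +
      2 * m / ((e + m) * (e - m)) * (M * M') + 2 * n / ((e + n) * (e - n)) * (N * N') := by
  field_simp
  rw [hc]
  ring

/-- The integer contradiction of the fused case. -/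
theorem fused_int (Em s₀ sz δ u v Mt Nt : ℤ) (hs₀ : (3 : ℤ) ∣ s₀ - 2) (hEm : (3 : ℤ) ∣ Em - 1) (hsz : (9 : ℤ) ∣ sz)
    (hsz0 : sz ≠ 0) (hMt : (3 : ℤ) ∣ Mt - 1) (hNt : (3 : ℤ) ∣ Nt) (hu : ¬ (3 : ℤ) ∣ u) (hv : ¬ (3 : ℤ) ∣ v)
    (hrel : Em * (v ^ 2 - u ^ 2) = -(v ^ 2 * sz * δ))
    (I1 : 3 * (Em * (v - u) ^ 2 + sz ^ 2 * v ^ 2) * (u * Mt - v * Nt) +
      4 * s₀ * sz * v ^ 2 * (u * Mt + v * Nt) = 0) : False := by
  have p3 : Prime (3 : ℤ) := Int.prime_three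
  have hs₀' : ¬ (3 : ℤ) ∣ s₀ := by
    intro h
    have h2 : (3 : ℤ) ∣ 2 := by
      have := dvd_sub h hs₀
      simpa using this
    omega
  have hEm' : ¬ (3 : ℤ) ∣ Em := by
    intro h
    have h2 : (3 : ℤ) ∣ 1 := by
      have := dvd_sub h hEm
      simpa using this
    omega
  have h4 : ¬ (3 : ℤ) ∣ 4 := by norm_num
  have hsum : ¬ (3 : ℤ) ∣ u * Mt + v * Nt := by
    intro h
    apply hu
    have k1 : (3 : ℤ) ∣ u * (Mt - 1) := dvd_mul_of_dvd_right hMt u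
    have k2 : (3 : ℤ) ∣ v * Nt := dvd_mul_of_dvd_right hNt v
    have k3 : u = u * Mt + v * Nt - u * (Mt - 1) - v * Nt := by ring
    rw [k3]
    exact dvd_sub (dvd_sub h k1) k2
  have hdiff : ¬ (3 : ℤ) ∣ u * Mt - v * Nt := by
    intro h
    apply hu
    have k1 : (3 : ℤ) ∣ u * (Mt - 1) := dvd_mul_of_dvd_right hMt u
    have k2 : (3 : ℤ) ∣ v * Nt := dvd_mul_of_dvd_right hNt v
    have k3 : u = u * Mt - v * Nt - u * (Mt - 1) + v * Nt := by ring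
    rw [k3]
    exact dvd_add (dvd_sub h k1) k2
  have hv2 : v ≠ 0 := by
    rintro rfl
    exact hv (dvd_zero _)
  -- the second identity
  have I2 : 3 * sz * (δ ^ 2 * v ^ 2 + Em * (u + v) ^ 2) * (u * Mt - v * Nt) +
      4 * s₀ * Em * (u + v) ^ 2 * (u * Mt + v * Nt) = 0 := by
    have h0 : sz * v ^ 2 ≠ 0 := mul_ne_zero hsz0 (pow_ne_zero 2 hv2)
    apply mul_left_cancel₀ h0
    have hk : (sz * v ^ 2 * δ - Em * (v ^ 2 - u ^ 2)) * (sz * v ^ 2 * δ + Em * (v ^ 2 - u ^ 2)) = 0 := by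
      have : sz * v ^ 2 * δ + Em * (v ^ 2 - u ^ 2) = 0 := by
        rw [hrel]
        ring
      rw [this, mul_zero]
    linear_combination (Em * (u + v) ^ 2) * I1 + 3 * (u * Mt - v * Nt) * hk
  have d1 : (3 : ℤ) ∣ u + v := by
    have h : (3 : ℤ) ∣ 4 * s₀ * Em * (u + v) ^ 2 * (u * Mt + v * Nt) := by
      have k : 4 * s₀ * Em * (u + v) ^ 2 * (u * Mt + v * Nt) =
          3 * (-(sz * (δ ^ 2 * v ^ 2 + Em * (u + v) ^ 2) * (u * Mt - v * Nt))) := by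
        linear_combination I2
      rw [k]
      exact dvd_mul_right _ _
    rcases p3.dvd_or_dvd h with h | h
    · rcases p3.dvd_or_dvd h with h | h
      · rcases p3.dvd_or_dvd h with h | h
        · rcases p3.dvd_or_dvd h with h | h
          · exact absurd h h4
          · exact absurd h hs₀'
        · exact absurd h hEm'
      · exact p3.dvd_of_dvd_pow h
    · exact absurd h hsum
  obtain ⟨k, hk⟩ := hsz
  have d2 : (3 : ℤ) ∣ v - u := by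
    have h : (3 : ℤ) ∣ (Em * (v - u) ^ 2 + sz ^ 2 * v ^ 2) * (u * Mt - v * Nt) := by
      refine ⟨-(4 * s₀ * k * v ^ 2 * (u * Mt + v * Nt)), ?_⟩
      have h3 : (3 : ℤ) ≠ 0 := by norm_num
      apply mul_left_cancel₀ h3
      rw [hk] at I1 ⊢
      linear_combination I1
    rcases p3.dvd_or_dvd h with h | h
    · have h' : (3 : ℤ) ∣ Em * (v - u) ^ 2 := by
        have k' : (3 : ℤ) ∣ sz ^ 2 * v ^ 2 := by
          rw [hk]
          exact ⟨3 * (9 * k ^ 2 * v ^ 2), by ring⟩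
        have := dvd_sub h k'
        simpa using this
      rcases p3.dvd_or_dvd h' with h | h
      · exact absurd h hEm'
      · exact p3.dvd_of_dvd_pow h
    · exact absurd h hdiff
  have hfin : (3 : ℤ) ∣ 2 * v := by
    have := dvd_add d1 d2
    have e : u + v + (v - u) = 2 * v := by ring
    rwa [e] at this
  rcases p3.dvd_or_dvd hfin with h | h
  · norm_num at h
  · exact hv h

/-- The fused case over the integers. -/
theorem fused_core {c dA dB dC dE xγ xA xB xC xE yγ yA yB yC yE : ℤ} {g ν : ℚ}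
    (hc : (9 : ℤ) ∣ c - 1) (hdA : (3 : ℤ) ∣ dA - 1) (hdB : (3 : ℤ) ∣ dB - 1) (hdC : (3 : ℤ) ∣ dC - 1) (hdE : (3 : ℤ) ∣ dE - 1)
    (hxA : (3 : ℤ) ∣ xA + 1) (hxB : (3 : ℤ) ∣ xB - 1) (hxC : (3 : ℤ) ∣ xC) (hxE : (3 : ℤ) ∣ xE)
    (D1 : dA + dB = dC + dE) (D2 : 2 - 2 * c - dA + dB - dC + dE = 0)
    (X1 : xA + xB = xC + xE) (X2 : 2 - 2 * xγ - xA + xB - xC + xE = 0)
    (Y1 : yA + yB = yC + yE) (Y2 : 2 - 2 * yγ - yA + yB - yC + yE = 0)
    (hg : g ≠ 0) (hν : ν ≠ 0)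
    (h1 : (xA : ℚ) * xA / dA + (xB : ℚ) * xB / dB - (xC : ℚ) * xC / dC - (xE : ℚ) * xE / dE = g)
    (h2 : (yA : ℚ) * yA / dA + (yB : ℚ) * yB / dB - (yC : ℚ) * yC / dC - (yE : ℚ) * yE / dE = -(ν ^ 2 * g))
    (h3 : (xA : ℚ) * yA / dA + (xB : ℚ) * yB / dB - (xC : ℚ) * yC / dC - (xE : ℚ) * yE / dE = 0)
    (h4 : 2 - 2 * ((xγ : ℚ) * xγ) / c - (xA : ℚ) * xA / dA + (xB : ℚ) * xB / dB - (xC : ℚ) * xC / dC +
      (xE : ℚ) * xE / dE = 6 * g)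
    (h5 : 2 - 2 * ((yγ : ℚ) * yγ) / c - (yA : ℚ) * yA / dA + (yB : ℚ) * yB / dB - (yC : ℚ) * yC / dC +
      (yE : ℚ) * yE / dE = 0)
    (h6 : 2 - 2 * ((xγ : ℚ) * yγ) / c - (xA : ℚ) * yA / dA + (xB : ℚ) * yB / dB - (xC : ℚ) * yC / dC +
      (xE : ℚ) * yE / dE = 3 * ν * g) : c = 1 := by
  by_contra hc1
  have nz : ∀ d : ℤ, (3 : ℤ) ∣ d - 1 → (d : ℚ) ≠ 0 := by
    intro d hd h
    have h' : d = 0 := by exact_mod_cast h
    rw [h'] at hd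
    omega
  have hc0 : (c : ℚ) ≠ 0 := by
    apply nz
    exact Dvd.dvd.trans (by norm_num) hc
  have hdA0 := nz _ hdA
  have hdB0 := nz _ hdB
  have hdC0 := nz _ hdC
  have hdE0 := nz _ hdE
  have D1q : (dA : ℚ) + dB = dC + dE := by exact_mod_cast D1
  have D2q : 2 - 2 * (c : ℚ) - dA + dB - dC + dE = 0 := by exact_mod_cast D2
  have X1q : (xA : ℚ) + xB = xC + xE := by exact_mod_cast X1
  have X2q : 2 - 2 * (xγ : ℚ) - xA + xB - xC + xE = 0 := by exact_mod_cast X2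
  have Y1q : (yA : ℚ) + yB = yC + yE := by exact_mod_cast Y1
  have Y2q : 2 - 2 * (yγ : ℚ) - yA + yB - yC + yE = 0 := by exact_mod_cast Y2
  have hs₀ : (3 : ℤ) ∣ dA + dB - 2 := by
    have := dvd_add hdA hdB
    have e : dA - 1 + (dB - 1) = dA + dB - 2 := by ring
    rwa [e] at this
  have hs₀0 : ((dA : ℚ) + dB) ≠ 0 := by
    have : dA + dB ≠ 0 := by
      intro h
      rw [h] at hs₀
      omega
    exact_mod_cast this
  obtain ⟨e, he⟩ : ∃ e : ℚ, e = ((dA : ℚ) + dB) / 2 := ⟨_, rfl⟩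
  obtain ⟨m, hm⟩ : ∃ m : ℚ, m = ((dA : ℚ) - dB) / 2 := ⟨_, rfl⟩
  obtain ⟨n, hn⟩ : ∃ n : ℚ, n = ((dC : ℚ) - dE) / 2 := ⟨_, rfl⟩
  have hAq : (dA : ℚ) = e + m := by rw [he, hm]; ring
  have hBq : (dB : ℚ) = e - m := by rw [he, hm]; ring
  have hCq : (dC : ℚ) = e + n := by rw [he, hn]; linear_combination (-1 / 2 : ℚ) * D1q
  have hEq : (dE : ℚ) = e - n := by rw [he, hn]; linear_combination (-1 / 2 : ℚ) * D1q
  have hcq : (c : ℚ) = 1 - (m + n) := by rw [hm, hn]; linear_combination (-1 / 2 : ℚ) * D2q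
  have he0 : e ≠ 0 := by
    rw [he]
    exact div_ne_zero hs₀0 two_ne_zero
  have hA0 : e + m ≠ 0 := hAq ▸ hdA0
  have hB0 : e - m ≠ 0 := hBq ▸ hdB0
  have hC0 : e + n ≠ 0 := hCq ▸ hdC0
  have hE0 : e - n ≠ 0 := hEq ▸ hdE0
  have hσ0 : m + n ≠ 0 := by
    intro h
    apply hc1
    have : (c : ℚ) = 1 := by rw [hcq, h]; ring
    exact_mod_cast this
  -- shifted coordinates
  obtain ⟨κ, hκ⟩ : ∃ κ : ℚ, κ = ((xA : ℚ) + xB) / (2 * e) := ⟨_, rfl⟩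
  obtain ⟨κ', hκ'⟩ : ∃ κ' : ℚ, κ' = ((yA : ℚ) + yB) / (2 * e) := ⟨_, rfl⟩
  have hκe : κ * (2 * e) = (xA : ℚ) + xB := by rw [hκ]; field_simp
  have hκe' : κ' * (2 * e) = (yA : ℚ) + yB := by rw [hκ']; field_simp
  obtain ⟨M, hM⟩ : ∃ M : ℚ, M = (xA : ℚ) - κ * (e + m) := ⟨_, rfl⟩
  obtain ⟨N, hN⟩ : ∃ N : ℚ, N = (xC : ℚ) - κ * (e + n) := ⟨_, rfl⟩
  obtain ⟨M', hM'⟩ : ∃ M' : ℚ, M' = (yA : ℚ) - κ' * (e + m) := ⟨_, rfl⟩
  obtain ⟨N', hN'⟩ : ∃ N' : ℚ, N' = (yC : ℚ) - κ' * (e + n) := ⟨_, rfl⟩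
  have xAq : (xA : ℚ) = κ * (e + m) + M := by rw [hM]; ring
  have xBq : (xB : ℚ) = κ * (e - m) - M := by rw [hM]; linear_combination -hκe
  have xCq : (xC : ℚ) = κ * (e + n) + N := by rw [hN]; ring
  have xEq : (xE : ℚ) = κ * (e - n) - N := by rw [hN]; linear_combination -hκe - X1q
  have yAq : (yA : ℚ) = κ' * (e + m) + M' := by rw [hM']; ring
  have yBq : (yB : ℚ) = κ' * (e - m) - M' := by rw [hM']; linear_combination -hκe'
  have yCq : (yC : ℚ) = κ' * (e + n) + N' := by rw [hN']; ring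
  have yEq : (yE : ℚ) = κ' * (e - n) - N' := by rw [hN']; linear_combination -hκe' - Y1q
  have xγq : (xγ : ℚ) = κ * c + (1 - κ) - (M + N) := by
    rw [hcq]
    rw [xAq, xBq, xCq, xEq] at X2q
    linear_combination (-1 / 2 : ℚ) * X2q
  have yγq : (yγ : ℚ) = κ' * c + (1 - κ') - (M' + N') := by
    rw [hcq]
    rw [yAq, yBq, yCq, yEq] at Y2q
    linear_combination (-1 / 2 : ℚ) * Y2q
  -- the transported equations
  rw [xAq, xBq, xCq, xEq, hAq, hBq, hCq, hEq, phi_shift _ _ _ _ _ _ _ _ _ hA0 hB0 hC0 hE0] at h1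
  rw [yAq, yBq, yCq, yEq, hAq, hBq, hCq, hEq, phi_shift _ _ _ _ _ _ _ _ _ hA0 hB0 hC0 hE0] at h2
  rw [xAq, xBq, xCq, xEq, yAq, yBq, yCq, yEq, hAq, hBq, hCq, hEq,
    phi_shift _ _ _ _ _ _ _ _ _ hA0 hB0 hC0 hE0] at h3
  rw [xγq, xAq, xBq, xCq, xEq, hAq, hBq, hCq, hEq, bp_shift _ _ _ _ _ _ _ _ _ _ hcq hc0 hA0 hB0 hC0 hE0] at h4
  rw [yγq, yAq, yBq, yCq, yEq, hAq, hBq, hCq, hEq, bp_shift _ _ _ _ _ _ _ _ _ _ hcq hc0 hA0 hB0 hC0 hE0] at h5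
  rw [xγq, yγq, xAq, xBq, xCq, xEq, yAq, yBq, yCq, yEq, hAq, hBq, hCq, hEq,
    bp_shift _ _ _ _ _ _ _ _ _ _ hcq hc0 hA0 hB0 hC0 hE0] at h6
  -- the integer data
  have hMt : (3 : ℤ) ∣ xA * dB - xB * dA - 1 := by
    have k : xA * dB - xB * dA - 1 = (xA + 1) * dB - (xB - 1) * dA - (dB - 1) - (dA - 1) - 3 := by ring
    rw [k]
    exact dvd_sub (dvd_sub (dvd_sub (dvd_sub (dvd_mul_of_dvd_left hxA _) (dvd_mul_of_dvd_left hxB _)) hdB) hdA) (dvd_refl _)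
  have hNt : (3 : ℤ) ∣ xC * dE - xE * dC :=
    dvd_sub (dvd_mul_of_dvd_left hxC _) (dvd_mul_of_dvd_left hxE _)
  have hMtq : ((xA * dB - xB * dA : ℤ) : ℚ) = 2 * e * M := by
    push_cast
    rw [hM]
    rw [hAq, hBq]
    linear_combination (e + m) * hκe
  have hNtq : ((xC * dE - xE * dC : ℤ) : ℚ) = 2 * e * N := by
    push_cast
    rw [hN]
    rw [hEq, hCq]
    linear_combination (e + n) * hκe + (e + n) * X1q
  have hM0 : M ≠ 0 := by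
    intro h
    rw [h, mul_zero] at hMtq
    have h' : xA * dB - xB * dA = 0 := by exact_mod_cast hMtq
    rw [h'] at hMt
    omega
  obtain ⟨R, hR0, hR, hS⟩ := fused_rat e m n (1 - κ) M N (1 - κ') M' N' g ν (c : ℚ) ((e + m) * (e - m)) ((e + n) * (e - n)) (m + n)
    (by ring) (by ring) rfl hcq hc0 he0 (mul_ne_zero hA0 hB0) (mul_ne_zero hC0 hE0) hσ0 hM0 hν hg h1 h2 h3 h4 h5 h6
  have hEmq : ((dA * dB : ℤ) : ℚ) = (e + m) * (e - m) := by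
    push_cast
    rw [hAq, hBq]
  have hEnq : ((dC * dE : ℤ) : ℚ) = (e + n) * (e - n) := by
    push_cast
    rw [hCq, hEq]
  have hszq : ((1 - c : ℤ) : ℚ) = m + n := by
    push_cast
    rw [hcq]
    ring
  have hs₀q : ((dA + dB : ℤ) : ℚ) = 2 * e := by
    push_cast
    rw [hAq, hBq]
    ring
  have hvq : (R.den : ℚ) ≠ 0 := by
    exact_mod_cast R.den_ne_zero
  have hRv : R * (R.den : ℚ) = (R.num : ℚ) := by
    exact Rat.mul_den_eq_num R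
  have hrelZ : R.num ^ 2 * (dA * dB) = (R.den : ℤ) ^ 2 * (dC * dE) := by
    have : ((R.num : ℚ)) ^ 2 * ((dA * dB : ℤ) : ℚ) = ((R.den : ℚ)) ^ 2 * ((dC * dE : ℤ) : ℚ) := by
      rw [hEmq, hEnq, ← hR, ← hRv]
      ring
    exact_mod_cast this
  have hEm1 : (3 : ℤ) ∣ dA * dB - 1 := by
    have k : dA * dB - 1 = (dA - 1) * dB + (dB - 1) := by ring
    rw [k]
    exact dvd_add (dvd_mul_of_dvd_left hdA _) hdB
  have hEn1 : (3 : ℤ) ∣ dC * dE - 1 := by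
    have k : dC * dE - 1 = (dC - 1) * dE + (dE - 1) := by ring
    rw [k]
    exact dvd_add (dvd_mul_of_dvd_left hdC _) hdE
  have p3 : Prime (3 : ℤ) := Int.prime_three
  have hnotunit : ∀ d : ℤ, (3 : ℤ) ∣ d - 1 → ¬ (3 : ℤ) ∣ d := by
    intro d hd h
    have := dvd_sub h hd
    have e : d - (d - 1) = 1 := by ring
    rw [e] at this
    omega
  have hcop : ¬ ((3 : ℤ) ∣ R.num ∧ (3 : ℤ) ∣ (R.den : ℤ)) := by
    rintro ⟨h1', h2'⟩
    have a1 : (3 : ℕ) ∣ R.num.natAbs := by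
      have := Int.natAbs_dvd_natAbs.2 h1'
      simpa using this
    have a2 : (3 : ℕ) ∣ R.den := by
      have := Int.natAbs_dvd_natAbs.2 h2'
      simpa using this
    have a3 : (3 : ℕ) ∣ Nat.gcd R.num.natAbs R.den := Nat.dvd_gcd a1 a2
    rw [R.reduced] at a3
    omega
  have hu : ¬ (3 : ℤ) ∣ R.num := by
    intro h
    apply hcop
    refine ⟨h, ?_⟩
    have k : (3 : ℤ) ∣ (R.den : ℤ) ^ 2 * (dC * dE) := by
      rw [← hrelZ]
      exact dvd_mul_of_dvd_left (dvd_pow h two_ne_zero) _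
    rcases p3.dvd_or_dvd k with k | k
    · exact p3.dvd_of_dvd_pow k
    · exact absurd k (hnotunit _ hEn1)
  have hv : ¬ (3 : ℤ) ∣ (R.den : ℤ) := by
    intro h
    apply hcop
    refine ⟨?_, h⟩
    have k : (3 : ℤ) ∣ R.num ^ 2 * (dA * dB) := by
      rw [hrelZ]
      exact dvd_mul_of_dvd_left (dvd_pow h two_ne_zero) _
    rcases p3.dvd_or_dvd k with k | k
    · exact p3.dvd_of_dvd_pow k
    · exact absurd k (hnotunit _ hEm1)
  have hrel : (dA * dB) * ((R.den : ℤ) ^ 2 - R.num ^ 2) = -((R.den : ℤ) ^ 2 * (1 - c) * (dA - dC)) := by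
    have hs1 : 1 - c = dC - dB := by
      have : 2 * (1 - c) = 2 * (dC - dB) := by linarith
      linarith
    have hE1 : dE = dA + dB - dC := by linarith
    rw [hs1]
    rw [hE1] at hrelZ
    linear_combination -hrelZ
  have I1 : 3 * ((dA * dB) * ((R.den : ℤ) - R.num) ^ 2 + (1 - c) ^ 2 * (R.den : ℤ) ^ 2) *
      (R.num * (xA * dB - xB * dA) - (R.den : ℤ) * (xC * dE - xE * dC)) +
      4 * (dA + dB) * (1 - c) * (R.den : ℤ) ^ 2 *
        (R.num * (xA * dB - xB * dA) + (R.den : ℤ) * (xC * dE - xE * dC)) = 0 := by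
    have : (3 * (((dA * dB : ℤ) : ℚ) * ((R.den : ℚ) - R.num) ^ 2 + ((1 - c : ℤ) : ℚ) ^ 2 * (R.den : ℚ) ^ 2) *
        ((R.num : ℚ) * ((xA * dB - xB * dA : ℤ) : ℚ) - (R.den : ℚ) * ((xC * dE - xE * dC : ℤ) : ℚ)) +
        4 * ((dA + dB : ℤ) : ℚ) * ((1 - c : ℤ) : ℚ) * (R.den : ℚ) ^ 2 *
          ((R.num : ℚ) * ((xA * dB - xB * dA : ℤ) : ℚ) + (R.den : ℚ) * ((xC * dE - xE * dC : ℤ) : ℚ))) = 0 := by
      rw [hEmq, hszq, hs₀q, hMtq, hNtq, ← hRv]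
      linear_combination (2 * e * (R.den : ℚ) ^ 3) * hS
    exact_mod_cast this
  refine fused_int (dA * dB) (dA + dB) (1 - c) (dA - dC) R.num (R.den : ℤ) (xA * dB - xB * dA) (xC * dE - xE * dC)
    hs₀ hEm1 ?_ ?_ hMt hNt hu hv hrel I1
  · have := dvd_neg.2 hc
    have e : -(c - 1) = 1 - c := by ring
    rwa [e] at this
  · intro h
    apply hc1
    omega

/-- The case without fusion. -/
theorem nofus_core {c dA dB dC dE tA tB tC tE sA sB sC sE zγ zA zB zC zE g h : ℚ}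
    (hc0 : c ≠ 0) (hA0 : dA ≠ 0) (hB0 : dB ≠ 0) (hC0 : dC ≠ 0) (hE0 : dE ≠ 0) (hs₀0 : dA + dB ≠ 0)
    (D1 : dA + dB = dC + dE) (D2 : 2 - 2 * c - dA + dB - dC + dE = 0)
    (T1 : tA + tB = tC + tE) (S1 : sA + sB = sC + sE)
    (Z1 : zA + zB = zC + zE) (Z2 : 2 - 2 * zγ - zA + zB - zC + zE = 0)
    (hg : g ≠ 0) (hh : h ≠ 0)
    (ht : tA * tA / dA + tB * tB / dB - tC * tC / dC - tE * tE / dE = g)
    (hs : sA * sA / dA + sB * sB / dB - sC * sC / dC - sE * sE / dE = h)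
    (hts : tA * sA / dA + tB * sB / dB - tC * sC / dC - tE * sE / dE = 0)
    (hzt : zA * tA / dA + zB * tB / dB - zC * tC / dC - zE * tE / dE = 0)
    (hzs : zA * sA / dA + zB * sB / dB - zC * sC / dC - zE * sE / dE = 0)
    (hzb : 2 - 2 * (zγ * zγ) / c - zA * zA / dA + zB * zB / dB - zC * zC / dC + zE * zE / dE = 0) :
    c = 1 ∨ zA = dA := by
  obtain ⟨e, he⟩ : ∃ e : ℚ, e = (dA + dB) / 2 := ⟨_, rfl⟩
  obtain ⟨m, hm⟩ : ∃ m : ℚ, m = (dA - dB) / 2 := ⟨_, rfl⟩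
  obtain ⟨n, hn⟩ : ∃ n : ℚ, n = (dC - dE) / 2 := ⟨_, rfl⟩
  have hAq : dA = e + m := by rw [he, hm]; ring
  have hBq : dB = e - m := by rw [he, hm]; ring
  have hCq : dC = e + n := by rw [he, hn]; linear_combination (-1 / 2 : ℚ) * D1
  have hEq : dE = e - n := by rw [he, hn]; linear_combination (-1 / 2 : ℚ) * D1
  have hcq : c = 1 - (m + n) := by rw [hm, hn]; linear_combination (-1 / 2 : ℚ) * D2
  have he0 : e ≠ 0 := by
    rw [he]
    exact div_ne_zero hs₀0 two_ne_zero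
  have hA1 : e + m ≠ 0 := hAq ▸ hA0
  have hB1 : e - m ≠ 0 := hBq ▸ hB0
  have hC1 : e + n ≠ 0 := hCq ▸ hC0
  have hE1 : e - n ≠ 0 := hEq ▸ hE0
  have ex : ∀ xA xB xC xE : ℚ, xA + xB = xC + xE → ∃ κ M N : ℚ, xA = κ * (e + m) + M ∧ xB = κ * (e - m) - M ∧
      xC = κ * (e + n) + N ∧ xE = κ * (e - n) - N := by
    intro xA xB xC xE X1
    have hκe : (xA + xB) / (2 * e) * (2 * e) = xA + xB := by field_simp
    refine ⟨(xA + xB) / (2 * e), xA - (xA + xB) / (2 * e) * (e + m), xC - (xA + xB) / (2 * e) * (e + n), by ring, ?_,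
      by ring, ?_⟩
    · linear_combination -hκe
    · linear_combination -hκe - X1
  obtain ⟨κt, Mt, Nt, tAq, tBq, tCq, tEq⟩ := ex _ _ _ _ T1
  obtain ⟨κs, Ms, Ns, sAq, sBq, sCq, sEq⟩ := ex _ _ _ _ S1
  obtain ⟨κ, M, N, zAq, zBq, zCq, zEq⟩ := ex _ _ _ _ Z1
  have zγq : zγ = κ * c + (1 - κ) - (M + N) := by
    rw [hcq]
    rw [zAq, zBq, zCq, zEq] at Z2
    linear_combination (-1 / 2 : ℚ) * Z2
  rw [tAq, tBq, tCq, tEq, hAq, hBq, hCq, hEq, phi_shift _ _ _ _ _ _ _ _ _ hA1 hB1 hC1 hE1] at ht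
  rw [sAq, sBq, sCq, sEq, hAq, hBq, hCq, hEq, phi_shift _ _ _ _ _ _ _ _ _ hA1 hB1 hC1 hE1] at hs
  rw [tAq, tBq, tCq, tEq, sAq, sBq, sCq, sEq, hAq, hBq, hCq, hEq,
    phi_shift _ _ _ _ _ _ _ _ _ hA1 hB1 hC1 hE1] at hts
  rw [zAq, zBq, zCq, zEq, tAq, tBq, tCq, tEq, hAq, hBq, hCq, hEq,
    phi_shift _ _ _ _ _ _ _ _ _ hA1 hB1 hC1 hE1] at hzt
  rw [zAq, zBq, zCq, zEq, sAq, sBq, sCq, sEq, hAq, hBq, hCq, hEq,
    phi_shift _ _ _ _ _ _ _ _ _ hA1 hB1 hC1 hE1] at hzs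
  rw [zγq, zAq, zBq, zCq, zEq, hAq, hBq, hCq, hEq, bp_shift _ _ _ _ _ _ _ _ _ _ hcq hc0 hA1 hB1 hC1 hE1] at hzb
  obtain ⟨Y, hY⟩ : ∃ Y : ℚ, Y = 2 * e / ((e + m) * (e - m)) := ⟨_, rfl⟩
  obtain ⟨Z, hZ⟩ : ∃ Z : ℚ, Z = 2 * e / ((e + n) * (e - n)) := ⟨_, rfl⟩
  rw [← hY, ← hZ] at ht hs hts hzt hzs
  have hY0 : Y ≠ 0 := by
    rw [hY]
    exact div_ne_zero (mul_ne_zero two_ne_zero he0) (mul_ne_zero hA1 hB1)
  have hZ0 : Z ≠ 0 := by
    rw [hZ]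
    exact div_ne_zero (mul_ne_zero two_ne_zero he0) (mul_ne_zero hC1 hE1)
  have hΔ : Mt * Ns - Ms * Nt ≠ 0 := by
    intro h0
    have h1 : g * h = -(Y * Z * (Mt * Ns - Ms * Nt) ^ 2) := by
      rw [← ht, ← hs]
      linear_combination (Y * (Mt * Ms) - Z * (Nt * Ns)) * hts
    rw [h0] at h1
    apply mul_ne_zero hg hh
    rw [h1]
    ring
  have hM0 : M = 0 := by
    have h1 : Y * (Mt * Ns - Ms * Nt) * M = 0 := by
      linear_combination Ns * hzt - Nt * hzs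
    have h2 := mul_eq_zero.1 h1
    exact h2.resolve_left (mul_ne_zero hY0 hΔ)
  have hN0 : N = 0 := by
    have h1 : Z * (Mt * Ns - Ms * Nt) * N = 0 := by
      linear_combination Ms * hzt - Mt * hzs
    have h2 := mul_eq_zero.1 h1
    exact h2.resolve_left (mul_ne_zero hZ0 hΔ)
  rw [hM0, hN0] at hzb
  by_cases hc1 : c = 1
  · exact Or.inl hc1
  · right
    have hP : (1 - κ) ^ 2 * (c - 1) = 0 := by
      have : (1 - κ) ^ 2 * (c - 1) = (2 * ((1 - κ) * (1 - κ)) - 2 * (((1 - κ) - (0 + 0)) * ((1 - κ) - (0 + 0))) / c +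
        2 * m / ((e + m) * (e - m)) * (0 * 0) + 2 * n / ((e + n) * (e - n)) * (0 * 0)) * (c / 2) := by
        field_simp
        ring
      rw [this, hzb, zero_mul]
    have hc2 : c - 1 ≠ 0 := sub_ne_zero.2 hc1
    have hP' := (mul_eq_zero.1 hP).resolve_right hc2
    have hκ : κ = 1 := by
      have := pow_eq_zero_iff (two_ne_zero) |>.1 hP'
      linarith
    rw [zAq, hAq, hM0, hκ]
    ring

end Cfsg.Agent.Lib.Blocks.TID8
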