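import Mathlib
import Cfsg.Agent.Lib.Blocks.TI9Local

/-!
# The normalizer in the `3²:D₈` situation: a model in `S₃ ≀ 2`
-/

set_option autoImplicit false
set_option maxRecDepth 100000

namespace Cfsg.Agent.Lib.Blocks.TID8

open DihedralGroup
open Cfsg.Agent.Lib.Blocks.TI9 (dih dih_r dih_sr Pair conj_mul' conj_inv' dih_conj_pow dih_conj_fix eq_one_of_sq)

/-- The wreath product `S₃ ≀ 2`. -/
structure G72 where
  a : DihedralGroup 3
  b : DihedralGroup 3
  s : Bool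
  deriving DecidableEq

/-- The underlying triple. -/
def G72.equivProd : G72 ≃ DihedralGroup 3 × DihedralGroup 3 × Bool where
  toFun x := (x.a, x.b, x.s)
  invFun x := ⟨x.1, x.2.1, x.2.2⟩
  left_inv _ := rfl
  right_inv _ := rfl

instance : Fintype G72 := Fintype.ofEquiv _ G72.equivProd.symm

instance : Mul G72 := ⟨fun x y => if x.s then ⟨x.a * y.b, x.b * y.a, !y.s⟩ else ⟨x.a * y.a, x.b * y.b, y.s⟩⟩
instance : One G72 := ⟨⟨1, 1, false⟩⟩
instance : Inv G72 := ⟨fun x => if x.s then ⟨x.b⁻¹, x.a⁻¹, true⟩ else ⟨x.a⁻¹, x.b⁻¹, false⟩⟩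

theorem G72.mul_def (x y : G72) :
    x * y = if x.s then ⟨x.a * y.b, x.b * y.a, !y.s⟩ else ⟨x.a * y.a, x.b * y.b, y.s⟩ := rfl
theorem G72.one_def : (1 : G72) = ⟨1, 1, false⟩ := rfl
theorem G72.inv_def (x : G72) : x⁻¹ = if x.s then ⟨x.b⁻¹, x.a⁻¹, true⟩ else ⟨x.a⁻¹, x.b⁻¹, false⟩ := rfl

instance : Group G72 where
  mul_assoc x y z := by
    obtain ⟨a, b, s⟩ := x
    obtain ⟨c, d, t⟩ := y
    obtain ⟨e, f, u⟩ := z
    cases s <;> cases t <;> cases u <;> simp [G72.mul_def, mul_assoc]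
  one_mul x := by
    obtain ⟨a, b, s⟩ := x
    simp [G72.mul_def, G72.one_def]
  mul_one x := by
    obtain ⟨a, b, s⟩ := x
    cases s <;> simp [G72.mul_def, G72.one_def]
  inv_mul_cancel x := by
    obtain ⟨a, b, s⟩ := x
    cases s <;> simp [G72.mul_def, G72.inv_def, G72.one_def]

theorem G72.card : Nat.card G72 = 72 := by
  rw [Nat.card_congr G72.equivProd, Nat.card_prod, Nat.card_prod, DihedralGroup.nat_card]
  simp

/-- The elements of the model. -/
abbrev E1 : G72 := ⟨r 1, 1, false⟩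
abbrev E2 : G72 := ⟨1, r 1, false⟩
abbrev FF : G72 := ⟨r 1, r 1, false⟩
abbrev R1 : G72 := ⟨1, sr 0, false⟩
abbrev R2 : G72 := ⟨sr 0, 1, false⟩
abbrev ZZ : G72 := ⟨sr 0, sr 0, false⟩
abbrev WW : G72 := ⟨1, 1, true⟩

section Hom

variable {G : Type*} [Group G]

/-- The data of the model. -/
structure Data (e₁ e₂ r₁ r₂ w : G) : Prop where
  h1 : e₁ ^ 3 = 1
  h2 : e₂ ^ 3 = 1
  comm : e₁ * e₂ = e₂ * e₁
  r1r1 : r₁ * r₁ = 1
  r2r2 : r₂ * r₂ = 1
  ww : w * w = 1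
  r12 : r₁ * r₂ = r₂ * r₁
  a11 : r₁ * e₁ * r₁⁻¹ = e₁
  a12 : r₁ * e₂ * r₁⁻¹ = e₂⁻¹
  a21 : r₂ * e₁ * r₂⁻¹ = e₁⁻¹
  a22 : r₂ * e₂ * r₂⁻¹ = e₂
  w1 : w * e₁ * w⁻¹ = e₂
  w2 : w * e₂ * w⁻¹ = e₁
  w3 : w * r₂ * w⁻¹ = r₁
  w4 : w * r₁ * w⁻¹ = r₂

variable {e₁ e₂ r₁ r₂ w : G}

theorem Data.hcomm (d : Data e₁ e₂ r₁ r₂ w) (a b : DihedralGroup 3) :
    Commute (dih e₁ r₂ d.h1 d.r2r2 d.a21 a) (dih e₂ r₁ d.h2 d.r1r1 d.a12 b) := by
  have c1 : Commute e₁ e₂ := d.comm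
  have c2 : Commute e₁ r₁ := by
    have : r₁ * e₁ = e₁ * r₁ := by
      calc r₁ * e₁ = r₁ * e₁ * r₁⁻¹ * r₁ := by group
        _ = e₁ * r₁ := by rw [d.a11]
    exact this.symm
  have c3 : Commute r₂ e₂ := by
    calc r₂ * e₂ = r₂ * e₂ * r₂⁻¹ * r₂ := by group
      _ = e₂ * r₂ := by rw [d.a22]
  have c4 : Commute r₂ r₁ := d.r12.symm
  rcases a with i | i <;> rcases b with j | j
  · exact c1.pow_pow _ _
  · exact (c2.pow_left _).mul_right (c1.pow_pow _ _)
  · exact (c3.pow_right _).mul_left (c1.pow_pow _ _)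
  · exact ((c4.mul_right (c3.pow_right _))).mul_left ((c2.pow_left _).mul_right (c1.pow_pow _ _))

theorem Data.hwf (d : Data e₁ e₂ r₁ r₂ w) (a : DihedralGroup 3) :
    w * dih e₁ r₂ d.h1 d.r2r2 d.a21 a * w⁻¹ = dih e₂ r₁ d.h2 d.r1r1 d.a12 a := by
  rcases a with i | i
  · show w * e₁ ^ i.val * w⁻¹ = e₂ ^ i.val
    rw [← conj_pow, d.w1]
  · show w * (r₂ * e₁ ^ i.val) * w⁻¹ = r₁ * e₂ ^ i.val
    rw [conj_mul', d.w3, ← conj_pow, d.w1]

theorem Data.hwg (d : Data e₁ e₂ r₁ r₂ w) (a : DihedralGroup 3) :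
    w * dih e₂ r₁ d.h2 d.r1r1 d.a12 a * w⁻¹ = dih e₁ r₂ d.h1 d.r2r2 d.a21 a := by
  rcases a with i | i
  · show w * e₂ ^ i.val * w⁻¹ = e₁ ^ i.val
    rw [← conj_pow, d.w2]
  · show w * (r₁ * e₂ ^ i.val) * w⁻¹ = r₂ * e₁ ^ i.val
    rw [conj_mul', d.w4, ← conj_pow, d.w2]

/-- The homomorphism of the model. -/
def Data.hom (d : Data e₁ e₂ r₁ r₂ w) : G72 →* G where
  toFun x := dih e₁ r₂ d.h1 d.r2r2 d.a21 x.a * dih e₂ r₁ d.h2 d.r1r1 d.a12 x.b * (if x.s then w else 1)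
  map_one' := by
    show dih e₁ r₂ d.h1 d.r2r2 d.a21 1 * dih e₂ r₁ d.h2 d.r1r1 d.a12 1 * 1 = 1
    simp
  map_mul' x y := by
    obtain ⟨a, b, s⟩ := x
    obtain ⟨c, e, t⟩ := y
    set f := dih e₁ r₂ d.h1 d.r2r2 d.a21 with hf
    set g := dih e₂ r₁ d.h2 d.r1r1 d.a12 with hg
    have hwi : w⁻¹ = w := inv_eq_of_mul_eq_one_left d.ww
    have hwc : ∀ u, w * f u = g u * w := by
      intro u
      have := d.hwf u
      rw [← hf, ← hg] at this
      rw [← this]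
      group
    have hwc' : ∀ u, w * g u = f u * w := by
      intro u
      have := d.hwg u
      rw [← hf, ← hg] at this
      rw [← this]
      group
    have hcm : ∀ u v, f u * g v = g v * f u := fun u v => d.hcomm u v
    cases s
    · show f (a * c) * g (b * e) * (if t then w else 1) = f a * g b * 1 * (f c * g e * (if t then w else 1))
      rw [map_mul, map_mul, mul_one]
      have : f a * f c * (g b * g e) = f a * g b * (f c * g e) := by
        calc f a * f c * (g b * g e) = f a * (f c * g b) * g e := by group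
          _ = f a * (g b * f c) * g e := by rw [hcm c b]
          _ = _ := by group
      rw [this]
      group
    · show f (a * e) * g (b * c) * (if (!t) then w else 1) = f a * g b * w * (f c * g e * (if t then w else 1))
      rw [map_mul, map_mul]
      have key : f a * g b * w * (f c * g e) = f a * f e * (g b * g c) * w := by
        calc f a * g b * w * (f c * g e) = f a * g b * (w * f c) * g e := by group
          _ = f a * g b * (g c * w) * g e := by rw [hwc c]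
          _ = f a * g b * g c * (w * g e) := by group
          _ = f a * g b * g c * (f e * w) := by rw [hwc' e]
          _ = f a * (g b * (g c * f e)) * w := by group
          _ = f a * (g b * (f e * g c)) * w := by rw [← hcm e c]
          _ = f a * ((g b * f e) * g c) * w := by group
          _ = f a * ((f e * g b) * g c) * w := by rw [← hcm e b]
          _ = _ := by group
      cases t
      · show f a * f e * (g b * g c) * w = f a * g b * w * (f c * g e * 1)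
        rw [mul_one, key]
      · show f a * f e * (g b * g c) * 1 = f a * g b * w * (f c * g e * w)
        calc f a * f e * (g b * g c) * 1 = f a * f e * (g b * g c) * w * w := by
              rw [mul_assoc _ w w, d.ww]
          _ = f a * g b * w * (f c * g e) * w := by rw [key]
          _ = _ := by group

theorem Data.hom_rot (d : Data e₁ e₂ r₁ r₂ w) (i j : ZMod 3) :
    d.hom ⟨r i, r j, false⟩ = e₁ ^ i.val * e₂ ^ j.val := by
  show e₁ ^ i.val * e₂ ^ j.val * 1 = _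
  rw [mul_one]

theorem Data.hom_E1 (d : Data e₁ e₂ r₁ r₂ w) : d.hom E1 = e₁ := by
  have h := d.hom_rot 1 0
  have h1 : (1 : ZMod 3).val = 1 := rfl
  rw [h1] at h
  simpa using h

theorem Data.hom_E2 (d : Data e₁ e₂ r₁ r₂ w) : d.hom E2 = e₂ := by
  have h := d.hom_rot 0 1
  have h1 : (1 : ZMod 3).val = 1 := rfl
  rw [h1] at h
  simpa using h

theorem Data.hom_R1 (d : Data e₁ e₂ r₁ r₂ w) : d.hom R1 = r₁ := by
  show dih e₁ r₂ d.h1 d.r2r2 d.a21 (r 0) * (r₁ * e₂ ^ (0 : ZMod 3).val) * 1 = r₁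
  simp

theorem Data.hom_R2 (d : Data e₁ e₂ r₁ r₂ w) : d.hom R2 = r₂ := by
  show (r₂ * e₁ ^ (0 : ZMod 3).val) * dih e₂ r₁ d.h2 d.r1r1 d.a12 (r 0) * 1 = r₂
  simp

theorem Data.hom_WW (d : Data e₁ e₂ r₁ r₂ w) : d.hom WW = w := by
  show dih e₁ r₂ d.h1 d.r2r2 d.a21 (r 0) * dih e₂ r₁ d.h2 d.r1r1 d.a12 (r 0) * w = w
  have h : ∀ (x : G) (h1 : x ^ 3 = 1) (t : G) (h2 : t * t = 1) (h3 : t * x * t⁻¹ = x⁻¹), dih x t h1 h2 h3 (r 0) = 1 := by
    intro x h1 t h2 h3
    exact map_one _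
  rw [h, h]
  simp

theorem Data.hom_inj (d : Data e₁ e₂ r₁ r₂ w) (P : Pair e₁ e₂ r₂) : Function.Injective d.hom := by
  rw [injective_iff_map_eq_one]
  intro x hx
  have h1 : d.hom (x * E1 * x⁻¹) = e₁ := by
    rw [map_mul, map_mul, map_inv, hx, d.hom_E1]
    simp
  have h2 : d.hom (x * E2 * x⁻¹) = e₂ := by
    rw [map_mul, map_mul, map_inv, hx, d.hom_E2]
    simp
  have hne1 : e₁⁻¹ ≠ e₁ := fun h => P.ne1 (eq_one_of_sq P.h1 (by nth_rw 1 [← h]; exact inv_mul_cancel _))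
  have hne2 : e₂⁻¹ ≠ e₂ := fun h => P.ne2 (eq_one_of_sq P.h2 (by nth_rw 1 [← h]; exact inv_mul_cancel _))
  have hne3 : e₂ ≠ e₁ := by
    intro h
    have := d.a21
    rw [← h] at this
    have h4 := d.a22
    rw [this] at h4
    exact hne2 h4
  have hne4 : e₂⁻¹ ≠ e₁ := by
    intro h
    have h5 := d.a22
    have h6 := d.a21
    rw [← h] at h6
    rw [conj_inv', h5] at h6
    rw [inv_inv] at h6
    exact hne2 h6
  have hdec1 : ∀ y : G72, y * E1 * y⁻¹ = E1 ∨ y * E1 * y⁻¹ = E1⁻¹ ∨ y * E1 * y⁻¹ = E2 ∨ y * E1 * y⁻¹ = E2⁻¹ := by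
    decide
  have hdec2 : ∀ y : G72, y * E2 * y⁻¹ = E2 ∨ y * E2 * y⁻¹ = E2⁻¹ ∨ y * E2 * y⁻¹ = E1 ∨ y * E2 * y⁻¹ = E1⁻¹ := by
    decide
  have hdec3 : ∀ y : G72, y * E1 * y⁻¹ = E1 → y * E2 * y⁻¹ = E2 → ∃ i j : ZMod 3, y = ⟨r i, r j, false⟩ := by
    decide
  have h3 : x * E1 * x⁻¹ = E1 := by
    rcases hdec1 x with h | h | h | h
    · exact h
    · exfalso
      rw [h, map_inv, d.hom_E1] at h1
      exact hne1 h1
    · exfalso
      rw [h, d.hom_E2] at h1
      exact hne3 h1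
    · exfalso
      rw [h, map_inv, d.hom_E2] at h1
      exact hne4 h1
  have h4 : x * E2 * x⁻¹ = E2 := by
    rcases hdec2 x with h | h | h | h
    · exact h
    · exfalso
      rw [h, map_inv, d.hom_E2] at h2
      exact hne2 h2
    · exfalso
      rw [h, d.hom_E1] at h2
      exact hne3 h2.symm
    · exfalso
      rw [h, map_inv, d.hom_E1] at h2
      apply hne4
      rw [← h2, inv_inv]
  obtain ⟨i, j, rfl⟩ := hdec3 x h3 h4
  rw [d.hom_rot] at hx
  obtain ⟨rfl, rfl⟩ := P.ind i j hx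
  rfl

end Hom

section Card

variable {G : Type*} [Group G] [Finite G]

/-- An element of the normalizer whose image in the quotient has prime order `q ≠ 2, 3` does not exist. -/
theorem prime_quot_aux (T : Subgroup G) (hcomm : ∀ x ∈ T, ∀ y ∈ T, x * y = y * x) (hcard : Nat.card T = 9)
    (hC : Subgroup.centralizer (T : Set G) = T) {n : G} (hnN : n ∈ Subgroup.normalizer (T : Set G))
    {q : ℕ} (hq : q.Prime) (hq2 : q ≠ 2) (hq3 : q ≠ 3) (hnq : n ^ q ∈ T) : n ∈ T := by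
  classical
  haveI : Fact q.Prime := ⟨hq⟩
  haveI : Fintype T := Fintype.ofFinite T
  have hmem : ∀ t : T, n * (t : G) * n⁻¹ ∈ T := fun t =>
    (Subgroup.mem_normalizer_iff.1 hnN t).1 t.2
  let α : Function.End T := fun t => ⟨n * (t : G) * n⁻¹, hmem t⟩
  have hαpow : ∀ (k : ℕ) (t : T), ((α ^ k) t : G) = n ^ k * (t : G) * (n ^ k)⁻¹ := by
    intro k
    induction k with
    | zero =>
      intro t
      rw [pow_zero, pow_zero]
      simp
      rfl
    | succ k ih =>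
      intro t
      rw [pow_succ']
      show n * ((α ^ k) t : G) * n⁻¹ = _
      rw [ih]
      group
  have hαq : α ^ q ^ 1 = 1 := by
    rw [pow_one]
    funext t
    apply Subtype.ext
    rw [hαpow]
    show _ = (t : G)
    have := hcomm _ hnq _ t.2
    rw [this]
    group
  have hmod := Equiv.Perm.card_fixedPoints_modEq (p := q) (n := 1) hαq
  rw [← Nat.card_eq_fintype_card, hcard, ← Nat.card_eq_fintype_card] at hmod
  -- the fixed subgroup
  let β : T → T := α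
  let Fx : Subgroup G := T ⊓ Subgroup.centralizer ({n} : Set G)
  have hFx : Nat.card (Function.fixedPoints β) = Nat.card Fx := by
    refine Nat.card_congr (Equiv.ofBijective (fun t => ⟨(t.1 : G), t.1.2, ?_⟩) ⟨?_, ?_⟩)
    · show (t.1 : G) ∈ Subgroup.centralizer ({n} : Set G)
      rw [Subgroup.mem_centralizer_singleton_iff]
      have h1 : n * (t.1 : G) * n⁻¹ = t.1 := congrArg Subtype.val t.2
      calc (t.1 : G) * n = n * (t.1 : G) * n⁻¹ * n := by rw [h1]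
        _ = n * t.1 := by group
    · intro a b h
      have h' := congrArg Subtype.val h
      apply Subtype.ext
      apply Subtype.ext
      exact h'
    · rintro ⟨x, hx, hx2⟩
      refine ⟨⟨⟨x, hx⟩, ?_⟩, rfl⟩
      apply Subtype.ext
      show n * x * n⁻¹ = x
      have hx3 : x ∈ Subgroup.centralizer ({n} : Set G) := hx2
      rw [Subgroup.mem_centralizer_singleton_iff] at hx3
      rw [← hx3]
      group
  have hmod' : 9 ≡ Nat.card (Function.fixedPoints β) [MOD q] := hmod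
  rw [hFx] at hmod'
  replace hmod := hmod'
  have hdvd : Nat.card Fx ∣ 9 := by
    rw [← hcard]
    exact Subgroup.card_dvd_of_le inf_le_left
  have h9 : Nat.card Fx = 1 ∨ Nat.card Fx = 3 ∨ Nat.card Fx = 9 := by
    have : Nat.card Fx ∈ Nat.divisors 9 := Nat.mem_divisors.2 ⟨hdvd, by norm_num⟩
    have h2 : Nat.divisors 9 = {1, 3, 9} := by decide
    rw [h2] at this
    simpa using this
  rcases h9 with h | h | h
  · exfalso
    rw [h] at hmod
    have h1 : q ∣ 9 - 1 := (Nat.modEq_iff_dvd' (by norm_num)).1 hmod.symm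
    have h2 : q ∣ 2 ^ 3 := by simpa using h1
    exact hq2 ((Nat.prime_dvd_prime_iff_eq hq Nat.prime_two).1 (hq.dvd_of_dvd_pow h2))
  · exfalso
    rw [h] at hmod
    have h1 : q ∣ 9 - 3 := (Nat.modEq_iff_dvd' (by norm_num)).1 hmod.symm
    have h2 : q ∣ 2 * 3 := by simpa using h1
    rcases hq.dvd_mul.1 h2 with h3 | h3
    · exact hq2 ((Nat.prime_dvd_prime_iff_eq hq Nat.prime_two).1 h3)
    · exact hq3 ((Nat.prime_dvd_prime_iff_eq hq Nat.prime_three).1 h3)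
  · have hle : T ≤ Subgroup.centralizer ({n} : Set G) := by
      have h1 : Fx = T := by
        apply Subgroup.eq_of_le_of_card_ge inf_le_left
        rw [h, hcard]
      intro t ht
      rw [← h1] at ht
      exact ht.2
    rw [← hC, Subgroup.mem_centralizer_iff]
    intro t ht
    have := hle ht
    rw [Subgroup.mem_centralizer_singleton_iff] at this
    exact this

/-- The order of the normalizer. -/
theorem card_normalizer (T : Subgroup G) (hcomm : ∀ x ∈ T, ∀ y ∈ T, x * y = y * x) (hcard : Nat.card T = 9)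
    (hC : Subgroup.centralizer (T : Set G) = T) (hSyl : ¬ 3 ∣ T.index)
    (S : Sylow 2 (Subgroup.normalizer (T : Set G))) (hS : Nat.card S = 8) :
    Nat.card (Subgroup.normalizer (T : Set G)) = 72 := by
  classical
  obtain ⟨NN, hNN⟩ : ∃ NN : Subgroup G, NN = Subgroup.normalizer (T : Set G) := ⟨_, rfl⟩
  have hTN : T ≤ Subgroup.normalizer (T : Set G) := Subgroup.le_normalizer
  let T' : Subgroup (Subgroup.normalizer (T : Set G)) := T.subgroupOf (Subgroup.normalizer (T : Set G))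
  have hT'n : T'.Normal := Subgroup.normal_in_normalizer
  have hT'c : Nat.card T' = 9 := by
    rw [← hcard]
    exact Nat.card_congr (Subgroup.subgroupOfEquivOfLe hTN).toEquiv
  have hcardN := Subgroup.card_eq_card_quotient_mul_card_subgroup T'
  rw [hT'c] at hcardN
  obtain ⟨m, hm⟩ : ∃ m, m = Nat.card ((Subgroup.normalizer (T : Set G)) ⧸ T') := ⟨_, rfl⟩
  rw [← hm] at hcardN
  have hmpos : m ≠ 0 := by
    rw [hm]
    exact Nat.card_pos.ne'
  have h3m : ¬ 3 ∣ m := by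
    intro h
    apply hSyl
    have h1 : T.relIndex (Subgroup.normalizer (T : Set G)) = m := by
      rw [hm]
      rfl
    have h2 := Subgroup.relIndex_mul_index hTN
    rw [h1] at h2
    rw [← h2]
    exact dvd_mul_of_dvd_left h _
  have hprime : ∀ {d : ℕ}, d.Prime → d ∣ m → d = 2 := by
    intro q hq hqm
    by_contra hq2
    have hq3 : q ≠ 3 := by
      rintro rfl
      exact h3m hqm
    haveI : Fact q.Prime := ⟨hq⟩
    obtain ⟨x, hx⟩ := exists_prime_orderOf_dvd_card' (G := (Subgroup.normalizer (T : Set G)) ⧸ T') q (by rwa [← hm])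
    obtain ⟨n, rfl⟩ := QuotientGroup.mk_surjective x
    have h1 : ((n : Subgroup.normalizer (T : Set G)) ^ q) ∈ T' := by
      rw [← QuotientGroup.eq_one_iff, QuotientGroup.mk_pow, ← hx]
      exact pow_orderOf_eq_one _
    have h2 : ((n : G)) ^ q ∈ T := by
      have := Subgroup.mem_subgroupOf.1 h1
      simpa using this
    have h3 := prime_quot_aux T hcomm hcard hC n.2 hq hq2 hq3 h2
    have h4 : (n : Subgroup.normalizer (T : Set G)) ∈ T' := Subgroup.mem_subgroupOf.2 h3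
    have h5 : ((n : Subgroup.normalizer (T : Set G)) : (Subgroup.normalizer (T : Set G)) ⧸ T') = 1 :=
      (QuotientGroup.eq_one_iff _).2 h4
    rw [h5, orderOf_one] at hx
    exact hq.one_lt.ne hx
  have hm2 := Nat.eq_prime_pow_of_unique_prime_dvd hmpos hprime
  obtain ⟨a, ha⟩ : ∃ a, a = m.primeFactorsList.length := ⟨_, rfl⟩
  rw [← ha] at hm2
  have hS2 := Subgroup.card_mul_index (S : Subgroup (Subgroup.normalizer (T : Set G)))
  have hodd := S.not_dvd_index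
  obtain ⟨idx, hidx⟩ : ∃ idx, idx = (S : Subgroup (Subgroup.normalizer (T : Set G))).index := ⟨_, rfl⟩
  rw [← hidx] at hS2 hodd
  have hS' : Nat.card (S : Subgroup (Subgroup.normalizer (T : Set G))) = 8 := hS
  rw [hS', hcardN, hm2] at hS2
  have ha3 : a = 3 := by
    by_contra hne
    have hcases : a = 0 ∨ a = 1 ∨ a = 2 ∨ 4 ≤ a := by omega
    rcases hcases with rfl | rfl | rfl | h4
    · omega
    · omega
    · omega
    · obtain ⟨b, rfl⟩ := Nat.exists_eq_add_of_le h4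
      rw [pow_add] at hS2
      apply hodd
      refine ⟨9 * 2 ^ b, ?_⟩
      have h16 : (2 : ℕ) ^ 4 = 16 := by norm_num
      rw [h16] at hS2
      nlinarith
  rw [hcardN, hm2, ha3]
  norm_num

end Card

section Model

variable {G : Type*} [Group G]

/-- The model of the normalizer. -/
structure Mod (T : Subgroup G) (φ : G72 →* G) : Prop where
  inj : Function.Injective φ
  memN : ∀ g, g ∈ Subgroup.normalizer (T : Set G) → ∃ g₀, φ g₀ = g
  mapN : ∀ g₀, φ g₀ ∈ Subgroup.normalizer (T : Set G)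
  memT : ∀ x, x ∈ T ↔ ∃ i j : ZMod 3, x = φ ⟨r i, r j, false⟩

theorem mod_of_data [Finite G] {T : Subgroup G} {e₁ e₂ r₁ r₂ w : G} (d : Data e₁ e₂ r₁ r₂ w) (P : Pair e₁ e₂ r₂)
    (h1T : e₁ ∈ T) (h2T : e₂ ∈ T) (hcard : Nat.card T = 9)
    (hcardN : Nat.card (Subgroup.normalizer (T : Set G)) = 72)
    (h1N : r₁ ∈ Subgroup.normalizer (T : Set G)) (h2N : r₂ ∈ Subgroup.normalizer (T : Set G))
    (hwN : w ∈ Subgroup.normalizer (T : Set G)) : ∃ φ : G72 →* G, Mod T φ := by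
  classical
  have hinj := d.hom_inj P
  have hTN : T ≤ Subgroup.normalizer (T : Set G) := Subgroup.le_normalizer
  have hmapN : ∀ g₀, d.hom g₀ ∈ Subgroup.normalizer (T : Set G) := by
    have hfN : ∀ a, dih e₁ r₂ d.h1 d.r2r2 d.a21 a ∈ Subgroup.normalizer (T : Set G) := by
      rintro (i | i)
      · exact hTN (T.pow_mem h1T _)
      · exact Subgroup.mul_mem _ h2N (hTN (T.pow_mem h1T _))
    have hgN : ∀ a, dih e₂ r₁ d.h2 d.r1r1 d.a12 a ∈ Subgroup.normalizer (T : Set G) := by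
      rintro (i | i)
      · exact hTN (T.pow_mem h2T _)
      · exact Subgroup.mul_mem _ h1N (hTN (T.pow_mem h2T _))
    rintro ⟨a, b, s⟩
    refine Subgroup.mul_mem _ (Subgroup.mul_mem _ (hfN a) (hgN b)) ?_
    cases s
    · exact Subgroup.one_mem _
    · exact hwN
  refine ⟨d.hom, hinj, ?_, hmapN, ?_⟩
  · intro x hx
    let F : G72 → Subgroup.normalizer (T : Set G) := fun g₀ => ⟨d.hom g₀, hmapN g₀⟩
    have hF : Function.Injective F := fun a b h => hinj (congrArg Subtype.val h)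
    have hbij : Function.Bijective F := by
      apply hF.bijective_of_nat_card_le
      rw [hcardN, G72.card]
    obtain ⟨g₀, hg₀⟩ := hbij.2 ⟨x, hx⟩
    exact ⟨g₀, congrArg Subtype.val hg₀⟩
  · intro x
    constructor
    · intro hx
      obtain ⟨i, j, rfl⟩ := P.span h1T h2T hcard x hx
      exact ⟨i, j, (d.hom_rot i j).symm⟩
    · rintro ⟨i, j, rfl⟩
      rw [d.hom_rot]
      exact T.mul_mem (T.pow_mem h1T _) (T.pow_mem h2T _)

/-- The eigenvector. -/
theorem exists_e₁ {T : Subgroup G} {r₁ r₂ z w : G} (hcomm : ∀ x ∈ T, ∀ y ∈ T, x * y = y * x)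
    (hr₁ : r₁ ∈ Subgroup.normalizer (T : Set G)) (hr₂ : r₂ ∈ Subgroup.normalizer (T : Set G))
    (hz : z ∈ Subgroup.normalizer (T : Set G)) (hw : w ∈ Subgroup.normalizer (T : Set G))
    (h11 : r₁ * r₁ = 1) (h22 : r₂ * r₂ = 1) (hzz : z * z = 1) (hww : w * w = 1)
    (hzr : z = r₁ * r₂) (hrc : r₁ * r₂ = r₂ * r₁) (hw1 : w * r₁ * w⁻¹ = r₂) (hw2 : w * r₂ * w⁻¹ = r₁)
    {x : G} (hx : x ∈ T) (hne : z * x * z⁻¹ ≠ x) :
    ∃ e ∈ T, e ≠ 1 ∧ r₁ * e * r₁⁻¹ = e ∧ r₂ * e * r₂⁻¹ = e⁻¹ := by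
  obtain ⟨y, hyT, hy1, hzy⟩ := Cfsg.Agent.Lib.Blocks.TI9.exists_inverted hz hzz hx hne
  have hconj : ∀ n ∈ Subgroup.normalizer (T : Set G), ∀ t ∈ T, n * t * n⁻¹ ∈ T := fun n hn t ht =>
    (Subgroup.mem_normalizer_iff.1 hn t).1 ht
  have hr1i : r₁⁻¹ = r₁ := inv_eq_of_mul_eq_one_left h11
  have hr2i : r₂⁻¹ = r₂ := inv_eq_of_mul_eq_one_left h22
  have hzi : z⁻¹ = z := inv_eq_of_mul_eq_one_left hzz
  have hwi : w⁻¹ = w := inv_eq_of_mul_eq_one_left hww
  have hr1T := hconj _ hr₁ _ hyT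
  have hr1r1 : r₁ * (r₁ * y * r₁⁻¹) * r₁⁻¹ = y := by
    rw [hr1i]
    calc r₁ * (r₁ * y * r₁) * r₁ = (r₁ * r₁) * y * (r₁ * r₁) := by group
      _ = y := by rw [h11]; group
  have hr2z : r₂ = r₁ * z := by
    rw [hzr, ← mul_assoc, h11, one_mul]
  have hzr1 : z * r₁ = r₁ * z := by rw [hzr, mul_assoc, ← hrc]
  have hcc : ∀ a b t : G, (a * b) * t * (a * b)⁻¹ = a * (b * t * b⁻¹) * a⁻¹ := by
    intro a b t
    group
  have hr2y : r₂ * y * r₂⁻¹ = r₁ * y⁻¹ * r₁⁻¹ := by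
    rw [hr2z, hcc, hzy]
  by_cases hy' : y * (r₁ * y * r₁⁻¹) = 1
  · -- `r₁` inverts `y`
    have hr1y : r₁ * y * r₁⁻¹ = y⁻¹ := eq_inv_of_mul_eq_one_right hy'
    have hr2y' : r₂ * y * r₂⁻¹ = y := by
      rw [hr2y, conj_inv', hr1y, inv_inv]
    refine ⟨w * y * w⁻¹, hconj _ hw _ hyT, ?_, ?_, ?_⟩
    · intro h
      apply hy1
      have : y = w⁻¹ * (w * y * w⁻¹) * w := by group
      rw [this, h]
      group
    · calc r₁ * (w * y * w⁻¹) * r₁⁻¹ = (r₁ * w) * y * (r₁ * w)⁻¹ := by group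
        _ = (w * r₂) * y * (w * r₂)⁻¹ := by
            rw [show r₁ * w = w * r₂ from by rw [← hw2]; group]
        _ = w * (r₂ * y * r₂⁻¹) * w⁻¹ := hcc _ _ _
        _ = w * y * w⁻¹ := by rw [hr2y']
    · calc r₂ * (w * y * w⁻¹) * r₂⁻¹ = (r₂ * w) * y * (r₂ * w)⁻¹ := by group
        _ = (w * r₁) * y * (w * r₁)⁻¹ := by
            rw [show r₂ * w = w * r₁ from by rw [← hw1]; group]
        _ = w * (r₁ * y * r₁⁻¹) * w⁻¹ := hcc _ _ _
        _ = w * y⁻¹ * w⁻¹ := by rw [hr1y]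
        _ = (w * y * w⁻¹)⁻¹ := conj_inv' _ _
  · have hycomm := hcomm _ hyT _ hr1T
    have hfix : r₁ * (y * (r₁ * y * r₁⁻¹)) * r₁⁻¹ = y * (r₁ * y * r₁⁻¹) := by
      rw [conj_mul', hr1r1, ← hycomm]
    refine ⟨y * (r₁ * y * r₁⁻¹), T.mul_mem hyT hr1T, hy', hfix, ?_⟩
    have hz1 : z * (r₁ * y * r₁⁻¹) * z⁻¹ = r₁ * y⁻¹ * r₁⁻¹ := by
      calc z * (r₁ * y * r₁⁻¹) * z⁻¹ = (z * r₁) * y * (z * r₁)⁻¹ := by group
        _ = (r₁ * z) * y * (r₁ * z)⁻¹ := by rw [hzr1]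
        _ = r₁ * (z * y * z⁻¹) * r₁⁻¹ := hcc _ _ _
        _ = r₁ * y⁻¹ * r₁⁻¹ := by rw [hzy]
    have hz2 : z * (y * (r₁ * y * r₁⁻¹)) * z⁻¹ = (y * (r₁ * y * r₁⁻¹))⁻¹ := by
      rw [conj_mul', hzy, hz1, conj_inv', mul_inv_rev, hycomm, ← mul_inv_rev, ← mul_inv_rev]
    calc r₂ * (y * (r₁ * y * r₁⁻¹)) * r₂⁻¹ = r₁ * (z * (y * (r₁ * y * r₁⁻¹)) * z⁻¹) * r₁⁻¹ := by
          rw [hr2z, hcc]
      _ = r₁ * (y * (r₁ * y * r₁⁻¹))⁻¹ * r₁⁻¹ := by rw [hz2]
      _ = (y * (r₁ * y * r₁⁻¹))⁻¹ := by rw [conj_inv', hfix]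

/-- **Construction of the model.** -/
theorem exists_model [Finite G] (T : Subgroup G) (h3 : ∀ x ∈ T, x ^ 3 = 1) (hcomm : ∀ x ∈ T, ∀ y ∈ T, x * y = y * x)
    (hcard : Nat.card T = 9) (hC : Subgroup.centralizer (T : Set G) = T) (hSyl : ¬ 3 ∣ T.index)
    (hS : ∀ S : Sylow 2 (Subgroup.normalizer (T : Set G)), Nonempty (S ≃* DihedralGroup 4)) :
    ∃ φ : G72 →* G, Mod T φ := by
  classical
  obtain ⟨S⟩ : Nonempty (Sylow 2 (Subgroup.normalizer (T : Set G))) := inferInstance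
  obtain ⟨ι⟩ := hS S
  have hScard : Nat.card S = 8 := by
    rw [Nat.card_congr ι.toEquiv, DihedralGroup.nat_card]
  have hcardN := card_normalizer T hcomm hcard hC hSyl S hScard
  let ψ : DihedralGroup 4 →* G := (Subgroup.normalizer (T : Set G)).subtype.comp
    ((S : Subgroup (Subgroup.normalizer (T : Set G))).subtype.comp ι.symm.toMonoidHom)
  have hψinj : Function.Injective ψ := by
    intro a b h
    apply ι.symm.injective
    apply Subtype.ext
    apply Subtype.ext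
    exact h
  have hψN : ∀ x, ψ x ∈ Subgroup.normalizer (T : Set G) := fun x => (ι.symm x : Subgroup.normalizer (T : Set G)).2
  have hnotT : ∀ x, x ≠ 1 → ψ x ∉ T := by
    intro x hx hxT
    have h1 := h3 _ hxT
    rw [← map_pow] at h1
    have h2 : x ^ 3 = 1 := hψinj (by rw [h1, map_one])
    have hdec : ∀ y : DihedralGroup 4, y ^ 3 = 1 → y = 1 := by decide
    exact hx (hdec x h2)
  obtain ⟨r₁, hr₁⟩ : ∃ r₁, r₁ = ψ (sr 0) := ⟨_, rfl⟩
  obtain ⟨r₂, hr₂⟩ : ∃ r₂, r₂ = ψ (sr 2) := ⟨_, rfl⟩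
  obtain ⟨z, hz⟩ : ∃ z, z = ψ (r 2) := ⟨_, rfl⟩
  obtain ⟨w, hw⟩ : ∃ w, w = ψ (sr 1) := ⟨_, rfl⟩
  have h11 : r₁ * r₁ = 1 := by
    rw [hr₁, ← map_mul, show (sr 0 * sr 0 : DihedralGroup 4) = 1 by decide, map_one]
  have h22 : r₂ * r₂ = 1 := by
    rw [hr₂, ← map_mul, show (sr 2 * sr 2 : DihedralGroup 4) = 1 by decide, map_one]
  have hzz : z * z = 1 := by
    rw [hz, ← map_mul, show (r 2 * r 2 : DihedralGroup 4) = 1 by decide, map_one]
  have hww : w * w = 1 := by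
    rw [hw, ← map_mul, show (sr 1 * sr 1 : DihedralGroup 4) = 1 by decide, map_one]
  have hzr : z = r₁ * r₂ := by
    rw [hz, hr₁, hr₂, ← map_mul, show (sr 0 * sr 2 : DihedralGroup 4) = r 2 by decide]
  have hrc : r₁ * r₂ = r₂ * r₁ := by
    rw [hr₁, hr₂, ← map_mul, ← map_mul, show (sr 0 * sr 2 : DihedralGroup 4) = sr 2 * sr 0 by decide]
  have hw1 : w * r₁ * w⁻¹ = r₂ := by
    rw [hw, hr₁, hr₂, ← map_inv, ← map_mul, ← map_mul, show (sr 1 * sr 0 * (sr 1)⁻¹ : DihedralGroup 4) = sr 2 by decide]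
  have hw2 : w * r₂ * w⁻¹ = r₁ := by
    rw [hw, hr₁, hr₂, ← map_inv, ← map_mul, ← map_mul, show (sr 1 * sr 2 * (sr 1)⁻¹ : DihedralGroup 4) = sr 0 by decide]
  have hr₁N : r₁ ∈ Subgroup.normalizer (T : Set G) := hr₁ ▸ hψN _
  have hr₂N : r₂ ∈ Subgroup.normalizer (T : Set G) := hr₂ ▸ hψN _
  have hzN : z ∈ Subgroup.normalizer (T : Set G) := hz ▸ hψN _
  have hwN : w ∈ Subgroup.normalizer (T : Set G) := hw ▸ hψN _
  -- `z` does not centralize `T`
  obtain ⟨x, hx, hxne⟩ : ∃ x ∈ T, z * x * z⁻¹ ≠ x := by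
    by_contra hcon
    push Not at hcon
    apply hnotT (r 2) (by decide)
    rw [← hz, ← hC, Subgroup.mem_centralizer_iff]
    intro t ht
    have := hcon t ht
    calc t * z = z * t * z⁻¹ * z := by rw [this]
      _ = z * t := by group
  obtain ⟨e₁, he₁T, he₁1, ha11, ha21⟩ := exists_e₁ hcomm hr₁N hr₂N hzN hwN h11 h22 hzz hww hzr hrc hw1 hw2 hx hxne
  have hconj : ∀ n ∈ Subgroup.normalizer (T : Set G), ∀ t ∈ T, n * t * n⁻¹ ∈ T := fun n hn t ht =>
    (Subgroup.mem_normalizer_iff.1 hn t).1 ht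
  have hwi : w⁻¹ = w := inv_eq_of_mul_eq_one_left hww
  have hr1w : r₁ * w = w * r₂ := by rw [← hw2]; group
  have hr2w : r₂ * w = w * r₁ := by rw [← hw1]; group
  have hcc : ∀ a b t : G, (a * b) * t * (a * b)⁻¹ = a * (b * t * b⁻¹) * a⁻¹ := by
    intro a b t
    group
  have he₂T := hconj _ hwN _ he₁T
  have he₂1 : w * e₁ * w⁻¹ ≠ 1 := by
    intro h
    apply he₁1
    have : e₁ = w⁻¹ * (w * e₁ * w⁻¹) * w := by group
    rw [this, h]
    group
  have d : Data e₁ (w * e₁ * w⁻¹) r₁ r₂ w :=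
    { h1 := h3 _ he₁T
      h2 := h3 _ he₂T
      comm := hcomm _ he₁T _ he₂T
      r1r1 := h11
      r2r2 := h22
      ww := hww
      r12 := hrc
      a11 := ha11
      a12 := by
        rw [← hcc, hr1w, hcc, ha21, conj_inv']
      a21 := ha21
      a22 := by
        rw [← hcc, hr2w, hcc, ha11]
      w1 := rfl
      w2 := by
        rw [← hcc, hww]
        group
      w3 := hw2
      w4 := hw1 }
  have P : Pair e₁ (w * e₁ * w⁻¹) r₂ := ⟨d.h1, d.h2, he₁1, he₂1, d.comm, d.a21, d.a22⟩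
  exact mod_of_data d P he₁T he₂T hcard hcardN hr₁N hr₂N hwN

end Model

end Cfsg.Agent.Lib.Blocks.TID8
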