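import Mathlib
import Cfsg.Agent.Lib.Blocks.TI9C

/-!
# The `3²:D₈` situation: the pattern of the integer columns
-/

set_option autoImplicit false

namespace Cfsg.Agent.Lib.Blocks.TID8

open Cfsg.Agent.Lib.Blocks.TI9

section Pat

variable {ι : Type*} [Fintype ι] [DecidableEq ι]

/-- The data of the columns. -/
structure Cols (o : ι) (E F P Q D : ι → ℤ) : Prop where
  EE : ∑ i, E i * E i = 18
  FF : ∑ i, F i * F i = 18
  PP : ∑ i, P i * P i = 6
  QQ : ∑ i, Q i * Q i = 6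
  EF : ∑ i, E i * F i = 0
  EP : ∑ i, E i * P i = 0
  EQ : ∑ i, E i * Q i = 0
  FP : ∑ i, F i * P i = 0
  FQ : ∑ i, F i * Q i = 0
  PQ : ∑ i, P i * Q i = 0
  DE : ∑ i, D i * E i = 0
  DF : ∑ i, D i * F i = 0
  Eo : E o = 1
  Fo : F o = 1
  Po : P o = 1
  Qo : Q o = 1
  Dne : ∀ i, D i ≠ 0
  d1 : ∀ i, (3 : ℤ) ∣ E i + 2 * F i
  d2 : ∀ i, (2 : ℤ) ∣ E i + P i
  d3 : ∀ i, (2 : ℤ) ∣ F i + Q i
  van : ∀ i, E i = 0 ↔ F i = 0

/-- The pattern. -/
structure Pat (o γ A B C C' : ι) (eγ eA eB eC eC' : ℤ) (E F P Q : ι → ℤ) : Prop where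
  n1 : o ≠ γ
  n2 : o ≠ A
  n3 : o ≠ B
  n4 : o ≠ C
  n5 : o ≠ C'
  n6 : γ ≠ A
  n7 : γ ≠ B
  n8 : γ ≠ C
  n9 : γ ≠ C'
  n10 : A ≠ B
  n11 : A ≠ C
  n12 : A ≠ C'
  n13 : B ≠ C
  n14 : B ≠ C'
  n15 : C ≠ C'
  sγ : eγ = 1 ∨ eγ = -1
  sA : eA = 1 ∨ eA = -1
  sB : eB = 1 ∨ eB = -1
  sC : eC = 1 ∨ eC = -1
  sC' : eC' = 1 ∨ eC' = -1
  Eγ : E γ = eγ
  Fγ : F γ = eγ
  Pγ : P γ = -eγ
  Qγ : Q γ = -eγ
  EA : E A = eA
  FA : F A = -2 * eA
  PA : P A = -eA
  QA : Q A = 0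
  EB : E B = eB
  FB : F B = -2 * eB
  PB : P B = eB
  QB : Q B = 0
  EC : E C = -2 * eC
  FC : F C = eC
  PC : P C = 0
  QC : Q C = -eC
  EC' : E C' = -2 * eC'
  FC' : F C' = eC'
  PC' : P C' = 0
  QC' : Q C' = eC'
  rest : ∀ k, k ≠ o → k ≠ γ → k ≠ A → k ≠ B → k ≠ C → k ≠ C' → E k = F k ∧ Q k = -P k

theorem rest_zero_of_card (f : ι → ℤ) (S : Finset ι) (h1 : ∀ i ∈ S, 1 ≤ f i * f i)
    (hs : ∑ i, f i * f i = S.card) : (∀ i ∈ S, f i * f i = 1) ∧ ∀ i, i ∉ S → f i = 0 := by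
  have key : ∑ i, (f i * f i - if i ∈ S then 1 else 0) = 0 := by
    rw [Finset.sum_sub_distrib, hs, Finset.sum_boole]
    simp
  have nonneg : ∀ i, 0 ≤ f i * f i - if i ∈ S then 1 else 0 := by
    intro i
    by_cases hi : i ∈ S
    · rw [if_pos hi]
      have := h1 i hi
      omega
    · rw [if_neg hi]
      have := mul_self_nonneg (f i)
      omega
  have z := (Finset.sum_eq_zero_iff_of_nonneg (fun i _ => nonneg i)).1 key
  constructor
  · intro i hi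
    have := z i (Finset.mem_univ i)
    rw [if_pos hi] at this
    omega
  · intro i hi
    have := z i (Finset.mem_univ i)
    rw [if_neg hi] at this
    have h2 : f i * f i = 0 := by omega
    exact mul_self_eq_zero.1 h2

theorem eq_pm_of_mul_self {w : ℤ} (h : w * w = 1) : w = 1 ∨ w = -1 :=
  eq_one_or_of_sq (by rw [pow_two]; exact h)

theorem four_pts (w : ι → ℤ) (h4 : ∑ i, w i * w i = 4) (hb : ∀ i, w i * w i ≤ 1) :
    ∃ a b c d, a ≠ b ∧ a ≠ c ∧ a ≠ d ∧ b ≠ c ∧ b ≠ d ∧ c ≠ d ∧ (w a = 1 ∨ w a = -1) ∧ (w b = 1 ∨ w b = -1) ∧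
      (w c = 1 ∨ w c = -1) ∧ (w d = 1 ∨ w d = -1) ∧ ∀ k, k ≠ a → k ≠ b → k ≠ c → k ≠ d → w k = 0 := by
  set S := Finset.univ.filter (fun i => w i ≠ 0) with hS
  have hone : ∀ i ∈ S, w i * w i = 1 := by
    intro i hi
    have h1 := (Finset.mem_filter.1 hi).2
    have h2 := hb i
    have h3 : 0 < w i * w i := mul_self_pos.2 h1
    omega
  have hcard : S.card = 4 := by
    have h1 : ∑ i ∈ S, w i * w i = ∑ i, w i * w i := by
      rw [hS, Finset.sum_filter_of_ne]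
      intro i _ h3 h4
      apply h3
      rw [h4, mul_zero]
    rw [h4, Finset.sum_congr rfl hone] at h1
    simp at h1
    exact_mod_cast h1
  obtain ⟨a, t, hat, hins, ht⟩ := Finset.card_eq_succ.1 hcard
  obtain ⟨b, c, d, hbc, hbd, hcd, rfl⟩ := Finset.card_eq_three.1 ht
  simp only [Finset.mem_insert, Finset.mem_singleton, not_or] at hat
  have mem : ∀ k, k ∈ S ↔ k = a ∨ k = b ∨ k = c ∨ k = d := by
    intro k
    rw [← hins]
    simp
  refine ⟨a, b, c, d, hat.1, hat.2.1, hat.2.2, hbc, hbd, hcd, ?_, ?_, ?_, ?_, ?_⟩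
  · exact eq_pm_of_mul_self (hone _ ((mem _).2 (by simp)))
  · exact eq_pm_of_mul_self (hone _ ((mem _).2 (by simp)))
  · exact eq_pm_of_mul_self (hone _ ((mem _).2 (by simp)))
  · exact eq_pm_of_mul_self (hone _ ((mem _).2 (by simp)))
  · intro k h1 h2 h3 h4
    by_contra hk
    have : k ∈ S := Finset.mem_filter.2 ⟨Finset.mem_univ _, hk⟩
    rcases (mem k).1 this with h | h | h | h
    · exact h1 h
    · exact h2 h
    · exact h3 h
    · exact h4 h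

theorem sq_le_bound {x t : ℤ} (h : x * x ≤ t) (ht : t ≤ 9) : -3 ≤ x ∧ x ≤ 3 := by
  constructor <;> nlinarith

theorem zeta_cases (p q r s : ℤ) (h : p + q + r + s = -2) (hb : p * p + q * q + r * r + s * s ≤ 9)
    (hp2 : p ≠ -2) (hp1 : p ≠ 1) (hq2 : q ≠ -2) (hq1 : q ≠ 1) (hr2 : r ≠ -2) (hr1 : r ≠ 1)
    (hs2 : s ≠ -2) (hs1 : s ≠ 1) :
    (p = -1 ∧ q = -1 ∧ r = 0 ∧ s = 0) ∨ (p = -1 ∧ q = 0 ∧ r = -1 ∧ s = 0) ∨ (p = -1 ∧ q = 0 ∧ r = 0 ∧ s = -1) ∨
    (p = 0 ∧ q = -1 ∧ r = -1 ∧ s = 0) ∨ (p = 0 ∧ q = -1 ∧ r = 0 ∧ s = -1) ∨ (p = 0 ∧ q = 0 ∧ r = -1 ∧ s = -1) := by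
  have h0p := mul_self_nonneg p
  have h0q := mul_self_nonneg q
  have h0r := mul_self_nonneg r
  have h0s := mul_self_nonneg s
  obtain ⟨a1, a2⟩ := sq_le_bound (x := p) (t := 9) (by omega) le_rfl
  obtain ⟨b1, b2⟩ := sq_le_bound (x := q) (t := 9) (by omega) le_rfl
  obtain ⟨c1, c2⟩ := sq_le_bound (x := r) (t := 9) (by omega) le_rfl
  obtain ⟨d1, d2⟩ := sq_le_bound (x := s) (t := 9) (by omega) le_rfl
  clear h0p h0q h0r h0s
  have hp : p = -3 ∨ p = -1 ∨ p = 0 ∨ p = 2 ∨ p = 3 := by omega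
  have hq : q = -3 ∨ q = -1 ∨ q = 0 ∨ q = 2 ∨ q = 3 := by omega
  have hr : r = -3 ∨ r = -1 ∨ r = 0 ∨ r = 2 ∨ r = 3 := by omega
  have hs : s = -3 ∨ s = -1 ∨ s = 0 ∨ s = 2 ∨ s = 3 := by omega
  clear a1 a2 b1 b2 c1 c2 d1 d2 hp2 hp1 hq2 hq1 hr2 hr1 hs2 hs1
  rcases hp with rfl | rfl | rfl | rfl | rfl <;> rcases hq with rfl | rfl | rfl | rfl | rfl <;>
  rcases hr with rfl | rfl | rfl | rfl | rfl <;> rcases hs with rfl | rfl | rfl | rfl | rfl <;> omega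

theorem three_cases (x₁ x₂ x₃ y₁ y₂ y₃ : ℤ) (hx₁ : x₁ = 1 ∨ x₁ = -1) (hx₂ : x₂ = 1 ∨ x₂ = -1) (hx₃ : x₃ = 1 ∨ x₃ = -1)
    (hy₁ : y₁ = 1 ∨ y₁ = -1) (hy₂ : y₂ = 1 ∨ y₂ = -1) (hy₃ : y₃ = 1 ∨ y₃ = -1)
    (h1 : 1 + x₁ + x₂ + x₃ = 0) (h2 : 1 + y₁ + y₂ + y₃ = 0) (h3 : 1 + x₁ * y₁ + x₂ * y₂ + x₃ * y₃ = 0) :
    (x₁ = -1 ∧ y₁ = -1 ∧ x₂ + y₂ = 0 ∧ x₃ + y₃ = 0) ∨ (x₂ = -1 ∧ y₂ = -1 ∧ x₁ + y₁ = 0 ∧ x₃ + y₃ = 0) ∨
    (x₃ = -1 ∧ y₃ = -1 ∧ x₁ + y₁ = 0 ∧ x₂ + y₂ = 0) := by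
  rcases hx₁ with rfl | rfl <;> rcases hx₂ with rfl | rfl <;> rcases hx₃ with rfl | rfl <;>
  rcases hy₁ with rfl | rfl <;> rcases hy₂ with rfl | rfl <;> rcases hy₃ with rfl | rfl <;>
  omega

theorem sum_four {α : Type*} [AddCommMonoid α] (F : ι → α) {a b c d : ι} (hab : a ≠ b) (hac : a ≠ c) (had : a ≠ d)
    (hbc : b ≠ c) (hbd : b ≠ d) (hcd : c ≠ d) (h0 : ∀ k, k ≠ a → k ≠ b → k ≠ c → k ≠ d → F k = 0) :
    ∑ k, F k = F a + (F b + (F c + F d)) := by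
  have hsub : ({a, b, c, d} : Finset ι) ⊆ Finset.univ := Finset.subset_univ _
  rw [← Finset.sum_subset hsub]
  · rw [Finset.sum_insert (by simp [hab, hac, had]), Finset.sum_insert (by simp [hbc, hbd]), Finset.sum_pair hcd]
  · intro k _ hk
    simp only [Finset.mem_insert, Finset.mem_singleton, not_or] at hk
    exact h0 k hk.1 hk.2.1 hk.2.2.1 hk.2.2.2

theorem one_le_mul_self {x : ℤ} (h : x ≠ 0) : 1 ≤ x * x := by
  have := mul_self_pos.2 h
  omega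

set_option maxHeartbeats 4000000 in
/-- The second phase. -/
theorem phase2 {o : ι} {E F P Q D : ι → ℤ} (c : Cols o E F P Q D) (W Z : ι → ℤ)
    (hE : ∀ i, E i = Z i + 2 * W i) (hF : ∀ i, F i = Z i - W i)
    {A B C D' : ι} (hAB : A ≠ B) (hAC : A ≠ C) (hAD : A ≠ D') (hBC : B ≠ C) (hBD : B ≠ D') (hCD : C ≠ D')
    (hoA : o ≠ A) (hoB : o ≠ B) (hoC : o ≠ C) (hoD : o ≠ D')
    (sA : W A = 1 ∨ W A = -1) (sB : W B = 1 ∨ W B = -1) (sC : W C = 1 ∨ W C = -1) (sD : W D' = 1 ∨ W D' = -1)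
    (zA : Z A = -W A) (zB : Z B = -W B) (zC : Z C = 0) (zD : Z D' = 0)
    (hrest : ∀ k, k ≠ A → k ≠ B → k ≠ C → k ≠ D' → W k = 0)
    (hZZ : ∑ i, Z i * Z i = 10) (hZo : Z o = 1) (hWo : W o = 0) :
    ∃ (γ A B C C' : ι) (eγ eA eB eC eC' : ℤ), Pat o γ A B C C' eγ eA eB eC eC' E F P Q := by
  classical
  have hWA1 : W A * W A = 1 := by rcases sA with h | h <;> rw [h] <;> norm_num
  have hWB1 : W B * W B = 1 := by rcases sB with h | h <;> rw [h] <;> norm_num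
  have hWC1 : W C * W C = 1 := by rcases sC with h | h <;> rw [h] <;> norm_num
  have hWD1 : W D' * W D' = 1 := by rcases sD with h | h <;> rw [h] <;> norm_num
  have hcasesW : ∀ i, W i = 0 ∨ W i * W i = 1 := by
    intro i
    by_cases h1 : i = A
    · subst h1; exact Or.inr hWA1
    by_cases h2 : i = B
    · subst h2; exact Or.inr hWB1
    by_cases h3 : i = C
    · subst h3; exact Or.inr hWC1
    by_cases h4 : i = D'
    · subst h4; exact Or.inr hWD1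
    exact Or.inl (hrest i h1 h2 h3 h4)
  -- the reduced norm
  obtain ⟨Fn, hFn⟩ : ∃ Fn : ι → ℤ, ∀ i, Fn i = Z i * Z i - (W i * W i) * (Z i * Z i) := ⟨_, fun _ => rfl⟩
  have hsum2 : ∑ i, (W i * W i) * (Z i * Z i) = 2 := by
    rw [sum_four _ hAB hAC hAD hBC hBD hCD (fun k h1 h2 h3 h4 => by rw [hrest k h1 h2 h3 h4]; ring), zA, zB, zC, zD]
    simp only [neg_mul_neg, hWA1, hWB1, mul_zero]
    norm_num
  have hF8 : ∑ i, Fn i = 8 := by
    simp only [hFn]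
    rw [Finset.sum_sub_distrib, hZZ, hsum2]
    norm_num
  have hFnn : ∀ i, 0 ≤ Fn i := by
    intro i
    rw [hFn]
    rcases hcasesW i with h | h
    · rw [h]
      have := mul_self_nonneg (Z i)
      simpa using this
    · rw [h]
      simp
  obtain ⟨O, hO⟩ : ∃ O : Finset ι, O = Finset.univ.filter (fun i => W i = 0 ∧ Z i % 2 = 1) := ⟨_, rfl⟩
  have memO : ∀ i, i ∈ O ↔ W i = 0 ∧ Z i % 2 = 1 := by
    intro i
    rw [hO]
    simp
  have hoO : o ∈ O := (memO o).2 ⟨hWo, by rw [hZo]; norm_num⟩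
  have hAO : A ∉ O := fun h => by
    have := ((memO A).1 h).1
    rcases sA with h | h <;> omega
  have hBO : B ∉ O := fun h => by
    have := ((memO B).1 h).1
    rcases sB with h | h <;> omega
  have hCO : C ∉ O := fun h => by
    have := ((memO C).1 h).1
    rcases sC with h | h <;> omega
  have hDO : D' ∉ O := fun h => by
    have := ((memO D').1 h).1
    rcases sD with h | h <;> omega
  -- the congruence
  have hmod : (4 : ℤ) ∣ 8 - (O.card : ℤ) := by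
    have h1 : ∀ i ∈ (Finset.univ : Finset ι), (4 : ℤ) ∣ Fn i - (if i ∈ O then 1 else 0) := by
      intro i _
      rw [hFn]
      rcases hcasesW i with h | h
      · rw [h]
        by_cases h2 : Z i % 2 = 1
        · rw [if_pos ((memO i).2 ⟨h, h2⟩)]
          obtain ⟨k, hk⟩ : ∃ k, Z i = 2 * k + 1 := ⟨Z i / 2, by omega⟩
          refine ⟨k * k + k, ?_⟩
          rw [hk]
          ring
        · rw [if_neg (fun h3 => h2 ((memO i).1 h3).2)]
          obtain ⟨k, hk⟩ : ∃ k, Z i = 2 * k := ⟨Z i / 2, by omega⟩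
          refine ⟨k * k, ?_⟩
          rw [hk]
          ring
      · rw [h, if_neg (fun h3 => by
          have h4 := ((memO i).1 h3).1
          rw [h4] at h
          omega)]
        simp
    have h2 := Finset.dvd_sum h1
    rw [Finset.sum_sub_distrib, hF8, Finset.sum_boole] at h2
    simpa using h2
  -- the bound
  have oddE : ∀ i, i ∈ O → P i ≠ 0 := by
    intro i hi h0
    obtain ⟨h1, h2⟩ := (memO i).1 hi
    have h3 := c.d2 i
    rw [hE, h1, h0] at h3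
    omega
  have oddF : ∀ i, i ∈ O → Q i ≠ 0 := by
    intro i hi h0
    obtain ⟨h1, h2⟩ := (memO i).1 hi
    have h3 := c.d3 i
    rw [hF, h1, h0] at h3
    omega
  have hEA : E A = W A := by rw [hE, zA]; ring
  have hFA : F A = -2 * W A := by rw [hF, zA]; ring
  have hEB : E B = W B := by rw [hE, zB]; ring
  have hFB : F B = -2 * W B := by rw [hF, zB]; ring
  have hEC : E C = 2 * W C := by rw [hE, zC]; ring
  have hFC : F C = - W C := by rw [hF, zC]; ring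
  have hED : E D' = 2 * W D' := by rw [hE, zD]; ring
  have hFD : F D' = - W D' := by rw [hF, zD]; ring
  have hPA : P A ≠ 0 := fun h0 => by
    have h3 := c.d2 A
    rw [hEA, h0] at h3
    rcases sA with h | h <;> rw [h] at h3 <;> omega
  have hPB : P B ≠ 0 := fun h0 => by
    have h3 := c.d2 B
    rw [hEB, h0] at h3
    rcases sB with h | h <;> rw [h] at h3 <;> omega
  have hQC : Q C ≠ 0 := fun h0 => by
    have h3 := c.d3 C
    rw [hFC, h0] at h3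
    rcases sC with h | h <;> rw [h] at h3 <;> omega
  have hQD : Q D' ≠ 0 := fun h0 => by
    have h3 := c.d3 D'
    rw [hFD, h0] at h3
    rcases sD with h | h <;> rw [h] at h3 <;> omega
  obtain ⟨S, hS⟩ : ∃ S : Finset ι, S = insert A (insert B O) := ⟨_, rfl⟩
  obtain ⟨S', hS'⟩ : ∃ S' : Finset ι, S' = insert C (insert D' O) := ⟨_, rfl⟩
  have hScard : S.card = O.card + 2 := by
    rw [hS, Finset.card_insert_of_notMem (by simp [hAB, hAO]), Finset.card_insert_of_notMem hBO]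
  have hS'card : S'.card = O.card + 2 := by
    rw [hS', Finset.card_insert_of_notMem (by simp [hCD, hCO]), Finset.card_insert_of_notMem hDO]
  have hSP : ∀ i ∈ S, 1 ≤ P i * P i := by
    intro i hi
    rw [hS] at hi
    simp only [Finset.mem_insert] at hi
    rcases hi with rfl | rfl | hi
    · exact one_le_mul_self hPA
    · exact one_le_mul_self hPB
    · exact one_le_mul_self (oddE i hi)
  have hSQ : ∀ i ∈ S', 1 ≤ Q i * Q i := by
    intro i hi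
    rw [hS'] at hi
    simp only [Finset.mem_insert] at hi
    rcases hi with rfl | rfl | hi
    · exact one_le_mul_self hQC
    · exact one_le_mul_self hQD
    · exact one_le_mul_self (oddF i hi)
  have hbound : (S.card : ℤ) ≤ 6 := by
    have h1 : ∑ i ∈ S, (1 : ℤ) ≤ ∑ i ∈ S, P i * P i := Finset.sum_le_sum hSP
    have h2 : ∑ i ∈ S, P i * P i ≤ ∑ i, P i * P i :=
      Finset.sum_le_univ_sum_of_nonneg (fun i => mul_self_nonneg _)
    rw [c.PP] at h2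
    simp only [Finset.sum_const, nsmul_eq_mul, mul_one] at h1
    omega
  have hOpos : 0 < O.card := Finset.card_pos.2 ⟨o, hoO⟩
  have hO4 : O.card = 4 := by
    rw [hScard] at hbound
    push_cast at hbound
    omega
  obtain ⟨hP1, hP0⟩ := rest_zero_of_card P S hSP (by rw [c.PP, hScard, hO4]; norm_num)
  obtain ⟨hQ1, hQ0⟩ := rest_zero_of_card Q S' hSQ (by rw [c.QQ, hS'card, hO4]; norm_num)
  -- the set `O`
  have hEr : (O.erase o).card = 3 := by
    rw [Finset.card_erase_of_mem hoO, hO4]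
  obtain ⟨p₁, p₂, p₃, h12, h13, h23, hEq⟩ := Finset.card_eq_three.1 hEr
  have memE : ∀ k, k ∈ O ↔ k = o ∨ k = p₁ ∨ k = p₂ ∨ k = p₃ := by
    intro k
    constructor
    · intro hk
      by_cases hko : k = o
      · exact Or.inl hko
      · have : k ∈ O.erase o := Finset.mem_erase.2 ⟨hko, hk⟩
        rw [hEq] at this
        simpa [hko] using this
    · rintro (rfl | h)
      · exact hoO
      · have : k ∈ O.erase o := by
          rw [hEq]
          simpa using h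
        exact Finset.mem_of_mem_erase this
  have hp₁O : p₁ ∈ O := (memE _).2 (by simp)
  have hp₂O : p₂ ∈ O := (memE _).2 (by simp)
  have hp₃O : p₃ ∈ O := (memE _).2 (by simp)
  have ho1 : o ≠ p₁ := by
    have : p₁ ∈ O.erase o := by rw [hEq]; simp
    exact (Finset.ne_of_mem_erase this).symm
  have ho2 : o ≠ p₂ := by
    have : p₂ ∈ O.erase o := by rw [hEq]; simp
    exact (Finset.ne_of_mem_erase this).symm
  have ho3 : o ≠ p₃ := by
    have : p₃ ∈ O.erase o := by rw [hEq]; simp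
    exact (Finset.ne_of_mem_erase this).symm
  have neAO : ∀ x y, x ∈ O → y ∉ O → x ≠ y := by
    rintro x y hx hy rfl
    exact hy hx
  have h1A := neAO _ _ hp₁O hAO
  have h2A := neAO _ _ hp₂O hAO
  have h3A := neAO _ _ hp₃O hAO
  have h1B := neAO _ _ hp₁O hBO
  have h2B := neAO _ _ hp₂O hBO
  have h3B := neAO _ _ hp₃O hBO
  have h1C := neAO _ _ hp₁O hCO
  have h2C := neAO _ _ hp₂O hCO
  have h3C := neAO _ _ hp₃O hCO
  have h1D := neAO _ _ hp₁O hDO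
  have h2D := neAO _ _ hp₂O hDO
  have h3D := neAO _ _ hp₃O hDO
  -- values of `Z`
  have hZsum : Fn o + (Fn p₁ + (Fn p₂ + Fn p₃)) ≤ 8 := by
    have h1 : ∑ i ∈ O, Fn i ≤ ∑ i, Fn i := Finset.sum_le_univ_sum_of_nonneg hFnn
    rw [hF8] at h1
    have h2 : O = insert o (insert p₁ (insert p₂ {p₃})) := by
      ext k
      rw [memE]
      simp
    rw [h2, Finset.sum_insert (by simp [ho1, ho2, ho3]), Finset.sum_insert (by simp [h12, h13]),
      Finset.sum_pair h23] at h1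
    exact h1
  have hFnO : ∀ x, x ∈ O → Fn x = Z x * Z x ∧ W x = 0 ∧ Z x % 2 = 1 ∧ E x = Z x ∧ F x = Z x := by
    intro x hx
    obtain ⟨h1, h2⟩ := (memO x).1 hx
    refine ⟨by rw [hFn, h1]; ring, h1, h2, by rw [hE, h1]; ring, by rw [hF, h1]; ring⟩
  have oddpm : ∀ z : ℤ, z % 2 = 1 → z * z ≤ 5 → z = 1 ∨ z = -1 := by
    intro z h1 h2
    have h3 : z ≤ 2 := by nlinarith
    have h4 : -2 ≤ z := by nlinarith
    omega
  obtain ⟨f1, w1, m1, e1, g1⟩ := hFnO p₁ hp₁O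
  obtain ⟨f2, w2, m2, e2, g2⟩ := hFnO p₂ hp₂O
  obtain ⟨f3, w3, m3, e3, g3⟩ := hFnO p₃ hp₃O
  obtain ⟨f0, w0, m0, e0, g0⟩ := hFnO o hoO
  have one1 := one_le_mul_self (show Z p₁ ≠ 0 by omega)
  have one2 := one_le_mul_self (show Z p₂ ≠ 0 by omega)
  have one3 := one_le_mul_self (show Z p₃ ≠ 0 by omega)
  rw [f0, f1, f2, f3, hZo] at hZsum
  have z1 := oddpm _ m1 (by omega)
  have z2 := oddpm _ m2 (by omega)
  have z3 := oddpm _ m3 (by omega)
  have mS : ∀ x, x ∈ O → x ∈ S := fun x hx => by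
    rw [hS]
    simp [hx]
  have mS' : ∀ x, x ∈ O → x ∈ S' := fun x hx => by
    rw [hS']
    simp [hx]
  have pmP : ∀ x, x ∈ S → P x = 1 ∨ P x = -1 := fun x hx => eq_pm_of_mul_self (hP1 x hx)
  have pmQ : ∀ x, x ∈ S' → Q x = 1 ∨ Q x = -1 := fun x hx => eq_pm_of_mul_self (hQ1 x hx)
  have hAS : A ∈ S := by rw [hS]; simp
  have hBS : B ∈ S := by rw [hS]; simp
  have hCS : C ∈ S' := by rw [hS']; simp
  have hDS : D' ∈ S' := by rw [hS']; simp
  have hCnS : C ∉ S := by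
    rw [hS]
    simp [hAC.symm, hBC.symm, hCO]
  have hDnS : D' ∉ S := by
    rw [hS]
    simp [hAD.symm, hBD.symm, hDO]
  have hAnS : A ∉ S' := by
    rw [hS']
    simp [hAC, hAD, hAO]
  have hBnS : B ∉ S' := by
    rw [hS']
    simp [hBC, hBD, hBO]
  have PC0 := hP0 C hCnS
  have PD0 := hP0 D' hDnS
  have QA0 := hQ0 A hAnS
  have QB0 := hQ0 B hBnS
  have vanP : ∀ k, k ≠ o → k ≠ p₁ → k ≠ p₂ → k ≠ p₃ → k ≠ A → k ≠ B → P k = 0 := by
    intro k h1 h2 h3 h4 h5 h6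
    apply hP0
    rw [hS]
    simp only [Finset.mem_insert, not_or, memE]
    exact ⟨h5, h6, h1, h2, h3, h4⟩
  have vanQ : ∀ k, k ≠ o → k ≠ p₁ → k ≠ p₂ → k ≠ p₃ → k ≠ C → k ≠ D' → Q k = 0 := by
    intro k h1 h2 h3 h4 h5 h6
    apply hQ0
    rw [hS']
    simp only [Finset.mem_insert, not_or, memE]
    exact ⟨h5, h6, h1, h2, h3, h4⟩
  -- the orthogonality relations
  have EP := c.EP
  rw [sum_six _ ho1 ho2 ho3 hoA hoB h12 h13 h1A h1B h23 h2A h2B h3A h3B hAB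
    (fun k h1 h2 h3 h4 h5 h6 => by rw [vanP k h1 h2 h3 h4 h5 h6, mul_zero])] at EP
  have FP := c.FP
  rw [sum_six _ ho1 ho2 ho3 hoA hoB h12 h13 h1A h1B h23 h2A h2B h3A h3B hAB
    (fun k h1 h2 h3 h4 h5 h6 => by rw [vanP k h1 h2 h3 h4 h5 h6, mul_zero])] at FP
  have EQ := c.EQ
  rw [sum_six _ ho1 ho2 ho3 hoC hoD h12 h13 h1C h1D h23 h2C h2D h3C h3D hCD
    (fun k h1 h2 h3 h4 h5 h6 => by rw [vanQ k h1 h2 h3 h4 h5 h6, mul_zero])] at EQ
  have FQ := c.FQ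
  rw [sum_six _ ho1 ho2 ho3 hoC hoD h12 h13 h1C h1D h23 h2C h2D h3C h3D hCD
    (fun k h1 h2 h3 h4 h5 h6 => by rw [vanQ k h1 h2 h3 h4 h5 h6, mul_zero])] at FQ
  have PQ := c.PQ
  rw [sum_four _ ho1 ho2 ho3 h12 h13 h23 (fun k h1 h2 h3 h4 => by
    by_cases h5 : k = A
    · rw [h5, QA0, mul_zero]
    by_cases h6 : k = B
    · rw [h6, QB0, mul_zero]
    rw [vanP k h1 h2 h3 h4 h5 h6, zero_mul])] at PQ
  have Po := c.Po
  have Qo := c.Qo
  rw [c.Eo, Po, e1, e2, e3, hEA, hEB] at EP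
  rw [c.Fo, Po, g1, g2, g3, hFA, hFB] at FP
  rw [c.Eo, Qo, e1, e2, e3, hEC, hED] at EQ
  rw [c.Fo, Qo, g1, g2, g3, hFC, hFD] at FQ
  rw [Po, Qo] at PQ
  have rel1 : W A * P A + W B * P B = 0 := by linarith
  have rel2 : 1 + Z p₁ * P p₁ + Z p₂ * P p₂ + Z p₃ * P p₃ = 0 := by linarith
  have rel3 : W C * Q C + W D' * Q D' = 0 := by linarith
  have rel4 : 1 + Z p₁ * Q p₁ + Z p₂ * Q p₂ + Z p₃ * Q p₃ = 0 := by linarith
  have hzz1 : Z p₁ * Z p₁ = 1 := by rcases z1 with h | h <;> rw [h] <;> norm_num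
  have hzz2 : Z p₂ * Z p₂ = 1 := by rcases z2 with h | h <;> rw [h] <;> norm_num
  have hzz3 : Z p₃ * Z p₃ = 1 := by rcases z3 with h | h <;> rw [h] <;> norm_num
  have rel5 : 1 + (Z p₁ * P p₁) * (Z p₁ * Q p₁) + (Z p₂ * P p₂) * (Z p₂ * Q p₂) + (Z p₃ * P p₃) * (Z p₃ * Q p₃) = 0 := by
    have e1' : (Z p₁ * P p₁) * (Z p₁ * Q p₁) = P p₁ * Q p₁ := by
      linear_combination (P p₁ * Q p₁) * hzz1
    have e2' : (Z p₂ * P p₂) * (Z p₂ * Q p₂) = P p₂ * Q p₂ := by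
      linear_combination (P p₂ * Q p₂) * hzz2
    have e3' : (Z p₃ * P p₃) * (Z p₃ * Q p₃) = P p₃ * Q p₃ := by
      linear_combination (P p₃ * Q p₃) * hzz3
    rw [e1', e2', e3']
    linarith
  have pmm : ∀ u v : ℤ, (u = 1 ∨ u = -1) → (v = 1 ∨ v = -1) → (u * v = 1 ∨ u * v = -1) := by
    rintro u v (rfl | rfl) (rfl | rfl) <;> norm_num
  have P1 := pmP _ (mS _ hp₁O)
  have P2 := pmP _ (mS _ hp₂O)
  have P3 := pmP _ (mS _ hp₃O)
  have Q1 := pmQ _ (mS' _ hp₁O)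
  have Q2 := pmQ _ (mS' _ hp₂O)
  have Q3 := pmQ _ (mS' _ hp₃O)
  have hcase := three_cases _ _ _ _ _ _ (pmm _ _ z1 P1) (pmm _ _ z2 P2) (pmm _ _ z3 P3)
    (pmm _ _ z1 Q1) (pmm _ _ z2 Q2) (pmm _ _ z3 Q3) rel2 rel4 rel5
  -- the assembly
  have PAv := pmP _ hAS
  have PBv := pmP _ hBS
  have QCv := pmQ _ hCS
  have QDv := pmQ _ hDS
  have hlab : (P A = -W A ∧ P B = W B) ∨ (P B = -W B ∧ P A = W A) := by
    rcases sA with h1 | h1 <;> rcases sB with h2 | h2 <;> rcases PAv with h3 | h3 <;> rcases PBv with h4 | h4 <;>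
      rw [h1, h2, h3, h4] at rel1 <;> first | omega | (exfalso; revert rel1; norm_num)
  have hlab' : (Q C = W C ∧ Q D' = -W D') ∨ (Q D' = W D' ∧ Q C = -W C) := by
    rcases sC with h1 | h1 <;> rcases sD with h2 | h2 <;> rcases QCv with h3 | h3 <;> rcases QDv with h4 | h4 <;>
      rw [h1, h2, h3, h4] at rel3 <;> first | omega | (exfalso; revert rel3; norm_num)
  obtain ⟨a, b, hab, Pa, Pb⟩ : ∃ a b, ((a = A ∧ b = B) ∨ (a = B ∧ b = A)) ∧ P a = -W a ∧ P b = W b := by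
    rcases hlab with ⟨h1, h2⟩ | ⟨h1, h2⟩
    · exact ⟨A, B, Or.inl ⟨rfl, rfl⟩, h1, h2⟩
    · exact ⟨B, A, Or.inr ⟨rfl, rfl⟩, h1, h2⟩
  obtain ⟨c', d, hcd, Qc, Qd⟩ : ∃ c' d, ((c' = C ∧ d = D') ∨ (c' = D' ∧ d = C)) ∧ Q c' = W c' ∧ Q d = -W d := by
    rcases hlab' with ⟨h1, h2⟩ | ⟨h1, h2⟩
    · exact ⟨C, D', Or.inl ⟨rfl, rfl⟩, h1, h2⟩
    · exact ⟨D', C, Or.inr ⟨rfl, rfl⟩, h1, h2⟩
  obtain ⟨γ, δ₁, δ₂, hγ, hx, hy, hd1, hd2⟩ : ∃ γ δ₁ δ₂ : ι,
      ((γ = p₁ ∧ δ₁ = p₂ ∧ δ₂ = p₃) ∨ (γ = p₂ ∧ δ₁ = p₁ ∧ δ₂ = p₃) ∨ (γ = p₃ ∧ δ₁ = p₁ ∧ δ₂ = p₂)) ∧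
      Z γ * P γ = -1 ∧ Z γ * Q γ = -1 ∧ Z δ₁ * P δ₁ + Z δ₁ * Q δ₁ = 0 ∧ Z δ₂ * P δ₂ + Z δ₂ * Q δ₂ = 0 := by
    rcases hcase with ⟨h1, h2, h3, h4⟩ | ⟨h1, h2, h3, h4⟩ | ⟨h1, h2, h3, h4⟩
    · exact ⟨p₁, p₂, p₃, Or.inl ⟨rfl, rfl, rfl⟩, h1, h2, h3, h4⟩
    · exact ⟨p₂, p₁, p₃, Or.inr (Or.inl ⟨rfl, rfl, rfl⟩), h1, h2, h3, h4⟩
    · exact ⟨p₃, p₁, p₂, Or.inr (Or.inr ⟨rfl, rfl, rfl⟩), h1, h2, h3, h4⟩
  have tA : ∀ x, (x = A ∨ x = B) → (W x = 1 ∨ W x = -1) ∧ E x = W x ∧ F x = -2 * W x ∧ Q x = 0 ∧ o ≠ x ∧ x ≠ C ∧ x ≠ D' := by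
    rintro x (rfl | rfl)
    · exact ⟨sA, hEA, hFA, QA0, hoA, hAC, hAD⟩
    · exact ⟨sB, hEB, hFB, QB0, hoB, hBC, hBD⟩
  have tC : ∀ x, (x = C ∨ x = D') → (W x = 1 ∨ W x = -1) ∧ E x = 2 * W x ∧ F x = - W x ∧ P x = 0 ∧ o ≠ x := by
    rintro x (rfl | rfl)
    · exact ⟨sC, hEC, hFC, PC0, hoC⟩
    · exact ⟨sD, hED, hFD, PD0, hoD⟩
  have tG : ∀ x, (x = p₁ ∨ x = p₂ ∨ x = p₃) → o ≠ x ∧ (Z x = 1 ∨ Z x = -1) ∧ Z x * Z x = 1 ∧ E x = Z x ∧ F x = Z x ∧
      x ≠ A ∧ x ≠ B ∧ x ≠ C ∧ x ≠ D' := by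
    rintro x (rfl | rfl | rfl)
    · exact ⟨ho1, z1, hzz1, e1, g1, h1A, h1B, h1C, h1D⟩
    · exact ⟨ho2, z2, hzz2, e2, g2, h2A, h2B, h2C, h2D⟩
    · exact ⟨ho3, z3, hzz3, e3, g3, h3A, h3B, h3C, h3D⟩
  have ha : a = A ∨ a = B := hab.elim (fun h => Or.inl h.1) (fun h => Or.inr h.1)
  have hb : b = A ∨ b = B := hab.elim (fun h => Or.inr h.2) (fun h => Or.inl h.2)
  have hc : c' = C ∨ c' = D' := hcd.elim (fun h => Or.inl h.1) (fun h => Or.inr h.1)
  have hd : d = C ∨ d = D' := hcd.elim (fun h => Or.inr h.2) (fun h => Or.inl h.2)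
  have hg : γ = p₁ ∨ γ = p₂ ∨ γ = p₃ :=
    hγ.elim (fun h => Or.inl h.1) (fun h => h.elim (fun h => Or.inr (Or.inl h.1)) (fun h => Or.inr (Or.inr h.1)))
  have hd1m : δ₁ = p₁ ∨ δ₁ = p₂ ∨ δ₁ = p₃ := by
    rcases hγ with ⟨_, h, _⟩ | ⟨_, h, _⟩ | ⟨_, h, _⟩
    exacts [Or.inr (Or.inl h), Or.inl h, Or.inl h]
  have hd2m : δ₂ = p₁ ∨ δ₂ = p₂ ∨ δ₂ = p₃ := by
    rcases hγ with ⟨_, _, h⟩ | ⟨_, _, h⟩ | ⟨_, _, h⟩
    exacts [Or.inr (Or.inr h), Or.inr (Or.inr h), Or.inr (Or.inl h)]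
  have nab : a ≠ b := by
    rcases hab with ⟨rfl, rfl⟩ | ⟨rfl, rfl⟩
    · exact hAB
    · exact hAB.symm
  have ncd : c' ≠ d := by
    rcases hcd with ⟨rfl, rfl⟩ | ⟨rfl, rfl⟩
    · exact hCD
    · exact hCD.symm
  obtain ⟨ta1, ta2, ta3, ta4, ta5, ta6, ta7⟩ := tA a ha
  obtain ⟨tb1, tb2, tb3, tb4, tb5, tb6, tb7⟩ := tA b hb
  obtain ⟨tc1, tc2, tc3, tc4, tc5⟩ := tC c' hc
  obtain ⟨td1, td2, td3, td4, td5⟩ := tC d hd
  obtain ⟨tg1, tg2, tg3, tg4, tg5, tg6, tg7, tg8, tg9⟩ := tG γ hg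
  have nac : a ≠ c' := by rcases hc with h | h <;> rw [h] <;> assumption
  have nad : a ≠ d := by rcases hd with h | h <;> rw [h] <;> assumption
  have nbc : b ≠ c' := by rcases hc with h | h <;> rw [h] <;> assumption
  have nbd : b ≠ d := by rcases hd with h | h <;> rw [h] <;> assumption
  have nga : γ ≠ a := by rcases ha with h | h <;> rw [h] <;> assumption
  have ngb : γ ≠ b := by rcases hb with h | h <;> rw [h] <;> assumption
  have ngc : γ ≠ c' := by rcases hc with h | h <;> rw [h] <;> assumption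
  have ngd : γ ≠ d := by rcases hd with h | h <;> rw [h] <;> assumption
  have pneg : ∀ u v : ℤ, (u = 1 ∨ u = -1) → (-u = 1 ∨ -u = -1) := by
    rintro u v (rfl | rfl) <;> norm_num
  refine ⟨γ, a, b, c', d, Z γ, W a, W b, -W c', -W d,
    { n1 := tg1, n2 := ta5, n3 := tb5, n4 := tc5, n5 := td5, n6 := nga, n7 := ngb, n8 := ngc, n9 := ngd,
      n10 := nab, n11 := nac, n12 := nad, n13 := nbc, n14 := nbd, n15 := ncd,
      sγ := tg2, sA := ta1, sB := tb1, sC := pneg _ 0 tc1, sC' := pneg _ 0 td1,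
      Eγ := tg4, Fγ := tg5, Pγ := ?_, Qγ := ?_,
      EA := ta2, FA := ta3, PA := Pa, QA := ta4,
      EB := tb2, FB := tb3, PB := Pb, QB := tb4,
      EC := by rw [tc2]; ring, FC := tc3, PC := tc4, QC := by rw [Qc]; ring,
      EC' := by rw [td2]; ring, FC' := td3, PC' := td4, QC' := Qd,
      rest := ?_ }⟩
  · linear_combination (Z γ) * hx - P γ * tg3
  · linear_combination (Z γ) * hy - Q γ * tg3
  · intro k k0 kγ ka kb kc kd
    have kA : k ≠ A := by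
      rcases hab with ⟨rfl, rfl⟩ | ⟨rfl, rfl⟩ <;> assumption
    have kB : k ≠ B := by
      rcases hab with ⟨rfl, rfl⟩ | ⟨rfl, rfl⟩ <;> assumption
    have kC : k ≠ C := by
      rcases hcd with ⟨rfl, rfl⟩ | ⟨rfl, rfl⟩ <;> assumption
    have kD : k ≠ D' := by
      rcases hcd with ⟨rfl, rfl⟩ | ⟨rfl, rfl⟩ <;> assumption
    have hWk := hrest k kA kB kC kD
    constructor
    · rw [hE, hF, hWk]
      ring
    · by_cases h1 : k = δ₁
      · have hz : Z k ≠ 0 := by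
          have hk : k = p₁ ∨ k = p₂ ∨ k = p₃ := by
            rw [h1]
            exact hd1m
          rcases (tG k hk).2.1 with h | h <;> rw [h] <;> norm_num
        have : Z k * (P k + Q k) = 0 := by
          rw [h1]
          linear_combination hd1
        have h3 := (mul_eq_zero.1 this).resolve_left hz
        linarith
      · by_cases h2 : k = δ₂
        · have hz : Z k ≠ 0 := by
            have hk : k = p₁ ∨ k = p₂ ∨ k = p₃ := by
              rw [h2]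
              exact hd2m
            rcases (tG k hk).2.1 with h | h <;> rw [h] <;> norm_num
          have : Z k * (P k + Q k) = 0 := by
            rw [h2]
            linear_combination hd2
          have h3 := (mul_eq_zero.1 this).resolve_left hz
          linarith
        · have k1 : k ≠ p₁ ∧ k ≠ p₂ ∧ k ≠ p₃ := by
            rcases hγ with ⟨rfl, rfl, rfl⟩ | ⟨rfl, rfl, rfl⟩ | ⟨rfl, rfl, rfl⟩ <;> exact ⟨by assumption, by assumption, by assumption⟩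
          rw [vanP k k0 k1.1 k1.2.1 k1.2.2 kA kB, vanQ k k0 k1.1 k1.2.1 k1.2.2 kC kD]
          simp

theorem zeta_val1 {z w : ℤ} (hw : w = 1 ∨ w = -1) (h : z * w = -1) : z = -w := by
  rcases hw with rfl | rfl <;> omega

theorem zeta_val0 {z w : ℤ} (hw : w = 1 ∨ w = -1) (h : z * w = 0) : z = 0 := by
  rcases hw with rfl | rfl <;> omega

set_option maxHeartbeats 1000000 in
/-- **The pattern.** -/
theorem exists_pat {o : ι} {E F P Q D : ι → ℤ} (c : Cols o E F P Q D) :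
    ∃ (γ A B C C' : ι) (eγ eA eB eC eC' : ℤ), Pat o γ A B C C' eγ eA eB eC eC' E F P Q := by
  classical
  have hex : ∀ i, ∃ k, E i - F i = 3 * k := by
    intro i
    have h := c.d1 i
    have h' : (3 : ℤ) ∣ E i - F i := by
      have := dvd_sub h (dvd_mul_right 3 (F i))
      have e : E i + 2 * F i - 3 * F i = E i - F i := by ring
      rwa [e] at this
    exact h'
  choose W hW using hex
  obtain ⟨Z, hZ⟩ : ∃ Z : ι → ℤ, ∀ i, Z i = F i + W i := ⟨_, fun _ => rfl⟩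
  have hE : ∀ i, E i = Z i + 2 * W i := by
    intro i
    rw [hZ]
    linear_combination hW i
  have hF : ∀ i, F i = Z i - W i := by
    intro i
    rw [hZ]
    ring
  have hWo : W o = 0 := by
    have := hW o
    rw [c.Eo, c.Fo] at this
    omega
  have hZo : Z o = 1 := by
    rw [hZ, c.Fo, hWo]
    norm_num
  have hWW : ∑ i, W i * W i = 4 := by
    have h1 : ∑ i, 9 * (W i * W i) = ∑ i, (E i * E i - 2 * (E i * F i) + F i * F i) := by
      refine Finset.sum_congr rfl fun i _ => ?_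
      linear_combination (-(E i - F i + 3 * W i)) * hW i
    rw [← Finset.mul_sum, Finset.sum_add_distrib, Finset.sum_sub_distrib, ← Finset.mul_sum, c.EE, c.FF, c.EF] at h1
    omega
  have hZZ : ∑ i, Z i * Z i = 10 := by
    have h1 : ∑ i, 9 * (Z i * Z i) = ∑ i, (E i * E i + 4 * (E i * F i) + 4 * (F i * F i)) := by
      refine Finset.sum_congr rfl fun i _ => ?_
      have h3 : 3 * Z i = E i + 2 * F i := by
        rw [hZ]
        linear_combination (-1 : ℤ) * hW i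
      linear_combination (3 * Z i + E i + 2 * F i) * h3
    rw [← Finset.mul_sum, Finset.sum_add_distrib, Finset.sum_add_distrib, ← Finset.mul_sum, ← Finset.mul_sum, c.EE, c.FF, c.EF] at h1
    omega
  have hZW : ∑ i, Z i * W i = -2 := by
    have h1 : ∑ i, 9 * (Z i * W i) = ∑ i, (E i * E i + E i * F i - 2 * (F i * F i)) := by
      refine Finset.sum_congr rfl fun i _ => ?_
      have h3 : 3 * Z i = E i + 2 * F i := by
        rw [hZ]
        linear_combination (-1 : ℤ) * hW i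
      linear_combination (3 * W i) * h3 - (E i + 2 * F i) * hW i
    rw [← Finset.mul_sum, Finset.sum_sub_distrib, Finset.sum_add_distrib, ← Finset.mul_sum, c.EE, c.FF, c.EF] at h1
    omega
  have hDW : ∑ i, D i * W i = 0 := by
    have h1 : ∑ i, 3 * (D i * W i) = ∑ i, (D i * E i - D i * F i) := by
      refine Finset.sum_congr rfl fun i _ => ?_
      linear_combination (-D i) * hW i
    rw [← Finset.mul_sum, Finset.sum_sub_distrib, c.DE, c.DF] at h1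
    omega
  have hb : ∀ i, W i * W i ≤ 1 := by
    intro i
    by_contra hcon
    push Not at hcon
    have h4 : 4 ≤ W i * W i := by
      by_contra h5
      push Not at h5
      have h6 : W i ≤ 1 := by nlinarith
      have h7 : -1 ≤ W i := by nlinarith
      have h8 : W i = -1 ∨ W i = 0 ∨ W i = 1 := by omega
      rcases h8 with h8 | h8 | h8 <;> rw [h8] at hcon <;> norm_num at hcon
    have herase : W i * W i + ∑ k ∈ Finset.univ.erase i, W k * W k = ∑ k, W k * W k :=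
      Finset.add_sum_erase Finset.univ (fun i => W i * W i) (Finset.mem_univ i)
    rw [hWW] at herase
    have hnn : 0 ≤ ∑ k ∈ Finset.univ.erase i, W k * W k := Finset.sum_nonneg fun k _ => mul_self_nonneg _
    have hz : ∑ k ∈ Finset.univ.erase i, W k * W k = 0 := by omega
    have h0 := (Finset.sum_eq_zero_iff_of_nonneg (fun k _ => mul_self_nonneg _)).1 hz
    have hr : ∀ k, k ≠ i → W k = 0 := fun k hk =>
      mul_self_eq_zero.1 (h0 k (Finset.mem_erase.2 ⟨hk, Finset.mem_univ k⟩))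
    have hs : ∑ k, D k * W k = D i * W i := by
      rw [Finset.sum_eq_single i]
      · intro k _ hk
        rw [hr k hk, mul_zero]
      · simp
    rw [hDW] at hs
    rcases mul_eq_zero.1 hs.symm with h | h
    · exact c.Dne i h
    · rw [h] at h4
      omega
  obtain ⟨a, b, c', d, hab, hac, had, hbc, hbd, hcd, sa, sb, sc, sd, hrest⟩ := four_pts W hWW hb
  have hoa : o ≠ a := by
    rintro rfl
    rcases sa with h | h <;> omega
  have hob : o ≠ b := by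
    rintro rfl
    rcases sb with h | h <;> omega
  have hoc : o ≠ c' := by
    rintro rfl
    rcases sc with h | h <;> omega
  have hod : o ≠ d := by
    rintro rfl
    rcases sd with h | h <;> omega
  have hsum : Z a * W a + (Z b * W b + (Z c' * W c' + Z d * W d)) = -2 := by
    rw [← hZW]
    symm
    apply sum_four _ hab hac had hbc hbd hcd
    intro k h1 h2 h3 h4
    rw [hrest k h1 h2 h3 h4, mul_zero]
  have hwsq : ∀ w : ℤ, (w = 1 ∨ w = -1) → w * w = 1 := by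
    rintro w (rfl | rfl) <;> norm_num
  have hsq : ∀ z w : ℤ, (w = 1 ∨ w = -1) → (z * w) * (z * w) = z * z := by
    intro z w hw
    have := hwsq w hw
    linear_combination (z * z) * this
  have hbound : (Z a * W a) * (Z a * W a) + (Z b * W b) * (Z b * W b) + (Z c' * W c') * (Z c' * W c') +
      (Z d * W d) * (Z d * W d) ≤ 9 := by
    rw [hsq _ _ sa, hsq _ _ sb, hsq _ _ sc, hsq _ _ sd]
    have h1 : ∑ i ∈ ({o, a, b, c', d} : Finset ι), Z i * Z i ≤ ∑ i, Z i * Z i :=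
      Finset.sum_le_univ_sum_of_nonneg (fun i => mul_self_nonneg _)
    rw [hZZ, Finset.sum_insert (by simp [hoa, hob, hoc, hod]), Finset.sum_insert (by simp [hab, hac, had]),
      Finset.sum_insert (by simp [hbc, hbd]), Finset.sum_pair hcd, hZo] at h1
    omega
  have hne2 : ∀ x, (W x = 1 ∨ W x = -1) → Z x * W x ≠ -2 := by
    intro x hx h
    have hz : Z x = -2 * W x := by
      have := hwsq _ hx
      linear_combination (W x) * h - Z x * this
    have h1 : E x = 0 := by rw [hE, hz]; ring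
    have h2 := (c.van x).1 h1
    rw [hF, hz] at h2
    rcases hx with h3 | h3 <;> rw [h3] at h2 <;> omega
  have hne1 : ∀ x, (W x = 1 ∨ W x = -1) → Z x * W x ≠ 1 := by
    intro x hx h
    have hz : Z x = W x := by
      have := hwsq _ hx
      linear_combination (W x) * h - Z x * this
    have h1 : F x = 0 := by rw [hF, hz]; ring
    have h2 := (c.van x).2 h1
    rw [hE, hz] at h2
    rcases hx with h3 | h3 <;> rw [h3] at h2 <;> omega
  have hcases := zeta_cases _ _ _ _ (by linarith) hbound (hne2 a sa) (hne1 a sa) (hne2 b sb) (hne1 b sb)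
    (hne2 c' sc) (hne1 c' sc) (hne2 d sd) (hne1 d sd)
  have rest' : ∀ {a' b' c'' d' : ι}, (∀ k, k = a ∨ k = b ∨ k = c' ∨ k = d → k = a' ∨ k = b' ∨ k = c'' ∨ k = d') →
      ∀ k, k ≠ a' → k ≠ b' → k ≠ c'' → k ≠ d' → W k = 0 := by
    intro a' b' c'' d' hh k h1 h2 h3 h4
    by_cases h5 : k = a ∨ k = b ∨ k = c' ∨ k = d
    · rcases hh k h5 with h | h | h | h
      · exact absurd h h1
      · exact absurd h h2
      · exact absurd h h3
      · exact absurd h h4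
    · push Not at h5
      exact hrest k h5.1 h5.2.1 h5.2.2.1 h5.2.2.2
  rcases hcases with ⟨h1, h2, h3, h4⟩ | ⟨h1, h2, h3, h4⟩ | ⟨h1, h2, h3, h4⟩ | ⟨h1, h2, h3, h4⟩ | ⟨h1, h2, h3, h4⟩ | ⟨h1, h2, h3, h4⟩
  · exact phase2 c W Z hE hF hab hac had hbc hbd hcd hoa hob hoc hod sa sb sc sd (zeta_val1 sa h1) (zeta_val1 sb h2)
      (zeta_val0 sc h3) (zeta_val0 sd h4) (rest' (by intro k h; rcases h with h | h | h | h <;> simp [h])) hZZ hZo hWo
  · exact phase2 c W Z hE hF hac hab had hbc.symm hcd hbd hoa hoc hob hod sa sc sb sd (zeta_val1 sa h1) (zeta_val1 sc h3)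
      (zeta_val0 sb h2) (zeta_val0 sd h4) (rest' (by intro k h; rcases h with h | h | h | h <;> simp [h])) hZZ hZo hWo
  · exact phase2 c W Z hE hF had hab hac hbd.symm hcd.symm hbc hoa hod hob hoc sa sd sb sc (zeta_val1 sa h1) (zeta_val1 sd h4)
      (zeta_val0 sb h2) (zeta_val0 sc h3) (rest' (by intro k h; rcases h with h | h | h | h <;> simp [h])) hZZ hZo hWo
  · exact phase2 c W Z hE hF hbc hab.symm hbd hac.symm hcd had hob hoc hoa hod sb sc sa sd (zeta_val1 sb h2) (zeta_val1 sc h3)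
      (zeta_val0 sa h1) (zeta_val0 sd h4) (rest' (by intro k h; rcases h with h | h | h | h <;> simp [h])) hZZ hZo hWo
  · exact phase2 c W Z hE hF hbd hab.symm hbc had.symm hcd.symm hac hob hod hoa hoc sb sd sa sc (zeta_val1 sb h2) (zeta_val1 sd h4)
      (zeta_val0 sa h1) (zeta_val0 sc h3) (rest' (by intro k h; rcases h with h | h | h | h <;> simp [h])) hZZ hZo hWo
  · exact phase2 c W Z hE hF hcd hac.symm hbc.symm had.symm hbd.symm hab hoc hod hoa hob sc sd sa sb (zeta_val1 sc h3) (zeta_val1 sd h4)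
      (zeta_val0 sa h1) (zeta_val0 sb h2) (rest' (by intro k h; rcases h with h | h | h | h <;> simp [h])) hZZ hZo hWo

end Pat

end Cfsg.Agent.Lib.Blocks.TID8
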