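import Mathlib
import Cfsg.Agent.Lib.Blocks.TID8Model
import Cfsg.Agent.Lib.Blocks.TID8Pat
import Cfsg.Agent.Lib.Blocks.TI9Sit
import Cfsg.Agent.Lib.Char.Clifford

/-!
# The `3²:D₈` situation: local facts in `G` transported from the model
-/

set_option autoImplicit false
set_option maxRecDepth 100000

namespace Cfsg.Agent.Lib.Blocks.TID8

open DihedralGroup Cfsg
open Cfsg.Agent.Lib.Blocks.TI9 (avg3 avg2 orth_int_conj orth_int_not_conj exists_int_of_sixth int_dvd_of_isIntegral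
  apply_eq_zero_of_notMem notMem_principalBlock_of_apply_eq_zero mem_principalBlock_of_selfCen)

universe u

/-- More elements of the model. -/
abbrev ER : G72 := ⟨r 1, sr 0, false⟩
abbrev FS : G72 := ⟨r 1, r 1, true⟩

/-- The involutions. -/
def rep (l : Fin 3) : G72 := if l = 0 then ZZ else if l = 1 then R1 else WW

/-- The type of an involution. -/
def lab (x : G72) : Fin 3 := if x.s then 2 else if x.a = 1 ∨ x.b = 1 then 1 else 0

/-- The elements whose square is a nontrivial rotation. -/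
abbrev Good (x : G72) : Prop := (∃ i j : ZMod 3, x ^ 2 = ⟨r i, r j, false⟩) ∧ x ^ 2 ≠ 1

theorem good_E1 : Good E1 := by decide
theorem good_FF : Good FF := by decide
theorem good_ER : Good ER := by decide
theorem good_FS : Good FS := by decide

theorem lab_conj : ∀ x : G72, x * x = 1 → x ≠ 1 → ∃ c : G72, c * rep (lab x) * c⁻¹ = x := by decide

theorem rep_sq : ∀ l, rep l * rep l = 1 := by decide
theorem rep_ne : ∀ l, rep l ≠ 1 := by decide

variable {G : Type u} [Group G] [Finite G]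

/-- The hypotheses. -/
structure Sit (T : Subgroup G) (φ : G72 →* G) : Prop where
  mod : Mod T φ
  h3 : ∀ x ∈ T, x ^ 3 = 1
  hcomm : ∀ x ∈ T, ∀ y ∈ T, x * y = y * x
  hC : Subgroup.centralizer (T : Set G) = T
  hloc : ∀ t ∈ T, t ≠ 1 → Subgroup.centralizer ({t} : Set G) ≤ Subgroup.normalizer (T : Set G)
  hSyl : ¬ 3 ∣ T.index
  hcard : Nat.card T = 9

variable {T : Subgroup G} {φ : G72 →* G}

theorem Sit.sq_mem (S : Sit T φ) {x₀ : G72} (h : Good x₀) : (φ x₀) ^ 2 ∈ T ∧ (φ x₀) ^ 2 ≠ 1 := by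
  obtain ⟨⟨i, j, hij⟩, h1⟩ := h
  constructor
  · rw [← map_pow, hij]
    exact (S.mod.memT _).2 ⟨i, j, rfl⟩
  · intro h2
    rw [← map_pow] at h2
    apply h1
    exact S.mod.inj (by rw [h2, map_one])

/-- TI: an element conjugating an element of `T#` to an element of `T#` normalizes `T`. -/
theorem Sit.ti (S : Sit T φ) {g x y : G} (hx : x ∈ T) (hx1 : x ≠ 1) (hy : y ∈ T) (hy1 : y ≠ 1)
    (h : g * x * g⁻¹ = y) : g ∈ Subgroup.normalizer (T : Set G) := by
  classical
  have hdec : ∀ a : G72, a ^ 3 = 1 → ∃ i j : ZMod 3, a = ⟨r i, r j, false⟩ := by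
    decide
  have hmem : ∀ z ∈ T, g * z * g⁻¹ ∈ T := by
    intro z hz
    have h1 : g * z * g⁻¹ ∈ Subgroup.centralizer ({y} : Set G) := by
      rw [Subgroup.mem_centralizer_singleton_iff, ← h]
      have h2 := S.hcomm z hz x hx
      calc g * z * g⁻¹ * (g * x * g⁻¹) = g * (z * x) * g⁻¹ := by group
        _ = g * (x * z) * g⁻¹ := by rw [h2]
        _ = g * x * g⁻¹ * (g * z * g⁻¹) := by group
    obtain ⟨a, ha⟩ := S.mod.memN _ (S.hloc y hy hy1 h1)
    have h3 : a ^ 3 = 1 := by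
      apply S.mod.inj
      rw [map_pow, ha, map_one, conj_pow, S.h3 z hz]
      group
    obtain ⟨i, j, rfl⟩ := hdec a h3
    exact (S.mod.memT _).2 ⟨i, j, ha.symm⟩
  rw [Subgroup.mem_normalizer_iff]
  intro z
  refine ⟨hmem z, fun hz => ?_⟩
  let F : T → T := fun t => ⟨g * t * g⁻¹, hmem t t.2⟩
  have hF : Function.Injective F := by
    intro a b hab
    have h1 : g * (a : G) * g⁻¹ = g * (b : G) * g⁻¹ := congrArg Subtype.val hab
    exact Subtype.ext (by simpa using h1)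
  obtain ⟨t, ht⟩ := (Finite.injective_iff_surjective.1 hF) ⟨_, hz⟩
  have h1 : g * (t : G) * g⁻¹ = g * z * g⁻¹ := congrArg Subtype.val ht
  have h2 : (t : G) = z := by simpa using h1
  rw [← h2]
  exact t.2

theorem Sit.cen_le (S : Sit T φ) {x₀ : G72} (h : Good x₀) :
    Subgroup.centralizer ({φ x₀} : Set G) ≤ Subgroup.normalizer (T : Set G) := by
  intro g hg
  obtain ⟨h1, h2⟩ := S.sq_mem h
  refine S.hloc _ h1 h2 ?_
  rw [Subgroup.mem_centralizer_singleton_iff] at hg ⊢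
  exact ((show Commute g (φ x₀) from hg).pow_right 2).eq

/-- Conjugacy of the images is conjugacy in the model. -/
theorem Sit.conj_lift (S : Sit T φ) {x₀ y₀ : G72} (hx : Good x₀) (hy : Good y₀) (h : IsConj (φ x₀) (φ y₀)) :
    ∃ c : G72, c * x₀ * c⁻¹ = y₀ := by
  obtain ⟨g, hg⟩ := isConj_iff.1 h
  obtain ⟨h1, h2⟩ := S.sq_mem hx
  obtain ⟨h3, h4⟩ := S.sq_mem hy
  have h5 : g * (φ x₀) ^ 2 * g⁻¹ = (φ y₀) ^ 2 := by
    rw [← hg, conj_pow]
  obtain ⟨c, rfl⟩ := S.mod.memN _ (S.ti h1 h2 h3 h4 h5)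
  refine ⟨c, S.mod.inj ?_⟩
  rw [map_mul, map_mul, map_inv]
  exact hg

/-- The centralizer in `G` is the image of the centralizer in the model. -/
theorem Sit.card_cen (S : Sit T φ) {x₀ : G72} (h : Good x₀) :
    Nat.card (Subgroup.centralizer ({φ x₀} : Set G)) =
      (Finset.univ.filter (fun c : G72 => c * x₀ = x₀ * c)).card := by
  classical
  have h1 : Subgroup.centralizer ({φ x₀} : Set G) ≃ {c : G72 // c * x₀ = x₀ * c} := by
    refine Equiv.symm (Equiv.ofBijective (fun c => ⟨φ c.1, ?_⟩) ⟨?_, ?_⟩)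
    · rw [Subgroup.mem_centralizer_singleton_iff, ← map_mul, c.2, map_mul]
    · intro a b hab
      exact Subtype.ext (S.mod.inj (congrArg Subtype.val hab))
    · intro g
      obtain ⟨c, hc⟩ := S.mod.memN _ (S.cen_le h g.2)
      refine ⟨⟨c, S.mod.inj ?_⟩, Subtype.ext hc⟩
      have h2 := Subgroup.mem_centralizer_singleton_iff.1 g.2
      rw [map_mul, map_mul, hc]
      exact h2
  rw [Nat.card_congr h1, Nat.card_eq_fintype_card, Fintype.card_subtype]

section Values

open Cfsg.Agent.Lib.Blocks.Principal Cfsg.Agent.Lib.Blocks.Sections Cfsg.Agent.Lib.Blocks.Local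
  Cfsg.Agent.Lib.Char.CompleteCor

/-- The class function property on the model. -/
theorem apply_model (φ : G72 →* G) (χ : IrrCharacter G) {x₀ y₀ : G72} (h : ∃ c : G72, c * x₀ * c⁻¹ = y₀) :
    (χ : G → ℂ) (φ y₀) = (χ : G → ℂ) (φ x₀) := by
  obtain ⟨c, rfl⟩ := h
  rw [map_mul, map_mul, map_inv]
  exact isIrr_classFunction χ.2 _ _

theorem exists_int_model (φ : G72 →* G) (χ : IrrCharacter G) {x₀ : G72} (h6 : x₀ ^ 6 = 1)
    (hr : ∃ c : G72, c * x₀ * c⁻¹ = x₀⁻¹) : ∃ z : ℤ, (χ : G → ℂ) (φ x₀) = z := by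
  refine exists_int_of_sixth (Cfsg.Agent.Lib.Char.Values.IsIrrCharacter.isCharacter χ.2) ?_ ?_
  · rw [← map_pow, h6, map_one]
  · obtain ⟨c, hc⟩ := hr
    refine isConj_iff.2 ⟨φ c, ?_⟩
    rw [← map_inv, ← map_mul, ← map_mul, hc, map_inv]

theorem Sit.not_conj (S : Sit T φ) {x₀ y₀ : G72} (hx : Good x₀) (hy : Good y₀) (h : ¬ ∃ c : G72, c * x₀ * c⁻¹ = y₀) :
    ¬ IsConj (φ x₀) (φ y₀) := fun hc => h (S.conj_lift hx hy hc)

/-- An element with non-trivial square is not conjugate to an involution. -/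
theorem Sit.not_conj_invol (S : Sit T φ) {x₀ y₀ : G72} (hx : x₀ ^ 2 ≠ 1) (hy : y₀ ^ 2 = 1) :
    ¬ IsConj (φ x₀) (φ y₀) := by
  intro h
  obtain ⟨c, hc⟩ := isConj_iff.1 h
  apply hx
  apply S.mod.inj
  have h1 : c * (φ x₀) ^ 2 * c⁻¹ = 1 := by
    rw [← conj_pow, hc, ← map_pow, hy, map_one]
  rw [map_pow, map_one]
  have h2 : c * (φ x₀) ^ 2 = c := by
    have := congrArg (· * c) h1
    simpa using this
  simpa using h2

theorem Sit.not_conj_one (S : Sit T φ) {x₀ : G72} (hx : x₀ ≠ 1) : ¬ IsConj (1 : G) (φ x₀) := by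
  intro h
  rw [isConj_one_right] at h
  exact hx (S.mod.inj (by rw [h, map_one]))

/-- A single `3`-block in the centralizer of a nontrivial element of `T`. -/
theorem Sit.single_block (S : Sit T φ) {M : Ideal AlgInt} (hM : IsPModular 3 M) [Fact (Nat.Prime 3)] {x : G} (hx : x ∈ T) (hx1 : x ≠ 1)
    [Fintype (Sections.Cen x)] (ψ : IrrCharacter (Sections.Cen x)) : ψ ∈ principalBlock M (Sections.Cen x) := by
  have hTC : T ≤ Sections.Cen x := by
    intro t ht
    rw [Subgroup.mem_centralizer_singleton_iff]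
    exact S.hcomm t ht x hx
  haveI hn : (T.subgroupOf (Sections.Cen x)).Normal :=
    (Subgroup.normal_subgroupOf_iff_le_normalizer hTC).2 (S.hloc x hx hx1)
  refine mem_principalBlock_of_selfCen hM (T.subgroupOf (Sections.Cen x)) ?_ ?_ ψ
  · intro q
    refine ⟨1, Subtype.ext (Subtype.ext ?_)⟩
    simpa using S.h3 _ (Subgroup.mem_subgroupOf.1 q.2)
  · intro h hh
    rw [Subgroup.mem_subgroupOf, ← S.hC, Subgroup.mem_centralizer_iff]
    intro t ht
    have h1 := Subgroup.mem_centralizer_iff.1 hh ⟨t, hTC ht⟩ (Subgroup.mem_subgroupOf.2 ht)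
    exact congrArg Subtype.val h1

/-- Vanishing at one element of `T#` implies vanishing at another. -/
theorem Sit.van_aux (S : Sit T φ) {x y : G} (hx : x ∈ T) (hy : y ∈ T) (hy1 : y ≠ 1) (hyo : orderOf y = 3)
    (χ : IrrCharacter G) (h0 : (χ : G → ℂ) x = 0) : (χ : G → ℂ) y = 0 := by
  classical
  haveI := Fintype.ofFinite G
  haveI : Fact (Nat.Prime 3) := ⟨by norm_num⟩
  obtain ⟨M, hM⟩ := Cfsg.Agent.Lib.Transfer.AbTwo.exists_modular' 3 (by norm_num)
  have hT1 : T ≤ Subgroup.centralizer ({x} : Set G) := by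
    intro t ht
    rw [Subgroup.mem_centralizer_singleton_iff]
    exact S.hcomm t ht _ hx
  have hidx : ¬ 3 ∣ (Subgroup.centralizer ({x} : Set G)).index := fun h =>
    S.hSyl (h.trans (Subgroup.index_dvd_of_le hT1))
  have hnot := notMem_principalBlock_of_apply_eq_zero hM hidx h0
  letI : Fintype (Cen y) := Fintype.ofFinite _
  have hU := S.single_block hM hy hy1
  have h3 : ¬ (3 : ℕ) ∣ orderOf (1 : Cen y) := by simp
  have ho : orderOf y = 3 ^ 1 := by rw [hyo]; norm_num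
  have v := apply_eq_zero_of_notMem hM ho hU 1 h3 hnot
  simpa using v

end Values

section ValuesFin

open Cfsg.Agent.Lib.Blocks.Principal Cfsg.Agent.Lib.Blocks.Sections Cfsg.Agent.Lib.Blocks.Local
  Cfsg.Agent.Lib.Char.CompleteCor

variable [Fintype (IrrCharacter G)] [DecidableEq (IrrCharacter G)]

/-- The integer values and their relations. -/
structure Vals (φ : G72 →* G) (E F P Q D : IrrCharacter G → ℤ) (X : Fin 3 → IrrCharacter G → ℤ) : Prop where
  hE : ∀ χ : IrrCharacter G, (χ : G → ℂ) (φ E1) = E χ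
  hF : ∀ χ : IrrCharacter G, (χ : G → ℂ) (φ FF) = F χ
  hP : ∀ χ : IrrCharacter G, (χ : G → ℂ) (φ ER) = P χ
  hQ : ∀ χ : IrrCharacter G, (χ : G → ℂ) (φ FS) = Q χ
  hD : ∀ χ : IrrCharacter G, (χ : G → ℂ) 1 = D χ
  hX : ∀ l, ∀ χ : IrrCharacter G, (χ : G → ℂ) (φ (rep l)) = X l χ
  Dpos : ∀ χ, 0 < D χ
  cols : Cols (trivChar G) E F P Q D
  DP : ∑ χ, D χ * P χ = 0
  DQ : ∑ χ, D χ * Q χ = 0
  EX : ∀ l, ∑ χ, E χ * X l χ = 0
  FX : ∀ l, ∑ χ, F χ * X l χ = 0
  PX : ∀ l, ∑ χ, P χ * X l χ = 0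
  QX : ∀ l, ∑ χ, Q χ * X l χ = 0
  d4 : ∀ χ, (9 : ℤ) ∣ D χ + 4 * E χ + 4 * F χ
  d5 : ∀ χ, (3 : ℤ) ∣ X 1 χ + 2 * P χ
  d6 : ∀ χ, (3 : ℤ) ∣ X 2 χ + 2 * Q χ
  Xo : ∀ l, X l (trivChar G) = 1
  Do : D (trivChar G) = 1

/-- Integrality of the average over a subgroup. -/
theorem isIntegral_avg_subgroup {χ : G → ℂ} (hχ : IsCharacter G χ) (Q : Subgroup G) [Fintype Q] :
    IsIntegral ℤ ((Nat.card Q : ℂ)⁻¹ * ∑ q : Q, χ (q : G)) := by
  obtain ⟨n, ρ, rfl⟩ := hχ
  have h1 := Cfsg.Agent.Lib.Blocks.DefectAvg.isIntegral_avg_character ρ Q 1 (by simp)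
  simpa using h1

theorem zmod3_sum {α : Type*} [AddCommMonoid α] (f : ZMod 3 → α) : ∑ i, f i = f 0 + (f 1 + f 2) := by
  have h : (Finset.univ : Finset (ZMod 3)) = {0, 1, 2} := by decide
  rw [h, Finset.sum_insert (by decide), Finset.sum_pair (by decide)]

theorem Sit.d4_aux (S : Sit T φ) (χ : IrrCharacter G) {D E F : ℤ} (hD : (χ : G → ℂ) 1 = D)
    (hE : (χ : G → ℂ) (φ E1) = E) (hF : (χ : G → ℂ) (φ FF) = F) : (9 : ℤ) ∣ D + 4 * E + 4 * F := by
  classical
  haveI : Fintype T := Fintype.ofFinite T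
  have h1 := isIntegral_avg_subgroup (Cfsg.Agent.Lib.Char.Values.IsIrrCharacter.isCharacter χ.2) T
  let B : ZMod 3 × ZMod 3 → T := fun p => ⟨φ ⟨r p.1, r p.2, false⟩, (S.mod.memT _).2 ⟨p.1, p.2, rfl⟩⟩
  have hB : Function.Bijective B := by
    constructor
    · rintro ⟨i, j⟩ ⟨i', j'⟩ h
      have h2 : (⟨r i, r j, false⟩ : G72) = ⟨r i', r j', false⟩ := S.mod.inj (congrArg Subtype.val h)
      have h3 : r i = r i' := congrArg G72.a h2
      have h4 : r j = r j' := congrArg G72.b h2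
      rw [r.injEq] at h3 h4
      rw [h3, h4]
    · rintro ⟨x, hx⟩
      obtain ⟨i, j, rfl⟩ := (S.mod.memT x).1 hx
      exact ⟨(i, j), rfl⟩
  rw [← hB.sum_comp, Fintype.sum_prod_type, S.hcard] at h1
  simp only [zmod3_sum] at h1
  have v00 : (χ : G → ℂ) ((B (0, 0) : T) : G) = D := by
    rw [← hD]
    show (χ : G → ℂ) (φ 1) = _
    rw [map_one]
  have v01 : (χ : G → ℂ) ((B (0, 1) : T) : G) = E := by
    rw [← hE]
    exact apply_model φ χ (by decide)
  have v02 : (χ : G → ℂ) ((B (0, 2) : T) : G) = E := by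
    rw [← hE]
    exact apply_model φ χ (by decide)
  have v10 : (χ : G → ℂ) ((B (1, 0) : T) : G) = E := by
    rw [← hE]
    exact apply_model φ χ (by decide)
  have v20 : (χ : G → ℂ) ((B (2, 0) : T) : G) = E := by
    rw [← hE]
    exact apply_model φ χ (by decide)
  have v11 : (χ : G → ℂ) ((B (1, 1) : T) : G) = F := by
    rw [← hF]
  have v12 : (χ : G → ℂ) ((B (1, 2) : T) : G) = F := by
    rw [← hF]
    exact apply_model φ χ (by decide)
  have v21 : (χ : G → ℂ) ((B (2, 1) : T) : G) = F := by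
    rw [← hF]
    exact apply_model φ χ (by decide)
  have v22 : (χ : G → ℂ) ((B (2, 2) : T) : G) = F := by
    rw [← hF]
    exact apply_model φ χ (by decide)
  rw [v00, v01, v02, v10, v11, v12, v20, v21, v22] at h1
  have h2 := int_dvd_of_isIntegral (D + 4 * E + 4 * F) 9 (by norm_num) (by
    convert h1 using 2
    push_cast
    ring)
  exact_mod_cast h2

theorem Sit.exists_vals (S : Sit T φ) :
    ∃ (E F P Q D : IrrCharacter G → ℤ) (X : Fin 3 → IrrCharacter G → ℤ), Vals φ E F P Q D X := by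
  classical
  haveI := Fintype.ofFinite G
  have hE : ∀ χ : IrrCharacter G, ∃ z : ℤ, (χ : G → ℂ) (φ E1) = z := fun χ =>
    exists_int_model φ χ (by decide) (by decide)
  have hF : ∀ χ : IrrCharacter G, ∃ z : ℤ, (χ : G → ℂ) (φ FF) = z := fun χ =>
    exists_int_model φ χ (by decide) (by decide)
  have hP : ∀ χ : IrrCharacter G, ∃ z : ℤ, (χ : G → ℂ) (φ ER) = z := fun χ =>
    exists_int_model φ χ (by decide) (by decide)
  have hQ : ∀ χ : IrrCharacter G, ∃ z : ℤ, (χ : G → ℂ) (φ FS) = z := fun χ =>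
    exists_int_model φ χ (by decide) (by decide)
  have hchar : ∀ χ : IrrCharacter G, IsCharacter G (χ : G → ℂ) := fun χ =>
    Cfsg.Agent.Lib.Char.Values.IsIrrCharacter.isCharacter χ.2
  have hD : ∀ χ : IrrCharacter G, ∃ z : ℤ, (χ : G → ℂ) 1 = z ∧ 0 < z := by
    intro χ
    obtain ⟨n, hn⟩ := Cfsg.Agent.Lib.Char.Clifford.exists_nat_apply_one (hchar χ)
    have h0 : n ≠ 0 := by
      rintro rfl
      apply Cfsg.Agent.Lib.Char.Ortho.irr_apply_one_ne_zero χ.2
      rw [hn]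
      simp
    refine ⟨n, by rw [hn]; simp, by omega⟩
  have hX : ∀ (l : Fin 3) (χ : IrrCharacter G), ∃ z : ℤ, (χ : G → ℂ) (φ (rep l)) = z := fun l χ =>
    exists_int_model φ χ ((by decide : ∀ l, (rep l) ^ 6 = 1) l) ((by decide : ∀ l, ∃ c : G72, c * rep l * c⁻¹ = (rep l)⁻¹) l)
  choose E hE using hE
  choose F hF using hF
  choose P hP using hP
  choose Q hQ using hQ
  choose D hD hDp using hD
  choose X hX using hX
  have cc : ∀ {U : IrrCharacter G → ℤ} {x₀ : G72} (_ : ∀ χ : IrrCharacter G, (χ : G → ℂ) (φ x₀) = U χ) (_ : Good x₀),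
      ∑ χ, U χ * U χ = ((Finset.univ.filter (fun c : G72 => c * x₀ = x₀ * c)).card : ℤ) := by
    intro U x₀ hU hg
    rw [orth_int_conj hU hU (IsConj.refl _), S.card_cen hg]
  have nc : ∀ {U V : IrrCharacter G → ℤ} {x₀ y₀ : G72} (_ : ∀ χ : IrrCharacter G, (χ : G → ℂ) (φ x₀) = U χ)
      (_ : ∀ χ : IrrCharacter G, (χ : G → ℂ) (φ y₀) = V χ) (_ : Good x₀) (_ : Good y₀)
      (_ : ¬ ∃ c : G72, c * x₀ * c⁻¹ = y₀), ∑ χ, U χ * V χ = 0 := by
    intro U V x₀ y₀ hU hV hx hy h
    exact orth_int_not_conj hU hV (S.not_conj hx hy h)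
  have ni : ∀ {U : IrrCharacter G → ℤ} {x₀ : G72} (_ : ∀ χ : IrrCharacter G, (χ : G → ℂ) (φ x₀) = U χ)
      (_ : x₀ ^ 2 ≠ 1) (l : Fin 3), ∑ χ, U χ * X l χ = 0 := by
    intro U x₀ hU h l
    exact orth_int_not_conj hU (hX l) (S.not_conj_invol h ((by decide : ∀ l, (rep l) ^ 2 = 1) l))
  have nd : ∀ {U : IrrCharacter G → ℤ} {x₀ : G72} (_ : ∀ χ : IrrCharacter G, (χ : G → ℂ) (φ x₀) = U χ)
      (_ : x₀ ≠ 1), ∑ χ, D χ * U χ = 0 := by
    intro U x₀ hU h
    exact orth_int_not_conj hD hU (S.not_conj_one h)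
  have ordY : ∀ y₀ : G72, orderOf (φ y₀) = orderOf y₀ := fun y₀ => orderOf_injective φ S.mod.inj y₀
  have ordE1 : orderOf (φ E1) = 3 := by
    rw [ordY]
    exact orderOf_eq_prime (by decide) (by decide)
  have ordE2 : orderOf (φ E2) = 3 := by
    rw [ordY]
    exact orderOf_eq_prime (by decide) (by decide)
  have ordFF : orderOf (φ FF) = 3 := by
    rw [ordY]
    exact orderOf_eq_prime (by decide) (by decide)
  have ordR1 : orderOf (φ R1) = 2 := by
    rw [ordY]
    exact orderOf_eq_prime (by decide) (by decide)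
  have ordWW : orderOf (φ WW) = 2 := by
    rw [ordY]
    exact orderOf_eq_prime (by decide) (by decide)
  have hone : ∀ {U : IrrCharacter G → ℤ} {x : G} (_ : ∀ χ : IrrCharacter G, (χ : G → ℂ) x = U χ),
      U (trivChar G) = 1 := by
    intro U x hU
    have := hU (trivChar G)
    simp only [coe_trivChar] at this
    exact_mod_cast this.symm
  have hE1T : φ E1 ∈ T := (S.mod.memT _).2 ⟨1, 0, rfl⟩
  have hFFT : φ FF ∈ T := (S.mod.memT _).2 ⟨1, 1, rfl⟩
  have hE1ne : φ E1 ≠ 1 := fun h => absurd (S.mod.inj (h.trans (map_one φ).symm)) (by decide)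
  have hFFne : φ FF ≠ 1 := fun h => absurd (S.mod.inj (h.trans (map_one φ).symm)) (by decide)
  have hcomm : ∀ {x y : G72}, x * y = y * x → Commute (φ x) (φ y) := by
    intro x y h
    show φ x * φ y = φ y * φ x
    rw [← map_mul, ← map_mul, h]
  have hcl : ∀ {U : IrrCharacter G → ℤ} {x₀ y₀ : G72} (_ : ∀ χ : IrrCharacter G, (χ : G → ℂ) (φ x₀) = U χ),
      x₀ = y₀ → ∀ χ : IrrCharacter G, (χ : G → ℂ) (φ y₀) = U χ := by
    rintro U x₀ y₀ hU rfl
    exact hU
  refine ⟨E, F, P, Q, D, X,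
    { hE := hE, hF := hF, hP := hP, hQ := hQ, hD := hD, hX := hX, Dpos := hDp,
      cols :=
      { EE := by rw [cc hE good_E1]; rfl
        FF := by rw [cc hF good_FF]; rfl
        PP := by rw [cc hP good_ER]; rfl
        QQ := by rw [cc hQ good_FS]; rfl
        EF := nc hE hF good_E1 good_FF (by decide)
        EP := nc hE hP good_E1 good_ER (by decide)
        EQ := nc hE hQ good_E1 good_FS (by decide)
        FP := nc hF hP good_FF good_ER (by decide)
        FQ := nc hF hQ good_FF good_FS (by decide)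
        PQ := nc hP hQ good_ER good_FS (by decide)
        DE := nd hE (by decide)
        DF := nd hF (by decide)
        Eo := hone hE
        Fo := hone hF
        Po := hone hP
        Qo := hone hQ
        Dne := fun χ => (hDp χ).ne'
        d1 := fun χ => ?_
        d2 := fun χ => ?_
        d3 := fun χ => ?_
        van := fun χ => ?_ },
      DP := nd hP (by decide)
      DQ := nd hQ (by decide)
      EX := ni hE (by decide)
      FX := ni hF (by decide)
      PX := ni hP (by decide)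
      QX := ni hQ (by decide)
      d4 := fun χ => S.d4_aux χ (hD χ) (hE χ) (hF χ)
      d5 := fun χ => ?_
      d6 := fun χ => ?_
      Xo := fun l => hone (hX l)
      Do := hone hD }⟩
  · refine avg3 (hchar χ) (x := φ E1) (y := φ E2) (hcomm (by decide)) ordE2 (hE χ) ?_ ?_
    · rw [← map_mul, ← hF χ]
      exact apply_model φ χ (by decide)
    · rw [← map_pow, ← map_mul, ← hF χ]
      exact apply_model φ χ (by decide)
  · refine avg2 (hchar χ) (x := φ E1) (y := φ R1) (hcomm (by decide)) ordR1 (hE χ) ?_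
    rw [← map_mul, ← hP χ]
    exact apply_model φ χ (by decide)
  · refine avg2 (hchar χ) (x := φ FF) (y := φ WW) (hcomm (by decide)) ordWW (hF χ) ?_
    rw [← map_mul, ← hQ χ]
    exact apply_model φ χ (by decide)
  · constructor
    · intro h
      have h1 : (χ : G → ℂ) (φ E1) = 0 := by rw [hE, h]; simp
      have h2 := S.van_aux hE1T hFFT hFFne ordFF χ h1
      rw [hF] at h2
      exact_mod_cast h2
    · intro h
      have h1 : (χ : G → ℂ) (φ FF) = 0 := by rw [hF, h]; simp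
      have h2 := S.van_aux hFFT hE1T hE1ne ordE1 χ h1
      rw [hE] at h2
      exact_mod_cast h2
  · have hr : rep 1 = R1 := by decide
    refine avg3 (hchar χ) (x := φ R1) (y := φ E1) (hcomm (by decide)) ordE1 ?_ ?_ ?_
    · rw [← hr]
      exact hX 1 χ
    · rw [← map_mul, ← hP χ]
      exact apply_model φ χ (by decide)
    · rw [← map_pow, ← map_mul, ← hP χ]
      exact apply_model φ χ (by decide)
  · have hr : rep 2 = WW := by decide
    refine avg3 (hchar χ) (x := φ WW) (y := φ FF) (hcomm (by decide)) ordFF ?_ ?_ ?_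
    · rw [← hr]
      exact hX 2 χ
    · rw [← map_mul, ← hQ χ]
      exact apply_model φ χ (by decide)
    · rw [← map_pow, ← map_mul, ← hQ χ]
      exact apply_model φ χ (by decide)

end ValuesFin

end Cfsg.Agent.Lib.Blocks.TID8
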