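import Mathlib
import Cfsg.Agent.Lib.Blocks.TID8Sit
import Cfsg.Agent.Lib.Blocks.TID8Alg
import Cfsg.Agent.Lib.Char.LinearChars
import Cfsg.Agent.Lib.Char.Codegree
import Cfsg.Agent.Lib.Char.Induced
import Cfsg.Agent.Lib.Char.Ortho

/-!
# The `3²:D₈` situation: class algebra constants
-/

set_option autoImplicit false
set_option maxRecDepth 100000

namespace Cfsg.Agent.Lib.Blocks.TID8

open DihedralGroup Cfsg
open scoped ComplexConjugate
open Cfsg.Agent.Lib.Blocks.Principal Cfsg.Agent.Lib.Blocks.Central Cfsg.Agent.Lib.Char.CompleteCor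

universe u

section Count

variable {G : Type u} [Group G] [Finite G] {T : Subgroup G} {φ : G72 →* G}

/-- The count of class multiplication constants in the model. -/
theorem Sit.count_eq (S : Sit T φ) (c : Fin 3 → Fin 3)
    (hfus : ∀ l l', IsConj (φ (rep l)) (φ (rep l')) ↔ c l = c l') {u₀ : G72} (hu : Good u₀) (l l' : Fin 3) :
    Nat.card {s : G // IsConj (φ (rep l)) s ∧ IsConj (s * φ u₀) (φ (rep l'))} =
      (Finset.univ.filter (fun x : G72 => x * x = 1 ∧ (x * u₀) * (x * u₀) = 1 ∧ c l = c (lab x) ∧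
        c (lab (x * u₀)) = c l')).card := by
  classical
  have hsq : ∀ {x y : G}, x * x = 1 → IsConj x y → y * y = 1 := by
    intro x y hx hxy
    obtain ⟨c, rfl⟩ := isConj_iff.1 hxy
    calc c * x * c⁻¹ * (c * x * c⁻¹) = c * (x * x) * c⁻¹ := by group
      _ = 1 := by rw [hx]; group
  have hrep : ∀ l, φ (rep l) * φ (rep l) = 1 := fun l => by
    rw [← map_mul, rep_sq, map_one]
  have hu2 : u₀ * u₀ ≠ 1 := by
    have := hu.2
    rwa [pow_two] at this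
  have hconj : ∀ x : G72, x * x = 1 → x ≠ 1 → IsConj (φ (rep (lab x))) (φ x) := by
    intro x h1 h2
    obtain ⟨d, hd⟩ := lab_conj x h1 h2
    refine isConj_iff.2 ⟨φ d, ?_⟩
    rw [← map_inv, ← map_mul, ← map_mul, hd]
  let B : {x : G72 // x * x = 1 ∧ (x * u₀) * (x * u₀) = 1 ∧ c l = c (lab x) ∧ c (lab (x * u₀)) = c l'} →
      {s : G // IsConj (φ (rep l)) s ∧ IsConj (s * φ u₀) (φ (rep l'))} := fun x => ⟨φ x.1, by
    obtain ⟨x, h1, h2, h3, h4⟩ := x
    have hx1 : x ≠ 1 := by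
      rintro rfl
      apply hu2
      simpa using h2
    have hx2 : x * u₀ ≠ 1 := by
      intro h
      apply hu2
      have h5 : u₀ = x⁻¹ := (inv_eq_of_mul_eq_one_right h).symm
      have h6 : x⁻¹ = x := inv_eq_of_mul_eq_one_left h1
      rw [h5, h6, h1]
    constructor
    · exact ((hfus _ _).2 h3).trans (hconj x h1 hx1)
    · rw [← map_mul]
      exact (hconj _ h2 hx2).symm.trans ((hfus _ _).2 h4)⟩
  have hB : Function.Bijective B := by
    constructor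
    · rintro ⟨x, hx⟩ ⟨y, hy⟩ h
      exact Subtype.ext (S.mod.inj (congrArg Subtype.val h))
    · rintro ⟨s, h1, h2⟩
      have hs : s * s = 1 := hsq (hrep l) h1
      have hsu : (s * φ u₀) * (s * φ u₀) = 1 := hsq (hrep l') h2.symm
      have hsi : s⁻¹ = s := inv_eq_of_mul_eq_one_left hs
      have h3 : s * φ u₀ * s⁻¹ = (φ u₀)⁻¹ := by
        rw [hsi]
        apply eq_inv_of_mul_eq_one_left
        simpa [mul_assoc] using hsu
      have h4 : s * (φ u₀) ^ 2 * s⁻¹ = ((φ u₀) ^ 2)⁻¹ := by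
        rw [← conj_pow, h3, inv_pow]
      obtain ⟨hT, hne⟩ := S.sq_mem hu
      have hs0 : s ∈ Subgroup.normalizer (T : Set G) :=
        S.ti hT hne (T.inv_mem hT) (inv_ne_one.2 hne) h4
      obtain ⟨x, rfl⟩ := S.mod.memN _ hs0
      have hx1 : x * x = 1 := S.mod.inj (by rw [map_mul, hs, map_one])
      have hx2 : (x * u₀) * (x * u₀) = 1 := S.mod.inj (by rw [map_mul, map_mul, hsu, map_one])
      have hxne : x ≠ 1 := by
        rintro rfl
        rw [map_one] at h1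
        have := isConj_one_left.1 h1
        exact rep_ne l (S.mod.inj (by rw [this, map_one]))
      have hxune : x * u₀ ≠ 1 := by
        intro h
        rw [← map_mul, h, map_one] at h2
        have := isConj_one_right.1 h2
        exact rep_ne l' (S.mod.inj (by rw [this, map_one]))
      refine ⟨⟨x, hx1, hx2, (hfus _ _).1 (h1.trans (hconj x hx1 hxne).symm), (hfus _ _).1 ?_⟩, rfl⟩
      rw [← map_mul] at h2
      exact (hconj _ hx2 hxune).trans h2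
  rw [← Nat.card_congr (Equiv.ofBijective B hB), Nat.card_eq_fintype_card, Fintype.card_subtype]

end Count

section Simple

variable {G : Type u} [Group G] [Finite G]

/-- A simple nonabelian group has no nontrivial linear character. -/
theorem degree_ne_one_of_simple' [IsSimpleGroup G] (hnc : ∃ u v : G, u * v ≠ v * u) {χ : IrrCharacter G}
    (hχ : χ ≠ trivChar G) {b : ℕ} (hb : (χ : G → ℂ) 1 = b) : b ≠ 1 := by
  intro hb1
  have hc1 := Cfsg.Agent.Lib.Char.Basic.isCharacter_of_isIrrCharacter χ.2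
  have h9 : (χ : G → ℂ) 1 = 1 := by rw [hb, hb1]; simp
  obtain ⟨φ, hφ⟩ := Cfsg.Agent.Lib.Char.LinearChars.exists_hom_of_isCharacter_one hc1 h9
  rcases (inferInstance : (φ.ker).Normal).eq_bot_or_eq_top with h10 | h10
  · obtain ⟨u, v, huv⟩ := hnc
    apply huv
    have h11 : Function.Injective φ := (MonoidHom.ker_eq_bot_iff φ).mp h10
    apply h11
    rw [map_mul, map_mul, mul_comm]
  · apply hχ
    apply Subtype.ext
    rw [hφ]
    funext g
    have h11 : g ∈ φ.ker := by rw [h10]; trivial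
    rw [MonoidHom.mem_ker.mp h11]
    simp

/-- In a simple group, a nontrivial irreducible character is faithful. -/
theorem eq_one_of_value_eq_degree' [IsSimpleGroup G] {χ : IrrCharacter G} (hχ : χ ≠ trivChar G) {g : G}
    (h : (χ : G → ℂ) g = (χ : G → ℂ) 1) : g = 1 := by
  classical
  haveI : Fintype G := Fintype.ofFinite G
  obtain ⟨χ', hχ'⟩ := χ
  obtain ⟨n, ρ, hρ, rfl⟩ := hχ'
  have h14 : g ∈ Cfsg.Agent.Lib.Char.Codegree.repKer ρ := by
    rw [← Cfsg.Agent.Lib.Char.Codegree.character_eq_one_iff]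
    exact h
  rcases (inferInstance : (Cfsg.Agent.Lib.Char.Codegree.repKer ρ).Normal).eq_bot_or_eq_top with h15 | h15
  · rwa [h15, Subgroup.mem_bot] at h14
  · exfalso
    apply hχ
    have hall : ∀ x : G, ρ.character x = ρ.character 1 := by
      intro x
      have h16 : x ∈ Cfsg.Agent.Lib.Char.Codegree.repKer ρ := by
        rw [h15]
        trivial
      rw [← Cfsg.Agent.Lib.Char.Codegree.character_eq_one_iff] at h16
      exact h16
    by_contra hne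
    have hne' : ρ.character ≠ (trivChar G : G → ℂ) := by
      intro h17
      apply hne
      exact Subtype.ext h17
    have h17 := Cfsg.Agent.Lib.Char.Ortho.classInner_irr_of_ne (⟨n, ρ, hρ, rfl⟩ : IsIrrCharacter G ρ.character) (trivChar G).2 hne'
    rw [Cfsg.Agent.Lib.Char.Induced.classInner_def] at h17
    have h18 : ∑ x : G, ρ.character x * conj ((trivChar G : G → ℂ) x) = (Nat.card G : ℂ) * ρ.character 1 := by
      rw [Finset.sum_congr rfl (fun x _ => by rw [hall x, coe_trivChar]; simp : ∀ x ∈ Finset.univ, ρ.character x * conj ((trivChar G : G → ℂ) x) = ρ.character 1)]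
      rw [Finset.sum_const, Finset.card_univ, nsmul_eq_mul, Nat.card_eq_fintype_card]
    rw [h18] at h17
    have hG : (Nat.card G : ℂ) ≠ 0 := by exact_mod_cast Nat.card_pos.ne'
    rw [← mul_assoc, inv_mul_cancel₀ hG, one_mul] at h17
    exact Cfsg.Agent.Lib.Char.Ortho.irr_apply_one_ne_zero (⟨n, ρ, hρ, rfl⟩ : IsIrrCharacter G ρ.character) h17

end Simple

section Table

/-- The count in the model. -/
def cm (c : Fin 3 → Fin 3) (l l' : Fin 3) (u₀ : G72) : ℕ :=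
  (Finset.univ.filter (fun x : G72 => x * x = 1 ∧ (x * u₀) * (x * u₀) = 1 ∧ c l = c (lab x) ∧
    c (lab (x * u₀)) = c l')).card

/-- No fusion. -/
def c0 : Fin 3 → Fin 3 := fun l => l
/-- `z ∼ r`. -/
def c1 : Fin 3 → Fin 3 := fun l => if l = 2 then 1 else 0
/-- `z ∼ w`. -/
def c2 : Fin 3 → Fin 3 := fun l => if l = 1 then 1 else 0

theorem table_c0 :
    (cm c0 1 1 E1 = 3 ∧ cm c0 1 1 FF = 0) ∧ (cm c0 2 2 E1 = 0 ∧ cm c0 2 2 FF = 3) ∧
    (cm c0 1 2 E1 = 0 ∧ cm c0 1 2 FF = 0) ∧ (cm c0 0 1 E1 = 0 ∧ cm c0 0 1 FF = 0) ∧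
    (cm c0 0 2 E1 = 0 ∧ cm c0 0 2 FF = 0) ∧ (cm c0 0 0 ER = 0 ∧ cm c0 0 0 FS = 0) := by
  decide

theorem table_c1 :
    (cm c1 0 0 E1 = 12 ∧ cm c1 0 0 FF = 9) ∧ (cm c1 2 2 E1 = 0 ∧ cm c1 2 2 FF = 3) ∧
    (cm c1 0 2 E1 = 0 ∧ cm c1 0 2 FF = 0) ∧ (cm c1 0 0 ER = 6 ∧ cm c1 0 0 FS = 0) ∧
    (cm c1 2 2 ER = 0 ∧ cm c1 2 2 FS = 0) ∧ (cm c1 0 2 ER = 0 ∧ cm c1 0 2 FS = 3) := by
  decide

theorem table_c2 :
    (cm c2 0 0 E1 = 9 ∧ cm c2 0 0 FF = 12) ∧ (cm c2 1 1 E1 = 3 ∧ cm c2 1 1 FF = 0) ∧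
    (cm c2 0 1 E1 = 0 ∧ cm c2 0 1 FF = 0) ∧ (cm c2 0 0 ER = 0 ∧ cm c2 0 0 FS = 6) ∧
    (cm c2 1 1 ER = 0 ∧ cm c2 1 1 FS = 0) ∧ (cm c2 0 1 ER = 3 ∧ cm c2 0 1 FS = 0) := by
  decide

end Table

section Sums

variable {G : Type u} [Group G] [Finite G] [Fintype (IrrCharacter G)] [DecidableEq (IrrCharacter G)] {φ : G72 →* G}
  {E F P Q D : IrrCharacter G → ℤ} {X : Fin 3 → IrrCharacter G → ℤ}

/-- The constant. -/
noncomputable def gg (φ : G72 →* G) (l l' : Fin 3) : ℚ :=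
  (Nat.card (Subgroup.centralizer ({φ (rep l)} : Set G)) : ℚ) *
    (Nat.card (Subgroup.centralizer ({φ (rep l')} : Set G)) : ℚ) / (Nat.card G : ℚ)

theorem Vals.sum_eq (V : Vals φ E F P Q D X) {u₀ : G72} {U : IrrCharacter G → ℤ}
    (hU : ∀ χ : IrrCharacter G, (χ : G → ℂ) (φ u₀) = U χ) (l l' : Fin 3) :
    ∑ χ, (U χ : ℚ) * ((X l χ : ℚ) * (X l' χ : ℚ) / (D χ : ℚ)) =
      gg φ l l' * (Nat.card {s : G // IsConj (φ (rep l)) s ∧ IsConj (s * φ u₀) (φ (rep l'))} : ℚ) := by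
  classical
  haveI := Fintype.ofFinite G
  have h := Cfsg.Agent.Lib.Blocks.TI9.cnt_general_char (φ (rep l)) (φ (rep l')) (φ u₀)
  have h1 : ∀ χ : IrrCharacter G, centralChar (χ : G → ℂ) (φ (rep l)) * (χ : G → ℂ) (φ u₀) * conj ((χ : G → ℂ) (φ (rep l'))) =
      ((Subgroup.centralizer ({φ (rep l)} : Set G)).index : ℂ) *
        (((U χ : ℚ) * ((X l χ : ℚ) * (X l' χ : ℚ) / (D χ : ℚ)) : ℚ) : ℂ) := by
    intro χ
    rw [centralChar, V.hX, V.hX, hU, V.hD, map_intCast]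
    push_cast
    ring
  simp only [h1] at h
  rw [← Finset.mul_sum] at h
  have h2 : ((Subgroup.centralizer ({φ (rep l)} : Set G)).index : ℚ) *
      ∑ χ, (U χ : ℚ) * ((X l χ : ℚ) * (X l' χ : ℚ) / (D χ : ℚ)) =
      (Nat.card (Subgroup.centralizer ({φ (rep l')} : Set G)) : ℚ) *
        (Nat.card {s : G // IsConj (φ (rep l)) s ∧ IsConj (s * φ u₀) (φ (rep l'))} : ℚ) := by
    exact_mod_cast h
  have h3 : (Nat.card (Subgroup.centralizer ({φ (rep l)} : Set G)) : ℚ) *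
      ((Subgroup.centralizer ({φ (rep l)} : Set G)).index : ℚ) = (Nat.card G : ℚ) := by
    exact_mod_cast Subgroup.card_mul_index (Subgroup.centralizer ({φ (rep l)} : Set G))
  have hG : (Nat.card G : ℚ) ≠ 0 := by exact_mod_cast Nat.card_pos.ne'
  generalize (∑ χ, (U χ : ℚ) * ((X l χ : ℚ) * (X l' χ : ℚ) / (D χ : ℚ))) = w at h2 ⊢
  rw [gg]
  field_simp
  rw [← h3]
  linear_combination (Nat.card (Subgroup.centralizer ({φ (rep l)} : Set G)) : ℚ) * h2

end Sums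

/-- Sums along the pattern. -/
theorem Pat.sum_W {ι : Type*} [Fintype ι] [DecidableEq ι] {o γ A B C C' : ι} {eγ eA eB eC eC' : ℤ}
    {E F P Q : ι → ℤ} (p : Pat o γ A B C C' eγ eA eB eC eC' E F P Q) (hEo : E o = 1) (hFo : F o = 1) (T' : ι → ℚ) :
    ∑ i, ((E i : ℚ) - F i) * T' i = 3 * ((eA : ℚ) * T' A + (eB : ℚ) * T' B - (eC : ℚ) * T' C - (eC' : ℚ) * T' C') := by
  rw [Cfsg.Agent.Lib.Blocks.TI9.sum_six _ p.n1 p.n2 p.n3 p.n4 p.n5 p.n6 p.n7 p.n8 p.n9 p.n10 p.n11 p.n12 p.n13 p.n14 p.n15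
    (fun k h1 h2 h3 h4 h5 h6 => by rw [(p.rest k h1 h2 h3 h4 h5 h6).1]; simp)]
  rw [hEo, hFo, p.Eγ, p.Fγ, p.EA, p.FA, p.EB, p.FB, p.EC, p.FC, p.EC', p.FC']
  push_cast
  ring

theorem Pat.sum_Y {ι : Type*} [Fintype ι] [DecidableEq ι] {o γ A B C C' : ι} {eγ eA eB eC eC' : ℤ}
    {E F P Q : ι → ℤ} (p : Pat o γ A B C C' eγ eA eB eC eC' E F P Q) (hPo : P o = 1) (hQo : Q o = 1) (T' : ι → ℚ) :
    ∑ i, ((P i : ℚ) + Q i) * T' i = 2 * T' o - 2 * ((eγ : ℚ) * T' γ) - (eA : ℚ) * T' A + (eB : ℚ) * T' B -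
      (eC : ℚ) * T' C + (eC' : ℚ) * T' C' := by
  rw [Cfsg.Agent.Lib.Blocks.TI9.sum_six _ p.n1 p.n2 p.n3 p.n4 p.n5 p.n6 p.n7 p.n8 p.n9 p.n10 p.n11 p.n12 p.n13 p.n14 p.n15
    (fun k h1 h2 h3 h4 h5 h6 => by rw [(p.rest k h1 h2 h3 h4 h5 h6).2]; simp)]
  rw [hPo, hQo, p.Pγ, p.Qγ, p.PA, p.QA, p.PB, p.QB, p.PC, p.QC, p.PC', p.QC']
  push_cast
  ring

theorem hat_id (e x y d : ℤ) (he : e = 1 ∨ e = -1) :
    (e : ℚ) * ((x : ℚ) * (y : ℚ) / (d : ℚ)) = ((e * x : ℤ) : ℚ) * ((e * y : ℤ) : ℚ) / ((e * d : ℤ) : ℚ) := by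
  rcases he with rfl | rfl
  · simp
  · push_cast
    ring

section Sums2

variable {G : Type u} [Group G] [Finite G] [Fintype (IrrCharacter G)] [DecidableEq (IrrCharacter G)] {φ : G72 →* G}
  {E F P Q D : IrrCharacter G → ℤ} {X : Fin 3 → IrrCharacter G → ℤ}
  {γ A B C C' : IrrCharacter G} {eγ eA eB eC eC' : ℤ}

/-- The count. -/
noncomputable abbrev nn (φ : G72 →* G) (u₀ : G72) (l l' : Fin 3) : ℚ :=
  (Nat.card {s : G // IsConj (φ (rep l)) s ∧ IsConj (s * φ u₀) (φ (rep l'))} : ℚ)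

theorem Vals.phi_eq (V : Vals φ E F P Q D X) (p : Pat (trivChar G) γ A B C C' eγ eA eB eC eC' E F P Q) (l l' : Fin 3) :
    ((eA * X l A : ℤ) : ℚ) * ((eA * X l' A : ℤ) : ℚ) / ((eA * D A : ℤ) : ℚ) +
      ((eB * X l B : ℤ) : ℚ) * ((eB * X l' B : ℤ) : ℚ) / ((eB * D B : ℤ) : ℚ) -
      ((eC * X l C : ℤ) : ℚ) * ((eC * X l' C : ℤ) : ℚ) / ((eC * D C : ℤ) : ℚ) -
      ((eC' * X l C' : ℤ) : ℚ) * ((eC' * X l' C' : ℤ) : ℚ) / ((eC' * D C' : ℤ) : ℚ) =
    gg φ l l' * (nn φ E1 l l' - nn φ FF l l') / 3 := by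
  have h1 := p.sum_W V.cols.Eo V.cols.Fo (fun χ => (X l χ : ℚ) * (X l' χ : ℚ) / (D χ : ℚ))
  have h2 : ∑ χ, ((E χ : ℚ) - F χ) * ((X l χ : ℚ) * (X l' χ : ℚ) / (D χ : ℚ)) =
      gg φ l l' * nn φ E1 l l' - gg φ l l' * nn φ FF l l' := by
    rw [← V.sum_eq V.hE, ← V.sum_eq V.hF, ← Finset.sum_sub_distrib]
    refine Finset.sum_congr rfl fun χ _ => ?_
    ring
  rw [h2] at h1
  simp only [hat_id _ _ _ _ p.sA, hat_id _ _ _ _ p.sB, hat_id _ _ _ _ p.sC, hat_id _ _ _ _ p.sC'] at h1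
  linarith

theorem Vals.b_eq (V : Vals φ E F P Q D X) (p : Pat (trivChar G) γ A B C C' eγ eA eB eC eC' E F P Q) (l l' : Fin 3) :
    2 - 2 * (((eγ * X l γ : ℤ) : ℚ) * ((eγ * X l' γ : ℤ) : ℚ)) / ((eγ * D γ : ℤ) : ℚ) -
      ((eA * X l A : ℤ) : ℚ) * ((eA * X l' A : ℤ) : ℚ) / ((eA * D A : ℤ) : ℚ) +
      ((eB * X l B : ℤ) : ℚ) * ((eB * X l' B : ℤ) : ℚ) / ((eB * D B : ℤ) : ℚ) -
      ((eC * X l C : ℤ) : ℚ) * ((eC * X l' C : ℤ) : ℚ) / ((eC * D C : ℤ) : ℚ) +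
      ((eC' * X l C' : ℤ) : ℚ) * ((eC' * X l' C' : ℤ) : ℚ) / ((eC' * D C' : ℤ) : ℚ) =
    gg φ l l' * (nn φ ER l l' + nn φ FS l l') := by
  have h1 := p.sum_Y V.cols.Po V.cols.Qo (fun χ => (X l χ : ℚ) * (X l' χ : ℚ) / (D χ : ℚ))
  have h2 : ∑ χ, ((P χ : ℚ) + Q χ) * ((X l χ : ℚ) * (X l' χ : ℚ) / (D χ : ℚ)) =
      gg φ l l' * nn φ ER l l' + gg φ l l' * nn φ FS l l' := by
    rw [← V.sum_eq V.hP, ← V.sum_eq V.hQ, ← Finset.sum_add_distrib]
    refine Finset.sum_congr rfl fun χ _ => ?_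
    ring
  rw [h2] at h1
  simp only [hat_id _ _ _ _ p.sγ, hat_id _ _ _ _ p.sA, hat_id _ _ _ _ p.sB, hat_id _ _ _ _ p.sC, hat_id _ _ _ _ p.sC',
    V.Xo, V.Do] at h1
  have h3 : 2 * ((1 : ℤ) : ℚ) * ((1 : ℤ) : ℚ) / ((1 : ℤ) : ℚ) = 2 := by norm_num
  have h4 : 2 * (((eγ * X l γ : ℤ) : ℚ) * ((eγ * X l' γ : ℤ) : ℚ)) / ((eγ * D γ : ℤ) : ℚ) =
    2 * (((eγ * X l γ : ℤ) : ℚ) * ((eγ * X l' γ : ℤ) : ℚ) / ((eγ * D γ : ℤ) : ℚ)) := by ring
  rw [h4]
  norm_num at h1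
  push_cast at h1 ⊢
  linarith

/-- Integer relations from orthogonality. -/
theorem Vals.rel_W (V : Vals φ E F P Q D X) (p : Pat (trivChar G) γ A B C C' eγ eA eB eC eC' E F P Q)
    {U : IrrCharacter G → ℤ} (h1 : ∑ χ, E χ * U χ = 0) (h2 : ∑ χ, F χ * U χ = 0) :
    eA * U A + eB * U B = eC * U C + eC' * U C' := by
  have h := p.sum_W V.cols.Eo V.cols.Fo (fun χ => (U χ : ℚ))
  have h3 : ∑ χ, ((E χ : ℚ) - F χ) * (U χ : ℚ) = 0 := by
    have h4 : ∑ χ, ((E χ : ℚ) - F χ) * (U χ : ℚ) = ((∑ χ, E χ * U χ - ∑ χ, F χ * U χ : ℤ) : ℚ) := by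
      push_cast
      rw [← Finset.sum_sub_distrib]
      refine Finset.sum_congr rfl fun χ _ => ?_
      ring
    rw [h4, h1, h2]
    simp
  rw [h3] at h
  have h5 : ((eA * U A + eB * U B : ℤ) : ℚ) = ((eC * U C + eC' * U C' : ℤ) : ℚ) := by
    push_cast
    linarith
  exact_mod_cast h5

theorem Vals.rel_Y (V : Vals φ E F P Q D X) (p : Pat (trivChar G) γ A B C C' eγ eA eB eC eC' E F P Q)
    {U : IrrCharacter G → ℤ} (hU : U (trivChar G) = 1) (h1 : ∑ χ, P χ * U χ = 0) (h2 : ∑ χ, Q χ * U χ = 0) :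
    2 - 2 * (eγ * U γ) - eA * U A + eB * U B - eC * U C + eC' * U C' = 0 := by
  have h := p.sum_Y V.cols.Po V.cols.Qo (fun χ => (U χ : ℚ))
  have h3 : ∑ χ, ((P χ : ℚ) + Q χ) * (U χ : ℚ) = 0 := by
    have h4 : ∑ χ, ((P χ : ℚ) + Q χ) * (U χ : ℚ) = ((∑ χ, P χ * U χ + ∑ χ, Q χ * U χ : ℤ) : ℚ) := by
      push_cast
      rw [← Finset.sum_add_distrib]
      refine Finset.sum_congr rfl fun χ _ => ?_
      ring
    rw [h4, h1, h2]
    simp
  rw [h3] at h
  simp only [hU] at h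
  have h5 : ((2 - 2 * (eγ * U γ) - eA * U A + eB * U B - eC * U C + eC' * U C' : ℤ) : ℚ) = 0 := by
    push_cast
    push_cast at h
    linarith
  exact_mod_cast h5

end Sums2

section Final

theorem c_cong {e d : ℤ} (he : e = 1 ∨ e = -1) (h : (9 : ℤ) ∣ d + 4 * e + 4 * e) : (9 : ℤ) ∣ e * d - 1 := by
  rcases he with rfl | rfl <;> omega

theorem dA_cong {e d : ℤ} (he : e = 1 ∨ e = -1) (h : (9 : ℤ) ∣ d + 4 * e + 4 * (-2 * e)) : (3 : ℤ) ∣ e * d - 1 := by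
  rcases he with rfl | rfl <;> omega

theorem dC_cong {e d : ℤ} (he : e = 1 ∨ e = -1) (h : (9 : ℤ) ∣ d + 4 * (-2 * e) + 4 * e) : (3 : ℤ) ∣ e * d - 1 := by
  rcases he with rfl | rfl <;> omega

theorem x_neg {e x : ℤ} (he : e = 1 ∨ e = -1) (h : (3 : ℤ) ∣ x + 2 * -e) : (3 : ℤ) ∣ e * x + 1 := by
  rcases he with rfl | rfl <;> omega

theorem x_pos {e x : ℤ} (he : e = 1 ∨ e = -1) (h : (3 : ℤ) ∣ x + 2 * e) : (3 : ℤ) ∣ e * x - 1 := by
  rcases he with rfl | rfl <;> omega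

theorem x_zero {e x : ℤ} (h : (3 : ℤ) ∣ x + 2 * 0) : (3 : ℤ) ∣ e * x := by
  have : (3 : ℤ) ∣ x := by simpa using h
  exact dvd_mul_of_dvd_right this e

theorem fus_of {G : Type u} [Group G] (φ : G72 →* G) (c : Fin 3 → Fin 3)
    (h01 : IsConj (φ (rep 0)) (φ (rep 1)) ↔ c 0 = c 1) (h02 : IsConj (φ (rep 0)) (φ (rep 2)) ↔ c 0 = c 2)
    (h12 : IsConj (φ (rep 1)) (φ (rep 2)) ↔ c 1 = c 2) (l l' : Fin 3) :
    IsConj (φ (rep l)) (φ (rep l')) ↔ c l = c l' := by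
  have h3 : ∀ l : Fin 3, l = 0 ∨ l = 1 ∨ l = 2 := by decide
  rcases h3 l with rfl | rfl | rfl <;> rcases h3 l' with rfl | rfl | rfl
  · exact ⟨fun _ => rfl, fun _ => IsConj.refl _⟩
  · exact h01
  · exact h02
  · rw [isConj_comm, h01, eq_comm]
  · exact ⟨fun _ => rfl, fun _ => IsConj.refl _⟩
  · exact h12
  · rw [isConj_comm, h02, eq_comm]
  · rw [isConj_comm, h12, eq_comm]
  · exact ⟨fun _ => rfl, fun _ => IsConj.refl _⟩

variable {G : Type u} [Group G] [Finite G] {T : Subgroup G} {φ : G72 →* G}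

theorem Sit.nn_eq (S : Sit T φ) {c : Fin 3 → Fin 3} (hfus : ∀ l l', IsConj (φ (rep l)) (φ (rep l')) ↔ c l = c l')
    {u₀ : G72} (hu : Good u₀) {l l' : Fin 3} {k : ℕ} (hk : cm c l l' u₀ = k) : nn φ u₀ l l' = (k : ℚ) := by
  rw [nn, S.count_eq c hfus hu l l']
  exact_mod_cast hk

theorem col_eq [Fintype (IrrCharacter G)] [DecidableEq (IrrCharacter G)] {E F P Q D : IrrCharacter G → ℤ}
    {X : Fin 3 → IrrCharacter G → ℤ} (V : Vals φ E F P Q D X) {l l' : Fin 3}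
    (h : IsConj (φ (rep l)) (φ (rep l'))) (χ : IrrCharacter G) : X l χ = X l' χ := by
  obtain ⟨c, hc⟩ := isConj_iff.1 h
  have h1 : (χ : G → ℂ) (φ (rep l')) = (χ : G → ℂ) (φ (rep l)) := by
    rw [← hc]
    exact isIrr_classFunction χ.2 _ _
  rw [V.hX, V.hX] at h1
  exact_mod_cast h1.symm

/-- **The end of the proof.** -/
theorem Sit.not_simple (S : Sit T φ) : ¬ IsSimpleGroup G := by
  intro hsimple
  classical
  haveI := Fintype.ofFinite G
  haveI := Fintype.ofFinite (IrrCharacter G)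
  obtain ⟨E, F, P, Q, D, X, V⟩ := S.exists_vals
  obtain ⟨γ, A, B, C, C', eγ, eA, eB, eC, eC', p⟩ := exists_pat V.cols
  have hnc : ∃ u v : G, u * v ≠ v * u := by
    refine ⟨φ R1, φ E2, ?_⟩
    intro h
    rw [← map_mul, ← map_mul] at h
    exact absurd (S.mod.inj h) (by decide)
  -- degrees
  have D1 := V.rel_W p (U := D) (by simpa [mul_comm] using V.cols.DE) (by simpa [mul_comm] using V.cols.DF)
  have D2 := V.rel_Y p (U := D) V.Do (by simpa [mul_comm] using V.DP) (by simpa [mul_comm] using V.DQ)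
  have hc : (9 : ℤ) ∣ eγ * D γ - 1 := c_cong p.sγ (by
    have := V.d4 γ
    rwa [p.Eγ, p.Fγ] at this)
  have hdA : (3 : ℤ) ∣ eA * D A - 1 := dA_cong p.sA (by
    have := V.d4 A
    rwa [p.EA, p.FA] at this)
  have hdB : (3 : ℤ) ∣ eB * D B - 1 := dA_cong p.sB (by
    have := V.d4 B
    rwa [p.EB, p.FB] at this)
  have hdC : (3 : ℤ) ∣ eC * D C - 1 := dC_cong p.sC (by
    have := V.d4 C
    rwa [p.EC, p.FC] at this)
  have hdE : (3 : ℤ) ∣ eC' * D C' - 1 := dC_cong p.sC' (by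
    have := V.d4 C'
    rwa [p.EC', p.FC'] at this)
  -- the columns of involutions
  have XW : ∀ l, eA * X l A + eB * X l B = eC * X l C + eC' * X l C' := fun l =>
    V.rel_W p (V.EX l) (V.FX l)
  have XY : ∀ l, 2 - 2 * (eγ * X l γ) - eA * X l A + eB * X l B - eC * X l C + eC' * X l C' = 0 := fun l =>
    V.rel_Y p (V.Xo l) (V.PX l) (V.QX l)
  -- `r₁` and `w` are not conjugate
  have h12 : ¬ IsConj (φ (rep 1)) (φ (rep 2)) := by
    intro h
    have h1 := col_eq V h A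
    have h2 := V.d5 A
    have h3 := V.d6 A
    rw [p.PA] at h2
    rw [p.QA, ← h1] at h3
    rcases p.sA with h4 | h4 <;> rw [h4] at h2 <;> omega
  -- the end: the degree of `γ`
  have hend : eγ * D γ = 1 → False := by
    intro h
    have hpos := V.Dpos γ
    have hD1 : D γ = 1 := by
      rcases p.sγ with h1 | h1 <;> rw [h1] at h <;> omega
    obtain ⟨n, hn⟩ : ∃ n : ℕ, D γ = n := ⟨(D γ).toNat, by omega⟩
    have hb : (γ : G → ℂ) 1 = (n : ℕ) := by
      rw [V.hD, hn]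
      simp
    have hn1 : n = 1 := by omega
    exact degree_ne_one_of_simple' hnc p.n1.symm hb hn1
  have hendQ : ((eγ * D γ : ℤ) : ℚ) = 1 → False := fun h => hend (by exact_mod_cast h)
  have hcnz : ∀ l : Fin 3, (Nat.card (Subgroup.centralizer ({φ (rep l)} : Set G)) : ℚ) ≠ 0 := fun l => by
    exact_mod_cast Nat.card_pos.ne'
  have hG : (Nat.card G : ℚ) ≠ 0 := by exact_mod_cast Nat.card_pos.ne'
  have hgg : ∀ l l', gg φ l l' ≠ 0 := fun l l' => by
    rw [gg]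
    exact div_ne_zero (mul_ne_zero (hcnz l) (hcnz l')) hG
  by_cases h01 : IsConj (φ (rep 0)) (φ (rep 1))
  · have h02 : ¬ IsConj (φ (rep 0)) (φ (rep 2)) := fun h => h12 (h01.symm.trans h)
    have hfus := fus_of φ c1 (iff_of_true h01 (by decide)) (iff_of_false h02 (by decide)) (iff_of_false h12 (by decide))
    obtain ⟨⟨t1, t2⟩, ⟨t3, t4⟩, ⟨t5, t6⟩, ⟨t7, t8⟩, ⟨t9, t10⟩, ⟨t11, t12⟩⟩ := table_c1
    have n1 : nn φ E1 0 0 = 12 := by rw [S.nn_eq hfus good_E1 t1]; norm_num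
    have n2 : nn φ FF 0 0 = 9 := by rw [S.nn_eq hfus good_FF t2]; norm_num
    have n3 : nn φ E1 2 2 = 0 := by rw [S.nn_eq hfus good_E1 t3]; norm_num
    have n4 : nn φ FF 2 2 = 3 := by rw [S.nn_eq hfus good_FF t4]; norm_num
    have n5 : nn φ E1 0 2 = 0 := by rw [S.nn_eq hfus good_E1 t5]; norm_num
    have n6 : nn φ FF 0 2 = 0 := by rw [S.nn_eq hfus good_FF t6]; norm_num
    have n7 : nn φ ER 0 0 = 6 := by rw [S.nn_eq hfus good_ER t7]; norm_num
    have n8 : nn φ FS 0 0 = 0 := by rw [S.nn_eq hfus good_FS t8]; norm_num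
    have n9 : nn φ ER 2 2 = 0 := by rw [S.nn_eq hfus good_ER t9]; norm_num
    have n10 : nn φ FS 2 2 = 0 := by rw [S.nn_eq hfus good_FS t10]; norm_num
    have n11 : nn φ ER 0 2 = 0 := by rw [S.nn_eq hfus good_ER t11]; norm_num
    have n12 : nn φ FS 0 2 = 3 := by rw [S.nn_eq hfus good_FS t12]; norm_num
    have e1 := V.phi_eq p 0 0
    have e2 := V.phi_eq p 2 2
    have e3 := V.phi_eq p 0 2
    have e4 := V.b_eq p 0 0
    have e5 := V.b_eq p 2 2
    have e6 := V.b_eq p 0 2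
    rw [n1, n2] at e1
    rw [n3, n4] at e2
    rw [n5, n6] at e3
    rw [n7, n8] at e4
    rw [n9, n10] at e5
    rw [n11, n12] at e6
    obtain ⟨ν, hν⟩ : ∃ ν : ℚ, ν = (Nat.card (Subgroup.centralizer ({φ (rep 2)} : Set G)) : ℚ) /
      (Nat.card (Subgroup.centralizer ({φ (rep 0)} : Set G)) : ℚ) := ⟨_, rfl⟩
    have hν0 : ν ≠ 0 := by
      rw [hν]
      exact div_ne_zero (hcnz 2) (hcnz 0)
    have hνg1 : ν * gg φ 0 0 = gg φ 0 2 := by
      rw [hν, gg, gg]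
      have := hcnz 0
      field_simp
    have hνg2 : ν ^ 2 * gg φ 0 0 = gg φ 2 2 := by
      rw [hν, gg, gg]
      have := hcnz 0
      field_simp
    have hxA : (3 : ℤ) ∣ eA * X 0 A + 1 := by
      have := V.d5 A
      rw [p.PA, ← col_eq V h01 A] at this
      exact x_neg p.sA this
    have hxB : (3 : ℤ) ∣ eB * X 0 B - 1 := by
      have := V.d5 B
      rw [p.PB, ← col_eq V h01 B] at this
      exact x_pos p.sB this
    have hxC : (3 : ℤ) ∣ eC * X 0 C := by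
      have := V.d5 C
      rw [p.PC, ← col_eq V h01 C] at this
      exact x_zero this
    have hxE : (3 : ℤ) ∣ eC' * X 0 C' := by
      have := V.d5 C'
      rw [p.PC', ← col_eq V h01 C'] at this
      exact x_zero this
    refine hend (fused_core (g := gg φ 0 0) (ν := ν) hc hdA hdB hdC hdE hxA hxB hxC hxE D1 D2 (XW 0) (XY 0) (XW 2) (XY 2)
      (hgg 0 0) hν0 ?_ ?_ ?_ ?_ ?_ ?_)
    · rw [e1]
      ring
    · rw [e2, hνg2]
      ring
    · rw [e3]
      ring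
    · rw [e4]
      ring
    · rw [e5]
      ring
    · rw [e6, ← hνg1]
      ring
  · by_cases h02 : IsConj (φ (rep 0)) (φ (rep 2))
    · have hfus := fus_of φ c2 (iff_of_false h01 (by decide)) (iff_of_true h02 (by decide)) (iff_of_false h12 (by decide))
      obtain ⟨⟨t1, t2⟩, ⟨t3, t4⟩, ⟨t5, t6⟩, ⟨t7, t8⟩, ⟨t9, t10⟩, ⟨t11, t12⟩⟩ := table_c2
      have n1 : nn φ E1 0 0 = 9 := by rw [S.nn_eq hfus good_E1 t1]; norm_num
      have n2 : nn φ FF 0 0 = 12 := by rw [S.nn_eq hfus good_FF t2]; norm_num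
      have n3 : nn φ E1 1 1 = 3 := by rw [S.nn_eq hfus good_E1 t3]; norm_num
      have n4 : nn φ FF 1 1 = 0 := by rw [S.nn_eq hfus good_FF t4]; norm_num
      have n5 : nn φ E1 0 1 = 0 := by rw [S.nn_eq hfus good_E1 t5]; norm_num
      have n6 : nn φ FF 0 1 = 0 := by rw [S.nn_eq hfus good_FF t6]; norm_num
      have n7 : nn φ ER 0 0 = 0 := by rw [S.nn_eq hfus good_ER t7]; norm_num
      have n8 : nn φ FS 0 0 = 6 := by rw [S.nn_eq hfus good_FS t8]; norm_num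
      have n9 : nn φ ER 1 1 = 0 := by rw [S.nn_eq hfus good_ER t9]; norm_num
      have n10 : nn φ FS 1 1 = 0 := by rw [S.nn_eq hfus good_FS t10]; norm_num
      have n11 : nn φ ER 0 1 = 3 := by rw [S.nn_eq hfus good_ER t11]; norm_num
      have n12 : nn φ FS 0 1 = 0 := by rw [S.nn_eq hfus good_FS t12]; norm_num
      have e1 := V.phi_eq p 0 0
      have e2 := V.phi_eq p 1 1
      have e3 := V.phi_eq p 0 1
      have e4 := V.b_eq p 0 0
      have e5 := V.b_eq p 1 1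
      have e6 := V.b_eq p 0 1
      rw [n1, n2] at e1
      rw [n3, n4] at e2
      rw [n5, n6] at e3
      rw [n7, n8] at e4
      rw [n9, n10] at e5
      rw [n11, n12] at e6
      obtain ⟨ν, hν⟩ : ∃ ν : ℚ, ν = (Nat.card (Subgroup.centralizer ({φ (rep 1)} : Set G)) : ℚ) /
        (Nat.card (Subgroup.centralizer ({φ (rep 0)} : Set G)) : ℚ) := ⟨_, rfl⟩
      have hν0 : ν ≠ 0 := by
        rw [hν]
        exact div_ne_zero (hcnz 1) (hcnz 0)
      have hνg1 : ν * gg φ 0 0 = gg φ 0 1 := by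
        rw [hν, gg, gg]
        have := hcnz 0
        field_simp
      have hνg2 : ν ^ 2 * gg φ 0 0 = gg φ 1 1 := by
        rw [hν, gg, gg]
        have := hcnz 0
        field_simp
      have hxA : (3 : ℤ) ∣ eC * X 0 C + 1 := by
        have := V.d6 C
        rw [p.QC, ← col_eq V h02 C] at this
        exact x_neg p.sC this
      have hxB : (3 : ℤ) ∣ eC' * X 0 C' - 1 := by
        have := V.d6 C'
        rw [p.QC', ← col_eq V h02 C'] at this
        exact x_pos p.sC' this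
      have hxC : (3 : ℤ) ∣ eA * X 0 A := by
        have := V.d6 A
        rw [p.QA, ← col_eq V h02 A] at this
        exact x_zero this
      have hxE : (3 : ℤ) ∣ eB * X 0 B := by
        have := V.d6 B
        rw [p.QB, ← col_eq V h02 B] at this
        exact x_zero this
      refine hend (fused_core (xγ := eγ * X 0 γ) (yγ := eγ * X 1 γ) (g := gg φ 0 0) (ν := ν) hc hdC hdE hdA hdB hxA hxB hxC hxE D1.symm (by linarith)
        (XW 0).symm (by linarith [XY 0]) (XW 1).symm (by linarith [XY 1]) (hgg 0 0) hν0 ?_ ?_ ?_ ?_ ?_ ?_)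
      · linarith
      · rw [← sub_eq_zero]
        rw [hνg2]
        linarith
      · linarith
      · linarith
      · linarith
      · have h7 : 3 * ν * gg φ 0 0 = 3 * gg φ 0 1 := by
          rw [← hνg1]
          ring
        rw [h7]
        linarith
    · have hfus := fus_of φ c0 (iff_of_false h01 (by decide)) (iff_of_false h02 (by decide)) (iff_of_false h12 (by decide))
      obtain ⟨⟨t1, t2⟩, ⟨t3, t4⟩, ⟨t5, t6⟩, ⟨t7, t8⟩, ⟨t9, t10⟩, ⟨t11, t12⟩⟩ := table_c0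
      have n1 : nn φ E1 1 1 = 3 := by rw [S.nn_eq hfus good_E1 t1]; norm_num
      have n2 : nn φ FF 1 1 = 0 := by rw [S.nn_eq hfus good_FF t2]; norm_num
      have n3 : nn φ E1 2 2 = 0 := by rw [S.nn_eq hfus good_E1 t3]; norm_num
      have n4 : nn φ FF 2 2 = 3 := by rw [S.nn_eq hfus good_FF t4]; norm_num
      have n5 : nn φ E1 1 2 = 0 := by rw [S.nn_eq hfus good_E1 t5]; norm_num
      have n6 : nn φ FF 1 2 = 0 := by rw [S.nn_eq hfus good_FF t6]; norm_num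
      have n7 : nn φ E1 0 1 = 0 := by rw [S.nn_eq hfus good_E1 t7]; norm_num
      have n8 : nn φ FF 0 1 = 0 := by rw [S.nn_eq hfus good_FF t8]; norm_num
      have n9 : nn φ E1 0 2 = 0 := by rw [S.nn_eq hfus good_E1 t9]; norm_num
      have n10 : nn φ FF 0 2 = 0 := by rw [S.nn_eq hfus good_FF t10]; norm_num
      have n11 : nn φ ER 0 0 = 0 := by rw [S.nn_eq hfus good_ER t11]; norm_num
      have n12 : nn φ FS 0 0 = 0 := by rw [S.nn_eq hfus good_FS t12]; norm_num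
      have e1 := V.phi_eq p 1 1
      have e2 := V.phi_eq p 2 2
      have e3 := V.phi_eq p 1 2
      have e4 := V.phi_eq p 0 1
      have e5 := V.phi_eq p 0 2
      have e6 := V.b_eq p 0 0
      rw [n1, n2] at e1
      rw [n3, n4] at e2
      rw [n5, n6] at e3
      rw [n7, n8] at e4
      rw [n9, n10] at e5
      rw [n11, n12] at e6
      have hne : ∀ d : ℤ, (3 : ℤ) ∣ d - 1 → (d : ℚ) ≠ 0 := by
        intro d hd h
        have h' : d = 0 := by exact_mod_cast h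
        rw [h'] at hd
        omega
      have hsum : ((eA * D A : ℤ) : ℚ) + ((eB * D B : ℤ) : ℚ) ≠ 0 := by
        have h1 : eA * D A + eB * D B ≠ 0 := by
          intro h
          have := dvd_add hdA hdB
          omega
        exact_mod_cast h1
      have hcore := nofus_core (c := ((eγ * D γ : ℤ) : ℚ)) (dA := ((eA * D A : ℤ) : ℚ)) (dB := ((eB * D B : ℤ) : ℚ))
        (dC := ((eC * D C : ℤ) : ℚ)) (dE := ((eC' * D C' : ℤ) : ℚ))
        (tA := ((eA * X 1 A : ℤ) : ℚ)) (tB := ((eB * X 1 B : ℤ) : ℚ)) (tC := ((eC * X 1 C : ℤ) : ℚ)) (tE := ((eC' * X 1 C' : ℤ) : ℚ))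
        (sA := ((eA * X 2 A : ℤ) : ℚ)) (sB := ((eB * X 2 B : ℤ) : ℚ)) (sC := ((eC * X 2 C : ℤ) : ℚ)) (sE := ((eC' * X 2 C' : ℤ) : ℚ))
        (zγ := ((eγ * X 0 γ : ℤ) : ℚ)) (zA := ((eA * X 0 A : ℤ) : ℚ)) (zB := ((eB * X 0 B : ℤ) : ℚ))
        (zC := ((eC * X 0 C : ℤ) : ℚ)) (zE := ((eC' * X 0 C' : ℤ) : ℚ))
        (g := gg φ 1 1) (h := -gg φ 2 2) (hne _ (Dvd.dvd.trans (by norm_num : (3 : ℤ) ∣ 9) hc)) (hne _ hdA) (hne _ hdB)
        (hne _ hdC) (hne _ hdE) hsum (by exact_mod_cast D1) (by exact_mod_cast D2)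
        (by exact_mod_cast XW 1) (by exact_mod_cast XW 2) (by exact_mod_cast XW 0) (by exact_mod_cast XY 0)
        (hgg 1 1) (neg_ne_zero.2 (hgg 2 2)) (by rw [e1]; ring) (by rw [e2]; ring) (by rw [e3]; ring) (by rw [e4]; ring)
        (by rw [e5]; ring) (by rw [e6]; ring)
      rcases hcore with h | h
      · exact hendQ h
      · have h1 : eA * X 0 A = eA * D A := by exact_mod_cast h
        have h2 : X 0 A = D A := by
          rcases p.sA with h3 | h3 <;> rw [h3] at h1 <;> omega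
        have h3 : (A : G → ℂ) (φ (rep 0)) = (A : G → ℂ) 1 := by
          rw [V.hX, V.hD, h2]
        have h4 := eq_one_of_value_eq_degree' p.n2.symm h3
        exact rep_ne 0 (S.mod.inj (by rw [h4, map_one]))

end Final

end Cfsg.Agent.Lib.Blocks.TID8
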