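import Mathlib
import Cfsg.Agent.Lib.Blocks.TID8Cnt
import Cfsg.Agent.Lib.Blocks.TID8Six
import Cfsg.Agent.Lib.Blocks.TI9Fin
import Cfsg.Agent.S3805
import Cfsg.Agent.S3341
import Cfsg.Agent.S0058

/-!
# The `3²:D₈` situation: the normal subgroups
-/

set_option autoImplicit false
set_option maxRecDepth 100000

namespace Cfsg.Agent.Lib.Blocks.TID8

open DihedralGroup Cfsg
open Cfsg.Agent.Lib.Transfer.AbTwo Cfsg.Agent.Lib.Blocks.AbFrob
open Cfsg.Agent.Lib.Blocks.TI9 (not_cyclic_of_exp)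

universe u

/-- The rotations. -/
abbrev rot (i j : ZMod 3) : G72 := ⟨r i, r j, false⟩

/-- Reflections. -/
def isRefl : DihedralGroup 3 → Bool
  | r _ => false
  | sr _ => true

/-- The parity of the number of reflections. -/
def rho (x : G72) : Bool := xor (isRefl x.a) (isRefl x.b)

/-- The elements of `M ∪ Mz`. -/
abbrev pMZ (x : G72) : Prop := rho x = false ∧ x.s = false

/-- The cyclic subgroup of order four modulo `M`. -/
abbrev pZ4 (x : G72) : Prop := rho x = x.s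

/-- The generator of the cyclic subgroup. -/
abbrev UU : G72 := R1 * WW

variable {G : Type u} [Group G] [Finite G] {T : Subgroup G} {φ : G72 →* G}

theorem Sit.rot_mem (S : Sit T φ) (i j : ZMod 3) : φ (rot i j) ∈ T := (S.mod.memT _).2 ⟨i, j, rfl⟩

/-- A subgroup normalized by `T` of order prime to three is trivial. -/
theorem Sit.core_trivial' (S : Sit T φ) (O : Subgroup G) (hO : T ≤ Subgroup.normalizer (O : Set G))
    (hc : (Nat.card O).Coprime 3) : O = ⊥ := by
  haveI : IsMulCommutative T := ⟨⟨fun a b => Subtype.ext (S.hcomm _ a.2 _ b.2)⟩⟩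
  have hcard := S.hcard
  have hcop : (Nat.card T).Coprime (Nat.card O) := by
    rw [hcard, show 9 = 3 ^ 2 by norm_num]
    exact (Nat.Coprime.pow_left 2 hc.symm)
  have hOT : ∀ x, x ∈ O → x ∈ T → x = 1 := by
    intro x h1 h2
    exact Subgroup.disjoint_def.1 (Subgroup.disjoint_of_coprime_natCard hcop.symm) h1 h2
  have h := Cfsg.Agent.S0058.result T O (not_cyclic_of_exp T S.h3 hcard) hO hcop
  rw [← h, eq_bot_iff]
  refine iSup₂_le fun a ha => ?_
  intro n hn
  obtain ⟨haT, ha1⟩ := ha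
  obtain ⟨hnO, hnC⟩ := hn
  have hnN := S.hloc a haT ha1 hnC
  have hnT : n ∈ T := by
    rw [← S.hC, Subgroup.mem_centralizer_iff]
    intro t ht
    have h1 : n * t * n⁻¹ ∈ T := (Subgroup.mem_normalizer_iff.1 hnN t).1 ht
    have h2 : n * t * n⁻¹ * t⁻¹ ∈ T := T.mul_mem h1 (T.inv_mem ht)
    have h3 : n * t * n⁻¹ * t⁻¹ ∈ O := by
      have h4 : t * n⁻¹ * t⁻¹ ∈ O := (Subgroup.mem_normalizer_iff.1 (hO ht) _).1 (O.inv_mem hnO)
      have h5 := O.mul_mem hnO h4
      simpa [mul_assoc] using h5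
    have h4 := hOT _ h3 h2
    have h5 : n * t * n⁻¹ = t := mul_inv_eq_one.1 h4
    calc t * n = n * t * n⁻¹ * n := by rw [h5]
      _ = n * t := by group
  rw [Subgroup.mem_bot]
  exact hOT n hnO hnT

/-- An element of order three of `H ≥ T` is `H`-conjugate into `T`. -/
theorem exists_conj_mem (P₀ : Sylow 3 G) {H : Subgroup G} (hTH : (P₀ : Subgroup G) ≤ H) {x : G} (hxH : x ∈ H)
    (hx : x ^ 3 = 1) : ∃ h ∈ H, h * x * h⁻¹ ∈ (P₀ : Subgroup G) := by
  haveI : Fact (Nat.Prime 3) := ⟨by norm_num⟩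
  set P : Sylow 3 H := P₀.subtype hTH with hP
  have hPc : (P : Subgroup H) = (P₀ : Subgroup G).subgroupOf H := Sylow.coe_subtype P₀ hTH
  obtain ⟨x', hx'⟩ : ∃ x' : H, x' = ⟨x, hxH⟩ := ⟨_, rfl⟩
  have hx3 : x' ^ 3 = 1 := by
    rw [hx']
    exact Subtype.ext hx
  have hp : IsPGroup 3 (Subgroup.zpowers x') := by
    rintro ⟨g, n, rfl⟩
    refine ⟨1, Subtype.ext ?_⟩
    show ((x' ^ n) ^ 3 ^ 1 : H) = 1
    rw [pow_one, ← zpow_natCast, ← zpow_mul, mul_comm, zpow_mul, zpow_natCast, hx3, one_zpow]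
  obtain ⟨Q, hQ⟩ := hp.exists_le_sylow
  obtain ⟨h, hh⟩ := MulAction.exists_smul_eq H Q P
  have h1 : x' ∈ (Q : Subgroup H) := hQ (Subgroup.mem_zpowers x')
  have h2 : h * x' * h⁻¹ ∈ (P : Subgroup H) := by
    rw [← hh, Sylow.coe_subgroup_smul]
    exact Subgroup.smul_mem_pointwise_smul _ _ _ h1
  rw [hPc, Subgroup.mem_subgroupOf] at h2
  refine ⟨h, h.2, ?_⟩
  rw [hx'] at h2
  exact h2

/-- **Frattini.** -/
theorem Sit.frattini (S : Sit T φ) (P₀ : Sylow 3 G) (hP₀ : (P₀ : Subgroup G) = T) {L₂ : Subgroup G} (hT : T ≤ L₂)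
    {h : G} (hh : ∀ l ∈ L₂, h * l * h⁻¹ ∈ L₂) : ∃ l ∈ L₂, ∃ x₀ : G72, h = l * φ x₀ := by
  have hE : φ E1 ∈ T := S.rot_mem 1 0
  have hE1 : φ E1 ≠ 1 := by
    intro h
    have : E1 = 1 := S.mod.inj (by rw [h, map_one])
    exact absurd this (by decide)
  have h3 : (h * φ E1 * h⁻¹) ^ 3 = 1 := by
    rw [conj_pow, S.h3 _ hE]
    group
  obtain ⟨l, hl, hlm⟩ := exists_conj_mem P₀ (hP₀.le.trans hT) (hh _ (hT hE)) h3
  rw [hP₀] at hlm
  have hne : l * (h * φ E1 * h⁻¹) * l⁻¹ ≠ 1 := by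
    intro h1
    apply hE1
    have h2 : φ E1 = (l * h)⁻¹ * (l * (h * φ E1 * h⁻¹) * l⁻¹) * (l * h) := by group
    rw [h2, h1]
    group
  have hN : l * h ∈ Subgroup.normalizer (T : Set G) := S.ti hE hE1 hlm hne (by group)
  obtain ⟨x₀, hx₀⟩ := S.mod.memN _ hN
  refine ⟨l⁻¹, L₂.inv_mem hl, x₀, ?_⟩
  rw [hx₀]
  group

/-- Generation of the rotations. -/
theorem rot_gen : ∀ i j : ZMod 3, rot i j ≠ 1 → ∃ a b c d : Fin 3,
    E1 = (rot i j) ^ (a : ℕ) * (UU * rot i j * UU⁻¹) ^ (b : ℕ) ∧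
    E2 = (rot i j) ^ (c : ℕ) * (UU * rot i j * UU⁻¹) ^ (d : ℕ) := by
  decide

theorem rot_eq : ∀ i j : ZMod 3, rot i j = E1 ^ i.val * E2 ^ j.val := by
  decide

/-- A subgroup invariant under `H ≥ T, U` of order divisible by three contains `T`. -/
theorem Sit.le_of_three_dvd (S : Sit T φ) (P₀ : Sylow 3 G) (hP₀ : (P₀ : Subgroup G) = T) {H L₂ : Subgroup G}
    (hTH : T ≤ H) (hu : φ UU ∈ H) (hLH : L₂ ≤ H) (hn : ∀ l ∈ L₂, ∀ h ∈ H, h * l * h⁻¹ ∈ L₂)
    (h3 : 3 ∣ Nat.card L₂) : T ≤ L₂ := by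
  haveI : Fact (Nat.Prime 3) := ⟨by norm_num⟩
  obtain ⟨x, hx⟩ := exists_prime_orderOf_dvd_card' (G := L₂) 3 h3
  have hx3 : (x : G) ^ 3 = 1 := by
    have := pow_orderOf_eq_one x
    rw [hx] at this
    exact congrArg Subtype.val this
  have hx1 : (x : G) ≠ 1 := by
    intro h
    have : x = 1 := Subtype.ext h
    rw [this, orderOf_one] at hx
    omega
  obtain ⟨h, hh, hhm⟩ := exists_conj_mem P₀ (hP₀.le.trans hTH) (hLH x.2) hx3
  rw [hP₀] at hhm
  obtain ⟨i, j, hij'⟩ := (S.mod.memT _).1 hhm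
  have hij : h * x * h⁻¹ = φ (rot i j) := hij'
  have hne : rot i j ≠ 1 := by
    intro h1
    rw [h1, map_one] at hij
    apply hx1
    have h2 : (x : G) = h⁻¹ * (h * x * h⁻¹) * h := by group
    rw [h2, hij]
    group
  have hmem : φ (rot i j) ∈ L₂ := by
    rw [← hij]
    exact hn _ x.2 _ hh
  have hmem2 : φ (UU * rot i j * UU⁻¹) ∈ L₂ := by
    rw [map_mul, map_mul, map_inv]
    exact hn _ hmem _ hu
  obtain ⟨a, b, c, d, h1, h2⟩ := rot_gen i j hne
  have hE1 : φ E1 ∈ L₂ := by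
    rw [h1, map_mul, map_pow, map_pow]
    exact L₂.mul_mem (L₂.pow_mem hmem _) (L₂.pow_mem hmem2 _)
  have hE2 : φ E2 ∈ L₂ := by
    rw [h2, map_mul, map_pow, map_pow]
    exact L₂.mul_mem (L₂.pow_mem hmem _) (L₂.pow_mem hmem2 _)
  intro t ht
  obtain ⟨k, l, rfl⟩ := (S.mod.memT _).1 ht
  rw [show (⟨r k, r l, false⟩ : G72) = rot k l from rfl, rot_eq, map_mul, map_pow, map_pow]
  exact L₂.mul_mem (L₂.pow_mem hE1 _) (L₂.pow_mem hE2 _)

/-- All elements of order three of `A` lie in `T`. -/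
def Cap (T A : Subgroup G) : Prop := ∀ x ∈ A, x ^ 3 = 1 → x ∈ T

theorem Sit.mem_normalizer_of_cap (S : Sit T φ) {A : Subgroup G} (hTA : T ≤ A) (hA : Cap T A) {g : G}
    (hg : ∀ a ∈ A, g * a * g⁻¹ ∈ A) : g ∈ Subgroup.normalizer (T : Set G) := by
  have hE : φ E1 ∈ T := S.rot_mem 1 0
  have hE1 : φ E1 ≠ 1 := by
    intro h
    have : E1 = 1 := S.mod.inj (by rw [h, map_one])
    exact absurd this (by decide)
  have h3 : (g * φ E1 * g⁻¹) ^ 3 = 1 := by
    rw [conj_pow, S.h3 _ hE]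
    group
  refine S.ti hE hE1 (hA _ (hg _ (hTA hE)) h3) ?_ rfl
  intro h1
  apply hE1
  have h2 : φ E1 = g⁻¹ * (g * φ E1 * g⁻¹) * g := by group
  rw [h2, h1]
  group

theorem cap_of_le_normalizer (P₀ : Sylow 3 G) {A : Subgroup G} (hTA : (P₀ : Subgroup G) ≤ A)
    (hN : A ≤ Subgroup.normalizer ((P₀ : Subgroup G) : Set G)) : Cap (P₀ : Subgroup G) A := by
  intro x hx hx3
  obtain ⟨h, hh, hm⟩ := exists_conj_mem P₀ hTA hx hx3
  have := (Subgroup.mem_normalizer_iff.1 (hN hh) x).2 hm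
  exact this

theorem le_normalizer_map {T₀ K : Subgroup G} (hTK : T₀ ≤ K) (O : Subgroup K) [hO : O.Normal] :
    T₀ ≤ Subgroup.normalizer ((O.map K.subtype : Subgroup G) : Set G) := by
  intro t ht
  rw [Subgroup.mem_normalizer_iff]
  intro x
  constructor
  · rintro ⟨y, hy, rfl⟩
    exact ⟨(⟨t, hTK ht⟩ : K) * y * (⟨t, hTK ht⟩ : K)⁻¹, hO.conj_mem y hy _, rfl⟩
  · rintro ⟨y, hy, hxy⟩
    refine ⟨(⟨t, hTK ht⟩ : K)⁻¹ * y * (⟨t, hTK ht⟩ : K)⁻¹⁻¹, hO.conj_mem y hy _, ?_⟩
    have h1 : (y : G) = t * x * t⁻¹ := hxy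
    show t⁻¹ * (y : G) * t⁻¹⁻¹ = x
    rw [h1]
    group

/-- The subgroup generated by `L₂` and `z`. -/
def supInv (L₂ : Subgroup G) (z : G) (hz : z * z = 1) (hn : ∀ l ∈ L₂, z * l * z⁻¹ ∈ L₂) : Subgroup G where
  carrier := {x | x ∈ L₂ ∨ x * z ∈ L₂}
  one_mem' := Or.inl L₂.one_mem
  mul_mem' := by
    have hzi : z⁻¹ = z := inv_eq_of_mul_eq_one_left hz
    rintro a b (ha | ha) (hb | hb)
    · exact Or.inl (L₂.mul_mem ha hb)
    · right
      rw [mul_assoc]
      exact L₂.mul_mem ha hb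
    · right
      have h1 := hn _ hb
      rw [hzi] at h1
      have h2 := L₂.mul_mem ha h1
      have h3 : a * z * (z * b * z) = a * b * z := by
        calc a * z * (z * b * z) = a * (z * z) * b * z := by group
          _ = a * b * z := by rw [hz, mul_one]
      rwa [h3] at h2
    · left
      have h1 := hn _ hb
      rw [hzi] at h1
      have h2 := L₂.mul_mem ha h1
      have h3 : a * z * (z * (b * z) * z) = a * b := by
        calc a * z * (z * (b * z) * z) = a * (z * z) * b * (z * z) := by group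
          _ = a * b := by rw [hz, mul_one, mul_one]
      rwa [h3] at h2
  inv_mem' := by
    have hzi : z⁻¹ = z := inv_eq_of_mul_eq_one_left hz
    rintro a (ha | ha)
    · exact Or.inl (L₂.inv_mem ha)
    · right
      have h1 := L₂.inv_mem ha
      have h2 := hn _ h1
      have h3 : z * (a * z)⁻¹ * z⁻¹ = a⁻¹ * z := by
        rw [hzi]
        calc z * (a * z)⁻¹ * z = z * (z⁻¹ * a⁻¹) * z := by group
          _ = a⁻¹ * z := by group
      rwa [h3] at h2

theorem mz_closed : ∀ x : G72, pMZ (x * ZZ) → pMZ x := by decide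

theorem mz_act : ∀ x : G72, pMZ x → (∀ i j, x * rot i j * x⁻¹ = rot i j) ∨ (∀ i j, x * rot i j * x⁻¹ = (rot i j)⁻¹) := by
  decide

theorem zz_act : ∀ i j, ZZ * rot i j * ZZ⁻¹ = (rot i j)⁻¹ := by decide

/-- **The Brauer-type lemma**: a subgroup with automizer of `T` inside `±1`. -/
theorem Sit.cap_of_mz (S : Sit T φ) (P₀ : Sylow 3 G) (hP₀ : (P₀ : Subgroup G) = T) {L₂ : Subgroup G} (hT : T ≤ L₂)
    (hz : ∀ l ∈ L₂, φ ZZ * l * (φ ZZ)⁻¹ ∈ L₂) (hQ : ∀ x, φ x ∈ L₂ → pMZ x) : Cap T L₂ := by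
  classical
  haveI : Fact (Nat.Prime 3) := ⟨by norm_num⟩
  subst hP₀
  have hzz : φ ZZ * φ ZZ = 1 := by
    rw [← map_mul, show ZZ * ZZ = 1 by decide, map_one]
  obtain ⟨K, hKdef⟩ : ∃ K : Subgroup G, K = supInv L₂ (φ ZZ) hzz hz := ⟨_, rfl⟩
  have hmemK : ∀ x, x ∈ K ↔ x ∈ L₂ ∨ x * φ ZZ ∈ L₂ := by
    intro x
    rw [hKdef]
    rfl
  have hLK : L₂ ≤ K := fun x hx => (hmemK x).2 (Or.inl hx)
  have hTK : (P₀ : Subgroup G) ≤ K := hT.trans hLK
  set P : Sylow 3 K := P₀.subtype hTK with hP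
  have hPc : (P : Subgroup K) = (P₀ : Subgroup G).subgroupOf K := Sylow.coe_subtype P₀ hTK
  have hmemP : ∀ x : K, x ∈ (P : Subgroup K) ↔ (x : G) ∈ (P₀ : Subgroup G) := by
    intro x
    rw [hPc, Subgroup.mem_subgroupOf]
  have hzK : φ ZZ ∈ K := (hmemK _).2 (Or.inr (by rw [hzz]; exact L₂.one_mem))
  have hA : Act P (⟨φ ZZ, hzK⟩ : K) := by
    refine ⟨by norm_num, ?_, ?_, ?_, ?_⟩
    · refine ⟨⟨fun a b => Subtype.ext (Subtype.ext ?_)⟩⟩
      exact S.hcomm _ ((hmemP _).1 a.2) _ ((hmemP _).1 b.2)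
    · apply not_cyclic_of_exp
      · intro x hx
        exact Subtype.ext (by simpa using S.h3 _ ((hmemP x).1 hx))
      · rw [hPc, ← S.hcard]
        exact Nat.card_congr (Subgroup.subgroupOfEquivOfLe hTK).toEquiv
    · intro x hx
      apply Subtype.ext
      obtain ⟨i, j, hij⟩ := (S.mod.memT _).1 ((hmemP x).1 hx)
      simp only [Subgroup.coe_mul, Subgroup.coe_inv]
      rw [hij, ← map_inv, ← map_mul, ← map_mul]
      exact congrArg φ (zz_act i j) |>.trans (map_inv _ _)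
    · intro n hn
      have hnN : (n : G) ∈ Subgroup.normalizer ((P₀ : Subgroup G) : Set G) := by
        rw [Subgroup.mem_normalizer_iff]
        intro h
        constructor
        · intro hh
          have h2 := (mem_NN_iff.1 hn ⟨h, hTK hh⟩).1 ((hmemP _).2 hh)
          exact (hmemP _).1 h2
        · intro hh
          have hh' : (n : G) * h * (n : G)⁻¹ ∈ K := hTK hh
          have hhK : h ∈ K := by
            have h3 : h = (n : G)⁻¹ * ((n : G) * h * (n : G)⁻¹) * n := by group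
            rw [h3]
            exact K.mul_mem (K.mul_mem (K.inv_mem n.2) hh') n.2
          have h2 := (mem_NN_iff.1 hn ⟨h, hhK⟩).2 ((hmemP _).2 hh)
          exact (hmemP _).1 h2
      obtain ⟨n₀, hn₀⟩ := S.mod.memN _ hnN
      have hpn : pMZ n₀ := by
        have h1 : φ n₀ ∈ K := by
          rw [hn₀]
          exact n.2
        rcases (hmemK _).1 h1 with h2 | h2
        · exact hQ _ h2
        · rw [← map_mul] at h2
          exact mz_closed _ (hQ _ h2)
      rcases mz_act n₀ hpn with h | h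
      · left
        intro x hx
        apply Subtype.ext
        obtain ⟨i, j, hij⟩ := (S.mod.memT _).1 ((hmemP x).1 hx)
        simp only [Subgroup.coe_mul, Subgroup.coe_inv]
        rw [hij, ← hn₀, ← map_inv, ← map_mul, ← map_mul]
        exact congrArg φ (h i j)
      · right
        intro x hx
        apply Subtype.ext
        obtain ⟨i, j, hij⟩ := (S.mod.memT _).1 ((hmemP x).1 hx)
        simp only [Subgroup.coe_mul, Subgroup.coe_inv]
        rw [hij, ← hn₀, ← map_inv, ← map_mul, ← map_mul]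
        exact (congrArg φ (h i j)).trans (map_inv _ _)
  have hO : pPrimeCore 3 K = ⊥ := by
    haveI hch : (pPrimeCore 3 K).Characteristic := Cfsg.Agent.Lib.Solvable.PSeries.pPrimeCore_char 3 K
    haveI hOn : (pPrimeCore 3 K).Normal := inferInstance
    have hcop : (Nat.card ((pPrimeCore 3 K).map K.subtype)).Coprime 3 := by
      have h2 : Nat.card ((pPrimeCore 3 K).map K.subtype) = Nat.card (pPrimeCore 3 K) :=
        Nat.card_congr (Subgroup.equivMapOfInjective _ _ K.subtype_injective).symm.toEquiv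
      rw [h2]
      exact Cfsg.Agent.Lib.Solvable.Carter.card_pPrimeCore_coprime (G := K) 3
    have h3 := S.core_trivial' _ (le_normalizer_map hTK _) hcop
    exact (Subgroup.map_eq_bot_iff_of_injective _ K.subtype_injective).1 h3
  have hPn : (P : Subgroup K).Normal := core_normal hA hO
  have hN : K ≤ Subgroup.normalizer ((P₀ : Subgroup G) : Set G) := by
    intro g hg
    rw [Subgroup.mem_normalizer_iff]
    intro t
    constructor
    · intro ht
      have h1 := hPn.conj_mem ⟨t, hTK ht⟩ ((hmemP _).2 ht) ⟨g, hg⟩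
      exact (hmemP _).1 h1
    · intro ht
      have h0 : t ∈ K := by
        have h3 : t = g⁻¹ * (g * t * g⁻¹) * g := by group
        rw [h3]
        exact K.mul_mem (K.mul_mem (K.inv_mem hg) (hTK ht)) hg
      have h1 := hPn.conj_mem ⟨g * t * g⁻¹, hTK ht⟩ ((hmemP _).2 ht) ⟨g⁻¹, K.inv_mem hg⟩
      have h2 : g⁻¹ * (g * t * g⁻¹) * g⁻¹⁻¹ ∈ (P₀ : Subgroup G) := (hmemP _).1 h1
      have h3 : g⁻¹ * (g * t * g⁻¹) * g⁻¹⁻¹ = t := by group
      rwa [h3] at h2
  have h4 := cap_of_le_normalizer P₀ hTK hN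
  exact fun x hx => h4 x (hLK hx)

/-- **The Klein case**. -/
theorem Sit.cap_of_klein (S : Sit T φ) (P₀ : Sylow 3 G) (hP₀ : (P₀ : Subgroup G) = T) {K : Subgroup G} (hT : T ≤ K)
    (p : G72 → Prop) [DecidablePred p] (hQ : ∀ x, φ x ∈ K ↔ p x) (h36 : (Finset.univ.filter p).card = 36)
    (hsq : ∀ x, p x → ∃ i j, x * x = rot i j) : Cap T K := by
  classical
  haveI : Fact (Nat.Prime 3) := ⟨by norm_num⟩
  subst hP₀
  set P : Sylow 3 K := P₀.subtype hT with hP
  have hPc : (P : Subgroup K) = (P₀ : Subgroup G).subgroupOf K := Sylow.coe_subtype P₀ hT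
  have hmemP : ∀ x : K, x ∈ (P : Subgroup K) ↔ (x : G) ∈ (P₀ : Subgroup G) := by
    intro x
    rw [hPc, Subgroup.mem_subgroupOf]
  have hcardP : Nat.card (P : Subgroup K) = 9 := by
    rw [hPc, ← S.hcard]
    exact Nat.card_congr (Subgroup.subgroupOfEquivOfLe hT).toEquiv
  have hnorm : ∀ n : K, (n : G) ∈ Subgroup.normalizer ((P₀ : Subgroup G) : Set G) →
      n ∈ Subgroup.normalizer ((P : Subgroup K) : Set K) := by
    intro n hn
    rw [Subgroup.mem_normalizer_iff]
    intro h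
    rw [hmemP, hmemP]
    exact (Subgroup.mem_normalizer_iff.1 hn h)
  have hnorm' : ∀ n : K, n ∈ Subgroup.normalizer ((P : Subgroup K) : Set K) →
      (n : G) ∈ Subgroup.normalizer ((P₀ : Subgroup G) : Set G) := by
    intro n hn
    rw [Subgroup.mem_normalizer_iff]
    intro h
    constructor
    · intro hh
      have h2 := (Subgroup.mem_normalizer_iff.1 hn ⟨h, hT hh⟩).1 ((hmemP _).2 hh)
      exact (hmemP _).1 h2
    · intro hh
      have hh' : (n : G) * h * (n : G)⁻¹ ∈ K := hT hh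
      have hhK : h ∈ K := by
        have h3 : h = (n : G)⁻¹ * ((n : G) * h * (n : G)⁻¹) * n := by group
        rw [h3]
        exact K.mul_mem (K.mul_mem (K.inv_mem n.2) hh') n.2
      have h2 := (Subgroup.mem_normalizer_iff.1 hn ⟨h, hhK⟩).2 ((hmemP _).2 hh)
      exact (hmemP _).1 h2
  have hEl : Cfsg.IsElementaryAbelian 3 (P : Subgroup K) := by
    refine ⟨⟨⟨fun a b => Subtype.ext (Subtype.ext ?_)⟩⟩, ?_⟩
    · exact S.hcomm _ ((hmemP _).1 a.2) _ ((hmemP _).1 b.2)
    · intro x hx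
      exact Subtype.ext (by simpa using S.h3 _ ((hmemP x).1 hx))
  have hCP : Subgroup.centralizer (((P : Subgroup K)) : Set K) = (P : Subgroup K) := by
    apply le_antisymm
    · intro x hx
      rw [hmemP, ← S.hC, Subgroup.mem_centralizer_iff]
      intro t ht
      have h1 := Subgroup.mem_centralizer_iff.1 hx ⟨t, hT ht⟩ ((hmemP _).2 ht)
      exact congrArg Subtype.val h1
    · intro x hx
      rw [Subgroup.mem_centralizer_iff]
      intro t ht
      apply Subtype.ext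
      exact S.hcomm _ ((hmemP _).1 ht) _ ((hmemP _).1 hx)
  have hloc : ∀ t ∈ (P : Subgroup K), t ≠ 1 →
      Subgroup.centralizer ({t} : Set K) ≤ Subgroup.normalizer ((P : Subgroup K) : Set K) := by
    intro t ht ht1 x hx
    apply hnorm
    refine S.hloc _ ((hmemP _).1 ht) (fun h => ht1 (Subtype.ext h)) ?_
    rw [Subgroup.mem_centralizer_singleton_iff] at hx ⊢
    exact congrArg Subtype.val hx
  -- the normalizer
  obtain ⟨N', hN'⟩ : ∃ N', N' = Subgroup.normalizer ((P : Subgroup K) : Set K) := ⟨_, rfl⟩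
  have hlift : ∀ n : Subgroup.normalizer ((P : Subgroup K) : Set K), ∃ x, p x ∧ φ x = ((n : K) : G) := by
    intro n
    obtain ⟨x, hx⟩ := S.mod.memN _ (hnorm' _ n.2)
    refine ⟨x, (hQ x).1 ?_, hx⟩
    rw [hx]
    exact (n : K).2
  have hcardN : Nat.card (Subgroup.normalizer ((P : Subgroup K) : Set K)) = 36 := by
    have e : {x : G72 // p x} ≃ Subgroup.normalizer ((P : Subgroup K) : Set K) := by
      refine Equiv.ofBijective (fun x => ⟨⟨φ x.1, (hQ _).2 x.2⟩, hnorm _ (S.mod.mapN x.1)⟩) ⟨?_, ?_⟩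
      · intro a b hab
        have h1 : φ a.1 = φ b.1 := congrArg (fun n : Subgroup.normalizer ((P : Subgroup K) : Set K) => ((n : K) : G)) hab
        exact Subtype.ext (S.mod.inj h1)
      · intro n
        obtain ⟨x, hx, hxn⟩ := hlift n
        exact ⟨⟨x, hx⟩, Subtype.ext (Subtype.ext hxn)⟩
    rw [← Nat.card_congr e, Nat.card_eq_fintype_card, Fintype.card_subtype, h36]
  have hcardQ : Nat.card (Subgroup.normalizer ((P : Subgroup K) : Set K) ⧸
      (P : Subgroup K).subgroupOf (Subgroup.normalizer ((P : Subgroup K) : Set K))) = 4 := by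
    have h1 := Subgroup.card_eq_card_quotient_mul_card_subgroup
      ((P : Subgroup K).subgroupOf (Subgroup.normalizer ((P : Subgroup K) : Set K)))
    have h2 : Nat.card ((P : Subgroup K).subgroupOf (Subgroup.normalizer ((P : Subgroup K) : Set K))) = 9 := by
      rw [← hcardP]
      exact Nat.card_congr (Subgroup.subgroupOfEquivOfLe Subgroup.le_normalizer).toEquiv
    rw [hcardN, h2] at h1
    omega
  have hKl : IsKleinFour (Subgroup.normalizer ((P : Subgroup K) : Set K) ⧸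
      (P : Subgroup K).subgroupOf (Subgroup.normalizer ((P : Subgroup K) : Set K))) := by
    refine ⟨hcardQ, ?_⟩
    haveI : Finite (Subgroup.normalizer ((P : Subgroup K) : Set K) ⧸
      (P : Subgroup K).subgroupOf (Subgroup.normalizer ((P : Subgroup K) : Set K))) := inferInstance
    haveI : Nontrivial (Subgroup.normalizer ((P : Subgroup K) : Set K) ⧸
      (P : Subgroup K).subgroupOf (Subgroup.normalizer ((P : Subgroup K) : Set K))) := by
      rw [← Finite.one_lt_card_iff_nontrivial, hcardQ]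
      norm_num
    rw [Monoid.exponent_eq_prime_iff Nat.prime_two]
    intro y hy
    refine orderOf_eq_prime ?_ hy
    obtain ⟨n, rfl⟩ := QuotientGroup.mk_surjective y
    rw [← QuotientGroup.mk_pow, QuotientGroup.eq_one_iff, Subgroup.mem_subgroupOf, hmemP]
    obtain ⟨x, hx, hxn⟩ := hlift n
    obtain ⟨i, j, hij⟩ := hsq x hx
    show ((n : K) : G) ^ 2 ∈ (P₀ : Subgroup G)
    rw [← hxn, ← map_pow, pow_two, hij]
    exact S.rot_mem i j
  have hres := Cfsg.Agent.S3805.result P hEl hcardP hCP hKl hloc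
  have hN : K ≤ Subgroup.normalizer ((P₀ : Subgroup G) : Set G) := by
    intro g hg
    apply hnorm' ⟨g, hg⟩
    rw [hres]
    exact Subgroup.mem_top _
  exact cap_of_le_normalizer P₀ hT hN

theorem Sit.normal_of_cap (S : Sit T φ) {L : Subgroup G} [hL : L.Normal] (hT : T ≤ L) (hA : Cap T L) : T.Normal := by
  rw [← Subgroup.normalizer_eq_top_iff, eq_top_iff]
  intro g _
  exact S.mem_normalizer_of_cap hT hA (fun a ha => hL.conj_mem a ha g)

theorem z4_cases : ∀ x : G72, pZ4 x → pMZ x ∨ ∃ i j, x = rot i j * UU ∨ x = rot i j * UU⁻¹ := by decide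

theorem mz_cases : ∀ x : G72, pMZ x → ∃ i j, x = rot i j ∨ x = rot i j * ZZ := by decide

theorem z4_cen : ∀ x : G72, pZ4 x → ∀ i j, rot i j ≠ 1 → x * rot i j = rot i j * x → ∃ k l, x = rot k l := by decide

/-- Simplicity in the cyclic case. -/
theorem Sit.simple_of_z4 (S : Sit T φ) (P₀ : Sylow 3 G) (hP₀ : (P₀ : Subgroup G) = T) {L : Subgroup G} [hL : L.Normal]
    (hT : T ≤ L) (hQ : ∀ x, φ x ∈ L ↔ pZ4 x) (hnn : ¬ T.Normal) : IsSimpleGroup L := by
  classical
  have hE : φ E1 ∈ T := S.rot_mem 1 0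
  have hE1 : φ E1 ≠ 1 := by
    intro h
    have : E1 = 1 := S.mod.inj (by rw [h, map_one])
    exact absurd this (by decide)
  haveI : Nontrivial L := ⟨⟨⟨φ E1, hT hE⟩, 1, fun h => hE1 (congrArg Subtype.val h)⟩⟩
  refine ⟨?_⟩
  intro M hM
  by_contra hcon
  push Not at hcon
  obtain ⟨hM1, hM2⟩ := hcon
  obtain ⟨L₂, hL₂⟩ : ∃ L₂ : Subgroup G, L₂ = M.map L.subtype := ⟨_, rfl⟩
  have hL₂L : L₂ ≤ L := by
    rw [hL₂]
    exact Subgroup.map_subtype_le M
  have hn : ∀ l ∈ L₂, ∀ h ∈ L, h * l * h⁻¹ ∈ L₂ := by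
    intro l hl h hh
    rw [hL₂] at hl ⊢
    obtain ⟨y, hy, rfl⟩ := hl
    exact ⟨(⟨h, hh⟩ : L) * y * (⟨h, hh⟩ : L)⁻¹, hM.conj_mem y hy _, rfl⟩
  have h3 : 3 ∣ Nat.card L₂ := by
    by_contra h3
    have hc : (Nat.card L₂).Coprime 3 := ((Nat.Prime.coprime_iff_not_dvd (by norm_num)).2 h3).symm
    have h1 := S.core_trivial' L₂ (by rw [hL₂]; exact le_normalizer_map hT M) hc
    apply hM1
    rw [hL₂] at h1
    exact (Subgroup.map_eq_bot_iff_of_injective _ L.subtype_injective).1 h1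
  have hU : φ UU ∈ L := (hQ _).2 (by decide)
  have hZ : φ ZZ ∈ L := (hQ _).2 (by decide)
  have hT₂ : T ≤ L₂ := S.le_of_three_dvd P₀ hP₀ hT hU hL₂L hn h3
  by_cases hUU : φ UU ∈ L₂
  · apply hM2
    rw [eq_top_iff]
    rintro x -
    have hxL₂ : (x : G) ∈ L₂ := by
      obtain ⟨l, hl, x₀, hx₀⟩ := S.frattini P₀ hP₀ hT₂ (h := (x : G)) (fun l hl => hn l hl _ x.2)
      have h1 : φ x₀ ∈ L := by
        have h2 : φ x₀ = l⁻¹ * x := by rw [hx₀]; group
        rw [h2]
        exact L.mul_mem (L.inv_mem (hL₂L hl)) x.2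
      have h2 := (hQ _).1 h1
      have h4 : φ x₀ ∈ L₂ := by
        rcases z4_cases x₀ h2 with h5 | ⟨i, j, h5 | h5⟩
        · obtain ⟨i, j, h6 | h6⟩ := mz_cases x₀ h5
          · rw [h6]
            exact hT₂ (S.rot_mem i j)
          · rw [h6, map_mul, show ZZ = UU * UU by decide, map_mul]
            exact L₂.mul_mem (hT₂ (S.rot_mem i j)) (L₂.mul_mem hUU hUU)
        · rw [h5, map_mul]
          exact L₂.mul_mem (hT₂ (S.rot_mem i j)) hUU
        · rw [h5, map_mul, map_inv]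
          exact L₂.mul_mem (hT₂ (S.rot_mem i j)) (L₂.inv_mem hUU)
      rw [hx₀]
      exact L₂.mul_mem hl h4
    rw [hL₂] at hxL₂
    obtain ⟨y, hy, hyx⟩ := hxL₂
    have : y = x := Subtype.ext hyx
    rwa [← this]
  · have hQ₂ : ∀ x, φ x ∈ L₂ → pMZ x := by
      intro x hx
      have h1 := (hQ _).1 (hL₂L hx)
      rcases z4_cases x h1 with h5 | ⟨i, j, h5 | h5⟩
      · exact h5
      · exfalso
        apply hUU
        have h6 : φ UU = (φ (rot i j))⁻¹ * φ x := by
          rw [h5, map_mul φ (rot i j) UU]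
          group
        rw [h6]
        exact L₂.mul_mem (L₂.inv_mem (hT₂ (S.rot_mem i j))) hx
      · exfalso
        apply hUU
        have h6 : φ UU = ((φ (rot i j))⁻¹ * φ x)⁻¹ := by
          rw [h5, map_mul φ (rot i j) UU⁻¹, map_inv φ UU]
          group
        rw [h6]
        exact L₂.inv_mem (L₂.mul_mem (L₂.inv_mem (hT₂ (S.rot_mem i j))) hx)
    have hcap := S.cap_of_mz P₀ hP₀ hT₂ (fun l hl => hn l hl _ hZ) hQ₂
    apply hnn
    have hN : L ≤ Subgroup.normalizer ((P₀ : Subgroup G) : Set G) := by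
      intro g hg
      rw [hP₀]
      exact S.mem_normalizer_of_cap hT₂ hcap (fun a ha => hn a ha g hg)
    have hcap2 := cap_of_le_normalizer P₀ (hP₀.le.trans hT) hN
    rw [hP₀] at hcap2
    exact S.normal_of_cap hT hcap2

/-- The group `L` in the cyclic case is `A₆`. -/
theorem Sit.iso_of_z4 (S : Sit T φ) (P₀ : Sylow 3 G) (hP₀ : (P₀ : Subgroup G) = T) {L : Subgroup G} [hL : L.Normal]
    (hT : T ≤ L) (hQ : ∀ x, φ x ∈ L ↔ pZ4 x) (hnn : ¬ T.Normal) : Nonempty (L ≃* A6) := by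
  classical
  haveI : Fact (Nat.Prime 3) := ⟨by norm_num⟩
  haveI := S.simple_of_z4 P₀ hP₀ hT hQ hnn
  subst hP₀
  set P : Sylow 3 L := P₀.subtype hT with hP
  have hPc : (P : Subgroup L) = (P₀ : Subgroup G).subgroupOf L := Sylow.coe_subtype P₀ hT
  have hmemP : ∀ x : L, x ∈ (P : Subgroup L) ↔ (x : G) ∈ (P₀ : Subgroup G) := by
    intro x
    rw [hPc, Subgroup.mem_subgroupOf]
  have hcardP : Nat.card (P : Subgroup L) = 9 := by
    rw [hPc, ← S.hcard]
    exact Nat.card_congr (Subgroup.subgroupOfEquivOfLe hT).toEquiv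
  have hne1 : φ E1 ≠ 1 := by
    intro h
    have : E1 = 1 := S.mod.inj (by rw [h, map_one])
    exact absurd this (by decide)
  have hne2 : φ FF ≠ 1 := by
    intro h
    have : FF = 1 := S.mod.inj (by rw [h, map_one])
    exact absurd this (by decide)
  have hm1 : φ E1 ∈ (P₀ : Subgroup G) := S.rot_mem 1 0
  have hm2 : φ FF ∈ (P₀ : Subgroup G) := S.rot_mem 1 1
  refine Cfsg.Agent.S3341.result P (P : Subgroup L) rfl ⟨⟨fun a b => Subtype.ext (Subtype.ext ?_)⟩⟩ ?_ hcardP ?_ ?_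
  · exact S.hcomm _ ((hmemP _).1 a.2) _ ((hmemP _).1 b.2)
  · intro x hx
    exact Subtype.ext (by simpa using S.h3 _ ((hmemP x).1 hx))
  · refine ⟨⟨φ E1, hT hm1⟩, ⟨φ FF, hT hm2⟩, ?_, ?_, ?_⟩
    · refine orderOf_eq_prime (Subtype.ext (S.h3 _ hm1)) (fun h => hne1 (congrArg Subtype.val h))
    · refine orderOf_eq_prime (Subtype.ext (S.h3 _ hm2)) (fun h => hne2 (congrArg Subtype.val h))
    · intro g hg
      have h1 : (g : G) * φ E1 * (g : G)⁻¹ = φ FF := congrArg Subtype.val hg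
      obtain ⟨c, hc⟩ := S.conj_lift good_E1 good_FF (isConj_iff.2 ⟨g, h1⟩)
      revert c
      decide
  · intro s hs hs1
    apply le_antisymm
    · intro x hx
      rw [hmemP]
      have hs' := (hmemP _).1 hs
      have hsne : (s : G) ≠ 1 := fun h => hs1 (Subtype.ext h)
      have hcomm : (x : G) * s = s * x := congrArg Subtype.val (Subgroup.mem_centralizer_singleton_iff.1 hx)
      have hx' : (x : G) ∈ Subgroup.centralizer ({(s : G)} : Set G) :=
        Subgroup.mem_centralizer_singleton_iff.2 hcomm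
      obtain ⟨x₀, hx₀⟩ := S.mod.memN _ (S.hloc _ hs' hsne hx')
      obtain ⟨i, j, hij'⟩ := (S.mod.memT _).1 hs'
      have hij : (s : G) = φ (rot i j) := hij'
      have hp : pZ4 x₀ := by
        apply (hQ _).1
        rw [hx₀]
        exact x.2
      have hrne : rot i j ≠ 1 := by
        intro h
        apply hsne
        rw [hij, h, map_one]
      have hc2 : x₀ * rot i j = rot i j * x₀ := by
        apply S.mod.inj
        rw [map_mul, map_mul, hx₀, ← hij]
        exact hcomm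
      obtain ⟨k, l, hkl⟩ := z4_cen x₀ hp i j hrne hc2
      rw [← hx₀, hkl]
      exact S.rot_mem k l
    · intro x hx
      rw [Subgroup.mem_centralizer_singleton_iff]
      apply Subtype.ext
      exact S.hcomm _ ((hmemP _).1 hx) _ ((hmemP _).1 hs)

theorem rot_orbit : ∀ i j : ZMod 3, rot i j ≠ 1 → ∃ k : Fin 4,
    UU ^ (k : ℕ) * rot i j * (UU ^ (k : ℕ))⁻¹ = E1 ∨ UU ^ (k : ℕ) * rot i j * (UU ^ (k : ℕ))⁻¹ = FF := by
  decide

/-- The conjugates of a three-cycle are three-cycles. -/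
theorem threeCycle_conj {σ τ : A6} (h : Equiv.Perm.IsThreeCycle (σ : Equiv.Perm (Fin 6))) :
    Equiv.Perm.IsThreeCycle ((τ * σ * τ⁻¹ : A6) : Equiv.Perm (Fin 6)) := by
  have h1 : ((τ * σ * τ⁻¹ : A6) : Equiv.Perm (Fin 6)) =
      (τ : Equiv.Perm (Fin 6)) * (σ : Equiv.Perm (Fin 6)) * (τ : Equiv.Perm (Fin 6))⁻¹ := rfl
  rw [h1, Equiv.Perm.IsThreeCycle, Equiv.Perm.cycleType_conj]
  exact h

/-- **The end of the cyclic case.** -/
theorem Sit.iso_perm_of_z4 (S : Sit T φ) (P₀ : Sylow 3 G) (hP₀ : (P₀ : Subgroup G) = T) {L : Subgroup G}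
    [hL : L.Normal] (hT : T ≤ L) (hQ : ∀ x, φ x ∈ L ↔ pZ4 x) (hfr : ∀ g : G, ∃ l ∈ L, ∃ x₀, g = l * φ x₀)
    (ι : L ≃* A6) : Nonempty (G ≃* Equiv.Perm (Fin 6)) := by
  classical
  have hR1 : φ R1 ∉ L := fun h => absurd ((hQ _).1 h) (by decide)
  have hWW : φ WW ∉ L := fun h => absurd ((hQ _).1 h) (by decide)
  have hidx : L.index = 2 := by
    rw [Subgroup.index_eq_two_iff]
    refine ⟨φ R1, fun g => ?_⟩
    obtain ⟨l, hl, x₀, rfl⟩ := hfr g
    have hz4 : ∀ x : G72, pZ4 (x * R1) ↔ ¬ pZ4 x := by decide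
    have h1 : l * φ x₀ ∈ L ↔ pZ4 x₀ := by
      rw [Subgroup.mul_mem_cancel_left _ hl, hQ]
    have h2 : l * φ x₀ * φ R1 ∈ L ↔ ¬ pZ4 x₀ := by
      rw [mul_assoc, Subgroup.mul_mem_cancel_left _ hl, ← map_mul, hQ, hz4]
    by_cases h : pZ4 x₀
    · exact Or.inr ⟨h1.2 h, fun h3 => h2.1 h3 h⟩
    · exact Or.inl ⟨h2.2 h, fun h3 => h (h1.1 h3)⟩
  -- the three-cycles
  let Is3 : G → Prop := fun g => ∃ hg : g ∈ L, Equiv.Perm.IsThreeCycle ((ι ⟨g, hg⟩ : A6) : Equiv.Perm (Fin 6))
  have hconj3 : ∀ g l : G, Is3 g → l ∈ L → Is3 (l * g * l⁻¹) := by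
    rintro g l ⟨hg, h3⟩ hl
    refine ⟨hL.conj_mem g hg l, ?_⟩
    have h1 : (⟨l * g * l⁻¹, hL.conj_mem g hg l⟩ : L) = ⟨l, hl⟩ * ⟨g, hg⟩ * (⟨l, hl⟩ : L)⁻¹ := rfl
    rw [h1, map_mul, map_mul, map_inv]
    exact threeCycle_conj h3
  have hc₀ : ∃ c₀ u₀ : G72, Is3 (φ c₀) ∧ φ u₀ ∉ L ∧ u₀ * c₀ = c₀ * u₀ := by
    obtain ⟨σ, h1, -, -⟩ := exists_three_cycle 0 1 (by decide)
    obtain ⟨x, hx⟩ : ∃ x : L, ι x = σ := ⟨ι.symm σ, ι.apply_symm_apply σ⟩
    have hx3 : (x : G) ^ 3 = 1 := by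
      have h2 : σ ^ 3 = 1 := by
        apply Subtype.ext
        have h3 := pow_orderOf_eq_one (σ : Equiv.Perm (Fin 6))
        rw [h1.orderOf] at h3
        exact h3
      rw [← hx, ← map_pow] at h2
      have h3 : x ^ 3 = 1 := ι.injective (by rw [h2, map_one])
      exact congrArg Subtype.val h3
    have hxs : Is3 (x : G) := ⟨x.2, by
      have : (⟨(x : G), x.2⟩ : L) = x := rfl
      rw [this, hx]
      exact h1⟩
    obtain ⟨h, hh, hm⟩ := exists_conj_mem P₀ (hP₀.le.trans hT) x.2 hx3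
    rw [hP₀] at hm
    obtain ⟨i, j, hij'⟩ := (S.mod.memT _).1 hm
    have hij : h * x * h⁻¹ = φ (rot i j) := hij'
    have hs1 : Is3 (φ (rot i j)) := by
      rw [← hij]
      exact hconj3 _ _ hxs hh
    have hne : rot i j ≠ 1 := by
      intro h2
      obtain ⟨hg, h3⟩ := hs1
      have h4 : (⟨φ (rot i j), hg⟩ : L) = 1 := by
        apply Subtype.ext
        show φ (rot i j) = 1
        rw [h2, map_one]
      rw [h4, map_one] at h3
      exact h3.ne_one rfl
    have hUU : φ UU ∈ L := (hQ _).2 (by decide)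
    obtain ⟨k, hk⟩ := rot_orbit i j hne
    have hs2 : Is3 (φ (UU ^ (k : ℕ) * rot i j * (UU ^ (k : ℕ))⁻¹)) := by
      rw [map_mul, map_mul, map_inv]
      apply hconj3 _ _ hs1
      rw [map_pow]
      exact L.pow_mem hUU _
    rcases hk with hk | hk
    · rw [hk] at hs2
      exact ⟨E1, R1, hs2, hR1, by decide⟩
    · rw [hk] at hs2
      exact ⟨FF, WW, hs2, hWW, by decide⟩
  obtain ⟨c₀, u₀, hc3, hu₀, hcu⟩ := hc₀
  have hcomm0 : φ u₀ * φ c₀ * (φ u₀)⁻¹ = φ c₀ := by
    rw [← map_mul, hcu, map_mul]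
    group
  have hglob : ∀ g : G, ∃ l ∈ L, g * φ c₀ * g⁻¹ = l * φ c₀ * l⁻¹ := by
    intro g
    by_cases hg : g ∈ L
    · exact ⟨g, hg, rfl⟩
    · have h1 : g * φ u₀ ∈ L := by
        rw [Subgroup.mul_mem_iff_of_index_two hidx]
        exact iff_of_false hg hu₀
      refine ⟨_, h1, ?_⟩
      calc g * φ c₀ * g⁻¹ = g * (φ u₀ * φ c₀ * (φ u₀)⁻¹) * g⁻¹ := by rw [hcomm0]
        _ = g * φ u₀ * φ c₀ * (g * φ u₀)⁻¹ := by group
  refine nonempty_mulEquiv_perm_six L hidx ι ?_ ?_
  · intro g x hx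
    obtain ⟨hc, hc3'⟩ := hc3
    -- `x` is conjugate to the image of `c₀`
    have h5 : IsConj (ι ⟨φ c₀, hc⟩) (ι x) := alternatingGroup.isThreeCycle_isConj (by simp) hc3' hx
    obtain ⟨m, hm⟩ := isConj_iff.1 h5
    obtain ⟨m', hm'⟩ : ∃ m' : L, ι m' = m := ⟨ι.symm m, ι.apply_symm_apply m⟩
    have h6 : m' * ⟨φ c₀, hc⟩ * m'⁻¹ = x := by
      apply ι.injective
      rw [map_mul, map_mul, map_inv, hm', hm]
    obtain ⟨l, hl, hlg⟩ := hglob (g * m')
    have h7 : g * x * g⁻¹ = l * φ c₀ * l⁻¹ := by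
      rw [← hlg, ← h6]
      show g * ((m' : G) * φ c₀ * (m' : G)⁻¹) * g⁻¹ = _
      group
    have h8 := hconj3 _ _ (⟨hc, hc3'⟩ : Is3 (φ c₀)) hl
    rw [← h7] at h8
    obtain ⟨h9, h10⟩ := h8
    have h11 : MulAut.conjNormal g x = ⟨g * x * g⁻¹, h9⟩ := by
      apply Subtype.ext
      exact MulAut.conjNormal_apply g x
    rw [h11]
    exact h10
  · intro g hg
    have h1 : g ∈ T := by
      rw [← S.hC, Subgroup.mem_centralizer_iff]
      intro t ht
      have := hg t (hT ht)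
      calc t * g = g * t * g⁻¹ * g := by rw [this]
        _ = g * t := by group
    exact hT h1

/-- The representatives of the cosets of `M ∪ Mz`. -/
def cs (b s : Bool) : G72 := if b then (if s then UU else R1) else (if s then WW else 1)

theorem cs_dec : ∀ x : G72, ∃ i j, x = rot i j * cs (rho x) x.s ∨ x = rot i j * ZZ * cs (rho x) x.s := by
  decide

theorem comm_dec : ∀ x : G72, ¬ pMZ x → ∃ i j, x * (R1 * x⁻¹ * R1⁻¹) = rot i j * ZZ ∨
    x * (WW * x⁻¹ * WW⁻¹) = rot i j * ZZ := by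
  decide

/-- **The main theorem**. -/
theorem Sit.main (S : Sit T φ) (P₀ : Sylow 3 G) (hP₀ : (P₀ : Subgroup G) = T) (hnn : ¬ T.Normal) :
    Nonempty (G ≃* Equiv.Perm (Fin 6)) := by
  classical
  have hE : φ E1 ∈ T := S.rot_mem 1 0
  have hE1 : φ E1 ≠ 1 := by
    intro h
    have : E1 = 1 := S.mod.inj (by rw [h, map_one])
    exact absurd this (by decide)
  obtain ⟨L, hL, hL1, hLt⟩ : ∃ L : Subgroup G, L.Normal ∧ L ≠ ⊥ ∧ L ≠ ⊤ := by
    by_contra hcon
    push Not at hcon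
    apply S.not_simple
    haveI : Nontrivial G := ⟨⟨φ E1, 1, hE1⟩⟩
    refine ⟨?_⟩
    intro H hH
    by_cases h : H = ⊥
    · exact Or.inl h
    · exact Or.inr (hcon H hH h)
  have h3 : 3 ∣ Nat.card L := by
    by_contra h3
    have hc : (Nat.card L).Coprime 3 := ((Nat.Prime.coprime_iff_not_dvd (by norm_num)).2 h3).symm
    exact hL1 (S.core_trivial' L (by
      rw [Subgroup.normalizer_eq_top_iff.2 hL]
      exact le_top) hc)
  have hT : T ≤ L := S.le_of_three_dvd P₀ hP₀ (H := ⊤) le_top (Subgroup.mem_top _) le_top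
    (fun l hl h _ => hL.conj_mem l hl h) h3
  have hfr : ∀ g : G, ∃ l ∈ L, ∃ x₀, g = l * φ x₀ := fun g =>
    S.frattini P₀ hP₀ hT (fun l hl => hL.conj_mem l hl g)
  have hnotall : ¬ ∀ x, φ x ∈ L := by
    intro hall
    apply hLt
    rw [eq_top_iff]
    rintro g -
    obtain ⟨l, hl, x₀, rfl⟩ := hfr g
    exact L.mul_mem hl (hall _)
  by_cases hZ : φ ZZ ∈ L
  · -- the form of `L`
    have hform : ∀ x, φ x ∈ L ↔ φ (cs (rho x) x.s) ∈ L := by
      intro x
      obtain ⟨i, j, h | h⟩ := cs_dec x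
      · have h1 : φ x = φ (rot i j) * φ (cs (rho x) x.s) := by
          conv_lhs => rw [h]
          rw [map_mul]
        rw [h1, Subgroup.mul_mem_cancel_left _ (hT (S.rot_mem i j))]
      · have h1 : φ x = φ (rot i j) * φ ZZ * φ (cs (rho x) x.s) := by
          conv_lhs => rw [h]
          rw [map_mul, map_mul]
        rw [h1, Subgroup.mul_mem_cancel_left _ (L.mul_mem (hT (S.rot_mem i j)) hZ)]
    have hc00 : φ (cs false false) ∈ L := by
      rw [show cs false false = 1 from rfl, map_one]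
      exact L.one_mem
    have hc10 : φ (cs true false) = φ R1 := rfl
    have hc01 : φ (cs false true) = φ WW := rfl
    have hc11 : φ (cs true true) = φ UU := rfl
    by_cases hα : φ R1 ∈ L <;> by_cases hβ : φ WW ∈ L <;> by_cases hδ : φ UU ∈ L
    · exfalso
      apply hnotall
      intro x
      rw [hform]
      generalize rho x = b
      generalize x.s = c
      cases b <;> cases c
      · exact hc00
      · rw [hc01]; exact hβ
      · rw [hc10]; exact hα
      · rw [hc11]; exact hδ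
    · exact absurd (by
        have : UU = R1 * WW := rfl
        rw [this, map_mul]
        exact L.mul_mem hα hβ) hδ
    · exact absurd (by
        have : WW = R1⁻¹ * UU := by decide
        rw [this, map_mul, map_inv]
        exact L.mul_mem (L.inv_mem hα) hδ) hβ
    · -- the first Klein case
      have hQ : ∀ x, φ x ∈ L ↔ x.s = false := by
        intro x
        rw [hform]
        generalize rho x = b
        generalize x.s = c
        cases b <;> cases c
        · simpa using hc00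
        · rw [hc01]; simpa using hβ
        · rw [hc10]; simpa using hα
        · rw [hc11]; simpa using hδ
      have hcap := S.cap_of_klein P₀ hP₀ hT (fun x => x.s = false) hQ (by decide) (by decide)
      exact absurd (S.normal_of_cap hT hcap) hnn
    · exact absurd (by
        have : R1 = UU * WW⁻¹ := by decide
        rw [this, map_mul, map_inv]
        exact L.mul_mem hδ (L.inv_mem hβ)) hα
    · -- the second Klein case
      have hQ : ∀ x, φ x ∈ L ↔ rho x = false := by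
        intro x
        rw [hform]
        generalize rho x = b
        generalize x.s = c
        cases b <;> cases c
        · simpa using hc00
        · rw [hc01]; simpa using hβ
        · rw [hc10]; simpa using hα
        · rw [hc11]; simpa using hδ
      have hcap := S.cap_of_klein P₀ hP₀ hT (fun x => rho x = false) hQ (by decide) (by decide)
      exact absurd (S.normal_of_cap hT hcap) hnn
    · -- the cyclic case
      have hQ : ∀ x, φ x ∈ L ↔ pZ4 x := by
        intro x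
        rw [hform]
        show _ ↔ rho x = x.s
        generalize rho x = b
        generalize x.s = c
        cases b <;> cases c
        · simpa using hc00
        · rw [hc01]; simpa using hβ
        · rw [hc10]; simpa using hα
        · rw [hc11]; simpa using hδ
      obtain ⟨ι⟩ := S.iso_of_z4 P₀ hP₀ hT hQ hnn
      exact S.iso_perm_of_z4 P₀ hP₀ hT hQ hfr ι
    · -- everything in `M ∪ Mz`
      have hQ : ∀ x, φ x ∈ L → pMZ x := by
        intro x hx
        rw [hform] at hx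
        show rho x = false ∧ x.s = false
        revert hx
        generalize rho x = b
        generalize x.s = c
        cases b <;> cases c
        · simp
        · intro hx
          rw [hc01] at hx
          exact absurd hx hβ
        · intro hx
          rw [hc10] at hx
          exact absurd hx hα
        · intro hx
          rw [hc11] at hx
          exact absurd hx hδ
      exact absurd (S.normal_of_cap hT (S.cap_of_mz P₀ hP₀ hT (fun l hl => hL.conj_mem l hl _) hQ)) hnn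
  · have hQ : ∀ x, φ x ∈ L → pMZ x := by
      intro x hx
      by_contra hp
      apply hZ
      obtain ⟨i, j, h | h⟩ := comm_dec x hp
      · have h1 : φ (rot i j * ZZ) ∈ L := by
          rw [← h, map_mul]
          refine L.mul_mem hx ?_
          rw [map_mul, map_mul, map_inv, map_inv]
          exact hL.conj_mem _ (L.inv_mem hx) _
        rw [map_mul] at h1
        exact (Subgroup.mul_mem_cancel_left _ (hT (S.rot_mem i j))).1 h1
      · have h1 : φ (rot i j * ZZ) ∈ L := by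
          rw [← h, map_mul]
          refine L.mul_mem hx ?_
          rw [map_mul, map_mul, map_inv, map_inv]
          exact hL.conj_mem _ (L.inv_mem hx) _
        rw [map_mul] at h1
        exact (Subgroup.mul_mem_cancel_left _ (hT (S.rot_mem i j))).1 h1
    exact absurd (S.normal_of_cap hT (S.cap_of_mz P₀ hP₀ hT (fun l hl => hL.conj_mem l hl _) hQ)) hnn

end Cfsg.Agent.Lib.Blocks.TID8
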