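/-
Tame blocks: a dihedral block of rank three fuses all its involutions.
-/
import Mathlib
import Cfsg.Agent.Lib.Blocks.TameY5
import Cfsg.Agent.S4689

set_option autoImplicit false
set_option linter.style.haveILetI false

namespace Cfsg.Agent.Lib.Blocks.Tame

open Cfsg Cfsg.Agent.Lib.Blocks.Local Cfsg.Agent.Lib.Blocks.Central Cfsg.Agent.Lib.Blocks.Osima
open Cfsg.Agent.Lib.Blocks.Covering Cfsg.Agent.Lib.Blocks.BlockHom Cfsg.Agent.Lib.Blocks.Pairs
open Cfsg.Agent.Lib.Blocks.Twisted Cfsg.Agent.Lib.Blocks.Necklace Cfsg.Agent.Lib.Blocks.Sections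
open Cfsg.Agent.Lib.Blocks.Regular Cfsg.Agent.Lib.Blocks.BlockCount Cfsg.Agent.Lib.Blocks.Nilp
open Cfsg.Agent.Lib.Blocks.Transport Cfsg.Agent.Lib.Blocks.MajorSub
open Cfsg.Agent.Lib.Char.Ortho
open scoped ComplexConjugate

universe u

section InCol

variable {G : Type u} [Group G] [Fintype G] {M : Ideal AlgInt} [hM : M.IsPrime]

variable {z : G} [Fintype (Cen z)] {b : Set (IrrCharacter (Cen z))} {P : Subgroup (Cen z)}
  {e : Set (IrrCharacter (Subgroup.centralizer (P : Set (Cen z))))} {χ₀ : IrrCharacter (Cen z)}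
  {L : IrrCharacter (Cen z) → IrrCharacter P}

namespace Col

variable {B : Set (IrrCharacter G)} {x₀ a₀ : P} {N k : ℕ} (h : Col M B b P e χ₀ L x₀ a₀ N k)
include h

open Classical in
/-- **When the rank is large, the involutions of the defect group are conjugate to `z`.** -/
theorem conj_of_rank [Fintype P] (hS : (Finset.univ.filter (· ∈ B)).card < blockRank 2 B + (N + 1)) {D : Subgroup G}
    (hD : IsDefectGroup 2 M B D) {r : G} (hrD : r ∈ D) (hrr : r * r = 1) (hr1 : r ≠ 1) : IsConj r z := by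
  haveI : Fact (Nat.Prime 2) := ⟨Nat.prime_two⟩
  by_contra hnc
  obtain ⟨χ₁, hχ₁⟩ := isPBlock_nonempty h.hB
  obtain ⟨μ, hμ⟩ := exists_mem_inducers h.hP.hMp h.hB hD hrD hχ₁
  letI : Fintype (Cen r) := Fintype.ofFinite _
  obtain ⟨μ, hμ⟩ := exists_mem_inducers h.hP.hMp h.hB hD hrD hχ₁
  have hro : orderOf r = 2 ^ 1 := by
    rw [pow_one]
    exact orderOf_eq_prime (by rw [sq]; exact hrr) hr1
  have hBeq : B = blockOf M (χ₁ : G → ℂ) := isPBlock_eq_blockOf h.hB hχ₁
  have hN := h.N_pos'
  -- no conjugacy to the rotations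
  have hnoconj : ∀ l, 0 < l → l ≤ N → ¬ IsConj r (((x₀ ^ l : P) : Cen z) : G) := by
    intro l hl0 hlN hc
    have h2 : (((x₀ ^ l : P) : Cen z) : G) * (((x₀ ^ l : P) : Cen z) : G) = 1 := by
      obtain ⟨g, hg⟩ := isConj_iff.mp hc
      rw [← hg]
      calc g * r * g⁻¹ * (g * r * g⁻¹) = g * (r * r) * g⁻¹ := by group
        _ = 1 := by rw [hrr]; group
    have h3 : x₀ ^ l * x₀ ^ l = 1 := by
      apply Subtype.ext
      apply Subtype.ext
      simpa using h2
    have h4 : x₀ ^ (2 * l) = 1 := by rw [two_mul, pow_add, h3]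
    have h5 := orderOf_dvd_of_pow_eq_one h4
    rw [h.hall.hxo] at h5
    have h6 := Nat.le_of_dvd (by omega) h5
    have h7 : l = N := by omega
    subst h7
    rw [h.hzx] at hc
    exact hnc hc
  have hY : ∀ l, 0 < l → l ≤ N →
      ∑ χ ∈ Finset.univ.filter (· ∈ B), YC r (μ : Cen r → ℂ) χ * FF M P e χ₀ x₀ χ l = 0 :=
    fun l h0 hl => h.YC_orth_F hro (hnoconj l h0 hl) _
  let c : Option (Fin N) → IrrCharacter G → ℂ := fun o χ => match o with
    | none => YC r (μ : Cen r → ℂ) χ
    | some j => FF M P e χ₀ x₀ χ (j.val + 1)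
  have h1 := rank_add_le_of_orth (ι := Option (Fin N)) 2 B c (by
      intro o
      cases o with
      | none =>
        have h2 := YC_norm h.hP.hMp hro χ₁ hμ
        simp only [← hBeq] at h2
        exact h2
      | some j =>
        exact h.F_norm (by omega) (by have := j.2; omega)) (by
      intro o o' hoo'
      cases o with
      | none =>
        cases o' with
        | none => exact absurd rfl hoo'
        | some j =>
          show ∑ χ ∈ Finset.univ.filter (· ∈ B), YC r (μ : Cen r → ℂ) χ * conj (FF M P e χ₀ x₀ χ (j.val + 1)) = 0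
          simp only [h.F_real]
          exact hY _ (by omega) (by have := j.2; omega)
      | some i =>
        cases o' with
        | none =>
          show ∑ χ ∈ Finset.univ.filter (· ∈ B), FF M P e χ₀ x₀ χ (i.val + 1) * conj (YC r (μ : Cen r → ℂ) χ) = 0
          have h2 := congrArg (starRingEnd ℂ) (hY (i.val + 1) (by omega) (by have := i.2; omega))
          rw [map_sum, map_zero] at h2
          refine Eq.trans (Finset.sum_congr rfl fun χ _ => ?_) h2
          rw [map_mul, h.F_real, mul_comm]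
        | some j =>
          exact h.F_orth_col (by omega) (by have := j.2; omega) (by omega) (by have := i.2; omega)
            (fun he => hoo' (by
              have : i = j := Fin.ext (by omega)
              rw [this])))
    (by
      intro o s hs
      cases o with
      | none =>
        show ∑ χ ∈ Finset.univ.filter (· ∈ B), YC r (μ : Cen r → ℂ) χ * (χ : G → ℂ) s = 0
        refine YC_sum_mul _ _ _ fun c hc => ?_
        have hp1 := isPPart_section hro c hc
        have hp2 : IsPPart 2 s⁻¹ 1 := ⟨s⁻¹, one_mul s⁻¹, Commute.one_left s⁻¹, ⟨0, by simp⟩, by rwa [orderOf_inv]⟩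
        have hnc' : ¬ IsConj r (1 : G) := fun h => hr1 (isConj_one_left.mp h)
        have h2 := block_orthogonality h.hP.hMp hp1 hp2 hnc' h.hB
        rw [Osima.finsum_mem_eq_sum_filter] at h2
        simpa using h2
      | some j =>
        show ∑ χ ∈ Finset.univ.filter (· ∈ B), FF M P e χ₀ x₀ χ (j.val + 1) * (χ : G → ℂ) s = 0
        have hp : IsPPart 2 s 1 := ⟨s, one_mul s, Commute.one_left s, ⟨0, by simp⟩, hs⟩
        have hnc' : ¬ IsConj (1 : G) (((x₀ ^ (j.val + 1) : P) : Cen z) : G) := by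
          intro hc
          have h2 := isConj_one_right.mp hc
          have h3 := h.hzero (l := j.val + 1) (by omega) (by have := j.2; omega)
          rw [h2] at h3
          exact h.hz1 (by simpa using h3)
        have h2 := h.F_orth hp hnc'
        rw [← h2]
        refine Finset.sum_congr rfl fun χ _ => ?_
        ring)
  simp only [Fintype.card_option, Fintype.card_fin] at h1
  omega

end Col

end InCol

section Package

variable {G : Type u} [Group G] [Fintype G] {M : Ideal AlgInt}

open Classical in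
/-- **The count, and the fusion, for a dihedral defect group in terms of the data.** -/
theorem dih_rank_facts (hMp : IsPModular 2 M) {B : Set (IrrCharacter G)} (hB : IsPBlock M B) {D : Subgroup G}
    (hD : IsDefectGroup 2 M B D) {x a : G} {n : ℕ} (hn : 3 ≤ n) (hd : DihD D x a (2 ^ (n - 2)))
    (hcardD : Nat.card D = 4 * 2 ^ (n - 2)) :
    blockRank 2 B ≤ 3 ∧ (blockRank 2 B = 3 → ∀ r ∈ D, r * r = 1 → r ≠ 1 → IsConj r (DihD.zz x (2 ^ (n - 2)))) := by
  haveI : Fact (Nat.Prime 2) := ⟨Nat.prime_two⟩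
  haveI : M.IsPrime := hMp.2.1.isPrime
  letI : Fintype (Cen (DihD.zz x (2 ^ (n - 2)))) := Fintype.ofFinite _
  obtain ⟨b, e, χ₀, L, hind, hP⟩ := exists_package hMp hB hD hd
  have hle := hd.D_le_cen
  have hd1 := hd.subgroupOf hle
  have hd2 := hd1.subgroupOf (le_refl _)
  rw [Subgroup.subgroupOf_self] at hd2
  letI : Fintype (D.subgroupOf (Cen (DihD.zz x (2 ^ (n - 2))))) := Fintype.ofFinite _
  have hcardP : Nat.card (D.subgroupOf (Cen (DihD.zz x (2 ^ (n - 2))))) = 4 * 2 ^ (n - 2) := by
    rw [← hcardD]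
    exact Nat.card_congr (Subgroup.subgroupOfEquivOfLe hle).toEquiv
  have hn1 : (2 : ℕ) ^ (n - 1) = 2 * 2 ^ (n - 2) := by
    rw [← pow_succ']
    congr 1
    omega
  have h : Col M B b (D.subgroupOf (Cen (DihD.zz x (2 ^ (n - 2))))) e χ₀ L
      _ _ (2 ^ (n - 2)) (n - 1) :=
    { hB := hB, hind := hind, hP := hP, hall := hd2, hzx := rfl, hcard := hcardP, hk := by omega, hNk := hn1 }
  have hdef : IsDefectGroup 2 M b (D.subgroupOf (Cen (DihD.zz x (2 ^ (n - 2))))) :=
    isDefectGroup_of_maximal hP.hMp hP.hmax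
  have hc1 := Cfsg.Agent.S0908.result 2 M hP.hMp b hP.hmax.1.2.1 _ hdef
  have hc2 := Cfsg.Agent.S0908.result 2 M hMp B hB D hD
  have hdd : blockDefect 2 b = blockDefect 2 B := by
    apply Nat.pow_right_injective (le_refl 2)
    show 2 ^ _ = 2 ^ _
    rw [← hc1, ← hc2, hcardP, hcardD]
  have hPD : ∀ v : (D.subgroupOf (Cen (DihD.zz x (2 ^ (n - 2))))),
      (((v : Cen (DihD.zz x (2 ^ (n - 2)))) : G)) ∈ D :=
    fun v => Subgroup.mem_subgroupOf.mp v.2
  have hN : 0 < 2 ^ (n - 2) := by positivity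
  have hNpow : 2 ^ (n - 2) = 2 ∨ 2 ^ (n - 2) = 4 ∨ 8 ≤ 2 ^ (n - 2) := by
    rcases (by omega : n = 3 ∨ n = 4 ∨ 5 ≤ n) with rfl | rfl | h5
    · left
      norm_num
    · right
      left
      norm_num
    · right
      right
      calc 8 = 2 ^ 3 := by norm_num
        _ ≤ 2 ^ (n - 2) := Nat.pow_le_pow_right (by norm_num) (by omega)
  obtain ⟨h1, h2, h3⟩ := h.main_count hdd (m := 2 ^ (n - 2) - 1) (by omega) hNpow
    (fun w hw hN4 hAlt => h.no_alt hdd hD hPD hw hN4 hAlt)
  have hr := h.rank_add_le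
  refine ⟨by omega, fun h3' r hrD hrr hr1 => ?_⟩
  exact h.conj_of_rank (by omega) hD hrD hrr hr1

end Package

end Cfsg.Agent.Lib.Blocks.Tame
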