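/-
Tame blocks: blocks of rank three and central involutions.
-/
import Mathlib
import Cfsg.Agent.Lib.Blocks.TameQ1
import Cfsg.Agent.Lib.Blocks.TameQ2
import Cfsg.Agent.Lib.Blocks.TameQ3

set_option autoImplicit false
set_option linter.style.haveILetI false

namespace Cfsg.Agent.Lib.Blocks.Tame

open Cfsg Cfsg.Agent.Lib.Blocks.CentralQuot

universe u

section Center

variable {G : Type u} [Group G] [Fintype G] {M : Ideal AlgInt}

/-- Central `p`-elements lie in defect groups. -/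
lemma central_mem_defect {p : ℕ} [Fact p.Prime] {B : Set (IrrCharacter G)} {D : Subgroup G}
    (hD : IsDefectGroup p M B D) {t : G} (ht : ∀ g : G, g * t = t * g) {k : ℕ} (htk : t ^ p ^ k = 1) : t ∈ D := by
  obtain ⟨g, -, P, rfl⟩ := hD
  have htC : t ∈ Subgroup.centralizer ({g} : Set G) := Subgroup.mem_centralizer_singleton_iff.mpr (ht g).symm
  let t' : Subgroup.centralizer ({g} : Set G) := ⟨t, htC⟩
  haveI hnorm : (Subgroup.zpowers t').Normal := by
    constructor
    rintro _ ⟨s, rfl⟩ c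
    have h1 : c * t' = t' * c := Subtype.ext (ht c)
    have h2 : c * t' ^ s = t' ^ s * c := ((Commute.zpow_right (show Commute c t' from h1) s))
    show c * t' ^ s * c⁻¹ ∈ _
    rw [h2]
    simp
  have hp : IsPGroup p (Subgroup.zpowers t') := by
    rintro ⟨_, s, rfl⟩
    refine ⟨k, Subtype.ext (Subtype.ext ?_)⟩
    show (t ^ s) ^ p ^ k = 1
    rw [← zpow_natCast, ← zpow_mul, mul_comm, zpow_mul, zpow_natCast, htk, one_zpow]
  have h1 := hp.le_sylow_of_normal P
  exact ⟨t', h1 (Subgroup.mem_zpowers t'), rfl⟩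

/-- **A central involution in a dihedral defect group: the block is nilpotent.** -/
theorem dih_center_rank (hMp : IsPModular 2 M) {B : Set (IrrCharacter G)} (hB : IsPBlock M B) {D : Subgroup G}
    (hD : IsDefectGroup 2 M B D) {x a : G} {N : ℕ} (hd : DihD D x a N) {t : G} (ht : ∀ g : G, g * t = t * g)
    (htt : t * t = 1) (ht1 : t ≠ 1) : blockRank 2 B = 1 := by
  haveI : Fact (Nat.Prime 2) := ⟨Nat.prime_two⟩
  haveI : M.IsPrime := hMp.2.1.isPrime
  have htD : t ∈ D := central_mem_defect (p := 2) hD ht (k := 1) (by rw [pow_one, sq]; exact htt)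
  have hz : t = DihD.zz x N := by
    rcases hd.hcov t htD with ⟨s, rfl⟩ | ⟨s, rfl⟩
    · exact hd.eq_zz_of_sq htt ht1
    · exfalso
      have h1 := ht x
      have h2 : a * x ^ s * x = a * x * x ^ s := by
        rw [mul_assoc, mul_assoc, ← pow_succ, ← pow_succ']
      rw [← mul_assoc x, h2] at h1
      have h3 : x * a = a * x := mul_right_cancel h1
      have h4 := hd.hax
      rw [← h3, mul_inv_cancel_right] at h4
      have h5 : x ^ 2 = 1 := by
        rw [sq]
        nth_rewrite 1 [h4]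
        simp
      have h6 := orderOf_dvd_of_pow_eq_one h5
      rw [hd.hxo] at h6
      have h7 := Nat.le_of_dvd (by norm_num) h6
      have h8 := hd.two_le
      omega
  have hnil := isNilpotent_of_dih hMp hB hD hd (fun k => by rw [← hz]; exact ht k)
  exact (Cfsg.Agent.S4689.result 2 M hMp B hnil).1

/-- **A central involution in a semidihedral defect group: the rank is not three.** -/
theorem sd_center_false (hMp : IsPModular 2 M) {B : Set (IrrCharacter G)} (hB : IsPBlock M B) {D : Subgroup G}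
    (hD : IsDefectGroup 2 M B D) {x y : D} {n : ℕ} (h : SDD x y n) {t : G} (ht : ∀ g : G, g * t = t * g)
    (htt : t * t = 1) (ht1 : t ≠ 1) (hr : blockRank 2 B = 3) : False := by
  classical
  haveI : Fact (Nat.Prime 2) := ⟨Nat.prime_two⟩
  haveI : M.IsPrime := hMp.2.1.isPrime
  have hn := h.hn
  have htD : t ∈ D := central_mem_defect (p := 2) hD ht (k := 1) (by rw [pow_one, sq]; exact htt)
  -- the element `t` is the involution of `D`
  have htx : t = (x : G) ^ (2 ^ (n - 1)) := by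
    have h1 := h.eq_center (t := ⟨t, htD⟩) (fun g => Subtype.ext (ht g)) (Subtype.ext htt)
      (fun h2 => ht1 (congrArg Subtype.val h2))
    simpa using congrArg Subtype.val h1
  set Z : Subgroup G := Subgroup.zpowers t with hZdef
  have hZc : ∀ z ∈ Z, ∀ g : G, g * z = z * g := by
    rintro _ ⟨s, rfl⟩ g
    exact (Commute.zpow_right (show Commute g t from ht g) s)
  haveI hZn : Z.Normal := ⟨fun z hz g => by
    have := hZc z hz g
    rw [this]
    simpa using hz⟩
  letI : Fintype Z := Fintype.ofFinite _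
  letI : Fintype (G ⧸ Z) := Fintype.ofFinite _
  have hZsq : ∀ z ∈ Z, z * z = 1 := by
    rintro _ ⟨s, rfl⟩
    have hc : Commute t t := Commute.refl t
    show t ^ s * t ^ s = 1
    rw [← hc.mul_zpow, htt, one_zpow]
  have hZp : IsPGroup 2 Z := by
    rintro ⟨z, hz⟩
    refine ⟨1, Subtype.ext ?_⟩
    show z ^ 2 ^ 1 = 1
    rw [pow_one, sq]
    exact hZsq z hz
  have hZcard : Nat.card Z = 2 := by
    rw [hZdef, Nat.card_zpowers]
    exact orderOf_eq_prime (by rw [sq]; exact htt) ht1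
  have hZD : Z ≤ D := by
    rw [hZdef, Subgroup.zpowers_le]
    exact htD
  have hqb := isPBlock_quotBlock hMp Z hZc hZp hB
  have hqD := isDefectGroup_quotBlock Z hMp hZc hZp hB hD
  have hle := blockRank_le_quot hMp Z hZc hZp hB
  -- the images
  set xb : G ⧸ Z := ((x : G) : G ⧸ Z) with hxb
  set yb : G ⧸ Z := ((y : G) : G ⧸ Z) with hyb
  have hx2 : xb ^ (2 ^ (n - 1)) = 1 := by
    rw [hxb, ← QuotientGroup.mk_pow, ← htx]
    exact (QuotientGroup.eq_one_iff t).mpr (Subgroup.mem_zpowers t)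
  have hw : ∀ w : G, (w : G ⧸ Z) = 1 → w * w = 1 := fun w hw => hZsq w ((QuotientGroup.eq_one_iff w).mp hw)
  have hx0 : (x : G) ^ (2 ^ (n - 1)) ≠ 1 := by
    rw [← htx]
    exact ht1
  have hpow2 : (2 : ℕ) ^ (n - 1) = 2 ^ (n - 2) + 2 ^ (n - 2) := by
    rw [h.two_pow']
    ring
  have hx1 : xb ^ (2 ^ (n - 2)) ≠ 1 := by
    intro h0
    rw [hxb, ← QuotientGroup.mk_pow] at h0
    have h1 := hw _ h0
    apply hx0
    rw [hpow2, pow_add]
    exact h1
  have hcovD : ∀ d : D, (∃ s : ℕ, d = x ^ s) ∨ ∃ s : ℕ, d = y * x ^ s := by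
    intro d
    by_cases hd : d ∈ Subgroup.zpowers x
    · left
      obtain ⟨s, hs⟩ := (mem_powers_iff_mem_zpowers).mpr hd
      exact ⟨s, hs.symm⟩
    · right
      exact h.cover d hd
  have hdih : DihD (D.map (QuotientGroup.mk' Z)) xb yb (2 ^ (n - 2)) := by
    refine ⟨⟨n - 3, ?_⟩, ?_, ⟨x, x.2, rfl⟩, ⟨y, y.2, rfl⟩, ?_, ?_, ?_, ?_⟩
    · congr 1
      omega
    · have h1 := orderOf_eq_prime_pow (p := 2) (n := n - 2) hx1 (by
        have : n - 2 + 1 = n - 1 := by omega
        rw [this]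
        exact hx2)
      rw [h1, pow_succ']
    · have h1 : (y : G) * y = 1 := congrArg Subtype.val h.yy
      show ((y : G) : G ⧸ Z) * ((y : G) : G ⧸ Z) = 1
      rw [← QuotientGroup.mk_mul, h1]
      rfl
    · have h1 : (y : G) * x * (y : G)⁻¹ = (x : G) ^ (2 ^ (n - 1) - 1) := by
        simpa using congrArg Subtype.val h.hyx
      have h2 : yb * xb * yb⁻¹ = xb ^ (2 ^ (n - 1) - 1) := by
        rw [hyb, hxb, ← QuotientGroup.mk_inv, ← QuotientGroup.mk_mul, ← QuotientGroup.mk_mul, h1, QuotientGroup.mk_pow]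
      rw [h2, eq_inv_iff_mul_eq_one, ← pow_succ]
      have h3 : 2 ^ (n - 1) - 1 + 1 = 2 ^ (n - 1) := by
        have : 1 ≤ 2 ^ (n - 1) := Nat.one_le_two_pow
        omega
      rw [h3, hx2]
    · rintro _ ⟨d, hd, rfl⟩
      rcases hcovD ⟨d, hd⟩ with ⟨s, hs⟩ | ⟨s, hs⟩
      · left
        refine ⟨s, ?_⟩
        have h1 : d = (x : G) ^ s := by simpa using congrArg Subtype.val hs
        rw [h1]
        rfl
      · right
        refine ⟨s, ?_⟩
        have h1 : d = (y : G) * (x : G) ^ s := by simpa using congrArg Subtype.val hs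
        rw [h1]
        rfl
    · intro s hs
      have h1 : ((y : G) : G ⧸ Z) = (((x : G) ^ s : G) : G ⧸ Z) := hs
      have h2 : ((y : G))⁻¹ * (x : G) ^ s ∈ Z := QuotientGroup.eq.mp h1
      obtain ⟨m, hm⟩ := h2
      apply h.y_notMem
      have h3 : (t : G) ^ m = ((x ^ (2 ^ (n - 1))) ^ m : D) := by
        rw [htx]
        simp
      have h4 : (y : G) = (x : G) ^ s * ((t : G) ^ m)⁻¹ := by
        have h5 : t ^ m = (y : G)⁻¹ * (x : G) ^ s := hm
        rw [h5]
        group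
      have h6 : y = x ^ s * ((x ^ (2 ^ (n - 1))) ^ m)⁻¹ := by
        apply Subtype.ext
        rw [h4, h3]
        simp
      rw [h6]
      refine Subgroup.mul_mem _ (Subgroup.pow_mem _ (Subgroup.mem_zpowers x) _) (Subgroup.inv_mem _ ?_)
      exact Subgroup.zpow_mem _ (Subgroup.pow_mem _ (Subgroup.mem_zpowers x) _) _
  have hcard : Nat.card (D.map (QuotientGroup.mk' Z)) = 4 * 2 ^ (n - 2) := by
    rw [Cfsg.Agent.Lib.Solvable.PSeries.card_map_mk']
    have h1 := Cfsg.Agent.Lib.Blocks.Fong.relIndex_mul_card_of_le' hZD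
    rw [hZcard, h.hcard] at h1
    have h2 : (2 : ℕ) ^ (n + 1) = (4 * 2 ^ (n - 2)) * 2 := by
      have : n + 1 = (n - 2) + 3 := by omega
      rw [this, pow_add]
      ring
    rw [h2] at h1
    exact Nat.eq_of_mul_eq_mul_right (by norm_num) h1
  obtain ⟨h3, hf⟩ := dih_rank_facts hMp hqb hqD hn hdih hcard
  have hr3 : blockRank 2 (quotBlock Z B) = 3 := by omega
  have hy1 : yb ≠ 1 := by
    have := hdih.hnot 0
    simpa using this
  have hfus := hf hr3 yb ⟨y, y.2, rfl⟩ hdih.haa hy1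
  obtain ⟨cb, hc⟩ := isConj_iff.mp hfus
  obtain ⟨c, rfl⟩ := QuotientGroup.mk_surjective cb
  -- the lift
  have h1 : ((c * y * c⁻¹ : G) : G ⧸ Z) = (((x : G) ^ (2 ^ (n - 2)) : G) : G ⧸ Z) := by
    rw [QuotientGroup.mk_mul, QuotientGroup.mk_mul, QuotientGroup.mk_inv, QuotientGroup.mk_pow]
    exact hc
  have h2 : (c * y * c⁻¹)⁻¹ * (x : G) ^ (2 ^ (n - 2)) ∈ Z := QuotientGroup.eq.mp h1
  set ζ := (c * y * c⁻¹)⁻¹ * (x : G) ^ (2 ^ (n - 2)) with hζ
  have h4 : (x : G) ^ (2 ^ (n - 2)) = (c * y * c⁻¹) * ζ := by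
    rw [hζ]
    group
  have h5 : (c * y * c⁻¹) * (c * y * c⁻¹) = 1 := by
    have h6 : (y : G) * y = 1 := congrArg Subtype.val h.yy
    calc (c * y * c⁻¹) * (c * y * c⁻¹) = c * ((y : G) * y) * c⁻¹ := by group
      _ = 1 := by rw [h6]; group
  apply hx0
  rw [hpow2, pow_add, h4]
  have h7 := hZsq ζ h2
  have h8 := hZc ζ h2 (c * y * c⁻¹)
  calc (c * y * c⁻¹) * ζ * ((c * y * c⁻¹) * ζ) = (c * y * c⁻¹) * (ζ * (c * y * c⁻¹)) * ζ := by group
    _ = (c * y * c⁻¹) * ((c * y * c⁻¹) * ζ) * ζ := by rw [h8]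
    _ = ((c * y * c⁻¹) * (c * y * c⁻¹)) * (ζ * ζ) := by group
    _ = 1 := by rw [h5, h7, one_mul]

end Center

end Cfsg.Agent.Lib.Blocks.Tame
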