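import Cfsg.Agent.Lib.Blocks.PrimeDegs
import Cfsg.Prelude.Def_DegreeGraph

/-! Nonsolvable groups: at least three primes divide character degrees (Burnside's argument). -/

set_option autoImplicit false

namespace Cfsg.Agent.Lib.Blocks.TwoPrimes

open Cfsg Module
open Cfsg.Agent.Lib.Char.Basic Cfsg.Agent.Lib.Char.Values
open Cfsg.Agent.Lib.Blocks.PrimeDegs

universe u

section Simple

variable {S : Type u} [Group S] [Finite S] [IsSimpleGroup S]

lemma ne_one_of_ne (hna : ∃ a b : S, a * b ≠ b * a) (ρ : Representation ℂ S (Fin 1 → ℂ))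
    [ρ.IsIrreducible] (hne : ρ.character ≠ fun _ => 1) : False := by
  have hinj := faithful_of_ne ρ hne
  obtain ⟨a, b, hab⟩ := hna
  apply hab
  apply hinj
  rw [map_mul, map_mul]
  have key : ∀ (T : (Fin 1 → ℂ) →ₗ[ℂ] (Fin 1 → ℂ)) (v : Fin 1 → ℂ),
      T v = (T (fun _ => 1) 0) • v := by
    intro T v
    have hv : v = (v 0) • (fun _ => (1:ℂ)) := by
      funext i
      fin_cases i
      simp
    conv_lhs => rw [hv, map_smul]
    funext i
    fin_cases i
    simp
    ring
  refine LinearMap.ext fun v => ?_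
  rw [Module.End.mul_apply, Module.End.mul_apply, key (ρ a) (ρ b v), key (ρ b) (ρ a v),
    key (ρ b) v, key (ρ a) v, smul_comm]

/-- Central elements from scalar characters in a simple group: the vanishing criterion. -/
lemma character_eq_zero {n : ℕ} (hna : ∃ a b : S, a * b ≠ b * a)
    (ρ : Representation ℂ S (Fin n → ℂ)) [ρ.IsIrreducible] (hne : ρ.character ≠ fun _ => 1)
    {z : S} (hz : z ≠ 1) (hcop : Nat.Coprime n (Subgroup.centralizer ({z} : Set S)).index) :
    ρ.character z = 0 := by
  by_contra hval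
  have hcop' : Nat.Coprime (finrank ℂ (Fin n → ℂ)) (Subgroup.centralizer ({z} : Set S)).index := by
    rw [Module.finrank_fin_fun]
    exact hcop
  have hnorm := (Cfsg.Agent.Lib.Char.Burnside.character_eq_zero_or_norm_eq_of_coprime ρ z hcop').resolve_left hval
  obtain ⟨ω, hω⟩ := (Cfsg.Agent.S0138.result ρ z).1 hnorm
  have hinjs := faithful_of_ne ρ hne
  have hzc : z ∈ Subgroup.center S := by
    rw [Subgroup.mem_center_iff]
    intro y
    apply hinjs
    rw [map_mul, map_mul, hω]
    ext v
    simp
  rw [center_eq_bot hna, Subgroup.mem_bot] at hzc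
  exact hz hzc

theorem simple_false (hna : ∃ a b : S, a * b ≠ b * a) {p₀ t : ℕ} (hp₀ : p₀.Prime) (ht : t.Prime)
    (hp₀d : p₀ ∣ Nat.card S) (hD : ∀ r ∈ degreePrimes S, r = p₀ ∨ r = t) : False := by
  classical
  haveI : Fact p₀.Prime := ⟨hp₀⟩
  let P : Sylow p₀ S := default
  have hPne : (P : Subgroup S) ≠ ⊥ := P.ne_bot_of_dvd_card hp₀d
  haveI : Nontrivial (P : Subgroup S) := (Subgroup.nontrivial_iff_ne_bot _).mpr hPne
  have hPp : IsPGroup p₀ (P : Subgroup S) := P.isPGroup'
  haveI := hPp.center_nontrivial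
  obtain ⟨z', hz'⟩ := exists_ne (1 : Subgroup.center (P : Subgroup S))
  set z : S := ((z' : (P : Subgroup S)) : S) with hz
  have hz1 : z ≠ 1 := by
    intro h0
    apply hz'
    exact Subtype.ext (Subtype.ext h0)
  obtain ⟨n, ρ, hirr, hne, hnd, hval⟩ :=
    Cfsg.Agent.Lib.Char.Burnside2.exists_irr_not_dvd_ne_zero t ht z hz1
  haveI := hirr
  have hmemD : ∀ r : ℕ, r.Prime → r ∣ n → r = p₀ := by
    intro r hr hrn
    have hχ : IsIrrCharacter S ρ.character := ⟨n, ρ, hirr, rfl⟩
    have hdeg : charDegree ρ.character = n := by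
      apply IsCharacter.charDegree_eq (isCharacter_of_isIrrCharacter hχ)
      simp
    have hmem : r ∈ degreePrimes S := ⟨hr, n, ⟨⟨_, hχ⟩, hdeg⟩, hrn⟩
    rcases hD r hmem with h | h
    · exact h
    · subst h
      exact absurd hrn hnd
  have hcen : (P : Subgroup S) ≤ Subgroup.centralizer ({z} : Set S) := by
    intro x hx
    rw [Subgroup.mem_centralizer_singleton_iff]
    have := Subgroup.mem_center_iff.mp z'.2 ⟨x, hx⟩
    exact congrArg Subtype.val this
  have hidx : ¬ p₀ ∣ (Subgroup.centralizer ({z} : Set S)).index := by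
    intro h
    exact P.not_dvd_index (h.trans (Subgroup.index_dvd_of_le hcen))
  have hcop : Nat.Coprime n (Subgroup.centralizer ({z} : Set S)).index := by
    apply Nat.coprime_of_dvd
    intro k hk hkn hki
    rw [hmemD k hk hkn] at hki
    exact hidx hki
  exact hval (character_eq_zero hna ρ hne hz1 hcop)

end Simple

section Red

variable (p q : ℕ)

/-- all primes dividing degrees lie in the pair `{p, q}`. -/
def InPair (G : Type*) [Group G] : Prop := ∀ r ∈ degreePrimes G, r = p ∨ r = q

variable {p q}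

lemma inPair_quot {G : Type*} [Group G] (N : Subgroup G) [N.Normal] (h : InPair p q G) :
    InPair p q (G ⧸ N) := by
  rintro r ⟨hr, d, ⟨χ, rfl⟩, hd⟩
  refine h r ⟨hr, _, ⟨⟨fun g => (χ : G ⧸ N → ℂ) (g : G ⧸ N),
    isIrrCharacter_comp_surjective χ.2 (QuotientGroup.mk' N) (QuotientGroup.mk'_surjective N)⟩, rfl⟩, ?_⟩
  simpa [charDegree] using hd

lemma inPair_normal {G : Type*} [Group G] [Finite G] (N : Subgroup G) [N.Normal] (h : InPair p q G) :
    InPair p q N := by
  classical
  cases nonempty_fintype G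
  letI : Fintype N := Fintype.ofFinite _
  rintro r ⟨hr, d, ⟨θ, rfl⟩, hd⟩
  obtain ⟨χ, hχ, hne⟩ := Cfsg.Agent.Lib.Char.ItoMichler.exists_irr_over N θ.2
  obtain ⟨e, he, -⟩ := Cfsg.Agent.Lib.Char.DegreeDvd.exists_degree_ratio N hχ θ.2 hne
  have h1 := IsCharacter.charDegree_cast (isCharacter_of_isIrrCharacter θ.2)
  have h2 : charDegree χ = e * charDegree (θ : N → ℂ) := by
    apply IsCharacter.charDegree_eq (isCharacter_of_isIrrCharacter hχ)
    rw [he]
    push_cast
    rw [h1]
  refine h r ⟨hr, _, ⟨⟨χ, hχ⟩, rfl⟩, ?_⟩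
  change r ∣ charDegree χ
  rw [h2]
  exact Dvd.dvd.mul_left hd e

theorem solvable_of_inPair : ∀ (n : ℕ) (G : Type u) [Group G] [Finite G], Nat.card G = n →
    InPair p q G → Group.IsSolvable G := by
  intro n
  induction n using Nat.strong_induction_on with
  | _ n ih =>
    intro G _ _ hn h
    by_cases hex : ∃ N : Subgroup G, N.Normal ∧ N ≠ ⊥ ∧ N ≠ ⊤
    · obtain ⟨N, hN, hb, ht⟩ := hex
      haveI := hN
      have h1 : Nat.card N < n := by
        rw [← hn]
        exact Cfsg.Agent.Lib.Char.Monomial.card_lt_of_ne_top ht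
      have h2 : Nat.card (G ⧸ N) < n := by
        rw [← hn, ← Subgroup.index_eq_card, ← Subgroup.card_mul_index N]
        have h3 : 1 < Nat.card N := by
          rw [Subgroup.one_lt_card_iff_ne_bot]
          exact hb
        have h4 : 0 < N.index := Nat.pos_of_ne_zero Subgroup.index_ne_zero_of_finite
        nlinarith
      haveI : Group.IsSolvable N := ih _ h1 N rfl (inPair_normal N h)
      haveI : Group.IsSolvable (G ⧸ N) := ih _ h2 (G ⧸ N) rfl (inPair_quot N h)
      exact Group.isSolvable_of_ker_le_range N.subtype (QuotientGroup.mk' N) (by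
        rw [QuotientGroup.ker_mk', Subgroup.range_subtype])
    · push Not at hex
      by_cases hcomm : ∃ a b : G, a * b ≠ b * a
      · -- simple
        have hnt : Nontrivial G := by
          obtain ⟨a, b, hab⟩ := hcomm
          by_contra hcon
          rw [not_nontrivial_iff_subsingleton] at hcon
          exact hab (Subsingleton.elim _ _)
        haveI : IsSimpleGroup G :=
          { eq_bot_or_eq_top_of_normal := fun N hN => by
              by_cases hb : N = ⊥
              · exact Or.inl hb
              · exact Or.inr (hex N hN hb) }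
        exfalso
        -- a prime in the degree set
        obtain ⟨g, hg⟩ : ∃ g : G, g ≠ 1 := exists_ne 1
        obtain ⟨d, ρ, hirr, hne, -, -⟩ :=
          Cfsg.Agent.Lib.Char.Burnside2.exists_irr_not_dvd_ne_zero 2 Nat.prime_two g hg
        haveI := hirr
        have hd1 : d ≠ 1 := by
          rintro rfl
          exact ne_one_of_ne hcomm ρ hne
        obtain ⟨r, hr, hrd⟩ := Nat.exists_prime_and_dvd hd1
        have hχ : IsIrrCharacter G ρ.character := ⟨d, ρ, hirr, rfl⟩
        have hdeg : charDegree ρ.character = d := by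
          apply IsCharacter.charDegree_eq (isCharacter_of_isIrrCharacter hχ)
          simp
        have hmem : r ∈ degreePrimes G := ⟨hr, d, ⟨⟨_, hχ⟩, hdeg⟩, hrd⟩
        have hrG : r ∣ Nat.card G := by
          have := Cfsg.Agent.Lib.Char.Integrality.finrank_dvd_card ρ
          rw [Module.finrank_fin_fun] at this
          exact hrd.trans this
        -- the other prime
        by_cases hq : q.Prime ∧ p.Prime
        · rcases h r hmem with rfl | rfl
          · exact simple_false hcomm hr hq.1 hrG h
          · exact simple_false hcomm hr hq.2 hrG (fun s hs => (h s hs).symm)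
        · refine simple_false hcomm hr hr hrG (fun s hs => ?_)
          have hsp : s.Prime := hs.1
          rcases h r hmem with hrp | hrq <;> rcases h s hs with hsp' | hsq
          · left; rw [hsp', hrp]
          · -- s = q, r = p both prime
            exact absurd ⟨hsq ▸ hsp, hrp ▸ hr⟩ hq
          · exact absurd ⟨hrq ▸ hr, hsp' ▸ hsp⟩ hq
          · left; rw [hsq, hrq]
      · push Not at hcomm
        exact Group.isSolvable_of_comm hcomm

end Red

theorem main {G : Type*} [Group G] [Finite G] (hG : ¬ Group.IsSolvable G) :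
    ∃ p q r : ℕ, p ≠ q ∧ q ≠ r ∧ p ≠ r ∧ p ∈ degreePrimes G ∧ q ∈ degreePrimes G ∧
      r ∈ degreePrimes G := by
  by_contra hcon
  push Not at hcon
  apply hG
  -- at most two primes
  have hpair : ∃ p q : ℕ, InPair p q G := by
    by_cases h1 : ∃ p, p ∈ degreePrimes G
    · obtain ⟨p, hp⟩ := h1
      by_cases h2 : ∃ q, q ∈ degreePrimes G ∧ q ≠ p
      · obtain ⟨q, hq, hqp⟩ := h2
        refine ⟨p, q, fun r hr => ?_⟩
        by_contra hc
        push Not at hc
        exact hcon p q r hqp.symm (fun h => hc.2 h.symm) (fun h => hc.1 h.symm) hp hq hr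
      · push Not at h2
        exact ⟨p, p, fun r hr => Or.inl (h2 r hr)⟩
    · push Not at h1
      exact ⟨0, 0, fun r hr => absurd hr (h1 r)⟩
  obtain ⟨p, q, hpq⟩ := hpair
  exact solvable_of_inPair _ G rfl hpq

end Cfsg.Agent.Lib.Blocks.TwoPrimes
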